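import Mathlib

set_option autoImplicit false
universe u v
open CategoryTheory CategoryTheory.Limits

namespace Groth.Agent.Lib.Helper1.TorKos

variable {C : Type u} [Category.{v} C] [Preadditive C]

/-- the chain complex (indexed by `ℕ`) obtained from the nonpositive part of a cochain complex. -/
noncomputable def toChain (K : CochainComplex C ℤ) : ChainComplex C ℕ :=
  ChainComplex.of (fun n => K.X (-(n : ℤ))) (fun n => K.d (-((n + 1 : ℕ) : ℤ)) (-(n : ℤ)))
    (fun _ => K.d_comp_d _ _ _)

lemma toChain_X (K : CochainComplex C ℤ) (n : ℕ) : (toChain K).X n = K.X (-(n : ℤ)) := rfl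

lemma toChain_d (K : CochainComplex C ℤ) (n : ℕ) :
    (toChain K).d (n + 1) n = K.d (-((n + 1 : ℕ) : ℤ)) (-(n : ℤ)) :=
  ChainComplex.of_d (fun n : ℕ => K.X (-(n : ℤ)))
    (fun n : ℕ => K.d (-((n + 1 : ℕ) : ℤ)) (-(n : ℤ))) n

/-- `toChain` commutes with additive functors. -/
noncomputable def toChainMapIso {D : Type*} [Category D] [Preadditive D] (G : C ⥤ D) [G.Additive]
    (K : CochainComplex C ℤ) :
    (G.mapHomologicalComplex (ComplexShape.down ℕ)).obj (toChain K) ≅
      toChain ((G.mapHomologicalComplex (ComplexShape.up ℤ)).obj K) :=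
  HomologicalComplex.Hom.isoOfComponents (fun n => Iso.refl _) (by
    intro i j hij
    obtain rfl : i = j + 1 := hij.symm
    refine (Category.id_comp _).trans (Eq.trans ?_ (Category.comp_id _).symm)
    rw [toChain_d]
    change _ = G.map ((toChain K).d (j + 1) j)
    rw [toChain_d]
    rfl)

variable [CategoryWithHomology C]

/-- the comparison of short complexes. -/
noncomputable def scIso (K : CochainComplex C ℤ) (m : ℕ) :
    (toChain K).sc' (m + 2) (m + 1) m ≅
      K.sc' (-((m + 2 : ℕ) : ℤ)) (-((m + 1 : ℕ) : ℤ)) (-(m : ℤ)) :=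
  ShortComplex.isoMk (Iso.refl _) (Iso.refl _) (Iso.refl _)
    (by
      refine (Category.id_comp _).trans (Eq.trans ?_ (Category.comp_id _).symm)
      exact (toChain_d K (m + 1)).symm)
    (by
      refine (Category.id_comp _).trans (Eq.trans ?_ (Category.comp_id _).symm)
      exact (toChain_d K m).symm)

/-- homology in positive degrees. -/
noncomputable def toChainHomologyIso (K : CochainComplex C ℤ) (m : ℕ) :
    (toChain K).homology (m + 1) ≅ K.homology (-((m + 1 : ℕ) : ℤ)) :=
  (toChain K).homologyIsoSc' (m + 2) (m + 1) m (by simp) (by simp) ≪≫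
    ShortComplex.homologyMapIso (scIso K m) ≪≫
    (K.homologyIsoSc' (-((m + 2 : ℕ) : ℤ)) (-((m + 1 : ℕ) : ℤ)) (-(m : ℤ))
      (by simp; omega) (by simp)).symm

end Groth.Agent.Lib.Helper1.TorKos
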