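import Mathlib
import Groth.Agent.Lib.Helper1.TorKos1
import Groth.Agent.H4.KE9
import Groth.Agent.Lib.Helper2.Kos7
import Groth.Agent.Lib.Helper2.TorBalMod

set_option autoImplicit false
universe u
open CategoryTheory CategoryTheory.Limits CochainComplex MonoidalCategory

namespace Groth.Agent.Lib.Helper1.TorKos

open CohIII Groth.Agent.H2.Kos

variable {A : Type u} [CommRing A]

lemma koszul_eq (l : List A) : Koszul.koszul A l = koszulCx (ModuleCat.of A A) l := by
  induction l with
  | nil => rfl
  | cons f l ih =>
    show mappingCone (f • 𝟙 (Koszul.koszul A l)) = mappingCone (f • 𝟙 (koszulCx (ModuleCat.of A A) l))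
    rw [ih]

lemma projective_of_isZero {X : ModuleCat.{u} A} (h : IsZero X) : Projective X :=
  Projective.of_iso h.isoZero.symm inferInstance

lemma projective_koszulCx_X (l : List A) : ∀ n : ℤ, Projective ((koszulCx (ModuleCat.of A A) l).X n) := by
  induction l with
  | nil =>
    intro n
    by_cases hn : n = 0
    · subst hn
      have : Projective (ModuleCat.of A A) := by
        rw [← IsProjective.iff_projective]
        infer_instance
      exact Projective.of_iso
        (HomologicalComplex.singleObjXSelf (ComplexShape.up ℤ) 0 (ModuleCat.of A A)).symm this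
    · exact projective_of_isZero
        (HomologicalComplex.isZero_single_obj_X (ComplexShape.up ℤ) 0 _ n hn)
  | cons f l ih =>
    intro n
    have e : (mappingCone (f • 𝟙 (koszulCx (ModuleCat.of A A) l))).X n ≅ _ := HomologicalComplex.homotopyCofiber.XIsoBiprod (f • 𝟙 (koszulCx (ModuleCat.of A A) l)) n (n + 1) rfl
    haveI := ih (n + 1)
    haveI := ih n
    exact Projective.of_iso e.symm inferInstance


lemma toChain_exactAt_succ (l : List A) (hreg : RingTheory.Sequence.IsWeaklyRegular A l) (n : ℕ) :
    (toChain (koszulCx (ModuleCat.of A A) l)).ExactAt (n + 1) := by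
  rw [HomologicalComplex.exactAt_iff_isZero_homology]
  refine IsZero.of_iso ?_ (toChainHomologyIso _ n)
  exact isZero_koszulH_of_isWeaklyRegular l A hreg _ (by simp; omega)

/-- abbreviation -/
noncomputable abbrev KA (l : List A) : CochainComplex (ModuleCat.{u} A) ℤ := koszulCx (ModuleCat.of A A) l

theorem exists_projRes (l : List A) (hreg : RingTheory.Sequence.IsWeaklyRegular A l) :
    ∃ P : ProjectiveResolution (ModuleCat.of A (A ⧸ (Ideal.ofList l • (⊤ : Submodule A A)))),
      P.complex = toChain (koszulCx (ModuleCat.of A A) l) := by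
  obtain ⟨ε, hεs, hεk⟩ := exists_aug A l
  let augHom : (toChain (KA l)).X 0 ⟶ ModuleCat.of A (A ⧸ (Ideal.ofList l • (⊤ : Submodule A A))) :=
    ModuleCat.ofHom ε
  have hd0 : (toChain (KA l)).d 1 0 = (KA l).d (-1) 0 := toChain_d (KA l) 0
  have hcomp : (toChain (KA l)).d 1 0 ≫ augHom = 0 := by
    apply ModuleCat.hom_ext
    apply LinearMap.ext
    intro x
    have : ((KA l).d (-1) 0).hom x ∈ LinearMap.ker ε := by
      rw [hεk]; exact ⟨x, rfl⟩
    have h2 : ((toChain (KA l)).d 1 0).hom x = ((KA l).d (-1) 0).hom x := by rw [hd0]; rfl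
    show ε (((toChain (KA l)).d 1 0).hom x) = 0
    rw [h2]
    exact this
  let π : toChain (KA l) ⟶ (ChainComplex.single₀ (ModuleCat.{u} A)).obj
      (ModuleCat.of A (A ⧸ (Ideal.ofList l • (⊤ : Submodule A A)))) :=
    (ChainComplex.toSingle₀Equiv _ _).symm ⟨augHom, hcomp⟩
  have hπ0 : π.f 0 = augHom := by simp [π]
  have hex : (ShortComplex.mk ((toChain (KA l)).d 1 0) augHom hcomp).Exact := by
    rw [ShortComplex.ShortExact.moduleCat_exact_iff_function_exact]
    intro v
    show ε v = 0 ↔ v ∈ Set.range ((toChain (KA l)).d 1 0).hom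
    have h2 : Set.range ((toChain (KA l)).d 1 0).hom = Set.range ((KA l).d (-1) 0).hom := by rw [hd0]; rfl
    rw [h2, ← LinearMap.mem_ker, hεk]
    rfl
  haveI : Epi augHom := (ModuleCat.epi_iff_surjective _).2 hεs
  refine ⟨{
    complex := toChain (KA l)
    projective := fun n => projective_koszulCx_X l _
    π := π
    quasiIso := ⟨fun n => by
      cases n with
      | zero =>
        rw [ChainComplex.quasiIsoAt₀_iff, ShortComplex.quasiIso_iff_of_zeros']
        · refine (ShortComplex.exact_and_epi_g_iff_of_iso ?_).2
            ⟨hex, inferInstanceAs (Epi augHom)⟩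
          exact ShortComplex.isoMk (Iso.refl _) (Iso.refl _) (Iso.refl _)
            ((Category.id_comp _).trans (Category.comp_id _).symm)
            (by
              have h : ((HomologicalComplex.shortComplexFunctor' (ModuleCat.{u} A)
                  (ComplexShape.down ℕ) 1 0 0).map π).τ₂ = augHom := hπ0
              dsimp only [Iso.refl_hom]
              erw [Category.id_comp])
        · exact (toChain (KA l)).shape _ _ (by simp)
        · rfl
        · rfl
      | succ n =>
        rw [quasiIsoAt_iff_exactAt']
        · exact toChain_exactAt_succ l hreg n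
        · apply ChainComplex.exactAt_succ_single_obj⟩ }, rfl⟩

end Groth.Agent.Lib.Helper1.TorKos
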