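import Mathlib
import Groth.Prelude.Def_Flat

/-! Helper1: universal homeomorphisms = univ. injective ⊓ univ. open ⊓ surjective; fpqc descent. -/
open CategoryTheory Limits MorphismProperty AlgebraicGeometry
universe u

namespace Groth.Agent.H1

set_option backward.isDefEq.respectTransparency.types false in
theorem isUnivHomeo_eq :
    FlatMor.IsUnivHomeo.{u} = (@UniversallyInjective ⊓ @UniversallyOpen ⊓ @Surjective : MorphismProperty Scheme.{u}) := by
  ext X Y f
  constructor
  · intro h
    refine ⟨⟨⟨?_⟩, ⟨?_⟩⟩, ⟨?_⟩⟩
    · intro X' Y' i₁ i₂ f' hpb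
      exact (h i₁ i₂ f' hpb).injective
    · intro X' Y' i₁ i₂ f' hpb
      exact (h i₁ i₂ f' hpb).isOpenMap
    · exact (h _ _ _ IsPullback.of_id_snd).surjective
  · rintro ⟨⟨h1, h2⟩, h3⟩ X' Y' i₁ i₂ f' hpb
    have hs : Surjective f' := MorphismProperty.of_isPullback (P := @Surjective) hpb.flip h3
    have hi : UniversallyInjective f' := MorphismProperty.of_isPullback (P := @UniversallyInjective) hpb.flip h1
    have ho : UniversallyOpen f' := MorphismProperty.of_isPullback (P := @UniversallyOpen) hpb.flip h2
    exact ⟨f'.continuous, f'.isOpenMap, f'.injective, f'.surjective⟩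

set_option backward.isDefEq.respectTransparency.types false in
theorem descendsAlong_isUnivHomeo :
    MorphismProperty.DescendsAlong (FlatMor.IsUnivHomeo.{u})
      (@Surjective ⊓ @Flat ⊓ @QuasiCompact : MorphismProperty Scheme.{u}) := by
  rw [isUnivHomeo_eq]
  infer_instance

set_option backward.isDefEq.respectTransparency.types false in
theorem isUnivHomeo_iff_integral {X Y : Scheme.{u}} (f : X ⟶ Y) :
    FlatMor.IsUnivHomeo f ↔ IsIntegralHom f ∧ UniversallyInjective f ∧ Surjective f := by
  constructor
  · intro h
    have h' := h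
    rw [isUnivHomeo_eq] at h'
    obtain ⟨⟨h1, h2⟩, h3⟩ := h'
    refine ⟨?_, h1, h3⟩
    rw [IsIntegralHom.iff_universallyClosed_and_isAffineHom]
    constructor
    · constructor
      intro X' Y' i₁ i₂ f' hpb
      exact (h i₁ i₂ f' hpb).isClosedMap
    · have hh : IsHomeomorph f := h _ _ _ IsPullback.of_id_snd
      apply isAffineHom_of_isInducing f hh.isInducing
      rw [hh.surjective.range_eq]
      exact isClosed_univ
  · rintro ⟨h1, h2, h3⟩ X' Y' i₁ i₂ f' hpb
    have hs : Surjective f' := MorphismProperty.of_isPullback (P := @Surjective) hpb.flip h3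
    have hi : UniversallyInjective f' :=
      MorphismProperty.of_isPullback (P := @UniversallyInjective) hpb.flip h2
    have hc : UniversallyClosed f' :=
      MorphismProperty.of_isPullback (P := @UniversallyClosed) hpb.flip inferInstance
    have hbij : Function.Bijective f' := ⟨f'.injective, f'.surjective⟩
    exact isHomeomorph_iff_continuous_isClosedMap_bijective.mpr
      ⟨f'.continuous, f'.isClosedMap, hbij⟩

end Groth.Agent.H1
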