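import Mathlib

/-!
# Ring-level lemmas for base change along a surjection with nil(potent) kernel
(helper1) Used for thickenings of schemes.
-/

universe u
open TensorProduct

namespace Groth.Agent.H1

section nakayamaNilpotent

variable {R M : Type*} [CommRing R] [AddCommGroup M] [Module R M]

/-- Nakayama for nilpotent ideals, no finiteness needed. -/
lemma Submodule.le_of_le_sup_smul_of_isNilpotent {I : Ideal R} (hI : IsNilpotent I)
    {N N' : Submodule R M} (h : N ≤ N' ⊔ I • N) : N ≤ N' := by
  obtain ⟨n, hn⟩ := hI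
  have key : ∀ k : ℕ, N ≤ N' ⊔ (I ^ k) • N := by
    intro k
    induction k with
    | zero => simp
    | succ k ih =>
      calc N ≤ N' ⊔ (I ^ k) • N := ih
        _ ≤ N' ⊔ (I ^ k) • (N' ⊔ I • N) := by gcongr
        _ = N' ⊔ ((I ^ k) • N' ⊔ (I ^ k) • (I • N)) := by rw [Submodule.smul_sup]
        _ ≤ N' ⊔ (I ^ (k + 1)) • N := by
          rw [← Submodule.mul_smul, ← pow_succ]
          refine sup_le le_sup_left (sup_le ?_ le_sup_right)
          exact Submodule.smul_le_right.trans le_sup_left
  have := key n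
  rwa [hn, Ideal.zero_eq_bot, Submodule.bot_smul, sup_bot_eq] at this

lemma Submodule.eq_bot_of_le_smul_of_isNilpotent {I : Ideal R} (hI : IsNilpotent I)
    {N : Submodule R M} (h : N ≤ I • N) : N = ⊥ := by
  rw [eq_bot_iff]
  exact Submodule.le_of_le_sup_smul_of_isNilpotent hI (by simpa using h)

end nakayamaNilpotent

section tensorSurj

variable {R S M : Type*} [CommRing R] [CommRing S] [Algebra R S] [AddCommGroup M] [Module R M]

/-- If `R → S` is surjective with kernel `K` and `S ⊗[R] M = 0` then `K M = M`. -/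
lemma smul_top_eq_top_of_subsingleton_tensor (hsurj : Function.Surjective (algebraMap R S))
    [Subsingleton (S ⊗[R] M)] :
    (RingHom.ker (algebraMap R S)) • (⊤ : Submodule R M) = ⊤ := by
  set K := RingHom.ker (algebraMap R S)
  let e : (R ⧸ K) ≃ₗ[R] S :=
    (Ideal.quotientKerAlgEquivOfSurjective (f := Algebra.ofId R S) hsurj).toLinearEquiv
  let e2 : (S ⊗[R] M) ≃ₗ[R] M ⧸ (K • (⊤ : Submodule R M)) :=
    (TensorProduct.congr e.symm (LinearEquiv.refl R M)) ≪≫ₗ TensorProduct.quotTensorEquivQuotSMul M K
  have : Subsingleton (M ⧸ (K • (⊤ : Submodule R M))) := e2.symm.injective.subsingleton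
  exact Submodule.Quotient.subsingleton_iff.mp this

end tensorSurj

section pushout

variable (A' A B' B : Type*) [CommRing A'] [CommRing A] [CommRing B'] [CommRing B]
  [Algebra A' A] [Algebra A' B'] [Algebra A B] [Algebra B' B] [Algebra A' B]
  [IsScalarTower A' A B] [IsScalarTower A' B' B] [Algebra.IsPushout A' A B' B]

lemma surjective_algebraMap_of_isPushout (hsurj : Function.Surjective (algebraMap A' A)) :
    Function.Surjective (algebraMap B' B) := by
  intro x
  obtain ⟨t, rfl⟩ := (Algebra.IsPushout.equiv A' A B' B).surjective x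
  induction t using TensorProduct.induction_on with
  | zero => exact ⟨0, by simp⟩
  | tmul a b =>
    obtain ⟨a', rfl⟩ := hsurj a
    refine ⟨a' • b, ?_⟩
    rw [Algebra.IsPushout.equiv_tmul, Algebra.smul_def, map_mul,
      ← IsScalarTower.algebraMap_apply A' B' B, IsScalarTower.algebraMap_apply A' A B]
  | add x y hx hy =>
    obtain ⟨x', hx'⟩ := hx
    obtain ⟨y', hy'⟩ := hy
    exact ⟨x' + y', by rw [map_add, map_add, hx', hy']⟩

lemma ker_algebraMap_of_isPushout (hsurj : Function.Surjective (algebraMap A' A)) :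
    RingHom.ker (algebraMap B' B) = (RingHom.ker (algebraMap A' A)).map (algebraMap A' B') := by
  apply le_antisymm
  · set K := (RingHom.ker (algebraMap A' A)).map (algebraMap A' B') with hK
    let f : A →ₐ[A'] B' ⧸ K := AlgHom.liftOfSurjective (Algebra.ofId A' A) hsurj
      (Algebra.ofId A' (B' ⧸ K)) (by
        intro a ha
        rw [RingHom.mem_ker] at ha ⊢
        change algebraMap A' (B' ⧸ K) a = 0
        rw [IsScalarTower.algebraMap_apply A' B' (B' ⧸ K), Ideal.Quotient.algebraMap_eq,
          Ideal.Quotient.eq_zero_iff_mem]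
        exact Ideal.mem_map_of_mem _ ha)
    let g : B' →ₐ[A'] B' ⧸ K := IsScalarTower.toAlgHom A' B' (B' ⧸ K)
    intro b hb
    rw [RingHom.mem_ker] at hb
    have : g b = 0 := by
      rw [← Algebra.pushoutDesc_right B f g (fun _ _ => mul_comm _ _) b, hb, map_zero]
    simpa [g, Ideal.Quotient.eq_zero_iff_mem] using this
  · rw [Ideal.map_le_iff_le_comap]
    intro a ha
    rw [RingHom.mem_ker] at ha
    rw [Ideal.mem_comap, RingHom.mem_ker, ← IsScalarTower.algebraMap_apply A' B' B,
      IsScalarTower.algebraMap_apply A' A B, ha, map_zero]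

end pushout



lemma surjective_algebraMap_of_surjective_quotient_of_isNilpotent {A' B' : Type*} [CommRing A']
    [CommRing B'] [Algebra A' B'] (J : Ideal A') (hJ : IsNilpotent J)
    (h : ∀ b : B', ∃ a : A', b - algebraMap A' B' a ∈ J.map (algebraMap A' B')) :
    Function.Surjective (algebraMap A' B') := by
  have h1 : (⊤ : Submodule A' B') ≤ LinearMap.range (Algebra.linearMap A' B') ⊔ J • ⊤ := by
    intro b _
    obtain ⟨a, ha⟩ := h b
    rw [Submodule.mem_sup]
    refine ⟨algebraMap A' B' a, ⟨a, rfl⟩, b - algebraMap A' B' a, ?_, by ring⟩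
    rw [Ideal.smul_top_eq_map]
    exact ha
  have h2 := Submodule.le_of_le_sup_smul_of_isNilpotent hJ h1
  intro b
  obtain ⟨a, ha⟩ := h2 (Submodule.mem_top (x := b))
  exact ⟨a, ha⟩


/-- If `I ⊆ A'` is a nil ideal, `B'` is a finite type `A'`-algebra and `A' → B'/IB'` is
surjective then `A' → B'` is surjective. -/
lemma surjective_algebraMap_of_surjective_quotient_of_le_nilradical {A' B' : Type*} [CommRing A']
    [CommRing B'] [Algebra A' B'] [Algebra.FiniteType A' B'] (I : Ideal A')
    (hI : I ≤ nilradical A')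
    (h : ∀ b : B', ∃ a : A', b - algebraMap A' B' a ∈ I.map (algebraMap A' B')) :
    Function.Surjective (algebraMap A' B') := by
  classical
  obtain ⟨t, ht⟩ := (inferInstance : Algebra.FiniteType A' B').out
  choose a ha using h
  -- for each `b`, a finite subset of `I` witnessing membership
  have h1 : ∀ b : B', ∃ T : Finset A', (T : Set A') ⊆ I ∧
      b - algebraMap A' B' (a b) ∈ (Ideal.span (T : Set A')).map (algebraMap A' B') := by
    intro b
    have hb := ha b
    rw [Ideal.map, ← Ideal.submodule_span_eq] at hb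
    obtain ⟨T', hT', hbT'⟩ := Submodule.mem_span_finite_of_mem_span hb
    -- T' ⊆ algebraMap '' I finite
    have : ∀ x ∈ T', ∃ y ∈ I, algebraMap A' B' y = x := fun x hx => hT' hx
    choose! y hy hyx using this
    refine ⟨T'.image y, ?_, ?_⟩
    · intro z hz
      simp only [Finset.coe_image, Set.mem_image] at hz
      obtain ⟨x, hx, rfl⟩ := hz
      exact hy x hx
    · rw [Ideal.map_span]
      refine Submodule.span_mono ?_ hbT'
      intro x hx
      exact ⟨y x, by simpa using ⟨x, hx, rfl⟩, hyx x hx⟩
  choose T hTI hT using h1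
  let J : Ideal A' := Ideal.span (⋃ b ∈ t, (T b : Set A'))
  have hJfg : J.FG := by
    refine ⟨t.biUnion T, ?_⟩
    simp [J]
  have hJI : J ≤ I := by
    rw [Ideal.span_le]
    intro x hx
    simp only [Set.mem_iUnion] at hx
    obtain ⟨b, _, hxb⟩ := hx
    exact hTI b hxb
  have hJ : IsNilpotent J := (Ideal.FG.isNilpotent_iff_le_nilradical hJfg).mpr (hJI.trans hI)
  apply surjective_algebraMap_of_surjective_quotient_of_isNilpotent J hJ
  -- surjectivity of `A' → B' ⧸ J B'`
  set K := J.map (algebraMap A' B') with hK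
  let q : B' →ₐ[A'] B' ⧸ K := Ideal.Quotient.mkₐ A' K
  have hq : Function.Surjective q := Ideal.Quotient.mkₐ_surjective A' K
  have h2 : (⊤ : Subalgebra A' (B' ⧸ K)) ≤ ⊥ := by
    have : (⊤ : Subalgebra A' (B' ⧸ K)) = Algebra.adjoin A' (q '' (t : Set B')) := by
      rw [← AlgHom.map_adjoin, ht, Algebra.map_top, (AlgHom.range_eq_top q).mpr hq]
    rw [this, Algebra.adjoin_le_iff]
    rintro _ ⟨b, hb, rfl⟩
    rw [SetLike.mem_coe, Algebra.mem_bot]
    refine ⟨a b, ?_⟩
    symm
    rw [← sub_eq_zero, IsScalarTower.algebraMap_apply A' B' (B' ⧸ K)]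
    change q b - q (algebraMap A' B' (a b)) = 0
    rw [← map_sub]
    change Ideal.Quotient.mk K _ = 0
    rw [Ideal.Quotient.eq_zero_iff_mem]
    refine Ideal.map_mono ?_ (hT b)
    apply Ideal.span_mono
    intro x hx
    simp only [Set.mem_iUnion]
    exact ⟨b, hb, hx⟩
  intro b
  have : q b ∈ (⊥ : Subalgebra A' (B' ⧸ K)) := h2 trivial
  rw [Algebra.mem_bot] at this
  obtain ⟨a', ha'⟩ := this
  refine ⟨a', ?_⟩
  rw [← Ideal.Quotient.eq_zero_iff_mem, map_sub, sub_eq_zero]
  rw [IsScalarTower.algebraMap_apply A' B' (B' ⧸ K)] at ha'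
  exact ha'.symm


section pushout2

variable (A' A B' B : Type*) [CommRing A'] [CommRing A] [CommRing B'] [CommRing B]
  [Algebra A' A] [Algebra A' B'] [Algebra A B] [Algebra B' B] [Algebra A' B]
  [IsScalarTower A' A B] [IsScalarTower A' B' B] [Algebra.IsPushout A' A B' B]

/-- If `A' → A` is surjective with nilpotent kernel, and `A ⊗ B'` is of finite type over `A`,
then `B'` is of finite type over `A'`. -/
lemma finiteType_of_isPushout_of_isNilpotent (hsurj : Function.Surjective (algebraMap A' A))
    (hI : IsNilpotent (RingHom.ker (algebraMap A' A))) [Algebra.FiniteType A B] :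
    Algebra.FiniteType A' B' := by
  have hσ := surjective_algebraMap_of_isPushout A' A B' B hsurj
  have hK := ker_algebraMap_of_isPushout A' A B' B hsurj
  have : Algebra.FiniteType A' A := Algebra.FiniteType.of_surjective (Algebra.ofId A' A) hsurj
  have : Algebra.FiniteType A' B := Algebra.FiniteType.trans (S := A) inferInstance inferInstance
  obtain ⟨s, hs⟩ := (this : Algebra.FiniteType A' B).out
  -- lift generators
  choose g hg using hσ
  classical
  let s' : Finset B' := s.image g
  let C : Subalgebra A' B' := Algebra.adjoin A' (s' : Set B')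
  have hC : C.map (IsScalarTower.toAlgHom A' B' B) = ⊤ := by
    rw [eq_top_iff, ← hs, AlgHom.map_adjoin]
    apply Algebra.adjoin_mono
    intro x hx
    refine ⟨g x, ?_, hg x⟩
    simp only [s', Finset.coe_image]
    exact ⟨x, hx, rfl⟩
  have h1 : (⊤ : Submodule A' B') ≤ Subalgebra.toSubmodule C ⊔
      (RingHom.ker (algebraMap A' A)) • ⊤ := by
    intro b _
    have : algebraMap B' B b ∈ C.map (IsScalarTower.toAlgHom A' B' B) := by rw [hC]; trivial
    obtain ⟨c, hc, hcb⟩ := this
    rw [Submodule.mem_sup]
    refine ⟨c, hc, b - c, ?_, by ring⟩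
    rw [Ideal.smul_top_eq_map]
    change b - c ∈ (RingHom.ker (algebraMap A' A)).map (algebraMap A' B')
    rw [← hK, RingHom.mem_ker, map_sub, sub_eq_zero]
    exact hcb.symm
  have h2 := Submodule.le_of_le_sup_smul_of_isNilpotent hI h1
  refine ⟨⟨s', ?_⟩⟩
  rw [eq_top_iff]
  intro b _
  exact h2 (Submodule.mem_top (x := b))


lemma formallyUnramified_of_isPushout_of_isNilpotent
    (hsurj : Function.Surjective (algebraMap A' A))
    (hI : IsNilpotent (RingHom.ker (algebraMap A' A))) [Algebra.FormallyUnramified A B] :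
    Algebra.FormallyUnramified A' B' := by
  constructor
  have e := KaehlerDifferential.tensorKaehlerEquiv A' A B' B
  have : Subsingleton (B ⊗[B'] Ω[B'⁄A']) := e.injective.subsingleton
  have hσ := surjective_algebraMap_of_isPushout A' A B' B hsurj
  have h1 := smul_top_eq_top_of_subsingleton_tensor (R := B') (S := B) (M := Ω[B'⁄A']) hσ
  have hK : IsNilpotent (RingHom.ker (algebraMap B' B)) := by
    rw [ker_algebraMap_of_isPushout A' A B' B hsurj]
    obtain ⟨n, hn⟩ := hI
    exact ⟨n, by rw [← Ideal.map_pow, hn, Ideal.zero_eq_bot, Ideal.map_bot]; rfl⟩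
  have h2 := Submodule.eq_bot_of_le_smul_of_isNilpotent hK (N := (⊤ : Submodule B' Ω[B'⁄A']))
    (by rw [h1])
  exact (Submodule.subsingleton_iff B').mp (subsingleton_of_bot_eq_top h2.symm)

lemma formallyUnramified_of_isPushout_of_le_nilradical
    (hsurj : Function.Surjective (algebraMap A' A))
    (hI : RingHom.ker (algebraMap A' A) ≤ nilradical A') [Algebra.FiniteType A' B']
    [Algebra.FormallyUnramified A B] :
    Algebra.FormallyUnramified A' B' := by
  constructor
  have e := KaehlerDifferential.tensorKaehlerEquiv A' A B' B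
  have : Subsingleton (B ⊗[B'] Ω[B'⁄A']) := e.injective.subsingleton
  have hσ := surjective_algebraMap_of_isPushout A' A B' B hsurj
  have h1 := smul_top_eq_top_of_subsingleton_tensor (R := B') (S := B) (M := Ω[B'⁄A']) hσ
  have hK : RingHom.ker (algebraMap B' B) ≤ Ideal.jacobson ⊥ := by
    rw [ker_algebraMap_of_isPushout A' A B' B hsurj]
    refine le_trans ?_ (Ideal.radical_le_jacobson (I := (⊥ : Ideal B')))
    rw [Ideal.map_le_iff_le_comap]
    intro a ha
    have h3 : IsNilpotent a := mem_nilradical.mp (hI ha)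
    exact mem_nilradical.mpr (h3.map (algebraMap A' B'))
  have h2 := Submodule.eq_bot_of_le_smul_of_le_jacobson_bot _
    (⊤ : Submodule B' Ω[B'⁄A']) (Module.finite_def.mp inferInstance) (by rw [h1]) hK
  exact (Submodule.subsingleton_iff B').mp (subsingleton_of_bot_eq_top h2.symm)


lemma surjective_of_isPushout_of_le_nilradical
    (hsurj : Function.Surjective (algebraMap A' A))
    (hI : RingHom.ker (algebraMap A' A) ≤ nilradical A') [Algebra.FiniteType A' B']
    (h : Function.Surjective (algebraMap A B)) :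
    Function.Surjective (algebraMap A' B') := by
  apply surjective_algebraMap_of_surjective_quotient_of_le_nilradical _ hI
  intro b
  obtain ⟨a, ha⟩ := h (algebraMap B' B b)
  obtain ⟨a', rfl⟩ := hsurj a
  refine ⟨a', ?_⟩
  rw [← ker_algebraMap_of_isPushout A' A B' B hsurj, RingHom.mem_ker, map_sub, sub_eq_zero,
    ← ha, ← IsScalarTower.algebraMap_apply A' B' B, IsScalarTower.algebraMap_apply A' A B]

end pushout2

end Groth.Agent.H1
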