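import Mathlib
import Groth.Agent.Lib.Helper1.NilpotentBaseChange

/-!
# Flatness and nilpotent ideals (helper1)

* `lTensor_injective_of_exact_of_flat`: `Tor₁(N, C) = 0` for flat `C`, in elementary form.
* `bijective_of_lTensor_bijective_of_isNilpotent`: a map to a flat module which is bijective modulo a
  nilpotent ideal is bijective.
* `flat_of_isNilpotent_of_flat_quotient`: local criterion of flatness for a nilpotent ideal.
* `flat_of_isNilpotent_of_flat_of_flat_quotient`: fibrewise criterion (Stacks 051C).
-/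

universe u v
open TensorProduct Function

namespace Groth.Agent.H1

section flatKer

variable {A : Type*} [CommRing A] {K B C : Type*} [AddCommGroup K] [Module A K]
  [AddCommGroup B] [Module A B] [AddCommGroup C] [Module A C]

/-- (`Tor₁(N, C) = 0` for flat `C`.) If `0 → K → B → C → 0` is exact with `C` flat, then
`N ⊗ K → N ⊗ B` is injective for every module `N`. -/
theorem lTensor_injective_of_exact_of_flat (g₁ : K →ₗ[A] B) (g₂ : B →ₗ[A] C)
    (hg₁ : Injective g₁) (hex : Exact g₁ g₂) (hg₂ : Surjective g₂) [Module.Flat A C]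
    (N : Type*) [AddCommGroup N] [Module A N] : Injective (g₁.lTensor N) := by
  -- free presentation of `N`
  let π : (N →₀ A) →ₗ[A] N := Finsupp.linearCombination A id
  have hπ : Surjective π := Finsupp.linearCombination_id_surjective A N
  refine lTensor_injective_of_exact_of_exact_of_rTensor_injective
    (M₁ := LinearMap.ker π) (M₂ := N →₀ A) (M₃ := N) (N₁ := K) (N₂ := B) (N₃ := C)
    (f₁ := (LinearMap.ker π).subtype) (f₂ := π) (g₁ := g₁) (g₂ := g₂)
    (LinearMap.exact_subtype_ker_map π) hπ hex hg₂ ?_ ?_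
  · exact Module.Flat.rTensor_preserves_injective_linearMap _ Subtype.val_injective
  · exact Module.Flat.lTensor_preserves_injective_linearMap _ hg₁

end flatKer

section nilp

variable {A : Type*} [CommRing A] {I : Ideal A} {P P' : Type*} [AddCommGroup P] [Module A P]
  [AddCommGroup P'] [Module A P']

lemma eq_bot_of_subsingleton_quotient_tensor (hI : IsNilpotent I) {M : Type*} [AddCommGroup M]
    [Module A M] [Subsingleton ((A ⧸ I) ⊗[A] M)] : Subsingleton M := by
  have h1 := smul_top_eq_top_of_subsingleton_tensor (R := A) (S := A ⧸ I) (M := M)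
    Ideal.Quotient.mk_surjective
  rw [Ideal.Quotient.algebraMap_eq, Ideal.mk_ker] at h1
  have h2 := Submodule.eq_bot_of_le_smul_of_isNilpotent hI (N := (⊤ : Submodule A M)) (by rw [h1])
  exact (Submodule.subsingleton_iff A).mp (subsingleton_of_bot_eq_top h2.symm)

theorem surjective_of_lTensor_surjective_of_isNilpotent (hI : IsNilpotent I) (f : P →ₗ[A] P')
    (h : Surjective (f.lTensor (A ⧸ I))) : Surjective f := by
  let q := (LinearMap.range f).mkQ
  have hq : Surjective (q.lTensor (A ⧸ I)) := LinearMap.lTensor_surjective _ (Submodule.mkQ_surjective _)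
  have h0 : (q.lTensor (A ⧸ I)).comp (f.lTensor (A ⧸ I)) = 0 := by
    rw [← LinearMap.lTensor_comp]
    have : q.comp f = 0 := LinearMap.range_mkQ_comp f
    rw [this, LinearMap.lTensor_zero]
  have : Subsingleton ((A ⧸ I) ⊗[A] (P' ⧸ LinearMap.range f)) := by
    refine subsingleton_of_forall_eq 0 fun x => ?_
    obtain ⟨y, rfl⟩ := hq x
    obtain ⟨z, rfl⟩ := h y
    exact LinearMap.congr_fun h0 z
  have := eq_bot_of_subsingleton_quotient_tensor hI (M := P' ⧸ LinearMap.range f)
  rw [← LinearMap.range_eq_top]
  exact Submodule.Quotient.subsingleton_iff.mp this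

theorem injective_of_lTensor_injective_of_isNilpotent (hI : IsNilpotent I) (f : P →ₗ[A] P')
    (hf : Surjective f) [Module.Flat A P'] (h : Injective (f.lTensor (A ⧸ I))) : Injective f := by
  let ι := (LinearMap.ker f).subtype
  have h1 : Injective (ι.lTensor (A ⧸ I)) :=
    lTensor_injective_of_exact_of_flat ι f Subtype.val_injective
      (LinearMap.exact_subtype_ker_map f) hf _
  have h0 : (f.lTensor (A ⧸ I)).comp (ι.lTensor (A ⧸ I)) = 0 := by
    rw [← LinearMap.lTensor_comp]
    have : f.comp ι = 0 := by ext x; exact x.2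
    rw [this, LinearMap.lTensor_zero]
  have : Subsingleton ((A ⧸ I) ⊗[A] (LinearMap.ker f)) := by
    refine subsingleton_of_forall_eq 0 fun x => ?_
    apply h1
    apply h
    rw [map_zero, map_zero]
    exact LinearMap.congr_fun h0 x
  have := eq_bot_of_subsingleton_quotient_tensor hI (M := LinearMap.ker f)
  rw [← LinearMap.ker_eq_bot]
  exact (Submodule.subsingleton_iff_eq_bot).mp this

theorem bijective_of_lTensor_bijective_of_isNilpotent (hI : IsNilpotent I) (f : P →ₗ[A] P')
    [Module.Flat A P'] (h : Bijective (f.lTensor (A ⧸ I))) : Bijective f := by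
  have hs := surjective_of_lTensor_surjective_of_isNilpotent hI f h.2
  exact ⟨injective_of_lTensor_injective_of_isNilpotent hI f hs h.1, hs⟩

end nilp

namespace LocalCrit

variable {S : Type*} [CommRing S] {M : Type*} [AddCommGroup M] [Module S M]
  {F R : Type*} [AddCommGroup F] [Module S F] [Module.Flat S F] [AddCommGroup R] [Module S R]
  (ι : R →ₗ[S] F) (π : F →ₗ[S] M)

/-- (a) -/
lemma lTensor_injective_of_T (hex : Exact ι π) (hπ : Surjective π)
    {N₁ N₂ N₃ : Type*} [AddCommGroup N₁] [Module S N₁]
    [AddCommGroup N₂] [Module S N₂] [AddCommGroup N₃] [Module S N₃]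
    (g₁ : N₁ →ₗ[S] N₂) (g₂ : N₂ →ₗ[S] N₃) (hg₁ : Injective g₁) (hg : Exact g₁ g₂)
    (hg₂ : Surjective g₂) (h : Injective (ι.lTensor N₃)) : Injective (g₁.lTensor M) :=
  lTensor_injective_of_exact_of_exact_of_rTensor_injective hex hπ hg hg₂
    ((LinearMap.lTensor_inj_iff_rTensor_inj _ _).mp h)
    (Module.Flat.lTensor_preserves_injective_linearMap _ hg₁)

omit [Module.Flat S F] in
/-- (b) -/
lemma T_of_rTensor_injective (hι : Injective ι) (hex : Exact ι π) (hπ : Surjective π)
    {N₁ N₂ N₃ : Type*} [AddCommGroup N₁] [Module S N₁]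
    [AddCommGroup N₂] [Module S N₂] [AddCommGroup N₃] [Module S N₃] [Module.Flat S N₂]
    (g₁ : N₁ →ₗ[S] N₂) (g₂ : N₂ →ₗ[S] N₃) (hg : Exact g₁ g₂)
    (hg₂ : Surjective g₂) (h : Injective (g₁.rTensor M)) : Injective (ι.lTensor N₃) :=
  lTensor_injective_of_exact_of_exact_of_rTensor_injective hg hg₂ hex hπ h
    (Module.Flat.lTensor_preserves_injective_linearMap _ hι)

/-- (c) -/
lemma T_of_exact {N₁ N₂ N₃ : Type*} [AddCommGroup N₁] [Module S N₁]
    [AddCommGroup N₂] [Module S N₂] [AddCommGroup N₃] [Module S N₃]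
    (a : N₁ →ₗ[S] N₂) (b : N₂ →ₗ[S] N₃) (ha : Injective a) (hab : Exact a b)
    (hb : Surjective b) (h₁ : Injective (ι.lTensor N₁)) (h₃ : Injective (ι.lTensor N₃)) :
    Injective (ι.lTensor N₂) := by
  rw [injective_iff_map_eq_zero]
  intro x hx
  have h1 : ι.lTensor N₃ (b.rTensor _ x) = 0 := by
    rw [← LinearMap.comp_apply, LinearMap.lTensor_comp_rTensor, ← LinearMap.rTensor_comp_lTensor,
      LinearMap.comp_apply, hx, map_zero]
  have h2 : b.rTensor _ x = 0 := by
    apply h₃
    rw [h1, map_zero]
  obtain ⟨x', rfl⟩ := (rTensor_exact _ hab hb _).mp h2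
  have h3 : a.rTensor _ (ι.lTensor N₁ x') = 0 := by
    rw [← LinearMap.comp_apply, LinearMap.rTensor_comp_lTensor, ← LinearMap.lTensor_comp_rTensor,
      LinearMap.comp_apply, hx]
  have h4 : ι.lTensor N₁ x' = 0 := by
    have : Injective (a.rTensor F) :=
      Module.Flat.rTensor_preserves_injective_linearMap _ ha
    apply this
    rw [h3, map_zero]
  have h5 : x' = 0 := by
    apply h₁
    rw [h4, map_zero]
  rw [h5, map_zero]

end LocalCrit

namespace LocalCrit

variable {S : Type*} [CommRing S] {M : Type*} [AddCommGroup M] [Module S M]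
  {F R : Type*} [AddCommGroup F] [Module S F] [AddCommGroup R] [Module S R]
  (ι : R →ₗ[S] F) (π : F →ₗ[S] M)

/-- (d) -/
lemma T_of_module_quotient (hex : Exact ι π) (hπ : Surjective π)
    (Sb : Type*) [CommRing Sb] [Algebra S Sb] [Module.Flat Sb (Sb ⊗[S] M)]
    (hT : Injective (ι.lTensor Sb))
    (N : Type*) [AddCommGroup N] [Module S N] [Module Sb N] [IsScalarTower S Sb N] :
    Injective (ι.lTensor N) := by
  let ιb : Sb ⊗[S] R →ₗ[Sb] Sb ⊗[S] F := ι.baseChange Sb
  let πb : Sb ⊗[S] F →ₗ[Sb] Sb ⊗[S] M := π.baseChange Sb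
  have h1 : Injective ιb := hT
  have h2 : Exact ιb πb := lTensor_exact Sb hex hπ
  have h3 : Surjective πb := LinearMap.lTensor_surjective Sb hπ
  have h4 : Injective (ιb.lTensor N) := lTensor_injective_of_exact_of_flat ιb πb h1 h2 h3 N
  let eR := AlgebraTensorModule.cancelBaseChange S Sb Sb N R
  let eF := AlgebraTensorModule.cancelBaseChange S Sb Sb N F
  have hsq : ∀ x, eF (ιb.lTensor N x) = ι.lTensor N (eR x) := by
    intro x
    induction x using TensorProduct.induction_on with
    | zero => simp
    | add x y hx hy => simp only [map_add, hx, hy]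
    | tmul n y =>
      induction y using TensorProduct.induction_on with
      | zero => simp
      | add x y hx hy => simp only [tmul_add, map_add, hx, hy]
      | tmul s r => simp [eF, eR, ιb]
  intro x y hxy
  obtain ⟨x, rfl⟩ := eR.surjective x
  obtain ⟨y, rfl⟩ := eR.surjective y
  rw [← hsq, ← hsq] at hxy
  rw [h4 (eF.injective hxy)]

end LocalCrit

namespace LocalCrit

variable {S : Type u} [CommRing S] {M : Type v} [AddCommGroup M] [Module S M]
  {F R : Type*} [AddCommGroup F] [Module S F] [Module.Flat S F] [AddCommGroup R] [Module S R]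
  (ι : R →ₗ[S] F) (π : F →ₗ[S] M)

/-- (e) -/
lemma T_of_isNilpotent (hex : Exact ι π) (hπ : Surjective π) (J : Ideal S)
    [Module.Flat (S ⧸ J) ((S ⧸ J) ⊗[S] M)] (hT : Injective (ι.lTensor (S ⧸ J))) (k : ℕ) :
    ∀ (N : Type u) [AddCommGroup N] [Module S N], J ^ k • (⊤ : Submodule S N) = ⊥ →
      Injective (ι.lTensor N) := by
  induction k with
  | zero =>
    intro N _ _ h
    rw [pow_zero, Ideal.one_eq_top, Submodule.top_smul] at h
    have : Subsingleton N := (Submodule.subsingleton_iff S).mp (subsingleton_of_bot_eq_top h.symm)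
    intro x y _
    exact Subsingleton.elim _ _
  | succ k ih =>
    intro N _ _ h
    let N' : Submodule S N := J • ⊤
    have h' : J ^ k • (⊤ : Submodule S N') = ⊥ := by
      apply Submodule.map_injective_of_injective N'.subtype_injective
      rw [Submodule.map_smul'', Submodule.map_subtype_top, Submodule.map_bot]
      change J ^ k • (J • ⊤) = ⊥
      rw [← Submodule.mul_smul, ← pow_succ, h]
    have h₁ := ih N' h'
    have h₃ : Injective (ι.lTensor (N ⧸ N')) := by
      have : IsScalarTower S (S ⧸ J) (N ⧸ N') :=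
        (Module.isTorsionBySet_quotient_ideal_smul N J).isScalarTower
      exact T_of_module_quotient ι π hex hπ (S ⧸ J) hT (N ⧸ N')
    exact T_of_exact ι N'.subtype N'.mkQ N'.subtype_injective (LinearMap.exact_subtype_mkQ N')
      (Submodule.mkQ_surjective N') h₁ h₃

end LocalCrit

lemma flat_of_isNilpotent_of_flat_quotient_aux {S : Type u} [CommRing S] {M : Type v}
    [AddCommGroup M] [Module S M] (J : Ideal S) (hJ : IsNilpotent J)
    [Module.Flat (S ⧸ J) ((S ⧸ J) ⊗[S] M)]
    (h : Injective (J.subtype.rTensor M))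
    {F R : Type*} [AddCommGroup F] [Module S F] [Module.Flat S F] [AddCommGroup R] [Module S R]
    (ι : R →ₗ[S] F) (π : F →ₗ[S] M) (hι : Injective ι) (hex : Exact ι π) (hπ : Surjective π) :
    Module.Flat S M := by
  have hT : Injective (ι.lTensor (S ⧸ J)) :=
    LocalCrit.T_of_rTensor_injective ι π hι hex hπ J.subtype J.mkQ
      (LinearMap.exact_subtype_mkQ J) (Submodule.mkQ_surjective J) h
  obtain ⟨n, hn⟩ := hJ
  rw [Module.Flat.iff_rTensor_injective']
  intro a
  have hTa : Injective (ι.lTensor (S ⧸ a)) :=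
    LocalCrit.T_of_isNilpotent ι π hex hπ J hT n (S ⧸ a) (by rw [hn]; simp)
  rw [← LinearMap.lTensor_inj_iff_rTensor_inj]
  exact LocalCrit.lTensor_injective_of_T ι π hex hπ a.subtype a.mkQ Subtype.val_injective
    (LinearMap.exact_subtype_mkQ a) (Submodule.mkQ_surjective a) hTa

/-- Local criterion of flatness for a nilpotent ideal. -/
theorem flat_of_isNilpotent_of_flat_quotient {S : Type u} [CommRing S] {M : Type v}
    [AddCommGroup M] [Module S M] (J : Ideal S) (hJ : IsNilpotent J)
    [Module.Flat (S ⧸ J) ((S ⧸ J) ⊗[S] M)]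
    (h : Injective (J.subtype.rTensor M)) : Module.Flat S M :=
  flat_of_isNilpotent_of_flat_quotient_aux J hJ h (F := M →₀ S)
    (R := LinearMap.ker (Finsupp.linearCombination S (id : M → M)))
    (LinearMap.ker (Finsupp.linearCombination S (id : M → M))).subtype
    (Finsupp.linearCombination S id) Subtype.val_injective
    (LinearMap.exact_subtype_ker_map _) (Finsupp.linearCombination_id_surjective S M)

section fibre

variable {R : Type*} {S : Type u} {M : Type v} [CommRing R] [CommRing S] [Algebra R S] (I : Ideal R)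
  [AddCommGroup M] [Module S M] [Module R M] [IsScalarTower R S M]

/-- The map `I ⊗[R] M → IS ⊗[S] M`. -/
noncomputable def idealTensorMap : I ⊗[R] M →+ (I.map (algebraMap R S) : Ideal S) ⊗[S] M :=
  TensorProduct.liftAddHom
    { toFun := fun i =>
        { toFun := fun m => (⟨algebraMap R S i, Ideal.mem_map_of_mem _ i.2⟩ :
            (I.map (algebraMap R S) : Ideal S)) ⊗ₜ[S] m
          map_zero' := by simp
          map_add' := fun m m' => by simp [tmul_add] }
      map_zero' := by
        ext m
        simp only [ZeroMemClass.coe_zero, map_zero, AddMonoidHom.coe_mk, ZeroHom.coe_mk,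
          AddMonoidHom.zero_apply]
        rw [show (⟨0, _⟩ : (I.map (algebraMap R S) : Ideal S)) = 0 from rfl, zero_tmul]
      map_add' := fun i i' => by
        ext m
        simp only [AddMonoidHom.coe_mk, ZeroHom.coe_mk, AddMonoidHom.add_apply]
        rw [← add_tmul]
        congr 1
        ext
        simp }
    (by
      intro r i m
      simp only [AddMonoidHom.coe_mk, ZeroHom.coe_mk]
      rw [← algebraMap_smul S r m, ← smul_tmul]
      congr 1
      ext
      simp [Algebra.smul_def])

lemma idealTensorMap_tmul (i : I) (m : M) :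
    idealTensorMap (S := S) I (i ⊗ₜ m) = (⟨algebraMap R S i, Ideal.mem_map_of_mem _ i.2⟩ :
            (I.map (algebraMap R S) : Ideal S)) ⊗ₜ[S] m := rfl

lemma idealTensorMap_surjective : Surjective (idealTensorMap (S := S) (M := M) I) := by
  intro x
  induction x using TensorProduct.induction_on with
  | zero => exact ⟨0, map_zero _⟩
  | add x y hx hy =>
    obtain ⟨x', rfl⟩ := hx
    obtain ⟨y', rfl⟩ := hy
    exact ⟨x' + y', map_add _ _ _⟩
  | tmul j m =>
    obtain ⟨j, hj⟩ := j
    induction hj using Submodule.span_induction generalizing m with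
    | mem s hs =>
      obtain ⟨i, hi, rfl⟩ := hs
      exact ⟨⟨i, hi⟩ ⊗ₜ m, rfl⟩
    | zero => exact ⟨0, by rw [map_zero]; exact (zero_tmul _ _).symm⟩
    | add a b ha hb iha ihb =>
      obtain ⟨x', hx'⟩ := iha m
      obtain ⟨y', hy'⟩ := ihb m
      refine ⟨x' + y', ?_⟩
      rw [map_add, hx', hy', ← add_tmul]
      rfl
    | smul s a ha iha =>
      obtain ⟨x', hx'⟩ := iha (s • m)
      refine ⟨x', ?_⟩
      rw [hx', ← smul_tmul]
      rfl

end fibre

section fibre2

variable {R : Type*} {S : Type u} {M : Type v} [CommRing R] [CommRing S] [Algebra R S] (I : Ideal R)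
  [AddCommGroup M] [Module S M] [Module R M] [IsScalarTower R S M]

lemma lid_rTensor_idealTensorMap (y : I ⊗[R] M) :
    TensorProduct.lid S M ((I.map (algebraMap R S)).subtype.rTensor M (idealTensorMap (S := S) I y)) =
      TensorProduct.lid R M (I.subtype.rTensor M y) := by
  induction y using TensorProduct.induction_on with
  | zero => simp
  | add x y hx hy => simp only [map_add, hx, hy]
  | tmul i m =>
    rw [idealTensorMap_tmul]
    simp

/-- Fibrewise criterion of flatness, nilpotent form (Stacks 051C). -/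
theorem flat_of_isNilpotent_of_flat_of_flat_quotient (hI : IsNilpotent I) [Module.Flat R M]
    [Module.Flat (S ⧸ I.map (algebraMap R S)) ((S ⧸ I.map (algebraMap R S)) ⊗[S] M)] :
    Module.Flat S M := by
  have hJ : IsNilpotent (I.map (algebraMap R S)) := by
    obtain ⟨n, hn⟩ := hI
    exact ⟨n, by rw [← Ideal.map_pow, hn, Ideal.zero_eq_bot, Ideal.map_bot]; rfl⟩
  apply flat_of_isNilpotent_of_flat_quotient _ hJ
  rw [injective_iff_map_eq_zero]
  intro x hx
  obtain ⟨y, rfl⟩ := idealTensorMap_surjective I x
  have h1 := lid_rTensor_idealTensorMap (S := S) I y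
  rw [hx, map_zero] at h1
  have h2 : I.subtype.rTensor M y = 0 := (TensorProduct.lid R M).injective (by rw [← h1, map_zero])
  have h3 : Injective (I.subtype.rTensor M) :=
    Module.Flat.rTensor_preserves_injective_linearMap _ Subtype.val_injective
  have : y = 0 := h3 (by rw [h2, map_zero])
  rw [this, map_zero]

end fibre2

end Groth.Agent.H1
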