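import Mathlib
import Groth.Agent.Lib.Helper1.FlatNilpotent

/-!
# Applications of flatness modulo a nilpotent ideal (helper1)
-/

universe u v
open TensorProduct Function

namespace Groth.Agent.H1

theorem free_of_flat_of_isNilpotent_maximalIdeal {R M : Type u} [CommRing R] [IsLocalRing R]
    (hR : IsNilpotent (IsLocalRing.maximalIdeal R))
    [AddCommGroup M] [Module R M] [Module.Flat R M] : Module.Free R M := by
  let k := R ⧸ IsLocalRing.maximalIdeal R
  let _ : Field k := Ideal.Quotient.field _
  -- a basis of `k ⊗ M`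
  let b := Module.Free.chooseBasis k (k ⊗[R] M)
  let ι := Module.Free.ChooseBasisIndex k (k ⊗[R] M)
  have hsurj : Surjective (TensorProduct.mk R k M 1) := by
    intro x
    induction x using TensorProduct.induction_on with
    | zero => exact ⟨0, by simp⟩
    | add x y hx hy =>
      obtain ⟨x', rfl⟩ := hx
      obtain ⟨y', rfl⟩ := hy
      exact ⟨x' + y', by rw [map_add]⟩
    | tmul a m =>
      obtain ⟨a, rfl⟩ := Ideal.Quotient.mk_surjective a
      refine ⟨a • m, ?_⟩
      simp only [mk_apply, tmul_smul]
      rw [smul_tmul']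
      congr 1
      rw [Algebra.smul_def, mul_one]; rfl
  choose m hm using fun i => hsurj (b i)
  let f : (ι →₀ R) →ₗ[R] M := Finsupp.linearCombination R m
  let B : Module.Basis ι k (k ⊗[R] (ι →₀ R)) := Algebra.TensorProduct.basis k Finsupp.basisSingleOne
  have hf : f.baseChange k = (B.equiv b (Equiv.refl ι)).toLinearMap := by
    apply B.ext
    intro i
    have h1 : B i = 1 ⊗ₜ Finsupp.single i 1 := by simp [B]
    rw [LinearEquiv.coe_coe, Module.Basis.equiv_apply, h1, LinearMap.baseChange_tmul]
    simp only [f, Finsupp.linearCombination_single, one_smul, Equiv.refl_apply]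
    exact hm i
  have hbij : Bijective (f.lTensor k) := by
    have : Bijective (f.baseChange k) := by rw [hf]; exact (B.equiv b (Equiv.refl ι)).bijective
    exact this
  have := bijective_of_lTensor_bijective_of_isNilpotent hR f hbij
  exact Module.Free.of_equiv (LinearEquiv.ofBijective f this)

theorem nonempty_linearEquiv_of_tensor_quotient_equiv {A : Type u} [CommRing A] (I : Ideal A)
    (hI : IsNilpotent I)
    (P P' : Type v) [AddCommGroup P] [Module A P] [Module.Projective A P]
    [AddCommGroup P'] [Module A P'] [Module.Flat A P']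
    (e : (A ⧸ I) ⊗[A] P ≃ₗ[A ⧸ I] (A ⧸ I) ⊗[A] P') : Nonempty (P ≃ₗ[A] P') := by
  have hsurj : Surjective (TensorProduct.mk A (A ⧸ I) P' 1) := by
    intro x
    induction x using TensorProduct.induction_on with
    | zero => exact ⟨0, by simp⟩
    | add x y hx hy =>
      obtain ⟨x', rfl⟩ := hx
      obtain ⟨y', rfl⟩ := hy
      exact ⟨x' + y', by rw [map_add]⟩
    | tmul a m =>
      obtain ⟨a, rfl⟩ := Ideal.Quotient.mk_surjective a
      refine ⟨a • m, ?_⟩
      simp only [mk_apply, tmul_smul]
      rw [smul_tmul']
      congr 1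
      rw [Algebra.smul_def, mul_one]; rfl
  let φ : P →ₗ[A] (A ⧸ I) ⊗[A] P' :=
    (e.toLinearMap.restrictScalars A).comp (TensorProduct.mk A (A ⧸ I) P 1)
  obtain ⟨g, hg⟩ := Module.projective_lifting_property (TensorProduct.mk A (A ⧸ I) P' 1) φ hsurj
  have hbij : Bijective (g.lTensor (A ⧸ I)) := by
    have : ⇑(g.lTensor (A ⧸ I)) = ⇑e := by
      ext x
      induction x using TensorProduct.induction_on with
      | zero => simp
      | add x y hx hy => rw [map_add, map_add, hx, hy]
      | tmul a p =>
        obtain ⟨a, rfl⟩ := Ideal.Quotient.mk_surjective a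
        have h1 : (Ideal.Quotient.mk I a) ⊗ₜ[A] p = a • ((1 : A ⧸ I) ⊗ₜ[A] p) := by
          rw [smul_tmul']
          congr 1
          rw [Algebra.smul_def, mul_one]; rfl
        rw [h1, map_smul]
        have h2 : e (a • ((1 : A ⧸ I) ⊗ₜ[A] p)) = a • e ((1 : A ⧸ I) ⊗ₜ[A] p) := by
          rw [← algebraMap_smul (A ⧸ I) a, map_smul, algebraMap_smul]
        rw [h2]
        congr 1
        have := LinearMap.congr_fun hg p
        simpa [φ] using this
    rw [this]
    exact e.bijective
  exact ⟨LinearEquiv.ofBijective g (bijective_of_lTensor_bijective_of_isNilpotent hI g hbij)⟩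

end Groth.Agent.H1
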