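import Mathlib
import Groth.Agent.Lib.Helper1.FlatNilpotent

/-!
# Local criterion of flatness (helper1)

* `flat_of_forall_flat_quotient_pow` (Stacks 0523): `A`, `B` Noetherian, `IB ⊆ rad B`, `M` finite over `B`,
  `M/IⁿM` flat over `A/Iⁿ` for all `n ≥ 1` ⇒ `M` flat over `A`.
* `flat_of_rTensor_injective_of_flat_quotient` (Stacks 00MK): same setting, `I ⊗ M → M` injective and
  `M/IM` flat over `A/I` ⇒ `M` flat over `A`.
-/

universe u v w
open TensorProduct Function

namespace Groth.Agent.H1

theorem flat_of_subsingleton_ring {R : Type*} [CommRing R] [Subsingleton R] (M : Type*)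
    [AddCommGroup M] [Module R M] : Module.Flat R M := by
  have : Subsingleton M := Module.subsingleton R M
  infer_instance

section aux

variable {A : Type*} [CommRing A] {M : Type*} [AddCommGroup M] [Module A M]

/-- If `Sb ⊗ M` is flat over a quotient `Sb` of `A`, then `M ⊗ -` preserves injections of
`Sb`-modules. -/
theorem lTensor_injective_of_flat_baseChange (Sb : Type*) [CommRing Sb] [Algebra A Sb]
    (hs : Surjective (algebraMap A Sb)) [Module.Flat Sb (Sb ⊗[A] M)]
    {N₁ N₂ : Type*} [AddCommGroup N₁] [AddCommGroup N₂] [Module A N₁] [Module A N₂]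
    [Module Sb N₁] [Module Sb N₂] [IsScalarTower A Sb N₁] [IsScalarTower A Sb N₂]
    (φ : N₁ →ₗ[A] N₂) (hφ : Injective φ) : Injective (φ.lTensor M) := by
  rw [LinearMap.lTensor_inj_iff_rTensor_inj]
  let φ' : N₁ →ₗ[Sb] N₂ := LinearMap.extendScalarsOfSurjective hs φ
  have hφ' : Injective φ' := hφ
  have h1 : Injective (φ'.rTensor (Sb ⊗[A] M)) :=
    Module.Flat.rTensor_preserves_injective_linearMap φ' hφ'
  let e₁ := AlgebraTensorModule.cancelBaseChange A Sb Sb N₁ M
  let e₂ := AlgebraTensorModule.cancelBaseChange A Sb Sb N₂ M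
  have hsq : ∀ x, e₂ (φ'.rTensor (Sb ⊗[A] M) x) = φ.rTensor M (e₁ x) := by
    intro x
    induction x using TensorProduct.induction_on with
    | zero => simp
    | add x y hx hy => simp only [map_add, hx, hy]
    | tmul n y =>
      induction y using TensorProduct.induction_on with
      | zero => simp
      | add x y hx hy => simp only [tmul_add, map_add, hx, hy]
      | tmul s r =>
        have : φ (s • n) = s • φ n := φ'.map_smul s n
        simp [e₁, e₂, φ', this]
  intro x y hxy
  obtain ⟨x, rfl⟩ := e₁.surjective x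
  obtain ⟨y, rfl⟩ := e₁.surjective y
  rw [← hsq, ← hsq] at hxy
  rw [h1 (e₂.injective hxy)]

/-- The injection `J / (J ∩ K) → A / K`. -/
noncomputable def quotComapMap (J K : Ideal A) : (J ⧸ Submodule.comap J.subtype K) →ₗ[A] A ⧸ K :=
  Submodule.mapQ _ K J.subtype le_rfl

theorem quotComapMap_mkQ (J K : Ideal A) (j : J) :
    quotComapMap J K ((Submodule.comap J.subtype K).mkQ j) = K.mkQ (j : A) := rfl

theorem quotComapMap_injective (J K : Ideal A) : Injective (quotComapMap J K) := by
  rw [injective_iff_map_eq_zero]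
  intro x hx
  obtain ⟨j, rfl⟩ := Submodule.mkQ_surjective _ x
  rw [quotComapMap_mkQ, Submodule.mkQ_apply, Submodule.Quotient.mk_eq_zero] at hx
  rw [Submodule.mkQ_apply, Submodule.Quotient.mk_eq_zero]
  exact hx

theorem quotComapMap_comp_mkQ (J K : Ideal A) :
    (quotComapMap J K).comp (Submodule.comap J.subtype K).mkQ = K.mkQ.comp J.subtype := rfl

theorem isTorsionBySet_quot_comap (J K : Ideal A) :
    Module.IsTorsionBySet A (J ⧸ Submodule.comap J.subtype K) K := by
  rintro x ⟨k, hk⟩
  obtain ⟨j, rfl⟩ := Submodule.mkQ_surjective _ x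
  change k • (Submodule.comap J.subtype K).mkQ j = 0
  rw [← map_smul, Submodule.mkQ_apply, Submodule.Quotient.mk_eq_zero]
  change k * (j : A) ∈ K
  exact K.mul_mem_right _ hk

/-- If `A/K ⊗ M` is flat over `A/K`, then elements of `M ⊗ J` dying in `M` die in
`M ⊗ J/(J ∩ K)`. -/
theorem mkQ_lTensor_eq_zero_of_flat_quotient (J K : Ideal A)
    [Module.Flat (A ⧸ K) ((A ⧸ K) ⊗[A] M)] (x : M ⊗[A] J)
    (hx : (J.subtype.lTensor M) x = 0) :
    ((Submodule.comap J.subtype K).mkQ.lTensor M) x = 0 := by
  let _ : Module (A ⧸ K) (J ⧸ Submodule.comap J.subtype K) :=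
    (isTorsionBySet_quot_comap J K).module
  have : IsScalarTower A (A ⧸ K) (J ⧸ Submodule.comap J.subtype K) :=
    (isTorsionBySet_quot_comap J K).isScalarTower
  have hinj : Injective ((quotComapMap J K).lTensor M) :=
    lTensor_injective_of_flat_baseChange (A ⧸ K) Ideal.Quotient.mk_surjective
      (quotComapMap J K) (quotComapMap_injective J K)
  apply hinj
  rw [map_zero, ← LinearMap.comp_apply, ← LinearMap.lTensor_comp, quotComapMap_comp_mkQ,
    LinearMap.lTensor_comp, LinearMap.comp_apply, hx, map_zero]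

/-- The surjection `A / K → A / (J ⊔ K)`. -/
noncomputable def quotSupMap (J K : Ideal A) : (A ⧸ K) →ₗ[A] A ⧸ (J ⊔ K) :=
  Submodule.mapQ K (J ⊔ K) LinearMap.id (le_sup_right (a := J))

theorem quotSupMap_surjective (J K : Ideal A) : Surjective (quotSupMap J K) := by
  intro x
  obtain ⟨a, rfl⟩ := Submodule.mkQ_surjective _ x
  exact ⟨K.mkQ a, rfl⟩

theorem exact_quotComapMap_quotSupMap (J K : Ideal A) :
    Exact (quotComapMap J K) (quotSupMap J K) := by
  intro y
  obtain ⟨a, rfl⟩ := Submodule.mkQ_surjective _ y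
  constructor
  · intro h
    have h' : (J ⊔ K).mkQ a = 0 := h
    rw [Submodule.mkQ_apply, Submodule.Quotient.mk_eq_zero] at h'
    obtain ⟨j, hj, k, hk, rfl⟩ := Submodule.mem_sup.mp h'
    refine ⟨(Submodule.comap J.subtype K).mkQ ⟨j, hj⟩, ?_⟩
    rw [quotComapMap_mkQ]
    simp only [Submodule.mkQ_apply]
    rw [eq_comm, ← sub_eq_zero, ← Submodule.Quotient.mk_sub, Submodule.Quotient.mk_eq_zero]
    simpa using hk
  · rintro ⟨x, hx⟩
    obtain ⟨j, rfl⟩ := Submodule.mkQ_surjective _ x
    rw [← hx, quotComapMap_mkQ]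
    change (J ⊔ K).mkQ (j : A) = 0
    rw [Submodule.mkQ_apply, Submodule.Quotient.mk_eq_zero]
    exact Submodule.mem_sup_left j.2

end aux

section core

variable {A : Type*} [CommRing A] {B : Type*} [CommRing B] [Algebra A B]
  {M : Type*} [AddCommGroup M] [Module A M] [Module B M] [IsScalarTower A B M]

theorem finite_tensor_of_finite [Module.Finite B M] (J : Type*) [AddCommGroup J] [Module A J]
    [Module.Finite A J] : Module.Finite B (M ⊗[A] J) :=
  Module.Finite.equiv (AlgebraTensorModule.cancelBaseChange A B B M J)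

/-- Elements `m ⊗ j` with `j ∈ I^n • ⊤` lie in `(I B)^n • ⊤`. -/
theorem tmul_mem_map_pow_smul_top (I : Ideal A) (n : ℕ) (J : Ideal A) (m : M) (j : J)
    (hj : j ∈ I ^ n • (⊤ : Submodule A J)) :
    m ⊗ₜ[A] j ∈ (I.map (algebraMap A B)) ^ n • (⊤ : Submodule B (M ⊗[A] J)) := by
  refine Submodule.smul_induction_on hj ?_ ?_
  · intro a ha j' _
    have : m ⊗ₜ[A] (a • j') = (algebraMap A B a) • (m ⊗ₜ[A] j') := by
      rw [TensorProduct.tmul_smul]
      exact (algebraMap_smul B a _).symm
    rw [this, ← Ideal.map_pow]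
    exact Submodule.smul_mem_smul (Ideal.mem_map_of_mem _ ha) Submodule.mem_top
  · intro j₁ j₂ h₁ h₂
    rw [TensorProduct.tmul_add]
    exact Submodule.add_mem _ h₁ h₂

/-- Core of the local criterion of flatness (Artin–Rees + Krull intersection). -/
theorem flat_of_forall_mkQ_lTensor_eq_zero [IsNoetherianRing A] [IsNoetherianRing B]
    [Module.Finite B M] (I : Ideal A) (hI : I.map (algebraMap A B) ≤ Ideal.jacobson ⊥)
    (H : ∀ (J : Ideal A) (m : ℕ) (x : M ⊗[A] J), (J.subtype.lTensor M) x = 0 →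
      ((Submodule.comap J.subtype (I ^ m)).mkQ.lTensor M) x = 0) : Module.Flat A M := by
  rw [Module.Flat.iff_lTensor_injective']
  intro J
  rw [injective_iff_map_eq_zero]
  intro x hx
  have : Module.Finite B (M ⊗[A] J) := finite_tensor_of_finite J
  have hkrull := Ideal.iInf_pow_smul_eq_bot_of_le_jacobson (M := M ⊗[A] J) _ hI
  have hmem : x ∈ (⨅ i : ℕ, (I.map (algebraMap A B)) ^ i • ⊤ : Submodule B (M ⊗[A] J)) := by
    rw [Submodule.mem_iInf]
    intro n
    -- Artin–Rees
    obtain ⟨k, hk⟩ := Ideal.exists_pow_inf_eq_pow_smul I (M := A) J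
    have hAR : Submodule.comap J.subtype (I ^ (n + k)) ≤ I ^ n • (⊤ : Submodule A J) := by
      intro j hj
      have h1 : (j : A) ∈ I ^ (n + k) • (⊤ : Submodule A A) ⊓ J := by
        refine ⟨?_, j.2⟩
        rw [smul_eq_mul, Ideal.mul_top]
        exact hj
      rw [hk (n + k) (Nat.le_add_left _ _), Nat.add_sub_cancel] at h1
      have h2 : (j : A) ∈ I ^ n • J := Submodule.smul_mono le_rfl inf_le_right h1
      have h3 : I ^ n • J = Submodule.map J.subtype (I ^ n • (⊤ : Submodule A J)) := by
        rw [Submodule.map_smul'', Submodule.map_subtype_top]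
      rw [h3] at h2
      obtain ⟨j', hj', hjj'⟩ := h2
      have : j' = j := Subtype.ext hjj'
      rwa [← this]
    have h0 := H J (n + k) x hx
    have hex := lTensor_exact M (LinearMap.exact_subtype_mkQ (Submodule.comap J.subtype (I ^ (n + k))))
      (Submodule.mkQ_surjective _)
    obtain ⟨y, rfl⟩ := (hex x).mp h0
    clear h0 hx
    induction y using TensorProduct.induction_on with
    | zero => simp
    | add y₁ y₂ h₁ h₂ => rw [map_add]; exact Submodule.add_mem _ h₁ h₂
    | tmul m j =>
      rw [LinearMap.lTensor_tmul]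
      exact tmul_mem_map_pow_smul_top I n J m _ (hAR j.2)
  rw [hkrull] at hmem
  exact hmem

/-- Local criterion of flatness, infinitesimal form (Stacks 0523): `M/IⁿM` flat over `A/Iⁿ` for
all `n ≥ 1`, `IB ⊆ rad B`, `M` finite over the Noetherian `A`-algebra `B` ⇒ `M` flat over `A`. -/
theorem flat_of_forall_flat_quotient_pow [IsNoetherianRing A] [IsNoetherianRing B]
    [Module.Finite B M] (I : Ideal A) (hI : I.map (algebraMap A B) ≤ Ideal.jacobson ⊥)
    (h : ∀ n : ℕ, 0 < n → Module.Flat (A ⧸ I ^ n) ((A ⧸ I ^ n) ⊗[A] M)) : Module.Flat A M := by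
  refine flat_of_forall_mkQ_lTensor_eq_zero I hI fun J m x hx ↦ ?_
  rcases Nat.eq_zero_or_pos m with rfl | hm
  · have : Subsingleton (A ⧸ I ^ 0) := by
      rw [pow_zero, Ideal.one_eq_top]
      exact Ideal.Quotient.subsingleton_iff.mpr rfl
    have := flat_of_subsingleton_ring (R := A ⧸ I ^ 0) ((A ⧸ I ^ 0) ⊗[A] M)
    exact mkQ_lTensor_eq_zero_of_flat_quotient J (I ^ 0) x hx
  · have := h m hm
    exact mkQ_lTensor_eq_zero_of_flat_quotient J (I ^ m) x hx

end core

section core2

variable {A : Type u} [CommRing A] {B : Type v} [CommRing B] [Algebra A B]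
  {M : Type w} [AddCommGroup M] [Module A M] [Module B M] [IsScalarTower A B M]

theorem flat_of_rTensor_injective_of_flat_quotient_aux [IsNoetherianRing A] [IsNoetherianRing B]
    [Module.Finite B M] (I : Ideal A) (hI : I.map (algebraMap A B) ≤ Ideal.jacobson ⊥)
    (h1 : Injective (I.subtype.rTensor M)) [Module.Flat (A ⧸ I) ((A ⧸ I) ⊗[A] M)]
    {F R : Type*} [AddCommGroup F] [Module A F] [Module.Flat A F] [AddCommGroup R] [Module A R]
    (ι : R →ₗ[A] F) (π : F →ₗ[A] M) (hι : Injective ι) (hex : Exact ι π) (hπ : Surjective π) :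
    Module.Flat A M := by
  have hT : Injective (ι.lTensor (A ⧸ I)) :=
    LocalCrit.T_of_rTensor_injective ι π hι hex hπ I.subtype I.mkQ
      (LinearMap.exact_subtype_mkQ I) (Submodule.mkQ_surjective I) h1
  refine flat_of_forall_mkQ_lTensor_eq_zero I hI fun J m x hx ↦ ?_
  have hN : I ^ m • (⊤ : Submodule A (A ⧸ (J ⊔ I ^ m))) = ⊥ := by
    rw [eq_bot_iff]
    refine Submodule.smul_le.mpr fun a ha y _ ↦ ?_
    obtain ⟨b, rfl⟩ := Submodule.mkQ_surjective _ y
    rw [Submodule.mem_bot, ← map_smul, Submodule.mkQ_apply, Submodule.Quotient.mk_eq_zero]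
    exact Submodule.mem_sup_right (Ideal.mul_mem_right _ _ ha)
  have hTN : Injective (ι.lTensor (A ⧸ (J ⊔ I ^ m))) :=
    LocalCrit.T_of_isNilpotent ι π hex hπ I hT m (A ⧸ (J ⊔ I ^ m)) hN
  have hinj : Injective ((quotComapMap J (I ^ m)).lTensor M) :=
    LocalCrit.lTensor_injective_of_T ι π hex hπ (quotComapMap J (I ^ m)) (quotSupMap J (I ^ m))
      (quotComapMap_injective _ _) (exact_quotComapMap_quotSupMap _ _)
      (quotSupMap_surjective _ _) hTN
  apply hinj
  rw [map_zero, ← LinearMap.comp_apply, ← LinearMap.lTensor_comp, quotComapMap_comp_mkQ,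
    LinearMap.lTensor_comp, LinearMap.comp_apply, hx, map_zero]

/-- Local criterion of flatness, `Tor` form (Stacks 00MK): `I ⊗ M → M` injective, `M/IM` flat over
`A/I`, `IB ⊆ rad B`, `M` finite over the Noetherian `A`-algebra `B` ⇒ `M` flat over `A`. -/
theorem flat_of_rTensor_injective_of_flat_quotient [IsNoetherianRing A] [IsNoetherianRing B]
    [Module.Finite B M] (I : Ideal A) (hI : I.map (algebraMap A B) ≤ Ideal.jacobson ⊥)
    (h1 : Injective (I.subtype.rTensor M)) [Module.Flat (A ⧸ I) ((A ⧸ I) ⊗[A] M)] :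
    Module.Flat A M :=
  flat_of_rTensor_injective_of_flat_quotient_aux (B := B) I hI h1 (F := M →₀ A)
    (R := LinearMap.ker (Finsupp.linearCombination A (id : M → M)))
    (LinearMap.ker (Finsupp.linearCombination A (id : M → M))).subtype
    (Finsupp.linearCombination A id) Subtype.val_injective
    (LinearMap.exact_subtype_ker_map _) (Finsupp.linearCombination_id_surjective A M)

end core2

/-- For a local homomorphism of local rings, a proper ideal maps into the Jacobson radical. -/
theorem map_le_jacobson_of_isLocalHom {R S : Type*} [CommRing R] [CommRing S] [IsLocalRing R]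
    [IsLocalRing S] [Algebra R S] [IsLocalHom (algebraMap R S)] (I : Ideal R) (hI : I ≠ ⊤) :
    I.map (algebraMap R S) ≤ Ideal.jacobson ⊥ := by
  refine le_trans ?_ (IsLocalRing.maximalIdeal_le_jacobson ⊥)
  refine le_trans (Ideal.map_mono (IsLocalRing.le_maximalIdeal hI)) ?_
  exact ((IsLocalRing.local_hom_TFAE (algebraMap R S)).out 0 2).mp ‹_›

/-- Local criterion of flatness for a local homomorphism of Noetherian local rings (Stacks 00MK). -/
theorem flat_of_isLocalHom_of_rTensor_injective {R : Type u} {S : Type v} {M : Type w}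
    [CommRing R] [CommRing S] [IsLocalRing R] [IsLocalRing S] [IsNoetherianRing R]
    [IsNoetherianRing S] [Algebra R S] [IsLocalHom (algebraMap R S)]
    [AddCommGroup M] [Module R M] [Module S M] [IsScalarTower R S M] [Module.Finite S M]
    (I : Ideal R) (hI : I ≠ ⊤) (h1 : Injective (I.subtype.rTensor M))
    [Module.Flat (R ⧸ I) ((R ⧸ I) ⊗[R] M)] : Module.Flat R M :=
  flat_of_rTensor_injective_of_flat_quotient (B := S) I (map_le_jacobson_of_isLocalHom I hI) h1

end Groth.Agent.H1
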