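import Mathlib
import Groth.Agent.Lib.Helper1.LocalCriterion

/-!
# Flatness of localized modules over a base ring: elementwise criteria

`R → B` a ring map, `X` a `B`-module.  For a submonoid `S` of `B`, the localization `X_S` is flat
over `R` iff for every ideal `I` of `R` every element of `ker (X ⊗ I → X)` is killed by an element
of `S`.
-/

set_option autoImplicit false

universe u v w

open TensorProduct Function

namespace Groth.Agent.H1.FlatLocus

section basic

variable {R B : Type*} [CommRing R] [CommRing B] [Algebra R B] (S : Submonoid B)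
  {X X' : Type*} [AddCommGroup X] [Module B X] [Module R X] [IsScalarTower R B X]
  [AddCommGroup X'] [Module B X'] [Module R X'] [IsScalarTower R B X']
  (g : X →ₗ[B] X') [IsLocalizedModule S g]

include S g in
/-- If `X_S` is `R`-flat, then elements of `ker (X ⊗ I → X ⊗ R)` are `S`-torsion. -/
theorem exists_smul_eq_zero_of_flat [Module.Flat R X'] (I : Ideal R) (x : X ⊗[R] I)
    (hx : I.subtype.lTensor X x = 0) : ∃ s ∈ S, s • x = 0 := by
  let G₁ := AlgebraTensorModule.rTensor R I g
  let G₂ := AlgebraTensorModule.rTensor R R g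
  have hΦ : IsLocalizedModule.map S G₁ G₂ (AlgebraTensorModule.lTensor B X I.subtype) =
      AlgebraTensorModule.lTensor B X' I.subtype := IsLocalizedModule.map_lTensor B S I.subtype g
  have hinj : Injective (I.subtype.lTensor X') :=
    Module.Flat.iff_lTensor_injective'.mp inferInstance I
  have h1 : I.subtype.lTensor X' (G₁ x) = 0 := by
    have : AlgebraTensorModule.lTensor B X' I.subtype (G₁ x) = 0 := by
      rw [← hΦ, IsLocalizedModule.map_apply]
      have : AlgebraTensorModule.lTensor B X I.subtype x = 0 := hx
      rw [this, map_zero]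
    exact this
  have h2 : G₁ x = 0 := hinj (h1.trans (map_zero _).symm)
  obtain ⟨s, hs⟩ := (IsLocalizedModule.eq_zero_iff S G₁).mp h2
  exact ⟨s.1, s.2, hs⟩

include S g in
/-- If elements of `ker (X ⊗ I → X ⊗ R)` are `S`-torsion then `X_S ⊗ I → X_S ⊗ R` is injective. -/
theorem lTensor_injective_of_forall_exists_smul (I : Ideal R)
    (h : ∀ x : X ⊗[R] I, I.subtype.lTensor X x = 0 → ∃ s ∈ S, s • x = 0) :
    Injective (I.subtype.lTensor X') := by
  let G₁ := AlgebraTensorModule.rTensor R I g
  let G₂ := AlgebraTensorModule.rTensor R R g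
  have hΦ : IsLocalizedModule.map S G₁ G₂ (AlgebraTensorModule.lTensor B X I.subtype) =
      AlgebraTensorModule.lTensor B X' I.subtype := IsLocalizedModule.map_lTensor B S I.subtype g
  rw [injective_iff_map_eq_zero]
  intro x' hx'
  obtain ⟨⟨x, s⟩, rfl⟩ := IsLocalizedModule.mk'_surjective S G₁ x'
  have h1 : AlgebraTensorModule.lTensor B X' I.subtype (IsLocalizedModule.mk' G₁ x s) = 0 := hx'
  rw [← hΦ, IsLocalizedModule.map_mk', IsLocalizedModule.mk'_eq_zero'] at h1
  obtain ⟨t, ht⟩ := h1
  rw [Submonoid.smul_def] at ht
  have h2 : I.subtype.lTensor X ((t : B) • x) = 0 := by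
    have : AlgebraTensorModule.lTensor B X I.subtype ((t : B) • x) = 0 := by
      rw [map_smul]; exact ht
    exact this
  obtain ⟨u, hu, hux⟩ := h _ h2
  change IsLocalizedModule.mk' G₁ x s = 0
  rw [IsLocalizedModule.mk'_eq_zero']
  refine ⟨⟨u, hu⟩ * t, ?_⟩
  rw [Submonoid.smul_def, Submonoid.coe_mul, mul_smul]
  exact hux

include S g in
theorem flat_of_forall_exists_smul
    (h : ∀ (I : Ideal R) (x : X ⊗[R] I), I.subtype.lTensor X x = 0 → ∃ s ∈ S, s • x = 0) :
    Module.Flat R X' :=
  Module.Flat.iff_lTensor_injective'.mpr fun I =>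
    lTensor_injective_of_forall_exists_smul S g I (h I)

include S g in
/-- Further localization preserves flatness over the base ring. -/
theorem flat_of_isLocalizedModule_of_le (S' : Submonoid B) (hSS' : S ≤ S')
    {X'' : Type*} [AddCommGroup X''] [Module B X''] [Module R X''] [IsScalarTower R B X'']
    (g' : X →ₗ[B] X'') [IsLocalizedModule S' g'] [Module.Flat R X'] : Module.Flat R X'' := by
  refine flat_of_forall_exists_smul S' g' fun I x hx => ?_
  obtain ⟨s, hs, hsx⟩ := exists_smul_eq_zero_of_flat S g I x hx
  exact ⟨s, hSS' hs, hsx⟩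

end basic

section noeth

variable {A : Type u} [CommRing A] {B : Type v} [CommRing B] [Algebra A B]
  {M : Type w} [AddCommGroup M] [Module A M] [Module B M] [IsScalarTower A B M]

/-- Local criterion of flatness at a prime `q ⊇ I B`, with the `Tor₁` condition expressed
elementwise on `M`. -/
theorem flat_localizedModule_of_tor [IsNoetherianRing A] [IsNoetherianRing B] [Module.Finite B M]
    (I : Ideal A) (q : Ideal B) [q.IsPrime] (hq : I.map (algebraMap A B) ≤ q)
    [Module.Flat (A ⧸ I) ((A ⧸ I) ⊗[A] LocalizedModule q.primeCompl M)]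
    (h : ∀ x : M ⊗[A] I, I.subtype.lTensor M x = 0 → ∃ s ∈ q.primeCompl, s • x = 0) :
    Module.Flat A (LocalizedModule q.primeCompl M) := by
  have hI : I.map (algebraMap A (Localization q.primeCompl)) ≤ Ideal.jacobson ⊥ := by
    refine le_trans ?_ (IsLocalRing.maximalIdeal_le_jacobson ⊥)
    rw [IsScalarTower.algebraMap_eq A B (Localization q.primeCompl), ← Ideal.map_map,
      ← Localization.AtPrime.map_eq_maximalIdeal]
    exact Ideal.map_mono hq
  have hinj : Injective (I.subtype.lTensor (LocalizedModule q.primeCompl M)) :=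
    lTensor_injective_of_forall_exists_smul q.primeCompl
      (LocalizedModule.mkLinearMap q.primeCompl M) I h
  have hinj' : Injective (I.subtype.rTensor (LocalizedModule q.primeCompl M)) :=
    (LinearMap.lTensor_inj_iff_rTensor_inj _ _).mp hinj
  haveI : IsNoetherianRing (Localization q.primeCompl) :=
    IsLocalization.isNoetherianRing q.primeCompl _ inferInstance
  haveI : Module.Finite (Localization q.primeCompl) (LocalizedModule q.primeCompl M) :=
    Module.Finite.of_isLocalizedModule q.primeCompl (LocalizedModule.mkLinearMap q.primeCompl M)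
  exact Groth.Agent.H1.flat_of_rTensor_injective_of_flat_quotient
    (B := Localization q.primeCompl) I hI hinj'

end noeth

end Groth.Agent.H1.FlatLocus
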