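import Mathlib
import Groth.Agent.Lib.Helper1.FlatLocus

/-!
# Base change of flatness of localized modules

`R → R'` rings, `B` an `R`-algebra, `B'` an `R'`-algebra over `B`, `M' = R' ⊗_R M`.  If a
localization `M_S` is `R`-flat then `M'_{S'}` is `R'`-flat for any submonoid `S' ⊇ image of S`.
-/

set_option autoImplicit false

open TensorProduct Function

namespace Groth.Agent.H1.FlatBCLoc

section general

variable {R B : Type*} [CommRing R] [CommRing B] [Algebra R B] (S : Submonoid B)
  {X X' : Type*} [AddCommGroup X] [Module B X] [Module R X] [IsScalarTower R B X]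
  [AddCommGroup X'] [Module B X'] [Module R X'] [IsScalarTower R B X']
  (g : X →ₗ[B] X') [IsLocalizedModule S g]

include S g in
/-- If `X_S` is `R`-flat, then elements of `ker (X ⊗ Y → X ⊗ Y')` are `S`-torsion, for any
injective `Y → Y'`. -/
theorem exists_smul_eq_zero_of_flat' [Module.Flat R X'] {Y Y' : Type*} [AddCommGroup Y]
    [Module R Y] [AddCommGroup Y'] [Module R Y'] (ι : Y →ₗ[R] Y') (hι : Injective ι)
    (z : X ⊗[R] Y) (hz : ι.lTensor X z = 0) : ∃ s ∈ S, s • z = 0 := by
  let G₁ := AlgebraTensorModule.rTensor R Y g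
  let G₂ := AlgebraTensorModule.rTensor R Y' g
  have hnat : ∀ w : X ⊗[R] Y, ι.lTensor X' (G₁ w) = G₂ (ι.lTensor X w) := by
    intro w
    induction w using TensorProduct.induction_on with
    | zero => simp
    | add a b ha hb => simp only [map_add, ha, hb]
    | tmul a b => simp [G₁, G₂]
  have hinj : Injective (ι.lTensor X') :=
    Module.Flat.lTensor_preserves_injective_linearMap ι hι
  have h2 : G₁ z = 0 := by
    apply hinj
    rw [hnat, hz, map_zero, map_zero]
  obtain ⟨s, hs⟩ := (IsLocalizedModule.eq_zero_iff S G₁).mp h2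
  exact ⟨s.1, s.2, hs⟩

end general

section bc

variable {R R' B B' : Type*} [CommRing R] [CommRing R'] [CommRing B] [CommRing B']
  [Algebra R R'] [Algebra R B] [Algebra R' B'] [Algebra B B'] [Algebra R B']
  [IsScalarTower R B B'] [IsScalarTower R R' B']
  {M M' : Type*} [AddCommGroup M] [Module R M] [Module B M] [IsScalarTower R B M]
  [AddCommGroup M'] [Module R M'] [Module R' M'] [Module B M'] [Module B' M']
  [IsScalarTower R R' M'] [IsScalarTower R B M'] [IsScalarTower B B' M'] [IsScalarTower R' B' M']
  (μ : M →ₗ[B] M')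

/-- the comparison map `M ⊗[R] Y → M' ⊗[R'] Y` -/
noncomputable def Phi (R R' : Type*) [CommRing R] [CommRing R'] [Algebra R R'] [Algebra R B]
    [Module R M] [IsScalarTower R B M] [Module R M'] [Module R' M']
    [IsScalarTower R R' M'] [IsScalarTower R B M'] (μ : M →ₗ[B] M') (Y : Type*) [AddCommGroup Y] [Module R Y] [Module R' Y]
    [IsScalarTower R R' Y] : M ⊗[R] Y →ₗ[R] M' ⊗[R'] Y :=
  TensorProduct.lift
    (LinearMap.mk₂ R (fun m y => μ m ⊗ₜ[R'] y)
      (fun m m' y => by rw [map_add, add_tmul])
      (fun c m y => by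
        rw [LinearMap.map_smul_of_tower, smul_tmul'])
      (fun m y y' => by rw [tmul_add])
      (fun c m y => by
        rw [← algebraMap_smul R' c y, tmul_smul, algebraMap_smul, smul_tmul']))

variable {Y Y' : Type*} [AddCommGroup Y] [Module R Y] [Module R' Y] [IsScalarTower R R' Y]
  [AddCommGroup Y'] [Module R Y'] [Module R' Y'] [IsScalarTower R R' Y']

@[simp]
theorem Phi_tmul (m : M) (y : Y) : Phi R R' μ Y (m ⊗ₜ[R] y) = μ m ⊗ₜ[R'] y := by
  simp [Phi]

theorem Phi_smul (b : B) (z : M ⊗[R] Y) :
    Phi R R' μ Y (b • z) = algebraMap B B' b • Phi R R' μ Y z := by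
  induction z using TensorProduct.induction_on with
  | zero => simp
  | add x y hx hy => rw [smul_add, map_add, hx, hy, map_add, smul_add]
  | tmul m y =>
    rw [smul_tmul', Phi_tmul, Phi_tmul, map_smul, smul_tmul', algebraMap_smul]

theorem Phi_lTensor (ι : Y →ₗ[R'] Y') (z : M ⊗[R] Y) :
    ι.lTensor M' (Phi R R' μ Y z) = Phi R R' μ Y' ((ι.restrictScalars R).lTensor M z) := by
  induction z using TensorProduct.induction_on with
  | zero => simp
  | add x y hx hy => simp only [map_add, hx, hy]
  | tmul m y => simp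

theorem Phi_surjective (hμ : IsBaseChange R' (μ.restrictScalars R)) :
    Surjective (Phi R R' μ Y) := by
  intro x
  induction x using TensorProduct.induction_on with
  | zero => exact ⟨0, map_zero _⟩
  | add x y hx hy =>
    obtain ⟨a, rfl⟩ := hx
    obtain ⟨b, rfl⟩ := hy
    exact ⟨a + b, map_add _ _ _⟩
  | tmul m' y =>
    induction m' using hμ.inductionOn generalizing y with
    | zero => exact ⟨0, by simp⟩
    | tmul m => exact ⟨m ⊗ₜ[R] y, Phi_tmul μ m y⟩
    | smul a m' ih =>
      obtain ⟨z, hz⟩ := ih (a • y)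
      exact ⟨z, by rw [hz, smul_tmul]⟩
    | add m₁ m₂ h₁ h₂ =>
      obtain ⟨z₁, hz₁⟩ := h₁ y
      obtain ⟨z₂, hz₂⟩ := h₂ y
      exact ⟨z₁ + z₂, by rw [map_add, hz₁, hz₂, add_tmul]⟩

theorem Phi_self_injective (hμ : IsBaseChange R' (μ.restrictScalars R)) :
    Injective (Phi R R' μ R') := by
  have h : ∀ z : M ⊗[R] R', TensorProduct.rid R' M' (Phi R R' μ R' z) =
      hμ.equiv (TensorProduct.comm R M R' z) := by
    intro z
    induction z using TensorProduct.induction_on with
    | zero => simp
    | add x y hx hy => simp only [map_add, hx, hy]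
    | tmul m a => simp [hμ.equiv_tmul]
  intro z z' hzz'
  have := congrArg (TensorProduct.rid R' M') hzz'
  rw [h, h] at this
  exact (TensorProduct.comm R M R').injective (hμ.equiv.injective this)

/-- **Base change of flatness of localized modules.** -/
theorem flat_localized_of_isBaseChange (hμ : IsBaseChange R' (μ.restrictScalars R))
    (S : Submonoid B) (S' : Submonoid B') (hSS' : ∀ s ∈ S, algebraMap B B' s ∈ S')
    {N N' : Type*} [AddCommGroup N] [Module R N] [Module B N] [IsScalarTower R B N]
    (l : M →ₗ[B] N) [IsLocalizedModule S l] [Module.Flat R N]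
    [AddCommGroup N'] [Module R' N'] [Module B' N'] [IsScalarTower R' B' N']
    (l' : M' →ₗ[B'] N') [IsLocalizedModule S' l'] : Module.Flat R' N' := by
  refine Groth.Agent.H1.FlatLocus.flat_of_forall_exists_smul (R := R') (B := B') S' l' ?_
  intro J x hx
  obtain ⟨z, rfl⟩ := Phi_surjective (R := R) (R' := R') μ hμ (Y := J) x
  have h1 : Phi R R' μ R' ((J.subtype.restrictScalars R).lTensor M z) = 0 := by
    rw [← Phi_lTensor]
    exact hx
  have h2 : (J.subtype.restrictScalars R).lTensor M z = 0 :=
    Phi_self_injective (R := R) (R' := R') μ hμ (h1.trans (map_zero _).symm)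
  obtain ⟨s, hs, hsz⟩ := exists_smul_eq_zero_of_flat' S l (J.subtype.restrictScalars R)
    Subtype.val_injective z h2
  exact ⟨algebraMap B B' s, hSS' s hs, by rw [← Phi_smul, hsz, map_zero]⟩

end bc

section localglobal

variable {A B : Type*} [CommRing A] [CommRing B] [Algebra A B]
  {M : Type*} [AddCommGroup M] [Module A M] [Module B M] [IsScalarTower A B M]

/-- Flatness over the base can be checked at the primes of `B`. -/
theorem flat_of_forall_flat_localizedModule_prime
    (h : ∀ (q : Ideal B) [q.IsPrime], Module.Flat A (LocalizedModule q.primeCompl M)) :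
    Module.Flat A M := by
  rw [Module.Flat.iff_lTensor_injective']
  intro I
  rw [injective_iff_map_eq_zero]
  intro x hx
  let J : Ideal B := LinearMap.ker (LinearMap.toSpanSingleton B (M ⊗[A] I) x)
  have hJ : ∀ b : B, b ∈ J ↔ b • x = 0 := fun b => by
    rw [LinearMap.mem_ker, LinearMap.toSpanSingleton_apply]
  by_cases hJtop : J = ⊤
  · have : (1 : B) ∈ J := hJtop ▸ Submodule.mem_top
    rw [hJ, one_smul] at this
    exact this
  · exfalso
    obtain ⟨q, hqmax, hJq⟩ := Ideal.exists_le_maximal J hJtop
    haveI := hqmax.isPrime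
    haveI := h q
    obtain ⟨s, hs, hsx⟩ := Groth.Agent.H1.FlatLocus.exists_smul_eq_zero_of_flat q.primeCompl
      (LocalizedModule.mkLinearMap q.primeCompl M) I x hx
    exact hs (hJq ((hJ s).mpr hsx))

end localglobal

end Groth.Agent.H1.FlatBCLoc
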