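import Mathlib

/-!
# A concrete polynomial model for finitely presented modules over finitely presented algebras

`P n R = R[X₁,…,Xₙ]`, `F = (P n R)^r`, `Mod k = F / span (k u)` for `k : Fin t → F`.
Functoriality and base change in `R`.
-/

set_option autoImplicit false

universe u

open TensorProduct Function

namespace Groth.Agent.H1.PolyModel

attribute [local instance] MvPolynomial.algebraMvPolynomial

/-- The polynomial ring in `n` variables. -/
abbrev P (n : ℕ) (R : Type u) [CommRing R] := MvPolynomial (Fin n) R

section general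

/-- The kernel of a base change to a quotient ring. -/
theorem ker_eq_smul_top_of_isBaseChange {R : Type*} [CommRing R] (I : Ideal R) {G G' : Type*}
    [AddCommGroup G] [Module R G] [AddCommGroup G'] [Module R G'] [Module (R ⧸ I) G']
    [IsScalarTower R (R ⧸ I) G'] (μ : G →ₗ[R] G') (hμ : IsBaseChange (R ⧸ I) μ) :
    LinearMap.ker μ = I • (⊤ : Submodule R G) := by
  ext g
  rw [LinearMap.mem_ker]
  have h1 : μ g = hμ.equiv ((1 : R ⧸ I) ⊗ₜ g) := by rw [hμ.equiv_tmul, one_smul]
  rw [h1, LinearEquiv.map_eq_zero_iff]
  have h2 : (1 : R ⧸ I) ⊗ₜ[R] g = (TensorProduct.quotTensorEquivQuotSMul G I).symm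
      (Submodule.Quotient.mk g) := by
    rw [TensorProduct.quotTensorEquivQuotSMul_symm_mk]
  rw [h2, LinearEquiv.map_eq_zero_iff, Submodule.Quotient.mk_eq_zero]

end general

variable (n m : ℕ) (R R' R'' : Type u) [CommRing R] [CommRing R'] [CommRing R'']
  [Algebra R R'] [Algebra R' R''] [Algebra R R''] [IsScalarTower R R' R'']

/-- coefficientwise map on vectors of polynomials -/
noncomputable def vmap : (Fin m → P n R) →ₗ[P n R] (Fin m → P n R') :=
  (Algebra.linearMap (P n R) (P n R')).compLeft (Fin m)

theorem vmap_apply (v : Fin m → P n R) (i : Fin m) :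
    vmap n m R R' v i = MvPolynomial.map (algebraMap R R') (v i) := rfl

theorem vmap_vmap (v : Fin m → P n R) :
    vmap n m R' R'' (vmap n m R R' v) = vmap n m R R'' v := by
  ext i : 1
  rw [vmap_apply, vmap_apply, vmap_apply, MvPolynomial.map_map,
    ← IsScalarTower.algebraMap_eq]

theorem vmap_smul' (p : P n R) (v : Fin m → P n R) :
    vmap n m R R' (p • v) = MvPolynomial.map (algebraMap R R') p • vmap n m R R' v := by
  rw [map_smul]
  rfl

theorem vmap_smul_base (a : R) (v : Fin m → P n R) :
    vmap n m R R' (a • v) = algebraMap R R' a • vmap n m R R' v := by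
  ext i : 1
  simp only [vmap_apply, Pi.smul_apply, MvPolynomial.smul_eq_C_mul, map_mul, MvPolynomial.map_C]

theorem isBaseChange_vmap : IsBaseChange (P n R') (vmap n m R R') :=
  (IsBaseChange.linearMap (P n R) (P n R')).finitePow (Fin m)

theorem isBaseChange_vmap_restrictScalars :
    IsBaseChange R' ((vmap n m R R').restrictScalars R) := by
  have h : IsBaseChange R' (IsScalarTower.toAlgHom R (P n R) (P n R')).toLinearMap :=
    (inferInstance : Algebra.IsPushout R R' (P n R) (P n R')).out
  exact h.finitePow (Fin m)

theorem vmap_injective (h : Injective (algebraMap R R')) : Injective (vmap n m R R') := by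
  intro v w hvw
  ext i : 1
  have := congrFun hvw i
  rw [vmap_apply, vmap_apply] at this
  exact MvPolynomial.map_injective _ h this

theorem vmap_surjective (h : Surjective (algebraMap R R')) : Surjective (vmap n m R R') := by
  intro v
  choose w hw using fun i => MvPolynomial.map_surjective _ h (v i)
  exact ⟨w, funext hw⟩

/-- kernel of reduction modulo an ideal -/
theorem vmap_quotient_eq_zero_iff (I : Ideal R) (v : Fin m → P n R) :
    vmap n m R (R ⧸ I) v = 0 ↔ v ∈ I • (⊤ : Submodule R (Fin m → P n R)) := by
  rw [← ker_eq_smul_top_of_isBaseChange I _ (isBaseChange_vmap_restrictScalars n m R (R ⧸ I)),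
    LinearMap.mem_ker]
  rfl

section presentation

variable {n R} (r t : ℕ)

/-- the presentation matrix as a linear map `(c_u) ↦ ∑ c_u • k_u` -/
noncomputable def kap (k : Fin t → (Fin r → P n R)) : (Fin t → P n R) →ₗ[P n R] (Fin r → P n R) :=
  Fintype.linearCombination (P n R) k

theorem kap_apply (k : Fin t → (Fin r → P n R)) (c : Fin t → P n R) :
    kap r t k c = ∑ u, c u • k u := by
  rw [kap, Fintype.linearCombination_apply]

theorem range_kap (k : Fin t → (Fin r → P n R)) :
    LinearMap.range (kap r t k) = Submodule.span (P n R) (Set.range k) :=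
  Fintype.range_linearCombination _ _

theorem mem_range_kap (k : Fin t → (Fin r → P n R)) (u : Fin t) :
    k u ∈ LinearMap.range (kap r t k) := by
  rw [range_kap]
  exact Submodule.subset_span ⟨u, rfl⟩

/-- the generators pushed to `R'` -/
noncomputable def kmap (k : Fin t → (Fin r → P n R)) : Fin t → (Fin r → P n R') :=
  fun u => vmap n r R R' (k u)

theorem kmap_kmap (k : Fin t → (Fin r → P n R)) :
    kmap R'' r t (kmap R' r t k) = kmap R'' r t k := by
  funext u
  exact vmap_vmap n r R R' R'' (k u)

theorem vmap_kap (k : Fin t → (Fin r → P n R)) (c : Fin t → P n R) :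
    vmap n r R R' (kap r t k c) = kap r t (kmap R' r t k) (vmap n t R R' c) := by
  rw [kap_apply, kap_apply, map_sum]
  refine Finset.sum_congr rfl fun u _ => ?_
  rw [vmap_smul']
  rfl

/-- the model module -/
abbrev Mod (k : Fin t → (Fin r → P n R)) := (Fin r → P n R) ⧸ LinearMap.range (kap r t k)

/-- the canonical projection -/
noncomputable abbrev proj (k : Fin t → (Fin r → P n R)) : (Fin r → P n R) →ₗ[P n R] Mod r t k :=
  (LinearMap.range (kap r t k)).mkQ

theorem exact_kap_proj (k : Fin t → (Fin r → P n R)) : Exact (kap r t k) (proj r t k) :=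
  LinearMap.exact_map_mkQ_range _

theorem proj_surjective (k : Fin t → (Fin r → P n R)) : Surjective (proj r t k) :=
  Submodule.mkQ_surjective _

/-- transition map of the models -/
noncomputable def muM (k : Fin t → (Fin r → P n R)) :
    Mod r t k →ₗ[P n R] Mod r t (kmap R' r t k) :=
  (LinearMap.range (kap r t k)).liftQ
    ((proj r t (kmap R' r t k)).restrictScalars (P n R) ∘ₗ vmap n r R R') (by
      rintro _ ⟨c, rfl⟩
      rw [LinearMap.mem_ker, LinearMap.comp_apply, vmap_kap]
      exact (exact_kap_proj r t (kmap R' r t k)).apply_apply_eq_zero _)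

theorem muM_proj (k : Fin t → (Fin r → P n R)) (v : Fin r → P n R) :
    muM R' r t k (proj r t k v) = proj r t (kmap R' r t k) (vmap n r R R' v) := rfl

theorem isBaseChange_muM (k : Fin t → (Fin r → P n R)) : IsBaseChange (P n R') (muM R' r t k) := by
  refine IsBaseChange.of_right_exact (P n R') (vmap n t R R') (vmap n r R R') (muM R' r t k)
    (f := kap r t k) (g := proj r t k) (f' := kap r t (kmap R' r t k))
    (g' := proj r t (kmap R' r t k)) ?_ ?_ (isBaseChange_vmap n t R R') (isBaseChange_vmap n r R R')
    (exact_kap_proj r t k) (proj_surjective r t k) (exact_kap_proj r t _) (proj_surjective r t _)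
  · refine LinearMap.ext fun c => ?_
    exact vmap_kap R' r t k c
  · refine LinearMap.ext fun v => ?_
    rfl

theorem isBaseChange_muM_restrictScalars (k : Fin t → (Fin r → P n R)) :
    IsBaseChange R' ((muM R' r t k).restrictScalars R) := by
  refine IsBaseChange.of_right_exact R' ((vmap n t R R').restrictScalars R)
    ((vmap n r R R').restrictScalars R) ((muM R' r t k).restrictScalars R)
    (f := (kap r t k).restrictScalars R) (g := (proj r t k).restrictScalars R)
    (f' := (kap r t (kmap R' r t k)).restrictScalars R')
    (g' := (proj r t (kmap R' r t k)).restrictScalars R') ?_ ?_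
    (isBaseChange_vmap_restrictScalars n t R R') (isBaseChange_vmap_restrictScalars n r R R')
    (exact_kap_proj r t k) (proj_surjective r t k) (exact_kap_proj r t _) (proj_surjective r t _)
  · refine LinearMap.ext fun c => ?_
    exact vmap_kap R' r t k c
  · refine LinearMap.ext fun v => ?_
    rfl

end presentation

end Groth.Agent.H1.PolyModel
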