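import Mathlib

/-!
# Bridge between `Tor₁(M, A/I)` and `(K ∩ IF)/IK`

`A → B` rings, `F` a `B`-module flat over `A`, `π : F → M` a surjection of `B`-modules with kernel
`K`.  Then `ker (M ⊗ I → M) ≅ (K ∩ IF)/IK`; we give elementwise "up to `S`-torsion" versions.
-/

set_option autoImplicit false

open TensorProduct Function

namespace Groth.Agent.H1.TorBridge

variable {A B : Type*} [CommRing A] [CommRing B] [Algebra A B]
  {F M : Type*} [AddCommGroup F] [Module A F] [Module B F] [IsScalarTower A B F]
  [AddCommGroup M] [Module A M] [Module B M] [IsScalarTower A B M]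

/-- `θ : F ⊗[A] I → F`, `f ⊗ a ↦ a • f`. -/
noncomputable def theta (B : Type*) [CommRing B] [Algebra A B] (F : Type*) [AddCommGroup F]
    [Module A F] [Module B F] [IsScalarTower A B F] (I : Ideal A) : F ⊗[A] I →ₗ[B] F :=
  (AlgebraTensorModule.rid A B F).toLinearMap ∘ₗ AlgebraTensorModule.lTensor B F I.subtype

@[simp]
theorem theta_tmul (I : Ideal A) (f : F) (a : I) : theta B F I (f ⊗ₜ a) = (a : A) • f := by
  simp [theta]

theorem theta_eq_zero_iff (I : Ideal A) (x : M ⊗[A] I) :
    theta B M I x = 0 ↔ I.subtype.lTensor M x = 0 := by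
  unfold theta
  rw [LinearMap.comp_apply, LinearEquiv.coe_coe, LinearEquiv.map_eq_zero_iff]
  rfl

theorem theta_injective [Module.Flat A F] (I : Ideal A) : Injective (theta B F I) := by
  unfold theta
  rw [LinearMap.coe_comp, LinearEquiv.coe_coe]
  refine (LinearEquiv.injective _).comp ?_
  exact Module.Flat.lTensor_preserves_injective_linearMap (M := F) I.subtype Subtype.val_injective

theorem theta_mem (I : Ideal A) (y : F ⊗[A] I) : theta B F I y ∈ I • (⊤ : Submodule A F) := by
  induction y using TensorProduct.induction_on with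
  | zero => simp
  | add x y hx hy => rw [map_add]; exact Submodule.add_mem _ hx hy
  | tmul f a => rw [theta_tmul]; exact Submodule.smul_mem_smul a.2 Submodule.mem_top

theorem exists_theta_eq (I : Ideal A) (k : F) (hk : k ∈ I • (⊤ : Submodule A F)) :
    ∃ y : F ⊗[A] I, theta B F I y = k := by
  refine Submodule.smul_induction_on hk ?_ ?_
  · intro a ha f _
    exact ⟨f ⊗ₜ ⟨a, ha⟩, by simp⟩
  · rintro _ _ ⟨y, rfl⟩ ⟨y', rfl⟩
    exact ⟨y + y', map_add _ _ _⟩

theorem theta_naturality (π : F →ₗ[B] M) (I : Ideal A) (y : F ⊗[A] I) :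
    π (theta B F I y) = theta B M I (AlgebraTensorModule.rTensor A I π y) := by
  induction y using TensorProduct.induction_on with
  | zero => simp
  | add x y hx hy => simp only [map_add, hx, hy]
  | tmul f a => simp

variable (π : F →ₗ[B] M) (I : Ideal A)

theorem theta_rTensor_subtype_mem (z : (LinearMap.ker π) ⊗[A] I) :
    theta B F I (AlgebraTensorModule.rTensor A I (LinearMap.ker π).subtype z) ∈
      I • (LinearMap.ker π).restrictScalars A := by
  induction z using TensorProduct.induction_on with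
  | zero => simp
  | add x y hx hy => rw [map_add, map_add]; exact Submodule.add_mem _ hx hy
  | tmul k a =>
    simp only [AlgebraTensorModule.rTensor_tmul, Submodule.subtype_apply, theta_tmul]
    exact Submodule.smul_mem_smul a.2 k.2

theorem exists_rTensor_subtype_eq (v : F) (hv : v ∈ I • (LinearMap.ker π).restrictScalars A) :
    ∃ z : (LinearMap.ker π) ⊗[A] I,
      theta B F I (AlgebraTensorModule.rTensor A I (LinearMap.ker π).subtype z) = v := by
  refine Submodule.smul_induction_on hv ?_ ?_
  · intro a ha k hk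
    exact ⟨(⟨k, hk⟩ : LinearMap.ker π) ⊗ₜ ⟨a, ha⟩, by simp⟩
  · rintro _ _ ⟨y, rfl⟩ ⟨y', rfl⟩
    exact ⟨y + y', by simp only [map_add]⟩

theorem exact_rTensor (hπ : Surjective π) :
    Exact (AlgebraTensorModule.rTensor A I (LinearMap.ker π).subtype)
      (AlgebraTensorModule.rTensor A I π) := by
  have h : Exact ((LinearMap.ker π).subtype.restrictScalars A) (π.restrictScalars A) :=
    LinearMap.exact_subtype_ker_map π
  have h2 := rTensor_exact I h hπ
  intro y
  exact h2 y

/-- (BR1) -/
theorem exists_smul_eq_zero_of_forall (hπ : Surjective π) [Module.Flat A F] (S : Submonoid B)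
    (h : ∀ k ∈ LinearMap.ker π, k ∈ I • (⊤ : Submodule A F) →
      ∃ s ∈ S, s • k ∈ I • (LinearMap.ker π).restrictScalars A)
    (x : M ⊗[A] I) (hx : I.subtype.lTensor M x = 0) : ∃ s ∈ S, s • x = 0 := by
  obtain ⟨y, rfl⟩ : ∃ y, AlgebraTensorModule.rTensor A I π y = x :=
    LinearMap.rTensor_surjective I (g := π.restrictScalars A) hπ x
  have hk : theta B F I y ∈ LinearMap.ker π := by
    rw [LinearMap.mem_ker, theta_naturality, theta_eq_zero_iff]
    exact hx
  obtain ⟨s, hs, hsk⟩ := h _ hk (theta_mem I y)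
  obtain ⟨z, hz⟩ := exists_rTensor_subtype_eq π I _ hsk
  refine ⟨s, hs, ?_⟩
  have : s • y = AlgebraTensorModule.rTensor A I (LinearMap.ker π).subtype z := by
    apply theta_injective (B := B) I
    rw [hz, map_smul]
  rw [← map_smul, this]
  exact (exact_rTensor π I hπ).apply_apply_eq_zero z

/-- (BR2) -/
theorem exists_smul_mem_of_forall (hπ : Surjective π) (S : Submonoid B)
    (h : ∀ x : M ⊗[A] I, I.subtype.lTensor M x = 0 → ∃ s ∈ S, s • x = 0)
    (k : F) (hk : k ∈ LinearMap.ker π) (hkI : k ∈ I • (⊤ : Submodule A F)) :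
    ∃ s ∈ S, s • k ∈ I • (LinearMap.ker π).restrictScalars A := by
  obtain ⟨y, rfl⟩ := exists_theta_eq (B := B) I k hkI
  have hx : I.subtype.lTensor M (AlgebraTensorModule.rTensor A I π y) = 0 := by
    rw [← theta_eq_zero_iff (B := B), ← theta_naturality]
    exact hk
  obtain ⟨s, hs, hsx⟩ := h _ hx
  refine ⟨s, hs, ?_⟩
  rw [← map_smul] at hsx
  obtain ⟨z, hz⟩ := (exact_rTensor π I hπ (s • y)).mp hsx
  rw [← map_smul, ← hz]
  exact theta_rTensor_subtype_mem π I z

end Groth.Agent.H1.TorBridge
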