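import Groth.Agent.Lib.Helper1.GenFreeMod

/-!
# Generic freeness: conversion to honest localizations
-/

set_option autoImplicit false

universe u

namespace Groth.Agent.H1.GenFree

open MvPolynomial

section Transfer

variable {A : Type*} [CommRing A] {N M M' : Type*} [AddCommGroup N] [Module A N]
  [AddCommGroup M] [Module A M] [AddCommGroup M'] [Module A M']

/-- If `Φ : N → M` has `a`-power torsion kernel and cokernel, then any localization of `M`
away from `a` is also a localization of `N`. -/
theorem isLocalizedModule_comp (a : A) (Φ : N →ₗ[A] M) (hk : TorsKer a Φ) (hc : TorsCoker a Φ)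
    (l : M →ₗ[A] M') [IsLocalizedModule (Submonoid.powers a) l] :
    IsLocalizedModule (Submonoid.powers a) (l ∘ₗ Φ) where
  map_units := IsLocalizedModule.map_units l
  surj y := by
    obtain ⟨⟨m, s⟩, hs⟩ := IsLocalizedModule.surj (Submonoid.powers a) l y
    obtain ⟨j, n, hj⟩ := hc m
    refine ⟨⟨n, ⟨a ^ j, j, rfl⟩ * s⟩, ?_⟩
    simp only at hs ⊢
    rw [mul_smul, hs, LinearMap.comp_apply, ← hj, map_smul, Submonoid.smul_def]
  exists_of_eq {x₁ x₂} h := by
    rw [LinearMap.comp_apply, LinearMap.comp_apply] at h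
    obtain ⟨s, hs⟩ := IsLocalizedModule.exists_of_eq (S := Submonoid.powers a) h
    have h0 : Φ (s • (x₁ - x₂)) = 0 := by
      rw [smul_sub, map_sub, sub_eq_zero]
      simpa only [Submonoid.smul_def, map_smul] using hs
    obtain ⟨j, hj⟩ := hk _ h0
    refine ⟨⟨a ^ j, j, rfl⟩ * s, ?_⟩
    rw [mul_smul, mul_smul, ← sub_eq_zero, ← smul_sub, ← smul_sub]
    exact hj

end Transfer

/-- `GenFreeAt` gives freeness of any localization away from `f`. -/
theorem GenFreeAt.free {R : Type u} [CommRing R] {M : Type u} [AddCommGroup M] [Module R M]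
    {f : R} (h : GenFreeAt R M f) (R' : Type*) [CommRing R'] [Algebra R R']
    [IsLocalization.Away f R'] {M' : Type*} [AddCommGroup M'] [Module R M'] [Module R' M']
    [IsScalarTower R R' M'] (l : M →ₗ[R] M') [IsLocalizedModule (Submonoid.powers f) l] :
    Module.Free R' M' := by
  obtain ⟨N, _, _, _, Φ, hk, hc⟩ := h
  have := isLocalizedModule_comp f Φ hk hc l
  exact Module.free_of_isLocalizedModule (Submonoid.powers f) (l ∘ₗ Φ)

/-- `FPAt` gives finite presentation of any localization away from `s`. -/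
theorem FPAt.finitePresentation {S : Type u} [CommRing S] {M : Type u} [AddCommGroup M]
    [Module S M] {s : S} (h : FPAt S M s) (S' : Type*) [CommRing S'] [Algebra S S']
    [IsLocalization.Away s S'] {M' : Type*} [AddCommGroup M'] [Module S M'] [Module S' M']
    [IsScalarTower S S' M'] (l : M →ₗ[S] M') [IsLocalizedModule (Submonoid.powers s) l] :
    Module.FinitePresentation S' M' := by
  obtain ⟨F, _, _, _, _, π, hπ, K', hfg, hle, hK'⟩ := h
  have hF : Module.FinitePresentation S F := Module.finitePresentation_of_projective S F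
  have hQ : Module.FinitePresentation S (F ⧸ K') :=
    Module.finitePresentation_of_surjective K'.mkQ (Submodule.mkQ_surjective _)
      (by rwa [Submodule.ker_mkQ])
  set Ψ : (F ⧸ K') →ₗ[S] M := K'.liftQ π hle with hΨ
  have hk : TorsKer s Ψ := by
    intro x hx
    obtain ⟨y, rfl⟩ := Submodule.mkQ_surjective K' x
    rw [hΨ, Submodule.mkQ_apply, Submodule.liftQ_apply] at hx
    obtain ⟨j, hj⟩ := hK' y hx
    refine ⟨j, ?_⟩
    rw [Submodule.mkQ_apply, ← Submodule.Quotient.mk_smul, Submodule.Quotient.mk_eq_zero]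
    exact hj
  have hc : TorsCoker s Ψ := by
    intro y
    obtain ⟨x, rfl⟩ := hπ y
    exact ⟨0, K'.mkQ x, by rw [pow_zero, one_smul, hΨ, Submodule.mkQ_apply, Submodule.liftQ_apply]⟩
  have := isLocalizedModule_comp s Ψ hk hc l
  exact FinitePresentation.of_isBaseChange (l ∘ₗ Ψ)
    ((isLocalizedModule_iff_isBaseChange (Submonoid.powers s) S' _).mp this)

/-- If `ψ : A → B` is a surjective ring map whose kernel is `a`-power torsion, then a localization
of `B` away from `ψ a` is a localization of `A` away from `a`. -/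
theorem isLocalization_away_of_surjective {A B : Type*} [CommRing A] [CommRing B] (ψ : A →+* B)
    (hψ : Function.Surjective ψ) (a : A) (hk : ∀ x, ψ x = 0 → ∃ j : ℕ, a ^ j * x = 0)
    (B' : Type*) [CommRing B'] [Algebra B B'] [IsLocalization.Away (ψ a) B'] [Algebra A B']
    (hcomp : algebraMap A B' = (algebraMap B B').comp ψ) : IsLocalization.Away a B' := by
  rw [IsLocalization.Away, isLocalization_iff]
  refine ⟨?_, ?_, ?_⟩
  · rintro ⟨_, k, rfl⟩
    rw [hcomp, RingHom.comp_apply, map_pow]
    exact IsLocalization.map_units B' (⟨ψ a ^ k, k, rfl⟩ : Submonoid.powers (ψ a))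
  · intro z
    obtain ⟨⟨x, ⟨_, k, rfl⟩⟩, hx⟩ := IsLocalization.surj (Submonoid.powers (ψ a)) z
    obtain ⟨x₀, rfl⟩ := hψ x
    refine ⟨⟨x₀, ⟨a ^ k, k, rfl⟩⟩, ?_⟩
    simp only at hx ⊢
    rw [hcomp, RingHom.comp_apply, RingHom.comp_apply, map_pow]
    exact hx
  · intro x y hxy
    rw [hcomp, RingHom.comp_apply, RingHom.comp_apply] at hxy
    obtain ⟨⟨_, k, rfl⟩, hc⟩ := IsLocalization.exists_of_eq (M := Submonoid.powers (ψ a)) hxy
    simp only at hc
    have h0 : ψ (a ^ k * (x - y)) = 0 := by
      rw [map_mul, map_sub, map_pow, mul_sub, hc, sub_self]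
    obtain ⟨j, hj⟩ := hk _ h0
    refine ⟨⟨a ^ (j + k), j + k, rfl⟩, ?_⟩
    simp only
    rw [← sub_eq_zero, ← mul_sub, pow_add, mul_assoc]
    exact hj

/-- Algebra finite presentation after inverting `F`, from an `F`-finitely generated kernel. -/
theorem finitePresentation_of_ffg {R S : Type u} [CommRing R] [CommRing S] [Algebra R S] {n : ℕ}
    (φ : MvPolynomial (Fin n) R →ₐ[R] S) (hφ : Function.Surjective φ) (F : R)
    (G : Finset (MvPolynomial (Fin n) R)) (hG : ∀ b ∈ G, φ b = 0)
    (hG' : ∀ h, φ h = 0 → ∃ j : ℕ, F ^ j • h ∈ Ideal.span (G : Set (MvPolynomial (Fin n) R)))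
    (R' S' : Type u) [CommRing R'] [CommRing S'] [Algebra R R'] [Algebra S S']
    [IsLocalization.Away F R'] [IsLocalization.Away (algebraMap R S F) S']
    (ρ : R' →+* S') (hρ : ρ.comp (algebraMap R R') = (algebraMap S S').comp (algebraMap R S)) :
    ρ.FinitePresentation := by
  set I : Ideal (MvPolynomial (Fin n) R) := Ideal.span (G : Set (MvPolynomial (Fin n) R)) with hI
  have hIle : ∀ a ∈ I, φ a = 0 := by
    intro a ha
    have : I ≤ RingHom.ker φ.toRingHom := by
      rw [hI, Ideal.span_le]; intro b hb; exact hG b hb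
    exact this ha
  have hfp : Algebra.FinitePresentation R (MvPolynomial (Fin n) R ⧸ I) :=
    Algebra.FinitePresentation.quotient ⟨G, rfl⟩
  set ψ : (MvPolynomial (Fin n) R ⧸ I) →ₐ[R] S := Ideal.Quotient.liftₐ I φ hIle with hψdef
  have hψmk : ∀ p, ψ (Ideal.Quotient.mk I p) = φ p := fun p => by
    rw [hψdef]; rfl
  have hψ : Function.Surjective ψ := by
    intro s
    obtain ⟨p, rfl⟩ := hφ s
    exact ⟨Ideal.Quotient.mk I p, hψmk p⟩
  letI : Algebra (MvPolynomial (Fin n) R ⧸ I) S' := ((algebraMap S S').comp ψ.toRingHom).toAlgebra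
  have hcomm : ψ.toRingHom (algebraMap R (MvPolynomial (Fin n) R ⧸ I) F) = algebraMap R S F :=
    ψ.commutes F
  have : IsLocalization.Away (ψ.toRingHom (algebraMap R (MvPolynomial (Fin n) R ⧸ I) F)) S' := by
    rw [hcomm]; infer_instance
  have loc : IsLocalization.Away (algebraMap R (MvPolynomial (Fin n) R ⧸ I) F) S' := by
    refine isLocalization_away_of_surjective ψ.toRingHom hψ _ ?_ S' rfl
    intro x hx
    obtain ⟨p, rfl⟩ := Ideal.Quotient.mk_surjective x
    have hp : φ p = 0 := by rw [← hψmk]; exact hx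
    obtain ⟨j, hj⟩ := hG' p hp
    refine ⟨j, ?_⟩
    have e : algebraMap R (MvPolynomial (Fin n) R ⧸ I) F ^ j * Ideal.Quotient.mk I p =
        Ideal.Quotient.mk I (F ^ j • p) := by
      rw [Algebra.smul_def, map_mul, ← map_pow]; rfl
    rw [e]; exact Ideal.Quotient.eq_zero_iff_mem.mpr hj
  have h1 := RingHom.finitePresentation_localizationPreserves.away
    (algebraMap R (MvPolynomial (Fin n) R ⧸ I)) F R' S'
    (RingHom.finitePresentation_algebraMap.mpr hfp)
  convert h1 using 1
  apply IsLocalization.ringHom_ext (Submonoid.powers F)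
  rw [hρ, IsLocalization.Away.map, IsLocalization.map_comp]
  ext r
  simp only [RingHom.comp_apply]
  change _ = algebraMap S S' (ψ (algebraMap R _ r))
  rw [ψ.commutes]

/-- All generic freeness conclusions at `F`, in elementwise form. -/
structure Good (R S M : Type u) [CommRing R] [CommRing S] [Algebra R S] [AddCommGroup M]
    [Module S M] [Module R M] (F : R) : Prop where
  freeM : GenFreeAt R M F
  freeS : GenFreeAt R S F
  fpM : FPAt S M (algebraMap R S F)
  fpS : ∃ (n : ℕ) (φ : MvPolynomial (Fin n) R →ₐ[R] S) (G : Finset (MvPolynomial (Fin n) R)),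
    Function.Surjective φ ∧ (∀ b ∈ G, φ b = 0) ∧
      ∀ h, φ h = 0 → ∃ j : ℕ, F ^ j • h ∈ Ideal.span (G : Set (MvPolynomial (Fin n) R))

section

variable {R S M : Type u} [CommRing R] [CommRing S] [Algebra R S] [AddCommGroup M]
    [Module S M] [Module R M] [IsScalarTower R S M]

/-- **Generic freeness** over a reduced ring, elementwise form. -/
theorem exists_good [IsReduced R] [Algebra.FiniteType R S] [Module.Finite S M] (g : R)
    (hg : g ≠ 0) : ∃ f : R, g * f ≠ 0 ∧ Good R S M (g * f) := by
  obtain ⟨n, φ, hφ⟩ := Algebra.FiniteType.iff_quotient_mvPolynomial''.mp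
    (inferInstance : Algebra.FiniteType R S)
  obtain ⟨f₁, hf₁, hfreeS, -, G, hG, hG'⟩ := cyclic φ hφ S 1
    (fun x => ⟨x, by rw [smul_eq_mul, mul_one]⟩) g hg
  obtain ⟨k, v, hv⟩ := Module.Finite.exists_fin (R := S) (M := M)
  obtain ⟨f₂, hf₂, hfreeM, hfpM⟩ := main φ hφ k M v hv (g * f₁) hf₁
  refine ⟨f₁ * f₂, by rwa [← mul_assoc], ?_⟩
  rw [← mul_assoc]
  refine ⟨hfreeM, hfreeS.mul_right f₂, hfpM, n, φ, G, hφ, ?_, ?_⟩
  · intro b hb
    have := hG b hb
    rwa [smul_eq_mul, mul_one] at this
  · intro h hh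
    obtain ⟨j, hj⟩ := hG' h (by rw [hh, zero_smul])
    refine ⟨j, ?_⟩
    rw [mul_pow, mul_comm, mul_smul, smul_eq_C_mul (a := f₂ ^ j)]
    exact Ideal.mul_mem_left _ _ hj

omit [IsScalarTower R S M]
variable {F : R} (h : Good R S M F)
include h

theorem Good.free_localizedModule :
    Module.Free (Localization.Away F) (LocalizedModule (Submonoid.powers F) M) :=
  h.freeM.free _ (LocalizedModule.mkLinearMap (Submonoid.powers F) M)

theorem Good.free_localizedModule_self :
    Module.Free (Localization.Away F) (LocalizedModule (Submonoid.powers F) S) :=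
  h.freeS.free _ (LocalizedModule.mkLinearMap (Submonoid.powers F) S)

open TensorProduct in
theorem Good.free_tensor :
    Module.Free (Localization.Away F) (Localization.Away F ⊗[R] M) :=
  h.freeM.free _ (TensorProduct.mk R (Localization.Away F) M 1)

open TensorProduct in
theorem Good.free_tensor_self :
    Module.Free (Localization.Away F) (Localization.Away F ⊗[R] S) :=
  h.freeS.free _ (TensorProduct.mk R (Localization.Away F) S 1)

theorem Good.finitePresentation_localizedModule :
    Module.FinitePresentation (Localization.Away (algebraMap R S F))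
      (LocalizedModule (Submonoid.powers (algebraMap R S F)) M) :=
  h.fpM.finitePresentation _ (LocalizedModule.mkLinearMap (Submonoid.powers (algebraMap R S F)) M)

theorem Good.finitePresentation_awayMap :
    (Localization.awayMap (algebraMap R S) F).FinitePresentation := by
  obtain ⟨n, φ, G, hφ, hG, hG'⟩ := h.fpS
  refine finitePresentation_of_ffg φ hφ F G hG hG' _ _ _ ?_
  exact IsLocalization.map_comp _

attribute [local instance] Algebra.TensorProduct.rightAlgebra in
open TensorProduct in
theorem Good.finitePresentation_tensor :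
    Algebra.FinitePresentation (Localization.Away F) (Localization.Away F ⊗[R] S) := by
  obtain ⟨n, φ, G, hφ, hG, hG'⟩ := h.fpS
  rw [← RingHom.finitePresentation_algebraMap]
  refine finitePresentation_of_ffg φ hφ F G hG hG' _ _ _ ?_
  ext r
  simp only [RingHom.comp_apply]
  rw [Algebra.TensorProduct.algebraMap_apply, Algebra.algebraMap_self_apply,
    Algebra.TensorProduct.right_algebraMap_apply, Algebra.algebraMap_eq_smul_one,
    TensorProduct.smul_tmul, ← Algebra.algebraMap_eq_smul_one]

end

end Groth.Agent.H1.GenFree
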