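import Mathlib

/-!
# A criterion for openness in the spectrum of a Noetherian ring

A subset `E` of `Spec R` (`R` Noetherian) is open as soon as it is stable under generization and
every point `x ∈ E` has a principal open neighbourhood `D(g)` with `V(x) ∩ D(g) ⊆ E`.
-/

set_option autoImplicit false

namespace Groth.Agent.H1.NoethOpen

variable {R : Type*} [CommRing R]

theorem isOpen_of_generization_of_nhd [IsNoetherianRing R] (E : Set (PrimeSpectrum R))
    (hgen : ∀ x ∈ E, ∀ y : PrimeSpectrum R, y.asIdeal ≤ x.asIdeal → y ∈ E)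
    (hnhd : ∀ x ∈ E, ∃ g : R, g ∉ x.asIdeal ∧
      ∀ y : PrimeSpectrum R, x.asIdeal ≤ y.asIdeal → g ∉ y.asIdeal → y ∈ E) : IsOpen E := by
  classical
  rw [← isClosed_compl_iff, ← closure_eq_iff_isClosed, ← PrimeSpectrum.zeroLocus_vanishingIdeal_eq_closure]
  refine le_antisymm ?_ (PrimeSpectrum.subset_zeroLocus_vanishingIdeal _)
  obtain ⟨J, hJ⟩ : ∃ J : Ideal R, J = PrimeSpectrum.vanishingIdeal Eᶜ := ⟨_, rfl⟩
  rw [← hJ]
  have hfin : J.minimalPrimes.Finite := Ideal.finite_minimalPrimes_of_isNoetherianRing R J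
  -- every minimal prime over `J` lies in the complement
  have key : ∀ p (hp : p ∈ J.minimalPrimes), (⟨p, hp.1.1⟩ : PrimeSpectrum R) ∈ Eᶜ := by
    intro p hp
    haveI hpp : p.IsPrime := hp.1.1
    by_contra hpE
    rw [Set.notMem_compl_iff] at hpE
    obtain ⟨g, hgp, hg⟩ := hnhd _ hpE
    -- an element of all other minimal primes, outside `p`
    have hex : ∀ q : Ideal R, ∃ h : R, h ∉ p ∧ (q ∈ J.minimalPrimes → q ≠ p → h ∈ q) := by
      intro q
      by_cases hq : q ∈ J.minimalPrimes ∧ q ≠ p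
      · have hnle : ¬ q ≤ p := by
          intro hle
          exact hq.2 (le_antisymm hle (hp.2 hq.1.1 hle))
        obtain ⟨h, hhq, hhp⟩ := Set.not_subset.mp hnle
        exact ⟨h, hhp, fun _ _ => hhq⟩
      · exact ⟨1, fun h => hpp.ne_top ((Ideal.eq_top_iff_one _).mpr h),
          fun h1 h2 => absurd ⟨h1, h2⟩ hq⟩
    choose h hhp hhq using hex
    obtain ⟨h₀, hh₀⟩ : ∃ h₀ : R, h₀ = ∏ q ∈ hfin.toFinset, h q := ⟨_, rfl⟩
    have hh₀p : h₀ ∉ p := by
      rw [hh₀]
      intro hmem
      obtain ⟨q, _, hq⟩ := (hpp.prod_mem_iff).mp hmem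
      exact hhp q hq
    have hmem : g * h₀ ∈ J := by
      rw [hJ, PrimeSpectrum.mem_vanishingIdeal]
      intro z hz
      have hJz : J ≤ z.asIdeal := by
        rw [hJ]
        intro a ha
        exact (PrimeSpectrum.mem_vanishingIdeal _ _).mp ha z hz
      obtain ⟨q, hq, hqz⟩ := Ideal.exists_minimalPrimes_le hJz
      by_cases hqp : q = p
      · -- then `g ∈ z`
        have hgz : g ∈ z.asIdeal := by
          by_contra hgz
          exact hz (hg z (hqp ▸ hqz) hgz)
        exact Ideal.mul_mem_right _ _ hgz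
      · have h1 : h q ∈ q := hhq q hq hqp
        have h2 : h₀ ∈ q := by
          rw [hh₀, ← Finset.mul_prod_erase hfin.toFinset h (hfin.mem_toFinset.mpr hq)]
          exact Ideal.mul_mem_right _ _ h1
        exact Ideal.mul_mem_left _ _ (hqz h2)
    have : g * h₀ ∈ p := hp.1.2 hmem
    rcases hpp.mem_or_mem this with h1 | h1
    · exact hgp h1
    · exact hh₀p h1
  intro y hy
  have hJy : J ≤ y.asIdeal := by
    intro a ha
    exact hy ha
  obtain ⟨p, hp, hpy⟩ := Ideal.exists_minimalPrimes_le hJy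
  intro hyE
  exact key p hp (hgen y hyE ⟨p, hp.1.1⟩ hpy)

end Groth.Agent.H1.NoethOpen
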