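import Mathlib
import Groth.Agent.Lib.Helper1.FlatLocus
import Groth.Agent.Lib.Helper1.NoethOpen
import Groth.Agent.Lib.Helper1.GenFreeLoc

/-!
# Openness of the flat locus, Noetherian case

`A` Noetherian, `B` an `A`-algebra of finite type, `M` a finite `B`-module: the set of primes `q`
of `B` with `M_q` flat over `A` is open.
-/

set_option autoImplicit false

universe u

open TensorProduct Function

namespace Groth.Agent.H1.FlatLocus

open Groth.Agent.H1.GenFree

/-- any localization of `M` away from `f` is flat over `R` when `M` is generically free at `f`. -/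
theorem flat_of_genFreeAt {R : Type u} [CommRing R] {M : Type u} [AddCommGroup M] [Module R M]
    {f : R} (h : GenFreeAt R M f) {M' : Type*} [AddCommGroup M'] [Module R M'] (l : M →ₗ[R] M')
    [IsLocalizedModule (Submonoid.powers f) l] : Module.Flat R M' := by
  obtain ⟨N, _, _, _, Φ, hk, hc⟩ := h
  have := isLocalizedModule_comp f Φ hk hc l
  refine flat_of_forall_exists_smul (R := R) (B := R) (Submonoid.powers f) (l ∘ₗ Φ)
    fun I x hx => ?_
  have hinj : Injective (I.subtype.lTensor N) :=
    Module.Flat.iff_lTensor_injective'.mp inferInstance I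
  have : x = 0 := hinj (hx.trans (map_zero _).symm)
  exact ⟨1, one_mem _, by rw [this, smul_zero]⟩

section H1

variable {A B : Type u} [CommRing A] [CommRing B] [Algebra A B]
  {M : Type u} [AddCommGroup M] [Module A M] [Module B M] [IsScalarTower A B M]

/-- the `lTensor` of a localization map is a localization map -/
theorem isLocalizedModule_lTensor (T : Submonoid B) {M' : Type*} [AddCommGroup M'] [Module B M']
    (g : M →ₗ[B] M') [IsLocalizedModule T g] (N : Type*) [AddCommGroup N] [Module B N] :
    IsLocalizedModule T (g.lTensor N) := by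
  have h1 : IsLocalizedModule T (AlgebraTensorModule.rTensor B N g) := inferInstance
  have h2 : g.lTensor N = (TensorProduct.comm B M' N).toLinearMap ∘ₗ
      ((AlgebraTensorModule.rTensor B N g) ∘ₗ (TensorProduct.comm B N M).toLinearMap) := by
    ext n m
    simp
  rw [h2]
  haveI : IsLocalizedModule T ((AlgebraTensorModule.rTensor B N g) ∘ₗ
      (TensorProduct.comm B N M).toLinearMap) :=
    IsLocalizedModule.of_linearEquiv_right T _ _
  exact IsLocalizedModule.of_linearEquiv T _ _

/-- Generic flatness of the fibre, localized at a prime (`S` is a model of `(A/I) ⊗ B`). -/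
theorem flat_quotient_tensor_localizedModule (I : Ideal A) (f : A)
    (S : Type u) [CommRing S] [Algebra (A ⧸ I) S] [Algebra B S] [Algebra A S]
    [IsScalarTower A (A ⧸ I) S] [IsScalarTower A B S] [Algebra.IsPushout A (A ⧸ I) B S]
    (hfree : GenFreeAt (A ⧸ I) (S ⊗[B] M) (Ideal.Quotient.mk I f))
    (q : Ideal B) [q.IsPrime] (hfq : algebraMap A B f ∉ q) :
    Module.Flat (A ⧸ I) ((A ⧸ I) ⊗[A] LocalizedModule q.primeCompl M) := by
  -- the element of `S`
  have hfS : algebraMap (A ⧸ I) S (Ideal.Quotient.mk I f) = algebraMap B S (algebraMap A B f) := by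
    rw [← IsScalarTower.algebraMap_apply A B S, ← Ideal.Quotient.algebraMap_eq,
      ← IsScalarTower.algebraMap_apply A (A ⧸ I) S]
  -- Step 3: the localization away from `f` is flat
  let S₁ : Submonoid S := Submonoid.powers (algebraMap (A ⧸ I) S (Ideal.Quotient.mk I f))
  let l₁ := LocalizedModule.mkLinearMap S₁ (S ⊗[B] M)
  haveI : IsLocalizedModule (Submonoid.powers (Ideal.Quotient.mk I f))
      (l₁.restrictScalars (A ⧸ I)) :=
    IsLocalizedModule.restrictScalars_powers (Ideal.Quotient.mk I f) l₁
  haveI hflat₁ : Module.Flat (A ⧸ I) (LocalizedModule S₁ (S ⊗[B] M)) :=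
    flat_of_genFreeAt (M' := LocalizedModule S₁ (S ⊗[B] M)) hfree (l₁.restrictScalars (A ⧸ I))
  -- Step 1: localization at `q`
  let T : Submonoid B := q.primeCompl
  let g₀ : M →ₗ[B] LocalizedModule T M := LocalizedModule.mkLinearMap T M
  let g' : S ⊗[B] M →ₗ[S] S ⊗[B] LocalizedModule T M := g₀.baseChange _
  haveI hloc : IsLocalizedModule (Algebra.algebraMapSubmonoid S T) g' := by
    rw [IsLocalizedModule.restrictScalars_iff]
    have : g'.restrictScalars B = g₀.lTensor S := by
      ext; rfl
    rw [this]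
    exact isLocalizedModule_lTensor T g₀ _
  have hle : S₁ ≤ Algebra.algebraMapSubmonoid S T := by
    rw [Submonoid.powers_le]
    rw [hfS]
    exact Algebra.mem_algebraMapSubmonoid_of_mem (⟨algebraMap A B f, hfq⟩ : T)
  have hflat₂ : Module.Flat (A ⧸ I) (S ⊗[B] LocalizedModule T M) :=
    flat_of_isLocalizedModule_of_le (R := A ⧸ I) (B := S) (X := S ⊗[B] M)
      (X' := LocalizedModule S₁ (S ⊗[B] M)) (X'' := S ⊗[B] LocalizedModule T M) S₁ l₁ _ hle g'
  exact Module.Flat.of_linearEquiv
    (Algebra.IsPushout.cancelBaseChange A (A ⧸ I) B S (LocalizedModule T M)).symm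

end H1

section NO

variable {A B : Type u} [CommRing A] [CommRing B] [Algebra A B]
  {M : Type u} [AddCommGroup M] [Module A M] [Module B M] [IsScalarTower A B M]

attribute [local instance] Algebra.TensorProduct.rightAlgebra in
/-- abstract model of the fibre with generic freeness -/
theorem exists_genFreeAt_fibre [Algebra.FiniteType A B] [Module.Finite B M] (p : Ideal A)
    [p.IsPrime] :
    ∃ (S : Type u) (_ : CommRing S) (_ : Algebra (A ⧸ p) S) (_ : Algebra B S) (_ : Algebra A S)
      (_ : IsScalarTower A (A ⧸ p) S) (_ : IsScalarTower A B S)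
      (_ : Algebra.IsPushout A (A ⧸ p) B S) (f : A), f ∉ p ∧
      GenFreeAt (A ⧸ p) (S ⊗[B] M) (Ideal.Quotient.mk p f) := by
  obtain ⟨f', hf', hgood⟩ := exists_good (R := A ⧸ p) (S := (A ⧸ p) ⊗[A] B)
    (M := ((A ⧸ p) ⊗[A] B) ⊗[B] M) 1 one_ne_zero
  obtain ⟨f, rfl⟩ := Ideal.Quotient.mk_surjective f'
  rw [one_mul] at hf' hgood
  refine ⟨(A ⧸ p) ⊗[A] B, inferInstance, inferInstance, inferInstance, inferInstance,
    inferInstance, inferInstance, inferInstance, f, ?_, hgood.freeM⟩
  intro hfp
  exact hf' (Ideal.Quotient.eq_zero_iff_mem.mpr hfp)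

/-- **Openness of the flat locus (Noetherian case).** -/
theorem isOpen_flatLocus_of_noetherian [IsNoetherianRing A] [Algebra.FiniteType A B]
    [Module.Finite B M] :
    IsOpen {q : PrimeSpectrum B | Module.Flat A (LocalizedModule q.asIdeal.primeCompl M)} := by
  classical
  haveI : IsNoetherianRing B := Algebra.FiniteType.isNoetherianRing A B
  apply Groth.Agent.H1.NoethOpen.isOpen_of_generization_of_nhd
  · intro x hx y hyx
    have hx' : Module.Flat A (LocalizedModule x.asIdeal.primeCompl M) := hx
    have hle : x.asIdeal.primeCompl ≤ y.asIdeal.primeCompl := fun b hb hby => hb (hyx hby)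
    exact flat_of_isLocalizedModule_of_le (R := A) (B := B) (X := M)
      (X' := LocalizedModule x.asIdeal.primeCompl M)
      (X'' := LocalizedModule y.asIdeal.primeCompl M) x.asIdeal.primeCompl
      (LocalizedModule.mkLinearMap x.asIdeal.primeCompl M) y.asIdeal.primeCompl hle
      (LocalizedModule.mkLinearMap y.asIdeal.primeCompl M)
  · intro x hx
    have hx' : Module.Flat A (LocalizedModule x.asIdeal.primeCompl M) := hx
    obtain ⟨p, hp⟩ : ∃ p : Ideal A, p = x.asIdeal.comap (algebraMap A B) := ⟨_, rfl⟩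
    haveI : p.IsPrime := hp ▸ Ideal.comap_isPrime _ _
    have hpx : p.map (algebraMap A B) ≤ x.asIdeal := by
      rw [hp]; exact Ideal.map_comap_le
    obtain ⟨S, _, _, _, _, _, _, _, f, hfp, hfree⟩ := exists_genFreeAt_fibre (B := B) (M := M) p
    -- the Tor kernel
    haveI : Module.Finite B (M ⊗[A] p) := Groth.Agent.H1.finite_tensor_of_finite p
    obtain ⟨K, hK⟩ : ∃ K : Submodule B (M ⊗[A] p),
        K = LinearMap.ker (AlgebraTensorModule.lTensor B M p.subtype) := ⟨_, rfl⟩
    have hKfg : K.FG := IsNoetherian.noetherian K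
    obtain ⟨s, hs⟩ := hKfg
    have hmemK : ∀ z : M ⊗[A] p, z ∈ K ↔ p.subtype.lTensor M z = 0 := by
      intro z
      rw [hK, LinearMap.mem_ker]
      rfl
    have hex : ∀ z : M ⊗[A] p, ∃ t : B, t ∉ x.asIdeal ∧ (z ∈ K → t • z = 0) := by
      intro z
      by_cases hz : z ∈ K
      · obtain ⟨t, ht, htz⟩ := exists_smul_eq_zero_of_flat x.asIdeal.primeCompl
          (LocalizedModule.mkLinearMap x.asIdeal.primeCompl M) p z ((hmemK z).mp hz)
        exact ⟨t, ht, fun _ => htz⟩
      · exact ⟨1, fun h => x.isPrime.ne_top ((Ideal.eq_top_iff_one _).mpr h), fun h => absurd h hz⟩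
    choose t ht htz using hex
    obtain ⟨g₀, hg₀⟩ : ∃ g₀ : B, g₀ = ∏ z ∈ s, t z := ⟨_, rfl⟩
    have hg₀x : g₀ ∉ x.asIdeal := by
      rw [hg₀]
      intro hmem
      obtain ⟨z, _, hz⟩ := (x.isPrime.prod_mem_iff).mp hmem
      exact ht z hz
    have hg₀K : ∀ z ∈ K, g₀ • z = 0 := by
      intro z hz
      rw [← hs] at hz
      refine Submodule.span_induction ?_ ?_ ?_ ?_ hz
      · intro z hzs
        have hzK : z ∈ K := hs ▸ Submodule.subset_span hzs
        rw [hg₀, ← Finset.mul_prod_erase s t hzs, mul_comm, mul_smul, htz z hzK, smul_zero]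
      · exact smul_zero _
      · intro a b _ _ ha hb
        rw [smul_add, ha, hb, add_zero]
      · intro c a _ ha
        rw [smul_comm, ha, smul_zero]
    refine ⟨g₀ * algebraMap A B f, ?_, ?_⟩
    · intro hmem
      rcases x.isPrime.mem_or_mem hmem with h | h
      · exact hg₀x h
      · apply hfp
        rw [hp]
        exact h
    · intro y hxy hgy
      have hg₀y : g₀ ∉ y.asIdeal := fun h => hgy (Ideal.mul_mem_right _ _ h)
      have hfy : algebraMap A B f ∉ y.asIdeal := fun h => hgy (Ideal.mul_mem_left _ _ h)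
      haveI := flat_quotient_tensor_localizedModule (M := M) p f S hfree y.asIdeal hfy
      exact flat_localizedModule_of_tor p y.asIdeal (hpx.trans hxy)
        fun z hz => ⟨g₀, hg₀y, hg₀K z ((hmemK z).mpr hz)⟩

end NO

end Groth.Agent.H1.FlatLocus
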