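import Mathlib
import Groth.Agent.Lib.Helper1.FlatLocusNoeth

/-!
# Exactness of tensor products up to torsion

If `N_T` is flat over `D`, then `N ⊗ -` preserves exactness up to `T`-torsion.
Consequences for generic flatness of fibres.
-/

set_option autoImplicit false

universe u

open TensorProduct Function

namespace Groth.Agent.H1.TorsionExact

/-- (TE) If `N_T` is `D`-flat then `N ⊗ X → N ⊗ Y → N ⊗ Z` is exact up to `T`-torsion. -/
theorem exists_smul_eq_lTensor_of_exact {D : Type*} [CommRing D] (T : Submonoid D)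
    {N N' : Type*} [AddCommGroup N] [Module D N] [AddCommGroup N'] [Module D N']
    (l : N →ₗ[D] N') [IsLocalizedModule T l] [Module.Flat D N']
    {X Y Z : Type*} [AddCommGroup X] [Module D X] [AddCommGroup Y] [Module D Y]
    [AddCommGroup Z] [Module D Z]
    (f : X →ₗ[D] Y) (g : Y →ₗ[D] Z) (hex : Exact f g) (y : N ⊗[D] Y)
    (hy : g.lTensor N y = 0) : ∃ t ∈ T, ∃ x : N ⊗[D] X, f.lTensor N x = t • y := by
  have hex' : Exact (f.lTensor N') (g.lTensor N') := Module.Flat.lTensor_exact N' hex
  let lX := AlgebraTensorModule.rTensor D X l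
  let lY := AlgebraTensorModule.rTensor D Y l
  let lZ := AlgebraTensorModule.rTensor D Z l
  have hsqg : ∀ w : N ⊗[D] Y, g.lTensor N' (lY w) = lZ (g.lTensor N w) := by
    intro w
    induction w using TensorProduct.induction_on with
    | zero => simp
    | add a b ha hb => simp only [map_add, ha, hb]
    | tmul a b => simp [lY, lZ]
  have hsqf : ∀ w : N ⊗[D] X, f.lTensor N' (lX w) = lY (f.lTensor N w) := by
    intro w
    induction w using TensorProduct.induction_on with
    | zero => simp
    | add a b ha hb => simp only [map_add, ha, hb]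
    | tmul a b => simp [lX, lY]
  have h1 : g.lTensor N' (lY y) = 0 := by rw [hsqg, hy, map_zero]
  obtain ⟨x', hx'⟩ := (hex' _).mp h1
  obtain ⟨⟨x, t⟩, hxt⟩ := IsLocalizedModule.surj T lX x'
  -- `t • x' = lX x`
  have h2 : lY (f.lTensor N x) = lY ((t : D) • y) := by
    rw [← hsqf, ← hxt, Submonoid.smul_def, map_smul, hx', map_smul]
  obtain ⟨t', ht'⟩ := IsLocalizedModule.exists_of_eq (S := T) h2
  refine ⟨t' * t, (t' * t).2, (t' : D) • x, ?_⟩
  rw [map_smul, mul_smul]
  exact ht'

/-- The localization of a module over a domain at the nonzero elements is flat. -/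
theorem flat_of_isLocalizedModule_nonZeroDivisors {D : Type*} [CommRing D] [IsDomain D]
    {N N' : Type*} [AddCommGroup N] [Module D N] [AddCommGroup N'] [Module D N']
    (l : N →ₗ[D] N') [IsLocalizedModule (nonZeroDivisors D) l] : Module.Flat D N' := by
  have h1 : Module.Flat (FractionRing D) (LocalizedModule (nonZeroDivisors D) N) := inferInstance
  have h2 : Module.Flat D (LocalizedModule (nonZeroDivisors D) N) :=
    Module.Flat.trans D (FractionRing D) _
  exact Module.Flat.of_linearEquiv (IsLocalizedModule.iso (nonZeroDivisors D) l).symm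

/-- the `lTensor` of a localization map is a localization map (universe polymorphic) -/
theorem isLocalizedModule_lTensor {B : Type*} [CommRing B] {M : Type*} [AddCommGroup M]
    [Module B M] (T : Submonoid B) {M' : Type*} [AddCommGroup M'] [Module B M']
    (g : M →ₗ[B] M') [IsLocalizedModule T g] (N : Type*) [AddCommGroup N] [Module B N] :
    IsLocalizedModule T (g.lTensor N) := by
  have h1 : IsLocalizedModule T (AlgebraTensorModule.rTensor B N g) := inferInstance
  have h2 : g.lTensor N = (TensorProduct.comm B M' N).toLinearMap ∘ₗ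
      ((AlgebraTensorModule.rTensor B N g) ∘ₗ (TensorProduct.comm B N M).toLinearMap) := by
    ext n m
    simp
  rw [h2]
  haveI : IsLocalizedModule T ((AlgebraTensorModule.rTensor B N g) ∘ₗ
      (TensorProduct.comm B N M).toLinearMap) :=
    IsLocalizedModule.of_linearEquiv_right T _ _
  exact IsLocalizedModule.of_linearEquiv T _ _

/-- (a-abstract) A base change of a module over a domain `D₀`, localized at the nonzero elements
of `D₀`, is flat over the new base. -/
theorem flat_of_isBaseChange_of_isLocalizedModule {D₀ D₁ : Type*} [CommRing D₀] [IsDomain D₀]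
    [CommRing D₁] [Algebra D₀ D₁]
    {N₀ N₁ N₁' : Type*} [AddCommGroup N₀] [Module D₀ N₀] [AddCommGroup N₁] [Module D₀ N₁]
    [Module D₁ N₁] [IsScalarTower D₀ D₁ N₁]
    [AddCommGroup N₁'] [Module D₀ N₁'] [Module D₁ N₁'] [IsScalarTower D₀ D₁ N₁']
    (μ : N₀ →ₗ[D₀] N₁) (hμ : IsBaseChange D₁ μ) (l : N₁ →ₗ[D₁] N₁')
    [IsLocalizedModule (nonZeroDivisors D₀) (l.restrictScalars D₀)] : Module.Flat D₁ N₁' := by
  let T := nonZeroDivisors D₀
  let mk := LocalizedModule.mkLinearMap T N₀
  haveI : Module.Flat D₀ (LocalizedModule T N₀) := flat_of_isLocalizedModule_nonZeroDivisors mk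
  let S := Algebra.algebraMapSubmonoid D₁ T
  let f₁ : D₁ ⊗[D₀] N₀ →ₗ[D₁] D₁ ⊗[D₀] LocalizedModule T N₀ := mk.baseChange D₁
  haveI h1 : IsLocalizedModule S f₁ := by
    rw [IsLocalizedModule.restrictScalars_iff]
    have : f₁.restrictScalars D₀ = mk.lTensor D₁ := by
      ext; rfl
    rw [this]
    exact isLocalizedModule_lTensor T mk D₁
  haveI h2 : IsLocalizedModule S l := IsLocalizedModule.of_restrictScalars T l
  let f₂ : D₁ ⊗[D₀] N₀ →ₗ[D₁] N₁' := l ∘ₗ hμ.equiv.toLinearMap
  haveI h3 : IsLocalizedModule S f₂ := IsLocalizedModule.of_linearEquiv_right S l hμ.equiv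
  exact Module.Flat.of_linearEquiv (IsLocalizedModule.linearEquiv S f₂ f₁)

section aprime

variable {A B : Type*} [CommRing A] [CommRing B] [Algebra A B]
  {M : Type*} [AddCommGroup M] [Module A M] [Module B M] [IsScalarTower A B M]

/-- (a') Generic flatness of the fibre localized at a prime, from flatness of some smaller
localization of a model of the fibre module. -/
theorem flat_quotient_tensor_localizedModule_of_flat (I : Ideal A)
    (S : Type*) [CommRing S] [Algebra (A ⧸ I) S] [Algebra B S] [Algebra A S]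
    [IsScalarTower A (A ⧸ I) S] [IsScalarTower A B S] [Algebra.IsPushout A (A ⧸ I) B S]
    {N : Type*} [AddCommGroup N] [Module S N] [Module B N] [IsScalarTower B S N]
    [Module (A ⧸ I) N] [IsScalarTower (A ⧸ I) S N]
    (β : M →ₗ[B] N) (hβ : IsBaseChange S β)
    (q : Ideal B) [q.IsPrime] (T' : Submonoid S)
    (hT' : T' ≤ Algebra.algebraMapSubmonoid S q.primeCompl)
    {N' : Type*} [AddCommGroup N'] [Module S N'] [Module (A ⧸ I) N'] [IsScalarTower (A ⧸ I) S N']
    (l : N →ₗ[S] N') [IsLocalizedModule T' l] [Module.Flat (A ⧸ I) N'] :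
    Module.Flat (A ⧸ I) ((A ⧸ I) ⊗[A] LocalizedModule q.primeCompl M) := by
  let T : Submonoid B := q.primeCompl
  let g₀ : M →ₗ[B] LocalizedModule T M := LocalizedModule.mkLinearMap T M
  let g' : S ⊗[B] M →ₗ[S] S ⊗[B] LocalizedModule T M := g₀.baseChange _
  haveI hloc : IsLocalizedModule (Algebra.algebraMapSubmonoid S T) g' := by
    rw [IsLocalizedModule.restrictScalars_iff]
    have : g'.restrictScalars B = g₀.lTensor S := by
      ext; rfl
    rw [this]
    exact isLocalizedModule_lTensor T g₀ _
  let g'' : N →ₗ[S] S ⊗[B] LocalizedModule T M := g' ∘ₗ hβ.equiv.symm.toLinearMap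
  haveI hloc' : IsLocalizedModule (Algebra.algebraMapSubmonoid S T) g'' :=
    IsLocalizedModule.of_linearEquiv_right _ g' hβ.equiv.symm
  have hflat₂ : Module.Flat (A ⧸ I) (S ⊗[B] LocalizedModule T M) :=
    Groth.Agent.H1.FlatLocus.flat_of_isLocalizedModule_of_le (R := A ⧸ I) (B := S) (X := N)
      (X' := N') (X'' := S ⊗[B] LocalizedModule T M) T' l _ hT' g''
  exact Module.Flat.of_linearEquiv
    (Algebra.IsPushout.cancelBaseChange A (A ⧸ I) B S (LocalizedModule T M)).symm

end aprime

end Groth.Agent.H1.TorsionExact
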