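import Mathlib
import Groth.Agent.Lib.Helper1.PolyModel
import Groth.Agent.Lib.Helper1.TorsionExact
import Groth.Agent.Lib.Helper1.TorBridge

/-!
# Base change of `Tor₁(M, A/p)` in the polynomial model
-/

set_option autoImplicit false

universe u

open TensorProduct Function

namespace Groth.Agent.H1.LimFlat

open Groth.Agent.H1.PolyModel Groth.Agent.H1.TorsionExact

attribute [local instance] MvPolynomial.algebraMvPolynomial

section F2

variable {n : ℕ} {D₀ : Type u} [CommRing D₀] [IsDomain D₀] (D₁ : Type u) [CommRing D₁]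
  [Algebra D₀ D₁] (r t : ℕ) (k : Fin t → (Fin r → P n D₀))

/-- Syzygies over `D₁[X]` are, up to `D₀`-torsion, combinations of syzygies over `D₀[X]`. -/
theorem exists_smul_mem_span_syz (c : Fin t → P n D₁) (hc : kap r t (kmap D₁ r t k) c = 0) :
    ∃ d ∈ nonZeroDivisors D₀,
      d • c ∈ Submodule.span D₁ (vmap n t D₀ D₁ '' {σ | kap r t k σ = 0}) := by
  have hG := isBaseChange_vmap_restrictScalars n t D₀ D₁
  have hF := isBaseChange_vmap_restrictScalars n r D₀ D₁
  let κ₀ : (Fin t → P n D₀) →ₗ[D₀] (Fin r → P n D₀) := (kap r t k).restrictScalars D₀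
  let κ₁ : (Fin t → P n D₁) →ₗ[D₁] (Fin r → P n D₁) := (kap r t (kmap D₁ r t k)).restrictScalars D₁
  have nat : ∀ y : D₁ ⊗[D₀] (Fin t → P n D₀), hF.equiv (κ₀.lTensor D₁ y) = κ₁ (hG.equiv y) := by
    intro y
    induction y using TensorProduct.induction_on with
    | zero => simp
    | add a b ha hb => simp only [map_add, ha, hb]
    | tmul d g =>
      rw [LinearMap.lTensor_tmul, hF.equiv_tmul, hG.equiv_tmul, map_smul]
      congr 1
      exact vmap_kap D₁ r t k g
  let y := hG.equiv.symm c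
  have hy : κ₀.lTensor D₁ y = 0 := by
    apply hF.equiv.injective
    rw [nat, LinearEquiv.apply_symm_apply, map_zero]
    exact hc
  let l := LocalizedModule.mkLinearMap (nonZeroDivisors D₀) D₁
  haveI : Module.Flat D₀ (LocalizedModule (nonZeroDivisors D₀) D₁) :=
    flat_of_isLocalizedModule_nonZeroDivisors l
  obtain ⟨d, hd, x, hx⟩ := exists_smul_eq_lTensor_of_exact (nonZeroDivisors D₀) l
    (LinearMap.ker κ₀).subtype κ₀ (LinearMap.exact_subtype_ker_map κ₀) y hy
  refine ⟨d, hd, ?_⟩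
  have h1 : d • c = hG.equiv ((LinearMap.ker κ₀).subtype.lTensor D₁ x) := by
    rw [hx, ← LinearEquiv.coe_coe, LinearMap.map_smul_of_tower, LinearEquiv.coe_coe,
      LinearEquiv.apply_symm_apply]
  rw [h1]
  clear h1 hx
  induction x using TensorProduct.induction_on with
  | zero => simp
  | add a b ha hb => rw [map_add, map_add]; exact Submodule.add_mem _ ha hb
  | tmul e σ =>
    rw [LinearMap.lTensor_tmul, hG.equiv_tmul]
    refine Submodule.smul_mem _ _ (Submodule.subset_span ⟨σ.1, ?_, rfl⟩)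
    exact LinearMap.mem_ker.mp σ.2

end F2

section TorSurj

variable {n : ℕ} {A₀ : Type u} [CommRing A₀] (A₁ : Type u) [CommRing A₁] [Algebra A₀ A₁]
  (p₀ : Ideal A₀) [p₀.IsPrime] (r t : ℕ) (k₀ : Fin t → (Fin r → P n A₀))

/-- the set of elements of `K₀ ∩ p₀ F₀` -/
def torSet : Set (Fin r → P n A₀) :=
  {ξ | ξ ∈ LinearMap.range (kap r t k₀) ∧ ξ ∈ p₀ • (⊤ : Submodule A₀ (Fin r → P n A₀))}

/-- **Base change of `Tor₁`**, up to torsion: `K₁ ∩ I₁F₁` is generated, modulo `I₁K₁` and up to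
multiplication by elements outside `p₀`, by the image of `K₀ ∩ p₀F₀`. -/
theorem tor_surj (v : Fin r → P n A₁) (hv : v ∈ LinearMap.range (kap r t (kmap A₁ r t k₀)))
    (hvI : v ∈ (p₀.map (algebraMap A₀ A₁)) • (⊤ : Submodule A₁ (Fin r → P n A₁))) :
    ∃ a ∈ p₀.primeCompl, ∃ w ∈ Submodule.span A₁ (vmap n r A₀ A₁ '' torSet p₀ r t k₀),
      a • v - w ∈ (p₀.map (algebraMap A₀ A₁)) •
        (LinearMap.range (kap r t (kmap A₁ r t k₀))).restrictScalars A₁ := by
  obtain ⟨c, rfl⟩ := hv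
  let I₁ := p₀.map (algebraMap A₀ A₁)
  let D₀ := A₀ ⧸ p₀
  let D₁ := A₁ ⧸ I₁
  let k₁ := kmap A₁ r t k₀
  let W := Submodule.span A₁ (vmap n r A₀ A₁ '' torSet p₀ r t k₀)
  let cb : Fin t → P n D₁ := vmap n t A₁ D₁ c
  have hk1 : kmap D₁ r t (kmap D₀ r t k₀) = kmap D₁ r t k₁ := by
    rw [kmap_kmap, kmap_kmap]
  have h1 : kap r t (kmap D₁ r t (kmap D₀ r t k₀)) cb = 0 := by
    rw [hk1, ← vmap_kap]
    exact (vmap_quotient_eq_zero_iff n r A₁ I₁ _).mpr hvI
  obtain ⟨db, hdb, hmem⟩ := exists_smul_mem_span_syz D₁ r t (kmap D₀ r t k₀) cb h1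
  obtain ⟨a, rfl⟩ := Ideal.Quotient.mk_surjective db
  have ha : a ∈ p₀.primeCompl := by
    intro hap
    have : (Ideal.Quotient.mk p₀ a) = 0 := Ideal.Quotient.eq_zero_iff_mem.mpr hap
    exact nonZeroDivisors.ne_zero hdb this
  -- lifting elements of the span
  have key : ∀ x ∈ Submodule.span D₁ (vmap n t D₀ D₁ '' {σ | kap r t (kmap D₀ r t k₀) σ = 0}),
      ∃ σ' : Fin t → P n A₁, vmap n t A₁ D₁ σ' = x ∧ kap r t k₁ σ' ∈ W := by
    intro x hx
    induction hx using Submodule.span_induction with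
    | mem x hx =>
      obtain ⟨σb, hσb, rfl⟩ := hx
      obtain ⟨σ, rfl⟩ := vmap_surjective n t A₀ D₀ Ideal.Quotient.mk_surjective σb
      refine ⟨vmap n t A₀ A₁ σ, ?_, ?_⟩
      · rw [vmap_vmap, vmap_vmap]
      · have : kap r t k₁ (vmap n t A₀ A₁ σ) = vmap n r A₀ A₁ (kap r t k₀ σ) :=
          (vmap_kap A₁ r t k₀ σ).symm
        rw [this]
        refine Submodule.subset_span ⟨_, ⟨⟨σ, rfl⟩, ?_⟩, rfl⟩
        rw [← vmap_quotient_eq_zero_iff n r A₀ p₀, vmap_kap]
        exact hσb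
    | zero => exact ⟨0, map_zero _, by rw [map_zero]; exact Submodule.zero_mem _⟩
    | add x y _ _ hx hy =>
      obtain ⟨σx, rfl, hσx⟩ := hx
      obtain ⟨σy, rfl, hσy⟩ := hy
      exact ⟨σx + σy, map_add _ _ _, by rw [map_add]; exact Submodule.add_mem _ hσx hσy⟩
    | smul d x _ hx =>
      obtain ⟨σx, rfl, hσx⟩ := hx
      obtain ⟨b, rfl⟩ := Ideal.Quotient.mk_surjective d
      refine ⟨b • σx, vmap_smul_base n t A₁ D₁ b σx, ?_⟩
      rw [LinearMap.map_smul_of_tower]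
      exact Submodule.smul_mem _ _ hσx
  obtain ⟨σ', hσ', hσ'W⟩ := key _ hmem
  refine ⟨a, ha, kap r t k₁ σ', hσ'W, ?_⟩
  have he : a • c - σ' ∈ I₁ • (⊤ : Submodule A₁ (Fin t → P n A₁)) := by
    rw [← vmap_quotient_eq_zero_iff n t A₁ I₁, map_sub, hσ', sub_eq_zero,
      ← algebraMap_smul A₁ a c, vmap_smul_base, ← algebraMap_smul D₁ (Ideal.Quotient.mk p₀ a) cb]
    rfl
  have h2 : a • kap r t k₁ c - kap r t k₁ σ' = (kap r t k₁).restrictScalars A₁ (a • c - σ') := by
    rw [map_sub, LinearMap.restrictScalars_apply, LinearMap.restrictScalars_apply,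
      LinearMap.map_smul_of_tower]
  rw [h2]
  have h3 : I₁ • (LinearMap.range (kap r t k₁)).restrictScalars A₁ =
      (I₁ • (⊤ : Submodule A₁ (Fin t → P n A₁))).map ((kap r t k₁).restrictScalars A₁) := by
    rw [Submodule.map_smul'', Submodule.map_top]
    rfl
  rw [h3]
  exact Submodule.mem_map_of_mem he

end TorSurj

end Groth.Agent.H1.LimFlat
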