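import Mathlib
import Groth.Agent.Lib.Helper1.LimFlat1

/-!
# Flatness at a prime in the polynomial model over a Noetherian ring, via base change of `Tor₁`
-/

set_option autoImplicit false

universe u

open TensorProduct Function

namespace Groth.Agent.H1.LimFlat

open Groth.Agent.H1.PolyModel Groth.Agent.H1.TorsionExact

attribute [local instance] MvPolynomial.algebraMvPolynomial

section fibre

variable {n : ℕ} {A₀ : Type u} [CommRing A₀] (A₁ : Type u) [CommRing A₁] [Algebra A₀ A₁]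
  (p₀ : Ideal A₀) [p₀.IsPrime] (r t : ℕ) (k₀ : Fin t → (Fin r → P n A₀))

/-- the fibre of the localized model over `A₁/p₀A₁` is flat -/
theorem flat_fibre_model (q₁ : Ideal (P n A₁)) [q₁.IsPrime]
    (hq₁ : ∀ a : A₀, algebraMap A₀ (P n A₁) a ∈ q₁ → a ∈ p₀) :
    Module.Flat (A₁ ⧸ p₀.map (algebraMap A₀ A₁))
      ((A₁ ⧸ p₀.map (algebraMap A₀ A₁)) ⊗[A₁]
        LocalizedModule q₁.primeCompl (Mod r t (kmap A₁ r t k₀))) := by
  let I₁ := p₀.map (algebraMap A₀ A₁)
  let D₀ := A₀ ⧸ p₀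
  let D₁ := A₁ ⧸ I₁
  let k₁ := kmap A₁ r t k₀
  have hk1 : kmap D₁ r t (kmap D₀ r t k₀) = kmap D₁ r t k₁ := by
    rw [kmap_kmap, kmap_kmap]
  let T' : Submonoid (P n D₁) := Algebra.algebraMapSubmonoid (P n D₁) (nonZeroDivisors D₀)
  have hT' : T' ≤ Algebra.algebraMapSubmonoid (P n D₁) q₁.primeCompl := by
    rintro _ ⟨db, hdb, rfl⟩
    obtain ⟨a, rfl⟩ := Ideal.Quotient.mk_surjective db
    have ha : algebraMap A₀ (P n A₁) a ∈ q₁.primeCompl := by
      intro h
      have hap := hq₁ a h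
      have : (Ideal.Quotient.mk p₀ a) = 0 := Ideal.Quotient.eq_zero_iff_mem.mpr hap
      exact nonZeroDivisors.ne_zero hdb this
    refine ⟨algebraMap A₀ (P n A₁) a, ha, ?_⟩
    rw [MvPolynomial.algebraMap_def]
    rw [MvPolynomial.algebraMap_apply, MvPolynomial.map_C, MvPolynomial.algebraMap_apply]
    rfl
  have hflat : Module.Flat D₁ (LocalizedModule T' (Mod r t (kmap D₁ r t k₁))) := by
    rw [← hk1]
    let l := LocalizedModule.mkLinearMap T' (Mod r t (kmap D₁ r t (kmap D₀ r t k₀)))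
    haveI h1 : IsLocalizedModule (nonZeroDivisors D₀) (l.restrictScalars D₀) :=
      IsLocalizedModule.restrictScalars (nonZeroDivisors D₀) l
    haveI h2 : IsLocalizedModule (nonZeroDivisors D₀)
        ((l.restrictScalars D₁).restrictScalars D₀) := h1
    exact flat_of_isBaseChange_of_isLocalizedModule
      ((muM D₁ r t (kmap D₀ r t k₀)).restrictScalars D₀)
      (isBaseChange_muM_restrictScalars D₁ r t (kmap D₀ r t k₀)) (l.restrictScalars D₁)
  exact flat_quotient_tensor_localizedModule_of_flat (A := A₁) (B := P n A₁)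
    (M := Mod r t k₁) I₁ (P n D₁) (muM D₁ r t k₁) (isBaseChange_muM D₁ r t k₁) q₁ T' hT'
    (LocalizedModule.mkLinearMap T' (Mod r t (kmap D₁ r t k₁)))

/-- **L1.** Flatness of the localized model at a prime `q₁` over `p₀`, provided the image of
`K₀ ∩ p₀F₀` is `q₁`-torsion modulo `I₁K₁`. -/
theorem flat_localizedModule_model [IsNoetherianRing A₁] (q₁ : Ideal (P n A₁)) [q₁.IsPrime]
    (hq₁ : ∀ a : A₀, algebraMap A₀ (P n A₁) a ∈ q₁ ↔ a ∈ p₀)
    (h : ∀ ξ ∈ torSet p₀ r t k₀, ∃ s ∈ q₁.primeCompl, s • vmap n r A₀ A₁ ξ ∈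
      (p₀.map (algebraMap A₀ A₁)) • (LinearMap.range (kap r t (kmap A₁ r t k₀))).restrictScalars A₁) :
    Module.Flat A₁ (LocalizedModule q₁.primeCompl (Mod r t (kmap A₁ r t k₀))) := by
  let I₁ := p₀.map (algebraMap A₀ A₁)
  let k₁ := kmap A₁ r t k₀
  let K₁ := LinearMap.range (kap r t k₁)
  let IK : Submodule (P n A₁) (Fin r → P n A₁) := (I₁.map (algebraMap A₁ (P n A₁))) • K₁
  have hIK : ∀ x, x ∈ I₁ • K₁.restrictScalars A₁ ↔ x ∈ IK := by
    intro x
    rw [← Ideal.smul_restrictScalars, Submodule.restrictScalars_mem]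
  haveI := flat_fibre_model A₁ p₀ r t k₀ q₁ fun a ha => (hq₁ a).mp ha
  have hq : I₁.map (algebraMap A₁ (P n A₁)) ≤ q₁ := by
    rw [Ideal.map_map, ← IsScalarTower.algebraMap_eq, Ideal.map_le_iff_le_comap]
    intro a ha
    exact (hq₁ a).mpr ha
  refine Groth.Agent.H1.FlatLocus.flat_localizedModule_of_tor I₁ q₁ hq ?_
  refine Groth.Agent.H1.TorBridge.exists_smul_eq_zero_of_forall (proj r t k₁) I₁
    (proj_surjective r t k₁) q₁.primeCompl ?_
  intro v hv hvI
  rw [Submodule.ker_mkQ] at hv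
  rw [Submodule.ker_mkQ]
  obtain ⟨a, ha, w, hw, haw⟩ := tor_surj A₁ p₀ r t k₀ v hv hvI
  -- elements of `W` are torsion modulo `IK`
  have key : ∀ w ∈ Submodule.span A₁ (vmap n r A₀ A₁ '' torSet p₀ r t k₀),
      ∃ s ∈ q₁.primeCompl, s • w ∈ IK := by
    intro w hw
    induction hw using Submodule.span_induction with
    | mem x hx =>
      obtain ⟨ξ, hξ, rfl⟩ := hx
      obtain ⟨s, hs, hsξ⟩ := h ξ hξ
      exact ⟨s, hs, (hIK _).mp hsξ⟩
    | zero => exact ⟨1, Submonoid.one_mem _, by rw [smul_zero]; exact Submodule.zero_mem _⟩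
    | add x y _ _ hx hy =>
      obtain ⟨s, hs, hsx⟩ := hx
      obtain ⟨s', hs', hsy⟩ := hy
      refine ⟨s * s', Submonoid.mul_mem _ hs hs', ?_⟩
      rw [smul_add]
      refine Submodule.add_mem _ ?_ ?_
      · rw [mul_comm, mul_smul]
        exact Submodule.smul_mem _ _ hsx
      · rw [mul_smul]
        exact Submodule.smul_mem _ _ hsy
    | smul b x _ hx =>
      obtain ⟨s, hs, hsx⟩ := hx
      refine ⟨s, hs, ?_⟩
      rw [smul_comm, ← algebraMap_smul (P n A₁) b (s • x)]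
      exact Submodule.smul_mem _ _ hsx
  obtain ⟨s, hs, hsw⟩ := key w hw
  have ha' : algebraMap A₀ (P n A₁) a ∈ q₁.primeCompl := fun h' => ha ((hq₁ a).mp h')
  refine ⟨s * algebraMap A₀ (P n A₁) a, Submonoid.mul_mem _ hs ha', ?_⟩
  rw [hIK, mul_smul, algebraMap_smul]
  have : s • a • v = s • (a • v - w) + s • w := by
    rw [← smul_add, sub_add_cancel]
  rw [this]
  exact Submodule.add_mem _ (Submodule.smul_mem _ _ ((hIK _).mp haw)) hsw

end fibre

end Groth.Agent.H1.LimFlat
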