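import Mathlib
import Groth.Agent.Lib.Helper1.LimFlat2
import Groth.Agent.Lib.Helper1.FlatBCLoc

/-!
# Descending flatness at a prime to a finitely generated subring (polynomial model)
-/

set_option autoImplicit false

universe u

open TensorProduct Function

namespace Groth.Agent.H1.LimFlat

open Groth.Agent.H1.PolyModel Groth.Agent.H1.TorsionExact

attribute [local instance] MvPolynomial.algebraMvPolynomial

section aux

/-- elements of `I • ⊤` for a finitely generated ideal -/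
theorem exists_sum_of_mem_smul_top {R : Type*} [CommRing R] {m : ℕ} (e : Fin m → R)
    {G : Type*} [AddCommGroup G] [Module R G] (x : G)
    (hx : x ∈ Ideal.span (Set.range e) • (⊤ : Submodule R G)) :
    ∃ c : Fin m → G, x = ∑ l, e l • c l := by
  refine Submodule.smul_induction_on hx ?_ ?_
  · intro a ha g _
    obtain ⟨b, rfl⟩ := Ideal.mem_span_range_iff_exists_fun.mp ha
    refine ⟨fun l => b l • g, ?_⟩
    rw [Finset.sum_smul]
    refine Finset.sum_congr rfl fun l _ => ?_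
    rw [mul_comm, mul_smul]
  · rintro _ _ ⟨c, rfl⟩ ⟨c', rfl⟩
    refine ⟨fun l => c l + c' l, ?_⟩
    rw [← Finset.sum_add_distrib]
    refine Finset.sum_congr rfl fun l _ => ?_
    rw [smul_add]

end aux

section C1

variable {n : ℕ} {A₀ : Type u} [CommRing A₀] (A : Type u) [CommRing A] [Algebra A₀ A]
  (p₀ : Ideal A₀) (r t : ℕ) (k₀ : Fin t → (Fin r → P n A₀))

/-- the image of `K₀ ∩ p₀F₀` lies in `K ∩ IF` -/
theorem vmap_torSet_mem (ξ : Fin r → P n A₀) (hξ : ξ ∈ torSet p₀ r t k₀) :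
    vmap n r A₀ A ξ ∈ LinearMap.range (kap r t (kmap A r t k₀)) ∧
      vmap n r A₀ A ξ ∈ (p₀.map (algebraMap A₀ A)) • (⊤ : Submodule A (Fin r → P n A)) := by
  obtain ⟨⟨σ, rfl⟩, h2⟩ := hξ
  refine ⟨⟨vmap n t A₀ A σ, (vmap_kap A r t k₀ σ).symm⟩, ?_⟩
  refine Submodule.smul_induction_on h2 ?_ ?_
  · intro a ha f _
    rw [vmap_smul_base]
    exact Submodule.smul_mem_smul (Ideal.mem_map_of_mem _ ha) Submodule.mem_top
  · intro x y hx hy
    rw [map_add]
    exact Submodule.add_mem _ hx hy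

/-- **C1.** If the model localized at `q` is flat over `A`, the image of `K₀ ∩ p₀F₀` is
`q`-torsion modulo `IK`, with explicit witnesses. -/
theorem exists_witness (q : Ideal (P n A)) [q.IsPrime]
    [Module.Flat A (LocalizedModule q.primeCompl (Mod r t (kmap A r t k₀)))]
    {m' : ℕ} (e : Fin m' → A₀) (he : Ideal.span (Set.range e) = p₀)
    (ξ : Fin r → P n A₀) (hξ : ξ ∈ torSet p₀ r t k₀) :
    ∃ s ∈ q.primeCompl, ∃ c : Fin m' → (Fin t → P n A),
      kap r t (kmap A r t k₀) (∑ l, e l • c l) = s • vmap n r A₀ A ξ := by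
  let I := p₀.map (algebraMap A₀ A)
  let k := kmap A r t k₀
  obtain ⟨h1, h2⟩ := vmap_torSet_mem A p₀ r t k₀ ξ hξ
  have hker : LinearMap.ker (proj r t k) = LinearMap.range (kap r t k) := Submodule.ker_mkQ _
  obtain ⟨s, hs, hsk⟩ := Groth.Agent.H1.TorBridge.exists_smul_mem_of_forall (proj r t k) I
    (proj_surjective r t k) q.primeCompl
    (fun x hx => Groth.Agent.H1.FlatLocus.exists_smul_eq_zero_of_flat q.primeCompl
      (LocalizedModule.mkLinearMap q.primeCompl (Mod r t k)) I x hx)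
    (vmap n r A₀ A ξ) (hker.symm ▸ h1) h2
  rw [hker] at hsk
  have h3 : I • (LinearMap.range (kap r t k)).restrictScalars A =
      (I • (⊤ : Submodule A (Fin t → P n A))).map ((kap r t k).restrictScalars A) := by
    rw [Submodule.map_smul'', Submodule.map_top]
    rfl
  rw [h3] at hsk
  obtain ⟨c₀, hc₀, hc₀s⟩ := hsk
  have hI : I = Ideal.span (Set.range fun l => algebraMap A₀ A (e l)) := by
    change p₀.map (algebraMap A₀ A) = _
    rw [← he, Ideal.map_span, ← Set.range_comp]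
    rfl
  rw [hI] at hc₀
  obtain ⟨c, rfl⟩ := exists_sum_of_mem_smul_top _ c₀ hc₀
  refine ⟨s, hs, c, ?_⟩
  rw [← hc₀s]
  simp only [algebraMap_smul]
  rfl

end C1

section C2

variable {n : ℕ} {A₀ : Type u} [CommRing A₀] (A₁ A : Type u) [CommRing A₁] [CommRing A]
  [Algebra A₀ A₁] [Algebra A₁ A] [Algebra A₀ A] [IsScalarTower A₀ A₁ A]
  (p₀ : Ideal A₀) (r t : ℕ) (k₀ : Fin t → (Fin r → P n A₀))

/-- **C2.** A witness over `A` whose coefficients lie in `A₁` gives membership in `I₁K₁`. -/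
theorem smul_vmap_mem_of_witness (hinj : Injective (algebraMap A₁ A))
    {m' : ℕ} (e : Fin m' → A₀) (he : ∀ l, e l ∈ p₀) (ξ : Fin r → P n A₀)
    (s' : P n A₁) (c' : Fin m' → (Fin t → P n A₁))
    (h : kap r t (kmap A r t k₀) (∑ l, e l • vmap n t A₁ A (c' l)) =
      MvPolynomial.map (algebraMap A₁ A) s' • vmap n r A₀ A ξ) :
    s' • vmap n r A₀ A₁ ξ ∈ (p₀.map (algebraMap A₀ A₁)) •
      (LinearMap.range (kap r t (kmap A₁ r t k₀))).restrictScalars A₁ := by
  let I₁ := p₀.map (algebraMap A₀ A₁)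
  let k₁ := kmap A₁ r t k₀
  have h3 : I₁ • (LinearMap.range (kap r t k₁)).restrictScalars A₁ =
      (I₁ • (⊤ : Submodule A₁ (Fin t → P n A₁))).map ((kap r t k₁).restrictScalars A₁) := by
    rw [Submodule.map_smul'', Submodule.map_top]
    rfl
  have hk : kmap A r t k₁ = kmap A r t k₀ := kmap_kmap A₁ A r t k₀
  have heq : s' • vmap n r A₀ A₁ ξ = kap r t k₁ (∑ l, e l • c' l) := by
    apply vmap_injective n r A₁ A hinj
    have e1 : vmap n r A₁ A (s' • vmap n r A₀ A₁ ξ) =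
        MvPolynomial.map (algebraMap A₁ A) s' • vmap n r A₀ A ξ := by
      rw [vmap_smul', vmap_vmap n r A₀ A₁ A]
    have e2 : vmap n t A₁ A (∑ l, e l • c' l) = ∑ l, e l • vmap n t A₁ A (c' l) := by
      rw [map_sum]
      refine Finset.sum_congr rfl fun l _ => ?_
      rw [← algebraMap_smul A₁ (e l) (c' l), vmap_smul_base, ← IsScalarTower.algebraMap_apply,
        algebraMap_smul]
    rw [e1, vmap_kap A r t k₁, hk, e2, h]
  change _ ∈ I₁ • (LinearMap.range (kap r t k₁)).restrictScalars A₁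
  rw [heq, h3]
  refine Submodule.mem_map_of_mem (f := (kap r t k₁).restrictScalars A₁) ?_
  refine Submodule.sum_mem _ fun l _ => ?_
  rw [← algebraMap_smul A₁ (e l) (c' l)]
  exact Submodule.smul_mem_smul (Ideal.mem_map_of_mem _ (he l)) Submodule.mem_top

end C2

section C3

variable {n : ℕ} {A₀ : Type u} [CommRing A₀] (A₁ : Type u) [CommRing A₁] [Algebra A₀ A₁]
  (p₀ : Ideal A₀) (r t : ℕ) (k₀ : Fin t → (Fin r → P n A₀))

/-- **C3.** It suffices to check the torsion condition on generators. -/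
theorem forall_torSet_of_generators {m : ℕ} (ξ : Fin m → (Fin r → P n A₀))
    (hspan : ∀ x ∈ torSet p₀ r t k₀, x ∈ Submodule.span (P n A₀) (Set.range ξ))
    (q₁ : Ideal (P n A₁)) [q₁.IsPrime]
    (h : ∀ j, ∃ s ∈ q₁.primeCompl, s • vmap n r A₀ A₁ (ξ j) ∈ (p₀.map (algebraMap A₀ A₁)) •
      (LinearMap.range (kap r t (kmap A₁ r t k₀))).restrictScalars A₁) :
    ∀ x ∈ torSet p₀ r t k₀, ∃ s ∈ q₁.primeCompl, s • vmap n r A₀ A₁ x ∈
      (p₀.map (algebraMap A₀ A₁)) •
        (LinearMap.range (kap r t (kmap A₁ r t k₀))).restrictScalars A₁ := by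
  let I₁ := p₀.map (algebraMap A₀ A₁)
  let K₁ := LinearMap.range (kap r t (kmap A₁ r t k₀))
  let IK : Submodule (P n A₁) (Fin r → P n A₁) := (I₁.map (algebraMap A₁ (P n A₁))) • K₁
  have hIK : ∀ x, x ∈ I₁ • K₁.restrictScalars A₁ ↔ x ∈ IK := by
    intro x
    rw [← Ideal.smul_restrictScalars, Submodule.restrictScalars_mem]
  intro x hx
  have hx' := hspan x hx
  change ∃ s ∈ q₁.primeCompl, s • vmap n r A₀ A₁ x ∈ I₁ • K₁.restrictScalars A₁
  simp only [hIK]
  clear hx
  induction hx' using Submodule.span_induction with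
  | mem x hx =>
    obtain ⟨j, rfl⟩ := hx
    obtain ⟨s, hs, hsξ⟩ := h j
    exact ⟨s, hs, (hIK _).mp hsξ⟩
  | zero => exact ⟨1, Submonoid.one_mem _, by rw [map_zero, smul_zero]; exact Submodule.zero_mem _⟩
  | add x y _ _ hx hy =>
    obtain ⟨s, hs, hsx⟩ := hx
    obtain ⟨s', hs', hsy⟩ := hy
    refine ⟨s * s', Submonoid.mul_mem _ hs hs', ?_⟩
    rw [map_add, smul_add]
    refine Submodule.add_mem _ ?_ ?_
    · rw [mul_comm, mul_smul]
      exact Submodule.smul_mem _ _ hsx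
    · rw [mul_smul]
      exact Submodule.smul_mem _ _ hsy
  | smul b x _ hx =>
    obtain ⟨s, hs, hsx⟩ := hx
    refine ⟨s, hs, ?_⟩
    rw [vmap_smul', smul_comm]
    exact Submodule.smul_mem _ _ hsx

end C3

section lift

variable {A : Type u} [CommRing A] {n : ℕ}

/-- finitely many polynomials have their coefficients in a finitely generated subring -/
theorem exists_fg_ge_forall_mem_range (S₀ : Subalgebra ℤ A) (hS₀ : S₀.FG) (Q : Finset (P n A)) :
    ∃ S₁ : Subalgebra ℤ A, S₀ ≤ S₁ ∧ S₁.FG ∧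
      ∀ p ∈ Q, p ∈ Set.range (MvPolynomial.map (algebraMap S₁ A) : P n S₁ → P n A) := by
  classical
  let E : Finset A := Q.biUnion fun p => p.coeffs
  refine ⟨S₀ ⊔ Algebra.adjoin ℤ (E : Set A), le_sup_left,
    hS₀.sup (Subalgebra.fg_adjoin_finset E), ?_⟩
  intro p hp
  rw [MvPolynomial.mem_range_map_iff_coeffs_subset]
  intro a ha
  have : a ∈ (E : Set A) := by
    simp only [E, Finset.coe_biUnion, Set.mem_iUnion]
    exact ⟨p, hp, ha⟩
  exact ⟨⟨a, (le_sup_right : Algebra.adjoin ℤ (E : Set A) ≤ S₀ ⊔ Algebra.adjoin ℤ (E : Set A))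
    (Algebra.subset_adjoin this)⟩, rfl⟩

/-- a subalgebra of finite type over `ℤ` is Noetherian -/
theorem isNoetherianRing_of_fg (S : Subalgebra ℤ A) (hS : S.FG) : IsNoetherianRing S := by
  haveI : Algebra.FiniteType ℤ S := (Subalgebra.fg_iff_finiteType S).mp hS
  exact Algebra.FiniteType.isNoetherianRing ℤ S

/-- lifting a vector of polynomials -/
theorem exists_vmap_eq (S₁ : Subalgebra ℤ A) {m : ℕ} (v : Fin m → P n A)
    (hv : ∀ i, v i ∈ Set.range (MvPolynomial.map (algebraMap S₁ A) : P n S₁ → P n A)) :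
    ∃ v' : Fin m → P n S₁, vmap n m S₁ A v' = v := by
  choose v' hv' using hv
  exact ⟨v', funext hv'⟩

end lift

section core

variable {A : Type u} [CommRing A] {n : ℕ} (r t : ℕ)

/-- level zero: a finitely generated subring over which the presentation is defined -/
theorem exists_level_zero (k : Fin t → (Fin r → P n A)) (S₀ : Subalgebra ℤ A) (hS₀ : S₀.FG) :
    ∃ S₁ : Subalgebra ℤ A, S₀ ≤ S₁ ∧ S₁.FG ∧
      ∃ k₁ : Fin t → (Fin r → P n S₁), kmap A r t k₁ = k := by
  classical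
  let Q : Finset (P n A) := Finset.univ.image fun x : Fin t × Fin r => k x.1 x.2
  obtain ⟨S₁, h01, hS₁, hQ⟩ := exists_fg_ge_forall_mem_range S₀ hS₀ Q
  refine ⟨S₁, h01, hS₁, ?_⟩
  have : ∀ u, ∃ v' : Fin r → P n S₁, vmap n r S₁ A v' = k u := fun u =>
    exists_vmap_eq S₁ (k u) fun i => hQ _ (Finset.mem_image.mpr ⟨(u, i), Finset.mem_univ _, rfl⟩)
  choose k₁ hk₁ using this
  exact ⟨k₁, funext hk₁⟩

/-- **Core theorem.** If the model over `A`, localized at `q`, is `A`-flat, then over some finitely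
generated subring `S₁` the model is flat at all primes of a basic open neighbourhood of `q`. -/
theorem exists_fg_flat_nhd (k : Fin t → (Fin r → P n A)) (q : Ideal (P n A)) [q.IsPrime]
    [Module.Flat A (LocalizedModule q.primeCompl (Mod r t k))]
    (S : Subalgebra ℤ A) (hS : S.FG) :
    ∃ S₁ : Subalgebra ℤ A, S ≤ S₁ ∧ S₁.FG ∧ ∃ k₁ : Fin t → (Fin r → P n S₁),
      kmap A r t k₁ = k ∧ ∃ g₁ : P n S₁, MvPolynomial.map (algebraMap S₁ A) g₁ ∉ q ∧
        ∀ (q₁ : Ideal (P n S₁)) [q₁.IsPrime], g₁ ∉ q₁ →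
          Module.Flat S₁ (LocalizedModule q₁.primeCompl (Mod r t k₁)) := by
  classical
  -- level zero
  obtain ⟨S₀, hSS₀, hS₀, k₀, rfl⟩ := exists_level_zero r t k S hS
  haveI : IsNoetherianRing S₀ := isNoetherianRing_of_fg S₀ hS₀
  let p₀ : Ideal S₀ := q.comap (algebraMap S₀ (P n A))
  haveI : p₀.IsPrime := Ideal.comap_isPrime _ _
  obtain ⟨m', e, he⟩ := Submodule.fg_iff_exists_fin_generating_family.mp
    (IsNoetherian.noetherian p₀)
  -- generators of `K₀ ∩ p₀F₀`
  let Tor₀ : Submodule (P n S₀) (Fin r → P n S₀) := LinearMap.range (kap r t k₀) ⊓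
    (p₀.map (algebraMap S₀ (P n S₀))) • ⊤
  have hTor₀ : ∀ x, x ∈ torSet p₀ r t k₀ → x ∈ Tor₀ := by
    rintro x ⟨h1, h2⟩
    refine ⟨h1, ?_⟩
    have := Ideal.smul_restrictScalars p₀ (⊤ : Submodule (P n S₀) (Fin r → P n S₀))
    rw [Submodule.restrictScalars_top] at this
    rw [← this] at h2
    exact h2
  have hTor₀' : ∀ x, x ∈ Tor₀ → x ∈ torSet p₀ r t k₀ := by
    rintro x ⟨h1, h2⟩
    refine ⟨h1, ?_⟩
    have := Ideal.smul_restrictScalars p₀ (⊤ : Submodule (P n S₀) (Fin r → P n S₀))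
    rw [Submodule.restrictScalars_top] at this
    rw [← this]
    exact h2
  obtain ⟨m, ξ, hξ⟩ := Submodule.fg_iff_exists_fin_generating_family.mp
    (IsNoetherian.noetherian Tor₀)
  have hξmem : ∀ j, ξ j ∈ torSet p₀ r t k₀ := fun j =>
    hTor₀' _ (hξ ▸ Submodule.subset_span ⟨j, rfl⟩)
  -- witnesses over `A`
  have hw := fun j => exists_witness A p₀ r t k₀ q e he (ξ j) (hξmem j)
  choose s hs c hc using hw
  -- the finitely many polynomials involved
  let Q : Finset (P n A) := Finset.univ.image s ∪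
    Finset.univ.image fun x : Fin m × Fin m' × Fin t => c x.1 x.2.1 x.2.2
  obtain ⟨S₁, h01, hS₁, hQ⟩ := exists_fg_ge_forall_mem_range S₀ hS₀ Q
  haveI : IsNoetherianRing S₁ := isNoetherianRing_of_fg S₁ hS₁
  have hs' : ∀ j, ∃ s' : P n S₁, MvPolynomial.map (algebraMap S₁ A) s' = s j := fun j =>
    hQ _ (Finset.mem_union_left _ (Finset.mem_image.mpr ⟨j, Finset.mem_univ _, rfl⟩))
  choose s' hs'eq using hs'
  have hc' : ∀ j l, ∃ c' : Fin t → P n S₁, vmap n t S₁ A c' = c j l := fun j l =>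
    exists_vmap_eq S₁ (c j l) fun u => hQ _ (Finset.mem_union_right _
      (Finset.mem_image.mpr ⟨(j, l, u), Finset.mem_univ _, rfl⟩))
  choose c' hc'eq using hc'
  -- the algebra structure
  letI : Algebra S₀ S₁ := (Subalgebra.inclusion h01).toAlgebra
  haveI : IsScalarTower S₀ S₁ A := IsScalarTower.of_algebraMap_eq fun x => rfl
  have hinj : Injective (algebraMap S₁ A) := Subtype.val_injective
  let k₁ := kmap S₁ r t k₀
  have hk₁ : kmap A r t k₁ = kmap A r t k₀ := kmap_kmap S₁ A r t k₀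
  let q₁ : Ideal (P n S₁) := q.comap (algebraMap (P n S₁) (P n A))
  haveI : q₁.IsPrime := Ideal.comap_isPrime _ _
  have hq₁ : ∀ a : S₀, algebraMap S₀ (P n S₁) a ∈ q₁ ↔ a ∈ p₀ := by
    intro a
    change algebraMap (P n S₁) (P n A) (algebraMap S₀ (P n S₁) a) ∈ q ↔
      algebraMap S₀ (P n A) a ∈ q
    rw [MvPolynomial.algebraMap_def, MvPolynomial.algebraMap_apply, MvPolynomial.map_C,
      MvPolynomial.algebraMap_apply, ← IsScalarTower.algebraMap_apply]
  -- torsion condition on generators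
  have hgen : ∀ j, ∃ s₁ ∈ q₁.primeCompl, s₁ • vmap n r S₀ S₁ (ξ j) ∈
      (p₀.map (algebraMap S₀ S₁)) •
        (LinearMap.range (kap r t (kmap S₁ r t k₀))).restrictScalars S₁ := by
    intro j
    refine ⟨s' j, ?_, ?_⟩
    · change MvPolynomial.map (algebraMap S₁ A) (s' j) ∉ q
      rw [hs'eq]
      exact hs j
    · refine smul_vmap_mem_of_witness S₁ A p₀ r t k₀ hinj e
        (fun l => he ▸ Ideal.subset_span ⟨l, rfl⟩) (ξ j) (s' j) (c' j) ?_
      simp only [hc'eq, hs'eq]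
      exact hc j
  have hall := forall_torSet_of_generators S₁ p₀ r t k₀ ξ
    (fun x hx => hξ ▸ hTor₀ x hx) q₁ hgen
  have hflat : Module.Flat S₁ (LocalizedModule q₁.primeCompl (Mod r t k₁)) :=
    flat_localizedModule_model S₁ p₀ r t k₀ q₁ hq₁ hall
  -- openness over the Noetherian ring `S₁`
  have hopen := Groth.Agent.H1.FlatLocus.isOpen_flatLocus_of_noetherian (A := S₁)
    (B := P n S₁) (M := Mod r t k₁)
  obtain ⟨V, ⟨g₁, rfl⟩, hqV, hVU⟩ :=
    PrimeSpectrum.isTopologicalBasis_basic_opens.exists_subset_of_mem_open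
      (show (⟨q₁, inferInstance⟩ : PrimeSpectrum (P n S₁)) ∈ _ from hflat) hopen
  refine ⟨S₁, hSS₀.trans h01, hS₁, k₁, hk₁, g₁, hqV, ?_⟩
  intro q₁' _ hg
  exact hVU (show (⟨q₁', inferInstance⟩ : PrimeSpectrum (P n S₁)) ∈
    (PrimeSpectrum.basicOpen g₁ : Set _) from hg)

end core

end Groth.Agent.H1.LimFlat
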