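import Mathlib
import Groth.Agent.Lib.Helper1.LimFlat3

/-!
# Openness of the flat locus for finitely presented modules over finitely presented algebras
-/

set_option autoImplicit false

universe u

open TensorProduct Function

namespace Groth.Agent.H1.LimFlat

open Groth.Agent.H1.PolyModel Groth.Agent.H1.TorsionExact

attribute [local instance] MvPolynomial.algebraMvPolynomial

section model

variable {A : Type u} [CommRing A] {n : ℕ} (r t : ℕ)

/-- **Openness of the flat locus in the polynomial model.** -/
theorem exists_flat_nhd_model (k : Fin t → (Fin r → P n A)) (q : Ideal (P n A)) [q.IsPrime]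
    [Module.Flat A (LocalizedModule q.primeCompl (Mod r t k))] :
    ∃ g : P n A, g ∉ q ∧ ∀ (q' : Ideal (P n A)) [q'.IsPrime], g ∉ q' →
      Module.Flat A (LocalizedModule q'.primeCompl (Mod r t k)) := by
  obtain ⟨S₁, -, -, k₁, rfl, g₁, hg₁, hflat⟩ :=
    exists_fg_flat_nhd r t k q ⊥ Subalgebra.fg_bot
  refine ⟨MvPolynomial.map (algebraMap S₁ A) g₁, hg₁, ?_⟩
  intro q' _ hgq'
  let q₁ : Ideal (P n S₁) := q'.comap (algebraMap (P n S₁) (P n A))
  haveI : q₁.IsPrime := Ideal.comap_isPrime _ _
  have hgq₁ : g₁ ∉ q₁ := hgq'
  haveI := hflat q₁ hgq₁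
  exact Groth.Agent.H1.FlatBCLoc.flat_localized_of_isBaseChange (R := S₁) (R' := A)
    (B := P n S₁) (B' := P n A) (muM A r t k₁) (isBaseChange_muM_restrictScalars A r t k₁)
    q₁.primeCompl q'.primeCompl (fun s hs => hs)
    (LocalizedModule.mkLinearMap q₁.primeCompl (Mod r t k₁))
    (LocalizedModule.mkLinearMap q'.primeCompl (Mod r t (kmap A r t k₁)))

end model

section transfer

/-- the flat locus of a module over a quotient ring can be computed over the ring -/
theorem flat_localizedModule_comap_iff {R P S : Type*} [CommRing R] [CommRing P] [CommRing S]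
    [Algebra R P] [Algebra R S] [Algebra P S] [IsScalarTower R P S]
    (hsurj : Surjective (algebraMap P S)) {M : Type*} [AddCommGroup M] [Module R M] [Module P M]
    [Module S M] [IsScalarTower P S M] [IsScalarTower R S M] [IsScalarTower R P M]
    (q : Ideal S) [q.IsPrime] :
    Module.Flat R (LocalizedModule (q.comap (algebraMap P S)).primeCompl M) ↔
      Module.Flat R (LocalizedModule q.primeCompl M) := by
  constructor
  · intro h
    refine Groth.Agent.H1.FlatLocus.flat_of_forall_exists_smul (R := R) (B := S) q.primeCompl
      (LocalizedModule.mkLinearMap q.primeCompl M) fun I x hx => ?_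
    obtain ⟨p, hp, hpx⟩ := Groth.Agent.H1.FlatLocus.exists_smul_eq_zero_of_flat (R := R) (B := P)
      (q.comap (algebraMap P S)).primeCompl
      (LocalizedModule.mkLinearMap (q.comap (algebraMap P S)).primeCompl M) I x hx
    exact ⟨algebraMap P S p, hp, by rw [algebraMap_smul]; exact hpx⟩
  · intro h
    refine Groth.Agent.H1.FlatLocus.flat_of_forall_exists_smul (R := R) (B := P)
      (q.comap (algebraMap P S)).primeCompl
      (LocalizedModule.mkLinearMap (q.comap (algebraMap P S)).primeCompl M) fun I x hx => ?_
    obtain ⟨s, hs, hsx⟩ := Groth.Agent.H1.FlatLocus.exists_smul_eq_zero_of_flat (R := R) (B := S)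
      q.primeCompl (LocalizedModule.mkLinearMap q.primeCompl M) I x hx
    obtain ⟨p, rfl⟩ := hsurj s
    exact ⟨p, hs, by rw [← algebraMap_smul S p x]; exact hsx⟩

/-- the flat locus is invariant under isomorphism -/
theorem flat_localizedModule_congr {R B : Type*} [CommRing R] [CommRing B] [Algebra R B]
    (T : Submonoid B) {M M' : Type*} [AddCommGroup M] [Module R M] [Module B M]
    [IsScalarTower R B M] [AddCommGroup M'] [Module R M'] [Module B M'] [IsScalarTower R B M']
    (e : M ≃ₗ[B] M') [Module.Flat R (LocalizedModule T M)] :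
    Module.Flat R (LocalizedModule T M') := by
  haveI : IsLocalizedModule T ((LocalizedModule.mkLinearMap T M') ∘ₗ e.toLinearMap) :=
    IsLocalizedModule.of_linearEquiv_right T _ e
  exact Groth.Agent.H1.FlatLocus.flat_of_isLocalizedModule_of_le (R := R) (B := B) (X := M)
    (X' := LocalizedModule T M) (X'' := LocalizedModule T M') T
    (LocalizedModule.mkLinearMap T M) T le_rfl
    ((LocalizedModule.mkLinearMap T M') ∘ₗ e.toLinearMap)

end transfer

section fp

variable {R S M : Type u} [CommRing R] [CommRing S] [Algebra R S]
  [AddCommGroup M] [Module S M] [Module R M] [IsScalarTower R S M]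

/-- a finitely presented module over a quotient of a polynomial ring by a finitely generated ideal
is a model module -/
theorem exists_model_equiv {n : ℕ} [Algebra (P n R) S] [IsScalarTower R (P n R) S]
    [Module (P n R) M] [IsScalarTower (P n R) S M]
    (hsurj : Surjective (algebraMap (P n R) S)) (hker : (RingHom.ker (algebraMap (P n R) S)).FG)
    [Module.FinitePresentation S M] :
    ∃ (r t : ℕ) (k : Fin t → (Fin r → P n R)), Nonempty (Mod r t k ≃ₗ[P n R] M) := by
  haveI : Module.FinitePresentation (P n R) S := by
    refine Module.finitePresentation_of_surjective (Algebra.linearMap (P n R) S) hsurj ?_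
    exact hker
  haveI : Module.FinitePresentation (P n R) M := Module.FinitePresentation.trans (P n R) M S
  obtain ⟨r, t, f, g, hf, hfg⟩ := Module.FinitePresentation.exists_fin' (P n R) M
  let k : Fin t → (Fin r → P n R) := fun u => g (Pi.single u 1)
  have hk : kap r t k = g := by
    refine LinearMap.pi_ext' fun u => LinearMap.ext_ring ?_
    simp [kap, k, Fintype.linearCombination_apply_single]
  have hker' : LinearMap.range (kap r t k) = LinearMap.ker f := by
    rw [hk]
    exact (LinearMap.exact_iff.mp hfg).symm
  exact ⟨r, t, k, ⟨(Submodule.quotEquivOfEq _ _ hker').trans (f.quotKerEquivOfSurjective hf)⟩⟩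

/-- **Openness of the flat locus** (finite presentation), neighbourhood form. -/
theorem exists_flat_nhd_of_finitePresentation [Algebra.FinitePresentation R S]
    [Module.FinitePresentation S M] (q : Ideal S) [q.IsPrime]
    [Module.Flat R (LocalizedModule q.primeCompl M)] :
    ∃ g : S, g ∉ q ∧ ∀ (q' : Ideal S) [q'.IsPrime], g ∉ q' →
      Module.Flat R (LocalizedModule q'.primeCompl M) := by
  obtain ⟨n, φ, hφ, hker⟩ := Algebra.FinitePresentation.out (R := R) (A := S)
  letI algPS : Algebra (P n R) S := φ.toRingHom.toAlgebra
  haveI : IsScalarTower R (P n R) S := IsScalarTower.of_algebraMap_eq fun x => (φ.commutes x).symm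
  letI modPM : Module (P n R) M := Module.compHom M (algebraMap (P n R) S)
  haveI : IsScalarTower (P n R) S M :=
    ⟨fun p s m => by
      change (algebraMap (P n R) S p * s) • m = algebraMap (P n R) S p • (s • m)
      rw [mul_smul]⟩
  haveI : IsScalarTower R (P n R) M := IsScalarTower.of_algebraMap_smul fun a m => by
    change algebraMap (P n R) S (algebraMap R (P n R) a) • m = a • m
    rw [← IsScalarTower.algebraMap_apply, algebraMap_smul]
  have hsurj : Surjective (algebraMap (P n R) S) := hφ
  obtain ⟨r, t, k, ⟨e⟩⟩ := exists_model_equiv (R := R) (S := S) (M := M) hsurj hker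
  let q₀ : Ideal (P n R) := q.comap (algebraMap (P n R) S)
  haveI : Module.Flat R (LocalizedModule q₀.primeCompl M) :=
    (flat_localizedModule_comap_iff (R := R) hsurj q).mpr inferInstance
  haveI : Module.Flat R (LocalizedModule q₀.primeCompl (Mod r t k)) :=
    flat_localizedModule_congr (R := R) q₀.primeCompl e.symm
  obtain ⟨g, hg, hflat⟩ := exists_flat_nhd_model r t k q₀
  refine ⟨algebraMap (P n R) S g, hg, ?_⟩
  intro q' _ hgq'
  let q₀' : Ideal (P n R) := q'.comap (algebraMap (P n R) S)
  haveI := hflat q₀' hgq'
  haveI : Module.Flat R (LocalizedModule q₀'.primeCompl M) :=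
    flat_localizedModule_congr (R := R) q₀'.primeCompl e
  exact (flat_localizedModule_comap_iff (R := R) hsurj q').mp inferInstance

/-- **Openness of the flat locus** (finite presentation). -/
theorem isOpen_flatLocus_of_finitePresentation [Algebra.FinitePresentation R S]
    [Module.FinitePresentation S M] :
    IsOpen {q : PrimeSpectrum S | Module.Flat R (LocalizedModule q.asIdeal.primeCompl M)} := by
  rw [isOpen_iff_forall_mem_open]
  intro q hq
  haveI : Module.Flat R (LocalizedModule q.asIdeal.primeCompl M) := hq
  obtain ⟨g, hg, hflat⟩ := exists_flat_nhd_of_finitePresentation (R := R) (M := M) q.asIdeal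
  exact ⟨PrimeSpectrum.basicOpen g, fun q' hq' => hflat q'.asIdeal hq',
    (PrimeSpectrum.basicOpen g).isOpen, hg⟩

end fp

end Groth.Agent.H1.LimFlat
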