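import Mathlib
import Groth.Agent.Lib.Helper1.LimFlat4

/-!
# Global descent of flatness to a finitely generated subring (polynomial model)
-/

set_option autoImplicit false

universe u

open TensorProduct Function

namespace Groth.Agent.H1.LimFlat

open Groth.Agent.H1.PolyModel Groth.Agent.H1.TorsionExact

attribute [local instance] MvPolynomial.algebraMvPolynomial

section global

variable {A : Type u} [CommRing A] {n : ℕ} (r t : ℕ)

/-- passing from a ring to a bigger one (abstract version) -/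
theorem flat_localized_of_algebra {R₁ R₂ : Type u} [CommRing R₁] [CommRing R₂] [Algebra R₁ R₂]
    [Algebra R₂ A] [Algebra R₁ A] [IsScalarTower R₁ R₂ A] (hinj : Injective (algebraMap R₂ A))
    (k₁ : Fin t → (Fin r → P n R₁)) (k₂ : Fin t → (Fin r → P n R₂))
    (hk : kmap A r t k₂ = kmap A r t k₁) (g₁ : P n R₁)
    (hflat : ∀ (q₁ : Ideal (P n R₁)) [q₁.IsPrime], g₁ ∉ q₁ →
      Module.Flat R₁ (LocalizedModule q₁.primeCompl (Mod r t k₁)))
    (Q : Ideal (P n R₂)) [Q.IsPrime]
    (hQ : MvPolynomial.map (algebraMap R₁ R₂) g₁ ∉ Q) :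
    Module.Flat R₂ (LocalizedModule Q.primeCompl (Mod r t k₂)) := by
  have hk₂ : k₂ = kmap R₂ r t k₁ := by
    funext u
    apply vmap_injective n r R₂ A hinj
    have h1 := congrFun hk u
    have h2 := congrFun (kmap_kmap R₂ A r t k₁) u
    exact h1.trans h2.symm
  subst hk₂
  let q₁ : Ideal (P n R₁) := Q.comap (algebraMap (P n R₁) (P n R₂))
  haveI : q₁.IsPrime := Ideal.comap_isPrime _ _
  have hgq₁ : g₁ ∉ q₁ := hQ
  haveI := hflat q₁ hgq₁
  exact Groth.Agent.H1.FlatBCLoc.flat_localized_of_isBaseChange (R := R₁) (R' := R₂)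
    (B := P n R₁) (B' := P n R₂) (muM R₂ r t k₁) (isBaseChange_muM_restrictScalars R₂ r t k₁)
    q₁.primeCompl Q.primeCompl (fun s hs => hs)
    (LocalizedModule.mkLinearMap q₁.primeCompl (Mod r t k₁))
    (LocalizedModule.mkLinearMap Q.primeCompl (Mod r t (kmap R₂ r t k₁)))

/-- passing from a subring to a bigger one -/
theorem flat_localized_of_le (S₁ S₂ : Subalgebra ℤ A) (h : S₁ ≤ S₂)
    (k₁ : Fin t → (Fin r → P n S₁)) (k₂ : Fin t → (Fin r → P n S₂))
    (hk : kmap A r t k₂ = kmap A r t k₁) (g₁ : P n S₁)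
    (hflat : ∀ (q₁ : Ideal (P n S₁)) [q₁.IsPrime], g₁ ∉ q₁ →
      Module.Flat S₁ (LocalizedModule q₁.primeCompl (Mod r t k₁)))
    (Q : Ideal (P n S₂)) [Q.IsPrime]
    (hQ : MvPolynomial.map (Subalgebra.inclusion h).toRingHom g₁ ∉ Q) :
    Module.Flat S₂ (LocalizedModule Q.primeCompl (Mod r t k₂)) := by
  letI : Algebra S₁ S₂ := (Subalgebra.inclusion h).toAlgebra
  haveI : IsScalarTower S₁ S₂ A := IsScalarTower.of_algebraMap_eq fun x => rfl
  exact flat_localized_of_algebra r t (R₁ := S₁) (R₂ := S₂) Subtype.val_injective k₁ k₂ hk g₁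
    hflat Q hQ

/-- a localization of a flat module over a bigger ring is flat over the base -/
theorem flat_localizedModule_of_flat {R B : Type*} [CommRing R] [CommRing B] [Algebra R B]
    {M : Type*} [AddCommGroup M] [Module R M] [Module B M] [IsScalarTower R B M]
    [Module.Flat R M] (T : Submonoid B) : Module.Flat R (LocalizedModule T M) := by
  refine Groth.Agent.H1.FlatLocus.flat_of_forall_exists_smul (R := R) (B := B) T
    (LocalizedModule.mkLinearMap T M) fun I x hx => ⟨1, T.one_mem, ?_⟩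
  have hinj : Injective (I.subtype.lTensor M) :=
    Module.Flat.iff_lTensor_injective'.mp inferInstance I
  rw [one_smul]
  exact hinj (hx.trans (map_zero _).symm)

theorem fg_finset_sup {ι : Type*} (s : Finset ι) (S : ι → Subalgebra ℤ A)
    (h : ∀ i ∈ s, (S i).FG) : (s.sup S).FG := by
  classical
  induction s using Finset.induction_on with
  | empty => simpa using Subalgebra.fg_bot
  | insert a s _ ih =>
    rw [Finset.sup_insert]
    exact (h a (Finset.mem_insert_self a s)).sup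
      (ih fun i hi => h i (Finset.mem_insert_of_mem hi))

/-- **Global descent.** If the model is flat over `A`, it is already flat over a finitely
generated subring. -/
theorem exists_fg_flat_model (k : Fin t → (Fin r → P n A)) [Module.Flat A (Mod r t k)] :
    ∃ S₂ : Subalgebra ℤ A, S₂.FG ∧ ∃ k₂ : Fin t → (Fin r → P n S₂), kmap A r t k₂ = k ∧
      Module.Flat S₂ (Mod r t k₂) := by
  classical
  -- level zero
  obtain ⟨S₀, -, hS₀, k₀, hk₀⟩ := exists_level_zero r t k ⊥ Subalgebra.fg_bot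
  -- local data at each prime
  have hloc : ∀ q : PrimeSpectrum (P n A), ∃ S₁ : Subalgebra ℤ A, S₀ ≤ S₁ ∧ S₁.FG ∧
      ∃ k₁ : Fin t → (Fin r → P n S₁), kmap A r t k₁ = k ∧ ∃ g₁ : P n S₁,
        MvPolynomial.map (algebraMap S₁ A) g₁ ∉ q.asIdeal ∧
        ∀ (q₁ : Ideal (P n S₁)) [q₁.IsPrime], g₁ ∉ q₁ →
          Module.Flat S₁ (LocalizedModule q₁.primeCompl (Mod r t k₁)) := by
    intro q
    haveI : Module.Flat A (LocalizedModule q.asIdeal.primeCompl (Mod r t k)) :=
      flat_localizedModule_of_flat (R := A) (B := P n A) q.asIdeal.primeCompl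
    exact exists_fg_flat_nhd r t k q.asIdeal S₀ hS₀
  choose S₁ hS₀₁ hS₁ k₁ hk₁ g₁ hg₁ hflat using hloc
  -- the unit ideal
  let v : PrimeSpectrum (P n A) → P n A := fun q => MvPolynomial.map (algebraMap (S₁ q) A) (g₁ q)
  have htop : Ideal.span (v '' Set.univ) = ⊤ := by
    by_contra hne
    obtain ⟨m, hm, hle⟩ := Ideal.exists_le_maximal _ hne
    exact hg₁ ⟨m, hm.isPrime⟩ (hle (Ideal.subset_span ⟨⟨m, hm.isPrime⟩, Set.mem_univ _, rfl⟩))
  have h1 : (1 : P n A) ∈ Submodule.span (P n A) (v '' Set.univ) := by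
    change (1 : P n A) ∈ Ideal.span (v '' Set.univ)
    rw [htop]; exact Submodule.mem_top
  obtain ⟨Qs, -, c, hc⟩ := (Submodule.mem_span_image_iff_exists_fun (P n A)).mp h1
  -- the big subring
  let T₀ : Subalgebra ℤ A := S₀ ⊔ Qs.sup S₁
  have hT₀ : T₀.FG := hS₀.sup (fg_finset_sup Qs S₁ fun q _ => hS₁ q)
  obtain ⟨S₂, hT₀S₂, hS₂, hQ⟩ := exists_fg_ge_forall_mem_range T₀ hT₀ (Finset.univ.image c)
  have hS₀S₂ : S₀ ≤ S₂ := le_sup_left.trans hT₀S₂
  have hS₁S₂ : ∀ q ∈ Qs, S₁ q ≤ S₂ := fun q hq =>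
    (Finset.le_sup (f := S₁) hq).trans (le_sup_right.trans hT₀S₂)
  have hc' : ∀ i : Qs, ∃ c' : P n S₂, MvPolynomial.map (algebraMap S₂ A) c' = c i := fun i =>
    hQ _ (Finset.mem_image.mpr ⟨i, Finset.mem_univ _, rfl⟩)
  choose c' hc'eq using hc'
  -- generators over `S₂`
  letI alg02 : Algebra S₀ S₂ := (Subalgebra.inclusion hS₀S₂).toAlgebra
  haveI : IsScalarTower S₀ S₂ A := IsScalarTower.of_algebraMap_eq fun x => rfl
  let k₂ : Fin t → (Fin r → P n S₂) := kmap S₂ r t k₀
  have hk₂ : kmap A r t k₂ = k := (kmap_kmap S₂ A r t k₀).trans hk₀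
  refine ⟨S₂, hS₂, k₂, hk₂, ?_⟩
  have hinj : Injective (MvPolynomial.map (algebraMap S₂ A) : P n S₂ → P n A) :=
    MvPolynomial.map_injective _ Subtype.val_injective
  -- the partition of unity over `S₂`
  have hone : ∑ i : Qs, c' i * MvPolynomial.map (Subalgebra.inclusion (hS₁S₂ i.1 i.2)).toRingHom
      (g₁ i.1) = 1 := by
    apply hinj
    rw [map_sum, map_one, ← hc]
    refine Finset.sum_congr rfl fun i _ => ?_
    rw [map_mul, hc'eq, MvPolynomial.map_map, smul_eq_mul]
    rfl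
  refine Groth.Agent.H1.FlatBCLoc.flat_of_forall_flat_localizedModule_prime (A := S₂)
    (B := P n S₂) fun Q _ => ?_
  have hex : ∃ i : Qs, MvPolynomial.map (Subalgebra.inclusion (hS₁S₂ i.1 i.2)).toRingHom
      (g₁ i.1) ∉ Q := by
    by_contra hno
    push_neg at hno
    have : (1 : P n S₂) ∈ Q := by
      rw [← hone]
      exact Ideal.sum_mem _ fun i _ => Ideal.mul_mem_left _ _ (hno i)
    exact (Ideal.IsPrime.ne_top inferInstance) ((Ideal.eq_top_iff_one Q).mpr this)
  obtain ⟨i, hi⟩ := hex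
  exact flat_localized_of_le r t (S₁ i.1) S₂ (hS₁S₂ i.1 i.2) (k₁ i.1) k₂
    (hk₂.trans (hk₁ i.1).symm) (g₁ i.1) (hflat i.1) Q hi

end global

end Groth.Agent.H1.LimFlat
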