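import Mathlib
import Groth.Agent.Lib.Helper1.LimFlat5

/-!
# Finitely presented modules over finitely presented algebras as model modules (over the base)
-/

set_option autoImplicit false

universe u

open TensorProduct Function

namespace Groth.Agent.H1.LimFlat

open Groth.Agent.H1.PolyModel

attribute [local instance] MvPolynomial.algebraMvPolynomial

section

variable {R S M : Type u} [CommRing R] [CommRing S] [Algebra R S]
  [AddCommGroup M] [Module S M] [Module R M] [IsScalarTower R S M]

/-- A finitely presented module over a finitely presented algebra is, as a module over the base,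
a model module. -/
theorem exists_model_of_fp [Algebra.FinitePresentation R S] [Module.FinitePresentation S M] :
    ∃ (n r t : ℕ) (k : Fin t → (Fin r → P n R)), Nonempty (Mod r t k ≃ₗ[R] M) := by
  obtain ⟨n, φ, hφ, hker⟩ := Algebra.FinitePresentation.out (R := R) (A := S)
  letI algPS : Algebra (P n R) S := φ.toRingHom.toAlgebra
  haveI : IsScalarTower R (P n R) S := IsScalarTower.of_algebraMap_eq fun x => (φ.commutes x).symm
  letI modPM : Module (P n R) M := Module.compHom M (algebraMap (P n R) S)
  haveI : IsScalarTower (P n R) S M :=
    ⟨fun p s m => by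
      change (algebraMap (P n R) S p * s) • m = algebraMap (P n R) S p • (s • m)
      rw [mul_smul]⟩
  haveI : IsScalarTower R (P n R) M := IsScalarTower.of_algebraMap_smul fun a m => by
    change algebraMap (P n R) S (algebraMap R (P n R) a) • m = a • m
    rw [← IsScalarTower.algebraMap_apply, algebraMap_smul]
  have hsurj : Surjective (algebraMap (P n R) S) := hφ
  obtain ⟨r, t, k, ⟨e⟩⟩ := exists_model_equiv (R := R) (S := S) (M := M) hsurj hker
  exact ⟨n, r, t, k, ⟨e.restrictScalars R⟩⟩

end

section

variable {n : ℕ} {R : Type u} [CommRing R] (r t : ℕ)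

/-- base change of the model along a ring homomorphism -/
theorem flat_model_of_ringHom {R' : Type u} [CommRing R'] (ψ : R →+* R')
    (k : Fin t → (Fin r → P n R)) (k' : Fin t → (Fin r → P n R'))
    (hk : ∀ u a, MvPolynomial.map ψ (k u a) = k' u a) [Module.Flat R (Mod r t k)] :
    Module.Flat R' (Mod r t k') := by
  letI := ψ.toAlgebra
  have : k' = kmap R' r t k := by
    funext u a
    exact (hk u a).symm
  subst this
  exact Module.Flat.isBaseChange (R := R) (S := R') (M := Mod r t k) _
    (isBaseChange_muM_restrictScalars R' r t k)

/-- the tensor product with the model is the model over the new ring -/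
theorem flat_tensor_iff_flat_model (R' : Type u) [CommRing R'] [Algebra R R']
    (k : Fin t → (Fin r → P n R)) {M : Type u} [AddCommGroup M] [Module R M]
    (e : Mod r t k ≃ₗ[R] M) :
    Module.Flat R' (R' ⊗[R] M) ↔ Module.Flat R' (Mod r t (kmap R' r t k)) := by
  let e1 : R' ⊗[R] M ≃ₗ[R'] R' ⊗[R] Mod r t k :=
    TensorProduct.AlgebraTensorModule.congr (LinearEquiv.refl R' R') e.symm
  let e2 : R' ⊗[R] Mod r t k ≃ₗ[R'] Mod r t (kmap R' r t k) :=
    (isBaseChange_muM_restrictScalars R' r t k).equiv
  exact ⟨fun h => Module.Flat.of_linearEquiv (e1.trans e2).symm,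
    fun h => Module.Flat.of_linearEquiv (e1.trans e2)⟩

end

end Groth.Agent.H1.LimFlat
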