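import Mathlib
import Groth.Agent.Lib.Helper1.LimFlat6
import Groth.Agent.Lib.Helper1.FlatNilpotentApps

/-!
# Generic freeness of flat model modules over Noetherian rings
-/

set_option autoImplicit false

universe u

open TensorProduct Function

namespace Groth.Agent.H1.LimFlat

open Groth.Agent.H1.PolyModel

attribute [local instance] MvPolynomial.algebraMvPolynomial

section nilp

/-- flat + free modulo a nilpotent ideal implies free -/
theorem free_of_flat_of_free_quotient {A : Type u} [CommRing A] (I : Ideal A) (hI : IsNilpotent I)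
    (M : Type u) [AddCommGroup M] [Module A M] [Module.Flat A M]
    [Module.Free (A ⧸ I) ((A ⧸ I) ⊗[A] M)] : Module.Free A M := by
  let ι := Module.Free.ChooseBasisIndex (A ⧸ I) ((A ⧸ I) ⊗[A] M)
  let b := Module.Free.chooseBasis (A ⧸ I) ((A ⧸ I) ⊗[A] M)
  let B : Module.Basis ι (A ⧸ I) ((A ⧸ I) ⊗[A] (ι →₀ A)) :=
    Algebra.TensorProduct.basis (A ⧸ I) Finsupp.basisSingleOne
  obtain ⟨e⟩ := Groth.Agent.H1.nonempty_linearEquiv_of_tensor_quotient_equiv I hI (ι →₀ A) M
    (B.equiv b (Equiv.refl ι))
  exact Module.Free.of_equiv e

end nilp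

section model

variable {n : ℕ} {R : Type u} [CommRing R] (r t : ℕ)

/-- base change of a free model along a ring homomorphism -/
theorem free_model_of_ringHom {R' : Type u} [CommRing R'] (ψ : R →+* R')
    (k : Fin t → (Fin r → P n R)) (k' : Fin t → (Fin r → P n R'))
    (hk : ∀ u a, MvPolynomial.map ψ (k u a) = k' u a) [Module.Free R (Mod r t k)] :
    Module.Free R' (Mod r t k') := by
  letI := ψ.toAlgebra
  have : k' = kmap R' r t k := by
    funext u a
    exact (hk u a).symm
  subst this
  exact Module.Free.of_equiv (isBaseChange_muM_restrictScalars R' r t k).equiv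

/-- the model over `R'` is the tensor product -/
noncomputable def tensorEquivModel (R' : Type u) [CommRing R'] [Algebra R R']
    (k : Fin t → (Fin r → P n R)) {M : Type u} [AddCommGroup M] [Module R M]
    (e : Mod r t k ≃ₗ[R] M) : R' ⊗[R] M ≃ₗ[R'] Mod r t (kmap R' r t k) :=
  (TensorProduct.AlgebraTensorModule.congr (LinearEquiv.refl R' R') e.symm).trans
    (isBaseChange_muM_restrictScalars R' r t k).equiv

/-- the model over a localization is the localized module -/
noncomputable def localizedEquivModel (T : Submonoid R)
    (k : Fin t → (Fin r → P n R)) {M : Type u} [AddCommGroup M] [Module R M]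
    (e : Mod r t k ≃ₗ[R] M) :
    LocalizedModule T M ≃ₗ[Localization T] Mod r t (kmap (Localization T) r t k) :=
  (((isLocalizedModule_iff_isBaseChange T (Localization T)
    (LocalizedModule.mkLinearMap T M)).mp inferInstance).equiv.symm).trans
    (tensorEquivModel r t (Localization T) k e)

/-- **(NF)** A flat model module over a nontrivial Noetherian ring is free over a nonempty
principal open. -/
theorem exists_free_away_of_flat [IsNoetherianRing R] [Nontrivial R]
    (k : Fin t → (Fin r → P n R)) [Module.Flat R (Mod r t k)] :
    ∃ f : R, f ∉ nilradical R ∧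
      Module.Free (Localization.Away f) (Mod r t (kmap (Localization.Away f) r t k)) := by
  let N := nilradical R
  have hN : IsNilpotent N := IsNoetherianRing.isNilpotent_nilradical R
  let D := R ⧸ N
  haveI : IsReduced D := (Ideal.isRadical_iff_quotient_reduced N).mp (Ideal.radical_isRadical ⊥)
  haveI : Nontrivial D := Ideal.Quotient.nontrivial_iff.mpr (by
    intro h
    have h1 : (1 : R) ∈ N := by rw [h]; exact Submodule.mem_top
    obtain ⟨m, hm⟩ := mem_nilradical.mp h1
    rw [one_pow] at hm
    exact one_ne_zero (α := R) hm)
  let kD := kmap D r t k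
  obtain ⟨fb, hfb, hgood⟩ := Groth.Agent.H1.GenFree.exists_good (R := D) (S := P n D)
    (M := Mod r t kD) 1 one_ne_zero
  rw [one_mul] at hfb hgood
  haveI hfree₁ : Module.Free (Localization.Away fb)
      (LocalizedModule (Submonoid.powers fb) (Mod r t kD)) := hgood.free_localizedModule
  haveI hfree₂ : Module.Free (Localization.Away fb)
      (Mod r t (kmap (Localization.Away fb) r t kD)) :=
    Module.Free.of_equiv (localizedEquivModel r t (Submonoid.powers fb) kD (LinearEquiv.refl D _))
  obtain ⟨f, rfl⟩ := Ideal.Quotient.mk_surjective fb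
  have hfN : f ∉ nilradical R := fun h => hfb (Ideal.Quotient.eq_zero_iff_mem.mpr h)
  refine ⟨f, hfN, ?_⟩
  let Rf := Localization.Away f
  let I : Ideal Rf := N.map (algebraMap R Rf)
  have hI : IsNilpotent I := by
    obtain ⟨m, hm⟩ := hN
    refine ⟨m, ?_⟩
    change (N.map (algebraMap R Rf)) ^ m = 0
    rw [← Ideal.map_pow, hm]
    exact Ideal.map_bot
  haveI hflat : Module.Flat Rf (Mod r t (kmap Rf r t k)) :=
    flat_model_of_ringHom r t (algebraMap R Rf) k _ fun u a => rfl
  -- the map `D_f → R_f / I`
  let g₀ : D →+* Rf ⧸ I := Ideal.Quotient.lift N ((Ideal.Quotient.mk I).comp (algebraMap R Rf))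
    (fun a ha => by
      rw [RingHom.comp_apply, Ideal.Quotient.eq_zero_iff_mem]
      exact Ideal.mem_map_of_mem _ ha)
  have hunit : IsUnit (g₀ (Ideal.Quotient.mk N f)) := by
    change IsUnit ((Ideal.Quotient.mk I) (algebraMap R Rf f))
    exact (IsLocalization.Away.algebraMap_isUnit f).map _
  let ψ : Localization.Away (Ideal.Quotient.mk N f) →+* Rf ⧸ I :=
    IsLocalization.Away.lift (Ideal.Quotient.mk N f) hunit
  haveI hfree₃ : Module.Free (Rf ⧸ I) (Mod r t (kmap (Rf ⧸ I) r t (kmap Rf r t k))) := by
    refine free_model_of_ringHom r t ψ (kmap (Localization.Away (Ideal.Quotient.mk N f)) r t kD) _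
      fun u a => ?_
    change MvPolynomial.map ψ (MvPolynomial.map (algebraMap D _) (MvPolynomial.map
      (algebraMap R D) (k u a))) = MvPolynomial.map (algebraMap Rf (Rf ⧸ I))
        (MvPolynomial.map (algebraMap R Rf) (k u a))
    rw [MvPolynomial.map_map, MvPolynomial.map_map, MvPolynomial.map_map]
    congr 2
    rw [IsLocalization.Away.lift_comp]
    rfl
  haveI : Module.Free (Rf ⧸ I) ((Rf ⧸ I) ⊗[Rf] Mod r t (kmap Rf r t k)) :=
    Module.Free.of_equiv
      (tensorEquivModel r t (Rf ⧸ I) (kmap Rf r t k) (LinearEquiv.refl Rf _)).symm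
  exact free_of_flat_of_free_quotient I hI _

/-- freeness of the model over `R_a / J R_a` -/
def StratFree (k : Fin t → (Fin r → P n R)) (a : R) (J : Ideal R) : Prop :=
  Module.Free (Localization.Away a ⧸ J.map (algebraMap R (Localization.Away a)))
    (Mod r t (kmap (Localization.Away a ⧸ J.map (algebraMap R (Localization.Away a))) r t k))

/-- transfer of `StratFree` along a ring homomorphism -/
theorem StratFree.of_ringHom {R' : Type u} [CommRing R'] (φ : R →+* R')
    (k : Fin t → (Fin r → P n R)) (k' : Fin t → (Fin r → P n R'))
    (hk : ∀ u b, MvPolynomial.map φ (k u b) = k' u b) (a : R) (J : Ideal R)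
    (h : StratFree r t k a J) (a' : R') (ha' : a' = φ a) (J' : Ideal R') (hJ' : J.map φ ≤ J') :
    StratFree r t k' a' J' := by
  subst ha'
  let C₂ := Localization.Away a ⧸ J.map (algebraMap R (Localization.Away a))
  let C := Localization.Away (φ a) ⧸ J'.map (algebraMap R' (Localization.Away (φ a)))
  let g₀ : R →+* C := ((Ideal.Quotient.mk _).comp (algebraMap R' (Localization.Away (φ a)))).comp φ
  have hunit : IsUnit (g₀ a) := by
    change IsUnit ((Ideal.Quotient.mk _) (algebraMap R' (Localization.Away (φ a)) (φ a)))
    exact (IsLocalization.Away.algebraMap_isUnit (φ a)).map _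
  let g₁ : Localization.Away a →+* C := IsLocalization.Away.lift a hunit
  have hg₁ : g₁.comp (algebraMap R (Localization.Away a)) = g₀ := IsLocalization.Away.lift_comp a hunit
  let ψ : C₂ →+* C := Ideal.Quotient.lift _ g₁ (by
    intro x hx
    have hle : J.map (algebraMap R (Localization.Away a)) ≤ RingHom.ker g₁ := by
      rw [Ideal.map_le_iff_le_comap]
      intro y hy
      rw [Ideal.mem_comap, RingHom.mem_ker, ← RingHom.comp_apply, hg₁]
      change (Ideal.Quotient.mk _) (algebraMap R' (Localization.Away (φ a)) (φ y)) = 0
      rw [Ideal.Quotient.eq_zero_iff_mem]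
      exact Ideal.mem_map_of_mem _ (hJ' (Ideal.mem_map_of_mem _ hy))
    exact hle hx)
  have hψ : (ψ.comp (Ideal.Quotient.mk _)).comp (algebraMap R (Localization.Away a)) = g₀ := by
    rw [← hg₁]
    rfl
  unfold StratFree at h ⊢
  haveI := h
  refine free_model_of_ringHom r t ψ (kmap C₂ r t k) _ fun u b => ?_
  change MvPolynomial.map ψ (MvPolynomial.map (algebraMap R C₂) (k u b)) =
    MvPolynomial.map (algebraMap R' C) (k' u b)
  rw [← hk u b, MvPolynomial.map_map, MvPolynomial.map_map]
  congr 2

/-- **(NS)** Stratification of a Noetherian ring by locally closed pieces over which a flat model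
module is free. -/
theorem exists_list_stratFree [IsNoetherianRing R] (k : Fin t → (Fin r → P n R))
    [Module.Flat R (Mod r t k)] (J : Ideal R) :
    ∃ l : List R, J ⊔ Ideal.span {a | a ∈ l} = ⊤ ∧ ∀ (i : ℕ) (hi : i < l.length),
      StratFree r t k l[i] (J ⊔ Ideal.span {a | a ∈ l.take i}) := by
  induction J using IsNoetherian.induction with
  | hgt J ih =>
    by_cases hJ : J = ⊤
    · exact ⟨[], by rw [hJ]; exact top_sup_eq _, fun i hi => absurd hi (by simp)⟩
    · let R' := R ⧸ J
      haveI : Nontrivial R' := Ideal.Quotient.nontrivial_iff.mpr hJ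
      haveI : Module.Flat R' (Mod r t (kmap R' r t k)) :=
        flat_model_of_ringHom r t (algebraMap R R') k _ fun u a => rfl
      obtain ⟨fb, hfb, hfree⟩ := exists_free_away_of_flat r t (kmap R' r t k)
      obtain ⟨f, rfl⟩ := Ideal.Quotient.mk_surjective fb
      have hfJ : f ∉ J := by
        intro h
        apply hfb
        rw [Ideal.Quotient.eq_zero_iff_mem.mpr h]
        exact Ideal.zero_mem _
      have hlt : J < J ⊔ Ideal.span {f} := by
        refine lt_of_le_of_ne le_sup_left fun h => hfJ ?_
        rw [h]
        exact Ideal.mem_sup_right (Ideal.subset_span rfl)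
      obtain ⟨l', hl'top, hl'⟩ := ih _ hlt
      have hset : ∀ l₀ : List R, ({a | a ∈ f :: l₀} : Set R) = {f} ∪ {a | a ∈ l₀} := by
        intro l₀
        ext a
        simp
      refine ⟨f :: l', ?_, ?_⟩
      · rw [hset, Ideal.span_union, ← sup_assoc]
        exact hl'top
      · intro i hi
        cases i with
        | zero =>
          change StratFree r t k f (J ⊔ Ideal.span {a | a ∈ ([] : List R)})
          have h0 : J ⊔ Ideal.span {a | a ∈ ([] : List R)} = J := by simp
          rw [h0]
          -- the ring `R_f / J R_f` receives a map from `(R/J)_f`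
          let C := Localization.Away f ⧸ Ideal.map (algebraMap R (Localization.Away f)) J
          let g₀ : R' →+* C := Ideal.Quotient.lift J
            ((Ideal.Quotient.mk _).comp (algebraMap R (Localization.Away f)))
            (fun a ha => by
              rw [RingHom.comp_apply, Ideal.Quotient.eq_zero_iff_mem]
              exact Ideal.mem_map_of_mem _ ha)
          have hunit : IsUnit (g₀ (Ideal.Quotient.mk J f)) := by
            change IsUnit ((Ideal.Quotient.mk _) (algebraMap R (Localization.Away f) f))
            exact (IsLocalization.Away.algebraMap_isUnit f).map _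
          let ψ : Localization.Away (Ideal.Quotient.mk J f) →+* C :=
            IsLocalization.Away.lift (Ideal.Quotient.mk J f) hunit
          unfold StratFree
          haveI := hfree
          refine free_model_of_ringHom r t ψ
            (kmap (Localization.Away (Ideal.Quotient.mk J f)) r t (kmap R' r t k)) _ fun u b => ?_
          change MvPolynomial.map ψ (MvPolynomial.map (algebraMap R' _) (MvPolynomial.map
            (algebraMap R R') (k u b))) = MvPolynomial.map (algebraMap R C) (k u b)
          rw [MvPolynomial.map_map, MvPolynomial.map_map]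
          congr 2
          rw [IsLocalization.Away.lift_comp]
          rfl
        | succ i =>
          have hi' : i < l'.length := by simpa using hi
          change StratFree r t k l'[i] (J ⊔ Ideal.span {a | a ∈ f :: l'.take i})
          have h1 : J ⊔ Ideal.span {a | a ∈ f :: l'.take i} =
              (J ⊔ Ideal.span {f}) ⊔ Ideal.span {a | a ∈ l'.take i} := by
            rw [hset, Ideal.span_union, ← sup_assoc]
          rw [h1]
          exact hl' i hi'

end model

end Groth.Agent.H1.LimFlat
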