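import Mathlib
import Groth.Agent.Lib.Helper5.CA.WeakColimit
import Groth.Agent.Lib.Helper1.LimFlat7

/-!
# Descent of flatness along a weak colimit of rings (EGA IV 11.2.6, ring level)
-/

set_option autoImplicit false

universe u v

open TensorProduct Function

namespace Groth.Agent.H1.WeakFlat

open Groth.Agent.H5.CA Groth.Agent.H1.PolyModel Groth.Agent.H1.LimFlat

attribute [local instance] MvPolynomial.algebraMvPolynomial

variable {K : Type u} [CommRing K] {ι : Type v} {G : ι → Type u} [∀ i, CommRing (G i)]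
  [∀ i, Algebra K (G i)] {A : Type u} [CommRing A] [Algebra K A] (W : WeakColimit K G A)

/-- maps from finitely presented `ℤ`-algebras to the weak colimit factor through a stage -/
theorem exists_lift_of_finitePresentation (R : Type u) [CommRing R]
    [Algebra.FinitePresentation ℤ R] (φ : R →+* A) (i₀ : ι) :
    ∃ (j : ι) (θ : G i₀ →ₐ[K] G j) (ψ : R →+* G j), W.Adm θ ∧
      ((W.g j : G j →+* A)).comp ψ = φ := by
  classical
  obtain ⟨n, f, hf, hker⟩ := Algebra.FinitePresentation.out (R := ℤ) (A := R)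
  obtain ⟨j₁, θ₁, hθ₁, y, hy⟩ := W.exists_lift_family i₀ (fun l : Fin n => φ (f (MvPolynomial.X l)))
  let Ψ₀ : MvPolynomial (Fin n) ℤ →+* G j₁ := MvPolynomial.eval₂Hom (Int.castRingHom _) y
  have hΨ₀ : ((W.g j₁ : G j₁ →+* A)).comp Ψ₀ = φ.comp f.toRingHom := by
    apply MvPolynomial.ringHom_ext
    · intro z
      simp
    · intro l
      simp [Ψ₀, hy]
  obtain ⟨s, hs⟩ := hker
  obtain ⟨j, θ₂, hθ₂, hj⟩ := W.exists_kill_family (σ := s) (fun x => Ψ₀ x.1) (fun x => by
    have h1 := RingHom.congr_fun hΨ₀ x.1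
    rw [RingHom.comp_apply] at h1
    have : x.1 ∈ RingHom.ker f.toRingHom := by
      rw [← hs]; exact Ideal.subset_span x.2
    change (W.g j₁ : G j₁ →+* A) (Ψ₀ x.1) = 0
    rw [h1, RingHom.comp_apply, RingHom.mem_ker.mp this, map_zero])
  let Ψ : MvPolynomial (Fin n) ℤ →+* G j := (θ₂ : G j₁ →+* G j).comp Ψ₀
  have hkerle : RingHom.ker f.toRingHom ≤ RingHom.ker Ψ := by
    rw [← hs, Ideal.span_le]
    intro x hx
    exact hj ⟨x, hx⟩
  refine ⟨j, θ₂.comp θ₁, RingHom.liftOfSurjective f.toRingHom hf ⟨Ψ, hkerle⟩,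
    W.adm_comp _ _ hθ₁ hθ₂, ?_⟩
  apply RingHom.ext
  intro x
  obtain ⟨p, rfl⟩ := hf x
  rw [RingHom.comp_apply]
  have h2 : RingHom.liftOfSurjective f.toRingHom hf ⟨Ψ, hkerle⟩ (f p) = Ψ p :=
    RingHom.liftOfRightInverse_comp_apply _ _ _ ⟨Ψ, hkerle⟩ p
  rw [h2]
  change W.g j (θ₂ (Ψ₀ p)) = _
  rw [W.g_adm θ₂ hθ₂]
  exact RingHom.congr_fun hΨ₀ p

/-- two finite families of polynomials over a stage that agree in the colimit agree at a later
stage -/
theorem exists_map_eq_family {σ : Type*} {κ : Type*} [Finite κ] (i : ι)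
    (d d' : κ → MvPolynomial σ (G i))
    (h : ∀ l, MvPolynomial.map (W.g i : G i →+* A) (d l) =
      MvPolynomial.map (W.g i : G i →+* A) (d' l)) :
    ∃ (j : ι) (θ : G i →ₐ[K] G j), W.Adm θ ∧
      ∀ l, MvPolynomial.map (θ : G i →+* G j) (d l) = MvPolynomial.map (θ : G i →+* G j) (d' l) := by
  classical
  let Kt := Σ l : κ, ↥((d l).support ∪ (d' l).support)
  obtain ⟨j, θ, hθ, hj⟩ := W.exists_eq_family (σ := Kt) (fun x => (d x.1).coeff x.2.1)
    (fun x => (d' x.1).coeff x.2.1)
    (fun x => by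
      have := congrArg (MvPolynomial.coeff x.2.1) (h x.1)
      rw [MvPolynomial.coeff_map, MvPolynomial.coeff_map] at this
      exact this)
  refine ⟨j, θ, hθ, fun l => ?_⟩
  ext m
  rw [MvPolynomial.coeff_map, MvPolynomial.coeff_map]
  by_cases hm : m ∈ (d l).support ∪ (d' l).support
  · exact hj ⟨l, ⟨m, hm⟩⟩
  · rw [Finset.mem_union, not_or] at hm
    rw [MvPolynomial.notMem_support_iff.mp hm.1, MvPolynomial.notMem_support_iff.mp hm.2]

section model

variable {n : ℕ} (r t : ℕ)

/-- **Descent of flatness of a model module to a stage of a weak colimit.** -/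
theorem exists_flat_model_stage (k₀ : Fin t → (Fin r → P n K))
    [Module.Flat A (Mod r t (kmap A r t k₀))] (i₀ : ι) :
    ∃ (j : ι) (θ : G i₀ →ₐ[K] G j), W.Adm θ ∧
      Module.Flat (G j) (Mod r t (kmap (G j) r t k₀)) := by
  classical
  obtain ⟨S₂, hS₂, k₂, hk₂, hflat₂⟩ := exists_fg_flat_model r t (kmap A r t k₀)
  haveI : Algebra.FiniteType ℤ S₂ := (Subalgebra.fg_iff_finiteType S₂).mp hS₂
  haveI : Algebra.FinitePresentation ℤ S₂ := Algebra.FinitePresentation.of_finiteType.mp inferInstance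
  obtain ⟨j₁, θ₁, ψ, hθ₁, hψ⟩ := exists_lift_of_finitePresentation W S₂ (S₂.val : S₂ →+* A) i₀
  -- compare the two families of coefficients over `G j₁`
  obtain ⟨j, θ₂, hθ₂, hj⟩ := exists_map_eq_family W (κ := Fin t × Fin r) j₁
    (fun x => MvPolynomial.map ψ (k₂ x.1 x.2))
    (fun x => MvPolynomial.map (algebraMap K (G j₁)) (k₀ x.1 x.2))
    (fun x => by
      rw [MvPolynomial.map_map, MvPolynomial.map_map, hψ]
      have h1 := congrFun (congrFun hk₂ x.1) x.2
      have h2 : (W.g j₁ : G j₁ →+* A).comp (algebraMap K (G j₁)) = algebraMap K A := by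
        ext c
        simp
      rw [h2]
      exact h1)
  refine ⟨j, θ₂.comp θ₁, W.adm_comp _ _ hθ₁ hθ₂, ?_⟩
  haveI := hflat₂
  refine flat_model_of_ringHom r t ((θ₂ : G j₁ →+* G j).comp ψ) k₂ (kmap (G j) r t k₀) ?_
  intro u a
  have h3 := hj (u, a)
  simp only [MvPolynomial.map_map] at h3
  rw [h3]
  have h4 : (θ₂ : G j₁ →+* G j).comp (algebraMap K (G j₁)) = algebraMap K (G j) := by
    ext c
    simp
  rw [h4]
  rfl

end model

section tensor

/-- **EGA IV 11.2.6 (ring level, weak colimits).** `C` a finitely presented `K`-algebra, `N` a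
finitely presented `C`-module such that `A ⊗[K] N` is flat over the weak colimit `A`. Then beyond
some stage `G j` the base change of `N` is flat: for every `K`-algebra `S` under `G j`,
`S ⊗[K] N` is flat over `S`. -/
theorem exists_flat_tensor_stage (C : Type u) [CommRing C] [Algebra K C]
    [Algebra.FinitePresentation K C] (N : Type u) [AddCommGroup N] [Module C N] [Module K N]
    [IsScalarTower K C N] [Module.FinitePresentation C N] [Module.Flat A (A ⊗[K] N)] (i₀ : ι) :
    ∃ (j : ι) (θ : G i₀ →ₐ[K] G j), W.Adm θ ∧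
      ∀ (S : Type u) [CommRing S] [Algebra K S] (_ : G j →ₐ[K] S), Module.Flat S (S ⊗[K] N) := by
  classical
  obtain ⟨n, r, t, k₀, ⟨e⟩⟩ := exists_model_of_fp (R := K) (S := C) (M := N)
  haveI : Module.Flat A (Mod r t (kmap A r t k₀)) :=
    (flat_tensor_iff_flat_model r t A k₀ e).mp inferInstance
  obtain ⟨j, θ, hθ, hflat⟩ := exists_flat_model_stage W r t k₀ i₀
  refine ⟨j, θ, hθ, ?_⟩
  intro S _ _ ψ
  rw [flat_tensor_iff_flat_model r t S k₀ e]
  haveI := hflat
  refine flat_model_of_ringHom r t (ψ : G j →+* S) (kmap (G j) r t k₀) (kmap S r t k₀) ?_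
  intro u a
  change MvPolynomial.map (ψ : G j →+* S) (MvPolynomial.map (algebraMap K (G j)) (k₀ u a)) =
    MvPolynomial.map (algebraMap K S) (k₀ u a)
  rw [MvPolynomial.map_map]
  have h4 : (ψ : G j →+* S).comp (algebraMap K (G j)) = algebraMap K S := by
    ext c
    simp
  rw [h4]

/-- the stage itself -/
theorem exists_flat_tensor_stage' (C : Type u) [CommRing C] [Algebra K C]
    [Algebra.FinitePresentation K C] (N : Type u) [AddCommGroup N] [Module C N] [Module K N]
    [IsScalarTower K C N] [Module.FinitePresentation C N] [Module.Flat A (A ⊗[K] N)] (i₀ : ι) :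
    ∃ (j : ι) (θ : G i₀ →ₐ[K] G j), W.Adm θ ∧ Module.Flat (G j) (G j ⊗[K] N) := by
  obtain ⟨j, θ, hθ, h⟩ := exists_flat_tensor_stage W C N i₀
  exact ⟨j, θ, hθ, h (G j) (AlgHom.id K (G j))⟩

/-- **EGA IV 11.2.6 for algebras.** `C` a finitely presented `K`-algebra with `A ⊗[K] C` flat over
the weak colimit `A`: beyond some stage the base change of `C` is flat. -/
theorem exists_flat_algebra_stage (C : Type u) [CommRing C] [Algebra K C]
    [Algebra.FinitePresentation K C] [Module.Flat A (A ⊗[K] C)] (i₀ : ι) :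
    ∃ (j : ι) (θ : G i₀ →ₐ[K] G j), W.Adm θ ∧
      ∀ (S : Type u) [CommRing S] [Algebra K S] (_ : G j →ₐ[K] S), Module.Flat S (S ⊗[K] C) :=
  exists_flat_tensor_stage W C C i₀

end tensor

end Groth.Agent.H1.WeakFlat
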