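import Mathlib
import Groth.Agent.Lib.Helper1.ProjMap
open AlgebraicGeometry CategoryTheory Limits

namespace Groth.Agent.H1.ProjBC

universe u

/-- A commutative square of schemes is a pullback if, over an open cover of the bottom-left
corner, the pulled-back squares are pullbacks. -/
theorem isPullback_of_openCover {X Y S T : Scheme.{u}} (f : X ⟶ Y) (p : X ⟶ T) (q : Y ⟶ S)
    (t : T ⟶ S) (w : f ≫ q = p ≫ t) (𝒰 : Y.OpenCover) (V : 𝒰.I₀ → Scheme.{u})
    (g : ∀ i, V i ⟶ 𝒰.X i) (j : ∀ i, V i ⟶ X)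
    (h1 : ∀ i, IsPullback (g i) (j i) (𝒰.f i) f)
    (h2 : ∀ i, IsPullback (g i) (j i ≫ p) (𝒰.f i ≫ q) t) : IsPullback f p q t := by
  let c : X ⟶ pullback q t := pullback.lift f p w
  suffices IsIso c from
    IsPullback.of_iso_pullback ⟨w⟩ (asIso c) (pullback.lift_fst _ _ _) (pullback.lift_snd _ _ _)
  let 𝒲 : (pullback q t).OpenCover := 𝒰.pullback₁ (pullback.fst q t)
  have hfac : ∀ i, (g i) ≫ 𝒰.f i = (j i ≫ c) ≫ pullback.fst q t := fun i => by
    rw [Category.assoc, pullback.lift_fst]; exact (h1 i).w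
  let g' : ∀ i, V i ⟶ pullback (pullback.fst q t) (𝒰.f i) := fun i => pullback.lift (j i ≫ c) (g i) (hfac i).symm
  refine Groth.Agent.H1.PM.of_isPullback_openCover
    (P := MorphismProperty.isomorphisms Scheme.{u}) c 𝒲 V g' j ?_ ?_
  · intro (i : 𝒰.I₀)
    -- paste with the defining pullback square of `𝒲.X i`
    have hbig : IsPullback (pullback.snd (pullback.fst q t) (𝒰.f i))
        (pullback.fst (pullback.fst q t) (𝒰.f i)) (𝒰.f i) (pullback.fst q t) :=
      (IsPullback.of_hasPullback (pullback.fst q t) (𝒰.f i)).flip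
    have h1' : IsPullback (g' i ≫ pullback.snd (pullback.fst q t) (𝒰.f i)) (j i) (𝒰.f i)
        (c ≫ pullback.fst q t) := by
      have e1 : g' i ≫ pullback.snd (pullback.fst q t) (𝒰.f i) = g i := pullback.lift_snd _ _ _
      have e2 : c ≫ pullback.fst q t = f := pullback.lift_fst _ _ _
      rw [e1, e2]; exact h1 i
    exact IsPullback.of_right h1' (pullback.lift_fst _ _ _) hbig
  · intro (i : 𝒰.I₀)
    -- both `V i` and `𝒲.X i` are pullbacks of `(𝒰.f i ≫ q, t)`
    have hbig : IsPullback (pullback.snd (pullback.fst q t) (𝒰.f i))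
        (pullback.fst (pullback.fst q t) (𝒰.f i) ≫ pullback.snd q t) (𝒰.f i ≫ q) t := by
      have ha : IsPullback (pullback.snd (pullback.fst q t) (𝒰.f i))
          (pullback.fst (pullback.fst q t) (𝒰.f i)) (𝒰.f i) (pullback.fst q t) :=
        (IsPullback.of_hasPullback (pullback.fst q t) (𝒰.f i)).flip
      have hb : IsPullback (pullback.fst q t) (pullback.snd q t) q t :=
        IsPullback.of_hasPullback q t
      exact ha.paste_vert hb
    have e : g' i = ((h2 i).isoIsPullback _ _ hbig).hom := by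
      apply hbig.hom_ext
      · rw [IsPullback.isoIsPullback_hom_fst]; exact pullback.lift_snd _ _ _
      · rw [IsPullback.isoIsPullback_hom_snd, ← Category.assoc]
        have : g' i ≫ pullback.fst (pullback.fst q t) (𝒰.f i) = j i ≫ c := pullback.lift_fst _ _ _
        rw [this, Category.assoc, pullback.lift_snd]
    change IsIso (g' i)
    rw [e]; exact Iso.isIso_hom _




section Single
open HomogeneousLocalization DirectSum

variable {R₀ C : Type u} [CommRing R₀] [CommRing C] [Algebra R₀ C]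
  (𝒞 : ℕ → Submodule R₀ C) [GradedAlgebra 𝒞]

/-- The structure homomorphism `R₀ → C_(g)`. -/
noncomputable def rho (g : C) : R₀ →+* Away 𝒞 g :=
  (fromZeroRingHom 𝒞 _).comp (algebraMap R₀ (𝒞 0))

lemma val_rho (g : C) (r : R₀) :
    (rho 𝒞 g r).val = Localization.mk (algebraMap R₀ C r) 1 := rfl

variable {𝒞} in
/-- `c ↦ c_{kd} / g^k`. -/
noncomputable def num {g : C} {d : ℕ} (hg : g ∈ 𝒞 d) (k : ℕ) (c : C) : Away 𝒞 g :=
  Away.mk 𝒞 hg k (decompose 𝒞 c (k • d)) (SetLike.coe_mem _)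

variable {𝒞}
variable {g : C} {d : ℕ} (hg : g ∈ 𝒞 d)

lemma val_num (k : ℕ) (c : C) :
    (num hg k c).val =
      Localization.mk (decompose 𝒞 c (k • d) : C) (⟨g ^ k, ⟨k, rfl⟩⟩ : Submonoid.powers g) := rfl

lemma num_add (k : ℕ) (c c' : C) : num hg k (c + c') = num hg k c + num hg k c' := by
  apply val_injective
  rw [val_add, val_num, val_num, val_num, Localization.add_mk_self, decompose_add,
    DirectSum.add_apply, Submodule.coe_add]

lemma num_smul (k : ℕ) (r : R₀) (c : C) : num hg k (r • c) = rho 𝒞 g r * num hg k c := by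
  apply val_injective
  rw [val_mul, val_num, val_num, val_rho, Localization.mk_mul, decompose_smul]
  rw [Localization.mk_eq_mk_iff, Localization.r_iff_exists]
  refine ⟨1, ?_⟩
  rw [DirectSum.smul_apply, Submodule.coe_smul, Algebra.smul_def r]
  simp only [OneMemClass.coe_one, one_mul]

lemma num_of_mem (k : ℕ) {c : C} (hc : c ∈ 𝒞 (k • d)) : num hg k c = Away.mk 𝒞 hg k c hc := by
  apply val_injective
  rw [val_num, Away.val_mk, decompose_of_mem_same 𝒞 hc]

lemma num_proj (k : ℕ) (c : C) : num hg k (decompose 𝒞 c (k • d) : C) = num hg k c := by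
  apply val_injective
  rw [val_num, val_num, decompose_of_mem_same 𝒞 (SetLike.coe_mem _)]

lemma num_pow_mul (m k : ℕ) (c : C) : num hg (m + k) (g ^ m * c) = num hg k c := by
  apply val_injective
  rw [val_num, val_num]
  have h1 : (decompose 𝒞 (g ^ m * c) ((m + k) • d) : C) = g ^ m * decompose 𝒞 c (k • d) := by
    rw [add_smul]
    exact coe_decompose_mul_add_of_left_mem 𝒞 (SetLike.pow_mem_graded m hg)
  rw [h1, Localization.mk_eq_mk_iff, Localization.r_iff_exists]
  refine ⟨1, ?_⟩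
  simp only [OneMemClass.coe_one, one_mul]
  ring

lemma num_eq_zero (k : ℕ) (c : C) (h : num hg k c = 0) :
    ∃ m : ℕ, g ^ m * (decompose 𝒞 c (k • d) : C) = 0 := by
  have h1 := congrArg HomogeneousLocalization.val h
  rw [val_num, HomogeneousLocalization.val_zero, Localization.mk_eq_mk',
    IsLocalization.mk'_eq_zero_iff] at h1
  obtain ⟨⟨_, m, rfl⟩, hm⟩ := h1
  exact ⟨m, hm⟩

lemma exists_num (x : Away 𝒞 g) : ∃ (k : ℕ) (c : C), c ∈ 𝒞 (k • d) ∧ num hg k c = x := by
  obtain ⟨n, a, ha, rfl⟩ := Away.mk_surjective 𝒞 hg x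
  exact ⟨n, a, ha, num_of_mem hg n ha⟩

end Single




section BC
open HomogeneousLocalization DirectSum TensorProduct

variable {R R' A B : Type u} [CommRing R'] [CommRing R] [Algebra R' R]
    [CommRing B] [Algebra R' B] (ℬ : ℕ → Submodule R' B) [GradedAlgebra ℬ]
    [CommRing A] [Algebra R A] [Algebra R' A] [IsScalarTower R' R A]
    (𝒜 : ℕ → Submodule R A) [GradedAlgebra 𝒜]
    [Algebra B A] [IsScalarTower R' B A]
    (φ : ℬ →+*ᵍ 𝒜) (hφA : ∀ b : B, φ b = algebraMap B A b)

lemma smul_eq_rho_mul (g : A) (r : R) (x : Away 𝒜 g) : r • x = rho 𝒜 g r * x := by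
  apply val_injective
  rw [val_smul, val_mul, val_rho, Localization.mk_one_eq_algebraMap,
    ← IsScalarTower.algebraMap_apply, Algebra.smul_def]

/-- local algebra structures on the homogeneous localizations -/
@[reducible] noncomputable def algA (g : A) : Algebra R (Away 𝒜 g) where
  algebraMap := rho 𝒜 g
  commutes' _ _ := mul_comm _ _
  smul_def' r x := smul_eq_rho_mul 𝒜 g r x
@[reducible] noncomputable def algA' (g : A) : Algebra R' (Away 𝒜 g) :=
  ((rho 𝒜 g).comp (algebraMap R' R)).toAlgebra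
@[reducible] noncomputable def algBA (f : B) : Algebra (Away ℬ f) (Away 𝒜 (φ f)) :=
  (Away.map φ f).toAlgebra

attribute [local instance] algA algA' algBA

instance towerA (g : A) : IsScalarTower R' R (Away 𝒜 g) := by
  refine ⟨fun r' r x => ?_⟩
  rw [smul_eq_rho_mul, Algebra.smul_def r' (r • x), smul_eq_rho_mul, Algebra.smul_def r' r,
    map_mul, mul_assoc]
  rfl

include hφA in
lemma map_rho (f : B) (r : R') :
    Away.map φ f (rho ℬ f r) = rho 𝒜 (φ f) (algebraMap R' R r) := by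
  apply val_injective
  rw [val_rho]
  change (HomogeneousLocalization.map φ _
    (HomogeneousLocalization.mk ⟨0, algebraMap R' (ℬ 0) r, 1, one_mem _⟩)).val = _
  rw [HomogeneousLocalization.map_mk, HomogeneousLocalization.val_mk]
  rw [Localization.mk_eq_mk_iff, Localization.r_iff_exists]
  refine ⟨1, ?_⟩
  simp only [OneMemClass.coe_one, one_mul]
  rw [show ((1 : ℬ 0) : B) = 1 from rfl, map_one, one_mul]
  change φ (algebraMap R' B r) = _
  rw [hφA, ← IsScalarTower.algebraMap_apply, ← IsScalarTower.algebraMap_apply]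

/-- local algebra structure `R' → B_(f)` -/
@[reducible] noncomputable def algB (f : B) : Algebra R' (Away ℬ f) := algA ℬ f

attribute [local instance] algB

include hφA in
lemma towerBA (f : B) : IsScalarTower R' (Away ℬ f) (Away 𝒜 (φ f)) := by
  refine ⟨fun r x y => ?_⟩
  rw [smul_eq_rho_mul, Algebra.smul_def (r := rho ℬ f r * x) (x := y), Algebra.smul_def r (x • y),
    Algebra.smul_def x y]
  change Away.map φ f (rho ℬ f r * x) * y =
    rho 𝒜 (φ f) (algebraMap R' R r) * (Away.map φ f x * y)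
  rw [map_mul, map_rho ℬ 𝒜 φ hφA, mul_assoc]

/-- `num` as a linear map. -/
noncomputable def numₗ {g : A} {d : ℕ} (hg : g ∈ 𝒜 d) (k : ℕ) : A →ₗ[R] Away 𝒜 g where
  toFun := num hg k
  map_add' := num_add hg k
  map_smul' r c := by rw [num_smul, RingHom.id_apply, smul_eq_rho_mul]

@[simp] lemma numₗ_apply {g : A} {d : ℕ} (hg : g ∈ 𝒜 d) (k : ℕ) (a : A) :
    numₗ 𝒜 hg k a = num hg k a := rfl

lemma numₗ_comp_mul {g : A} {d : ℕ} (hg : g ∈ 𝒜 d) (m k : ℕ) :
    numₗ 𝒜 hg (m + k) ∘ₗ LinearMap.mulLeft R (g ^ m) = numₗ 𝒜 hg k := by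
  ext a
  simp only [LinearMap.comp_apply, LinearMap.mulLeft_apply, numₗ_apply, num_pow_mul]

lemma numₗ_comp_proj {g : A} {d : ℕ} (hg : g ∈ 𝒜 d) (k : ℕ) :
    numₗ 𝒜 hg k ∘ₗ GradedAlgebra.proj 𝒜 (k • d) = numₗ 𝒜 hg k := by
  ext a
  simp only [LinearMap.comp_apply, GradedAlgebra.proj_apply, numₗ_apply, num_proj]

variable [Algebra.IsPushout R' R B A]

include hφA in
theorem isPushout_away (f : B) {d : ℕ} (hf : f ∈ ℬ d) :
    letI := towerBA ℬ 𝒜 φ hφA f
    Algebra.IsPushout R' R (Away ℬ f) (Away 𝒜 (φ f)) := by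
  let _ := towerBA ℬ 𝒜 φ hφA f
  have hg : φ f ∈ 𝒜 d := φ.2 hf
  let E : R ⊗[R'] B ≃ₗ[R] A :=
    (Algebra.IsPushout.out (R := R') (S := R) (R' := B) (S' := A)).equiv
  have hE : ∀ (r : R) (b : B), E (r ⊗ₜ b) = r • φ b := fun r b => by
    rw [hφA]; exact IsBaseChange.equiv_tmul _ r b
  let ψ : Away ℬ f →ₗ[R'] Away 𝒜 (φ f) :=
    (IsScalarTower.toAlgHom R' (Away ℬ f) (Away 𝒜 (φ f))).toLinearMap
  have hψ : ∀ x, ψ x = Away.map φ f x := fun x => rfl
  let L : R ⊗[R'] Away ℬ f →ₗ[R] Away 𝒜 (φ f) := ψ.liftBaseChange R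
  let jB : ℕ → B →ₗ[R'] Away ℬ f := fun k => numₗ ℬ hf k
  let jA : ℕ → A →ₗ[R] Away 𝒜 (φ f) := fun k => numₗ 𝒜 hg k
  -- compatibility of `ψ` with numerators
  have hψj : ∀ k b, ψ (jB k b) = jA k (φ b) := fun k b => by
    rw [hψ]
    change Away.map φ f (Away.mk ℬ hf k _ _) = Away.mk 𝒜 hg k _ _
    rw [Away.map_mk]
    congr 1
    exact GradedRingHom.map_directSumDecompose (𝒜 := ℬ) (ℬ := 𝒜) φ
  have key1 : ∀ k (y : R ⊗[R'] B), L ((jB k).baseChange R y) = jA k (E y) := fun k y => by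
    induction y using TensorProduct.induction_on with
    | zero => simp
    | tmul r b =>
      rw [LinearMap.baseChange_tmul, LinearMap.liftBaseChange_tmul, hE, hψj, map_smul]
    | add y y' h h' => rw [map_add, map_add, h, h', map_add, map_add]
  have hshift : ∀ m k (y : R ⊗[R'] B),
      (jB (m + k)).baseChange R ((LinearMap.mulLeft R' (f ^ m)).baseChange R y) =
        (jB k).baseChange R y := fun m k y => by
    rw [← LinearMap.comp_apply, ← LinearMap.baseChange_comp, numₗ_comp_mul]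
  have key2 : ∀ x : R ⊗[R'] Away ℬ f, ∃ k y, x = (jB k).baseChange R y := fun x => by
    induction x using TensorProduct.induction_on with
    | zero => exact ⟨0, 0, by simp⟩
    | tmul r x =>
      obtain ⟨k, b, hb, rfl⟩ := exists_num hf x
      exact ⟨k, r ⊗ₜ b, rfl⟩
    | add x x' h h' =>
      obtain ⟨k, y, rfl⟩ := h
      obtain ⟨l, y', rfl⟩ := h'
      refine ⟨l + k, (LinearMap.mulLeft R' (f ^ l)).baseChange R y +
        (LinearMap.mulLeft R' (f ^ k)).baseChange R y', ?_⟩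
      rw [map_add, hshift l k y, add_comm l k, hshift k l y']
  have hEproj : ∀ n (y : R ⊗[R'] B),
      E ((GradedAlgebra.proj ℬ n).baseChange R y) = GradedAlgebra.proj 𝒜 n (E y) := fun n y => by
    induction y using TensorProduct.induction_on with
    | zero => simp
    | tmul r b =>
      rw [LinearMap.baseChange_tmul, hE, hE, map_smul, GradedAlgebra.proj_apply,
        GradedAlgebra.proj_apply, GradedRingHom.map_directSumDecompose]
    | add y y' h h' => rw [map_add, map_add, h, h', map_add, map_add]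
  have hEmul : ∀ m (y : R ⊗[R'] B),
      E ((LinearMap.mulLeft R' (f ^ m)).baseChange R y) = (φ f) ^ m * E y := fun m y => by
    induction y using TensorProduct.induction_on with
    | zero => simp
    | tmul r b =>
      rw [LinearMap.baseChange_tmul, hE, hE, LinearMap.mulLeft_apply, map_mul, map_pow,
        mul_smul_comm]
    | add y y' h h' => rw [map_add, map_add, h, h', map_add, mul_add]
  have hL : Function.Bijective L := by
    constructor
    · rw [injective_iff_map_eq_zero]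
      intro x hx
      obtain ⟨k, y, rfl⟩ := key2 x
      rw [key1] at hx
      obtain ⟨m, hm⟩ := num_eq_zero hg k (E y) hx
      set y' := (GradedAlgebra.proj ℬ (k • d)).baseChange R y with hy'
      have h1 : (jB k).baseChange R y = (jB k).baseChange R y' := by
        rw [hy', ← LinearMap.comp_apply, ← LinearMap.baseChange_comp, numₗ_comp_proj]
      have h2 : (LinearMap.mulLeft R' (f ^ m)).baseChange R y' = 0 := by
        apply E.injective
        rw [hEmul, hy', hEproj, GradedAlgebra.proj_apply, hm, map_zero]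
      rw [h1, ← hshift m k y', h2, map_zero]
    · intro z
      obtain ⟨k, a, ha, rfl⟩ := exists_num hg z
      refine ⟨(jB k).baseChange R (E.symm a), ?_⟩
      rw [key1, E.apply_symm_apply]
      rfl
  constructor
  exact IsBaseChange.of_equiv (LinearEquiv.ofBijective L hL) (fun x => by
    simp [L, ψ])

end BC




section Main
open HomogeneousLocalization

variable {R R' A B : Type u} [CommRing R'] [CommRing R] [Algebra R' R]
    [CommRing B] [Algebra R' B] (ℬ : ℕ → Submodule R' B) [GradedAlgebra ℬ]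
    [CommRing A] [Algebra R A] [Algebra R' A] [IsScalarTower R' R A]
    (𝒜 : ℕ → Submodule R A) [GradedAlgebra 𝒜]
    [Algebra B A] [IsScalarTower R' B A] [Algebra.IsPushout R' R B A]
    (φ : ℬ →+*ᵍ 𝒜) (hφA : ∀ b : B, φ b = algebraMap B A b)

include hφA in
theorem isPushout_away_cat (f : B) {d : ℕ} (hf : f ∈ ℬ d) :
    IsPushout (CommRingCat.ofHom (algebraMap R' R)) (CommRingCat.ofHom (rho ℬ f))
      (CommRingCat.ofHom (rho 𝒜 (φ f))) (CommRingCat.ofHom (Away.map φ f)) := by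
  let _ := algA ℬ f
  let _ := algA 𝒜 (φ f)
  let _ := algA' (R' := R') 𝒜 (φ f)
  let _ := algBA ℬ 𝒜 φ f
  let _ := towerBA ℬ 𝒜 φ hφA f
  have := isPushout_away ℬ 𝒜 φ hφA f hf
  exact CommRingCat.isPushout_of_isPushout R' R (Away ℬ f) (Away 𝒜 (φ f))

include hφA in
theorem isPullback_spec_away (f : B) {d : ℕ} (hf : f ∈ ℬ d) :
    IsPullback (Spec.map (CommRingCat.ofHom (Away.map φ f)))
      (Spec.map (CommRingCat.ofHom (rho 𝒜 (φ f))))
      (Spec.map (CommRingCat.ofHom (rho ℬ f)))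
      (Spec.map (CommRingCat.ofHom (algebraMap R' R))) :=
  (isPullback_SpecMap_of_isPushout _ _ _ _ (isPushout_away_cat ℬ 𝒜 φ hφA f hf)).flip

variable (hφ : HomogeneousIdeal.irrelevant 𝒜 ≤ (HomogeneousIdeal.irrelevant ℬ).map φ)

theorem isPullback_awayι_map' {d : ℕ} (hd : 0 < d) (s : B) (hs : s ∈ ℬ d) :
    IsPullback (Spec.map (CommRingCat.ofHom (HomogeneousLocalization.Away.map φ s)))
      (Proj.awayι 𝒜 (φ s) (φ.2 hs) hd) (Proj.awayι ℬ s hs hd) (Proj.map φ hφ) := by
  apply IsOpenImmersion.isPullback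
  · exact Proj.awayι_comp_map φ hφ hd s hs
  · rw [Proj.opensRange_awayι, Proj.opensRange_awayι, Proj.map_preimage_basicOpen]

@[reassoc]
lemma awayι_toSpec {R₀ C : Type u} [CommRing R₀] [CommRing C] [Algebra R₀ C]
    (𝒞 : ℕ → Submodule R₀ C) [GradedAlgebra 𝒞] {d : ℕ} (hd : 0 < d) (s : C) (hs : s ∈ 𝒞 d) :
    Proj.awayι 𝒞 s hs hd ≫ Proj.toSpecZero 𝒞 ≫
      Spec.map (CommRingCat.ofHom (algebraMap R₀ (𝒞 0))) =
    Spec.map (CommRingCat.ofHom (rho 𝒞 s)) := by
  rw [Proj.awayι_toSpecZero_assoc, ← Spec.map_comp]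
  rfl

include hφA in
lemma comm_aux {d : ℕ} (hd : 0 < d) (s : B) (hs : s ∈ ℬ d) :
    Proj.awayι 𝒜 (φ s) (φ.2 hs) hd ≫ Proj.map φ hφ ≫ Proj.toSpecZero ℬ ≫
      Spec.map (CommRingCat.ofHom (algebraMap R' (ℬ 0))) =
    Proj.awayι 𝒜 (φ s) (φ.2 hs) hd ≫ (Proj.toSpecZero 𝒜 ≫
      Spec.map (CommRingCat.ofHom (algebraMap R (𝒜 0)))) ≫
      Spec.map (CommRingCat.ofHom (algebraMap R' R)) := by
  rw [Proj.awayι_comp_map_assoc φ hφ hd s hs, awayι_toSpec,
    Category.assoc, awayι_toSpec_assoc 𝒜 hd (φ s) (φ.2 hs)]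
  exact (isPullback_spec_away ℬ 𝒜 φ hφA s hs).w

include hφA in
lemma h2_aux {d : ℕ} (hd : 0 < d) (s : B) (hs : s ∈ ℬ d) :
    IsPullback (Spec.map (CommRingCat.ofHom (HomogeneousLocalization.Away.map φ s)))
      (Proj.awayι 𝒜 (φ s) (φ.2 hs) hd ≫ Proj.toSpecZero 𝒜 ≫
        Spec.map (CommRingCat.ofHom (algebraMap R (𝒜 0))))
      (Proj.awayι ℬ s hs hd ≫ Proj.toSpecZero ℬ ≫
        Spec.map (CommRingCat.ofHom (algebraMap R' (ℬ 0))))
      (Spec.map (CommRingCat.ofHom (algebraMap R' R))) := by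
  rw [awayι_toSpec, awayι_toSpec]
  exact isPullback_spec_away ℬ 𝒜 φ hφA s hs

include hφA in
theorem isPullback_proj_map :
    IsPullback (Proj.map φ hφ)
      (Proj.toSpecZero 𝒜 ≫ Spec.map (CommRingCat.ofHom (algebraMap R (𝒜 0))))
      (Proj.toSpecZero ℬ ≫ Spec.map (CommRingCat.ofHom (algebraMap R' (ℬ 0))))
      (Spec.map (CommRingCat.ofHom (algebraMap R' R))) := by
  refine isPullback_of_openCover _ _ _ _ ?_ (Proj.affineOpenCover ℬ).openCover
    (fun i => Spec (.of (HomogeneousLocalization.Away 𝒜 (φ i.2.1))))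
    (fun i => Spec.map (CommRingCat.ofHom (HomogeneousLocalization.Away.map φ i.2.1)))
    (fun i => Proj.awayι 𝒜 (φ i.2.1) (φ.2 i.2.2) i.1.2)
    (fun i => isPullback_awayι_map' ℬ 𝒜 φ hφ i.1.2 i.2.1 i.2.2) ?_
  · refine (Proj.mapAffineOpenCover φ hφ).openCover.hom_ext _ _ fun s => ?_
    exact comm_aux ℬ 𝒜 φ hφA hφ s.1.2 s.2.1 s.2.2
  · intro i
    exact h2_aux ℬ 𝒜 φ hφA i.1.2 i.2.1 i.2.2

end Main

end Groth.Agent.H1.ProjBC
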