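import Mathlib

/-! Helper1: `SheafOfModules R` is a Grothendieck abelian category (small site). -/
open CategoryTheory Limits
universe u

variable {C : Type u} [SmallCategory C] (J : GrothendieckTopology C) (R : Sheaf J RingCat.{u})

namespace Groth.Agent.H1

lemma presheafOfModules_hasExactColimitsOfShape (R₀ : Cᵒᵖ ⥤ RingCat.{u}) (K : Type u) [SmallCategory K] [IsFiltered K] :
    HasExactColimitsOfShape K (PresheafOfModules.{u} R₀) :=
  HasExactColimitsOfShape.domain_of_functor K (PresheafOfModules.toPresheaf.{u} R₀)

lemma sheafOfModules_hasExactColimitsOfShape (K : Type u) [SmallCategory K] [IsFiltered K] :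
    HasExactColimitsOfShape K (SheafOfModules.{u} R) := by
  have := presheafOfModules_hasExactColimitsOfShape R.obj K
  exact (PresheafOfModules.sheafificationAdjunction (𝟙 R.obj)).hasExactColimitsOfShape K

lemma sheafOfModules_isSeparating :
    ObjectProperty.IsSeparating (.ofObj (fun X : C ↦
      (PresheafOfModules.sheafification (𝟙 R.obj)).obj ((PresheafOfModules.free R.obj).obj (yoneda.obj X)))) := by
  intro F G f g hfg
  let adj := PresheafOfModules.sheafificationAdjunction (𝟙 R.obj)
  refine (SheafOfModules.forget.{u} R ⋙ PresheafOfModules.restrictScalars (𝟙 R.obj)).map_injective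
    (PresheafOfModules.freeYoneda.isSeparating R.obj _ _ ?_)
  rintro _ ⟨X⟩ a
  apply (adj.homEquiv _ _).symm.injective
  have := hfg _ (ObjectProperty.ofObj_apply _ X) ((adj.homEquiv _ _).symm a)
  simp only [← Adjunction.homEquiv_naturality_right_symm] at this
  exact this

theorem sheafOfModules_isGrothendieckAbelian : IsGrothendieckAbelian.{u} (SheafOfModules.{u} R) where
  ab5OfSize := ⟨fun K _ _ => sheafOfModules_hasExactColimitsOfShape J R K⟩
  hasSeparator := ⟨_, (sheafOfModules_isSeparating J R).isSeparator_coproduct⟩

end Groth.Agent.H1
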