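import Mathlib.AlgebraicGeometry.Morphisms.FlatDescent
import Mathlib.AlgebraicGeometry.Morphisms.LocalFlatDescent
import Mathlib.AlgebraicGeometry.Morphisms.QuasiSeparated
import Mathlib.AlgebraicGeometry.Morphisms.Separated
import Mathlib.AlgebraicGeometry.Morphisms.Proper
import Mathlib.AlgebraicGeometry.Morphisms.Immersion
import Mathlib.AlgebraicGeometry.ZariskisMainTheorem

/-! Descent of properties of morphisms along quasi-compact flat surjective morphisms. -/

set_option autoImplicit false
universe u

open CategoryTheory CategoryTheory.Limits AlgebraicGeometry MorphismProperty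

namespace Groth.Agent.H1

set_option backward.isDefEq.respectTransparency.types false in
/-- `IsLocalIso ⊓ Surjective ≤ Surjective ⊓ Flat`. -/
theorem localIso_inf_surjective_le :
    (@IsLocalIso ⊓ @Surjective : MorphismProperty Scheme.{u}) ≤
      (@Surjective ⊓ @Flat : MorphismProperty Scheme.{u}) := by
  rw [inf_comm]
  exact inf_le_inf le_rfl (IsLocalIso.le_of_isZariskiLocalAtSource _)

set_option backward.isDefEq.respectTransparency.types false in
/-- Quasi-compactness descends along fpqc morphisms. -/
theorem descendsAlong_quasiCompact :
    DescendsAlong @QuasiCompact
      (@Surjective ⊓ @Flat ⊓ @QuasiCompact : MorphismProperty Scheme.{u}) := by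
  refine IsZariskiLocalAtTarget.descendsAlong_inf_quasiCompact _ _ localIso_inf_surjective_le ?_
  intro R S Y φ g ⟨hs, _⟩ hfst
  have : Surjective (Spec.map φ) := hs
  have : QuasiCompact (pullback.fst (Spec.map φ) g) := hfst
  have : CompactSpace ↥(pullback (Spec.map φ) g) :=
    QuasiCompact.compactSpace_of_compactSpace (pullback.fst (Spec.map φ) g)
  have hsurj : Function.Surjective (pullback.snd (Spec.map φ) g).base :=
    (inferInstance : Surjective (pullback.snd (Spec.map φ) g)).surj
  have : CompactSpace Y := by
    constructor
    rw [← Set.range_eq_univ.mpr hsurj]
    exact isCompact_range (pullback.snd (Spec.map φ) g).continuous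
  infer_instance

set_option backward.isDefEq.respectTransparency.types false in
/-- Quasi-separatedness descends along fpqc morphisms. -/
theorem descendsAlong_quasiSeparated :
    DescendsAlong @QuasiSeparated
      (@Surjective ⊓ @Flat ⊓ @QuasiCompact : MorphismProperty Scheme.{u}) := by
  rw [quasiSeparated_eq_diagonal_is_quasiCompact]
  have := descendsAlong_quasiCompact.{u}
  infer_instance

/-- A morphism is separated iff its diagonal is universally closed. -/
theorem isSeparated_eq_diagonal_universallyClosed :
    @IsSeparated = MorphismProperty.diagonal @UniversallyClosed.{u} := by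
  ext X Y f
  rw [isSeparated_iff]
  refine ⟨fun h => (inferInstance : UniversallyClosed (pullback.diagonal f)), fun h => ?_⟩
  have h' : UniversallyClosed (pullback.diagonal f) := h
  refine IsClosedImmersion.of_isPreimmersion _ ?_
  exact (pullback.diagonal f).isClosedMap.isClosed_range

set_option backward.isDefEq.respectTransparency.types false in
/-- Separatedness descends along fpqc morphisms. -/
theorem descendsAlong_isSeparated :
    DescendsAlong @IsSeparated
      (@Surjective ⊓ @Flat ⊓ @QuasiCompact : MorphismProperty Scheme.{u}) := by
  rw [isSeparated_eq_diagonal_universallyClosed]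
  infer_instance

set_option backward.isDefEq.respectTransparency.types false in
/-- Properness descends along fpqc morphisms. -/
theorem descendsAlong_isProper :
    DescendsAlong @IsProper
      (@Surjective ⊓ @Flat ⊓ @QuasiCompact : MorphismProperty Scheme.{u}) := by
  rw [isProper_eq]
  have := descendsAlong_isSeparated.{u}
  infer_instance

set_option backward.isDefEq.respectTransparency.types false in
/-- Being a monomorphism descends along fpqc morphisms. -/
theorem descendsAlong_monomorphisms :
    DescendsAlong (MorphismProperty.monomorphisms Scheme.{u})
      (@Surjective ⊓ @Flat ⊓ @QuasiCompact : MorphismProperty Scheme.{u}) := by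
  rw [← MorphismProperty.diagonal_isomorphisms]
  infer_instance

set_option backward.isDefEq.respectTransparency.types false in
/-- Being a closed immersion descends along fpqc morphisms. -/
theorem descendsAlong_isClosedImmersion :
    DescendsAlong @IsClosedImmersion
      (@Surjective ⊓ @Flat ⊓ @QuasiCompact : MorphismProperty Scheme.{u}) := by
  rw [IsClosedImmersion.eq_proper_inf_monomorphisms]
  have := descendsAlong_isProper.{u}
  have := descendsAlong_monomorphisms.{u}
  infer_instance

end Groth.Agent.H1
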