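import Mathlib
import Groth.Agent.Lib.Helper1.FpqcDescent
import Groth.Agent.Lib.Helper5.Descent.FlatBaseChangeGamma

set_option autoImplicit false
set_option linter.style.haveILetI false
universe u
open CategoryTheory CategoryTheory.Limits AlgebraicGeometry MorphismProperty

namespace Groth.Agent.H1.FpqcAffine

set_option backward.isDefEq.respectTransparency.types false in
/-- affine case of fpqc descent of affineness. -/
theorem isAffine_of_isAffine_pullback {R S : CommRingCat.{u}} {Y : Scheme.{u}} (φ : R ⟶ S)
    (g : Y ⟶ Spec R) [Surjective (Spec.map φ)] [Flat (Spec.map φ)]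
    [IsAffine (pullback (Spec.map φ) g)] : IsAffine Y := by
  have hQ : (@Surjective ⊓ @Flat ⊓ @QuasiCompact : MorphismProperty Scheme.{u}) (Spec.map φ) :=
    ⟨⟨inferInstance, inferInstance⟩, inferInstance⟩
  -- Y is qcqs
  have hqc : QuasiCompact g := by
    have := descendsAlong_quasiCompact.{u}
    exact MorphismProperty.of_pullback_fst_of_descendsAlong (P := @QuasiCompact)
      (Q := @Surjective ⊓ @Flat ⊓ @QuasiCompact) (f := Spec.map φ) hQ inferInstance
  have hqs : QuasiSeparated g := by
    have := descendsAlong_quasiSeparated.{u}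
    exact MorphismProperty.of_pullback_fst_of_descendsAlong (P := @QuasiSeparated)
      (Q := @Surjective ⊓ @Flat ⊓ @QuasiCompact) (f := Spec.map φ) hQ inferInstance
  haveI : CompactSpace Y := (quasiCompact_iff_compactSpace g).mp hqc
  haveI : QuasiSeparatedSpace Y := (quasiSeparated_iff_quasiSeparatedSpace g).mp hqs
  -- flat base change of global sections
  have hpo := Groth.Agent.H5.Descent.isPushout_appTop
    (IsPullback.of_hasPullback (Spec.map φ) g).flip
  have hbot := isPullback_SpecMap_of_isPushout _ _ _ _ hpo
  -- the iso square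
  haveI hS : IsIso (Spec S).toSpecΓ := (inferInstance : IsAffine (Spec S)).affine
  haveI hR : IsIso (Spec R).toSpecΓ := (inferInstance : IsAffine (Spec R)).affine
  have hiso : IsPullback (Spec.map φ) (Spec S).toSpecΓ (Spec R).toSpecΓ
      (Spec.map (Spec.map φ).appTop) :=
    IsPullback.of_vert_isIso ⟨Scheme.toSpecΓ_naturality _⟩
  have houter := (IsPullback.of_hasPullback (Spec.map φ) g).flip.paste_vert hiso
  rw [Scheme.toSpecΓ_naturality, Scheme.toSpecΓ_naturality] at houter
  have htop : IsPullback (pullback.snd (Spec.map φ) g) (pullback (Spec.map φ) g).toSpecΓ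
      Y.toSpecΓ (Spec.map (pullback.snd (Spec.map φ) g).appTop) :=
    IsPullback.of_bot houter (Scheme.toSpecΓ_naturality _) hbot
  -- the bottom map is fpqc
  have hQ' : (@Surjective ⊓ @Flat ⊓ @QuasiCompact : MorphismProperty Scheme.{u})
      (Spec.map (Spec.map φ).appTop) := by
    have e : CategoryTheory.Arrow.mk (Spec.map φ) ≅ CategoryTheory.Arrow.mk (Spec.map (Spec.map φ).appTop) :=
      CategoryTheory.Arrow.isoMk (asIso (Spec S).toSpecΓ) (asIso (Spec R).toSpecΓ)
        (Scheme.toSpecΓ_naturality _).symm
    exact ((@Surjective ⊓ @Flat ⊓ @QuasiCompact : MorphismProperty Scheme.{u}).arrow_mk_iso_iff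
      e).mp hQ
  have hQ'' : (@Surjective ⊓ @Flat ⊓ @QuasiCompact : MorphismProperty Scheme.{u})
      (Spec.map (pullback.snd (Spec.map φ) g).appTop) :=
    MorphismProperty.of_isPullback hbot.flip hQ'
  have hisoY : isomorphisms Scheme.{u} Y.toSpecΓ :=
    MorphismProperty.of_isPullback_of_descendsAlong (P := isomorphisms Scheme.{u})
      (Q := @Surjective ⊓ @Flat ⊓ @QuasiCompact) htop.flip hQ''
      (inferInstanceAs (IsIso (pullback (Spec.map φ) g).toSpecΓ))
  exact ⟨hisoY⟩



set_option backward.isDefEq.respectTransparency.types false in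
/-- Affineness of morphisms descends along fpqc morphisms. -/
theorem descendsAlong_isAffineHom :
    DescendsAlong @IsAffineHom
      (@Surjective ⊓ @Flat ⊓ @QuasiCompact : MorphismProperty Scheme.{u}) := by
  refine IsZariskiLocalAtTarget.descendsAlong_inf_quasiCompact _ _
    Groth.Agent.H1.localIso_inf_surjective_le ?_
  intro R S Y φ g ⟨hs, hf⟩ hfst
  haveI : Surjective (Spec.map φ) := hs
  haveI : Flat (Spec.map φ) := hf
  haveI : IsAffineHom (pullback.fst (Spec.map φ) g) := hfst
  haveI : IsAffine (pullback (Spec.map φ) g) :=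
    isAffine_of_isAffineHom (pullback.fst (Spec.map φ) g)
  haveI := isAffine_of_isAffine_pullback φ g
  infer_instance

set_option backward.isDefEq.respectTransparency.types false in
/-- Integrality of morphisms descends along fpqc morphisms. -/
theorem descendsAlong_isIntegralHom :
    DescendsAlong @IsIntegralHom
      (@Surjective ⊓ @Flat ⊓ @QuasiCompact : MorphismProperty Scheme.{u}) := by
  rw [IsIntegralHom.eq_universallyClosed_inf_isAffineHom]
  have := descendsAlong_isAffineHom.{u}
  infer_instance

set_option backward.isDefEq.respectTransparency.types false in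
/-- Finiteness of morphisms descends along fpqc morphisms. -/
theorem descendsAlong_isFinite :
    DescendsAlong @IsFinite
      (@Surjective ⊓ @Flat ⊓ @QuasiCompact : MorphismProperty Scheme.{u}) := by
  rw [IsFinite.eq_isProper_inf_isAffineHom]
  have := descendsAlong_isAffineHom.{u}
  have := Groth.Agent.H1.descendsAlong_isProper.{u}
  infer_instance

end Groth.Agent.H1.FpqcAffine
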