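import Mathlib
import Groth.Agent.Lib.Helper8.HensPair.Integral

set_option autoImplicit false
universe u

namespace Groth.Agent.H1.HensPairFin

open AlgebraicGeometry CategoryTheory Limits PrimeSpectrum

/-- a closed subset of a spectrum disjoint from `V(J)`, `J` in the Jacobson radical, is empty. -/
theorem eq_empty_of_isClosed_of_inter_zeroLocus {B : Type*} [CommRing B] (J : Ideal B)
    (hJ : J ≤ Ideal.jacobson ⊥) (Z : Set (PrimeSpectrum B)) (hZ : IsClosed Z)
    (h : Z ∩ zeroLocus (J : Set B) = ∅) : Z = ∅ := by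
  obtain ⟨K, rfl⟩ := (isClosed_iff_zeroLocus_ideal Z).mp hZ
  rw [← zeroLocus_sup, zeroLocus_empty_iff_eq_top, Ideal.eq_top_iff_one,
    Submodule.mem_sup] at h
  obtain ⟨k, hk, j, hj, hkj⟩ := h
  have hunit : IsUnit k := by
    have := (Ideal.mem_jacobson_bot.mp (hJ hj)) (-1)
    have hk' : j * -1 + 1 = k := by
      have : k = 1 - j := by rw [← hkj]; ring
      rw [this]; ring
    rwa [hk'] at this
  rw [zeroLocus_empty_iff_eq_top]
  exact Ideal.eq_top_of_isUnit_mem _ hk hunit

/-- lifting a clopen subset of `V(IB)` to a clopen subset of `Spec B`, for `B` integral over a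
henselian pair `(A, I)`. -/
theorem exists_idempotent_basicOpen {A : Type u} [CommRing A] (I : Ideal A) [HenselianRing A I]
    (B : Type u) [CommRing B] [Algebra A B] [Algebra.IsIntegral A B]
    (C O : Set (PrimeSpectrum B)) (hC : IsClosed C) (hO : IsOpen O)
    (hCO : C = O ∩ zeroLocus (I.map (algebraMap A B) : Set B)) :
    ∃ e : B, IsIdempotentElem e ∧
      (basicOpen e : Set (PrimeSpectrum B)) ∩ zeroLocus (I.map (algebraMap A B) : Set B) = C := by
  set J := I.map (algebraMap A B) with hJ
  let π := Ideal.Quotient.mk J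
  have hπ : Function.Surjective π := Ideal.Quotient.mk_surjective
  have hrange : Set.range (comap π) = zeroLocus (J : Set B) := by
    rw [range_comap_of_surjective _ _ hπ, Ideal.mk_ker]
  have hclopen : IsClopen (comap π ⁻¹' C) := by
    refine ⟨hC.preimage (continuous_comap π), ?_⟩
    have : comap π ⁻¹' C = comap π ⁻¹' O := by
      ext q
      simp only [Set.mem_preimage, hCO, Set.mem_inter_iff, and_iff_left_iff_imp]
      intro _
      rw [← hrange]
      exact ⟨q, rfl⟩
    rw [this]
    exact hO.preimage (continuous_comap π)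
  obtain ⟨ē, hē, hēC⟩ := PrimeSpectrum.isClopen_iff.mp hclopen
  obtain ⟨e, he, rfl⟩ := (Groth.Agent.H8.HensPair.bijOn_idempotents_of_isIntegral I B).2.2 hē
  refine ⟨e, he, ?_⟩
  ext p
  constructor
  · rintro ⟨hp1, hp2⟩
    rw [← hrange] at hp2
    obtain ⟨q, rfl⟩ := hp2
    have : q ∈ comap π ⁻¹' C := by
      rw [hēC]
      exact hp1
    exact this
  · intro hp
    have hp2 : p ∈ zeroLocus (J : Set B) := by rw [hCO] at hp; exact hp.2
    refine ⟨?_, hp2⟩
    rw [← hrange] at hp2
    obtain ⟨q, rfl⟩ := hp2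
    have : q ∈ comap π ⁻¹' C := hp
    rw [hēC] at this
    exact this

theorem locallyQuasiFinite_of_etale {X Y : Scheme.{u}} (f : X ⟶ Y) [Etale f] :
    LocallyQuasiFinite f := by
  rw [HasRingHomProperty.iff_appLE (P := @LocallyQuasiFinite)]
  intro U V e
  have h1 : (f.appLE U.1 V.1 e).hom.FiniteType := f.finiteType_appLE U.2 V.2 e
  have h2 : (f.appLE U.1 V.1 e).hom.FormallyUnramified :=
    FormallyUnramified.formallyUnramified_appLE f U.2 V.2 e
  algebraize [(f.appLE U.1 V.1 e).hom]
  exact RingHom.quasiFinite_algebraMap.mpr inferInstance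

/-- Zariski's main theorem over an affine base, in ring form. -/
theorem exists_integral_openImmersion (A : Type u) [CommRing A] {U : Scheme.{u}}
    (g : U ⟶ Spec (CommRingCat.of A)) [QuasiCompact g] [IsSeparated g] [LocallyQuasiFinite g]
    [LocallyOfFiniteType g] :
    ∃ (B : Type u) (_ : CommRing B) (_ : Algebra A B) (_ : Algebra.IsIntegral A B)
      (j : U ⟶ Spec (CommRingCat.of B)), IsOpenImmersion j ∧
        j ≫ Spec.map (CommRingCat.ofHom (algebraMap A B)) = g := by
  let T := g.normalization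
  let h : T ⟶ Spec (CommRingCat.of A) := g.fromNormalization
  haveI : IsAffine T := isAffine_of_isAffineHom h
  let ψ : T ≅ Spec Γ(T, ⊤) := T.isoSpec
  let φ : CommRingCat.of A ⟶ Γ(T, ⊤) := Spec.preimage (ψ.inv ≫ h)
  have hφ : Spec.map φ = ψ.inv ≫ h := Spec.map_preimage _
  have hint : φ.hom.IsIntegral := by
    have : IsIntegralHom (Spec.map φ) := by rw [hφ]; infer_instance
    exact IsIntegralHom.SpecMap_iff.mp this
  letI : Algebra A Γ(T, ⊤) := φ.hom.toAlgebra
  refine ⟨Γ(T, ⊤), inferInstance, inferInstance, ⟨hint⟩, g.toNormalization ≫ ψ.hom,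
    inferInstance, ?_⟩
  change (g.toNormalization ≫ ψ.hom) ≫ Spec.map φ = g
  rw [hφ, Category.assoc, Iso.hom_inv_id_assoc]
  exact g.toNormalization_fromNormalization

/-- finite part over a henselian pair -/
theorem exists_finite_part (A : Type u) [CommRing A] (I : Ideal A) [HenselianRing A I]
    {U : Scheme.{u}} (g : U ⟶ Spec (CommRingCat.of A)) [QuasiCompact g] [IsSeparated g]
    [LocallyQuasiFinite g] [LocallyOfFiniteType g]
    (hfin : IsFinite (pullback.snd g (Spec.map (CommRingCat.ofHom (Ideal.Quotient.mk I))))) :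
    ∃ W : U.Opens, IsClosed (W : Set U) ∧ IsFinite (W.ι ≫ g) ∧
      ∀ u : U, u ∉ W → ¬ I ≤ (g.base u : PrimeSpectrum A).asIdeal := by
  obtain ⟨B, _, _, _, j, hj, hjg⟩ := exists_integral_openImmersion A g
  set J := I.map (algebraMap A B) with hJ
  let πI := Spec.map (CommRingCat.ofHom (Ideal.Quotient.mk I))
  let sφ := Spec.map (CommRingCat.ofHom (algebraMap A B))
  -- preimage of `V(I)` in `Spec B`
  have hpre : ∀ p : Spec (CommRingCat.of B), p ∈ zeroLocus (J : Set B) ↔
      I ≤ (sφ p : PrimeSpectrum A).asIdeal := by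
    intro p
    rw [hJ, Ideal.map, zeroLocus_span]
    constructor
    · intro hp a ha
      exact hp ⟨a, ha, rfl⟩
    · rintro hp _ ⟨a, ha, rfl⟩
      exact hp ha
  -- the closed set `C`
  let C : Set (Spec (CommRingCat.of B)) := Set.range j ∩ zeroLocus (J : Set B)
  have hCclosed : IsClosed C := by
    let k := pullback.fst g πI ≫ j
    have hk : k ≫ sφ = pullback.snd g πI ≫ πI := by
      simp only [k, Category.assoc]
      rw [hjg, pullback.condition]
    haveI := hfin
    haveI : IsClosedImmersion πI :=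
      IsClosedImmersion.spec_of_surjective _ Ideal.Quotient.mk_surjective
    haveI : IsProper (k ≫ sφ) := by rw [hk]; infer_instance
    haveI : IsProper k := IsProper.of_comp k sφ
    have hrange : Set.range k = C := by
      simp only [k, C]
      rw [Scheme.Hom.comp_base, TopCat.coe_comp, Set.range_comp, Scheme.Pullback.range_fst]
      have h1 : Set.range πI = zeroLocus (I : Set A) := by
        change Set.range (comap (Ideal.Quotient.mk I)) = _
        rw [range_comap_of_surjective _ _ Ideal.Quotient.mk_surjective, Ideal.mk_ker]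
      have h2 : g ⁻¹' Set.range πI = j ⁻¹' zeroLocus (J : Set B) := by
        ext u
        have e1 : sφ (j u) = g u := by rw [← Scheme.Hom.comp_apply, hjg]
        change g u ∈ Set.range πI ↔ j u ∈ zeroLocus (J : Set B)
        rw [h1, hpre, e1]
        rfl
      rw [h2, Set.image_preimage_eq_range_inter]
    rw [← hrange]
    exact k.isClosedMap.isClosed_range
  obtain ⟨e, he, heC⟩ := exists_idempotent_basicOpen I B C (Set.range j) hCclosed
    j.isOpenEmbedding.isOpen_range rfl
  -- `D(e) ⊆ range j`
  have hEclosed : IsClosed (basicOpen e : Set (PrimeSpectrum B)) :=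
    (PrimeSpectrum.isClopen_iff.mpr ⟨e, he, rfl⟩).1
  have hsub : (basicOpen e : Set (PrimeSpectrum B)) ⊆ Set.range j := by
    have hZ : IsClosed ((basicOpen e : Set (PrimeSpectrum B)) \ Set.range j) :=
      hEclosed.sdiff j.isOpenEmbedding.isOpen_range
    have hZ0 : ((basicOpen e : Set (PrimeSpectrum B)) \ Set.range j) ∩ zeroLocus (J : Set B) = ∅ := by
      rw [Set.eq_empty_iff_forall_notMem]
      rintro p ⟨⟨hp1, hp2⟩, hp3⟩
      have : p ∈ C := by rw [← heC]; exact ⟨hp1, hp3⟩
      exact hp2 this.1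
    have := eq_empty_of_isClosed_of_inter_zeroLocus J
      (Groth.Agent.H8.HensPair.map_le_jacobson_of_isIntegral (HenselianRing.jac (I := I))) _ hZ hZ0
    rwa [Set.sdiff_eq_empty] at this
  let E : (Spec (CommRingCat.of B)).Opens := basicOpen e
  refine ⟨j ⁻¹ᵁ E, hEclosed.preimage j.continuous, ?_, ?_⟩
  · -- finiteness
    let m := (j ⁻¹ᵁ E).ι ≫ j
    have hm : Set.range m = (E : Set (Spec (CommRingCat.of B))) := by
      simp only [m]
      rw [Scheme.Hom.comp_base, TopCat.coe_comp, Set.range_comp, Scheme.Opens.range_ι]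
      change j '' (j ⁻¹' (E : Set _)) = _
      rw [Set.image_preimage_eq_range_inter, Set.inter_eq_right]
      exact hsub
    haveI : IsClosedImmersion m := IsClosedImmersion.of_isPreimmersion m (by rw [hm]; exact hEclosed)
    haveI : IsIntegralHom sφ := IsIntegralHom.SpecMap_iff.mpr Algebra.IsIntegral.isIntegral
    have hmg : (j ⁻¹ᵁ E).ι ≫ g = m ≫ sφ := by
      simp only [m, Category.assoc]; rw [hjg]
    rw [hmg]
    have h2 : LocallyOfFiniteType (m ≫ sφ) := by rw [← hmg]; infer_instance
    exact (IsFinite.iff_isIntegralHom_and_locallyOfFiniteType _).mpr ⟨inferInstance, h2⟩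
  · intro u hu hI
    apply hu
    have h1 : j u ∈ zeroLocus (J : Set B) := by
      rw [hpre, ← Scheme.Hom.comp_apply, hjg]
      exact hI
    have h2 : j u ∈ C := ⟨⟨u, rfl⟩, h1⟩
    rw [← heC] at h2
    exact h2.1

end Groth.Agent.H1.HensPairFin
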