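import Mathlib
universe u
open CategoryTheory AlgebraicGeometry

namespace Groth.Agent.H1.SpreadFP

variable {X Y S : Scheme.{u}} (sX : X ⟶ S) (sY : Y ⟶ S) {R A : CommRingCat.{u}}

lemma res_res (X : Scheme.{u}) {U V W : X.Opens} (h1 : V ≤ U) (h2 : W ≤ V) (a : Γ(X, U)) :
    X.presheaf.map (homOfLE h2).op (X.presheaf.map (homOfLE h1).op a) =
      X.presheaf.map (homOfLE (h2.trans h1)).op a := by
  rw [← CommRingCat.comp_apply, ← Functor.map_comp]; rfl

set_option backward.isDefEq.respectTransparency.types false in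
/-- Finite-presentation version of `exists_lift_of_germInjective`: no germ-injectivity needed. -/
lemma exists_lift_of_finitePresentation {x : X} {U : X.Opens} (hxU : x ∈ U)
    (φ : A ⟶ X.presheaf.stalk x) (φRA : R ⟶ A) (φRX : R ⟶ Γ(X, U))
    (hφRA : RingHom.FinitePresentation φRA.hom)
    (e : φRA ≫ φ = φRX ≫ X.presheaf.germ U x hxU) :
    ∃ (V : X.Opens) (hxV : x ∈ V) (φ' : A ⟶ Γ(X, V)) (i : V ≤ U), IsAffineOpen V ∧
      φ = φ' ≫ X.presheaf.germ V x hxV ∧ φRX ≫ X.presheaf.map i.hom.op = φRA ≫ φ' := by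
  algebraize [φRA.hom]
  obtain ⟨n, π, hπ, s, hs⟩ := Algebra.FinitePresentation.out (R := R) (A := A)
  choose W hxW f hf using fun i : Fin n ↦ X.presheaf.exists_germ_eq (φ (π (MvPolynomial.X i)))
  have hxV₀ : x ∈ (Finset.univ.inf W) ⊓ U := by
    rw [← SetLike.mem_coe, TopologicalSpace.Opens.coe_inf, TopologicalSpace.Opens.coe_finset_inf]
    exact ⟨by simpa using fun i ↦ hxW i, hxU⟩
  set V₀ : X.Opens := (Finset.univ.inf W) ⊓ U with hV₀
  have hV₀U : V₀ ≤ U := inf_le_right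
  have hV₀W : ∀ i, V₀ ≤ W i := fun i ↦ inf_le_left.trans (Finset.inf_le (Finset.mem_univ i))
  let χ₀ : MvPolynomial (Fin n) R →+* Γ(X, V₀) :=
    MvPolynomial.eval₂Hom (φRX ≫ X.presheaf.map (homOfLE hV₀U).op).hom
      (fun i ↦ X.presheaf.map (homOfLE (hV₀W i)).op (f i))
  have hχ₀ : (X.presheaf.germ V₀ x hxV₀).hom.comp χ₀ = φ.hom.comp π.toRingHom := by
    apply MvPolynomial.ringHom_ext
    · intro r
      simp only [χ₀, RingHom.comp_apply, MvPolynomial.coe_eval₂Hom, MvPolynomial.eval₂_C]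
      have h1 : π.toRingHom (MvPolynomial.C r) = φRA.hom r := by
        show π (MvPolynomial.C r) = _
        rw [← MvPolynomial.algebraMap_eq, AlgHom.commutes]; rfl
      rw [h1]
      have h2 := congr($e r)
      simp only [CommRingCat.comp_apply] at h2 ⊢
      rw [h2]
      exact X.presheaf.germ_res_apply _ _ _ _
    · intro i
      simp only [χ₀, RingHom.comp_apply, MvPolynomial.coe_eval₂Hom, MvPolynomial.eval₂_X]
      exact (X.presheaf.germ_res_apply _ _ _ _).trans (hf i)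
  have hker : ∀ g ∈ s, ∃ (V' : X.Opens) (_ : x ∈ V') (hV' : V' ≤ V₀),
      X.presheaf.map (homOfLE hV').op (χ₀ g) = 0 := by
    intro g hg
    have hg0 : π.toRingHom g = 0 := by
      have : g ∈ RingHom.ker π.toRingHom := by rw [← hs]; exact Ideal.subset_span hg
      exact this
    have h1 : X.presheaf.germ V₀ x hxV₀ (χ₀ g) = X.presheaf.germ V₀ x hxV₀ 0 := by
      have := congr($hχ₀ g)
      simp only [RingHom.comp_apply] at this
      rw [map_zero]
      rw [hg0, map_zero] at this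
      exact this
    obtain ⟨V', hxV', i1, i2, h⟩ := X.presheaf.germ_eq x hxV₀ hxV₀ _ _ h1
    refine ⟨V', hxV', i1.le, ?_⟩
    rw [map_zero] at h
    exact h
  choose! V' hxV' hV'V₀ hV'0 using hker
  have hxV₁ : x ∈ (s.inf V') ⊓ V₀ := by
    rw [← SetLike.mem_coe, TopologicalSpace.Opens.coe_inf, TopologicalSpace.Opens.coe_finset_inf]
    exact ⟨by simpa using fun g hg ↦ hxV' g hg, hxV₀⟩
  obtain ⟨_, ⟨V, hV, rfl⟩, hxV, hVV₁⟩ :=
    X.isBasis_affineOpens.exists_subset_of_mem_open hxV₁ ((s.inf V') ⊓ V₀).2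
  have hVV₀ : V ≤ V₀ := fun y hy ↦ (hVV₁ hy).2
  let χ : MvPolynomial (Fin n) R →+* Γ(X, V) := (X.presheaf.map (homOfLE hVV₀).op).hom.comp χ₀
  have hχker : RingHom.ker π.toRingHom ≤ RingHom.ker χ := by
    rw [← hs, Ideal.span_le]
    intro g hg
    have hVg : V ≤ V' g := fun y hy ↦ by
      have h0 : s.inf V' ≤ V' g := Finset.inf_le hg
      exact h0 (hVV₁ hy).1
    show χ g = 0
    have h1 : χ g = X.presheaf.map (homOfLE hVg).op (X.presheaf.map (homOfLE (hV'V₀ g hg)).op (χ₀ g)) := by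
      rw [res_res]; rfl
    rw [h1, hV'0 g hg, map_zero]
  let φ'' : A →+* Γ(X, V) := RingHom.liftOfSurjective π.toRingHom hπ ⟨χ, hχker⟩
  have hφ'' : ∀ p, φ'' (π p) = χ p := fun p ↦
    RingHom.liftOfRightInverse_comp_apply π.toRingHom _ _ ⟨χ, hχker⟩ p
  refine ⟨V, hxV, CommRingCat.ofHom φ'', hVV₀.trans hV₀U, hV, ?_, ?_⟩
  · ext a
    obtain ⟨p, rfl⟩ := hπ a
    simp only [CommRingCat.comp_apply, CommRingCat.hom_ofHom]
    rw [hφ'']
    have := congr($hχ₀ p)
    simp only [RingHom.comp_apply] at this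
    show φ (π p) = _
    rw [show φ.hom (π p) = φ.hom (π.toRingHom p) from rfl, ← this]
    simp only [χ, RingHom.comp_apply]
    exact (X.presheaf.germ_res_apply _ _ _ _).symm
  · ext r
    simp only [CommRingCat.comp_apply, CommRingCat.hom_ofHom]
    have h1 : φRA.hom r = π (MvPolynomial.C r) := by
      rw [← MvPolynomial.algebraMap_eq, AlgHom.commutes]; rfl
    rw [show (φRA r : A) = φRA.hom r from rfl, h1, hφ'']
    simp only [χ, χ₀, RingHom.comp_apply, MvPolynomial.coe_eval₂Hom, MvPolynomial.eval₂_C]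
    simp only [CommRingCat.comp_apply]
    exact (res_res X _ _ _).symm

set_option backward.isDefEq.respectTransparency.types false in
/-- Spreading out for `Y` locally of finite presentation over `S`: no assumption on `X`. -/
lemma spread_out_of_lfp [LocallyOfFinitePresentation sY] {x : X} {y : Y}
    (e : sX x = sY y) (φ : Y.presheaf.stalk y ⟶ X.presheaf.stalk x)
    (h : sY.stalkMap y ≫ φ =
      S.presheaf.stalkSpecializes (Inseparable.of_eq e).specializes ≫ sX.stalkMap x) :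
    ∃ (U : X.Opens) (hxU : x ∈ U) (f : U.toScheme ⟶ Y),
      Spec.map φ ≫ Y.fromSpecStalk y = U.fromSpecStalkOfMem x hxU ≫ f ∧
      f ≫ sY = U.ι ≫ sX := by
  obtain ⟨_, ⟨U, hU, rfl⟩, hxU, -⟩ :=
    S.isBasis_affineOpens.exists_subset_of_mem_open (Set.mem_univ (sX x)) isOpen_univ
  have hyU : sY y ∈ U := e ▸ hxU
  obtain ⟨_, ⟨V : Y.Opens, hV, rfl⟩, hyV, iVU⟩ :=
    Y.isBasis_affineOpens.exists_subset_of_mem_open hyU (sY ⁻¹ᵁ U).2
  have : sY.appLE U V iVU ≫ Y.presheaf.germ V y hyV ≫ φ =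
      sX.app U ≫ X.presheaf.germ (sX ⁻¹ᵁ U) x hxU := by
    rw [Scheme.Hom.appLE, Category.assoc, Y.presheaf.germ_res_assoc,
      ← Scheme.Hom.germ_stalkMap_assoc, h]
    simp
  obtain ⟨W, hxW, φ', i, hW, h₁, h₂⟩ :=
    exists_lift_of_finitePresentation (R := Γ(S, U)) (A := Γ(Y, V)) (U := sX ⁻¹ᵁ U) (x := x) hxU
    (Y.presheaf.germ _ y hyV ≫ φ) (sY.appLE U V iVU) (sX.app U)
    (sY.finitePresentation_appLE hU hV _) this
  refine ⟨W, hxW, W.toSpecΓ ≫ Spec.map φ' ≫ hV.fromSpec, ?_, ?_⟩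
  · rw [W.fromSpecStalkOfMem_toSpecΓ_assoc x hxW, ← Spec.map_comp_assoc, ← h₁,
      Spec.map_comp, Category.assoc, ← IsAffineOpen.fromSpecStalk,
      IsAffineOpen.fromSpecStalk_eq_fromSpecStalk]
  · simp only [Category.assoc]
    rw [← IsAffineOpen.SpecMap_appLE_fromSpec sY hU hV iVU, ← Spec.map_comp_assoc, ← h₂,
      ← Scheme.Hom.appLE, ← hW.isoSpec_hom, IsAffineOpen.SpecMap_appLE_fromSpec sX hU hW i,
      ← Iso.eq_inv_comp, IsAffineOpen.isoSpec_inv_ι_assoc]

set_option backward.isDefEq.respectTransparency.types false in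
lemma spread_out_of_lfp' [LocallyOfFinitePresentation sY] {x : X}
    (φ : Spec (X.presheaf.stalk x) ⟶ Y)
    (h : φ ≫ sY = X.fromSpecStalk x ≫ sX) :
    ∃ (U : X.Opens) (hxU : x ∈ U) (f : U.toScheme ⟶ Y),
      φ = U.fromSpecStalkOfMem x hxU ≫ f ∧ f ≫ sY = U.ι ≫ sX := by
  have := spread_out_of_lfp sX sY ?_ (Scheme.stalkClosedPointTo φ) ?_
  · simpa only [Scheme.Spec_stalkClosedPointTo_fromSpecStalk] using this
  · rw [← Scheme.Hom.comp_apply, h, Scheme.Hom.comp_apply, Scheme.fromSpecStalk_closedPoint]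
  · apply Spec.map_injective
    rw [← cancel_mono (S.fromSpecStalk _)]
    simpa only [Spec.map_comp, Category.assoc, Scheme.SpecMap_stalkMap_fromSpecStalk,
      Scheme.Spec_stalkClosedPointTo_fromSpecStalk_assoc,
      Scheme.SpecMap_stalkSpecializes_fromSpecStalk]

end Groth.Agent.H1.SpreadFP
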