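import Mathlib
import Groth.Agent.Lib.Helper1.SpreadFP
universe u
open CategoryTheory AlgebraicGeometry Limits
namespace Groth.Agent.H1.Birat

variable {X Y S : Scheme.{u}}

set_option backward.isDefEq.respectTransparency.types false in
/-- Uniqueness of spreading out, for `Y` locally of finite type over `S`, no assumption on `X`. -/
lemma spread_out_unique_of_lft (sY : Y ⟶ S) [LocallyOfFiniteType sY] {x : X}
    (f g : X ⟶ Y) (hfg : f ≫ sY = g ≫ sY) (e : f x = g x)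
    (H : f.stalkMap x =
      Y.presheaf.stalkSpecializes (Inseparable.of_eq e.symm).specializes ≫ g.stalkMap x) :
    ∃ (U : X.Opens), x ∈ U ∧ U.ι ≫ f = U.ι ≫ g := by
  obtain ⟨_, ⟨W, hW, rfl⟩, hxW, -⟩ :=
    S.isBasis_affineOpens.exists_subset_of_mem_open (Set.mem_univ (sY (f x))) isOpen_univ
  obtain ⟨_, ⟨V : Y.Opens, hV, rfl⟩, hxV, iVW⟩ :=
    Y.isBasis_affineOpens.exists_subset_of_mem_open hxW (sY ⁻¹ᵁ W).2
  have hxV' : g x ∈ V := e ▸ hxV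
  have hft := sY.finiteType_appLE hW hV iVW
  algebraize [(sY.appLE W V iVW).hom]
  obtain ⟨s, hs⟩ := (Algebra.FiniteType.out : (⊤ : Subalgebra Γ(S, W) Γ(Y, V)).FG)
  have key : ∀ t : Γ(Y, V), ∃ (U' : X.Opens) (_ : x ∈ U') (h1 : U' ≤ f ⁻¹ᵁ V)
      (h2 : U' ≤ g ⁻¹ᵁ V), f.appLE V U' h1 t = g.appLE V U' h2 t := by
    intro t
    have h1 : X.presheaf.germ (f ⁻¹ᵁ V) x hxV (f.app V t) =
        X.presheaf.germ (g ⁻¹ᵁ V) x hxV' (g.app V t) := by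
      rw [← Scheme.Hom.germ_stalkMap_apply, ← Scheme.Hom.germ_stalkMap_apply, H]
      simp only [CommRingCat.comp_apply]
      rw [TopCat.Presheaf.germ_stalkSpecializes_apply]
    obtain ⟨U', hxU', i1, i2, h⟩ := X.presheaf.germ_eq x hxV hxV' _ _ h1
    exact ⟨U', hxU', i1.le, i2.le, h⟩
  choose U' hxU' hU'f hU'g hU' using key
  have hxU₁ : x ∈ s.inf U' ⊓ (f ⁻¹ᵁ V ⊓ g ⁻¹ᵁ V) := by
    rw [← SetLike.mem_coe, TopologicalSpace.Opens.coe_inf, TopologicalSpace.Opens.coe_finset_inf]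
    exact ⟨by simpa using fun t _ ↦ hxU' t, hxV, hxV'⟩
  obtain ⟨_, ⟨U, hU, rfl⟩, hxU, hUU₁⟩ :=
    X.isBasis_affineOpens.exists_subset_of_mem_open hxU₁ (s.inf U' ⊓ (f ⁻¹ᵁ V ⊓ g ⁻¹ᵁ V)).2
  have hUf : U ≤ f ⁻¹ᵁ V := fun y hy ↦ (hUU₁ hy).2.1
  have hUg : U ≤ g ⁻¹ᵁ V := fun y hy ↦ (hUU₁ hy).2.2
  have hUs : ∀ t ∈ s, U ≤ U' t := fun t ht y hy ↦
    (Finset.inf_le ht : s.inf U' ≤ U' t) (hUU₁ hy).1
  refine ⟨U, hxU, ?_⟩
  rw [← Scheme.Hom.resLE_comp_ι _ hUf, ← Scheme.Hom.resLE_comp_ι _ hUg]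
  congr 1
  have : IsAffine V := hV
  suffices ∀ (U₀ V₀) (eU : U = U₀) (eV : V = V₀),
      f.appLE V₀ U₀ (eU ▸ eV ▸ hUf) =
        g.appLE V₀ U₀ (eU ▸ eV ▸ hUg) by
    rw [← cancel_mono V.toScheme.isoSpec.hom]
    simp only [Scheme.isoSpec, asIso_hom, Scheme.toSpecΓ_naturality,
      Scheme.Hom.app_eq_appLE, Scheme.Hom.resLE_appLE]
    congr 2
    apply this <;> simp
  rintro U V rfl rfl
  -- ring-hom equality via generators
  have hcomm : sY.appLE W V iVW ≫ f.appLE V U hUf = sY.appLE W V iVW ≫ g.appLE V U hUg := by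
    rw [Scheme.Hom.appLE_comp_appLE, Scheme.Hom.appLE_comp_appLE]
    congr 1
  let _ : Algebra Γ(S, W) Γ(X, U) := (sY.appLE W V iVW ≫ f.appLE V U hUf).hom.toAlgebra
  let φ₁ : Γ(Y, V) →ₐ[Γ(S, W)] Γ(X, U) :=
    { (f.appLE V U hUf).hom with commutes' := fun r ↦ rfl }
  let φ₂ : Γ(Y, V) →ₐ[Γ(S, W)] Γ(X, U) :=
    { (g.appLE V U hUg).hom with
      commutes' := fun r ↦ (congr($hcomm r)).symm }
  have : φ₁ = φ₂ := by
    apply AlgHom.ext_of_adjoin_eq_top hs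
    intro t ht
    show f.appLE V U hUf t = g.appLE V U hUg t
    have h1 := Scheme.Hom.appLE_map f (hU'f t) (homOfLE (hUs t ht)).op
    have h2 := Scheme.Hom.appLE_map g (hU'g t) (homOfLE (hUs t ht)).op
    have h3 := congr($h1 t)
    have h4 := congr($h2 t)
    rw [CommRingCat.comp_apply] at h3 h4
    rw [← h3, ← h4, hU' t]
  ext t
  exact congr($this t)

set_option backward.isDefEq.respectTransparency.types false in
lemma spread_out_unique_of_lft' (sY : Y ⟶ S) [LocallyOfFiniteType sY] {x : X}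
    (f g : X ⟶ Y) (hfg : f ≫ sY = g ≫ sY)
    (e : X.fromSpecStalk x ≫ f = X.fromSpecStalk x ≫ g) :
    ∃ (U : X.Opens), x ∈ U ∧ U.ι ≫ f = U.ι ≫ g := by
  fapply spread_out_unique_of_lft sY f g hfg
  · simpa using congr($e (IsLocalRing.closedPoint _))
  · apply Spec.map_injective
    rw [← cancel_mono (Y.fromSpecStalk _)]
    simpa [Scheme.SpecMap_stalkSpecializes_fromSpecStalk]

set_option backward.isDefEq.respectTransparency.types false in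
/-- If `k : Spec 𝒪_{X,x} ⟶ P` lifts `X.fromSpecStalk x` along a mono `ι : P ⟶ X`, then the
canonical map `Spec 𝒪_{P,p} ⟶ P` at `p = k(closed point)` factors through `k`. -/
lemma exists_comp_eq_fromSpecStalk {P : Scheme.{u}} (ι : P ⟶ X) [Mono ι] (x : X)
    (k : Spec (X.presheaf.stalk x) ⟶ P) (hk : k ≫ ι = X.fromSpecStalk x) :
    ∃ c : Spec (P.presheaf.stalk (k (IsLocalRing.closedPoint _))) ⟶ Spec (X.presheaf.stalk x),
      c ≫ k = P.fromSpecStalk (k (IsLocalRing.closedPoint _)) := by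
  set p := k (IsLocalRing.closedPoint _) with hp
  have hx : ι p = x := by
    rw [hp, ← Scheme.Hom.comp_apply, hk, Scheme.fromSpecStalk_closedPoint]
  have hsp : ι p ⤳ x := (Inseparable.of_eq hx).specializes
  refine ⟨Spec.map (X.presheaf.stalkSpecializes hsp ≫ ι.stalkMap p), ?_⟩
  rw [← cancel_mono ι, Category.assoc, hk, Spec.map_comp, Category.assoc,
    Scheme.SpecMap_stalkSpecializes_fromSpecStalk, Scheme.SpecMap_stalkMap_fromSpecStalk]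


set_option backward.isDefEq.respectTransparency.types false in
/-- Agreement near the distinguished point of `g₀ ∘ f₀` with the inclusion. -/
lemma exists_opens_comp_eq (sX : X ⟶ S) (sY : Y ⟶ S) [LocallyOfFiniteType sX] (x : X) (y : Y)
    (e : X.presheaf.stalk x ≅ Y.presheaf.stalk y)
    (U₀ : X.Opens) (hxU : x ∈ U₀) (f₀ : U₀.toScheme ⟶ Y) (hf₀ : f₀ ≫ sY = U₀.ι ≫ sX)
    (V₀ : Y.Opens) (hyV : y ∈ V₀) (g₀ : V₀.toScheme ⟶ X) (hg₀ : g₀ ≫ sX = V₀.ι ≫ sY)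
    (hE₁ : Spec.map e.inv ≫ Y.fromSpecStalk y = U₀.fromSpecStalkOfMem x hxU ≫ f₀)
    (hE₂ : Spec.map e.hom ≫ X.fromSpecStalk x = V₀.fromSpecStalkOfMem y hyV ≫ g₀) :
    ∃ (P₁ : (pullback f₀ V₀.ι).Opens) (p₀ : ↥(pullback f₀ V₀.ι)), p₀ ∈ P₁ ∧
      (pullback.fst f₀ V₀.ι ≫ U₀.ι) p₀ = x ∧ (pullback.snd f₀ V₀.ι ≫ V₀.ι) p₀ = y ∧
      P₁.ι ≫ pullback.snd f₀ V₀.ι ≫ g₀ = P₁.ι ≫ pullback.fst f₀ V₀.ι ≫ U₀.ι := by
  let jx' := U₀.fromSpecStalkOfMem x hxU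
  let jy' := V₀.fromSpecStalkOfMem y hyV
  have hjx : jx' ≫ U₀.ι = X.fromSpecStalk x := U₀.fromSpecStalkOfMem_ι x hxU
  have hjy : jy' ≫ V₀.ι = Y.fromSpecStalk y := V₀.fromSpecStalkOfMem_ι y hyV
  let k : Spec (X.presheaf.stalk x) ⟶ pullback f₀ V₀.ι :=
    pullback.lift jx' (Spec.map e.inv ≫ jy') (by rw [Category.assoc, hjy, hE₁])
  have hk₁ : k ≫ pullback.fst f₀ V₀.ι = jx' := pullback.lift_fst _ _ _
  have hk₂ : k ≫ pullback.snd f₀ V₀.ι = Spec.map e.inv ≫ jy' := pullback.lift_snd _ _ _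
  have hkι : k ≫ (pullback.fst f₀ V₀.ι ≫ U₀.ι) = X.fromSpecStalk x := by
    rw [reassoc_of% hk₁, hjx]
  have hkm : k ≫ (pullback.snd f₀ V₀.ι ≫ g₀) = k ≫ (pullback.fst f₀ V₀.ι ≫ U₀.ι) := by
    rw [hkι, reassoc_of% hk₂, ← hE₂, ← Spec.map_comp_assoc, e.hom_inv_id, Spec.map_id,
      Category.id_comp]
  obtain ⟨c, hc⟩ := exists_comp_eq_fromSpecStalk (pullback.fst f₀ V₀.ι ≫ U₀.ι) x k hkι
  set p₀ := k (IsLocalRing.closedPoint _) with hp₀
  have hms : (pullback.snd f₀ V₀.ι ≫ g₀) ≫ sX = (pullback.fst f₀ V₀.ι ≫ U₀.ι) ≫ sX := by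
    rw [Category.assoc, hg₀, ← pullback.condition_assoc, hf₀, Category.assoc]
  obtain ⟨P₁, hpP₁, hP₁⟩ := spread_out_unique_of_lft' sX (x := p₀) _ _ hms
    (by rw [← hc, Category.assoc, Category.assoc, hkm])
  refine ⟨P₁, p₀, hpP₁, ?_, ?_, hP₁⟩
  · rw [hp₀, ← Scheme.Hom.comp_apply, hkι, Scheme.fromSpecStalk_closedPoint]
  · rw [hp₀, ← Scheme.Hom.comp_apply, reassoc_of% hk₂, hjy, Scheme.Hom.comp_apply,
      Spec_closedPoint, Scheme.fromSpecStalk_closedPoint]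

/-- Abstract gluing: mutually inverse partial maps give an open immersion. -/
lemma isOpenImmersion_of_local_inverse {U V : Scheme.{u}} (iU : U ⟶ X) (iV : V ⟶ Y)
    [IsOpenImmersion iU] [IsOpenImmersion iV] (f : U ⟶ Y) (g : V ⟶ X)
    (c1 : pullback.snd f iV ≫ g = pullback.fst f iV ≫ iU)
    (c2 : pullback.snd g iU ≫ f = pullback.fst g iU ≫ iV) :
    IsOpenImmersion (pullback.fst f iV ≫ f) := by
  let α : pullback f iV ⟶ pullback g iU := pullback.lift (pullback.snd f iV) (pullback.fst f iV) c1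
  let β : pullback g iU ⟶ pullback f iV := pullback.lift (pullback.snd g iU) (pullback.fst g iU) c2
  have hαβ : α ≫ β = 𝟙 _ := by
    apply pullback.hom_ext
    · rw [Category.assoc, pullback.lift_fst, pullback.lift_snd, Category.id_comp]
    · rw [Category.assoc, pullback.lift_snd, pullback.lift_fst, Category.id_comp]
  have hβα : β ≫ α = 𝟙 _ := by
    apply pullback.hom_ext
    · rw [Category.assoc, pullback.lift_fst, pullback.lift_snd, Category.id_comp]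
    · rw [Category.assoc, pullback.lift_snd, pullback.lift_fst, Category.id_comp]
  have : IsIso α := ⟨β, hαβ, hβα⟩
  have h : pullback.fst f iV ≫ f = α ≫ pullback.fst g iU ≫ iV := by
    rw [pullback.condition, pullback.lift_fst_assoc]
  rw [h]
  infer_instance

lemma comp_eq_of_opens (U₀ : X.Opens) (f₀ : U₀.toScheme ⟶ Y) (V₀ : Y.Opens) (g₀ : V₀.toScheme ⟶ X)
    (P₁ : (pullback f₀ V₀.ι).Opens) (Q₁ : (pullback g₀ U₀.ι).Opens)
    (hP₁ : P₁.ι ≫ pullback.snd f₀ V₀.ι ≫ g₀ = P₁.ι ≫ pullback.fst f₀ V₀.ι ≫ U₀.ι) :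
    pullback.snd (P₁.ι ≫ pullback.fst f₀ V₀.ι ≫ f₀) (Q₁.ι ≫ pullback.fst g₀ U₀.ι ≫ V₀.ι) ≫
        (Q₁.ι ≫ pullback.fst g₀ U₀.ι ≫ g₀) =
      pullback.fst (P₁.ι ≫ pullback.fst f₀ V₀.ι ≫ f₀) (Q₁.ι ≫ pullback.fst g₀ U₀.ι ≫ V₀.ι) ≫
        (P₁.ι ≫ pullback.fst f₀ V₀.ι ≫ U₀.ι) := by
  have h : pullback.snd (P₁.ι ≫ pullback.fst f₀ V₀.ι ≫ f₀) (Q₁.ι ≫ pullback.fst g₀ U₀.ι ≫ V₀.ι) ≫
      Q₁.ι ≫ pullback.fst g₀ U₀.ι =
      pullback.fst (P₁.ι ≫ pullback.fst f₀ V₀.ι ≫ f₀) (Q₁.ι ≫ pullback.fst g₀ U₀.ι ≫ V₀.ι) ≫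
        P₁.ι ≫ pullback.snd f₀ V₀.ι := by
    rw [← cancel_mono V₀.ι]
    simp only [Category.assoc]
    rw [← pullback.condition (f := f₀) (g := V₀.ι)]
    exact (pullback.condition (f := P₁.ι ≫ pullback.fst f₀ V₀.ι ≫ f₀)
      (g := Q₁.ι ≫ pullback.fst g₀ U₀.ι ≫ V₀.ι)).symm
  rw [← hP₁]
  simp only [← Category.assoc] at h ⊢
  rw [h]

set_option backward.isDefEq.respectTransparency.types false in
theorem exists_common_open (sX : X ⟶ S) (sY : Y ⟶ S) [LocallyOfFiniteType sX]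
    [LocallyOfFiniteType sY] (x : X) (y : Y)
    (e : X.presheaf.stalk x ≅ Y.presheaf.stalk y)
    (U₀ : X.Opens) (hxU : x ∈ U₀) (f₀ : U₀.toScheme ⟶ Y) (hf₀ : f₀ ≫ sY = U₀.ι ≫ sX)
    (V₀ : Y.Opens) (hyV : y ∈ V₀) (g₀ : V₀.toScheme ⟶ X) (hg₀ : g₀ ≫ sX = V₀.ι ≫ sY)
    (hE₁ : Spec.map e.inv ≫ Y.fromSpecStalk y = U₀.fromSpecStalkOfMem x hxU ≫ f₀)
    (hE₂ : Spec.map e.hom ≫ X.fromSpecStalk x = V₀.fromSpecStalkOfMem y hyV ≫ g₀) :
    ∃ (T : Scheme.{u}) (a : T ⟶ X) (b : T ⟶ Y), IsOpenImmersion a ∧ IsOpenImmersion b ∧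
      a ≫ sX = b ≫ sY ∧ x ∈ Set.range a ∧ y ∈ Set.range b := by
  obtain ⟨P₁, p₀, hp₀, hp₀x, hp₀y, hP₁⟩ :=
    exists_opens_comp_eq sX sY x y e U₀ hxU f₀ hf₀ V₀ hyV g₀ hg₀ hE₁ hE₂
  obtain ⟨Q₁, q₀, hq₀, hq₀y, hq₀x, hQ₁⟩ :=
    exists_opens_comp_eq sY sX y x e.symm V₀ hyV g₀ hg₀ U₀ hxU f₀ hf₀ hE₂ hE₁
  have c1 := comp_eq_of_opens U₀ f₀ V₀ g₀ P₁ Q₁ hP₁
  have c2 := comp_eq_of_opens V₀ g₀ U₀ f₀ Q₁ P₁ hQ₁
  have hb := isOpenImmersion_of_local_inverse (P₁.ι ≫ pullback.fst f₀ V₀.ι ≫ U₀.ι)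
    (Q₁.ι ≫ pullback.fst g₀ U₀.ι ≫ V₀.ι) (P₁.ι ≫ pullback.fst f₀ V₀.ι ≫ f₀)
    (Q₁.ι ≫ pullback.fst g₀ U₀.ι ≫ g₀) c1 c2
  have hfy : (P₁.ι ≫ pullback.fst f₀ V₀.ι ≫ f₀) ⟨p₀, hp₀⟩ = y := by
    rw [pullback.condition]
    exact hp₀y
  have hiVy : (Q₁.ι ≫ pullback.fst g₀ U₀.ι ≫ V₀.ι) ⟨q₀, hq₀⟩ = y := hq₀y
  obtain ⟨t, ht1, ht2⟩ := Scheme.Pullback.exists_preimage_pullback
    (f := P₁.ι ≫ pullback.fst f₀ V₀.ι ≫ f₀) (g := Q₁.ι ≫ pullback.fst g₀ U₀.ι ≫ V₀.ι)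
    ⟨p₀, hp₀⟩ ⟨q₀, hq₀⟩ (hfy.trans hiVy.symm)
  refine ⟨_, pullback.fst (P₁.ι ≫ pullback.fst f₀ V₀.ι ≫ f₀) (Q₁.ι ≫ pullback.fst g₀ U₀.ι ≫ V₀.ι) ≫
      (P₁.ι ≫ pullback.fst f₀ V₀.ι ≫ U₀.ι),
    pullback.fst (P₁.ι ≫ pullback.fst f₀ V₀.ι ≫ f₀) (Q₁.ι ≫ pullback.fst g₀ U₀.ι ≫ V₀.ι) ≫
      (P₁.ι ≫ pullback.fst f₀ V₀.ι ≫ f₀), inferInstance, hb, ?_, ⟨t, ?_⟩, ⟨t, ?_⟩⟩
  · simp only [Category.assoc, hf₀]
  · rw [Scheme.Hom.comp_apply, ht1]
    exact hp₀x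
  · rw [Scheme.Hom.comp_apply, ht1]
    exact hfy

lemma eqToHom_stalk_eq_stalkSpecializes {s s' : S} (h : s = s') :
    eqToHom (congrArg S.presheaf.stalk h) =
      S.presheaf.stalkSpecializes (Inseparable.of_eq h.symm).specializes := by
  subst h; simp

/-- The relation "the local rings at `x` and `y` are isomorphic over the local ring of `S`". -/
def StalkIsoOver (sX : X ⟶ S) (sY : Y ⟶ S) (x : X) (y : Y) : Prop :=
  ∃ (hs : sX x = sY y) (e : X.presheaf.stalk x ≅ Y.presheaf.stalk y),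
    sX.stalkMap x ≫ e.hom = eqToHom (congrArg S.presheaf.stalk hs) ≫ sY.stalkMap y

set_option backward.isDefEq.respectTransparency.types false in
lemma stalkIsoOver_of_isOpenImmersion (sX : X ⟶ S) (sY : Y ⟶ S) {T : Scheme.{u}} (a : T ⟶ X)
    (b : T ⟶ Y) [IsOpenImmersion a] [IsOpenImmersion b] (hab : a ≫ sX = b ≫ sY) (t : T) :
    StalkIsoOver sX sY (a t) (b t) := by
  have hs : sX (a t) = sY (b t) := by
    show (a ≫ sX) t = (b ≫ sY) t
    rw [hab]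
  refine ⟨hs, asIso (a.stalkMap t) ≪≫ (asIso (b.stalkMap t)).symm, ?_⟩
  simp only [Iso.trans_hom, asIso_hom, Iso.symm_hom, asIso_inv]
  rw [← Category.assoc, IsIso.comp_inv_eq, Category.assoc, ← Scheme.Hom.stalkMap_comp,
    ← Scheme.Hom.stalkMap_comp, Scheme.Hom.stalkMap_congr_hom _ _ hab t,
    eqToHom_stalk_eq_stalkSpecializes hs]
  rfl

lemma irreducibleSpace_opens [IrreducibleSpace X] (U : X.Opens) (hU : (U : Set X).Nonempty) :
    IrreducibleSpace U := by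
  have h1 : PreirreducibleSpace U := by
    constructor
    have := (PreirreducibleSpace.isPreirreducible_univ (X := X)).preimage U.ι.isOpenEmbedding
    simpa using this
  have h2 : Nonempty U := hU.to_subtype
  exact { h1 with toNonempty := h2 }

set_option backward.isDefEq.respectTransparency.types false in
theorem stalkIsoOver_of_birationalOver [IrreducibleSpace X] [IrreducibleSpace Y] (sX : X ⟶ S)
    (sY : Y ⟶ S) (h : Scheme.BirationalOver sX sY) :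
    StalkIsoOver sX sY (genericPoint X) (genericPoint Y) := by
  obtain ⟨f, hf⟩ := h
  have : IrreducibleSpace f.source := irreducibleSpace_opens _ f.dense_source.nonempty
  have : IrreducibleSpace f.target := irreducibleSpace_opens _ f.dense_target.nonempty
  have ha := genericPoint_eq_of_isOpenImmersion f.source.ι
  have hb := genericPoint_eq_of_isOpenImmersion (f.iso.hom ≫ f.target.ι)
  have := stalkIsoOver_of_isOpenImmersion sX sY f.source.ι (f.iso.hom ≫ f.target.ι)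
    (by rw [Category.assoc]; exact Eq.symm hf) (genericPoint f.source)
  rwa [ha, hb] at this

theorem birationalOver_of_common_open [IrreducibleSpace X] [IrreducibleSpace Y] (sX : X ⟶ S)
    (sY : Y ⟶ S) {T : Scheme.{u}} (a : T ⟶ X) (b : T ⟶ Y) [IsOpenImmersion a] [IsOpenImmersion b]
    (hab : a ≫ sX = b ≫ sY) [Nonempty T] : Scheme.BirationalOver sX sY := by
  have : IsDominant a := ⟨a.isOpenEmbedding.isOpen_range.dense (Set.range_nonempty _)⟩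
  have : IsDominant b := ⟨b.isOpenEmbedding.isOpen_range.dense (Set.range_nonempty _)⟩
  have h1 := a.birationalOver sX (a ≫ sX) rfl
  have h2 := b.birationalOver sY (a ≫ sX) hab.symm
  exact h1.symm.trans h2

theorem birationalOver_of_spread [IrreducibleSpace X] [IrreducibleSpace Y] (sX : X ⟶ S)
    (sY : Y ⟶ S) [LocallyOfFiniteType sX] [LocallyOfFiniteType sY] (x : X) (y : Y)
    (e : X.presheaf.stalk x ≅ Y.presheaf.stalk y)
    (H1 : ∃ (U : X.Opens) (hxU : x ∈ U) (f : U.toScheme ⟶ Y),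
      Spec.map e.inv ≫ Y.fromSpecStalk y = U.fromSpecStalkOfMem x hxU ≫ f ∧ f ≫ sY = U.ι ≫ sX)
    (H2 : ∃ (V : Y.Opens) (hyV : y ∈ V) (g : V.toScheme ⟶ X),
      Spec.map e.hom ≫ X.fromSpecStalk x = V.fromSpecStalkOfMem y hyV ≫ g ∧ g ≫ sX = V.ι ≫ sY) :
    Scheme.BirationalOver sX sY := by
  obtain ⟨U₀, hxU, f₀, hE₁, hf₀⟩ := H1
  obtain ⟨V₀, hyV, g₀, hE₂, hg₀⟩ := H2
  obtain ⟨T, a, b, ha, hb, hab, ⟨t, -⟩, -⟩ :=
    exists_common_open sX sY x y e U₀ hxU f₀ hf₀ V₀ hyV g₀ hg₀ hE₁ hE₂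
  have : Nonempty T := ⟨t⟩
  exact birationalOver_of_common_open sX sY a b hab

/-- Translation of the compatibility hypothesis into the form used by spreading out. -/
lemma stalkMap_comp_inv_eq (sX : X ⟶ S) (sY : Y ⟶ S) {x : X} {y : Y} (hs : sX x = sY y)
    (e : X.presheaf.stalk x ≅ Y.presheaf.stalk y)
    (he : sX.stalkMap x ≫ e.hom = eqToHom (congrArg S.presheaf.stalk hs) ≫ sY.stalkMap y) :
    sY.stalkMap y ≫ e.inv =
      S.presheaf.stalkSpecializes (Inseparable.of_eq hs).specializes ≫ sX.stalkMap x := by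
  rw [eqToHom_stalk_eq_stalkSpecializes hs] at he
  rw [Iso.comp_inv_eq, Category.assoc, he, ← Category.assoc, TopCat.Presheaf.stalkSpecializes_comp,
    TopCat.Presheaf.stalkSpecializes_refl, Category.id_comp]

theorem birationalOver_iff_of_lfp [IrreducibleSpace X] [IrreducibleSpace Y] (sX : X ⟶ S)
    (sY : Y ⟶ S) [LocallyOfFinitePresentation sX] [LocallyOfFinitePresentation sY] :
    Scheme.BirationalOver sX sY ↔ StalkIsoOver sX sY (genericPoint X) (genericPoint Y) := by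
  refine ⟨stalkIsoOver_of_birationalOver sX sY, ?_⟩
  rintro ⟨hs, e, he⟩
  refine birationalOver_of_spread sX sY _ _ e ?_ ?_
  · exact SpreadFP.spread_out_of_lfp sX sY hs e.inv (stalkMap_comp_inv_eq sX sY hs e he)
  · refine SpreadFP.spread_out_of_lfp sY sX hs.symm e.hom ?_
    rw [he, eqToHom_stalk_eq_stalkSpecializes hs]

theorem birationalOver_iff_of_germInjective [IrreducibleSpace X] [IrreducibleSpace Y] (sX : X ⟶ S)
    (sY : Y ⟶ S) [LocallyOfFiniteType sX] [LocallyOfFiniteType sY]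
    [X.IsGermInjectiveAt (genericPoint X)] [Y.IsGermInjectiveAt (genericPoint Y)] :
    Scheme.BirationalOver sX sY ↔ StalkIsoOver sX sY (genericPoint X) (genericPoint Y) := by
  refine ⟨stalkIsoOver_of_birationalOver sX sY, ?_⟩
  rintro ⟨hs, e, he⟩
  refine birationalOver_of_spread sX sY _ _ e ?_ ?_
  · exact spread_out_of_isGermInjective sX sY hs e.inv (stalkMap_comp_inv_eq sX sY hs e he)
  · refine spread_out_of_isGermInjective sY sX hs.symm e.hom ?_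
    rw [he, eqToHom_stalk_eq_stalkSpecializes hs]

end Groth.Agent.H1.Birat
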