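import Mathlib
import Groth.Agent.Lib.Helper1.Birat
universe u
open CategoryTheory AlgebraicGeometry Limits

namespace Groth.Agent.H1.Birat

section Top
variable {Y : Type*} [TopologicalSpace Y]

/-- the open complement of the irreducible components other than `closure {η}` -/
def compOpen (hfin : (irreducibleComponents Y).Finite) (η : Y) : TopologicalSpace.Opens Y :=
  ⟨(⋃₀ {Z ∈ irreducibleComponents Y | Z ≠ closure {η}})ᶜ, by
    rw [isOpen_compl_iff, Set.sUnion_eq_biUnion]
    have hfin' : {Z ∈ irreducibleComponents Y | Z ≠ closure {η}}.Finite :=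
      hfin.subset (fun Z (hZ : Z ∈ irreducibleComponents Y ∧ Z ≠ closure {η}) => hZ.1)
    exact hfin'.isClosed_biUnion
      (fun Z (hZ : Z ∈ irreducibleComponents Y ∧ Z ≠ closure {η}) =>
        isClosed_of_mem_irreducibleComponents Z hZ.1)⟩

lemma mem_compOpen (hfin : (irreducibleComponents Y).Finite) {η : Y}
    (hη : closure {η} ∈ irreducibleComponents Y) : η ∈ compOpen hfin η := by
  rintro ⟨Z, ⟨hZ, hne⟩, hηZ⟩
  apply hne
  have h1 : closure {η} ⊆ Z :=
    (isClosed_of_mem_irreducibleComponents Z hZ).closure_subset_iff.mpr (by simpa using hηZ)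
  exact (hη.2 hZ.1 h1).antisymm h1 |>.symm ▸ rfl

lemma compOpen_subset (hfin : (irreducibleComponents Y).Finite) {η : Y} :
    (compOpen hfin η : Set Y) ⊆ closure {η} := by
  intro y hy
  by_contra hcon
  apply hy
  refine ⟨irreducibleComponent y, ⟨irreducibleComponent_mem_irreducibleComponents y, ?_⟩,
    mem_irreducibleComponent⟩
  intro h
  exact hcon (h ▸ mem_irreducibleComponent)

lemma disjoint_compOpen [T0Space Y] (hfin : (irreducibleComponents Y).Finite) {η η' : Y}
    (hη : closure {η} ∈ irreducibleComponents Y) (hne : η ≠ η') :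
    Disjoint (compOpen hfin η : Set Y) (compOpen hfin η') := by
  rw [Set.disjoint_left]
  intro y hy hy'
  apply hy'
  refine ⟨closure {η}, ⟨hη, ?_⟩, compOpen_subset hfin hy⟩
  intro h
  apply hne
  have h1 : η ⤳ η' := by rw [specializes_iff_closure_subset, h]
  have h2 : η' ⤳ η := by rw [specializes_iff_closure_subset, h]
  exact (h2.antisymm h1).eq.symm

lemma dense_of_generic_mem [QuasiSober Y] (s : Set Y)
    (hs : ∀ η : Y, closure {η} ∈ irreducibleComponents Y → η ∈ s) : Dense s := by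
  intro y
  have h1 : IsIrreducible (irreducibleComponent y) := isIrreducible_irreducibleComponent
  have h2 : IsClosed (irreducibleComponent y) := isClosed_irreducibleComponent
  obtain ⟨ξ, hξ⟩ := QuasiSober.sober h1 h2
  have h3 : closure {ξ} ∈ irreducibleComponents Y := by
    rw [hξ.def]; exact irreducibleComponent_mem_irreducibleComponents y
  have h4 : y ∈ closure {ξ} := by rw [hξ.def]; exact mem_irreducibleComponent
  exact closure_mono (Set.singleton_subset_iff.mpr (hs ξ h3)) h4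

end Top

variable {X Y : Scheme.{u}}

set_option backward.isDefEq.respectTransparency.types false in
/-- A morphism locally of finite type which is an isomorphism on the local ring at `ξ` is a local
isomorphism near `ξ`, if `f` is locally of finite presentation or `Y` is germ-injective at `f ξ`. -/
theorem exists_local_iso (f : X ⟶ Y) [LocallyOfFiniteType f] (ξ : X) [IsIso (f.stalkMap ξ)]
    (Hsp : LocallyOfFinitePresentation f ∨ Y.IsGermInjectiveAt (f ξ)) :
    ∃ (T : Scheme.{u}) (a : T ⟶ X) (b : T ⟶ Y), IsOpenImmersion a ∧ IsOpenImmersion b ∧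
      a ≫ f = b ∧ ξ ∈ Set.range a := by
  let e : X.presheaf.stalk ξ ≅ Y.presheaf.stalk (f ξ) := (asIso (f.stalkMap ξ)).symm
  have hφ : f.stalkMap ξ ≫ e.hom = Y.presheaf.stalkSpecializes
      (Inseparable.of_eq (rfl : (𝟙 Y : Y ⟶ Y) (f ξ) = f ξ)).specializes ≫
        (𝟙 Y : Y ⟶ Y).stalkMap (f ξ) := by
    simp [e]
  have H2 : ∃ (V : Y.Opens) (hyV : f ξ ∈ V) (g : V.toScheme ⟶ X),
      Spec.map e.hom ≫ X.fromSpecStalk ξ = V.fromSpecStalkOfMem (f ξ) hyV ≫ g ∧
        g ≫ f = V.ι ≫ 𝟙 Y := by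
    rcases Hsp with h | h
    · exact SpreadFP.spread_out_of_lfp (𝟙 Y) f (x := f ξ) (y := ξ) rfl e.hom hφ
    · exact spread_out_of_isGermInjective (𝟙 Y) f (x := f ξ) (y := ξ) rfl e.hom hφ
  obtain ⟨V₀, hyV, g₀, hE₂, hg₀⟩ := H2
  have hE₁ : Spec.map e.inv ≫ Y.fromSpecStalk (f ξ) =
      (⊤ : X.Opens).fromSpecStalkOfMem ξ trivial ≫ ((⊤ : X.Opens).ι ≫ f) := by
    rw [Scheme.Opens.fromSpecStalkOfMem_ι_assoc]
    exact Scheme.SpecMap_stalkMap_fromSpecStalk f
  obtain ⟨T, a, b, ha, hb, hab, hξ, -⟩ := exists_common_open f (𝟙 Y) ξ (f ξ) e ⊤ trivial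
    ((⊤ : X.Opens).ι ≫ f) (by simp) V₀ hyV g₀ hg₀ hE₁ hE₂
  exact ⟨T, a, b, ha, hb, by simpa using hab, hξ⟩


set_option backward.isDefEq.respectTransparency.types false in
lemma isGermInjectiveAt_of_isReduced [IsReduced Y] (hfin : (irreducibleComponents Y).Finite)
    {η : Y} (hη : closure {η} ∈ irreducibleComponents Y) : Y.IsGermInjectiveAt η := by
  let W : Y.Opens := compOpen hfin η
  have hηW : η ∈ W := mem_compOpen hfin hη
  have hirr : IsIrreducible (W : Set Y) := by
    refine ⟨⟨η, hηW⟩, ?_⟩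
    have h1 : IsPreirreducible (closure ({η} : Set Y)) := hη.1.isPreirreducible
    exact h1.open_subset W.2 (compOpen_subset hfin)
  have : IrreducibleSpace W := by
    have := (isIrreducible_iff_irreducibleSpace (s := (W : Set Y))).mp hirr
    exact this
  have : IsIntegral W.toScheme := isIntegral_of_irreducibleSpace_of_isReduced _
  have h2 : W.toScheme.IsGermInjectiveAt ⟨η, hηW⟩ := inferInstance
  exact (isGermInjectiveAt_iff_of_isOpenImmersion (X := W.toScheme) (Y := Y) (f := W.ι)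
    (x := (⟨η, hηW⟩ : W))).mpr h2

set_option backward.isDefEq.respectTransparency.types false in
open scoped Function in
theorem exists_open_immersions_of_birational (f : X ⟶ Y) [LocallyOfFiniteType f]
    (hYfin : (irreducibleComponents Y).Finite)
    (hbij : Set.BijOn (fun x : X => f.base x) {x : X | closure {x} ∈ irreducibleComponents X}
      {y : Y | closure {y} ∈ irreducibleComponents Y})
    (hiso : ∀ x : X, closure {x} ∈ irreducibleComponents X → IsIso (f.stalkMap x))
    (Hsp : LocallyOfFinitePresentation f ∨ IsReduced Y) :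
    ∃ (T : Scheme.{u}) (a : T ⟶ X) (b : T ⟶ Y), IsOpenImmersion a ∧ IsOpenImmersion b ∧
      a ≫ f = b ∧ (∀ ξ : X, closure {ξ} ∈ irreducibleComponents X → ξ ∈ Set.range a) := by
  let I := {ξ : X // closure {ξ} ∈ irreducibleComponents X}
  have loc : ∀ i : I, ∃ (T : Scheme.{u}) (a : T ⟶ X) (b : T ⟶ Y), IsOpenImmersion a ∧
      IsOpenImmersion b ∧ a ≫ f = b ∧ i.1 ∈ Set.range a := fun i => by
    have := hiso i.1 i.2
    apply exists_local_iso f i.1
    rcases Hsp with h | h
    · exact Or.inl h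
    · exact Or.inr (isGermInjectiveAt_of_isReduced hYfin (hbij.mapsTo i.2))
  choose T a b ha hb hab hξ using loc
  let T' : ∀ i, (T i).Opens := fun i => (b i) ⁻¹ᵁ compOpen hYfin (f i.1)
  let a' : ∀ i, (T' i).toScheme ⟶ X := fun i => (T' i).ι ≫ a i
  let b' : ∀ i, (T' i).toScheme ⟶ Y := fun i => (T' i).ι ≫ b i
  have hab' : ∀ i, a' i ≫ f = b' i := fun i => by simp only [a', b', Category.assoc, hab]
  have hb'range : ∀ i, Set.range (b' i) ⊆ compOpen hYfin (f i.1) := by
    rintro i _ ⟨t, rfl⟩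
    exact t.2
  have hdisj_b : Pairwise (Disjoint on (fun i => Set.range (b' i))) := by
    intro i j hij
    have hne : f i.1 ≠ f j.1 := fun h => hij (Subtype.ext (hbij.injOn i.2 j.2 h))
    exact (disjoint_compOpen hYfin (hbij.mapsTo i.2) hne).mono (hb'range i) (hb'range j)
  have hdisj_a : Pairwise (Disjoint on (fun i => Set.range (a' i))) := by
    intro i j hij
    rw [Function.onFun, Set.disjoint_left]
    rintro _ ⟨t, rfl⟩ ⟨t', ht'⟩
    have h1 : b' i t = b' j t' := by
      have e1 : b' i t = f (a' i t) := by rw [← hab' i]; rfl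
      have e2 : b' j t' = f (a' j t') := by rw [← hab' j]; rfl
      rw [e1, e2, ht']
    exact Set.disjoint_left.mp (hdisj_b hij) ⟨t, rfl⟩ ⟨t', h1.symm⟩
  have : ∀ i, IsOpenImmersion (a' i) := fun i => by
    have := ha i; infer_instance
  have : ∀ i, IsOpenImmersion (b' i) := fun i => by
    have := hb i; infer_instance
  refine ⟨∐ (fun i => (T' i).toScheme), Sigma.desc a', Sigma.desc b',
    isOpenImmersion_sigmaDesc _ _ hdisj_a, isOpenImmersion_sigmaDesc _ _ hdisj_b, ?_, ?_⟩
  · refine Sigma.hom_ext _ _ fun i => ?_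
    rw [Sigma.ι_desc_assoc, Sigma.ι_desc, hab']
  · intro ξ hξg
    obtain ⟨t, ht⟩ := hξ ⟨ξ, hξg⟩
    have htT' : t ∈ T' ⟨ξ, hξg⟩ := by
      show b ⟨ξ, hξg⟩ t ∈ compOpen hYfin (f ξ)
      rw [← hab ⟨ξ, hξg⟩, Scheme.Hom.comp_apply, ht]
      exact mem_compOpen hYfin (hbij.mapsTo hξg)
    refine ⟨Sigma.ι (fun i => (T' i).toScheme) ⟨ξ, hξg⟩ ⟨t, htT'⟩, ?_⟩
    rw [← Scheme.Hom.comp_apply, Sigma.ι_desc]
    exact ht

set_option backward.isDefEq.respectTransparency.types false in
theorem exists_dense_opens_resLE_iso (f : X ⟶ Y) [LocallyOfFiniteType f]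
    (hYfin : (irreducibleComponents Y).Finite)
    (hbij : Set.BijOn (fun x : X => f.base x) {x : X | closure {x} ∈ irreducibleComponents X}
      {y : Y | closure {y} ∈ irreducibleComponents Y})
    (hiso : ∀ x : X, closure {x} ∈ irreducibleComponents X → IsIso (f.stalkMap x))
    (Hsp : LocallyOfFinitePresentation f ∨ IsReduced Y) :
    ∃ (U : X.Opens) (V : Y.Opens) (hUV : U ≤ f ⁻¹ᵁ V), Dense (U : Set X) ∧ Dense (V : Set Y) ∧
      IsIso (f.resLE V U hUV) := by
  obtain ⟨T, a, b, ha, hb, hab, hgen⟩ :=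
    exists_open_immersions_of_birational f hYfin hbij hiso Hsp
  have hUV : a.opensRange ≤ f ⁻¹ᵁ b.opensRange := by
    rintro _ ⟨t, rfl⟩
    exact ⟨t, by rw [← hab, Scheme.Hom.comp_apply]⟩
  refine ⟨a.opensRange, b.opensRange, hUV, dense_of_generic_mem _ hgen, ?_, ?_⟩
  · apply dense_of_generic_mem
    intro η hη
    obtain ⟨ξ, hξ, rfl⟩ := hbij.surjOn hη
    obtain ⟨t, rfl⟩ := hgen ξ hξ
    exact ⟨t, by rw [← hab, Scheme.Hom.comp_apply]⟩
  · have h : f.resLE b.opensRange a.opensRange hUV =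
        a.isoOpensRange.inv ≫ b.isoOpensRange.hom := by
      rw [← cancel_mono b.opensRange.ι, ← cancel_epi a.isoOpensRange.hom]
      simp only [Category.assoc, Iso.hom_inv_id_assoc, Scheme.Hom.isoOpensRange_hom_ι,
        Scheme.Hom.resLE_comp_ι, Scheme.Hom.isoOpensRange_hom_ι_assoc, hab]
    rw [h]
    infer_instance

end Groth.Agent.H1.Birat
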