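import Mathlib
import Groth.Agent.Lib.Helper1.Birat2
import Groth.Agent.S9672
import Groth.Agent.S9682
universe u
open CategoryTheory AlgebraicGeometry Limits

namespace Groth.Agent.H1.Birat

variable {X Y : Scheme.{u}}

set_option backward.isDefEq.respectTransparency.types false in
/-- quasi-compact morphisms hit every generic point in the closure of their range -/
theorem mem_range_of_generic' {Y Z : Scheme.{u}} (g : Y ⟶ Z) [QuasiCompact g] (z : Z)
    (hz : closure {z} ∈ irreducibleComponents Z) (hcl : z ∈ closure (Set.range g.base)) :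
    z ∈ Set.range g.base := by
  obtain ⟨W, hW, hzW⟩ : ∃ W : Z.Opens, IsAffineOpen W ∧ z ∈ W := by
    obtain ⟨_, ⟨W, hW, rfl⟩, h, -⟩ := Z.isBasis_affineOpens.exists_subset_of_mem_open
      (Set.mem_univ z) isOpen_univ
    exact ⟨W, hW, h⟩
  have hc : IsCompact ((g ⁻¹ᵁ W : Y.Opens) : Set Y) := g.isCompact_preimage hW.isCompact
  obtain ⟨s, hs, hsU0⟩ := (isCompact_iff_finite_and_eq_biUnion_affineOpens).mp hc
  have hsU : ((g ⁻¹ᵁ W : Y.Opens) : Set Y) = ⋃ i ∈ s, ((i : Y.Opens) : Set Y) := by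
    rw [hsU0]; simp
  have h1 : z ∈ closure ((W : Set Z) ∩ Set.range g.base) := by
    rw [mem_closure_iff] at hcl ⊢
    intro O hO hzO
    obtain ⟨t, ⟨htO, htW⟩, htr⟩ := hcl (O ∩ W) (hO.inter W.2) ⟨hzO, hzW⟩
    exact ⟨t, htO, htW, htr⟩
  have h2 : (W : Set Z) ∩ Set.range g.base = ⋃ i ∈ s, g.base '' ((i : Y.Opens) : Set Y) := by
    rw [← Set.image_iUnion₂, ← hsU]
    ext t
    show _ ↔ t ∈ g.base '' (g.base ⁻¹' (W : Set Z))
    simp only [Set.mem_inter_iff, Set.mem_range, Set.mem_image]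
    constructor
    · rintro ⟨ht, y, rfl⟩
      exact ⟨y, ht, rfl⟩
    · rintro ⟨y, hy, rfl⟩
      exact ⟨hy, y, rfl⟩
  rw [h2, hs.closure_biUnion] at h1
  simp only [Set.mem_iUnion] at h1
  obtain ⟨i, hi, hzi⟩ := h1
  have hle : (i : Y.Opens) ≤ g ⁻¹ᵁ W := by
    intro y hy
    have : y ∈ ((g ⁻¹ᵁ W : Y.Opens) : Set Y) := by
      rw [hsU]; exact Set.mem_biUnion hi hy
    exact this
  obtain ⟨y, -, rfl⟩ := Groth.Agent.S9672.mem_image_of_generic_affine g z hz W hW hzW i i.2 hle hzi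
  exact ⟨y, rfl⟩

set_option backward.isDefEq.respectTransparency.types false in
/-- (G) -/
theorem isIso_morphismRestrict_of_open_immersions (f : X ⟶ Y) {T : Scheme.{u}} (a : T ⟶ X)
    (b : T ⟶ Y) [IsOpenImmersion a] [IsOpenImmersion b] (hab : a ≫ f = b) (V : Y.Opens)
    (hVb : (V : Set Y) ⊆ Set.range b) (hVa : ((f ⁻¹ᵁ V : X.Opens) : Set X) ⊆ Set.range a) :
    IsIso (f ∣_ V) := by
  let T' : T.Opens := b ⁻¹ᵁ V
  have hle : Set.range (T'.ι ≫ a) ⊆ Set.range (f ⁻¹ᵁ V).ι := by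
    rintro _ ⟨t, rfl⟩
    rw [Scheme.Opens.range_ι]
    show f ((T'.ι ≫ a) t) ∈ V
    have : f ((T'.ι ≫ a) t) = b (T'.ι t) := by
      rw [← hab]; rfl
    rw [this]
    exact t.2
  let a'' : T'.toScheme ⟶ (f ⁻¹ᵁ V).toScheme := IsOpenImmersion.lift (f ⁻¹ᵁ V).ι (T'.ι ≫ a) hle
  have ha'' : a'' ≫ (f ⁻¹ᵁ V).ι = T'.ι ≫ a := IsOpenImmersion.lift_fac _ _ _
  have hle' : Set.range (T'.ι ≫ b) ⊆ Set.range V.ι := by
    rintro _ ⟨t, rfl⟩
    rw [Scheme.Opens.range_ι]
    exact t.2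
  let b'' : T'.toScheme ⟶ V.toScheme := IsOpenImmersion.lift V.ι (T'.ι ≫ b) hle'
  have hb'' : b'' ≫ V.ι = T'.ι ≫ b := IsOpenImmersion.lift_fac _ _ _
  have hoa : IsOpenImmersion a'' := by
    have : IsOpenImmersion (a'' ≫ (f ⁻¹ᵁ V).ι) := by rw [ha'']; infer_instance
    exact IsOpenImmersion.of_comp a'' (f ⁻¹ᵁ V).ι
  have hob : IsOpenImmersion b'' := by
    have : IsOpenImmersion (b'' ≫ V.ι) := by rw [hb'']; infer_instance
    exact IsOpenImmersion.of_comp b'' V.ι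
  have hsa : Function.Surjective a'' := by
    intro x
    obtain ⟨t, ht⟩ := hVa x.2
    have htT' : t ∈ T' := by
      show b t ∈ V
      rw [← hab, Scheme.Hom.comp_apply, ht]
      exact x.2
    refine ⟨⟨t, htT'⟩, ?_⟩
    apply (f ⁻¹ᵁ V).ι.isOpenEmbedding.injective
    rw [← Scheme.Hom.comp_apply, ha'']
    exact ht
  have hsb : Function.Surjective b'' := by
    intro y
    obtain ⟨t, ht⟩ := hVb y.2
    have htT' : t ∈ T' := by
      show b t ∈ V
      rw [ht]; exact y.2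
    refine ⟨⟨t, htT'⟩, ?_⟩
    apply V.ι.isOpenEmbedding.injective
    rw [← Scheme.Hom.comp_apply, hb'']
    exact ht
  have hia : IsIso a'' := by
    have : Epi a''.base := (TopCat.epi_iff_surjective _).mpr hsa
    exact (isIso_iff_isOpenImmersion_and_epi_base a'').mpr ⟨hoa, this⟩
  have hib : IsIso b'' := by
    have : Epi b''.base := (TopCat.epi_iff_surjective _).mpr hsb
    exact (isIso_iff_isOpenImmersion_and_epi_base b'').mpr ⟨hob, this⟩
  have h : f ∣_ V = inv a'' ≫ b'' := by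
    rw [← cancel_epi a'', IsIso.hom_inv_id_assoc, ← cancel_mono V.ι, Category.assoc,
      morphismRestrict_ι, reassoc_of% ha'', hab, hb'']
  rw [h]
  infer_instance

set_option backward.isDefEq.respectTransparency.types false in
theorem exists_dense_open_isIso_of_isSeparated (f : X ⟶ Y) [IsSeparated f] {T : Scheme.{u}}
    (a : T ⟶ X) (b : T ⟶ Y) [IsOpenImmersion a] [IsOpenImmersion b] (hab : a ≫ f = b)
    (hgen : ∀ ξ : X, closure {ξ} ∈ irreducibleComponents X → ξ ∈ Set.range a) :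
    IsIso (f ∣_ b.opensRange) := by
  set V := b.opensRange with hV
  refine isIso_morphismRestrict_of_open_immersions f a b hab V (fun y hy => hy) ?_
  have hle : Set.range (b.isoOpensRange.inv ≫ a) ⊆ Set.range (f ⁻¹ᵁ V).ι := by
    rintro _ ⟨v, rfl⟩
    rw [Scheme.Opens.range_ι]
    show f ((b.isoOpensRange.inv ≫ a) v) ∈ V
    have e1 : b.isoOpensRange.inv ≫ a ≫ f = b.isoOpensRange.inv ≫ b := by rw [hab]
    have : f ((b.isoOpensRange.inv ≫ a) v) = (b.isoOpensRange.inv ≫ b) v := by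
      rw [← e1]; rfl
    rw [this, Scheme.Hom.isoOpensRange_inv_comp]
    exact v.2
  let σ : V.toScheme ⟶ (f ⁻¹ᵁ V).toScheme :=
    IsOpenImmersion.lift (f ⁻¹ᵁ V).ι (b.isoOpensRange.inv ≫ a) hle
  have hσ : σ ≫ (f ⁻¹ᵁ V).ι = b.isoOpensRange.inv ≫ a := IsOpenImmersion.lift_fac _ _ _
  have hσf : σ ≫ f ∣_ V = 𝟙 _ := by
    rw [← cancel_mono V.ι, Category.assoc, morphismRestrict_ι, reassoc_of% hσ, hab,
      Scheme.Hom.isoOpensRange_inv_comp, Category.id_comp]
  have : IsClosedImmersion (σ ≫ f ∣_ V) := by rw [hσf]; infer_instance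
  have hcl : IsClosedImmersion σ := IsClosedImmersion.of_comp σ (f ∣_ V)
  have hclosed : IsClosed (Set.range σ) := σ.isClosedEmbedding.isClosed_range
  intro x hx
  obtain ⟨ξ, hξ, hξx⟩ := Groth.Agent.S9682.exists_generic_specializes x
  have hξV : ξ ∈ f ⁻¹ᵁ V := hξx.mem_open (f ⁻¹ᵁ V).2 hx
  obtain ⟨t, ht⟩ := hgen ξ hξ
  have h1 : (f ⁻¹ᵁ V).ι (σ (b.isoOpensRange.hom t)) = ξ := by
    rw [← Scheme.Hom.comp_apply, hσ, ← Scheme.Hom.comp_apply, Iso.hom_inv_id_assoc]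
    exact ht
  have h2 : (⟨ξ, hξV⟩ : (f ⁻¹ᵁ V)) = σ (b.isoOpensRange.hom t) := Subtype.ext h1.symm
  have h3 : (⟨ξ, hξV⟩ : (f ⁻¹ᵁ V)) ⤳ ⟨x, hx⟩ := by
    exact (subtype_specializes_iff _ _).mpr hξx
  have h4 : (⟨x, hx⟩ : (f ⁻¹ᵁ V)) ∈ Set.range σ :=
    h3.mem_closed hclosed (h2 ▸ Set.mem_range_self _)
  obtain ⟨v', hv'⟩ := h4
  refine ⟨b.isoOpensRange.inv v', ?_⟩
  have h5 : (f ⁻¹ᵁ V).ι (σ v') = x := by rw [hv']; rfl
  rw [← Scheme.Hom.comp_apply, hσ] at h5
  exact h5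

set_option backward.isDefEq.respectTransparency.types false in
theorem exists_dense_open_isIso_of_quasiCompact (f : X ⟶ Y) [QuasiCompact f]
    [LocallyOfFiniteType f]
    (hiso : ∀ x : X, closure {x} ∈ irreducibleComponents X → IsIso (f.stalkMap x))
    (hsurj : ∀ η : Y, closure {η} ∈ irreducibleComponents Y →
      ∃ ξ : X, closure {ξ} ∈ irreducibleComponents X ∧ f ξ = η)
    {T : Scheme.{u}}
    (a : T ⟶ X) (b : T ⟶ Y) [IsOpenImmersion a] [IsOpenImmersion b] (hab : a ≫ f = b)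
    (hgen : ∀ ξ : X, closure {ξ} ∈ irreducibleComponents X → ξ ∈ Set.range a) :
    ∃ V : Y.Opens, Dense (V : Set Y) ∧ IsIso (f ∣_ V) := by
  let Zc : TopologicalSpace.Closeds X :=
    ⟨(Set.range a)ᶜ, a.isOpenEmbedding.isOpen_range.isClosed_compl⟩
  let I := Scheme.IdealSheafData.vanishingIdeal Zc
  let g := I.subschemeι ≫ f
  have hrg : Set.range g = f '' (Zc : Set X) := by
    show Set.range (I.subschemeι ≫ f) = _
    rw [Scheme.Hom.comp_base, TopCat.coe_comp, Set.range_comp, I.range_subschemeι,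
      Scheme.IdealSheafData.coe_support_vanishingIdeal]
  let C : Set Y := closure (f '' (Zc : Set X))
  let V : Y.Opens := b.opensRange ⊓ ⟨Cᶜ, isClosed_closure.isOpen_compl⟩
  refine ⟨V, ?_, ?_⟩
  · apply dense_of_generic_mem
    intro η hη
    obtain ⟨ξ, hξ, rfl⟩ := hsurj η hη
    obtain ⟨t, rfl⟩ := hgen ξ hξ
    refine ⟨⟨t, by rw [← hab]; rfl⟩, ?_⟩
    intro hC
    have hC' : f (a t) ∈ closure (Set.range g) := by rw [hrg]; exact hC
    obtain ⟨z', hz'⟩ := mem_range_of_generic' g (f (a t)) hη hC'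
    have hz'Z : I.subschemeι z' ∈ (Zc : Set X) := by
      have : I.subschemeι z' ∈ Set.range I.subschemeι := ⟨z', rfl⟩
      rwa [I.range_subschemeι, Scheme.IdealSheafData.coe_support_vanishingIdeal] at this
    set z := I.subschemeι z' with hz
    have hfz : f z = f (a t) := hz'
    obtain ⟨ξ', hξ', hξ'z⟩ := Groth.Agent.S9682.exists_generic_specializes z
    have h1 : f ξ' ⤳ f (a t) := by
      rw [← hfz]; exact hξ'z.map f.continuous
    have h2 : f ξ' = f (a t) := Groth.Agent.S9682.eq_of_specializes_generic hη h1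
    have hqf : f.QuasiFiniteAt ξ' := by
      have := hiso ξ' hξ'
      apply RingHom.QuasiFinite.of_finite
      apply RingHom.Finite.of_surjective
      exact ((ConcreteCategory.isIso_iff_bijective (f.stalkMap ξ')).mp this).2
    have h3 : z = ξ' := Groth.Agent.S9682.eq_of_specializes_of_quasiFiniteAt f
      (hfz.trans h2.symm) hξ'z (Or.inr hqf)
    exact hz'Z (h3 ▸ hgen ξ' hξ')
  · refine isIso_morphismRestrict_of_open_immersions f a b hab V (fun y hy => hy.1) ?_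
    intro x hx
    by_contra hxa
    exact hx.2 (subset_closure ⟨x, hxa, rfl⟩)

end Groth.Agent.H1.Birat
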