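import Mathlib
import Groth.Agent.Lib.Helper1.Birat3

open Polynomial

universe v

namespace Groth.Agent.H1.GenFin

section
variable {R P K L : Type*} [CommRing R] [IsDomain R] [CommRing P] [IsDomain P] [Field K] [Field L]
  [Algebra R P] [Algebra R K] [Algebra P L] [Algebra K L] [Algebra R L]
  [IsScalarTower R K L] [IsScalarTower R P L] [IsFractionRing R K] [IsFractionRing P L]

include K L in
lemma algebraMap_injective_of_tower : Function.Injective (algebraMap R P) := by
  have h1 : Function.Injective (algebraMap R L) := by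
    rw [IsScalarTower.algebraMap_eq R K L]
    exact (algebraMap K L).injective.comp (IsFractionRing.injective R K)
  rw [IsScalarTower.algebraMap_eq R P L] at h1
  exact Function.Injective.of_comp h1

include K L in
lemma isAlgebraic_of_isAlgebraic [Algebra.IsAlgebraic K L] (b : P) : IsAlgebraic R b := by
  have h1 : IsAlgebraic K (algebraMap P L b) := Algebra.IsAlgebraic.isAlgebraic _
  have h2 : IsAlgebraic R (algebraMap P L b) := (IsFractionRing.isAlgebraic_iff R K L).mpr h1
  exact (isAlgebraic_algebraMap_iff (IsFractionRing.injective P L)).mp h2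

include K L in
/-- (iii) if `L/K` is algebraic only the zero prime lies over zero -/
lemma eq_bot_of_comap_eq_bot [Algebra.IsAlgebraic K L] (p : Ideal P)
    (hp : p.comap (algebraMap R P) = ⊥) : p = ⊥ := by
  rw [eq_bot_iff]
  intro b hb
  by_contra hb0
  have hb0' : b ≠ 0 := hb0
  have halg := isAlgebraic_of_isAlgebraic (K := K) (L := L) (R := R) b
  obtain ⟨q, hq0, hq⟩ := halg.exists_nonzero_coeff_and_aeval_eq_zero
    (mem_nonZeroDivisors_of_ne_zero hb0')
  have h1 : algebraMap R P (q.coeff 0) ∈ p := by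
    have := congrArg (aeval b) (Polynomial.divX_mul_X_add q)
    rw [map_add, map_mul, aeval_X, aeval_C, hq] at this
    have h2 : algebraMap R P (q.coeff 0) = -(aeval b q.divX * b) :=
      eq_neg_of_add_eq_zero_right this
    rw [h2]; exact p.neg_mem (p.mul_mem_left _ hb)
  have h2 : q.coeff 0 ∈ p.comap (algebraMap R P) := h1
  rw [hp] at h2
  exact hq0 h2

/-- (iv) if only the zero prime lies over zero, `L/K` is finite -/
lemma finite_of_forall_eq_bot [Algebra.FiniteType R P]
    (h : ∀ p : Ideal P, p.IsPrime → p.comap (algebraMap R P) = ⊥ → p = ⊥) :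
    Module.Finite K L := by
  classical
  let P' : Subalgebra K L := Algebra.adjoin K (Set.range (algebraMap P L))
  have hPP' : ∀ b : P, algebraMap P L b ∈ P' := fun b => Algebra.subset_adjoin ⟨b, rfl⟩
  -- ring hom P → P'
  let j : P →+* P' := (algebraMap P L).codRestrict P'.toSubring hPP'
  have hj : ∀ b, ((j b : P') : L) = algebraMap P L b := fun b => rfl
  have hunit : ∀ b : P, b ≠ 0 → IsUnit (j b) := by
    intro b hb0
    by_contra hnu
    obtain ⟨m, hm, hbm⟩ := exists_max_ideal_of_mem_nonunits hnu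
    have hq := h (m.comap j) (Ideal.comap_isPrime j m) ?_
    · have : b ∈ m.comap j := hbm
      rw [hq] at this
      exact hb0 this
    · rw [eq_bot_iff]
      intro r hr
      by_contra hr0
      have hr0' : r ≠ 0 := hr0
      have hrm : j (algebraMap R P r) ∈ m := hr
      have hu : IsUnit (j (algebraMap R P r)) := by
        have h1 : j (algebraMap R P r) = algebraMap K P' (algebraMap R K r) := by
          apply Subtype.ext
          rw [hj, ← IsScalarTower.algebraMap_apply R P L, IsScalarTower.algebraMap_apply R K L]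
          rfl
        rw [h1]
        exact (IsUnit.mk0 _ ((map_ne_zero_iff _ (IsFractionRing.injective R K)).mpr hr0')).map _
      exact hm.ne_top (Ideal.eq_top_of_isUnit_mem _ hrm hu)
  have htop : P' = ⊤ := by
    rw [eq_top_iff]
    intro x _
    obtain ⟨a, b, hb, rfl⟩ := IsFractionRing.div_surjective (A := P) x
    have hb0 : b ≠ 0 := nonZeroDivisors.ne_zero hb
    obtain ⟨u, hu⟩ := hunit b hb0
    have h1 : (algebraMap P L b)⁻¹ = ((↑u⁻¹ : P') : L) := by
      have : (algebraMap P L b) * ((↑u⁻¹ : P') : L) = 1 := by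
        rw [← hj, ← hu, ← Subalgebra.coe_mul, Units.mul_inv]; rfl
      exact inv_eq_of_mul_eq_one_right this
    rw [div_eq_mul_inv, h1]
    exact P'.mul_mem (hPP' a) (SetLike.coe_mem _)
  haveI : Algebra.FiniteType K L := by
    obtain ⟨s, hs⟩ := Algebra.FiniteType.out (R := R) (A := P)
    refine ⟨⟨s.image (algebraMap P L), ?_⟩⟩
    rw [eq_top_iff, ← htop]
    apply Algebra.adjoin_le
    rintro _ ⟨b, rfl⟩
    have hb : b ∈ Algebra.adjoin R (s : Set P) := hs ▸ Algebra.mem_top
    induction hb using Algebra.adjoin_induction with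
    | mem x hx => exact Algebra.subset_adjoin (Finset.mem_image_of_mem _ hx)
    | algebraMap r =>
      rw [← IsScalarTower.algebraMap_apply R P L, IsScalarTower.algebraMap_apply R K L]
      exact Subalgebra.algebraMap_mem _ _
    | add x y _ _ hx hy => rw [map_add]; exact Subalgebra.add_mem _ hx hy
    | mul x y _ _ hx hy => rw [map_mul]; exact Subalgebra.mul_mem _ hx hy
  exact finite_of_finite_type_of_isJacobsonRing K L

include K L in
/-- (i) if `L/K` is algebraic then `P` becomes finite over `R` after inverting one nonzero element -/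
lemma exists_finite_away [Algebra.FiniteType R P] [Algebra.IsAlgebraic K L] :
    ∃ a : R, a ≠ 0 ∧ ∀ (Ra Pa : Type v) [CommRing Ra] [CommRing Pa] [Algebra R Ra] [Algebra P Pa]
      [IsLocalization.Away a Ra] [IsLocalization.Away (algebraMap R P a) Pa] (ψ : Ra →+* Pa),
      ψ.comp (algebraMap R Ra) = (algebraMap P Pa).comp (algebraMap R P) → ψ.Finite := by
  classical
  obtain ⟨s, hs⟩ := Algebra.FiniteType.out (R := R) (A := P)
  have hc : ∀ b : P, ∃ c : R, c ≠ 0 ∧ IsIntegral R (c • b) := fun b =>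
    (isAlgebraic_of_isAlgebraic (K := K) (L := L) (R := R) b).exists_integral_multiple
  choose c hc0 hcint using hc
  refine ⟨∏ b ∈ s, c b, Finset.prod_ne_zero_iff.mpr (fun b _ => hc0 b), ?_⟩
  intro Ra Pa _ _ _ _ _ _ ψ hψ
  letI : Algebra Ra Pa := ψ.toAlgebra
  letI : Algebra R Pa := ((algebraMap P Pa).comp (algebraMap R P)).toAlgebra
  haveI : IsScalarTower R P Pa := IsScalarTower.of_algebraMap_eq (fun _ => rfl)
  haveI : IsScalarTower R Ra Pa := IsScalarTower.of_algebraMap_eq (fun r => (congr($hψ r)).symm)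
  show Module.Finite Ra Pa
  set a := ∏ b ∈ s, c b with ha
  have hua : IsUnit (algebraMap R Ra a) := IsLocalization.Away.algebraMap_isUnit a
  have huc : ∀ b ∈ s, IsUnit (algebraMap R Ra (c b)) := by
    intro b hb
    rw [ha, ← Finset.mul_prod_erase s c hb, map_mul] at hua
    exact isUnit_of_mul_isUnit_left hua
  have hint : ∀ b ∈ s, IsIntegral Ra (algebraMap P Pa b) := by
    intro b hb
    have h1 : IsIntegral R (algebraMap P Pa (c b • b)) :=
      (hcint b).map (IsScalarTower.toAlgHom R P Pa)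
    have h2 : IsIntegral Ra (algebraMap P Pa (c b • b)) := h1.tower_top
    obtain ⟨u, hu⟩ := huc b hb
    have h3 : algebraMap P Pa b = algebraMap Ra Pa ↑u⁻¹ * algebraMap P Pa (c b • b) := by
      rw [Algebra.smul_def, map_mul, ← IsScalarTower.algebraMap_apply R P Pa,
        IsScalarTower.algebraMap_apply R Ra Pa, ← hu, ← mul_assoc, ← map_mul, Units.inv_mul,
        map_one, one_mul]
    rw [h3]
    exact isIntegral_algebraMap.mul h2
  have hadj : Algebra.adjoin Ra ((algebraMap P Pa) '' (s : Set P)) = ⊤ := by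
    rw [eq_top_iff]
    intro x _
    have hP : ∀ b : P, algebraMap P Pa b ∈
        Algebra.adjoin Ra ((algebraMap P Pa) '' (s : Set P)) := by
      intro b
      have hb : b ∈ Algebra.adjoin R (s : Set P) := hs ▸ Algebra.mem_top
      induction hb using Algebra.adjoin_induction with
      | mem x hx => exact Algebra.subset_adjoin ⟨x, hx, rfl⟩
      | algebraMap r =>
        rw [← IsScalarTower.algebraMap_apply R P Pa, IsScalarTower.algebraMap_apply R Ra Pa]
        exact Subalgebra.algebraMap_mem _ _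
      | add x y _ _ hx hy => rw [map_add]; exact Subalgebra.add_mem _ hx hy
      | mul x y _ _ hx hy => rw [map_mul]; exact Subalgebra.mul_mem _ hx hy
    obtain ⟨n, b, hb⟩ := IsLocalization.Away.surj (algebraMap R P a) x
    obtain ⟨u, hu⟩ := hua
    have : x = algebraMap P Pa b * algebraMap Ra Pa (↑u⁻¹) ^ n := by
      rw [← hb, ← IsScalarTower.algebraMap_apply R P Pa, IsScalarTower.algebraMap_apply R Ra Pa,
        ← hu, mul_assoc, ← mul_pow, ← map_mul, Units.mul_inv, map_one, one_pow, mul_one]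
    rw [this]
    exact Subalgebra.mul_mem _ (hP b) (Subalgebra.pow_mem _ (Subalgebra.algebraMap_mem _ _) _)
  have hfg := fg_adjoin_of_finite (R := Ra) ((s.finite_toSet).image (algebraMap P Pa))
    (by rintro _ ⟨b, hb, rfl⟩; exact hint b hb)
  rw [hadj] at hfg
  exact ⟨by simpa using hfg⟩

end


section Geometry

open AlgebraicGeometry CategoryTheory TopologicalSpace

universe u

variable {X Y : Scheme.{u}}

/-- every element of the residue field at a point of an affine open is a fraction of sections -/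
lemma exists_frac_evaluation {S : Scheme.{u}} {W : S.Opens} (hW : IsAffineOpen W) (s : S)
    (hs : s ∈ W) (c : S.residueField s) :
    ∃ a b : Γ(S, W), S.evaluation W s hs b ≠ 0 ∧
      c * S.evaluation W s hs b = S.evaluation W s hs a := by
  obtain ⟨t, rfl⟩ := S.residue_surjective s c
  letI := S.presheaf.algebra_section_stalk ⟨s, hs⟩
  haveI := hW.isLocalization_stalk ⟨s, hs⟩
  obtain ⟨⟨a, b⟩, hab⟩ := IsLocalization.surj (hW.primeIdealOf ⟨s, hs⟩).asIdeal.primeCompl t
  have hu : IsUnit (algebraMap Γ(S, W) (S.presheaf.stalk s) b) :=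
    IsLocalization.map_units (S.presheaf.stalk s) b
  have halg : ∀ x : Γ(S, W), algebraMap Γ(S, W) (S.presheaf.stalk s) x =
      S.presheaf.germ W s hs x := fun x => rfl
  refine ⟨a, b, ?_, ?_⟩
  · have : IsUnit (S.residue s (S.presheaf.germ W s hs b)) := by
      rw [← halg]; exact hu.map (S.residue s).hom
    exact this.ne_zero
  · show S.residue s t * S.residue s (S.presheaf.germ W s hs b) =
      S.residue s (S.presheaf.germ W s hs a)
    rw [← map_mul, ← halg, ← halg]
    exact congrArg _ hab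

/-- a point lying in every nonempty open -/
def IsGen (x : X) : Prop := ∀ W : X.Opens, (W : Set X).Nonempty → x ∈ W

lemma isGen_genericPoint [IsIntegral X] : IsGen (genericPoint X) := fun W hW =>
  ((genericPoint_spec X).mem_open_set_iff W.isOpen).mpr (by simpa using hW)

lemma IsGen.eq [IsIntegral X] {x : X} (h : IsGen x) : x = genericPoint X := by
  apply ((genericPoint_spec X).eq _).symm
  show closure {x} = ⊤
  rw [Set.top_eq_univ, Set.eq_univ_iff_forall]
  intro y
  rw [mem_closure_iff]
  intro W hW hy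
  exact ⟨x, h ⟨W, hW⟩ ⟨y, hy⟩, rfl⟩

lemma map_genericPoint [IsIntegral X] [IsIntegral Y] (f : X ⟶ Y) [IsDominant f] :
    f (genericPoint X) = genericPoint Y := by
  apply ((genericPoint_spec Y).eq _).symm
  have h1 := (genericPoint_spec X).image f.continuous
  convert h1 using 1
  rw [Set.image_univ, f.denseRange.closure_range]

lemma isGen_map [IsIntegral X] [IsIntegral Y] (f : X ⟶ Y) [IsDominant f] :
    IsGen (f (genericPoint X)) := by
  rw [map_genericPoint]; exact isGen_genericPoint

lemma IsGen.evaluation_eq_zero [IsReduced X] {x : X} (hx : IsGen x) (U : X.Opens) (hxU : x ∈ U)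
    (a : Γ(X, U)) (ha : X.evaluation U x hxU a = 0) : a = 0 := by
  rw [Scheme.evaluation_eq_zero_iff_notMem_basicOpen] at ha
  by_contra ha0
  apply ha
  apply hx
  by_contra hemp
  have : X.basicOpen a = ⊥ := by
    ext y
    simp only [Opens.coe_bot, Set.mem_empty_iff_false, iff_false]
    intro hy
    exact hemp ⟨y, hy⟩
  exact ha0 ((basicOpen_eq_bot_iff a).mp this)

lemma isGen_of_forall_basicOpen [IsIntegral X] {U : X.Opens} (hU : IsAffineOpen U) (x : X)
    (hxU : x ∈ U) (h : ∀ a : Γ(X, U), a ≠ 0 → x ∈ X.basicOpen a) : IsGen x := by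
  intro W hW
  have hUne : (U : Set X).Nonempty := ⟨x, hxU⟩
  obtain ⟨y, hyW, hyU⟩ := nonempty_preirreducible_inter W.isOpen U.isOpen hW hUne
  obtain ⟨a, haW, hya⟩ := hU.exists_basicOpen_le (V := W) ⟨y, hyW⟩ hyU
  have ha0 : a ≠ 0 := by
    rintro rfl
    rw [Scheme.basicOpen_zero] at hya
    exact hya
  exact haW (h a ha0)

lemma isFractionRing_evaluation [IsIntegral X] {U : X.Opens} (hU : IsAffineOpen U) (x : X)
    (hxU : x ∈ U) (hx : IsGen x) :
    letI := (X.evaluation U x hxU).hom.toAlgebra
    IsFractionRing Γ(X, U) (X.residueField x) := by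
  letI := (X.evaluation U x hxU).hom.toAlgebra
  haveI : Nonempty U := ⟨⟨x, hxU⟩⟩
  have hinj : ∀ a : Γ(X, U), X.evaluation U x hxU a = 0 → a = 0 :=
    fun a ha => hx.evaluation_eq_zero U hxU a ha
  exact
  { map_units := by
      rintro ⟨b, hb⟩
      have : b ≠ 0 := nonZeroDivisors.ne_zero hb
      exact IsUnit.mk0 _ (fun h => this (hinj b h))
    surj := by
      intro z
      obtain ⟨a, b, hb, hab⟩ := exists_frac_evaluation hU x hxU z
      exact ⟨⟨a, ⟨b, mem_nonZeroDivisors_of_ne_zero (fun h => hb (by rw [h, map_zero]))⟩⟩, hab⟩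
    exists_of_eq := by
      intro a b hab
      refine ⟨1, ?_⟩
      have h1 : X.evaluation U x hxU (a - b) = 0 := by
        rw [map_sub, sub_eq_zero]; exact hab
      have := hinj (a - b) h1
      rw [sub_eq_zero.mp this] }

lemma evaluation_appLE (f : X ⟶ Y) (U : X.Opens) (V : Y.Opens) (e : U ≤ f ⁻¹ᵁ V) (x : X)
    (hx : x ∈ U) :
    f.appLE V U e ≫ X.evaluation U x hx =
      Y.evaluation V (f x) (e hx) ≫ f.residueFieldMap x := by
  have h1 := Scheme.evaluation_naturality f (V := V) x (e hx)
  rw [h1, Scheme.Hom.appLE, Category.assoc]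
  congr 1
  rw [Scheme.evaluation, Scheme.evaluation, ← Category.assoc, TopCat.Presheaf.germ_res]

lemma basicOpen_appLE_le (f : X ⟶ Y) (U : X.Opens) (V : Y.Opens) (e : U ≤ f ⁻¹ᵁ V)
    (a : Γ(Y, V)) : X.basicOpen ((f.appLE V U e).hom a) ≤ f ⁻¹ᵁ (Y.basicOpen a) := by
  rw [Scheme.basicOpen_appLE]; exact inf_le_right

set_option maxHeartbeats 400000 in
theorem affine_local [IsIntegral X] [IsIntegral Y] (f : X ⟶ Y) [IsDominant f]
    [LocallyOfFiniteType f] (U : X.Opens) (V : Y.Opens) (hU : IsAffineOpen U)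
    (hV : IsAffineOpen V) (e : U ≤ f ⁻¹ᵁ V) (hne : Nonempty U) :
    letI := (f.residueFieldMap (genericPoint X)).hom.toAlgebra
    (Module.Finite (Y.residueField (f (genericPoint X))) (X.residueField (genericPoint X)) →
       (∀ p : Ideal Γ(X, U), p.IsPrime → p.comap (f.appLE V U e).hom = ⊥ → p = ⊥) ∧
       ∃ a : Γ(Y, V), a ≠ 0 ∧ (f.appLE V U e).hom a ≠ 0 ∧
          (f.appLE (Y.basicOpen a) (X.basicOpen ((f.appLE V U e).hom a))
            (basicOpen_appLE_le f U V e a)).hom.Finite) ∧
    ((∀ p : Ideal Γ(X, U), p.IsPrime → p.comap (f.appLE V U e).hom = ⊥ → p = ⊥) →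
       Module.Finite (Y.residueField (f (genericPoint X))) (X.residueField (genericPoint X))) := by
  have hξU : genericPoint X ∈ U := isGen_genericPoint U (by
    obtain ⟨⟨x, hx⟩⟩ := hne; exact ⟨x, hx⟩)
  have hηV : f (genericPoint X) ∈ V := e hξU
  haveI : Nonempty V := ⟨⟨_, hηV⟩⟩
  have hgξ : IsGen (genericPoint X) := isGen_genericPoint
  have hgη : IsGen (f (genericPoint X)) := isGen_map f
  letI algKL : Algebra (Y.residueField (f (genericPoint X))) (X.residueField (genericPoint X)) :=
    (f.residueFieldMap (genericPoint X)).hom.toAlgebra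
  letI algRP : Algebra Γ(Y, V) Γ(X, U) := (f.appLE V U e).hom.toAlgebra
  letI algRK : Algebra Γ(Y, V) (Y.residueField (f (genericPoint X))) :=
    (Y.evaluation V (f (genericPoint X)) hηV).hom.toAlgebra
  letI algPL : Algebra Γ(X, U) (X.residueField (genericPoint X)) :=
    (X.evaluation U (genericPoint X) hξU).hom.toAlgebra
  letI algRL : Algebra Γ(Y, V) (X.residueField (genericPoint X)) :=
    ((algebraMap (Y.residueField (f (genericPoint X))) (X.residueField (genericPoint X))).comp
      (algebraMap Γ(Y, V) (Y.residueField (f (genericPoint X))))).toAlgebra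
  haveI : IsScalarTower Γ(Y, V) (Y.residueField (f (genericPoint X)))
      (X.residueField (genericPoint X)) := .of_algebraMap_eq (fun _ => rfl)
  haveI : IsScalarTower Γ(Y, V) Γ(X, U) (X.residueField (genericPoint X)) :=
    .of_algebraMap_eq (fun r => by
      show (f.residueFieldMap (genericPoint X)) (Y.evaluation V (f (genericPoint X)) hηV r) =
        X.evaluation U (genericPoint X) hξU (f.appLE V U e r)
      exact (congr($(evaluation_appLE f U V e (genericPoint X) hξU) r)).symm)
  haveI : IsFractionRing Γ(Y, V) (Y.residueField (f (genericPoint X))) :=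
    isFractionRing_evaluation hV (f (genericPoint X)) hηV hgη
  haveI : IsFractionRing Γ(X, U) (X.residueField (genericPoint X)) :=
    isFractionRing_evaluation hU (genericPoint X) hξU hgξ
  haveI : Algebra.FiniteType Γ(Y, V) Γ(X, U) :=
    HasRingHomProperty.appLE (P := @LocallyOfFiniteType) f inferInstance ⟨V, hV⟩ ⟨U, hU⟩ e
  refine ⟨fun hA => ?_, fun h => finite_of_forall_eq_bot h⟩
  haveI : Module.Finite (Y.residueField (f (genericPoint X))) (X.residueField (genericPoint X)) :=
    hA
  haveI : Algebra.IsAlgebraic (Y.residueField (f (genericPoint X)))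
    (X.residueField (genericPoint X)) := Algebra.IsAlgebraic.of_finite _ _
  refine ⟨fun p _ hp => eq_bot_of_comap_eq_bot (K := Y.residueField (f (genericPoint X)))
    (L := X.residueField (genericPoint X)) p hp, ?_⟩
  obtain ⟨a, ha0, ha⟩ := exists_finite_away.{u} (R := Γ(Y, V)) (P := Γ(X, U))
    (K := Y.residueField (f (genericPoint X))) (L := X.residueField (genericPoint X))
  refine ⟨a, ha0, (map_ne_zero_iff _ (algebraMap_injective_of_tower
    (K := Y.residueField (f (genericPoint X))) (L := X.residueField (genericPoint X)))).mpr ha0, ?_⟩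
  haveI := hV.isLocalization_basicOpen a
  haveI : IsLocalization.Away (algebraMap Γ(Y, V) Γ(X, U) a)
      Γ(X, X.basicOpen ((f.appLE V U e).hom a)) :=
    hU.isLocalization_basicOpen ((f.appLE V U e).hom a)
  refine ha Γ(Y, Y.basicOpen a) Γ(X, X.basicOpen ((f.appLE V U e).hom a)) _ ?_
  ext r
  show (f.appLE (Y.basicOpen a) (X.basicOpen ((f.appLE V U e).hom a)) _)
    (Y.presheaf.map (homOfLE (Y.basicOpen_le a)).op r) =
    X.presheaf.map (homOfLE (X.basicOpen_le _)).op (f.appLE V U e r)
  rw [← CommRingCat.comp_apply, ← CommRingCat.comp_apply, Scheme.Hom.map_appLE,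
    Scheme.Hom.appLE_map]

lemma basicOpen_nonempty [IsReduced X] {U : X.Opens} (a : Γ(X, U)) (ha : a ≠ 0) :
    ((X.basicOpen a : X.Opens) : Set X).Nonempty := by
  by_contra hemp
  have : X.basicOpen a = ⊥ := by
    ext y
    simp only [Opens.coe_bot, Set.mem_empty_iff_false, iff_false]
    intro hy
    exact hemp ⟨y, hy⟩
  exact ha ((basicOpen_eq_bot_iff a).mp this)

theorem eq_genericPoint_of_finite [IsIntegral X] [IsIntegral Y] (f : X ⟶ Y) [IsDominant f]
    [LocallyOfFiniteType f]
    (hA : letI := (f.residueFieldMap (genericPoint X)).hom.toAlgebra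
      Module.Finite (Y.residueField (f (genericPoint X))) (X.residueField (genericPoint X)))
    (x : X) (hx : f x = genericPoint Y) : x = genericPoint X := by
  obtain ⟨_, ⟨V, hV, rfl⟩, hxV, -⟩ := Y.isBasis_affineOpens.exists_subset_of_mem_open
    (Set.mem_univ (f x)) isOpen_univ
  obtain ⟨_, ⟨U, hU, rfl⟩, hxU, hUV⟩ := X.isBasis_affineOpens.exists_subset_of_mem_open
    (show x ∈ ((f ⁻¹ᵁ V : X.Opens) : Set X) from hxV) (f ⁻¹ᵁ V).2
  have hne : Nonempty U := ⟨⟨x, hxU⟩⟩
  have h1 := ((affine_local f U V hU hV hUV hne).1 hA).1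
  have hgen : IsGen (f x) := hx ▸ isGen_genericPoint
  have hp := h1 (RingHom.ker (X.evaluation U x hxU).hom) (RingHom.ker_isPrime _) ?_
  · apply IsGen.eq
    apply isGen_of_forall_basicOpen hU x hxU
    intro a ha0
    rw [← Scheme.evaluation_ne_zero_iff_mem_basicOpen (hx := hxU)]
    intro h0
    have : a ∈ RingHom.ker (X.evaluation U x hxU).hom := h0
    rw [hp] at this
    exact ha0 this
  · rw [eq_bot_iff]
    intro r hr
    have h2 : X.evaluation U x hxU (f.appLE V U hUV r) = 0 := hr
    have h3 := congr($(evaluation_appLE f U V hUV x hxU) r)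
    have h4 : f.residueFieldMap x (Y.evaluation V (f x) (hUV hxU) r) = 0 := by
      rw [← h2]; exact h3.symm
    have h5 : Y.evaluation V (f x) (hUV hxU) r = 0 := by
      rwa [map_eq_zero_iff _ (f.residueFieldMap x).hom.injective] at h4
    exact hgen.evaluation_eq_zero V _ r h5

theorem forall_eq_bot_of_forall_eq_genericPoint [IsIntegral X] [IsIntegral Y] (f : X ⟶ Y)
    (U : X.Opens) (V : Y.Opens) (hU : IsAffineOpen U) (hV : IsAffineOpen V) (e : U ≤ f ⁻¹ᵁ V)
    (hC : ∀ x : X, f x = genericPoint Y → x = genericPoint X) :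
    ∀ p : Ideal Γ(X, U), p.IsPrime → p.comap (f.appLE V U e).hom = ⊥ → p = ⊥ := by
  intro p hp hcomap
  let x : X := hU.fromSpec ⟨p, hp⟩
  have hxU : x ∈ U := by
    rw [← SetLike.mem_coe, ← hU.range_fromSpec]; exact ⟨_, rfl⟩
  have hmem : ∀ a : Γ(X, U), x ∈ X.basicOpen a ↔ a ∉ p := by
    intro a
    have := hU.fromSpec_preimage_basicOpen a
    show (⟨p, hp⟩ : PrimeSpectrum _) ∈ hU.fromSpec ⁻¹ᵁ X.basicOpen a ↔ _
    rw [this]; rfl
  have hfx : IsGen (f x) := by
    apply isGen_of_forall_basicOpen hV (f x) (e hxU)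
    intro r hr0
    have h1 : x ∈ X.basicOpen ((f.appLE V U e).hom r) := by
      rw [hmem]
      intro hrp
      have : r ∈ p.comap (f.appLE V U e).hom := hrp
      rw [hcomap] at this
      exact hr0 this
    exact basicOpen_appLE_le f U V e r h1
  have hxξ : x = genericPoint X := hC x hfx.eq
  rw [eq_bot_iff]
  intro a ha
  by_contra ha0
  have : x ∈ X.basicOpen a := by
    rw [hxξ]; exact isGen_genericPoint _ (basicOpen_nonempty a ha0)
  exact (hmem a).mp this ha

set_option backward.isDefEq.respectTransparency.types false in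
lemma isFinite_resLE_iff (f : X ⟶ Y) (U : X.Opens) (V : Y.Opens) (hU : IsAffineOpen U)
    (hV : IsAffineOpen V) (e : U ≤ f ⁻¹ᵁ V) :
    IsFinite (f.resLE V U e) ↔ (f.appLE V U e).hom.Finite := by
  haveI : IsAffine V.toScheme := hV
  haveI : IsAffine U.toScheme := hU
  rw [HasAffineProperty.iff_of_isAffine (P := @IsFinite), and_iff_right (by infer_instance)]
  exact RingHom.finite_respectsIso.arrow_mk_iso_iff (arrowResLEAppIso f V U e)

lemma isFinite_morphismRestrict_of_appLE (f : X ⟶ Y) (U : X.Opens) (V : Y.Opens)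
    (hU : IsAffineOpen U) (hV : IsAffineOpen V) (hUV : f ⁻¹ᵁ V = U)
    (h : (f.appLE V U hUV.ge).hom.Finite) : IsFinite (f ∣_ V) := by
  subst hUV
  rw [← Scheme.Hom.resLE_eq_morphismRestrict]
  exact (isFinite_resLE_iff f _ V hU hV le_rfl).mpr h

lemma eq_preimage_of_isFinite_of_isSeparated [IsIntegral X] (f : X ⟶ Y) [IsSeparated f]
    (U : X.Opens) (V : Y.Opens) (e : U ≤ f ⁻¹ᵁ V) (hne : Nonempty U)
    (hfin : IsFinite (f.resLE V U e)) : f ⁻¹ᵁ V = U := by
  haveI : IsFinite (X.homOfLE e ≫ f ∣_ V) := hfin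
  haveI : IsFinite (X.homOfLE e) := IsFinite.of_comp _ (f ∣_ V)
  haveI : Nonempty (f ⁻¹ᵁ V : X.Opens) := by
    obtain ⟨⟨x, hx⟩⟩ := hne; exact ⟨⟨x, e hx⟩⟩
  have hcl : IsClosed (Set.range (X.homOfLE e)) := (X.homOfLE e).isClosedMap.isClosed_range
  have hop : IsOpen (Set.range (X.homOfLE e)) := (X.homOfLE e).isOpenEmbedding.isOpen_range
  have huniv : Set.range (X.homOfLE e) = Set.univ := by
    apply IsClopen.eq_univ ⟨hcl, hop⟩
    obtain ⟨u⟩ := hne
    exact ⟨_, ⟨u, rfl⟩⟩
  apply le_antisymm _ e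
  intro x hx
  have : (⟨x, hx⟩ : (f ⁻¹ᵁ V : X.Opens)) ∈ Set.range (X.homOfLE e) := huniv ▸ Set.mem_univ _
  obtain ⟨u, hu⟩ := this
  have h3 : (f ⁻¹ᵁ V).ι ((X.homOfLE e) u) = U.ι u := by
    rw [← Scheme.Hom.comp_apply, Scheme.homOfLE_ι]
  rw [hu] at h3
  have h4 : x = U.ι u := h3
  rw [h4]
  exact u.2

lemma exists_basicOpen_preimage_le [IsIntegral X] [IsIntegral Y] (f : X ⟶ Y) [QuasiCompact f]
    [IsDominant f]
    (U : X.Opens) (V : Y.Opens) (hV : IsAffineOpen V) (e : U ≤ f ⁻¹ᵁ V) (hne : Nonempty U)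
    (hC : ∀ x : X, f x = genericPoint Y → x = genericPoint X) :
    ∃ r : Γ(Y, V), r ≠ 0 ∧ f ⁻¹ᵁ (Y.basicOpen r) ≤ U := by
  have hξU : genericPoint X ∈ U := isGen_genericPoint U (by
    obtain ⟨⟨x, hx⟩⟩ := hne; exact ⟨x, hx⟩)
  have hηV : genericPoint Y ∈ V := by
    rw [← map_genericPoint f]; exact e hξU
  let Zc : TopologicalSpace.Closeds X := ⟨(U : Set X)ᶜ, U.isOpen.isClosed_compl⟩
  let I := Scheme.IdealSheafData.vanishingIdeal Zc
  let g := I.subschemeι ≫ f
  have hrg : Set.range g = f '' (Zc : Set X) := by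
    show Set.range (I.subschemeι ≫ f) = _
    rw [Scheme.Hom.comp_base, TopCat.coe_comp, Set.range_comp, I.range_subschemeι,
      Scheme.IdealSheafData.coe_support_vanishingIdeal]
  have hη : genericPoint Y ∉ closure (Set.range g) := by
    intro hcl
    have hirr : closure {genericPoint Y} ∈ irreducibleComponents Y := by
      rw [(genericPoint_spec Y).def, irreducibleComponents_eq_singleton]
      rfl
    obtain ⟨z', hz'⟩ := Groth.Agent.H1.Birat.mem_range_of_generic' g (genericPoint Y) hirr hcl
    have hz'Z : I.subschemeι z' ∈ (Zc : Set X) := by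
      have : I.subschemeι z' ∈ Set.range I.subschemeι := ⟨z', rfl⟩
      rwa [I.range_subschemeι, Scheme.IdealSheafData.coe_support_vanishingIdeal] at this
    have h1 : I.subschemeι z' = genericPoint X := hC _ hz'
    rw [h1] at hz'Z
    exact hz'Z hξU
  let W : Y.Opens := ⟨(closure (Set.range g))ᶜ, isClosed_closure.isOpen_compl⟩
  obtain ⟨r, hrW, hηr⟩ := hV.exists_basicOpen_le (V := W) ⟨genericPoint Y, hη⟩ hηV
  refine ⟨r, ?_, ?_⟩
  · rintro rfl
    rw [Scheme.basicOpen_zero] at hηr
    exact hηr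
  · intro x hx
    by_contra hxU
    have h1 : f x ∈ W := hrW hx
    apply h1
    apply subset_closure
    rw [hrg]
    exact ⟨x, hxU, rfl⟩

end Geometry

end Groth.Agent.H1.GenFin
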