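import Mathlib

set_option autoImplicit false

namespace Groth.Agent.Lib.Helper1.PairLift

universe u v

section Criterion

variable {C : Type u} {D : Type v} [CommRing C] [CommRing D]

/-- the pair of primes `p' ≤ p` lifts along `φ` -/
def LiftsPair (φ : C →+* D) (p' p : Ideal C) : Prop :=
  ∃ q' q : Ideal D, q'.IsPrime ∧ q.IsPrime ∧ q' ≤ q ∧ q'.comap φ = p' ∧ q.comap φ = p

/-- the `p'`-saturation of `p' D` -/
def satIdeal (φ : C →+* D) (p' : Ideal C) [hp' : p'.IsPrime] : Ideal D where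
  carrier := {j | ∃ a ∉ p', φ a * j ∈ p'.map φ}
  add_mem' := by
    rintro j₁ j₂ ⟨a₁, ha₁, h₁⟩ ⟨a₂, ha₂, h₂⟩
    refine ⟨a₁ * a₂, fun h => (hp'.mem_or_mem h).elim ha₁ ha₂, ?_⟩
    have : φ (a₁ * a₂) * (j₁ + j₂) = φ a₂ * (φ a₁ * j₁) + φ a₁ * (φ a₂ * j₂) := by
      rw [map_mul]; ring
    rw [this]
    exact Ideal.add_mem _ (Ideal.mul_mem_left _ _ h₁) (Ideal.mul_mem_left _ _ h₂)
  zero_mem' := ⟨1, fun h => hp'.ne_top ((Ideal.eq_top_iff_one _).2 h), by simp⟩
  smul_mem' := by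
    rintro d j ⟨a, ha, h⟩
    refine ⟨a, ha, ?_⟩
    have : φ a * (d • j) = d * (φ a * j) := by rw [smul_eq_mul]; ring
    rw [this]
    exact Ideal.mul_mem_left _ _ h

theorem mem_satIdeal (φ : C →+* D) (p' : Ideal C) [p'.IsPrime] {j : D} :
    j ∈ satIdeal φ p' ↔ ∃ a ∉ p', φ a * j ∈ p'.map φ := Iff.rfl

theorem map_le_satIdeal (φ : C →+* D) (p' : Ideal C) [hp' : p'.IsPrime] :
    p'.map φ ≤ satIdeal φ p' := by
  intro x hx
  exact ⟨1, fun h => hp'.ne_top ((Ideal.eq_top_iff_one _).2 h), by simpa using hx⟩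

theorem liftsPair_of_no_relation (φ : C →+* D) (p' p : Ideal C) [hp' : p'.IsPrime]
    [hp : p.IsPrime]
    (H : ∀ s ∉ p, ∀ a ∉ p', ∀ j : D, φ a * j ∈ p'.map φ → φ s - j ∉ p.map φ) :
    LiftsPair φ p' p := by
  let J := satIdeal φ p'
  let I := J ⊔ p.map φ
  let T : Submonoid D := p.primeCompl.map φ
  have hdisj : Disjoint (I : Set D) (T : Set D) := by
    rw [Set.disjoint_left]
    rintro x hxI ⟨s, hs, rfl⟩
    obtain ⟨j, hj, z, hz, hjz⟩ := Submodule.mem_sup.1 hxI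
    obtain ⟨a, ha, haj⟩ := hj
    apply H s hs a ha j haj
    have : φ s - j = z := by rw [← hjz]; ring
    rw [this]; exact hz
  obtain ⟨q, hq, hIq, hqT⟩ := Ideal.exists_le_prime_disjoint I T hdisj
  have hJq : J ≤ q := le_sup_left.trans hIq
  obtain ⟨q', hq'min, hq'q⟩ := Ideal.exists_minimalPrimes_le hJq
  have hq'prime : q'.IsPrime := hq'min.1.1
  refine ⟨q', q, hq'prime, hq, hq'q, ?_, ?_⟩
  · apply le_antisymm
    · intro a ha
      by_contra hap
      obtain ⟨y, hyJ, hy⟩ := Ideal.exists_mul_mem_of_mem_minimalPrimes hq'min (x := φ a) ha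
      obtain ⟨a₂, ha₂, h2⟩ := hy
      apply hyJ
      refine ⟨a₂ * a, fun h => (hp'.mem_or_mem h).elim ha₂ hap, ?_⟩
      rw [map_mul, mul_assoc]
      exact h2
    · rw [← Ideal.map_le_iff_le_comap]
      exact (map_le_satIdeal φ p').trans hq'min.1.2
  · apply le_antisymm
    · intro x hx
      by_contra hxp
      exact Set.disjoint_left.1 hqT hx ⟨x, hxp, rfl⟩
    · rw [← Ideal.map_le_iff_le_comap]
      exact le_sup_right.trans hIq

theorem no_relation_of_liftsPair (φ : C →+* D) (p' p : Ideal C) (h : LiftsPair φ p' p)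
    {s a : C} {j : D} (hs : s ∉ p) (ha : a ∉ p') (h1 : φ a * j ∈ p'.map φ) :
    φ s - j ∉ p.map φ := by
  obtain ⟨q', q, hq', hq, hle, hc', hc⟩ := h
  intro h2
  have h3 : p'.map φ ≤ q' := by rw [Ideal.map_le_iff_le_comap, hc']
  have h4 : p.map φ ≤ q := by rw [Ideal.map_le_iff_le_comap, hc]
  have hj : j ∈ q' := by
    rcases hq'.mem_or_mem (h3 h1) with h5 | h5
    · exact absurd (show a ∈ q'.comap φ from h5) (by rw [hc']; exact ha)
    · exact h5
  have hsq : φ s ∈ q := by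
    have := q.add_mem (h4 h2) (hle hj)
    rwa [sub_add_cancel] at this
  exact hs (by rw [← hc]; exact hsq)

end Criterion

end Groth.Agent.Lib.Helper1.PairLift
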