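import Mathlib
import Groth.Agent.Lib.Helper1.PairLift

set_option autoImplicit false

namespace Groth.Agent.Lib.Helper1.PairLift

universe u

open TensorProduct

section Limit

variable {A V B : Type u} [CommRing A] [CommRing V] [CommRing B] [Algebra A V] [Algebra A B]

/-- the transition map between tensor products of subalgebras -/
noncomputable def ι {R R' : Subalgebra A V} (h : R ≤ R') : R ⊗[A] B →ₐ[A] R' ⊗[A] B :=
  Algebra.TensorProduct.map (Subalgebra.inclusion h) (AlgHom.id A B)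

/-- the map to the tensor product of the whole algebra -/
noncomputable def ιV (R : Subalgebra A V) : R ⊗[A] B →ₐ[A] V ⊗[A] B :=
  Algebra.TensorProduct.map R.val (AlgHom.id A B)

/-- the base change ring map -/
noncomputable def incl (A B R : Type u) [CommRing A] [CommRing B] [Algebra A B] [CommRing R]
    [Algebra A R] : R →+* R ⊗[A] B :=
  Algebra.TensorProduct.includeLeftRingHom

theorem ιV_ι {R R' : Subalgebra A V} (h : R ≤ R') (t : R ⊗[A] B) :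
    ιV (B := B) R' (ι h t) = ιV R t := by
  simp only [ιV, ι]
  rw [← AlgHom.comp_apply, ← Algebra.TensorProduct.map_comp]
  rfl

theorem ι_ι {R R' R'' : Subalgebra A V} (h : R ≤ R') (h' : R' ≤ R'') (t : R ⊗[A] B) :
    ι (B := B) h' (ι h t) = ι (h.trans h') t := by
  simp only [ι]
  rw [← AlgHom.comp_apply, ← Algebra.TensorProduct.map_comp]
  rfl

theorem ιV_incl (R : Subalgebra A V) (x : R) : ιV (B := B) R (incl A B R x) = incl A B V (x : V) := by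
  simp [ιV, incl]

theorem ι_incl {R R' : Subalgebra A V} (h : R ≤ R') (x : R) :
    ι (B := B) h (incl A B R x) = incl A B R' (Subalgebra.inclusion h x) := by
  simp [ι, incl]

theorem rTensor_val_eq (R : Subalgebra A V) (t : R ⊗[A] B) :
    LinearMap.rTensor B R.val.toLinearMap t = ιV R t := rfl

theorem rTensor_inclusion_eq {R R' : Subalgebra A V} (h : R ≤ R') (t : R ⊗[A] B) :
    LinearMap.rTensor B (Subalgebra.inclusion h).toLinearMap t = ι h t := rfl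

/-- the contraction of an ideal of `V` to a subalgebra -/
def contr (𝔪 : Ideal V) (R : Subalgebra A V) : Ideal R := 𝔪.comap R.val.toRingHom

theorem mem_contr {𝔪 : Ideal V} {R : Subalgebra A V} {x : R} : x ∈ contr 𝔪 R ↔ (x : V) ∈ 𝔪 :=
  Iff.rfl

theorem ι_map_contr_le (𝔪 : Ideal V) {R R' : Subalgebra A V} (h : R ≤ R') :
    ((contr 𝔪 R).map (incl A B R)).map (ι (B := B) h).toRingHom ≤
      (contr 𝔪 R').map (incl A B R') := by
  rw [Ideal.map_le_iff_le_comap, Ideal.map_le_iff_le_comap]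
  intro x hx
  rw [Ideal.mem_comap, Ideal.mem_comap]
  change ι h (incl A B R x) ∈ _
  rw [ι_incl]
  exact Ideal.mem_map_of_mem _ hx

theorem ι_mem_map_contr (𝔪 : Ideal V) {R R' : Subalgebra A V} (h : R ≤ R') {z : R ⊗[A] B}
    (hz : z ∈ (contr 𝔪 R).map (incl A B R)) : ι h z ∈ (contr 𝔪 R').map (incl A B R') :=
  ι_map_contr_le 𝔪 h (Ideal.mem_map_of_mem _ hz)

theorem exists_fg_ιV_eq (d : V ⊗[A] B) : ∃ R : Subalgebra A V, R.FG ∧ ∃ d₀ : R ⊗[A] B, ιV R d₀ = d := by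
  obtain ⟨R, hR, d₀, hd₀⟩ := TensorProduct.Algebra.exists_of_fg d
  exact ⟨R, hR, d₀, hd₀⟩

theorem exists_fg_mem_map_contr (𝔪 : Ideal V) {z : V ⊗[A] B} (hz : z ∈ 𝔪.map (incl A B V)) :
    ∃ R : Subalgebra A V, R.FG ∧ ∃ z₀ ∈ (contr 𝔪 R).map (incl A B R), ιV R z₀ = z := by
  induction hz using Submodule.span_induction with
  | mem z hz =>
    obtain ⟨μ, hμ, rfl⟩ := hz
    refine ⟨Algebra.adjoin A {μ}, Subalgebra.fg_adjoin_finset {μ} |> (by simpa using ·),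
      incl A B _ ⟨μ, Algebra.subset_adjoin (Set.mem_singleton μ)⟩, Ideal.mem_map_of_mem _ hμ, ?_⟩
    rw [ιV_incl]
  | zero => exact ⟨⊥, Subalgebra.fg_bot, 0, Ideal.zero_mem _, map_zero _⟩
  | add x y _ _ hx hy =>
    obtain ⟨R₁, hR₁, z₁, hz₁, e₁⟩ := hx
    obtain ⟨R₂, hR₂, z₂, hz₂, e₂⟩ := hy
    refine ⟨R₁ ⊔ R₂, hR₁.sup hR₂, ι (R := R₁) (R' := R₁ ⊔ R₂) le_sup_left z₁ + ι (R := R₂) (R' := R₁ ⊔ R₂) le_sup_right z₂,
      Ideal.add_mem _ (ι_mem_map_contr 𝔪 _ hz₁) (ι_mem_map_contr 𝔪 _ hz₂), ?_⟩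
    rw [map_add, ιV_ι, ιV_ι, e₁, e₂]
  | smul d x _ hx =>
    obtain ⟨R₁, hR₁, z₁, hz₁, e₁⟩ := hx
    obtain ⟨R₂, hR₂, d₂, e₂⟩ := exists_fg_ιV_eq d
    refine ⟨R₁ ⊔ R₂, hR₁.sup hR₂, ι (R := R₂) (R' := R₁ ⊔ R₂) le_sup_right d₂ * ι (R := R₁) (R' := R₁ ⊔ R₂) le_sup_left z₁,
      Ideal.mul_mem_left _ _ (ι_mem_map_contr 𝔪 _ hz₁), ?_⟩
    rw [map_mul, ιV_ι, ιV_ι, e₁, e₂, smul_eq_mul]

theorem exists_fg_ι_eq {R : Subalgebra A V} (hR : R.FG) {t t' : R ⊗[A] B}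
    (h : ιV R t = ιV R t') : ∃ (R' : Subalgebra A V) (hRR' : R ≤ R'), R'.FG ∧ ι hRR' t = ι hRR' t' := by
  obtain ⟨R', hRR', hR', h'⟩ := TensorProduct.Algebra.eq_of_fg_of_subtype_eq hR (t := t) (t' := t') h
  exact ⟨R', hRR', hR', h'⟩

/-- **Limit lemma**: pair lifting over `(⊥, 𝔪)` descends from the finitely generated subalgebras of
a domain `V`. -/
theorem liftsPair_of_forall_fg [IsDomain V] (𝔪 : Ideal V) [h𝔪 : 𝔪.IsPrime]
    (H : ∀ R₀ : Subalgebra A V, R₀.FG → ∃ R : Subalgebra A V, R₀ ≤ R ∧ R.FG ∧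
      LiftsPair (incl A B R) ⊥ (contr 𝔪 R)) :
    LiftsPair (incl A B V) ⊥ 𝔪 := by
  haveI : (⊥ : Ideal V).IsPrime := Ideal.isPrime_bot
  apply liftsPair_of_no_relation
  intro s hs a ha j hj hrel
  rw [Ideal.map_bot, Ideal.mem_bot] at hj
  rw [Ideal.mem_bot] at ha
  obtain ⟨R₀, hR₀, z₀, hz₀, ez₀⟩ := exists_fg_mem_map_contr 𝔪 hrel
  obtain ⟨R₁, hR₁, j₁, ej₁⟩ := exists_fg_ιV_eq j
  let R₂ : Subalgebra A V := R₀ ⊔ R₁ ⊔ Algebra.adjoin A {s, a}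
  have hR₂ : R₂.FG := (hR₀.sup hR₁).sup (by
    classical
    have := Subalgebra.fg_adjoin_finset (R := A) ({s, a} : Finset V)
    simpa using this)
  have h02 : R₀ ≤ R₂ := le_sup_left.trans le_sup_left
  have h12 : R₁ ≤ R₂ := le_sup_right.trans le_sup_left
  have hs2 : s ∈ R₂ := (le_sup_right : _ ≤ R₂) (Algebra.subset_adjoin (by simp))
  have ha2 : a ∈ R₂ := (le_sup_right : _ ≤ R₂) (Algebra.subset_adjoin (by simp))
  let s₂ : R₂ := ⟨s, hs2⟩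
  let a₂ : R₂ := ⟨a, ha2⟩
  let z₂ : R₂ ⊗[A] B := ι h02 z₀
  let j₂ : R₂ ⊗[A] B := ι h12 j₁
  have e1 : ιV R₂ (incl A B R₂ s₂ - j₂) = ιV R₂ z₂ := by
    rw [map_sub, ιV_incl, ιV_ι, ιV_ι, ej₁, ez₀]
  have e2 : ιV R₂ (incl A B R₂ a₂ * j₂) = ιV R₂ 0 := by
    rw [map_mul, ιV_incl, ιV_ι, ej₁, map_zero]
    exact hj
  obtain ⟨R₃, h23, hR₃, e3⟩ := exists_fg_ι_eq hR₂ e1
  obtain ⟨R₄, h24, hR₄, e4⟩ := exists_fg_ι_eq hR₂ e2
  obtain ⟨R, h5, hR, hlift⟩ := H (R₃ ⊔ R₄) (hR₃.sup hR₄)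
  have h3R : R₃ ≤ R := le_sup_left.trans h5
  have h4R : R₄ ≤ R := le_sup_right.trans h5
  have h2R : R₂ ≤ R := h23.trans h3R
  let sR : R := ⟨s, h2R hs2⟩
  let aR : R := ⟨a, h2R ha2⟩
  let jR : R ⊗[A] B := ι h2R j₂
  have hsR : sR ∉ contr 𝔪 R := hs
  have haR : aR ∉ (⊥ : Ideal R) := by
    rw [Ideal.mem_bot]
    intro h0
    exact ha (congrArg Subtype.val h0)
  have E1 : incl A B R sR - jR = ι h2R z₂ := by
    have := congrArg (ι h3R) e3
    rw [ι_ι, ι_ι, map_sub, ι_incl] at this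
    exact this
  have E2 : incl A B R aR * jR = 0 := by
    have := congrArg (ι h4R) e4
    rw [ι_ι, ι_ι, map_mul, ι_incl, map_zero] at this
    exact this
  refine no_relation_of_liftsPair _ _ _ hlift hsR haR (j := jR) ?_ ?_
  · rw [E2]; exact Ideal.zero_mem _
  · rw [E1]
    exact ι_mem_map_contr 𝔪 h2R (ι_mem_map_contr 𝔪 h02 hz₀)

end Limit

end Groth.Agent.Lib.Helper1.PairLift
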