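import Mathlib
import Groth.Prelude.Def_HTop

set_option autoImplicit false

namespace Groth.Agent.Lib.Helper1.ValLift

open CategoryTheory CategoryTheory.Limits AlgebraicGeometry HTop TopologicalSpace IsLocalRing

universe w u

/-- A specialization in a scheme is realized by a valuation ring of the residue field of the
generic point. -/
theorem exists_valuationSubring_of_specializes {Z : Scheme.{u}} {z' z : Z} (h : z' ⤳ z) :
    ∃ (A : ValuationSubring (Z.residueField z')) (φ : Spec (.of A) ⟶ Z),
      φ (closedPoint A) = z ∧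
      Spec.map (CommRingCat.ofHom (algebraMap A (Z.residueField z'))) ≫ φ =
        Z.fromSpecResidueField z' := by
  let s : Z.presheaf.stalk z ⟶ Z.residueField z' :=
    Z.presheaf.stalkSpecializes h ≫ Z.residue z'
  obtain ⟨A, hA, hA_local⟩ := exists_factor_valuationRing s.hom
  let sA : Z.presheaf.stalk z ⟶ .of A :=
    CommRingCat.ofHom (s.hom.codRestrict _ hA)
  refine ⟨A, Spec.map sA ≫ Z.fromSpecStalk z, ?_, ?_⟩
  · simp only [Scheme.Hom.comp_base, TopCat.coe_comp, Function.comp_apply]
    have : Spec.map sA (closedPoint A) = closedPoint (Z.presheaf.stalk z) :=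
      comap_closedPoint (S := A) (s.hom.codRestrict A.toSubring hA)
    rw [this, Z.fromSpecStalk_closedPoint]
  · rw [Scheme.fromSpecResidueField, ← Scheme.SpecMap_stalkSpecializes_fromSpecStalk h]
    simp_rw [← Spec.map_comp_assoc]
    rfl

/-- Key lemma: a specialization in `Z` lying over (generic point ⤳ closed point) of `Spec V`
gives an extension of valuation rings `V → W` and a lift `Spec W ⟶ Z`. -/
theorem exists_extVal_lift {V : CommRingCat.{u}} [IsDomain V] [ValuationRing V] {Z : Scheme.{u}}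
    (p : Z ⟶ Spec V) {z' z : Z} (h : z' ⤳ z)
    (hz' : (p z').asIdeal = ⊥) (hz : p z = closedPoint V) :
    ∃ (W : CommRingCat.{u}) (_ : IsDomain W) (_ : ValuationRing W) (φ : V ⟶ W),
      IsExtVal V W φ ∧ ∃ q : Spec W ⟶ Z, q ≫ p = Spec.map φ ∧ q (closedPoint W) = z := by
  obtain ⟨A, q, hq1, hq2⟩ := exists_valuationSubring_of_specializes h
  let ψ : V ⟶ .of A := Spec.preimage (q ≫ p)
  have hψ : Spec.map ψ = q ≫ p := Spec.map_preimage _
  have hd : IsDomain (CommRingCat.of A) := inferInstanceAs (IsDomain A)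
  have hv : ValuationRing (CommRingCat.of A) := inferInstanceAs (ValuationRing A)
  refine ⟨.of A, hd, hv, ψ, ⟨?_, ?_⟩, q, hψ.symm, hq1⟩
  · -- injective
    let χ : V ⟶ Z.residueField z' := ψ ≫ CommRingCat.ofHom (algebraMap A (Z.residueField z'))
    have hχ : Spec.map χ = Z.fromSpecResidueField z' ≫ p := by
      rw [Spec.map_comp, hψ, ← Category.assoc]
      exact congrArg (· ≫ p) hq2
    have hker : RingHom.ker χ.hom = ⊥ := by
      have h1 : (Spec.map χ (closedPoint (Z.residueField z'))).asIdeal = ⊥ := by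
        rw [hχ]
        simp only [Scheme.Hom.comp_base, TopCat.coe_comp, Function.comp_apply]
        rw [Scheme.fromSpecResidueField_apply]
        exact hz'
      rw [← h1]
      change _ = Ideal.comap χ.hom (maximalIdeal _)
      rw [IsLocalRing.maximalIdeal_eq_bot]
      rfl
    have hinj : Function.Injective χ.hom := (RingHom.injective_iff_ker_eq_bot _).mpr hker
    intro a b hab
    apply hinj
    change algebraMap A (Z.residueField z') (ψ.hom a) = algebraMap A (Z.residueField z') (ψ.hom b)
    rw [hab]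
  · rw [isLocalHom_iff_comap_closedPoint]
    have : Spec.map ψ (closedPoint A) = closedPoint V := by
      rw [hψ]
      simp only [Scheme.Hom.comp_base, TopCat.coe_comp, Function.comp_apply]
      rw [hq1, hz]
    exact this

/-- the generic point of the spectrum of a domain specializes to every point -/
theorem bot_specializes {V : CommRingCat.{u}} [IsDomain V] (y : Spec V) :
    (⟨⊥, Ideal.isPrime_bot⟩ : PrimeSpectrum V) ⤳ (y : PrimeSpectrum V) := by
  rw [← PrimeSpectrum.le_iff_specializes]
  exact bot_le (a := y.asIdeal)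

/-- Lifting through a flat morphism hitting the image of the closed point. -/
theorem exists_lift_of_flat {V : CommRingCat.{u}} [IsDomain V] [ValuationRing V]
    {T X : Scheme.{u}} (g : Spec V ⟶ T) (f : X ⟶ T) [Flat f] (x : X)
    (hx : f x = g (closedPoint V)) :
    ∃ (W : CommRingCat.{u}) (_ : IsDomain W) (_ : ValuationRing W) (φ : V ⟶ W),
      IsExtVal V W φ ∧ ∃ g' : Spec W ⟶ X, g' ≫ f = Spec.map φ ≫ g := by
  obtain ⟨z, hz1, hz2⟩ := Scheme.Pullback.exists_preimage_pullback (f := g) (g := f)
    (closedPoint V) x hx.symm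
  have hgen : GeneralizingMap (pullback.fst g f) := Flat.generalizingMap _
  obtain ⟨z', hz'z, hz'⟩ := hgen (a := z) (b := (⟨⊥, Ideal.isPrime_bot⟩ : PrimeSpectrum V))
    (bot_specializes _)
  obtain ⟨W, hd, hv, φ, hφ, q, hq, -⟩ := exists_extVal_lift (pullback.fst g f) hz'z
    (by rw [hz']) hz1
  refine ⟨W, hd, hv, φ, hφ, q ≫ pullback.snd g f, ?_⟩
  rw [Category.assoc, ← pullback.condition, ← Category.assoc, hq]

/-- Lifting through a universally closed surjective morphism. -/
theorem exists_lift_of_univClosed_surjective {V : CommRingCat.{u}} [IsDomain V] [ValuationRing V]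
    {T U : Scheme.{u}} (g : Spec V ⟶ T) (f : U ⟶ T) [UniversallyClosed f] [Surjective f] :
    ∃ (W : CommRingCat.{u}) (_ : IsDomain W) (_ : ValuationRing W) (φ : V ⟶ W),
      IsExtVal V W φ ∧ ∃ g' : Spec W ⟶ U, g' ≫ f = Spec.map φ ≫ g := by
  obtain ⟨z', hz'⟩ := (pullback.fst g f).surjective (⟨⊥, Ideal.isPrime_bot⟩ : PrimeSpectrum V)
  have hsp : SpecializingMap (pullback.fst g f) :=
    (pullback.fst g f).isClosedMap.specializingMap
  obtain ⟨z, hz'z, hz⟩ := hsp (a := z') (b := closedPoint V) (by
    rw [hz']; exact bot_specializes _)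
  obtain ⟨W, hd, hv, φ, hφ, q, hq, -⟩ := exists_extVal_lift (pullback.fst g f) hz'z
    (by rw [hz']) hz
  refine ⟨W, hd, hv, φ, hφ, q ≫ pullback.snd g f, ?_⟩
  rw [Category.assoc, ← pullback.condition, ← Category.assoc, hq]

/-- A morphism from a local scheme into a scheme covered by open immersions factors through
one of them. -/
theorem exists_lift_openImmersion {W : CommRingCat.{u}} [IsLocalRing W] {U : Scheme.{u}}
    {ι₀ : Type w} {X : ι₀ → Scheme.{u}} (ι : ∀ j, X j ⟶ U) (hι : ∀ j, IsOpenImmersion (ι j))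
    (hcov : ∀ x : U, ∃ j, x ∈ Set.range (ι j).base) (q : Spec W ⟶ U) :
    ∃ (j : ι₀) (q' : Spec W ⟶ X j), q' ≫ ι j = q := by
  obtain ⟨j, hj⟩ := hcov (q (closedPoint W))
  have := hι j
  have htop : q ⁻¹ᵁ (ι j).opensRange = ⊤ :=
    Scheme.preimage_eq_top_of_closedPoint_mem q hj
  have hrange : Set.range q ⊆ Set.range (ι j) := by
    rintro _ ⟨x, rfl⟩
    have : x ∈ q ⁻¹ᵁ (ι j).opensRange := by rw [htop]; trivial
    exact this
  exact ⟨j, IsOpenImmersion.lift (ι j) q hrange, IsOpenImmersion.lift_fac _ _ _⟩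

/-- standard ph coverings have the valuative lifting property -/
theorem hasValLift_of_isStandardPh {T : Scheme.{u}} (E : PreZeroHypercover.{w} T)
    (hE : IsStandardPh E) : HasValLift E := by
  obtain ⟨U, f, ι, hf, hs, hι, hfac, hcov⟩ := hE.exists_proper
  intro V _ _ g
  obtain ⟨W, hd, hv, φ, hφ, q, hq⟩ := exists_lift_of_univClosed_surjective g f
  have : IsLocalRing W := inferInstance
  obtain ⟨j, q', hq'⟩ := exists_lift_openImmersion ι hι hcov q
  refine ⟨W, hd, hv, φ, hφ, j, q', ?_⟩
  rw [← hfac j, ← Category.assoc, hq', hq]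

theorem isStandardV_of_isStandardPh {T : Scheme.{u}} (E : PreZeroHypercover.{w} T)
    (hE : IsStandardPh E) : IsStandardV E :=
  ⟨hE.isAffine, hE.finite_index, hE.isAffine_obj, hasValLift_of_isStandardPh E hE⟩

/-- standard fpqc coverings have the valuative lifting property -/
theorem hasValLift_of_flat_surjective {T : Scheme.{u}} (E : PreZeroHypercover.{w} T)
    (hflat : ∀ j, Flat (E.f j)) (hsurj : ∀ t : T, ∃ (j : E.I₀) (x : E.X j), E.f j x = t) :
    HasValLift E := by
  intro V _ _ g
  obtain ⟨j, x, hx⟩ := hsurj (g (closedPoint V))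
  have := hflat j
  obtain ⟨W, hd, hv, φ, hφ, q, hq⟩ := exists_lift_of_flat g (E.f j) x hx
  exact ⟨W, hd, hv, φ, hφ, j, q, hq⟩

end Groth.Agent.Lib.Helper1.ValLift
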