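import Mathlib
import Groth.Prelude.Def_HTop
import Groth.Agent.Lib.Helper1.ValLift

set_option autoImplicit false

namespace Groth.Agent.Lib.Helper1.ValLift

open CategoryTheory CategoryTheory.Limits AlgebraicGeometry HTop TopologicalSpace IsLocalRing

universe w w' u

/-- A compact open of a scheme is a finite union of affine opens. -/
theorem exists_fin_affineOpens_of_isCompact {X : Scheme.{u}} (O : X.Opens)
    (hO : IsCompact (O : Set X)) :
    ∃ (n : ℕ) (W : Fin n → X.Opens), (∀ k, IsAffineOpen (W k)) ∧ (∀ k, W k ≤ O) ∧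
      ∀ x ∈ O, ∃ k, x ∈ W k := by
  obtain ⟨Us, hUs, hfin, hsup⟩ := X.isBasis_affineOpens.exists_finite_of_isCompact hO
  have := hfin.to_subtype
  obtain ⟨n, ⟨e⟩⟩ := Finite.exists_equiv_fin Us
  refine ⟨n, fun k => (e.symm k).1, fun k => hUs (e.symm k).2, fun k => ?_, fun x hx => ?_⟩
  · rw [hsup]; exact le_sSup (e.symm k).2
  · rw [hsup] at hx
    obtain ⟨W, hW, hxW⟩ := Opens.mem_sSup.mp hx
    exact ⟨e ⟨W, hW⟩, by simpa using hxW⟩

/-- A morphism from a local scheme factors through any open containing the image of the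
closed point. -/
theorem exists_lift_opens {W : CommRingCat.{u}} [IsLocalRing W] {X : Scheme.{u}} (O : X.Opens)
    (q : Spec W ⟶ X) (hq : q (closedPoint W) ∈ O) : ∃ q' : Spec W ⟶ (O : Scheme.{u}), q' ≫ O.ι = q := by
  have htop : q ⁻¹ᵁ O = ⊤ := Scheme.preimage_eq_top_of_closedPoint_mem q hq
  have hrange : Set.range q ⊆ Set.range O.ι := by
    rintro _ ⟨x, rfl⟩
    rw [Scheme.Opens.range_ι]
    have : x ∈ q ⁻¹ᵁ O := by rw [htop]; trivial
    exact this
  exact ⟨IsOpenImmersion.lift O.ι q hrange, IsOpenImmersion.lift_fac _ _ _⟩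

/-- V coverings have the valuative lifting property. -/
theorem hasValLift_of_isVCover {T : Scheme.{u}} (E : PreZeroHypercover.{w} T) (hE : IsVCover E) :
    HasValLift E := by
  intro V _ _ g
  obtain ⟨U, hU, hyU, -⟩ :=
    exists_isAffineOpen_mem_and_subset (x := g (closedPoint V)) (U := ⊤) trivial
  obtain ⟨g₀, hg₀⟩ := exists_lift_opens U g hyU
  obtain ⟨F, hF, hFR⟩ := hE ⟨U, hU⟩
  obtain ⟨W, hd, hv, φ, hφ, j, g', hg'⟩ := hF.lift V g₀
  obtain ⟨i, h, hh⟩ := hFR j
  refine ⟨W, hd, hv, φ, hφ, i, g' ≫ h, ?_⟩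
  rw [Category.assoc, hh, ← Category.assoc, hg', Category.assoc]
  change Spec.map φ ≫ g₀ ≫ U.ι = _
  rw [hg₀]

/-- For a quasi-compact morphism, the valuative lifting property gives a V covering. -/
theorem isVCover_singleton_of_hasValLift {X Y : Scheme.{u}} (f : X ⟶ Y) [QuasiCompact f]
    (hf : HasValLift (PreZeroHypercover.singleton.{w} f)) :
    IsVCover (PreZeroHypercover.singleton.{w} f) := by
  rintro ⟨U, (hU : IsAffineOpen U)⟩
  obtain ⟨n, W, hW, hWle, hWcov⟩ := exists_fin_affineOpens_of_isCompact (f ⁻¹ᵁ U)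
    (QuasiCompact.isCompact_preimage (f := f) _ U.2 hU.isCompact)
  have hrange : ∀ k : Fin n, Set.range ((W k).ι ≫ f) ⊆ Set.range U.ι := by
    intro k
    rintro _ ⟨x, rfl⟩
    rw [Scheme.Opens.range_ι]
    exact hWle k x.2
  let F : PreZeroHypercover.{0} (U : Scheme.{u}) :=
    { I₀ := Fin n
      X := fun k => (W k : Scheme.{u})
      f := fun k => IsOpenImmersion.lift U.ι ((W k).ι ≫ f) (hrange k) }
  have hFf : ∀ k : Fin n, F.f k ≫ U.ι = (W k).ι ≫ f := fun k => IsOpenImmersion.lift_fac _ _ _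
  refine ⟨F, ⟨hU, inferInstanceAs (Finite (Fin n)), fun k => hW k, ?_⟩, ?_⟩
  · intro V _ _ g
    obtain ⟨R, hd, hv, φ, hφ, j, g', hg'⟩ := hf V (g ≫ U.ι)
    have : IsLocalRing R := inferInstance
    have hg'2 : (show Spec R ⟶ X from g') ≫ f = Spec.map φ ≫ g ≫ U.ι := hg'
    have hmem : (show Spec R ⟶ X from g') (closedPoint R) ∈ f ⁻¹ᵁ U := by
      change f ((show Spec R ⟶ X from g') (closedPoint R)) ∈ U
      rw [← Scheme.Hom.comp_apply, hg'2]
      simp only [Scheme.Hom.comp_base, TopCat.coe_comp, Function.comp_apply]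
      have := Set.mem_range_self (f := U.ι) (g (Spec.map φ (closedPoint R)))
      rwa [Scheme.Opens.range_ι] at this
    obtain ⟨k, hk⟩ := hWcov _ hmem
    obtain ⟨g'', hg''⟩ := exists_lift_opens (W k) (show Spec R ⟶ X from g') hk
    refine ⟨R, hd, hv, φ, hφ, k, g'', ?_⟩
    rw [← cancel_mono U.ι, Category.assoc, hFf k, ← Category.assoc, hg'', hg'2, Category.assoc]
  · intro k
    exact ⟨PUnit.unit, (W k).ι, (hFf k).symm⟩

/-- `Spec` of an injective ring map of domains sends generic point to generic point. -/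
theorem specMap_bot_of_injective {A B : CommRingCat.{u}} [IsDomain A] [IsDomain B] (φ : A ⟶ B)
    (hφ : Function.Injective φ.hom) :
    Spec.map φ (⟨⊥, Ideal.isPrime_bot⟩ : PrimeSpectrum B) = (⟨⊥, Ideal.isPrime_bot⟩ : PrimeSpectrum A) := by
  apply PrimeSpectrum.ext
  change Ideal.comap φ.hom ⊥ = ⊥
  rw [← RingHom.ker_eq_comap_bot]
  exact (RingHom.injective_iff_ker_eq_bot _).mp hφ

/-- The valuative lifting property gives lifting of specializations along all base changes. -/
theorem exists_specializes_of_hasValLift {T : Scheme.{u}} (E : PreZeroHypercover.{w} T)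
    (hE : HasValLift E) {Z : Scheme.{u}} (g : Z ⟶ T) {z' z : Z} (h : z' ⤳ z) :
    ∃ (j : E.I₀) (w' w : ↑(pullback g (E.f j))), w' ⤳ w ∧ pullback.fst g (E.f j) w' = z' ∧
      pullback.fst g (E.f j) w = z := by
  obtain ⟨A, q, hq1, hq2⟩ := exists_valuationSubring_of_specializes h
  have hd : IsDomain (CommRingCat.of A) := inferInstanceAs (IsDomain A)
  have hv : ValuationRing (CommRingCat.of A) := inferInstanceAs (ValuationRing A)
  obtain ⟨W, hdW, hvW, φ, ⟨hφi, hφl⟩, j, g', hg'⟩ := hE (.of A) (q ≫ g)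
  have : IsLocalRing W := inferInstance
  let r : Spec W ⟶ pullback g (E.f j) := pullback.lift (Spec.map φ ≫ q) g' (by
    rw [Category.assoc, hg'])
  have hr : r ≫ pullback.fst g (E.f j) = Spec.map φ ≫ q := pullback.lift_fst _ _ _
  refine ⟨j, r (⟨⊥, Ideal.isPrime_bot⟩ : PrimeSpectrum W), r (closedPoint W),
    (bot_specializes _).map r.continuous, ?_, ?_⟩
  · rw [← Scheme.Hom.comp_apply, hr]
    simp only [Scheme.Hom.comp_base, TopCat.coe_comp, Function.comp_apply]
    rw [specMap_bot_of_injective φ hφi]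
    -- q ⊥ = z'
    have h1 : Spec.map (CommRingCat.ofHom (algebraMap A (Z.residueField z')))
        (closedPoint (Z.residueField z')) = (⟨⊥, Ideal.isPrime_bot⟩ : PrimeSpectrum A) := by
      apply PrimeSpectrum.ext
      change Ideal.comap (algebraMap A (Z.residueField z')) (maximalIdeal _) = ⊥
      rw [IsLocalRing.maximalIdeal_eq_bot, ← RingHom.ker_eq_comap_bot]
      exact (RingHom.injective_iff_ker_eq_bot _).mp (FaithfulSMul.algebraMap_injective _ _)
    have h2 : q (⟨⊥, Ideal.isPrime_bot⟩ : PrimeSpectrum A) = z' := by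
      rw [← h1, ← Scheme.Hom.comp_apply]
      have := congrArg (fun m => m (closedPoint (Z.residueField z'))) hq2
      simp only at this
      rw [Scheme.fromSpecResidueField_apply] at this
      exact this
    exact h2
  · rw [← Scheme.Hom.comp_apply, hr]
    simp only [Scheme.Hom.comp_base, TopCat.coe_comp, Function.comp_apply]
    have : Spec.map φ (closedPoint W) = closedPoint A := by
      have := hφl
      exact comap_closedPoint φ.hom
    rw [this]
    exact hq1

/-- Lifting of specializations along base changes to spectra of valuation rings gives the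
valuative lifting property. -/
theorem hasValLift_of_exists_specializes {T : Scheme.{u}} (E : PreZeroHypercover.{w} T)
    (hE : ∀ (V : CommRingCat.{u}) [IsDomain V] [ValuationRing V] (g : Spec V ⟶ T),
      ∃ (j : E.I₀) (w' w : ↑(pullback g (E.f j))), w' ⤳ w ∧
        (pullback.fst g (E.f j) w').asIdeal = ⊥ ∧ pullback.fst g (E.f j) w = closedPoint V) :
    HasValLift E := by
  intro V _ _ g
  obtain ⟨j, w', w, hw, hw', hw2⟩ := hE V g
  obtain ⟨W, hd, hv, φ, hφ, q, hq, -⟩ := exists_extVal_lift (pullback.fst g (E.f j)) hw hw' hw2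
  refine ⟨W, hd, hv, φ, hφ, j, q ≫ pullback.snd g (E.f j), ?_⟩
  rw [Category.assoc, ← pullback.condition, ← Category.assoc, hq]

end Groth.Agent.Lib.Helper1.ValLift
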