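import Mathlib
import Groth.Agent.Lib.Helper1.PairLift2
import Groth.Agent.Lib.Helper1.VCov

set_option autoImplicit false

namespace Groth.Agent.Lib.Helper1.PairLift

universe u

open CategoryTheory CategoryTheory.Limits AlgebraicGeometry TensorProduct IsLocalRing

theorem isPullback_comp_mono {C : Type*} [Category C] {P X Y Z W : C} {a : P ⟶ X} {b : P ⟶ Y}
    {f : X ⟶ Z} {g : Y ⟶ Z} (h : IsPullback a b f g) (i : Z ⟶ W) [Mono i] :
    IsPullback a b (f ≫ i) (g ≫ i) := by
  refine ⟨⟨by rw [← Category.assoc, h.w, Category.assoc]⟩, ⟨PullbackCone.IsLimit.mk _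
    (fun s => h.lift s.fst s.snd ((cancel_mono i).1 (by simpa using s.condition)))
    (fun s => h.lift_fst _ _ _) (fun s => h.lift_snd _ _ _) ?_⟩⟩
  intro s m h1 h2
  apply h.hom_ext
  · rw [h1, h.lift_fst]
  · rw [h2, h.lift_snd]

section Bridge

variable {X Y : Scheme.{u}} (f : X ⟶ Y) {A B : Type u} [CommRing A] [CommRing B] [Algebra A B]
  (a : Spec (.of A) ⟶ Y) [Mono a] (b : Spec (.of B) ⟶ X) [IsOpenImmersion b]
  (hab : b ≫ f = Spec.map (CommRingCat.ofHom (algebraMap A B)) ≫ a)
  (R : Type u) [CommRing R] [Algebra A R]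

/-- the structure map of `Spec R` -/
noncomputable def kR : Spec (.of R) ⟶ Y := Spec.map (CommRingCat.ofHom (algebraMap A R)) ≫ a

include hab in
theorem bridge_cond :
    Spec.map (CommRingCat.ofHom (incl A B R)) ≫ kR a R =
      (Spec.map (CommRingCat.ofHom
        (Algebra.TensorProduct.includeRight (R := A) (A := R) (B := B)).toRingHom) ≫ b) ≫ f := by
  rw [Category.assoc, hab, kR, ← Category.assoc, ← Category.assoc, ← Spec.map_comp,
    ← Spec.map_comp]
  congr 2
  exact (CommRingCat.isPushout_tensorProduct A R B).w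

/-- the comparison map from `Spec (R ⊗ B)` to the fibre product -/
noncomputable def bridge : Spec (.of (R ⊗[A] B)) ⟶ pullback (kR a R) f :=
  pullback.lift (Spec.map (CommRingCat.ofHom (incl A B R)))
    (Spec.map (CommRingCat.ofHom
      (Algebra.TensorProduct.includeRight (R := A) (A := R) (B := B)).toRingHom) ≫ b)
    (bridge_cond f a b hab R)

theorem bridge_fst :
    bridge f a b hab R ≫ pullback.fst (kR a R) f = Spec.map (CommRingCat.ofHom (incl A B R)) :=
  pullback.lift_fst _ _ _

theorem bridge_snd :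
    bridge f a b hab R ≫ pullback.snd (kR a R) f =
      Spec.map (CommRingCat.ofHom
        (Algebra.TensorProduct.includeRight (R := A) (A := R) (B := B)).toRingHom) ≫ b :=
  pullback.lift_snd _ _ _

theorem isPullback_bridge :
    IsPullback (bridge f a b hab R)
      (Spec.map (CommRingCat.ofHom
        (Algebra.TensorProduct.includeRight (R := A) (A := R) (B := B)).toRingHom))
      (pullback.snd (kR a R) f) b := by
  refine IsPullback.of_right (h₁₂ := pullback.fst (kR a R) f) (h₂₂ := f) (v₁₃ := kR a R) ?_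
    (bridge_snd f a b hab R) (IsPullback.of_hasPullback (kR a R) f)
  rw [bridge_fst, hab]
  exact isPullback_comp_mono
    (isPullback_SpecMap_of_isPushout _ _ _ _ (CommRingCat.isPushout_tensorProduct A R B)) a

instance : IsOpenImmersion (bridge f a b hab R) :=
  MorphismProperty.of_isPullback (isPullback_bridge f a b hab R).flip inferInstance

theorem range_bridge :
    Set.range (bridge f a b hab R) = (pullback.snd (kR a R) f) ⁻¹' Set.range b := by
  have := Scheme.image_preimage_eq_of_isPullback (isPullback_bridge f a b hab R).flip Set.univ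
  rw [Set.preimage_univ, Set.image_univ, Set.image_univ] at this
  exact this

include hab in
/-- from points of the fibre product to primes of the tensor product -/
theorem liftsPair_of_specializes {w' w : ↑(pullback (kR a R) f)} (hw : w' ⤳ w)
    (hwb : pullback.snd (kR a R) f w ∈ Set.range b) :
    LiftsPair (incl A B R) (pullback.fst (kR a R) f w').asIdeal
      (pullback.fst (kR a R) f w).asIdeal := by
  have hopen : IsOpen (Set.range (bridge f a b hab R)) :=
    (bridge f a b hab R).isOpenEmbedding.isOpen_range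
  have hw1 : w ∈ Set.range (bridge f a b hab R) := by rw [range_bridge]; exact hwb
  have hw2 : w' ∈ Set.range (bridge f a b hab R) := hw.mem_open hopen hw1
  obtain ⟨q, rfl⟩ := hw1
  obtain ⟨q', rfl⟩ := hw2
  have hq : q' ⤳ q := (bridge f a b hab R).isOpenEmbedding.isEmbedding.specializes_iff.1 hw
  refine ⟨q'.asIdeal, q.asIdeal, q'.isPrime, q.isPrime,
    (PrimeSpectrum.le_iff_specializes q' q).2 hq, ?_, ?_⟩
  · rw [← Scheme.Hom.comp_apply, bridge_fst]; rfl
  · rw [← Scheme.Hom.comp_apply, bridge_fst]; rfl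

include b hab in
/-- from primes of the tensor product to points of the fibre product -/
theorem exists_specializes_of_liftsPair {p' p : Ideal R} (h : LiftsPair (incl A B R) p' p) :
    ∃ w' w : ↑(pullback (kR a R) f), w' ⤳ w ∧ (pullback.fst (kR a R) f w').asIdeal = p' ∧
      (pullback.fst (kR a R) f w).asIdeal = p := by
  obtain ⟨q', q, hq', hq, hle, h1, h2⟩ := h
  let Q' : Spec (.of (R ⊗[A] B)) := (⟨q', hq'⟩ : PrimeSpectrum (R ⊗[A] B))
  let Q : Spec (.of (R ⊗[A] B)) := (⟨q, hq⟩ : PrimeSpectrum (R ⊗[A] B))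
  have hQ : Q' ⤳ Q := (PrimeSpectrum.le_iff_specializes (⟨q', hq'⟩ : PrimeSpectrum (R ⊗[A] B))
    ⟨q, hq⟩).1 hle
  refine ⟨bridge f a b hab R Q', bridge f a b hab R Q, hQ.map (bridge f a b hab R).continuous, ?_, ?_⟩
  · rw [← Scheme.Hom.comp_apply, bridge_fst]; exact h1
  · rw [← Scheme.Hom.comp_apply, bridge_fst]; exact h2

end Bridge

end Groth.Agent.Lib.Helper1.PairLift
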