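import Mathlib
import Groth.Agent.Lib.Helper1.PairBridge
import Groth.Agent.Lib.Helper1.GenFin

/-!
# Affine pieces of fibres
-/

set_option autoImplicit false

universe u

namespace Groth.Agent.H1.GenFib

open AlgebraicGeometry CategoryTheory Limits TopologicalSpace

variable {X Y : Scheme.{u}}

/-- evaluation at a point of an affine open gives back the canonical map from the residue field -/
lemma SpecMap_evaluation_fromSpec {W : Y.Opens} (hW : IsAffineOpen W) (y : Y) (hy : y ∈ W) :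
    Spec.map (Y.evaluation W y hy) ≫ hW.fromSpec = Y.fromSpecResidueField y := by
  rw [Scheme.evaluation, Spec.map_comp, Category.assoc, Scheme.fromSpecResidueField,
    ← hW.fromSpecStalk_eq_fromSpecStalk hy, IsAffineOpen.fromSpecStalk]

lemma fiberι_apply_mem (f : X ⟶ Y) (y : Y) (x : f.fiber y) : f (f.fiberι y x) = y := by
  have h := congrArg (fun g : f.fiber y ⟶ Y => g x) (f.fiber_fac y)
  simp only [Scheme.Hom.comp_apply] at h
  rw [Scheme.fromSpecResidueField_apply] at h
  exact h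

/-- The affine piece of the fibre over `y ∈ W` cut out by an affine open `U ⊆ f⁻¹ W`. -/
theorem exists_fiberPiece (f : X ⟶ Y) {U : X.Opens} {W : Y.Opens} (hU : IsAffineOpen U)
    (hW : IsAffineOpen W) (e : U ≤ f ⁻¹ᵁ W) (y : Y) (hy : y ∈ W)
    {P : CommRingCat.{u}} (inl : Γ(X, U) ⟶ P) (inr : Y.residueField y ⟶ P)
    (sq : IsPushout (f.appLE W U e) (Y.evaluation W y hy) inl inr) :
    ∃ j : Spec P ⟶ f.fiber y, IsOpenImmersion j ∧
      j ≫ f.fiberι y = Spec.map inl ≫ hU.fromSpec ∧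
      j ≫ f.fiberToSpecResidueField y = Spec.map inr ∧
      Set.range j = (f.fiberι y) ⁻¹' (U : Set X) := by
  have hcomm : (Spec.map inl ≫ hU.fromSpec) ≫ f = Spec.map inr ≫ Y.fromSpecResidueField y := by
    rw [Category.assoc, ← IsAffineOpen.SpecMap_appLE_fromSpec f hW hU e, ← Category.assoc,
      ← Spec.map_comp, sq.w, Spec.map_comp, Category.assoc, SpecMap_evaluation_fromSpec]
  let j : Spec P ⟶ f.fiber y := pullback.lift (Spec.map inl ≫ hU.fromSpec) (Spec.map inr) hcomm
  have hj1 : j ≫ f.fiberι y = Spec.map inl ≫ hU.fromSpec := pullback.lift_fst _ _ _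
  have hj2 : j ≫ f.fiberToSpecResidueField y = Spec.map inr := pullback.lift_snd _ _ _
  have hpb : IsPullback j (Spec.map inl) (f.fiberι y) hU.fromSpec := by
    refine IsPullback.of_right (h₁₂ := f.fiberToSpecResidueField y) (h₂₂ := f)
      (v₁₃ := Y.fromSpecResidueField y) ?_ hj1 (IsPullback.of_hasPullback f _).flip
    rw [hj2, ← IsAffineOpen.SpecMap_appLE_fromSpec f hW hU e, ← SpecMap_evaluation_fromSpec hW y hy]
    exact Groth.Agent.Lib.Helper1.PairLift.isPullback_comp_mono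
      (isPullback_SpecMap_of_isPushout _ _ _ _ sq).flip hW.fromSpec
  have hoi : IsOpenImmersion j := MorphismProperty.of_isPullback hpb.flip inferInstance
  refine ⟨j, hoi, hj1, hj2, ?_⟩
  have := Scheme.image_preimage_eq_of_isPullback hpb.flip Set.univ
  rw [Set.preimage_univ, Set.image_univ, Set.image_univ, hU.range_fromSpec] at this
  exact this


open TensorProduct in
/-- the tensor product piece, with its open immersion into the fibre -/
theorem exists_fiberPiece_tensor (f : X ⟶ Y) {U : X.Opens} {W : Y.Opens} (hU : IsAffineOpen U)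
    (hW : IsAffineOpen W) (e : U ≤ f ⁻¹ᵁ W) (y : Y) (hy : y ∈ W) :
    letI := (f.appLE W U e).hom.toAlgebra
    letI := (Y.evaluation W y hy).hom.toAlgebra
    ∃ j : Spec (CommRingCat.of (Y.residueField y ⊗[Γ(Y, W)] Γ(X, U))) ⟶ f.fiber y,
      IsOpenImmersion j ∧ Set.range j = (f.fiberι y) ⁻¹' (U : Set X) := by
  letI := (f.appLE W U e).hom.toAlgebra
  letI := (Y.evaluation W y hy).hom.toAlgebra
  have sq := (CommRingCat.isPushout_tensorProduct Γ(Y, W) (Y.residueField y) Γ(X, U)).flip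
  obtain ⟨j, h1, -, -, h4⟩ := exists_fiberPiece f hU hW e y hy _ _ sq
  exact ⟨j, h1, h4⟩

open TensorProduct in
/-- pieces of a reduced fibre are reduced -/
theorem isReduced_tensor_of_isReduced_fiber (f : X ⟶ Y) {U : X.Opens} {W : Y.Opens}
    (hU : IsAffineOpen U) (hW : IsAffineOpen W) (e : U ≤ f ⁻¹ᵁ W) (y : Y) (hy : y ∈ W)
    [IsReduced (f.fiber y)] :
    letI := (f.appLE W U e).hom.toAlgebra
    letI := (Y.evaluation W y hy).hom.toAlgebra
    _root_.IsReduced (Y.residueField y ⊗[Γ(Y, W)] Γ(X, U)) := by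
  letI := (f.appLE W U e).hom.toAlgebra
  letI := (Y.evaluation W y hy).hom.toAlgebra
  obtain ⟨j, hj, -⟩ := exists_fiberPiece_tensor f hU hW e y hy
  have := isReduced_of_isOpenImmersion j
  exact (affine_isReduced_iff _).mp this

open TensorProduct in
/-- a fibre all of whose affine pieces are reduced is reduced -/
theorem isReduced_fiber_of_forall (f : X ⟶ Y) {W : Y.Opens} (hW : IsAffineOpen W) (y : Y)
    (hy : y ∈ W)
    (H : ∀ (U : X.Opens) (_ : IsAffineOpen U) (e : U ≤ f ⁻¹ᵁ W),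
      letI := (f.appLE W U e).hom.toAlgebra
      letI := (Y.evaluation W y hy).hom.toAlgebra
      _root_.IsReduced (Y.residueField y ⊗[Γ(Y, W)] Γ(X, U))) :
    IsReduced (f.fiber y) := by
  apply +allowSynthFailures isReduced_of_isReduced_stalk
  intro x
  have hx : f.fiberι y x ∈ f ⁻¹ᵁ W := by
    change f (f.fiberι y x) ∈ W
    rw [fiberι_apply_mem]; exact hy
  obtain ⟨U, hU, hxU, hUW⟩ := exists_isAffineOpen_mem_and_subset (U := f ⁻¹ᵁ W) hx
  letI := (f.appLE W U hUW).hom.toAlgebra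
  letI := (Y.evaluation W y hy).hom.toAlgebra
  obtain ⟨j, hj, hrange⟩ := exists_fiberPiece_tensor f hU hW hUW y hy
  have hxr : x ∈ Set.range j := by rw [hrange]; exact hxU
  obtain ⟨p, rfl⟩ := hxr
  haveI := H U hU hUW
  exact isReduced_of_injective (j.stalkMap p).hom
    ((ConcreteCategory.bijective_of_isIso (j.stalkMap p)).1)

/-- at the generic point of an irreducible scheme, sections vanishing there are nilpotent -/
lemma isNilpotent_of_evaluation_genericPoint [IrreducibleSpace Y] {W : Y.Opens}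
    (hW : IsAffineOpen W) (hη : genericPoint Y ∈ W) (r : Γ(Y, W))
    (hr : Y.evaluation W (genericPoint Y) hη r = 0) : IsNilpotent r := by
  rw [Scheme.isNilpotent_iff_basicOpen_eq_bot_of_isCompact hW.isCompact]
  rw [Scheme.evaluation_eq_zero_iff_notMem_basicOpen] at hr
  by_contra hne
  apply hr
  have hne' : ((Y.basicOpen r : Y.Opens) : Set Y).Nonempty := by
    by_contra hemp
    apply hne
    ext z
    simp only [Opens.coe_bot, Set.mem_empty_iff_false, iff_false]
    intro hz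
    exact hemp ⟨z, hz⟩
  exact ((genericPoint_spec Y).mem_open_set_iff (Y.basicOpen r).isOpen).mpr (by simpa using hne')

/-- an affine open neighbourhood of the generic point -/
lemma exists_isAffineOpen_genericPoint_mem (Y : Scheme.{u}) [IrreducibleSpace Y] :
    ∃ W : Y.Opens, IsAffineOpen W ∧ genericPoint Y ∈ W := by
  obtain ⟨W, hW, hmem, -⟩ := exists_isAffineOpen_mem_and_subset (U := ⊤)
    (x := genericPoint Y) trivial
  exact ⟨W, hW, hmem⟩


/-! ## General field-valued points -/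

/-- The affine piece of a base change `Z = X ×_Y Spec L` along a point `Spec L → W ⊆ Y`. -/
theorem exists_piece (f : X ⟶ Y) {U : X.Opens} {W : Y.Opens} (hU : IsAffineOpen U)
    (hW : IsAffineOpen W) (e : U ≤ f ⁻¹ᵁ W) {L : CommRingCat.{u}} (χ : Γ(Y, W) ⟶ L)
    {Z : Scheme.{u}} (fst : Z ⟶ X) (snd : Z ⟶ Spec L)
    (hZ : IsPullback fst snd f (Spec.map χ ≫ hW.fromSpec))
    {P : CommRingCat.{u}} (inl : Γ(X, U) ⟶ P) (inr : L ⟶ P)
    (sq : IsPushout (f.appLE W U e) χ inl inr) :
    ∃ j : Spec P ⟶ Z, IsOpenImmersion j ∧ j ≫ fst = Spec.map inl ≫ hU.fromSpec ∧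
      j ≫ snd = Spec.map inr ∧ Set.range j = fst ⁻¹' (U : Set X) := by
  have hcomm : (Spec.map inl ≫ hU.fromSpec) ≫ f = Spec.map inr ≫ Spec.map χ ≫ hW.fromSpec := by
    rw [Category.assoc, ← IsAffineOpen.SpecMap_appLE_fromSpec f hW hU e, ← Category.assoc,
      ← Spec.map_comp, sq.w, Spec.map_comp, Category.assoc]
  let j : Spec P ⟶ Z := hZ.lift (Spec.map inl ≫ hU.fromSpec) (Spec.map inr) hcomm
  have hj1 : j ≫ fst = Spec.map inl ≫ hU.fromSpec := hZ.lift_fst _ _ _
  have hj2 : j ≫ snd = Spec.map inr := hZ.lift_snd _ _ _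
  have hpb : IsPullback j (Spec.map inl) fst hU.fromSpec := by
    refine IsPullback.of_right (h₁₂ := snd) (h₂₂ := f)
      (v₁₃ := Spec.map χ ≫ hW.fromSpec) ?_ hj1 hZ.flip
    rw [hj2, ← IsAffineOpen.SpecMap_appLE_fromSpec f hW hU e]
    exact Groth.Agent.Lib.Helper1.PairLift.isPullback_comp_mono
      (isPullback_SpecMap_of_isPushout _ _ _ _ sq).flip hW.fromSpec
  have hoi : IsOpenImmersion j := MorphismProperty.of_isPullback hpb.flip inferInstance
  refine ⟨j, hoi, hj1, hj2, ?_⟩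
  have := Scheme.image_preimage_eq_of_isPullback hpb.flip Set.univ
  rw [Set.preimage_univ, Set.image_univ, Set.image_univ, hU.range_fromSpec] at this
  exact this

section TypeLevel

open TensorProduct

theorem exists_piece_tensor (f : X ⟶ Y) {U : X.Opens} {W : Y.Opens} (hU : IsAffineOpen U)
    (hW : IsAffineOpen W) (e : U ≤ f ⁻¹ᵁ W) {L : Type u} [CommRing L] [Algebra Γ(Y, W) L]
    {Z : Scheme.{u}} (fst : Z ⟶ X) (snd : Z ⟶ Spec (CommRingCat.of L))
    (hZ : IsPullback fst snd f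
      (Spec.map (CommRingCat.ofHom (algebraMap Γ(Y, W) L)) ≫ hW.fromSpec)) :
    letI := (f.appLE W U e).hom.toAlgebra
    ∃ j : Spec (CommRingCat.of (L ⊗[Γ(Y, W)] Γ(X, U))) ⟶ Z,
      IsOpenImmersion j ∧ Set.range j = fst ⁻¹' (U : Set X) := by
  letI := (f.appLE W U e).hom.toAlgebra
  have sq := (CommRingCat.isPushout_tensorProduct Γ(Y, W) L Γ(X, U)).flip
  obtain ⟨j, h1, -, -, h4⟩ := exists_piece f hU hW e _ fst snd hZ _ _ sq
  exact ⟨j, h1, h4⟩

theorem isReduced_tensor_of_isReduced (f : X ⟶ Y) {U : X.Opens} {W : Y.Opens}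
    (hU : IsAffineOpen U) (hW : IsAffineOpen W) (e : U ≤ f ⁻¹ᵁ W) {L : Type u} [CommRing L]
    [Algebra Γ(Y, W) L] {Z : Scheme.{u}} (fst : Z ⟶ X) (snd : Z ⟶ Spec (CommRingCat.of L))
    (hZ : IsPullback fst snd f
      (Spec.map (CommRingCat.ofHom (algebraMap Γ(Y, W) L)) ≫ hW.fromSpec)) [IsReduced Z] :
    letI := (f.appLE W U e).hom.toAlgebra
    _root_.IsReduced (L ⊗[Γ(Y, W)] Γ(X, U)) := by
  letI := (f.appLE W U e).hom.toAlgebra
  obtain ⟨j, hj, -⟩ := exists_piece_tensor f hU hW e fst snd hZ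
  have := isReduced_of_isOpenImmersion j
  exact (affine_isReduced_iff _).mp this

theorem fst_mem_preimage (f : X ⟶ Y) {W : Y.Opens} (hW : IsAffineOpen W) {L : Type u}
    [CommRing L] [Algebra Γ(Y, W) L] {Z : Scheme.{u}} (fst : Z ⟶ X)
    (snd : Z ⟶ Spec (CommRingCat.of L))
    (hZ : IsPullback fst snd f
      (Spec.map (CommRingCat.ofHom (algebraMap Γ(Y, W) L)) ≫ hW.fromSpec)) (z : Z) :
    fst z ∈ f ⁻¹ᵁ W := by
  change f (fst z) ∈ W
  have h := congrArg (fun g : Z ⟶ Y => g z) hZ.w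
  simp only [Scheme.Hom.comp_apply] at h
  rw [h]
  have : hW.fromSpec ((Spec.map (CommRingCat.ofHom (algebraMap Γ(Y, W) L))) (snd z)) ∈
      Set.range hW.fromSpec := ⟨_, rfl⟩
  rwa [hW.range_fromSpec] at this

theorem isReduced_of_forall (f : X ⟶ Y) {W : Y.Opens} (hW : IsAffineOpen W) {L : Type u}
    [CommRing L] [Algebra Γ(Y, W) L] {Z : Scheme.{u}} (fst : Z ⟶ X)
    (snd : Z ⟶ Spec (CommRingCat.of L))
    (hZ : IsPullback fst snd f
      (Spec.map (CommRingCat.ofHom (algebraMap Γ(Y, W) L)) ≫ hW.fromSpec))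
    (H : ∀ (U : X.Opens) (_ : IsAffineOpen U) (e : U ≤ f ⁻¹ᵁ W),
      letI := (f.appLE W U e).hom.toAlgebra
      _root_.IsReduced (L ⊗[Γ(Y, W)] Γ(X, U))) :
    IsReduced Z := by
  apply +allowSynthFailures isReduced_of_isReduced_stalk
  intro x
  have hx : fst x ∈ f ⁻¹ᵁ W := fst_mem_preimage f hW fst snd hZ x
  obtain ⟨U, hU, hxU, hUW⟩ := exists_isAffineOpen_mem_and_subset (U := f ⁻¹ᵁ W) hx
  letI := (f.appLE W U hUW).hom.toAlgebra
  obtain ⟨j, hj, hrange⟩ := exists_piece_tensor f hU hW hUW fst snd hZ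
  have hxr : x ∈ Set.range j := by rw [hrange]; exact hxU
  obtain ⟨p, rfl⟩ := hxr
  haveI := H U hU hUW
  exact isReduced_of_injective (j.stalkMap p).hom
    ((ConcreteCategory.bijective_of_isIso (j.stalkMap p)).1)

end TypeLevel

/-- base change of a fibre along a field extension of the residue field, as a base change of `f` -/
theorem isPullback_fiber_paste (f : X ⟶ Y) (y : Y) {T Z : Scheme.{u}}
    (t : T ⟶ Spec (Y.residueField y)) (fst : Z ⟶ f.fiber y) (snd : Z ⟶ T)
    (hZ : IsPullback fst snd (f.fiberToSpecResidueField y) t) :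
    IsPullback (fst ≫ f.fiberι y) snd f (t ≫ Y.fromSpecResidueField y) :=
  hZ.paste_horiz (IsPullback.of_hasPullback f (Y.fromSpecResidueField y))

end Groth.Agent.H1.GenFib
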