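import Groth.Agent.Lib.Helper1.GenFreeLoc

/-!
# Generic freeness: ring hom form, finite families
-/

set_option autoImplicit false

universe u

namespace Groth.Agent.H1.GenFree

open MvPolynomial

section

variable {R S M : Type u} [CommRing R] [CommRing S] [Algebra R S] [AddCommGroup M]
    [Module S M] [Module R M]

theorem Good.mul_right {F : R} (h : Good R S M F) (t : R) : Good R S M (F * t) := by
  obtain ⟨h1, h2, h3, n, φ, G, hφ, hG, hG'⟩ := h
  refine ⟨h1.mul_right t, h2.mul_right t, ?_, n, φ, G, hφ, hG, ?_⟩
  · rw [map_mul]; exact h3.mul_right _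
  · intro p hp
    obtain ⟨j, hj⟩ := hG' p hp
    refine ⟨j, ?_⟩
    rw [mul_pow, mul_comm, mul_smul, smul_eq_C_mul (a := t ^ j)]
    exact Ideal.mul_mem_left _ _ hj

end

/-- Ring hom form: the localized map is flat and of finite presentation. -/
theorem Good.flat_and_finitePresentation {R A : Type u} [CommRing R] [CommRing A] [Algebra R A]
    {F : R} (h : Good R A A F) (R' A' : Type u) [CommRing R'] [CommRing A'] [Algebra R R']
    [Algebra A A'] [IsLocalization.Away F R'] [IsLocalization.Away (algebraMap R A F) A']
    (ρ : R' →+* A') (hρ : ρ.comp (algebraMap R R') = (algebraMap A A').comp (algebraMap R A)) :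
    ρ.Flat ∧ ρ.FinitePresentation := by
  constructor
  · letI : Algebra R' A' := ρ.toAlgebra
    letI : Algebra R A' := ((algebraMap A A').comp (algebraMap R A)).toAlgebra
    haveI : IsScalarTower R A A' := IsScalarTower.of_algebraMap_eq (fun _ => rfl)
    haveI : IsScalarTower R R' A' := IsScalarTower.of_algebraMap_eq (fun x => by
      have := congrArg (fun g => g x) hρ
      simp only [RingHom.comp_apply] at this
      exact this.symm)
    have hloc : IsLocalizedModule (Submonoid.powers F)
        (IsScalarTower.toAlgHom R A A').toLinearMap := by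
      rw [isLocalizedModule_iff_isLocalization, Algebra.algebraMapSubmonoid_powers]
      infer_instance
    have : Module.Free R' A' := h.freeS.free R' (IsScalarTower.toAlgHom R A A').toLinearMap
    change Module.Flat R' A'
    infer_instance
  · obtain ⟨n, φ, G, hφ, hG, hG'⟩ := h.fpS
    exact finitePresentation_of_ffg φ hφ F G hG hG' R' A' ρ hρ

/-- Generic freeness for a finite family of finite type algebras over a reduced ring. -/
theorem exists_good_family {R : Type u} [CommRing R] [IsReduced R] {ι : Type*} (s : Finset ι)
    (A : ι → Type u) [∀ i, CommRing (A i)] [∀ i, Algebra R (A i)]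
    (hA : ∀ i ∈ s, Algebra.FiniteType R (A i)) (g : R) (hg : g ≠ 0) :
    ∃ f : R, g * f ≠ 0 ∧ ∀ i ∈ s, Good R (A i) (A i) (g * f) := by
  classical
  induction s using Finset.induction_on generalizing g with
  | empty => exact ⟨1, by simpa using hg, by simp⟩
  | insert a s ha ih =>
    haveI := hA a (Finset.mem_insert_self a s)
    obtain ⟨f₁, hf₁, h₁⟩ := exists_good (R := R) (S := A a) (M := A a) g hg
    obtain ⟨f₂, hf₂, h₂⟩ := ih (fun i hi => hA i (Finset.mem_insert_of_mem hi)) (g * f₁) hf₁
    refine ⟨f₁ * f₂, by rwa [← mul_assoc], ?_⟩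
    intro i hi
    rw [← mul_assoc]
    rw [Finset.mem_insert] at hi
    rcases hi with rfl | hi
    · exact h₁.mul_right f₂
    · exact h₂ i hi

end Groth.Agent.H1.GenFree
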