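import Mathlib
import Groth.Agent.Lib.Helper1.GenFreeRingHom

/-!
# Spreading out non-reducedness of the generic fibre (algebra)
-/

set_option autoImplicit false

universe u

namespace Groth.Agent.H1.GenFib

open TensorProduct

/-- In a base change of a free module, nonvanishing of `1 ⊗ m` can be tested on a coordinate. -/
lemma one_tmul_ne_zero_of_repr {R' L N : Type*} [CommRing R'] [Field L] [Algebra R' L]
    [AddCommGroup N] [Module R' N] {ι : Type*} (b : Module.Basis ι R' N) (m : N) (i : ι)
    (h : algebraMap R' L (b.repr m i) ≠ 0) : (1 : L) ⊗ₜ[R'] m ≠ 0 := by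
  intro h0
  apply h
  have := congrArg (fun z => (b.baseChange L).repr z i) h0
  simpa [Module.Basis.baseChange_repr_tmul, Algebra.smul_def] using this

/-- `1 ⊗ a` vanishes in a localization `K ⊗ A` iff `a` is torsion. -/
lemma one_tmul_eq_zero_iff {R A K : Type*} [CommRing R] [CommRing A] [Algebra R A] [CommRing K]
    [Algebra R K] (S : Submonoid R) [IsLocalization S K] (a : A) :
    (1 : K) ⊗ₜ[R] a = 0 ↔ ∃ c : S, c • a = 0 := by
  have hloc : IsLocalizedModule S (TensorProduct.mk R K A 1) :=
    (isLocalizedModule_iff_isBaseChange S K _).mpr (TensorProduct.isBaseChange R A K)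
  exact IsLocalizedModule.eq_zero_iff S (TensorProduct.mk R K A 1)

lemma exists_smul_eq_one_tmul {R A K : Type*} [CommRing R] [CommRing A] [Algebra R A]
    [CommRing K] [Algebra R K] (S : Submonoid R) [IsLocalization S K] (z : K ⊗[R] A) :
    ∃ (a : A) (s : S), s • z = (1 : K) ⊗ₜ[R] a := by
  have hloc : IsLocalizedModule S (TensorProduct.mk R K A 1) :=
    (isLocalizedModule_iff_isBaseChange S K _).mpr (TensorProduct.isBaseChange R A K)
  obtain ⟨⟨a, s⟩, hs⟩ := IsLocalizedModule.surj S (TensorProduct.mk R K A 1) z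
  exact ⟨a, s, hs⟩

/-- Non-reducedness of the generic fibre spreads out: domain case. -/
theorem exists_forall_not_isReduced_of_isDomain (R A K : Type u) [CommRing R] [IsDomain R]
    [CommRing A] [Algebra R A] [Algebra.FiniteType R A] [Field K] [Algebra R K]
    [IsFractionRing R K] (h : ¬ IsReduced (K ⊗[R] A)) :
    ∃ g : R, g ≠ 0 ∧ ∀ (L : Type u) [Field L] [Algebra R L], algebraMap R L g ≠ 0 →
      ¬ IsReduced (L ⊗[R] A) := by
  classical
  rw [isReduced_iff] at h
  push Not at h
  obtain ⟨z, hznil, hz0⟩ := h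
  obtain ⟨a, s, hs⟩ := exists_smul_eq_one_tmul (nonZeroDivisors R) z
  obtain ⟨n, hn⟩ := hznil
  -- `1 ⊗ a` is nilpotent and nonzero
  have ha0 : (1 : K) ⊗ₜ[R] a ≠ 0 := by
    rw [← hs]
    intro h0
    apply hz0
    have h1 : (algebraMap R K (s : R)) • z = 0 := by
      rw [algebraMap_smul]; exact h0
    rcases smul_eq_zero.mp h1 with h2 | h2
    · exact absurd h2 (IsFractionRing.to_map_ne_zero_of_mem_nonZeroDivisors s.2)
    · exact h2
  have han : (1 : K) ⊗ₜ[R] (a ^ n) = 0 := by
    have : ((1 : K) ⊗ₜ[R] a) ^ n = 0 := by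
      rw [← hs, Submonoid.smul_def, smul_pow, hn, smul_zero]
    rwa [Algebra.TensorProduct.tmul_pow, one_pow] at this
  obtain ⟨r, hr⟩ := (one_tmul_eq_zero_iff (nonZeroDivisors R) (a ^ n)).mp han
  have hr0 : (r : R) ≠ 0 := nonZeroDivisors.ne_zero r.2
  -- generic freeness
  obtain ⟨f, hF, hgood⟩ := GenFree.exists_good (R := R) (S := A) (M := A) (r : R) hr0
  set F : R := (r : R) * f with hFdef
  have hfree : Module.Free (Localization.Away F) (Localization.Away F ⊗[R] A) :=
    hgood.free_tensor_self
  let b := Module.Free.chooseBasis (Localization.Away F) (Localization.Away F ⊗[R] A)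
  have ha' : (1 : Localization.Away F) ⊗ₜ[R] a ≠ 0 := by
    intro h0
    obtain ⟨c, hc⟩ := (one_tmul_eq_zero_iff (Submonoid.powers F) a).mp h0
    obtain ⟨k, hk⟩ := c.2
    apply ha0
    rw [one_tmul_eq_zero_iff (nonZeroDivisors R)]
    refine ⟨⟨F ^ k, mem_nonZeroDivisors_of_ne_zero (pow_ne_zero k hF)⟩, ?_⟩
    rw [Submonoid.smul_def] at hc ⊢
    simpa [← hk] using hc
  obtain ⟨i₀, hi₀⟩ : ∃ i, b.repr ((1 : Localization.Away F) ⊗ₜ[R] a) i ≠ 0 := by
    by_contra hcon
    push Not at hcon
    apply ha'
    apply b.repr.injective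
    ext i
    simpa using hcon i
  obtain ⟨⟨r₀, t⟩, ht⟩ := IsLocalization.surj (Submonoid.powers F)
    (b.repr ((1 : Localization.Away F) ⊗ₜ[R] a) i₀)
  have hr₀ : r₀ ≠ 0 := by
    rintro rfl
    apply hi₀
    rw [map_zero] at ht
    exact (IsLocalization.map_units (Localization.Away F) t).mul_left_eq_zero.mp ht
  refine ⟨F * r₀, mul_ne_zero hF hr₀, ?_⟩
  intro L _ _ hL hred
  have hLF : algebraMap R L F ≠ 0 := fun h => hL (by rw [map_mul, h, zero_mul])
  have hLr₀ : algebraMap R L r₀ ≠ 0 := fun h => hL (by rw [map_mul, h, mul_zero])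
  have hLr : algebraMap R L (r : R) ≠ 0 := fun h => hLF (by rw [hFdef, map_mul, h, zero_mul])
  letI : Algebra (Localization.Away F) L :=
    (IsLocalization.Away.lift (S := Localization.Away F) F (g := algebraMap R L)
      (IsUnit.mk0 _ hLF)).toAlgebra
  haveI : IsScalarTower R (Localization.Away F) L := IsScalarTower.of_algebraMap_eq (fun x =>
    (IsLocalization.Away.lift_eq (S := Localization.Away F) F (g := algebraMap R L)
      (IsUnit.mk0 _ hLF) x).symm)
  -- the witness
  have hw0 : (1 : L) ⊗ₜ[R] a ≠ 0 := by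
    have h1 : (1 : L) ⊗ₜ[Localization.Away F] ((1 : Localization.Away F) ⊗ₜ[R] a) ≠ 0 := by
      apply one_tmul_ne_zero_of_repr b _ i₀
      intro h0
      have h2 := congrArg (algebraMap (Localization.Away F) L) ht
      rw [map_mul, h0, zero_mul, ← IsScalarTower.algebraMap_apply] at h2
      exact hLr₀ h2.symm
    intro h0
    apply h1
    have h3 := Algebra.TensorProduct.cancelBaseChange_tmul R (Localization.Away F) L L A (1 : L)
      (1 : Localization.Away F) a
    rw [one_smul, h0] at h3
    exact (Algebra.TensorProduct.cancelBaseChange R (Localization.Away F) L L A).injective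
      (by rw [h3, map_zero])
  have hwn : ((1 : L) ⊗ₜ[R] a) ^ n = 0 := by
    rw [Algebra.TensorProduct.tmul_pow, one_pow]
    have h1 : (algebraMap R L (r : R)) • ((1 : L) ⊗ₜ[R] (a ^ n)) = 0 := by
      rw [algebraMap_smul, TensorProduct.smul_tmul', TensorProduct.smul_tmul]
      have : (r : R) • a ^ n = 0 := hr
      rw [this, TensorProduct.tmul_zero]
    rcases smul_eq_zero.mp h1 with h2 | h2
    · exact absurd h2 hLr
    · exact h2
  exact hw0 (IsReduced.eq_zero _ ⟨n, hwn⟩)


/-- a field generated as a field by the image of `R`, with kernel `I`, is the fraction field of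
`R ⧸ ker`. -/
lemma isFractionRing_quotient_ker (R K : Type*) [CommRing R] [Field K] [Algebra R K]
    (hfrac : ∀ z : K, ∃ a b : R, algebraMap R K b ≠ 0 ∧ z * algebraMap R K b = algebraMap R K a) :
    letI : Algebra (R ⧸ RingHom.ker (algebraMap R K)) K :=
      (RingHom.kerLift (algebraMap R K)).toAlgebra
    IsFractionRing (R ⧸ RingHom.ker (algebraMap R K)) K := by
  letI : Algebra (R ⧸ RingHom.ker (algebraMap R K)) K :=
    (RingHom.kerLift (algebraMap R K)).toAlgebra
  have hinj : Function.Injective (algebraMap (R ⧸ RingHom.ker (algebraMap R K)) K) :=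
    RingHom.kerLift_injective _
  have hmk : ∀ r : R, algebraMap (R ⧸ RingHom.ker (algebraMap R K)) K
      (Ideal.Quotient.mk _ r) = algebraMap R K r := fun r => rfl
  haveI : (RingHom.ker (algebraMap R K)).IsPrime := RingHom.ker_isPrime _
  exact
  { map_units := by
      rintro ⟨b, hb⟩
      have : b ≠ 0 := nonZeroDivisors.ne_zero hb
      exact IsUnit.mk0 _ (fun h => this (hinj (by rw [h, map_zero])))
    surj := by
      intro z
      obtain ⟨a, b, hb, hab⟩ := hfrac z
      refine ⟨⟨Ideal.Quotient.mk _ a, ⟨Ideal.Quotient.mk _ b, ?_⟩⟩, ?_⟩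
      · apply mem_nonZeroDivisors_of_ne_zero
        intro h
        apply hb
        rw [← hmk, h, map_zero]
      · simpa [hmk] using hab
    exists_of_eq := by
      intro a b hab
      exact ⟨1, by rw [hinj hab]⟩ }

/-- Non-reducedness of the generic fibre spreads out: general case (the base has a generic point,
the kernel of `R → K` consisting of nilpotents, and `K` is its residue field). -/
theorem exists_forall_not_isReduced (R A K : Type u) [CommRing R] [CommRing A] [Algebra R A]
    [Algebra.FiniteType R A] [Field K] [Algebra R K]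
    (hfrac : ∀ z : K, ∃ a b : R, algebraMap R K b ≠ 0 ∧ z * algebraMap R K b = algebraMap R K a)
    (hker : ∀ r : R, algebraMap R K r = 0 → IsNilpotent r)
    (h : ¬ IsReduced (K ⊗[R] A)) :
    ∃ g : R, algebraMap R K g ≠ 0 ∧ ∀ (L : Type u) [Field L] [Algebra R L],
      algebraMap R L g ≠ 0 → ¬ IsReduced (L ⊗[R] A) := by
  set I := RingHom.ker (algebraMap R K) with hI
  haveI : I.IsPrime := RingHom.ker_isPrime _
  letI : Algebra (R ⧸ I) K := (RingHom.kerLift (algebraMap R K)).toAlgebra
  haveI : IsScalarTower R (R ⧸ I) K := IsScalarTower.of_algebraMap_eq (fun x => rfl)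
  haveI : IsFractionRing (R ⧸ I) K := isFractionRing_quotient_ker R K hfrac
  have hinj : Function.Injective (algebraMap (R ⧸ I) K) := RingHom.kerLift_injective _
  have h' : ¬ IsReduced (K ⊗[R ⧸ I] ((R ⧸ I) ⊗[R] A)) := by
    intro hred
    apply h
    exact isReduced_of_injective
      (Algebra.TensorProduct.cancelBaseChange R (R ⧸ I) K K A).symm.toRingEquiv.toRingHom
      (Algebra.TensorProduct.cancelBaseChange R (R ⧸ I) K K A).symm.injective
  obtain ⟨g', hg', H⟩ := exists_forall_not_isReduced_of_isDomain (R ⧸ I) ((R ⧸ I) ⊗[R] A) K h'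
  obtain ⟨g, rfl⟩ := Ideal.Quotient.mk_surjective g'
  refine ⟨g, fun h0 => hg' (hinj (by rw [map_zero]; exact h0)), ?_⟩
  intro L _ _ hL hred
  have hIL : ∀ r ∈ I, algebraMap R L r = 0 := by
    intro r hr
    have hnil : IsNilpotent r := hker r hr
    exact (hnil.map (algebraMap R L)).eq_zero
  letI : Algebra (R ⧸ I) L := (Ideal.Quotient.lift I (algebraMap R L) hIL).toAlgebra
  haveI : IsScalarTower R (R ⧸ I) L := IsScalarTower.of_algebraMap_eq (fun x => rfl)
  refine H L ?_ ?_
  · exact hL
  · exact isReduced_of_injective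
      (Algebra.TensorProduct.cancelBaseChange R (R ⧸ I) L L A).toRingEquiv.toRingHom
      (Algebra.TensorProduct.cancelBaseChange R (R ⧸ I) L L A).injective

end Groth.Agent.H1.GenFib
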