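import Mathlib

/-!
# Generic Noether normalization over a domain (helper1)

`Groth.Agent.H1.GNN.main`: for a domain `R` and an injective finite type `R → S` there are
`y : Fin d → S` algebraically independent over `R`, a nonzero `f : R` and a finite generating set
`X` of `S` such that `f • x` is integral over `R[y]` for all `x ∈ X`.
-/

set_option autoImplicit false
universe u

namespace Groth.Agent.H1.GNN

open TensorProduct MvPolynomial

section
variable {R S : Type u} [CommRing R] [IsDomain R] [CommRing S] [Algebra R S]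

/-- the canonical map `S → K ⊗ S`, `K = Frac R`. -/
noncomputable abbrev ι : S →ₐ[R] (FractionRing R) ⊗[R] S := Algebra.TensorProduct.includeRight

theorem isLocMod : IsLocalizedModule (nonZeroDivisors R)
    (TensorProduct.mk R (FractionRing R) S 1) :=
  (isLocalizedModule_iff_isBaseChange (nonZeroDivisors R) (FractionRing R) _).mpr
    (TensorProduct.isBaseChange R S (FractionRing R))

theorem ι_eq_zero_iff (s : S) : ι (R := R) s = 0 ↔ ∃ c : R, c ≠ 0 ∧ c • s = 0 := by
  haveI := isLocMod (R := R) (S := S)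
  have := IsLocalizedModule.eq_zero_iff (nonZeroDivisors R)
    (TensorProduct.mk R (FractionRing R) S 1) (m := s)
  change ι (R := R) s = 0 ↔ _ at this
  rw [this]
  constructor
  · rintro ⟨c, hc⟩
    exact ⟨c.1, nonZeroDivisors.ne_zero c.2, hc⟩
  · rintro ⟨c, hc0, hc⟩
    exact ⟨⟨c, mem_nonZeroDivisors_of_ne_zero hc0⟩, hc⟩

theorem exists_smul_eq_ι (t : (FractionRing R) ⊗[R] S) : ∃ (a : R) (s : S), a ≠ 0 ∧ a • t = ι (R := R) s := by
  haveI := isLocMod (R := R) (S := S)
  obtain ⟨⟨s, a⟩, h⟩ := IsLocalizedModule.surj (nonZeroDivisors R)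
    (TensorProduct.mk R (FractionRing R) S 1) t
  exact ⟨a.1, s, nonZeroDivisors.ne_zero a.2, h⟩

/-- scaling automorphism is bijective -/
theorem scale_bijective (K : Type u) [Field K] (d : ℕ) (a : K) (ha : a ≠ 0) :
    Function.Bijective (aeval (fun i : Fin d => C a * X i) :
      MvPolynomial (Fin d) K →ₐ[K] MvPolynomial (Fin d) K) := by
  have h1 : (aeval (fun i : Fin d => C a⁻¹ * X i) : MvPolynomial (Fin d) K →ₐ[K] MvPolynomial (Fin d) K).comp
      (aeval (fun i : Fin d => C a * X i)) = AlgHom.id K _ := by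
    apply MvPolynomial.algHom_ext
    intro i
    simp only [AlgHom.comp_apply, aeval_X, map_mul, AlgHom.id_apply]
    rw [aeval_C, ← mul_assoc]
    change C a * C a⁻¹ * X i = X i
    rw [← C_mul, mul_inv_cancel₀ ha, C_1, one_mul]
  have h2 : (aeval (fun i : Fin d => C a * X i) : MvPolynomial (Fin d) K →ₐ[K] MvPolynomial (Fin d) K).comp
      (aeval (fun i : Fin d => C a⁻¹ * X i)) = AlgHom.id K _ := by
    apply MvPolynomial.algHom_ext
    intro i
    simp only [AlgHom.comp_apply, aeval_X, map_mul, AlgHom.id_apply]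
    rw [aeval_C, ← mul_assoc]
    change C a⁻¹ * C a * X i = X i
    rw [← C_mul, inv_mul_cancel₀ ha, C_1, one_mul]
  constructor
  · intro x y hxy
    have := congrArg (aeval (fun i : Fin d => C a⁻¹ * X i) : MvPolynomial (Fin d) K →ₐ[K] MvPolynomial (Fin d) K) hxy
    rw [← AlgHom.comp_apply, ← AlgHom.comp_apply, h1] at this
    exact this
  · intro x
    refine ⟨aeval (fun i : Fin d => C a⁻¹ * X i) x, ?_⟩
    rw [← AlgHom.comp_apply, h2]; rfl

/-- Step 1: algebraically independent `y` in `S` with `K ⊗ S` integral over `K[y]`. -/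
theorem step1 [Algebra.FiniteType R S] (hinj : Function.Injective (algebraMap R S)) :
    ∃ (d : ℕ) (y : Fin d → S) (g : MvPolynomial (Fin d) (FractionRing R) →ₐ[FractionRing R] (FractionRing R) ⊗[R] S),
      Function.Injective g ∧ g.IsIntegral ∧ ∀ i, g (X i) = ι (R := R) (y i) := by
  classical
  haveI : Nontrivial ((FractionRing R) ⊗[R] S) :=
    (Algebra.TensorProduct.includeLeft_injective (S := R) (A := FractionRing R) (B := S) hinj).nontrivial
  obtain ⟨d, g, ginj, gint⟩ := exists_integral_inj_algHom_of_fg (FractionRing R) ((FractionRing R) ⊗[R] S)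
  choose a s ha hs using fun t => exists_smul_eq_ι (R := R) (S := S) t
  set A : R := ∏ i : Fin d, a (g (X i)) with hA
  have hA0 : A ≠ 0 := Finset.prod_ne_zero_iff.mpr (fun i _ => ha _)
  have hAK : algebraMap R (FractionRing R) A ≠ 0 := by
    rw [Ne, IsFractionRing.to_map_eq_zero_iff]; exact hA0
  let y : Fin d → S := fun i => (∏ j ∈ Finset.univ.erase i, a (g (X j))) • s (g (X i))
  let sc : MvPolynomial (Fin d) (FractionRing R) →ₐ[FractionRing R] MvPolynomial (Fin d) (FractionRing R) :=
    aeval (fun i : Fin d => C (algebraMap R (FractionRing R) A) * X i)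
  have hsc := scale_bijective (FractionRing R) d _ hAK
  refine ⟨d, y, g.comp sc, ?_, ?_, ?_⟩
  · rw [AlgHom.coe_comp]
    exact ginj.comp hsc.1
  · have h1 : sc.IsIntegral := RingHom.isIntegral_of_surjective _ hsc.2
    exact RingHom.IsIntegral.trans _ _ h1 gint
  · intro i
    rw [AlgHom.comp_apply]
    change g (aeval _ (X i)) = _
    rw [aeval_X, map_mul, ← algebraMap_eq, AlgHom.commutes, ← Algebra.smul_def, algebraMap_smul]
    change A • g (X i) = ι (R := R) ((∏ j ∈ Finset.univ.erase i, a (g (X j))) • s (g (X i)))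
    rw [map_smul, ← hs, ← mul_smul, hA, Finset.prod_erase_mul _ _ (Finset.mem_univ i)]

/-- compatibility of `aeval y` and `g`. -/
theorem ι_aeval {d : ℕ} (y : Fin d → S)
    (g : MvPolynomial (Fin d) (FractionRing R) →ₐ[FractionRing R] (FractionRing R) ⊗[R] S)
    (hg : ∀ i, g (X i) = ι (R := R) (y i)) (p : MvPolynomial (Fin d) R) :
    ι (R := R) (aeval y p) = g (MvPolynomial.map (algebraMap R (FractionRing R)) p) := by
  induction p using MvPolynomial.induction_on with
  | C r =>
    rw [aeval_C, MvPolynomial.map_C, AlgHom.commutes, ← algebraMap_eq, AlgHom.commutes,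
      ← IsScalarTower.algebraMap_apply]
  | add p q hp hq => rw [map_add, map_add, hp, hq, map_add, map_add]
  | mul_X p i hp => rw [map_mul, map_mul, hp, aeval_X, map_mul, map_mul, MvPolynomial.map_X, hg]

theorem algebraicIndependent_of {d : ℕ} (y : Fin d → S)
    (g : MvPolynomial (Fin d) (FractionRing R) →ₐ[FractionRing R] (FractionRing R) ⊗[R] S)
    (ginj : Function.Injective g) (hg : ∀ i, g (X i) = ι (R := R) (y i)) :
    AlgebraicIndependent R y := by
  rw [algebraicIndependent_iff_injective_aeval]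
  intro p q hpq
  have := congrArg (ι (R := R)) hpq
  rw [ι_aeval y g hg, ι_aeval y g hg] at this
  exact MvPolynomial.map_injective _ (IsFractionRing.injective R (FractionRing R)) (ginj this)

/-- Step 3: an element of `S` whose image in `K ⊗ S` is integral over `K[y]` has a nonzero multiple
integral over `R[y]`. -/
theorem exists_smul_isIntegral {d : ℕ} (y : Fin d → S)
    (g : MvPolynomial (Fin d) (FractionRing R) →ₐ[FractionRing R] (FractionRing R) ⊗[R] S)
    (gint : g.IsIntegral) (hg : ∀ i, g (X i) = ι (R := R) (y i)) (x : S) :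
    ∃ e : R, e ≠ 0 ∧ (aeval y : MvPolynomial (Fin d) R →ₐ[R] S).toRingHom.IsIntegralElem (e • x) := by
  classical
  letI : Algebra (MvPolynomial (Fin d) R) (MvPolynomial (Fin d) (FractionRing R)) :=
    MvPolynomial.algebraMvPolynomial
  letI : Algebra (MvPolynomial (Fin d) (FractionRing R)) ((FractionRing R) ⊗[R] S) :=
    g.toRingHom.toAlgebra
  letI : Algebra (MvPolynomial (Fin d) R) ((FractionRing R) ⊗[R] S) :=
    (g.toRingHom.comp (algebraMap (MvPolynomial (Fin d) R) (MvPolynomial (Fin d) (FractionRing R)))).toAlgebra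
  haveI : IsScalarTower (MvPolynomial (Fin d) R) (MvPolynomial (Fin d) (FractionRing R))
      ((FractionRing R) ⊗[R] S) := IsScalarTower.of_algebraMap_eq (fun _ => rfl)
  have hx : IsIntegral (MvPolynomial (Fin d) (FractionRing R)) (ι (R := R) x) := gint (ι (R := R) x)
  obtain ⟨⟨m, hm⟩, hmint⟩ := IsIntegral.exists_multiple_integral_of_isLocalization
    ((nonZeroDivisors R).map (C (σ := Fin d))) (Rₘ := MvPolynomial (Fin d) (FractionRing R)) _ hx
  obtain ⟨b, hb, rfl⟩ := hm
  have hb0 : b ≠ 0 := nonZeroDivisors.ne_zero hb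
  -- the algebra map `R[Y] → K ⊗ S` is `ι ∘ aeval y`
  have halg : ∀ p : MvPolynomial (Fin d) R,
      algebraMap (MvPolynomial (Fin d) R) ((FractionRing R) ⊗[R] S) p = ι (R := R) (aeval y p) := by
    intro p
    rw [ι_aeval y g hg]
    rfl
  have halg' : algebraMap (MvPolynomial (Fin d) R) ((FractionRing R) ⊗[R] S) =
      ((ι (R := R) : S →ₐ[R] _).toRingHom).comp (aeval y : MvPolynomial (Fin d) R →ₐ[R] S).toRingHom :=
    RingHom.ext halg
  obtain ⟨P, hPmonic, hP⟩ := hmint
  have hsm : (⟨C b, b, hb, rfl⟩ : (nonZeroDivisors R).map (C (σ := Fin d))) • ι (R := R) x = ι (R := R) (b • x) := by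
    rw [Submonoid.smul_def, Algebra.smul_def, halg, aeval_C, ← map_mul, ← Algebra.smul_def]
  rw [hsm, halg'] at hP
  have hP' : ι (R := R) (Polynomial.eval₂ (aeval y : MvPolynomial (Fin d) R →ₐ[R] S).toRingHom (b • x) P) = 0 :=
    (Polynomial.hom_eval₂ P (aeval y : MvPolynomial (Fin d) R →ₐ[R] S).toRingHom
      ((ι (R := R) : S →ₐ[R] _).toRingHom) (b • x)).trans hP
  -- `w` is torsion
  obtain ⟨c, hc0, hcw⟩ := (ι_eq_zero_iff _).mp hP'
  -- multiply `P` by `X` to make the degree positive
  have hdeg : (P * Polynomial.X).natDegree = P.natDegree + 1 := by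
    rw [Polynomial.natDegree_mul_X hPmonic.ne_zero]
  refine ⟨c * b, mul_ne_zero hc0 hb0, Polynomial.scaleRoots (P * Polynomial.X) (C c),
    (Polynomial.monic_scaleRoots_iff _).mpr (hPmonic.mul Polynomial.monic_X), ?_⟩
  have e1 : (c * b) • x = (aeval y : MvPolynomial (Fin d) R →ₐ[R] S).toRingHom (C c) * (b • x) := by
    change _ = aeval y (C c) * _
    rw [aeval_C, ← Algebra.smul_def, mul_smul]
  rw [e1, Polynomial.scaleRoots_eval₂_mul, Polynomial.eval₂_mul, Polynomial.eval₂_X, hdeg, pow_succ]
  change (aeval y (C c)) ^ P.natDegree * aeval y (C c) * _ = 0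
  rw [aeval_C, mul_assoc, ← mul_assoc (algebraMap R S c), ← Algebra.smul_def, hcw, zero_mul, mul_zero]

omit [IsDomain R] in
theorem isIntegral_adjoin_of_isIntegralElem {d : ℕ} (y : Fin d → S) (x : S)
    (h : (aeval y : MvPolynomial (Fin d) R →ₐ[R] S).toRingHom.IsIntegralElem x) :
    IsIntegral (Algebra.adjoin R (Set.range y)) x := by
  obtain ⟨P, hmonic, hP⟩ := h
  let φ' : MvPolynomial (Fin d) R →ₐ[R] ↥(Algebra.adjoin R (Set.range y)) :=
    (aeval y : MvPolynomial (Fin d) R →ₐ[R] S).codRestrict (Algebra.adjoin R (Set.range y))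
      (fun p => by rw [Algebra.adjoin_range_eq_range_aeval]; exact ⟨p, rfl⟩)
  refine ⟨P.map φ'.toRingHom, hmonic.map _, ?_⟩
  rw [Polynomial.eval₂_map]
  exact hP

/-- **Generic Noether normalization**. -/
theorem main [Algebra.FiniteType R S] (hinj : Function.Injective (algebraMap R S)) :
    ∃ (d : ℕ) (y : Fin d → S) (f : R), f ≠ 0 ∧ AlgebraicIndependent R y ∧
      ∃ (G : Finset S), Algebra.adjoin R (G : Set S) = ⊤ ∧
        ∀ x ∈ G, IsIntegral (Algebra.adjoin R (Set.range y)) (f • x) := by
  classical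
  obtain ⟨d, y, g, ginj, gint, hg⟩ := step1 (R := R) (S := S) hinj
  obtain ⟨G, hG⟩ := (Algebra.FiniteType.out : (⊤ : Subalgebra R S).FG)
  choose e he0 heint using fun x => exists_smul_isIntegral y g gint hg x
  refine ⟨d, y, ∏ x ∈ G, e x, Finset.prod_ne_zero_iff.mpr (fun x _ => he0 x),
    algebraicIndependent_of y g ginj hg, G, hG, ?_⟩
  intro x hx
  rw [← Finset.prod_erase_mul _ _ hx, mul_smul]
  exact (isIntegral_adjoin_of_isIntegralElem y _ (heint x)).smul _

omit [IsDomain R] in
theorem isPrime_map_C {d : ℕ} (P : Ideal R) [P.IsPrime] :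
    (Ideal.map (C : R →+* MvPolynomial (Fin d) R) P).IsPrime := by
  rw [← Ideal.Quotient.isDomain_iff_prime]
  exact (MvPolynomial.quotientEquivQuotientMvPolynomial (σ := Fin d) P).toRingEquiv.symm.toMulEquiv.isDomain
    (MvPolynomial (Fin d) (R ⧸ P))

/-- **Generic surjectivity on spectra**: for an injective finite type map from a domain, all primes
avoiding some nonzero element lift. -/
theorem exists_prime_over [Algebra.FiniteType R S] (hinj : Function.Injective (algebraMap R S)) :
    ∃ u : R, u ≠ 0 ∧ ∀ P : Ideal R, P.IsPrime → u ∉ P →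
      ∃ Q : Ideal S, Q.IsPrime ∧ Q.comap (algebraMap R S) = P := by
  classical
  obtain ⟨d, y, f, hf0, hind, G, hG, hint⟩ := main (R := R) (S := S) hinj
  refine ⟨f, hf0, ?_⟩
  intro P hP hfP
  -- the intermediate rings
  let Cc : Subalgebra R S := Algebra.adjoin R (Set.range y)
  let B'' : Subalgebra Cc S := Algebra.adjoin Cc ((fun x => f • x) '' (G : Set S))
  haveI : Algebra.IsIntegral Cc B'' := Algebra.IsIntegral.adjoin (by
    rintro _ ⟨x, hx, rfl⟩; exact hint x hx)
  -- every element of S has an `f`-power multiple in `B''`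
  have key1 : ∀ s : S, ∃ n : ℕ, f ^ n • s ∈ B'' := by
    intro s
    have hs : s ∈ Algebra.adjoin R (G : Set S) := by rw [hG]; trivial
    have hR : ∀ (r : R) (z : S), z ∈ B'' → r • z ∈ B'' := by
      intro r z hz
      have : r • z = (algebraMap R Cc r) • z := by
        rw [Algebra.smul_def, Algebra.smul_def]; rfl
      rw [this]
      exact B''.smul_mem hz _
    induction hs using Algebra.adjoin_induction with
    | mem x hx =>
      refine ⟨1, ?_⟩
      rw [pow_one]
      exact Algebra.subset_adjoin ⟨x, hx, rfl⟩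
    | algebraMap r =>
      refine ⟨0, ?_⟩
      rw [pow_zero, one_smul]
      exact B''.algebraMap_mem (algebraMap R Cc r)
    | add a b _ _ ha hb =>
      obtain ⟨n, hn⟩ := ha
      obtain ⟨m, hm⟩ := hb
      refine ⟨n + m, ?_⟩
      rw [smul_add]
      refine B''.add_mem ?_ ?_
      · rw [pow_add, mul_comm, mul_smul]
        exact hR _ _ hn
      · rw [pow_add, mul_smul]
        exact hR _ _ hm
    | mul a b _ _ ha hb =>
      obtain ⟨n, hn⟩ := ha
      obtain ⟨m, hm⟩ := hb
      refine ⟨n + m, ?_⟩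
      have : f ^ (n + m) • (a * b) = (f ^ n • a) * (f ^ m • b) := by
        rw [pow_add, smul_mul_smul_comm]
      rw [this]
      exact B''.mul_mem hn hm
  -- the prime of `Cc`
  haveI := isPrime_map_C (d := d) P
  let e : MvPolynomial (Fin d) R ≃ₐ[R] Cc := hind.aevalEquiv
  let P' : Ideal Cc := Ideal.comap (e.symm : Cc →+* MvPolynomial (Fin d) R) (Ideal.map C P)
  haveI hP'prime : P'.IsPrime := Ideal.comap_isPrime _ _
  have hP'R : P'.comap (algebraMap R Cc) = P := by
    ext r
    rw [Ideal.mem_comap, Ideal.mem_comap]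
    have : (e.symm : Cc →+* MvPolynomial (Fin d) R) (algebraMap R Cc r) = C r := by
      change e.symm (algebraMap R Cc r) = C r
      rw [AlgEquiv.commutes]; rfl
    rw [this, MvPolynomial.mem_map_C_iff]
    constructor
    · intro h
      have := h 0
      rwa [coeff_C, if_pos rfl] at this
    · intro h m
      rw [coeff_C]
      split_ifs
      · exact h
      · exact P.zero_mem
  -- lying over for `Cc → B''`
  obtain ⟨Q', -, hQ'prime, hQ'⟩ := Ideal.exists_ideal_over_prime_of_isIntegral P' (⊥ : Ideal B'') (by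
    intro c hc
    rw [Ideal.mem_comap, Ideal.mem_bot] at hc
    have hc0 : c = 0 := by
      apply Subtype.ext
      have := congrArg (fun z : B'' => (z : S)) hc
      exact this
    rw [hc0]; exact P'.zero_mem)
  have hfQ' : ∀ n : ℕ, (⟨algebraMap R S (f ^ n), B''.algebraMap_mem (algebraMap R Cc (f ^ n))⟩ : B'') ∉ Q' := by
    intro n hmem
    have h1 : algebraMap R Cc (f ^ n) ∈ P' := by
      rw [← hQ', Ideal.mem_comap]
      exact hmem
    have h2 : f ^ n ∈ P := by rw [← hP'R, Ideal.mem_comap]; exact h1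
    exact hfP (hP.mem_of_pow_mem n h2)
  -- extend `Q'` to `S`
  have hcm : (Q'.map (B''.val : B'' →+* S)).comap (B''.val : B'' →+* S) = Q' := by
    apply le_antisymm _ Ideal.le_comap_map
    intro m hm
    rw [Ideal.mem_comap] at hm
    have aux : ∀ z ∈ Q'.map (B''.val : B'' →+* S), ∃ (N : ℕ) (q : B''), q ∈ Q' ∧ f ^ N • z = (q : S) := by
      intro z hz
      induction hz using Submodule.span_induction with
      | mem z hz =>
        obtain ⟨q, hq, rfl⟩ := hz
        exact ⟨0, q, hq, by rw [pow_zero, one_smul]; rfl⟩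
      | zero => exact ⟨0, 0, Q'.zero_mem, by simp⟩
      | add z1 z2 _ _ h1 h2 =>
        obtain ⟨N1, q1, hq1, e1⟩ := h1
        obtain ⟨N2, q2, hq2, e2⟩ := h2
        refine ⟨N1 + N2, ⟨algebraMap R S (f ^ N2), B''.algebraMap_mem (algebraMap R Cc (f ^ N2))⟩ * q1 +
          ⟨algebraMap R S (f ^ N1), B''.algebraMap_mem (algebraMap R Cc (f ^ N1))⟩ * q2,
          Q'.add_mem (Q'.mul_mem_left _ hq1) (Q'.mul_mem_left _ hq2), ?_⟩
        rw [smul_add]
        change _ = algebraMap R S (f ^ N2) * (q1 : S) + algebraMap R S (f ^ N1) * (q2 : S)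
        rw [← e1, ← e2, ← Algebra.smul_def, ← Algebra.smul_def, ← mul_smul, ← mul_smul, ← pow_add, ← pow_add,
          add_comm N2 N1]
      | smul b z _ h1 =>
        obtain ⟨N, q, hq, e1⟩ := h1
        obtain ⟨M, hM⟩ := key1 b
        refine ⟨M + N, ⟨_, hM⟩ * q, Q'.mul_mem_left _ hq, ?_⟩
        change _ = (f ^ M • b) * (q : S)
        rw [← e1, smul_eq_mul, pow_add, smul_mul_smul_comm]
    obtain ⟨N, q, hq, e1⟩ := aux _ hm
    have hmq : (⟨algebraMap R S (f ^ N), B''.algebraMap_mem (algebraMap R Cc (f ^ N))⟩ : B'') * m = q := by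
      apply Subtype.ext
      change algebraMap R S (f ^ N) * (m : S) = (q : S)
      rw [← e1, Algebra.smul_def]; rfl
    have : (⟨algebraMap R S (f ^ N), B''.algebraMap_mem (algebraMap R Cc (f ^ N))⟩ : B'') * m ∈ Q' := hmq ▸ hq
    rcases hQ'prime.mem_or_mem this with h | h
    · exact absurd h (hfQ' N)
    · exact h
  obtain ⟨Q, hQprime, hQ⟩ := (Ideal.comap_map_eq_self_iff_of_isPrime Q').mp hcm
  refine ⟨Q, hQprime, ?_⟩
  have hcomp : algebraMap R S = ((B''.val : B'' →+* S).comp (algebraMap Cc B'')).comp (algebraMap R Cc) := by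
    ext r; rfl
  rw [hcomp, ← Ideal.comap_comap, ← Ideal.comap_comap, hQ, hQ', hP'R]

/-- **Image contains an open**: for an injective finite type map of domains `R → S` and `v ≠ 0`
in `S`, all primes of `R` avoiding some nonzero `u` lift to primes of `S` avoiding `v`. -/
theorem exists_prime_over_not_mem [IsDomain S] [Algebra.FiniteType R S]
    (hinj : Function.Injective (algebraMap R S)) (v : S) (hv : v ≠ 0) :
    ∃ u : R, u ≠ 0 ∧ ∀ P : Ideal R, P.IsPrime → u ∉ P →
      ∃ Q : Ideal S, Q.IsPrime ∧ Q.comap (algebraMap R S) = P ∧ v ∉ Q := by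
  haveI : Algebra.FiniteType S (Localization.Away v) :=
    haveI := IsLocalization.Away.finitePresentation (S := Localization.Away v) v; inferInstance
  haveI : Algebra.FiniteType R (Localization.Away v) := Algebra.FiniteType.trans ‹_› ‹_›
  have hinj' : Function.Injective (algebraMap R (Localization.Away v)) := by
    rw [IsScalarTower.algebraMap_eq R S (Localization.Away v)]
    exact (IsLocalization.injective _ (powers_le_nonZeroDivisors_of_noZeroDivisors hv)).comp hinj
  obtain ⟨u, hu0, hu⟩ := exists_prime_over (R := R) (S := Localization.Away v) hinj'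
  refine ⟨u, hu0, ?_⟩
  intro P hP huP
  obtain ⟨Q, hQ, hQP⟩ := hu P hP huP
  refine ⟨Q.comap (algebraMap S (Localization.Away v)), Ideal.comap_isPrime _ _, ?_, ?_⟩
  · rw [Ideal.comap_comap, ← IsScalarTower.algebraMap_eq, hQP]
  · intro hmem
    rw [Ideal.mem_comap] at hmem
    exact hQ.ne_top (Ideal.eq_top_of_isUnit_mem _ hmem (IsLocalization.Away.algebraMap_isUnit v))

end

end Groth.Agent.H1.GNN
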