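import Mathlib
import Groth.Agent.Lib.Helper1.GenericNN
import Groth.Agent.Lib.Helper1.GenFibAlg1

/-!
# Dimension of fibres near the generic point: algebra (helper1)
-/

set_option autoImplicit false
universe u

namespace Groth.Agent.H1.GenFib

open TensorProduct MvPolynomial AlgebraicGeometry CategoryTheory

/-- An integral extension which is surjective on spectra preserves the Krull dimension. -/
theorem ringKrullDim_eq_of_isIntegral_of_surjective (B C : Type*) [CommRing B] [CommRing C]
    [Algebra B C] [Algebra.IsIntegral B C]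
    (hs : Function.Surjective (PrimeSpectrum.comap (algebraMap B C))) :
    ringKrullDim C = ringKrullDim B := by
  apply le_antisymm
  · refine Order.krullDim_le_of_strictMono (fun P : PrimeSpectrum C => P.comap (algebraMap B C)) ?_
    intro P Q hPQ
    have : P.asIdeal < Q.asIdeal := hPQ
    exact Ideal.IsIntegral.comap_lt_comap (R := B) this
  · unfold ringKrullDim Order.krullDim
    apply iSup_le
    intro l
    obtain ⟨P, hP⟩ := hs l.head
    haveI : P.asIdeal.LiesOver l.head.asIdeal := ⟨by rw [← hP]; rfl⟩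
    obtain ⟨L, hL, -, -⟩ := Ideal.exists_ltSeries_of_hasGoingUp (S := C) l P.asIdeal
    rw [← hL]
    exact le_iSup (fun L : LTSeries (PrimeSpectrum C) => (L.length : WithBot ℕ∞)) L

/-- Points of the spectrum of a tensor product: a compatible pair of primes lifts. -/
theorem exists_prime_tensorProduct (B B' C : Type u) [CommRing B] [CommRing B'] [CommRing C]
    [Algebra B B'] [Algebra B C] (q : PrimeSpectrum B') (P : PrimeSpectrum C)
    (h : q.comap (algebraMap B B') = P.comap (algebraMap B C)) :
    ∃ Q : PrimeSpectrum (B' ⊗[B] C), Q.comap (algebraMap B' (B' ⊗[B] C)) = q ∧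
      Q.comap (Algebra.TensorProduct.includeRight : C →ₐ[B] B' ⊗[B] C).toRingHom = P := by
  have sq := isPullback_SpecMap_of_isPushout _ _ _ _ (CommRingCat.isPushout_tensorProduct B B' C)
  obtain ⟨p, hp1, hp2⟩ := Scheme.exists_preimage_of_isPullback sq q P h
  exact ⟨p, hp1, hp2⟩

theorem comap_surjective_tensorProduct (B B' C : Type u) [CommRing B] [CommRing B'] [CommRing C]
    [Algebra B B'] [Algebra B C]
    (hs : Function.Surjective (PrimeSpectrum.comap (algebraMap B C))) :
    Function.Surjective (PrimeSpectrum.comap (algebraMap B' (B' ⊗[B] C))) := by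
  intro q
  obtain ⟨P, hP⟩ := hs (q.comap (algebraMap B B'))
  obtain ⟨Q, hQ, -⟩ := exists_prime_tensorProduct B B' C q P hP.symm
  exact ⟨Q, hQ⟩

attribute [local instance] MvPolynomial.algebraMvPolynomial in
/-- **Core**: if `R[Y_1, …, Y_d] → A` is injective and integral, all fibres of `Spec A → Spec R` over
field valued points have dimension `d`. -/
theorem ringKrullDim_tensor_eq_of_integral_injective {R A : Type u} [CommRing R] [CommRing A]
    [Algebra R A] {d : ℕ} (y : Fin d → A)
    (hinj : Function.Injective (aeval y : MvPolynomial (Fin d) R →ₐ[R] A))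
    (hint : (aeval y : MvPolynomial (Fin d) R →ₐ[R] A).toRingHom.IsIntegral)
    (L : Type u) [Field L] [Algebra R L] :
    ringKrullDim (L ⊗[R] A) = d := by
  letI : Algebra (MvPolynomial (Fin d) R) A :=
    (aeval y : MvPolynomial (Fin d) R →ₐ[R] A).toRingHom.toAlgebra
  haveI : IsScalarTower R (MvPolynomial (Fin d) R) A :=
    IsScalarTower.of_algebraMap_eq (fun r => ((aeval y).commutes r).symm)
  haveI : Algebra.IsIntegral (MvPolynomial (Fin d) R) A := ⟨hint⟩
  haveI : FaithfulSMul (MvPolynomial (Fin d) R) A :=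
    (faithfulSMul_iff_algebraMap_injective _ _).mpr hinj
  have hs := Algebra.IsIntegral.comap_surjective (MvPolynomial (Fin d) R) A
  have hs' := comap_surjective_tensorProduct (MvPolynomial (Fin d) R) (MvPolynomial (Fin d) L) A hs
  have hdim := ringKrullDim_eq_of_isIntegral_of_surjective (MvPolynomial (Fin d) L)
    (MvPolynomial (Fin d) L ⊗[MvPolynomial (Fin d) R] A) hs'
  have e := Algebra.IsPushout.cancelBaseChangeAlg R L (MvPolynomial (Fin d) R)
    (MvPolynomial (Fin d) L) A
  rw [← ringKrullDim_eq_of_ringEquiv e.toRingEquiv, hdim,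
    MvPolynomial.ringKrullDim_of_isNoetherianRing, ringKrullDim_eq_zero_of_field]
  simp

/-- compatibility of `aeval (1 ⊗ y)` over `R'` with `aeval y` over `R`. -/
theorem aeval_one_tmul_map {R A : Type u} [CommRing R] [CommRing A] [Algebra R A] {d : ℕ}
    (y : Fin d → A) (R' : Type u) [CommRing R'] [Algebra R R'] (p : MvPolynomial (Fin d) R) :
    (aeval (fun i => (1 : R') ⊗ₜ[R] y i) : MvPolynomial (Fin d) R' →ₐ[R'] R' ⊗[R] A)
      (MvPolynomial.map (algebraMap R R') p) = 1 ⊗ₜ[R] (aeval y p) := by
  rw [MvPolynomial.aeval_map_algebraMap, MvPolynomial.aeval_one_tmul]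

/-- Spreading-out data for Noether normalization gives the clean situation after a flat base
change inverting `f`. -/
theorem clean_of_data {R A : Type u} [CommRing R] [CommRing A] [Algebra R A] {d : ℕ}
    (y : Fin d → A) (f : R)
    (hind : Function.Injective (aeval y : MvPolynomial (Fin d) R →ₐ[R] A))
    (G : Set A) (hG : Algebra.adjoin R G = ⊤)
    (hint : ∀ x ∈ G, (aeval y : MvPolynomial (Fin d) R →ₐ[R] A).toRingHom.IsIntegralElem (f • x))
    (R' : Type u) [CommRing R'] [Algebra R R'] [Module.Flat R R']
    (hf : IsUnit (algebraMap R R' f)) :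
    Function.Injective
      (aeval (fun i => (1 : R') ⊗ₜ[R] y i) : MvPolynomial (Fin d) R' →ₐ[R'] R' ⊗[R] A) ∧
    (aeval (fun i => (1 : R') ⊗ₜ[R] y i) :
      MvPolynomial (Fin d) R' →ₐ[R'] R' ⊗[R] A).toRingHom.IsIntegral := by
  set ψ : MvPolynomial (Fin d) R' →ₐ[R'] R' ⊗[R] A := aeval (fun i => (1 : R') ⊗ₜ[R] y i) with hψ
  constructor
  · -- injectivity by flatness
    have key : ∀ t : R' ⊗[R] MvPolynomial (Fin d) R,
        ψ (MvPolynomial.algebraTensorAlgEquiv R R' t) =
          (aeval y : MvPolynomial (Fin d) R →ₐ[R] A).toLinearMap.lTensor R' t := by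
      intro t
      induction t using TensorProduct.induction_on with
      | zero => simp
      | tmul a p =>
        rw [MvPolynomial.algebraTensorAlgEquiv_tmul, map_smul, hψ, aeval_one_tmul_map,
          LinearMap.lTensor_tmul, TensorProduct.smul_tmul', smul_eq_mul, mul_one]
        rfl
      | add t1 t2 h1 h2 => rw [map_add, map_add, map_add, h1, h2]
    have hinj := Module.Flat.lTensor_preserves_injective_linearMap (M := R')
      (aeval y : MvPolynomial (Fin d) R →ₐ[R] A).toLinearMap hind
    intro a b hab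
    obtain ⟨a', rfl⟩ := (MvPolynomial.algebraTensorAlgEquiv R R').surjective a
    obtain ⟨b', rfl⟩ := (MvPolynomial.algebraTensorAlgEquiv R R').surjective b
    rw [key, key] at hab
    rw [hinj hab]
  · -- integrality
    obtain ⟨u, hu⟩ := hf.exists_left_inv
    have hcomp : ψ.toRingHom.comp (MvPolynomial.map (algebraMap R R')) =
        (Algebra.TensorProduct.includeRight : A →ₐ[R] R' ⊗[R] A).toRingHom.comp
          (aeval y : MvPolynomial (Fin d) R →ₐ[R] A).toRingHom := by
      ext p
      · simp [hψ]
      · simp [hψ]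
    have h1 : ∀ a : A, ψ.toRingHom.IsIntegralElem ((1 : R') ⊗ₜ[R] a) := by
      intro a
      have ha : a ∈ Algebra.adjoin R G := by rw [hG]; trivial
      induction ha using Algebra.adjoin_induction with
      | mem x hx =>
        have h2 := (hint x hx).map
          (Algebra.TensorProduct.includeRight : A →ₐ[R] R' ⊗[R] A).toRingHom
        rw [← hcomp] at h2
        have h3 := RingHom.isIntegralElem.of_comp _ _ h2
        have h4 : (1 : R') ⊗ₜ[R] x = ψ.toRingHom (C u) *
            (Algebra.TensorProduct.includeRight : A →ₐ[R] R' ⊗[R] A).toRingHom (f • x) := by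
          change _ = ψ (C u) * ((1 : R') ⊗ₜ[R] (f • x))
          rw [hψ, aeval_C, Algebra.TensorProduct.algebraMap_apply,
            Algebra.TensorProduct.tmul_mul_tmul, mul_one, one_mul, ← TensorProduct.smul_tmul,
            Algebra.smul_def, Algebra.algebraMap_self, RingHom.id_apply, mul_comm, hu]
        rw [h4]
        exact RingHom.IsIntegralElem.mul _ ψ.toRingHom.isIntegralElem_map h3
      | algebraMap r =>
        have : (1 : R') ⊗ₜ[R] (algebraMap R A r) = ψ.toRingHom (C (algebraMap R R' r)) := by
          change _ = ψ (C (algebraMap R R' r))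
          rw [hψ, aeval_C, Algebra.TensorProduct.algebraMap_apply, Algebra.algebraMap_eq_smul_one,
            ← TensorProduct.smul_tmul, ← Algebra.algebraMap_eq_smul_one]
          rfl
        rw [this]
        exact ψ.toRingHom.isIntegralElem_map
      | add a b _ _ ha hb =>
        rw [TensorProduct.tmul_add]
        exact RingHom.IsIntegralElem.add _ ha hb
      | mul a b _ _ ha hb =>
        have : (1 : R') ⊗ₜ[R] (a * b) = (1 : R') ⊗ₜ[R] a * (1 : R') ⊗ₜ[R] b := by
          rw [Algebra.TensorProduct.tmul_mul_tmul, one_mul]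
        rw [this]
        exact RingHom.IsIntegralElem.mul _ ha hb
    intro t
    induction t using TensorProduct.induction_on with
    | zero => exact ψ.toRingHom.isIntegralElem_zero
    | tmul r a =>
      have : r ⊗ₜ[R] a = ψ.toRingHom (C r) * (1 : R') ⊗ₜ[R] a := by
        change _ = ψ (C r) * _
        rw [hψ, aeval_C, Algebra.TensorProduct.algebraMap_apply,
          Algebra.TensorProduct.tmul_mul_tmul, mul_one, one_mul]
        rfl
      rw [this]
      exact RingHom.IsIntegralElem.mul _ ψ.toRingHom.isIntegralElem_map (h1 a)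
    | add t1 t2 h1 h2 => exact RingHom.IsIntegralElem.add _ h1 h2

/-- `IsIntegralElem` form of generic Noether normalization. -/
theorem exists_noether_data (R A : Type u) [CommRing R] [IsDomain R] [CommRing A] [Algebra R A]
    [Algebra.FiniteType R A] (hinj : Function.Injective (algebraMap R A)) :
    ∃ (d : ℕ) (y : Fin d → A) (f : R), f ≠ 0 ∧
      Function.Injective (aeval y : MvPolynomial (Fin d) R →ₐ[R] A) ∧
      ∃ G : Finset A, Algebra.adjoin R (G : Set A) = ⊤ ∧
        ∀ x ∈ G, (aeval y : MvPolynomial (Fin d) R →ₐ[R] A).toRingHom.IsIntegralElem (f • x) := by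
  classical
  obtain ⟨d, y, g, ginj, gint, hg⟩ := GNN.step1 (R := R) (S := A) hinj
  obtain ⟨G, hG⟩ := (Algebra.FiniteType.out : (⊤ : Subalgebra R A).FG)
  choose e he0 heint using fun x => GNN.exists_smul_isIntegral y g gint hg x
  refine ⟨d, y, ∏ x ∈ G, e x, Finset.prod_ne_zero_iff.mpr (fun x _ => he0 x),
    (algebraicIndependent_iff_injective_aeval).mp (GNN.algebraicIndependent_of y g ginj hg),
    G, hG, ?_⟩
  intro x hx
  rw [← Finset.prod_erase_mul _ _ hx, mul_smul]
  have hsm : ∀ (r : R) (z : A), r • z =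
      (aeval y : MvPolynomial (Fin d) R →ₐ[R] A).toRingHom (C r) * z := by
    intro r z
    change _ = aeval y (C r) * z
    rw [aeval_C, Algebra.smul_def]
  rw [hsm]
  exact RingHom.IsIntegralElem.mul _ (RingHom.isIntegralElem_map _) (heint x)

/-- Over a domain, the fibre dimension of an injective finite type algebra is generically
constant. -/
theorem exists_ringKrullDim_tensor_eq_of_isDomain (R A : Type u) [CommRing R] [IsDomain R]
    [CommRing A] [Algebra R A] [Algebra.FiniteType R A]
    (hinj : Function.Injective (algebraMap R A)) :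
    ∃ (d : ℕ) (g : R), g ≠ 0 ∧ ∀ (L : Type u) [Field L] [Algebra R L],
      algebraMap R L g ≠ 0 → ringKrullDim (L ⊗[R] A) = d := by
  obtain ⟨d, y, f, hf0, hind, G, hG, hint⟩ := exists_noether_data R A hinj
  refine ⟨d, f, hf0, ?_⟩
  intro L _ _ hfL
  letI : Algebra (Localization.Away f) L :=
    (IsLocalization.Away.lift (S := Localization.Away f) f (g := algebraMap R L)
      (IsUnit.mk0 _ hfL)).toAlgebra
  haveI : IsScalarTower R (Localization.Away f) L := IsScalarTower.of_algebraMap_eq (fun r =>
    (IsLocalization.Away.lift_eq (S := Localization.Away f) f (g := algebraMap R L)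
      (IsUnit.mk0 _ hfL) r).symm)
  haveI : Module.Flat R (Localization.Away f) :=
    IsLocalization.flat (Localization.Away f) (Submonoid.powers f)
  obtain ⟨h1, h2⟩ := clean_of_data y f hind (G : Set A) hG hint (Localization.Away f)
    (IsLocalization.Away.algebraMap_isUnit f)
  have h3 := ringKrullDim_tensor_eq_of_integral_injective
    (R := Localization.Away f) (A := Localization.Away f ⊗[R] A) _ h1 h2 L
  rw [← h3]
  exact (ringKrullDim_eq_of_ringEquiv
    (Algebra.TensorProduct.cancelBaseChange R (Localization.Away f) L L A).toRingEquiv).symm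

/-- **Generic constancy of the fibre dimension** for a finite type algebra over a ring with
irreducible spectrum (`K` the residue field at the generic point). -/
theorem exists_forall_ringKrullDim_tensor_eq (R A K : Type u) [CommRing R] [CommRing A]
    [Algebra R A] [Algebra.FiniteType R A] [Field K] [Algebra R K]
    (hker : ∀ r : R, algebraMap R K r = 0 → IsNilpotent r) :
    ∃ g : R, algebraMap R K g ≠ 0 ∧ ∀ (L : Type u) [Field L] [Algebra R L],
      algebraMap R L g ≠ 0 → ringKrullDim (L ⊗[R] A) = ringKrullDim (K ⊗[R] A) := by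
  set I : Ideal R := RingHom.ker (algebraMap R K) with hI
  haveI : I.IsPrime := RingHom.ker_isPrime _
  -- the claim over the domain `R ⧸ I`
  have claim : ∃ (c : WithBot ℕ∞) (g' : R ⧸ I), g' ≠ 0 ∧ ∀ (L : Type u) [Field L]
      [Algebra (R ⧸ I) L], algebraMap (R ⧸ I) L g' ≠ 0 →
        ringKrullDim (L ⊗[R ⧸ I] ((R ⧸ I) ⊗[R] A)) = c := by
    by_cases hinj : Function.Injective (algebraMap (R ⧸ I) ((R ⧸ I) ⊗[R] A))
    · obtain ⟨d, g', hg', H⟩ := exists_ringKrullDim_tensor_eq_of_isDomain (R ⧸ I)
        ((R ⧸ I) ⊗[R] A) hinj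
      exact ⟨d, g', hg', H⟩
    · rw [injective_iff_map_eq_zero] at hinj
      push Not at hinj
      obtain ⟨g', hg'0, hg'⟩ := hinj
      refine ⟨⊥, g', hg', ?_⟩
      intro L _ _ hL
      haveI : Subsingleton (L ⊗[R ⧸ I] ((R ⧸ I) ⊗[R] A)) := by
        apply subsingleton_of_zero_eq_one
        have h1 : (algebraMap (R ⧸ I) L g') ⊗ₜ[R ⧸ I] (1 : (R ⧸ I) ⊗[R] A) = 0 := by
          rw [Algebra.algebraMap_eq_smul_one, TensorProduct.smul_tmul,
            ← Algebra.algebraMap_eq_smul_one, hg'0, TensorProduct.tmul_zero]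
        have h2 : (1 : L ⊗[R ⧸ I] ((R ⧸ I) ⊗[R] A)) =
            (algebraMap (R ⧸ I) L g')⁻¹ • ((algebraMap (R ⧸ I) L g') ⊗ₜ[R ⧸ I]
              (1 : (R ⧸ I) ⊗[R] A)) := by
          rw [TensorProduct.smul_tmul', smul_eq_mul, inv_mul_cancel₀ hL]
          rfl
        rw [h2, h1, smul_zero]
      exact ringKrullDim_eq_bot_of_subsingleton
  obtain ⟨c, g', hg', H⟩ := claim
  obtain ⟨g, rfl⟩ := Ideal.Quotient.mk_surjective g'
  have hgI : g ∉ I := fun h => hg' ((Ideal.Quotient.eq_zero_iff_mem).mpr h)
  have key : ∀ (L : Type u) [Field L] [Algebra R L], algebraMap R L g ≠ 0 →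
      ringKrullDim (L ⊗[R] A) = c := by
    intro L _ _ hL
    have hIL : ∀ r ∈ I, algebraMap R L r = 0 := by
      intro r hr
      have hnil : IsNilpotent r := hker r hr
      exact (hnil.map (algebraMap R L)).eq_zero
    letI : Algebra (R ⧸ I) L := (Ideal.Quotient.lift I (algebraMap R L) hIL).toAlgebra
    haveI : IsScalarTower R (R ⧸ I) L := IsScalarTower.of_algebraMap_eq (fun x => rfl)
    rw [← H L (by exact hL)]
    exact (ringKrullDim_eq_of_ringEquiv
      (Algebra.TensorProduct.cancelBaseChange R (R ⧸ I) L L A).toRingEquiv).symm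
  have hgK : algebraMap R K g ≠ 0 := fun h => hgI h
  refine ⟨g, hgK, ?_⟩
  intro L _ _ hL
  rw [key L hL, key K hgK]

end Groth.Agent.H1.GenFib
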