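import Mathlib
import Groth.Agent.Lib.Helper1.GenFib1
import Groth.Agent.Lib.Helper1.GenFibDim
import Groth.Agent.Lib.Helper3.TopDim

/-!
# Dimension of fibres near the generic point: schemes (helper1)
-/

set_option autoImplicit false
universe u

namespace Groth.Agent.H1.GenFib

open AlgebraicGeometry CategoryTheory Limits TensorProduct TopologicalSpace

variable {X Y : Scheme.{u}}

/-- dimension of the affine piece of a fibre. -/
theorem topologicalKrullDim_fiberPiece (f : X ⟶ Y) {U : X.Opens} {W : Y.Opens}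
    (hU : IsAffineOpen U) (hW : IsAffineOpen W) (e : U ≤ f ⁻¹ᵁ W) (y : Y) (hy : y ∈ W) :
    letI := (f.appLE W U e).hom.toAlgebra
    letI := (Y.evaluation W y hy).hom.toAlgebra
    topologicalKrullDim ↥((f.fiberι y) ⁻¹' (U : Set X)) =
      ringKrullDim (Y.residueField y ⊗[Γ(Y, W)] Γ(X, U)) := by
  letI := (f.appLE W U e).hom.toAlgebra
  letI := (Y.evaluation W y hy).hom.toAlgebra
  obtain ⟨j, hj, hr⟩ := exists_fiberPiece_tensor f hU hW e y hy
  rw [← hr, ← PrimeSpectrum.topologicalKrullDim_eq_ringKrullDim]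
  exact (IsHomeomorph.topologicalKrullDim_eq _
    (j.isOpenEmbedding.isEmbedding.toHomeomorph.isHomeomorph)).symm

/-- the dimension of an affine piece of the fibres is constant near the generic point. -/
theorem exists_basicOpen_fiberPiece_dim (f : X ⟶ Y) [IrreducibleSpace Y] [LocallyOfFiniteType f]
    {U : X.Opens} {W : Y.Opens} (hU : IsAffineOpen U) (hW : IsAffineOpen W) (e : U ≤ f ⁻¹ᵁ W)
    (hη : genericPoint Y ∈ W) :
    ∃ g : Γ(Y, W), genericPoint Y ∈ Y.basicOpen g ∧ ∀ y ∈ Y.basicOpen g,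
      topologicalKrullDim ↥((f.fiberι y) ⁻¹' (U : Set X)) =
        topologicalKrullDim ↥((f.fiberι (genericPoint Y)) ⁻¹' (U : Set X)) := by
  letI algA := (f.appLE W U e).hom.toAlgebra
  letI algK := (Y.evaluation W (genericPoint Y) hη).hom.toAlgebra
  haveI : Algebra.FiniteType Γ(Y, W) Γ(X, U) := f.finiteType_appLE hW hU e
  obtain ⟨g, hg, H⟩ := exists_forall_ringKrullDim_tensor_eq Γ(Y, W) Γ(X, U)
    (Y.residueField (genericPoint Y))
    (fun r hr => isNilpotent_of_evaluation_genericPoint hW hη r hr)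
  refine ⟨g, (Scheme.evaluation_ne_zero_iff_mem_basicOpen Y _ hη g).mp hg, ?_⟩
  intro y hy
  have hyW : y ∈ W := Y.basicOpen_le g hy
  letI algy := (Y.evaluation W y hyW).hom.toAlgebra
  rw [topologicalKrullDim_fiberPiece f hU hW e y hyW,
    topologicalKrullDim_fiberPiece f hU hW e (genericPoint Y) hη]
  exact H (Y.residueField y) ((Scheme.evaluation_ne_zero_iff_mem_basicOpen Y y hyW g).mpr hy)

/-- **The fibre dimension is constant near the generic point.** -/
theorem exists_open_forall_fiber_dim_eq (f : X ⟶ Y) [IrreducibleSpace Y] [LocallyOfFiniteType f]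
    [QuasiCompact f] :
    ∃ V : Y.Opens, genericPoint Y ∈ V ∧ ∀ y ∈ V,
      topologicalKrullDim (f.fiber y) = topologicalKrullDim (f.fiber (genericPoint Y)) := by
  classical
  obtain ⟨W, hW, hηW⟩ := exists_isAffineOpen_genericPoint_mem Y
  have hqc : IsCompact (f ⁻¹ᵁ W : Set X) := f.isCompact_preimage hW.isCompact
  obtain ⟨s, hsfin, hs⟩ := isCompact_iff_finite_and_eq_biUnion_affineOpens.mp hqc
  have hle : ∀ i ∈ s, (i : X.Opens) ≤ f ⁻¹ᵁ W := by
    intro i hi
    rw [hs]
    exact le_iSup₂ (f := fun (i : X.affineOpens) (_ : i ∈ s) => (i : X.Opens)) i hi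
  have H : ∀ i : s, ∃ g : Γ(Y, W), genericPoint Y ∈ Y.basicOpen g ∧ ∀ y ∈ Y.basicOpen g,
      topologicalKrullDim ↥((f.fiberι y) ⁻¹' ((i.1 : X.Opens) : Set X)) =
        topologicalKrullDim ↥((f.fiberι (genericPoint Y)) ⁻¹' ((i.1 : X.Opens) : Set X)) :=
    fun i => exists_basicOpen_fiberPiece_dim f i.1.2 hW (hle i.1 i.2) hηW
  choose g hgη hg using H
  haveI : Fintype s := hsfin.fintype
  have cover : ∀ (z : Y) (_ : z ∈ W), topologicalKrullDim (f.fiber z) =
      ⨆ i : s, topologicalKrullDim ↥((f.fiberι z) ⁻¹' ((i.1 : X.Opens) : Set X)) := by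
    intro z hz
    refine Groth.Agent.H3.TopDim.dim_eq_iSup_open_cover (X := f.fiber z)
      (fun i : s => (f.fiberι z) ⁻¹ᵁ (i.1 : X.Opens)) ?_
    rw [eq_top_iff]
    intro x _
    have hx : f.fiberι z x ∈ f ⁻¹ᵁ W := by
      change f (f.fiberι z x) ∈ W
      rw [fiberι_apply_mem]; exact hz
    rw [hs] at hx
    simp only [Opens.mem_iSup] at hx
    obtain ⟨i, hi, hxi⟩ := hx
    exact Opens.mem_iSup.mpr ⟨⟨i, hi⟩, hxi⟩
  refine ⟨Y.basicOpen (∏ i, g i), ?_, ?_⟩
  · rw [← Scheme.evaluation_ne_zero_iff_mem_basicOpen Y _ hηW, map_prod]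
    exact Finset.prod_ne_zero_iff.mpr (fun i _ =>
      (Scheme.evaluation_ne_zero_iff_mem_basicOpen Y _ hηW (g i)).mpr (hgη i))
  · intro y hy
    have hyW : y ∈ W := Y.basicOpen_le _ hy
    have hyi : ∀ i, y ∈ Y.basicOpen (g i) := by
      intro i
      rw [← Scheme.evaluation_ne_zero_iff_mem_basicOpen Y y hyW]
      have h1 := (Scheme.evaluation_ne_zero_iff_mem_basicOpen Y y hyW _).mpr hy
      rw [map_prod] at h1
      exact Finset.prod_ne_zero_iff.mp h1 i (Finset.mem_univ i)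
    rw [cover y hyW, cover _ hηW]
    congr 1
    funext i
    exact hg i y (hyi i)

end Groth.Agent.H1.GenFib
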