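import Mathlib
import Groth.Agent.Lib.Helper1.GenFibDim1
import Groth.Agent.Lib.Helper8.ConstructibleNoeth
import Groth.Agent.Lib.Helper5.Lim.RingModel

/-!
# Level sets of the fibre dimension are locally constructible (helper1)
-/

set_option autoImplicit false
universe u

namespace Groth.Agent.H1.FibDim

open TensorProduct Groth.Agent.H1.GenFib Topology AlgebraicGeometry CategoryTheory TopologicalSpace

/-- generic constancy of the fibre dimension, without irreducibility of the base: the fields `L`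
are required to kill the kernel of `R → K`. -/
theorem exists_forall_ringKrullDim_tensor_eq' (R A K : Type u) [CommRing R] [CommRing A]
    [Algebra R A] [Algebra.FiniteType R A] [Field K] [Algebra R K] :
    ∃ g : R, algebraMap R K g ≠ 0 ∧ ∀ (L : Type u) [Field L] [Algebra R L],
      (∀ r : R, algebraMap R K r = 0 → algebraMap R L r = 0) →
      algebraMap R L g ≠ 0 → ringKrullDim (L ⊗[R] A) = ringKrullDim (K ⊗[R] A) := by
  set I : Ideal R := RingHom.ker (algebraMap R K) with hI
  haveI : I.IsPrime := RingHom.ker_isPrime _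
  letI : Algebra (R ⧸ I) K := (RingHom.kerLift (algebraMap R K)).toAlgebra
  haveI : IsScalarTower R (R ⧸ I) K := IsScalarTower.of_algebraMap_eq (fun x => rfl)
  have hinjK : Function.Injective (algebraMap (R ⧸ I) K) := RingHom.kerLift_injective _
  obtain ⟨g', hg', H⟩ := exists_forall_ringKrullDim_tensor_eq (R ⧸ I) ((R ⧸ I) ⊗[R] A) K
    (fun r hr => by
      have : r = 0 := hinjK (hr.trans (map_zero _).symm)
      rw [this]; exact IsNilpotent.zero)
  obtain ⟨g, rfl⟩ := Ideal.Quotient.mk_surjective g'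
  have hgK : algebraMap R K g ≠ 0 := hg'
  have eK : ringKrullDim (K ⊗[R ⧸ I] ((R ⧸ I) ⊗[R] A)) = ringKrullDim (K ⊗[R] A) :=
    ringKrullDim_eq_of_ringEquiv
      (Algebra.TensorProduct.cancelBaseChange R (R ⧸ I) K K A).toRingEquiv
  refine ⟨g, hgK, ?_⟩
  intro L _ _ hIL hL
  letI : Algebra (R ⧸ I) L := (Ideal.Quotient.lift I (algebraMap R L) hIL).toAlgebra
  haveI : IsScalarTower R (R ⧸ I) L := IsScalarTower.of_algebraMap_eq (fun x => rfl)
  rw [← eK, ← H L (by exact hL)]
  exact (ringKrullDim_eq_of_ringEquiv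
    (Algebra.TensorProduct.cancelBaseChange R (R ⧸ I) L L A).toRingEquiv).symm

/-- the dimension of a finite type algebra over a field is invariant under extension of the base
field. -/
theorem ringKrullDim_tensor_field (k B L : Type u) [Field k] [CommRing B] [Algebra k B]
    [Algebra.FiniteType k B] [Field L] [Algebra k L] :
    ringKrullDim (L ⊗[k] B) = ringKrullDim B := by
  obtain ⟨g, hg, H⟩ := exists_forall_ringKrullDim_tensor_eq' k B k
  have hg0 : g ≠ 0 := fun h => hg (by rw [h, map_zero])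
  rw [H L (fun r hr => by
    have : r = 0 := hr
    rw [this, map_zero]) (fun h => hg0 ((algebraMap k L).injective (h.trans (map_zero _).symm)))]
  exact ringKrullDim_eq_of_ringEquiv (Algebra.TensorProduct.lid k B).toRingEquiv

/-- the dimension of the fibre of `Spec B → Spec A` over a prime. -/
noncomputable def fibDim (A B : Type u) [CommRing A] [CommRing B] [Algebra A B]
    (p : PrimeSpectrum A) : WithBot ℕ∞ :=
  ringKrullDim (p.asIdeal.ResidueField ⊗[A] B)

/-- the fibre dimension can be computed over any field with the right kernel. -/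
theorem ringKrullDim_tensor_eq_fibDim (A B L : Type u) [CommRing A] [CommRing B] [Algebra A B]
    [Algebra.FiniteType A B] [Field L] [Algebra A L] (p : PrimeSpectrum A)
    (hp : RingHom.ker (algebraMap A L) = p.asIdeal) :
    ringKrullDim (L ⊗[A] B) = fibDim A B p := by
  letI : Algebra p.asIdeal.ResidueField L :=
    (Ideal.ResidueField.lift p.asIdeal (algebraMap A L) hp.ge (by
      intro x hx
      rw [Submonoid.mem_comap, IsUnit.mem_submonoid_iff, isUnit_iff_ne_zero]
      intro h0
      exact hx (hp ▸ h0))).toAlgebra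
  haveI : IsScalarTower A p.asIdeal.ResidueField L := IsScalarTower.of_algebraMap_eq (fun x =>
    (Ideal.ResidueField.lift_algebraMap p.asIdeal (algebraMap A L) hp.ge _ x).symm)
  rw [fibDim, ← ringKrullDim_tensor_field p.asIdeal.ResidueField (p.asIdeal.ResidueField ⊗[A] B) L]
  exact (ringKrullDim_eq_of_ringEquiv
    (Algebra.TensorProduct.cancelBaseChange A p.asIdeal.ResidueField L L B).toRingEquiv).symm


/-- a function with constructible fibres and finite range. -/
def CFun {X T : Type*} [TopologicalSpace X] (h : X → T) : Prop :=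
  (∀ t, IsConstructible (h ⁻¹' {t})) ∧ (Set.range h).Finite

theorem CFun.comp {X T T' : Type*} [TopologicalSpace X] {h : X → T} (hh : CFun h) (φ : T → T') :
    CFun (φ ∘ h) := by
  classical
  refine ⟨fun c => ?_, (hh.2.image φ).subset ?_⟩
  · have : (φ ∘ h) ⁻¹' {c} = ⋃ a ∈ {a ∈ Set.range h | φ a = c}, h ⁻¹' {a} := by
      ext x
      simp only [Set.mem_preimage, Function.comp_apply, Set.mem_singleton_iff, Set.mem_iUnion,
        Set.mem_setOf_eq, exists_prop]
      constructor
      · intro hx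
        exact ⟨h x, ⟨⟨x, rfl⟩, hx⟩, rfl⟩
      · rintro ⟨a, ⟨-, ha⟩, rfl⟩
        exact ha
    rw [this]
    exact IsConstructible.biUnion (hh.2.subset (fun a ha => ha.1)) (fun a _ => hh.1 a)
  · rintro _ ⟨x, rfl⟩
    exact ⟨h x, ⟨x, rfl⟩, rfl⟩

theorem CFun.prod {X T T' : Type*} [TopologicalSpace X] {h : X → T} {h' : X → T'} (hh : CFun h)
    (hh' : CFun h') : CFun (fun x => (h x, h' x)) := by
  refine ⟨fun c => ?_, (hh.2.prod hh'.2).subset ?_⟩
  · have : (fun x => (h x, h' x)) ⁻¹' {c} = h ⁻¹' {c.1} ∩ h' ⁻¹' {c.2} := by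
      ext x
      simp [Prod.ext_iff]
    rw [this]
    exact (hh.1 _).inter (hh'.1 _)
  · rintro _ ⟨x, rfl⟩
    exact ⟨⟨x, rfl⟩, ⟨x, rfl⟩⟩

theorem CFun.const {X T : Type*} [TopologicalSpace X] (c : T) : CFun (fun _ : X => c) := by
  classical
  refine ⟨fun t => ?_, (Set.finite_singleton c).subset ?_⟩
  · by_cases h : c = t
    · have : (fun _ : X => c) ⁻¹' {t} = Set.univ := by
        ext x; simp [h]
      rw [this]; exact IsConstructible.univ
    · have : (fun _ : X => c) ⁻¹' {t} = ∅ := by
        ext x; simp [h]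
      rw [this]; exact IsConstructible.empty
  · rintro _ ⟨x, rfl⟩
    rfl

theorem CFun.finset_sup {X T ι : Type*} [TopologicalSpace X] [SemilatticeSup T] [OrderBot T]
    (s : Finset ι) (d : ι → X → T) (h : ∀ i ∈ s, CFun (d i)) :
    CFun (fun x => s.sup (fun i => d i x)) := by
  classical
  induction s using Finset.induction_on with
  | empty => simpa using CFun.const (X := X) (⊥ : T)
  | insert a s ha ih =>
    have h1 := h a (Finset.mem_insert_self a s)
    have h2 := ih (fun i hi => h i (Finset.mem_insert_of_mem hi))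
    have := (h1.prod h2).comp (fun p : T × T => p.1 ⊔ p.2)
    convert this using 1
    funext x
    simp [Finset.sup_insert]


/-- over a noetherian base, the fibre dimension is a constructible function. -/
theorem isConstructible_fibDim_of_isNoetherianRing (A B : Type u) [CommRing A] [CommRing B]
    [Algebra A B] [IsNoetherianRing A] [Algebra.FiniteType A B] :
    CFun (fibDim A B) := by
  unfold CFun
  rw [Groth.Agent.H8.CNoeth.constructible_map_iff]
  intro Y hYc hYi
  have hq : (PrimeSpectrum.vanishingIdeal Y).IsPrime :=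
    (PrimeSpectrum.isIrreducible_iff_vanishingIdeal_isPrime).mp hYi
  set q : PrimeSpectrum A := ⟨PrimeSpectrum.vanishingIdeal Y, hq⟩ with hqdef
  have hY : Y = PrimeSpectrum.zeroLocus (q.asIdeal : Set A) := by
    rw [hqdef]
    simp only
    rw [PrimeSpectrum.zeroLocus_vanishingIdeal_eq_closure, hYc.closure_eq]
  have hqY : q ∈ Y := by
    rw [hY, PrimeSpectrum.mem_zeroLocus]
  obtain ⟨g, hg, H⟩ := exists_forall_ringKrullDim_tensor_eq' A B q.asIdeal.ResidueField
  have hgq : g ∉ q.asIdeal := fun h => hg ((Ideal.algebraMap_residueField_eq_zero).mpr h)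
  refine ⟨PrimeSpectrum.basicOpen g, (PrimeSpectrum.basicOpen g).isOpen, ⟨q, hgq, hqY⟩, ?_⟩
  have key : ∀ a ∈ (PrimeSpectrum.basicOpen g : Set (PrimeSpectrum A)) ∩ Y,
      fibDim A B a = ringKrullDim (q.asIdeal.ResidueField ⊗[A] B) := by
    rintro a ⟨hag, haY⟩
    rw [hY, PrimeSpectrum.mem_zeroLocus] at haY
    refine H a.asIdeal.ResidueField ?_ ?_
    · intro r hr
      rw [Ideal.algebraMap_residueField_eq_zero] at hr ⊢
      exact haY hr
    · rw [Ne, Ideal.algebraMap_residueField_eq_zero]
      exact hag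
  intro a ha b hb
  rw [key a ha, key b hb]


/-- the fibre dimension is compatible with base change. -/
theorem fibDim_baseChange (A₀ B₀ A B : Type u) [CommRing A₀] [CommRing B₀] [Algebra A₀ B₀]
    [Algebra.FiniteType A₀ B₀] [CommRing A] [Algebra A₀ A] [CommRing B] [Algebra A B]
    (e : A ⊗[A₀] B₀ ≃ₐ[A] B) (p : PrimeSpectrum A) :
    fibDim A B p = fibDim A₀ B₀ (PrimeSpectrum.comap (algebraMap A₀ A) p) := by
  rw [← ringKrullDim_tensor_eq_fibDim A₀ B₀ p.asIdeal.ResidueField
    (PrimeSpectrum.comap (algebraMap A₀ A) p) (by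
      ext x
      rw [RingHom.mem_ker, IsScalarTower.algebraMap_apply A₀ A p.asIdeal.ResidueField,
        Ideal.algebraMap_residueField_eq_zero]
      rfl)]
  rw [fibDim]
  have e1 : p.asIdeal.ResidueField ⊗[A] B ≃ₐ[p.asIdeal.ResidueField]
      p.asIdeal.ResidueField ⊗[A] (A ⊗[A₀] B₀) :=
    Algebra.TensorProduct.congr AlgEquiv.refl e.symm
  rw [ringKrullDim_eq_of_ringEquiv e1.toRingEquiv]
  exact ringKrullDim_eq_of_ringEquiv
    (Algebra.TensorProduct.cancelBaseChange A₀ A p.asIdeal.ResidueField p.asIdeal.ResidueField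
      B₀).toRingEquiv

/-- for a finitely presented algebra the fibre dimension is a constructible function. -/
theorem isConstructible_fibDim (A B : Type u) [CommRing A] [CommRing B]
    [Algebra A B] [Algebra.FinitePresentation A B] :
    CFun (fibDim A B) := by
  classical
  obtain ⟨s, hs⟩ := Groth.Agent.H5.Lim.exists_model_of_finitePresentation A B
  let A₀ : Subalgebra ℤ A := Algebra.adjoin ℤ (s : Set A)
  obtain ⟨B₀, _, _, hfp, ⟨e⟩⟩ := hs A₀ (by
    intro x hx
    exact ⟨⟨x, Algebra.subset_adjoin hx⟩, rfl⟩)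
  haveI : Algebra.FiniteType ℤ A₀ := .adjoin_of_finite s.finite_toSet
  haveI : IsNoetherianRing A₀ := Algebra.FiniteType.isNoetherianRing ℤ A₀
  obtain ⟨h1, h2⟩ := isConstructible_fibDim_of_isNoetherianRing A₀ B₀
  have hcomp : fibDim A B = fibDim A₀ B₀ ∘ PrimeSpectrum.comap (algebraMap A₀ A) := by
    funext p
    exact fibDim_baseChange A₀ B₀ A B e p
  constructor
  · intro n
    rw [hcomp, Set.preimage_comp]
    exact AlgebraicGeometry.Scheme.Hom.isConstructible_preimage
      (AlgebraicGeometry.Spec.map (CommRingCat.ofHom (algebraMap A₀ A))) (h1 n)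
  · rw [hcomp]
    exact h2.subset (Set.range_comp_subset_range _ _)


variable {X Y : Scheme.{u}}

/-- the dimension of a fibre over a point of an affine open `W`, computed on a cover of `f⁻¹ W`. -/
theorem fiber_dim_eq_iSup (f : X ⟶ Y) {W : Y.Opens} (s : Set X.affineOpens)
    (hs : f ⁻¹ᵁ W = ⨆ i ∈ s, (i : X.Opens)) (z : Y) (hz : z ∈ W) :
    topologicalKrullDim (f.fiber z) =
      ⨆ i : s, topologicalKrullDim ↥((f.fiberι z) ⁻¹' ((i.1 : X.Opens) : Set X)) := by
  refine Groth.Agent.H3.TopDim.dim_eq_iSup_open_cover (X := f.fiber z)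
    (fun i : s => (f.fiberι z) ⁻¹ᵁ (i.1 : X.Opens)) ?_
  rw [eq_top_iff]
  intro x _
  have hx : f.fiberι z x ∈ f ⁻¹ᵁ W := by
    change f (f.fiberι z x) ∈ W
    rw [fiberι_apply_mem]; exact hz
  rw [hs] at hx
  simp only [Opens.mem_iSup] at hx
  obtain ⟨i, hi, hxi⟩ := hx
  exact Opens.mem_iSup.mpr ⟨⟨i, hi⟩, hxi⟩

/-- the kernel of evaluation at a point of an affine open is the corresponding prime ideal. -/
theorem ker_evaluation {W : Y.Opens} (hW : IsAffineOpen W) (y : Y) (hy : y ∈ W) :
    RingHom.ker (Y.evaluation W y hy).hom = (hW.primeIdealOf ⟨y, hy⟩).asIdeal := by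
  ext g
  rw [RingHom.mem_ker, ← not_iff_not]
  change (Y.evaluation W y hy) g ≠ 0 ↔ _
  rw [Scheme.evaluation_ne_zero_iff_mem_basicOpen]
  have h1 : y ∈ Y.basicOpen g ↔ hW.primeIdealOf ⟨y, hy⟩ ∈ hW.fromSpec ⁻¹ᵁ Y.basicOpen g := by
    change _ ↔ hW.fromSpec (hW.primeIdealOf ⟨y, hy⟩) ∈ Y.basicOpen g
    rw [hW.fromSpec_primeIdealOf]
  rw [h1, hW.fromSpec_preimage_basicOpen]
  rfl

/-- on an affine open of the target, each level set of the fibre dimension is constructible. -/
theorem isConstructible_fiber_dim_affine (f : X ⟶ Y) [LocallyOfFinitePresentation f]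
    [QuasiCompact f] {W : Y.Opens} (hW : IsAffineOpen W) (n : WithBot ℕ∞) :
    IsConstructible
      (Subtype.val ⁻¹' {y : Y | topologicalKrullDim (f.fiber y) = n} : Set W) := by
  classical
  have hqc : IsCompact (f ⁻¹ᵁ W : Set X) := f.isCompact_preimage hW.isCompact
  obtain ⟨s, hsfin, hs⟩ := isCompact_iff_finite_and_eq_biUnion_affineOpens.mp hqc
  have hle : ∀ i ∈ s, (i : X.Opens) ≤ f ⁻¹ᵁ W := by
    intro i hi
    rw [hs]
    exact le_iSup₂ (f := fun (i : X.affineOpens) (_ : i ∈ s) => (i : X.Opens)) i hi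
  haveI : Fintype s := hsfin.fintype
  -- the fibre dimension functions of the pieces
  let d : s → PrimeSpectrum Γ(Y, W) → WithBot ℕ∞ := fun i =>
    @fibDim Γ(Y, W) Γ(X, (i.1 : X.Opens)) _ _ (f.appLE W i.1 (hle i.1 i.2)).hom.toAlgebra
  have hd : ∀ i, CFun (d i) := by
    intro i
    letI := (f.appLE W i.1 (hle i.1 i.2)).hom.toAlgebra
    haveI : Algebra.FinitePresentation Γ(Y, W) Γ(X, (i.1 : X.Opens)) :=
      f.finitePresentation_appLE hW i.1.2 (hle i.1 i.2)
    exact isConstructible_fibDim Γ(Y, W) Γ(X, (i.1 : X.Opens))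
  have hD := CFun.finset_sup (Finset.univ : Finset s) d (fun i _ => hd i)
  -- identify
  have key : ∀ y : W, topologicalKrullDim (f.fiber y.1) =
      (Finset.univ : Finset s).sup (fun i => d i (hW.primeIdealOf y)) := by
    rintro ⟨y, hy⟩
    rw [fiber_dim_eq_iSup f s hs y hy, Finset.sup_univ_eq_iSup]
    congr 1
    funext i
    letI := (f.appLE W i.1 (hle i.1 i.2)).hom.toAlgebra
    letI := (Y.evaluation W y hy).hom.toAlgebra
    haveI : Algebra.FiniteType Γ(Y, W) Γ(X, (i.1 : X.Opens)) :=
      LocallyOfFiniteType.finiteType_appLE f hW i.1.2 (hle i.1 i.2)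
    rw [topologicalKrullDim_fiberPiece f i.1.2 hW (hle i.1 i.2) y hy]
    exact ringKrullDim_tensor_eq_fibDim Γ(Y, W) Γ(X, (i.1 : X.Opens)) (Y.residueField y)
      (hW.primeIdealOf ⟨y, hy⟩) (ker_evaluation hW y hy)
  have hpre : (Subtype.val ⁻¹' {y : Y | topologicalKrullDim (f.fiber y) = n} : Set W) =
      (fun y : W => hW.primeIdealOf y) ⁻¹'
        ((fun p => (Finset.univ : Finset s).sup (fun i => d i p)) ⁻¹' {n}) := by
    ext y
    change topologicalKrullDim (f.fiber y.1) = n ↔
      (Finset.univ : Finset s).sup (fun i => d i (hW.primeIdealOf y)) = n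
    rw [key y]
  rw [hpre]
  exact (hD.1 n).preimage_of_isOpenEmbedding (hW.isoSpec.hom.homeomorph.isOpenEmbedding)


/-- **Level sets of the fibre dimension are locally constructible.** -/
theorem isLocallyConstructible_fiber_dim (f : X ⟶ Y) [LocallyOfFinitePresentation f]
    [QuasiCompact f] (n : WithBot ℕ∞) :
    IsLocallyConstructible {y : Y | topologicalKrullDim (f.fiber y) = n} := by
  intro y₀
  obtain ⟨_, ⟨W, hW, rfl⟩, hyW, -⟩ :=
    Y.isBasis_affineOpens.exists_subset_of_mem_open (Set.mem_univ y₀) isOpen_univ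
  exact ⟨W, W.isOpen.mem_nhds hyW, W.isOpen, isConstructible_fiber_dim_affine f hW n⟩

end Groth.Agent.H1.FibDim
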