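import Mathlib
import Groth.Agent.Lib.Helper1.GenFib1

/-!
# Spreading out from affine pieces (helper1)

A quasi-compact morphism to an irreducible scheme: a property which holds near the generic point
for each affine piece holds near the generic point for finitely many pieces covering the preimage
of an affine open.
-/

set_option autoImplicit false
universe u

namespace Groth.Agent.H1.GenFib

open AlgebraicGeometry CategoryTheory Limits TopologicalSpace

variable {X Y : Scheme.{u}}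

theorem exists_cover_of_forall_affine (f : X ⟶ Y) [IrreducibleSpace Y] [QuasiCompact f]
    (P : X.Opens → Y → Prop)
    (H : ∀ {U : X.Opens} {W : Y.Opens} (_ : IsAffineOpen U) (_ : IsAffineOpen W)
      (_ : U ≤ f ⁻¹ᵁ W) (_ : genericPoint Y ∈ W),
      ∃ g : Γ(Y, W), genericPoint Y ∈ Y.basicOpen g ∧ ∀ y ∈ Y.basicOpen g, P U y) :
    ∃ (W : Y.Opens) (_ : IsAffineOpen W) (s : Set X.affineOpens), s.Finite ∧
      (f ⁻¹ᵁ W = ⨆ i ∈ s, (i : X.Opens)) ∧
      ∃ V : Y.Opens, genericPoint Y ∈ V ∧ V ≤ W ∧ ∀ y ∈ V, ∀ i ∈ s, P (i : X.Opens) y := by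
  classical
  obtain ⟨W, hW, hηW⟩ := exists_isAffineOpen_genericPoint_mem Y
  have hqc : IsCompact (f ⁻¹ᵁ W : Set X) := f.isCompact_preimage hW.isCompact
  obtain ⟨s, hsfin, hs⟩ := isCompact_iff_finite_and_eq_biUnion_affineOpens.mp hqc
  have hle : ∀ i ∈ s, (i : X.Opens) ≤ f ⁻¹ᵁ W := by
    intro i hi
    rw [hs]
    exact le_iSup₂ (f := fun (i : X.affineOpens) (_ : i ∈ s) => (i : X.Opens)) i hi
  have H' : ∀ i : s, ∃ g : Γ(Y, W), genericPoint Y ∈ Y.basicOpen g ∧ ∀ y ∈ Y.basicOpen g,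
      P (i.1 : X.Opens) y := fun i => H i.1.2 hW (hle i.1 i.2) hηW
  choose g hgη hg using H'
  haveI : Fintype s := hsfin.fintype
  refine ⟨W, hW, s, hsfin, hs, Y.basicOpen (∏ i, g i), ?_, Y.basicOpen_le _, ?_⟩
  · rw [← Scheme.evaluation_ne_zero_iff_mem_basicOpen Y _ hηW, map_prod]
    exact Finset.prod_ne_zero_iff.mpr (fun i _ =>
      (Scheme.evaluation_ne_zero_iff_mem_basicOpen Y _ hηW (g i)).mpr (hgη i))
  · intro y hy i hi
    have hyW : y ∈ W := Y.basicOpen_le _ hy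
    have hyi : y ∈ Y.basicOpen (g ⟨i, hi⟩) := by
      rw [← Scheme.evaluation_ne_zero_iff_mem_basicOpen Y y hyW]
      have h1 := (Scheme.evaluation_ne_zero_iff_mem_basicOpen Y y hyW _).mpr hy
      rw [map_prod] at h1
      exact Finset.prod_ne_zero_iff.mp h1 ⟨i, hi⟩ (Finset.mem_univ _)
    exact hg ⟨i, hi⟩ y hyi

/-- membership in the cover. -/
theorem exists_mem_of_mem_preimage (f : X ⟶ Y) {W : Y.Opens} {s : Set X.affineOpens}
    (hs : f ⁻¹ᵁ W = ⨆ i ∈ s, (i : X.Opens)) (x : X) (hx : f x ∈ W) :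
    ∃ i ∈ s, x ∈ (i : X.Opens) := by
  have hx' : x ∈ f ⁻¹ᵁ W := hx
  rw [hs] at hx'
  simp only [Opens.mem_iSup] at hx'
  obtain ⟨i, hi, hxi⟩ := hx'
  exact ⟨i, hi, hxi⟩

theorem le_preimage_of_mem (f : X ⟶ Y) {W : Y.Opens} {s : Set X.affineOpens}
    (hs : f ⁻¹ᵁ W = ⨆ i ∈ s, (i : X.Opens)) (i : X.affineOpens) (hi : i ∈ s) :
    (i : X.Opens) ≤ f ⁻¹ᵁ W := by
  rw [hs]
  exact le_iSup₂ (f := fun (i : X.affineOpens) (_ : i ∈ s) => (i : X.Opens)) i hi

end Groth.Agent.H1.GenFib
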