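import Mathlib
import Groth.Agent.Lib.Helper1.GenFib1
import Groth.Agent.Lib.Helper1.GenFibAlg1
import Groth.Agent.Lib.Helper1.GenFibCover

/-!
# Fibres near the generic point lie in the closure of the generic fibre (helper1)
-/

set_option autoImplicit false
universe u

namespace Groth.Agent.H1.GenFib

open TensorProduct

/-- if `1 ⊗ b = 0` in `(R ⧸ I) ⊗ A` with `I` a nil ideal, then `b` is nilpotent. -/
lemma isNilpotent_of_one_tmul_quotient_eq_zero {R A : Type*} [CommRing R] [CommRing A]
    [Algebra R A] (I : Ideal R) (hI : ∀ r ∈ I, IsNilpotent r) (b : A)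
    (h : (1 : R ⧸ I) ⊗ₜ[R] b = 0) : IsNilpotent b := by
  have h1 : (Submodule.Quotient.mk b : A ⧸ (I • ⊤ : Submodule R A)) = 0 := by
    have := congrArg (TensorProduct.quotTensorEquivQuotSMul A I) h
    rw [map_zero] at this
    rw [← this]
    change _ = TensorProduct.quotTensorEquivQuotSMul A I ((Ideal.Quotient.mk I 1) ⊗ₜ[R] b)
    rw [TensorProduct.quotTensorEquivQuotSMul_mk_tmul, one_smul]
  rw [Submodule.Quotient.mk_eq_zero] at h1
  have hle : (I • ⊤ : Submodule R A) ≤ (nilradical A).restrictScalars R := by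
    rw [Submodule.smul_le]
    intro r hr m _
    change r • m ∈ nilradical A
    rw [Algebra.smul_def]
    exact Ideal.mul_mem_right _ _ (mem_nilradical.mpr ((hI r hr).map (algebraMap R A)))
  exact mem_nilradical.mp (hle h1)

/-- **Torsion is generically nilpotent**: for a finite type algebra over a ring with irreducible
spectrum, elements dying on the generic fibre become nilpotent after multiplying by a power of a
single element invertible at the generic point. -/
theorem exists_forall_isNilpotent_of_one_tmul_eq_zero (R A K : Type u) [CommRing R] [CommRing A]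
    [Algebra R A] [Algebra.FiniteType R A] [Field K] [Algebra R K]
    (hker : ∀ r : R, algebraMap R K r = 0 → IsNilpotent r) :
    ∃ g : R, algebraMap R K g ≠ 0 ∧ ∀ a : A, (1 : K) ⊗ₜ[R] a = 0 →
      ∃ n : ℕ, IsNilpotent (g ^ n • a) := by
  classical
  set I : Ideal R := RingHom.ker (algebraMap R K) with hI
  haveI : I.IsPrime := RingHom.ker_isPrime _
  letI : Algebra (R ⧸ I) K := (RingHom.kerLift (algebraMap R K)).toAlgebra
  haveI : IsScalarTower R (R ⧸ I) K := IsScalarTower.of_algebraMap_eq (fun x => rfl)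
  have hinjK : Function.Injective (algebraMap (R ⧸ I) K) := RingHom.kerLift_injective _
  obtain ⟨f, hF, hgood⟩ := GenFree.exists_good (R := R ⧸ I) (S := (R ⧸ I) ⊗[R] A)
    (M := (R ⧸ I) ⊗[R] A) 1 one_ne_zero
  set F : R ⧸ I := 1 * f with hFdef
  have hfree : Module.Free (Localization.Away F) (Localization.Away F ⊗[R ⧸ I] ((R ⧸ I) ⊗[R] A)) :=
    hgood.free_tensor_self
  let b := Module.Free.chooseBasis (Localization.Away F)
    (Localization.Away F ⊗[R ⧸ I] ((R ⧸ I) ⊗[R] A))
  have hFK : algebraMap (R ⧸ I) K F ≠ 0 := fun h => hF (hinjK (by rw [h, map_zero]))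
  letI : Algebra (Localization.Away F) K :=
    (IsLocalization.Away.lift (S := Localization.Away F) F (g := algebraMap (R ⧸ I) K)
      (IsUnit.mk0 _ hFK)).toAlgebra
  haveI : IsScalarTower (R ⧸ I) (Localization.Away F) K :=
    IsScalarTower.of_algebraMap_eq (fun x =>
      (IsLocalization.Away.lift_eq (S := Localization.Away F) F (g := algebraMap (R ⧸ I) K)
        (IsUnit.mk0 _ hFK) x).symm)
  have hinjD : Function.Injective (algebraMap (Localization.Away F) K) := by
    change Function.Injective (IsLocalization.Away.lift (S := Localization.Away F) F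
      (g := algebraMap (R ⧸ I) K) (IsUnit.mk0 _ hFK))
    unfold IsLocalization.Away.lift
    rw [IsLocalization.lift_injective_iff]
    intro x y
    constructor
    · intro h
      have := congrArg (algebraMap (Localization.Away F) K) h
      rwa [← IsScalarTower.algebraMap_apply, ← IsScalarTower.algebraMap_apply] at this
    · intro h
      rw [hinjK h]
  obtain ⟨g, hg⟩ := Ideal.Quotient.mk_surjective F
  refine ⟨g, ?_, ?_⟩
  · have : algebraMap R K g = algebraMap (R ⧸ I) K F := by rw [← hg]; rfl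
    rw [this]; exact hFK
  · intro a ha
    -- the image of `a` in the free module
    set m : Localization.Away F ⊗[R ⧸ I] ((R ⧸ I) ⊗[R] A) :=
      (1 : Localization.Away F) ⊗ₜ[R ⧸ I] ((1 : R ⧸ I) ⊗ₜ[R] a) with hm
    have h1 : (1 : K) ⊗ₜ[Localization.Away F] m = 0 := by
      apply (Algebra.TensorProduct.cancelBaseChange (R ⧸ I) (Localization.Away F) K K
        ((R ⧸ I) ⊗[R] A)).injective
      rw [map_zero, hm, Algebra.TensorProduct.cancelBaseChange_tmul, one_smul]
      apply (Algebra.TensorProduct.cancelBaseChange R (R ⧸ I) K K A).injective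
      rw [map_zero, Algebra.TensorProduct.cancelBaseChange_tmul, one_smul]
      exact ha
    have hm0 : m = 0 := by
      by_contra hne
      obtain ⟨i₀, hi₀⟩ : ∃ i, b.repr m i ≠ 0 := by
        by_contra hcon
        push Not at hcon
        apply hne
        apply b.repr.injective
        ext i
        simpa using hcon i
      exact one_tmul_ne_zero_of_repr b m i₀
        (fun h0 => hi₀ (hinjD (by rw [h0, map_zero]))) h1
    obtain ⟨c, hc⟩ := (one_tmul_eq_zero_iff (Submonoid.powers F) _).mp hm0
    obtain ⟨n, hn⟩ := c.2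
    refine ⟨n, ?_⟩
    apply isNilpotent_of_one_tmul_quotient_eq_zero I (fun r hr => hker r hr)
    rw [Submonoid.smul_def, ← hn] at hc
    rw [← hc, TensorProduct.smul_tmul', ← TensorProduct.smul_tmul]
    congr 1
    change g ^ n • (1 : R ⧸ I) = F ^ n • (1 : R ⧸ I)
    rw [Algebra.smul_def, mul_one, smul_eq_mul, mul_one, ← hg, ← map_pow]
    rfl

open AlgebraicGeometry CategoryTheory Limits TopologicalSpace

variable {X Y : Scheme.{u}}

/-- near the generic point, the points of an affine piece lie in the closure of the generic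
fibre. -/
theorem exists_basicOpen_subset_closure (f : X ⟶ Y) [IrreducibleSpace Y] [LocallyOfFiniteType f]
    {U : X.Opens} {W : Y.Opens} (hU : IsAffineOpen U) (hW : IsAffineOpen W) (e : U ≤ f ⁻¹ᵁ W)
    (hη : genericPoint Y ∈ W) :
    ∃ g : Γ(Y, W), genericPoint Y ∈ Y.basicOpen g ∧ ∀ x ∈ U, f x ∈ Y.basicOpen g →
      x ∈ closure (Set.range (f.fiberι (genericPoint Y))) := by
  letI algA := (f.appLE W U e).hom.toAlgebra
  letI algK := (Y.evaluation W (genericPoint Y) hη).hom.toAlgebra
  haveI : Algebra.FiniteType Γ(Y, W) Γ(X, U) := f.finiteType_appLE hW hU e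
  obtain ⟨g, hg, H⟩ := exists_forall_isNilpotent_of_one_tmul_eq_zero Γ(Y, W) Γ(X, U)
    (Y.residueField (genericPoint Y))
    (fun r hr => isNilpotent_of_evaluation_genericPoint hW hη r hr)
  refine ⟨g, (Scheme.evaluation_ne_zero_iff_mem_basicOpen Y _ hη g).mp hg, ?_⟩
  intro x hxU hfx
  have sq := (CommRingCat.isPushout_tensorProduct Γ(Y, W) (Y.residueField (genericPoint Y))
    Γ(X, U)).flip
  obtain ⟨j, -, hj1, -, -⟩ := exists_fiberPiece f hU hW e (genericPoint Y) hη _ _ sq
  set P : Spec Γ(X, U) := hU.primeIdealOf ⟨x, hxU⟩ with hP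
  have hPx : hU.fromSpec P = x := hU.fromSpec_primeIdealOf ⟨x, hxU⟩
  have hgP : algebraMap Γ(Y, W) Γ(X, U) g ∉ P.asIdeal := by
    intro hmem
    have h1 : (Spec.map (f.appLE W U e) ≫ hW.fromSpec) P = f x := by
      rw [IsAffineOpen.SpecMap_appLE_fromSpec f hW hU e, Scheme.Hom.comp_apply, hPx]
    have h2 : (Spec.map (f.appLE W U e)) P ∈ hW.fromSpec ⁻¹ᵁ Y.basicOpen g := by
      change hW.fromSpec (Spec.map (f.appLE W U e) P) ∈ Y.basicOpen g
      rw [← Scheme.Hom.comp_apply, h1]; exact hfx
    rw [hW.fromSpec_preimage_basicOpen] at h2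
    exact h2 hmem
  have key : ∀ Q : PrimeSpectrum Γ(X, U), algebraMap Γ(Y, W) Γ(X, U) g ∉ Q.asIdeal →
      Q ∈ closure (Set.range (PrimeSpectrum.comap (Algebra.TensorProduct.includeRight :
        Γ(X, U) →ₐ[Γ(Y, W)] (Y.residueField (genericPoint Y)) ⊗[Γ(Y, W)] Γ(X, U)).toRingHom)) := by
    intro Q hQ
    rw [PrimeSpectrum.closure_range_comap, PrimeSpectrum.mem_zeroLocus]
    intro a ha
    have ha' : (1 : Y.residueField (genericPoint Y)) ⊗ₜ[Γ(Y, W)] a = 0 := by
      have h0 := SetLike.mem_coe.mp ha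
      rw [RingHom.mem_ker] at h0
      exact h0
    obtain ⟨n, hn⟩ := H a ha'
    have h3 : g ^ n • a ∈ Q.asIdeal := by
      obtain ⟨k, hk⟩ := hn
      exact Q.isPrime.mem_of_pow_mem k (by rw [hk]; exact Q.asIdeal.zero_mem)
    rw [Algebra.smul_def, map_pow] at h3
    rcases Q.isPrime.mem_or_mem h3 with h | h
    · exact absurd (Q.isPrime.mem_of_pow_mem n h) hQ
    · exact h
  have hPcl : P ∈ closure (Set.range (Spec.map (CommRingCat.ofHom
      (S := (Y.residueField (genericPoint Y)) ⊗[Γ(Y, W)] Γ(X, U))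
      (Algebra.TensorProduct.includeRight :
        Γ(X, U) →ₐ[Γ(Y, W)] (Y.residueField (genericPoint Y)) ⊗[Γ(Y, W)] Γ(X, U)).toRingHom))) :=
    key P hgP
  have h4 := image_closure_subset_closure_image hU.fromSpec.continuous ⟨P, hPcl, hPx⟩
  refine closure_mono ?_ h4
  rintro _ ⟨_, ⟨q, rfl⟩, rfl⟩
  exact ⟨j q, by rw [← Scheme.Hom.comp_apply, hj1, Scheme.Hom.comp_apply]⟩

/-- **Near the generic point, all fibres lie in the closure of the generic fibre.** -/
theorem exists_open_preimage_subset_closure (f : X ⟶ Y) [IrreducibleSpace Y]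
    [LocallyOfFiniteType f] [QuasiCompact f] :
    ∃ V : Y.Opens, genericPoint Y ∈ V ∧ ∀ x : X, f x ∈ V →
      x ∈ closure (Set.range (f.fiberι (genericPoint Y))) := by
  obtain ⟨W, hW, s, -, hs, V, hηV, hVW, hV⟩ := exists_cover_of_forall_affine f
    (fun U y => ∀ x ∈ U, f x = y → x ∈ closure (Set.range (f.fiberι (genericPoint Y))))
    (fun {U W} hU hW e hη => by
      obtain ⟨g, hg, H⟩ := exists_basicOpen_subset_closure f hU hW e hη
      exact ⟨g, hg, fun y hy x hx hfx => H x hx (by rw [hfx]; exact hy)⟩)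
  refine ⟨V, hηV, ?_⟩
  intro x hx
  obtain ⟨i, hi, hxi⟩ := exists_mem_of_mem_preimage f hs x (hVW hx)
  exact hV (f x) hx i hi x hxi rfl

end Groth.Agent.H1.GenFib
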