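import Mathlib
import Groth.Agent.Lib.Helper1.GenFibAlg1

/-!
# Nonzerodivisors on the generic fibre spread out (helper1)
-/

set_option autoImplicit false
universe u

namespace Groth.Agent.H1.GenFib

open TensorProduct

/-- For a free module over `D` and an injective map `D → K` to a field, `m ↦ 1 ⊗ m` is
injective. -/
lemma eq_zero_of_one_tmul_eq_zero_of_free {D K M : Type*} [CommRing D] [Field K] [Algebra D K]
    [AddCommGroup M] [Module D M] [Module.Free D M]
    (hinj : Function.Injective (algebraMap D K)) (m : M) (h : (1 : K) ⊗ₜ[D] m = 0) : m = 0 := by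
  classical
  let b := Module.Free.chooseBasis D M
  by_contra hne
  obtain ⟨i₀, hi₀⟩ : ∃ i, b.repr m i ≠ 0 := by
    by_contra hcon
    push Not at hcon
    apply hne
    apply b.repr.injective
    ext i
    simpa using hcon i
  exact one_tmul_ne_zero_of_repr b m i₀ (fun h0 => hi₀ (hinj (by rw [h0, map_zero]))) h

/-- the injective map `R_F → K` for a domain `R` with fraction field... (any injective `R → K`). -/
lemma injective_away_lift {R K : Type*} [CommRing R] [Field K] [Algebra R K]
    (hinj : Function.Injective (algebraMap R K)) (F : R) (hF : algebraMap R K F ≠ 0) :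
    Function.Injective (IsLocalization.Away.lift (S := Localization.Away F) F
      (g := algebraMap R K) (IsUnit.mk0 _ hF)) := by
  unfold IsLocalization.Away.lift
  rw [IsLocalization.lift_injective_iff]
  intro x y
  constructor
  · intro h
    have := congrArg (IsLocalization.lift (M := Submonoid.powers F) (S := Localization.Away F)
      (g := algebraMap R K) (fun y : Submonoid.powers F => by
        obtain ⟨_, n, rfl⟩ := y
        rw [map_pow]
        exact (IsUnit.mk0 _ hF).pow n)) h
    rwa [IsLocalization.lift_eq, IsLocalization.lift_eq] at this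
  · intro h
    rw [hinj h]

/-- **Flat step**: a nonzerodivisor with flat cokernel stays a nonzerodivisor after any base
change. -/
theorem nzd_tensor_of_flat_coker {D B Q : Type*} [CommRing D] [CommRing B] [Algebra D B]
    [AddCommGroup Q] [Module D Q] [Module.Flat D Q] (b : B) (π : B →ₗ[D] Q)
    (hπ : Function.Surjective π) (hex : Function.Exact (LinearMap.mulLeft D b) π)
    (hb : ∀ z : B, b * z = 0 → z = 0) (L : Type*) [CommRing L] [Algebra D L]
    (z : L ⊗[D] B) (hz : ((1 : L) ⊗ₜ[D] b) * z = 0) : z = 0 := by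
  have hinj : Function.Injective (LinearMap.mulLeft D b) := by
    rw [injective_iff_map_eq_zero]
    intro x hx
    exact hb x hx
  have h1 := LinearMap.lTensor_injective_of_exact_of_flat π hπ (LinearMap.mulLeft D b) hinj hex L
  have h2 : ∀ w : L ⊗[D] B, (LinearMap.mulLeft D b).lTensor L w = ((1 : L) ⊗ₜ[D] b) * w := by
    intro w
    induction w using TensorProduct.induction_on with
    | zero => simp
    | tmul l x =>
      rw [LinearMap.lTensor_tmul, Algebra.TensorProduct.tmul_mul_tmul, one_mul]
      rfl
    | add w1 w2 h1 h2 => rw [map_add, mul_add, h1, h2]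
  apply h1
  rw [h2, hz, map_zero]

/-- Nonzerodivisors on the generic fibre spread out: domain case. -/
theorem exists_forall_nzd_of_isDomain (R A K : Type u) [CommRing R] [IsDomain R] [CommRing A]
    [Algebra R A] [Algebra.FiniteType R A] [Field K] [Algebra R K]
    (hinjK : Function.Injective (algebraMap R K)) (a : A)
    (h : ∀ z : K ⊗[R] A, ((1 : K) ⊗ₜ[R] a) * z = 0 → z = 0) :
    ∃ g : R, g ≠ 0 ∧ ∀ (L : Type u) [Field L] [Algebra R L], algebraMap R L g ≠ 0 →
      ∀ z : L ⊗[R] A, ((1 : L) ⊗ₜ[R] a) * z = 0 → z = 0 := by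
  classical
  obtain ⟨f, hF, hgood⟩ := GenFree.exists_good (R := R) (S := A) (M := A ⧸ Ideal.span {a})
    1 one_ne_zero
  set F : R := 1 * f with hFdef
  have hfreeS : Module.Free (Localization.Away F) (Localization.Away F ⊗[R] A) :=
    hgood.free_tensor_self
  have hfreeM : Module.Free (Localization.Away F)
      (Localization.Away F ⊗[R] (A ⧸ Ideal.span {a})) := hgood.free_tensor
  have hFK : algebraMap R K F ≠ 0 := fun h0 => hF (hinjK (by rw [h0, map_zero]))
  letI : Algebra (Localization.Away F) K :=
    (IsLocalization.Away.lift (S := Localization.Away F) F (g := algebraMap R K)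
      (IsUnit.mk0 _ hFK)).toAlgebra
  haveI : IsScalarTower R (Localization.Away F) K :=
    IsScalarTower.of_algebraMap_eq (fun x =>
      (IsLocalization.Away.lift_eq (S := Localization.Away F) F (g := algebraMap R K)
        (IsUnit.mk0 _ hFK) x).symm)
  have hinjD : Function.Injective (algebraMap (Localization.Away F) K) :=
    injective_away_lift hinjK F hFK
  -- the maps
  let π : Localization.Away F ⊗[R] A →ₗ[Localization.Away F]
      Localization.Away F ⊗[R] (A ⧸ Ideal.span {a}) :=
    LinearMap.baseChange (Localization.Away F) (Ideal.Quotient.mkₐ R (Ideal.span {a})).toLinearMap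
  have hπ : Function.Surjective π := by
    have : (π : _ → _) = (Ideal.Quotient.mkₐ R (Ideal.span {a})).toLinearMap.lTensor
        (Localization.Away F) := LinearMap.baseChange_eq_ltensor _
    rw [this]
    exact LinearMap.lTensor_surjective _ (Ideal.Quotient.mkₐ_surjective R _)
  have hex0 : Function.Exact (LinearMap.mulLeft R a)
      (Ideal.Quotient.mkₐ R (Ideal.span {a})).toLinearMap := by
    intro y
    change Ideal.Quotient.mk _ y = 0 ↔ _
    rw [Ideal.Quotient.eq_zero_iff_mem, Ideal.mem_span_singleton']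
    constructor
    · rintro ⟨x, hx⟩
      exact ⟨x, by rw [← hx, mul_comm]; rfl⟩
    · rintro ⟨x, hx⟩
      exact ⟨x, by rw [← hx, mul_comm]; rfl⟩
  have hex1 := lTensor_exact (Localization.Away F) hex0 (Ideal.Quotient.mkₐ_surjective R _)
  have hmul : ∀ w : Localization.Away F ⊗[R] A,
      (LinearMap.mulLeft R a).lTensor (Localization.Away F) w =
        ((1 : Localization.Away F) ⊗ₜ[R] a) * w := by
    intro w
    induction w using TensorProduct.induction_on with
    | zero => simp
    | tmul l x =>
      rw [LinearMap.lTensor_tmul, Algebra.TensorProduct.tmul_mul_tmul, one_mul]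
      rfl
    | add w1 w2 h1 h2 => rw [map_add, mul_add, h1, h2]
  have hex : Function.Exact (LinearMap.mulLeft (Localization.Away F)
      ((1 : Localization.Away F) ⊗ₜ[R] a)) π := by
    intro y
    have h1 := hex1 y
    have h2 : π y = (Ideal.Quotient.mkₐ R (Ideal.span {a})).toLinearMap.lTensor
        (Localization.Away F) y := by
      rw [← LinearMap.baseChange_eq_ltensor]
    rw [h2, h1]
    constructor
    · rintro ⟨x, hx⟩
      exact ⟨x, by rw [← hx, hmul]; rfl⟩
    · rintro ⟨x, hx⟩
      exact ⟨x, by rw [← hx, hmul]; rfl⟩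
  -- injectivity over `D`
  have hb : ∀ z : Localization.Away F ⊗[R] A,
      ((1 : Localization.Away F) ⊗ₜ[R] a) * z = 0 → z = 0 := by
    intro z hz
    apply eq_zero_of_one_tmul_eq_zero_of_free (K := K) hinjD
    set e := Algebra.TensorProduct.cancelBaseChange R (Localization.Away F) K K A with he
    apply e.injective
    rw [map_zero]
    apply h
    have h3 : e ((1 : K) ⊗ₜ[Localization.Away F] ((1 : Localization.Away F) ⊗ₜ[R] a)) =
        (1 : K) ⊗ₜ[R] a := by
      rw [he, Algebra.TensorProduct.cancelBaseChange_tmul, one_smul]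
    rw [← h3, ← map_mul, Algebra.TensorProduct.tmul_mul_tmul, one_mul, hz,
      TensorProduct.tmul_zero, map_zero]
  refine ⟨F, hF, ?_⟩
  intro L _ _ hLF z hz
  letI : Algebra (Localization.Away F) L :=
    (IsLocalization.Away.lift (S := Localization.Away F) F (g := algebraMap R L)
      (IsUnit.mk0 _ hLF)).toAlgebra
  haveI : IsScalarTower R (Localization.Away F) L := IsScalarTower.of_algebraMap_eq (fun x =>
    (IsLocalization.Away.lift_eq (S := Localization.Away F) F (g := algebraMap R L)
      (IsUnit.mk0 _ hLF) x).symm)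
  haveI : Module.Flat (Localization.Away F) (Localization.Away F ⊗[R] (A ⧸ Ideal.span {a})) :=
    inferInstance
  set eL := Algebra.TensorProduct.cancelBaseChange R (Localization.Away F) L L A with heL
  obtain ⟨z', rfl⟩ := eL.surjective z
  have h3 : eL ((1 : L) ⊗ₜ[Localization.Away F] ((1 : Localization.Away F) ⊗ₜ[R] a)) =
      (1 : L) ⊗ₜ[R] a := by
    rw [heL, Algebra.TensorProduct.cancelBaseChange_tmul, one_smul]
  rw [← h3, ← map_mul] at hz
  have h4 := eL.injective (hz.trans (map_zero eL).symm)
  rw [nzd_tensor_of_flat_coker _ π hπ hex hb L z' h4, map_zero]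

lemma nzd_transfer {B B' : Type*} [CommRing B] [CommRing B'] (e : B ≃+* B') (b : B)
    (h : ∀ z, b * z = 0 → z = 0) : ∀ z', e b * z' = 0 → z' = 0 := by
  intro z' hz'
  obtain ⟨z, rfl⟩ := e.surjective z'
  rw [← map_mul] at hz'
  rw [h z (e.injective (hz'.trans (map_zero e).symm)), map_zero]

/-- **Nonzerodivisors on the generic fibre spread out** (base with irreducible spectrum). -/
theorem exists_forall_nzd (R A K : Type u) [CommRing R] [CommRing A] [Algebra R A]
    [Algebra.FiniteType R A] [Field K] [Algebra R K]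
    (hker : ∀ r : R, algebraMap R K r = 0 → IsNilpotent r) (a : A)
    (h : ∀ z : K ⊗[R] A, ((1 : K) ⊗ₜ[R] a) * z = 0 → z = 0) :
    ∃ g : R, algebraMap R K g ≠ 0 ∧ ∀ (L : Type u) [Field L] [Algebra R L],
      algebraMap R L g ≠ 0 → ∀ z : L ⊗[R] A, ((1 : L) ⊗ₜ[R] a) * z = 0 → z = 0 := by
  set I : Ideal R := RingHom.ker (algebraMap R K) with hI
  haveI : I.IsPrime := RingHom.ker_isPrime _
  letI : Algebra (R ⧸ I) K := (RingHom.kerLift (algebraMap R K)).toAlgebra
  haveI : IsScalarTower R (R ⧸ I) K := IsScalarTower.of_algebraMap_eq (fun x => rfl)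
  have hinjK : Function.Injective (algebraMap (R ⧸ I) K) := RingHom.kerLift_injective _
  have h' : ∀ z : K ⊗[R ⧸ I] ((R ⧸ I) ⊗[R] A),
      ((1 : K) ⊗ₜ[R ⧸ I] ((1 : R ⧸ I) ⊗ₜ[R] a)) * z = 0 → z = 0 := by
    have := nzd_transfer
      (Algebra.TensorProduct.cancelBaseChange R (R ⧸ I) K K A).symm.toRingEquiv _ h
    intro z hz
    apply this z
    rw [← hz]
    congr 1
  obtain ⟨g', hg', H⟩ := exists_forall_nzd_of_isDomain (R ⧸ I) ((R ⧸ I) ⊗[R] A) K hinjK
    ((1 : R ⧸ I) ⊗ₜ[R] a) h'
  obtain ⟨g, rfl⟩ := Ideal.Quotient.mk_surjective g'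
  have hgI : g ∉ I := fun h0 => hg' ((Ideal.Quotient.eq_zero_iff_mem).mpr h0)
  refine ⟨g, fun h0 => hgI h0, ?_⟩
  intro L _ _ hL
  have hIL : ∀ r ∈ I, algebraMap R L r = 0 := by
    intro r hr
    have hnil : IsNilpotent r := hker r hr
    exact (hnil.map (algebraMap R L)).eq_zero
  letI : Algebra (R ⧸ I) L := (Ideal.Quotient.lift I (algebraMap R L) hIL).toAlgebra
  haveI : IsScalarTower R (R ⧸ I) L := IsScalarTower.of_algebraMap_eq (fun x => rfl)
  have H' := H L (by exact hL)
  have := nzd_transfer (Algebra.TensorProduct.cancelBaseChange R (R ⧸ I) L L A).toRingEquiv _ H'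
  intro z hz
  apply this z
  rw [← hz]
  congr 1
  change (Algebra.TensorProduct.cancelBaseChange R (R ⧸ I) L L A) _ = _
  rw [Algebra.TensorProduct.cancelBaseChange_tmul, one_smul]

end Groth.Agent.H1.GenFib
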