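import Mathlib
import Groth.Agent.Lib.Helper1.GenFibNZD
import Groth.Agent.Lib.Helper1.GenFibClos

/-!
# Nowhere dense closed subsets of the generic fibre spread out (helper1)
-/

set_option autoImplicit false
universe u

namespace Groth.Agent.H1.GenFib

open TensorProduct

/-- `t` is a nonzerodivisor modulo the nilradical. -/
def NZDRed {B : Type*} [CommRing B] (t : B) : Prop := ∀ z : B, IsNilpotent (t * z) → IsNilpotent z

/-- [N4] a closed set containing a `V(t)` with `t` a nonzerodivisor modulo nilpotents is nowhere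
dense. -/
theorem isNowhereDense_zeroLocus_of_nzdRed {B : Type*} [CommRing B] (J : Ideal B) (t : B)
    (ht : t ∈ J) (h : NZDRed t) : IsNowhereDense (PrimeSpectrum.zeroLocus (J : Set B)) := by
  rw [(PrimeSpectrum.isClosed_zeroLocus _).isNowhereDense_iff, Set.eq_empty_iff_forall_notMem]
  intro P hP
  rw [mem_interior] at hP
  obtain ⟨O, hOJ, hO, hPO⟩ := hP
  obtain ⟨_, ⟨c, rfl⟩, hPc, hcO⟩ :=
    PrimeSpectrum.isTopologicalBasis_basic_opens.exists_subset_of_mem_open hPO hO
  have hnil : IsNilpotent (t * c) := by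
    rw [← PrimeSpectrum.basicOpen_eq_bot_iff, PrimeSpectrum.basicOpen_mul]
    ext Q
    simp only [TopologicalSpace.Opens.coe_inf, Set.mem_inter_iff, SetLike.mem_coe,
      TopologicalSpace.Opens.coe_bot, Set.mem_empty_iff_false, iff_false, not_and]
    intro hQt hQc
    have : Q ∈ PrimeSpectrum.zeroLocus (J : Set B) := hOJ (hcO hQc)
    exact hQt (this ht)
  have hc := h c hnil
  have : PrimeSpectrum.basicOpen c = ⊥ := (PrimeSpectrum.basicOpen_eq_bot_iff c).mpr hc
  have hPc' : P ∈ PrimeSpectrum.basicOpen c := hPc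
  rw [this] at hPc'
  exact hPc'

/-- [N1] in a noetherian ring, a nowhere dense `V(J)` contains a `V(t)`, `t ∈ J`, with `t` a
nonzerodivisor modulo nilpotents. -/
theorem exists_nzdRed_of_isNowhereDense {B : Type*} [CommRing B] [IsNoetherianRing B]
    (J : Ideal B) (h : IsNowhereDense (PrimeSpectrum.zeroLocus (J : Set B))) :
    ∃ t ∈ J, NZDRed t := by
  classical
  have hfin := minimalPrimes.finite_of_isNoetherianRing B
  have hJq : ∀ q ∈ minimalPrimes B, ¬ J ≤ q := by
    intro q hq hJq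
    haveI hqp : q.IsPrime := hq.1.1
    -- an element of all other minimal primes, not in `q`
    obtain ⟨t, ht, htq⟩ : ∃ t, (∀ q' ∈ minimalPrimes B, q' ≠ q → t ∈ q') ∧ t ∉ q := by
      by_contra hcon
      push Not at hcon
      have hle : (hfin.toFinset.erase q).inf id ≤ q := by
        intro t ht
        apply hcon t
        intro q' hq' hne
        have := Finset.inf_le (f := id) (Finset.mem_erase.mpr ⟨hne, hfin.mem_toFinset.mpr hq'⟩)
        exact this ht
      obtain ⟨q', hq', hq'q⟩ := (Ideal.IsPrime.inf_le' hqp).mp hle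
      rw [Finset.mem_erase, hfin.mem_toFinset] at hq'
      exact hq'.1 (le_antisymm hq'q (hq.2 hq'.2.1 hq'q))
    have hsub : (PrimeSpectrum.basicOpen t : Set (PrimeSpectrum B)) ⊆
        PrimeSpectrum.zeroLocus (J : Set B) := by
      intro P hP
      obtain ⟨q', hq', hq'P⟩ := Ideal.exists_minimalPrimes_le (I := ⊥) (J := P.asIdeal) bot_le
      have : q' = q := by
        by_contra hne
        exact hP (hq'P (ht q' hq' hne))
      rw [this] at hq'P
      intro x hx
      exact hq'P (hJq hx)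
    have hint : (⟨q, hqp⟩ : PrimeSpectrum B) ∈ interior (PrimeSpectrum.zeroLocus (J : Set B)) :=
      mem_interior.mpr ⟨_, hsub, (PrimeSpectrum.basicOpen t).isOpen, htq⟩
    rw [(PrimeSpectrum.isClosed_zeroLocus _).isNowhereDense_iff] at h
    rw [h] at hint
    exact hint
  -- prime avoidance
  have hav : ¬ ((J : Set B) ⊆ ⋃ i ∈ (↑hfin.toFinset : Set (Ideal B)), (id i : Ideal B)) := by
    rw [Ideal.subset_union_prime (f := id) ⊥ ⊥
      (fun i hi _ _ => (hfin.mem_toFinset.mp hi).1.1)]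
    rintro ⟨q, hq, hJq'⟩
    exact hJq q (hfin.mem_toFinset.mp hq) hJq'
  rw [Set.not_subset] at hav
  obtain ⟨t, htJ, htn⟩ := hav
  refine ⟨t, htJ, ?_⟩
  intro z hz
  rw [← mem_nilradical, nilradical_eq_sInf, Ideal.mem_sInf]
  intro P hP
  haveI : P.IsPrime := hP
  obtain ⟨q, hq, hqP⟩ := Ideal.exists_minimalPrimes_le (I := ⊥) (J := P) bot_le
  haveI hqp : q.IsPrime := hq.1.1
  apply hqP
  have h1 : t * z ∈ q := by
    obtain ⟨k, hk⟩ := hz
    exact hqp.mem_of_pow_mem k (by rw [hk]; exact q.zero_mem)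
  rcases hqp.mem_or_mem h1 with h2 | h2
  · exfalso
    apply htn
    simp only [Set.mem_iUnion]
    exact ⟨q, hfin.mem_toFinset.mpr hq, h2⟩
  · exact h2

section Denominators

variable {R A K : Type*} [CommRing R] [CommRing A] [Algebra R A] [Field K] [Algebra R K]

/-- [N2] clearing denominators in `K ⊗ A` when `K` is generated by fractions from `R`. -/
theorem exists_smul_eq_one_tmul'
    (hfrac : ∀ z : K, ∃ a b : R, algebraMap R K b ≠ 0 ∧ z * algebraMap R K b = algebraMap R K a)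
    (z : K ⊗[R] A) :
    ∃ (s : R) (x : A), algebraMap R K s ≠ 0 ∧ s • z = (1 : K) ⊗ₜ[R] x := by
  induction z using TensorProduct.induction_on with
  | zero => exact ⟨1, 0, by rw [map_one]; exact one_ne_zero, by simp⟩
  | tmul k a =>
    obtain ⟨r, b, hb, hk⟩ := hfrac k
    refine ⟨b, r • a, hb, ?_⟩
    rw [TensorProduct.smul_tmul', Algebra.smul_def, mul_comm, hk, Algebra.algebraMap_eq_smul_one,
      TensorProduct.smul_tmul]
  | add z1 z2 h1 h2 =>
    obtain ⟨s1, x1, hs1, e1⟩ := h1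
    obtain ⟨s2, x2, hs2, e2⟩ := h2
    refine ⟨s1 * s2, s2 • x1 + s1 • x2, by rw [map_mul]; exact mul_ne_zero hs1 hs2, ?_⟩
    rw [smul_add, mul_comm s1 s2, mul_smul, e1, mul_comm s2 s1, mul_smul, e2,
      TensorProduct.tmul_add, TensorProduct.tmul_smul, TensorProduct.tmul_smul]

theorem exists_smul_eq_one_tmul_of_mem_map
    (hfrac : ∀ z : K, ∃ a b : R, algebraMap R K b ≠ 0 ∧ z * algebraMap R K b = algebraMap R K a)
    (J : Ideal A) (t : K ⊗[R] A)
    (ht : t ∈ J.map (Algebra.TensorProduct.includeRight : A →ₐ[R] K ⊗[R] A)) :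
    ∃ (s : R) (a : A), algebraMap R K s ≠ 0 ∧ a ∈ J ∧ s • t = (1 : K) ⊗ₜ[R] a := by
  unfold Ideal.map at ht
  induction ht using Submodule.span_induction with
  | mem t ht =>
    obtain ⟨a, ha, rfl⟩ := ht
    exact ⟨1, a, by rw [map_one]; exact one_ne_zero, ha, by rw [one_smul]; rfl⟩
  | zero => exact ⟨1, 0, by rw [map_one]; exact one_ne_zero, J.zero_mem, by simp⟩
  | add t1 t2 _ _ h1 h2 =>
    obtain ⟨s1, x1, hs1, hx1, e1⟩ := h1
    obtain ⟨s2, x2, hs2, hx2, e2⟩ := h2
    refine ⟨s1 * s2, s2 • x1 + s1 • x2, by rw [map_mul]; exact mul_ne_zero hs1 hs2,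
      J.add_mem (Submodule.smul_of_tower_mem _ _ hx1) (Submodule.smul_of_tower_mem _ _ hx2), ?_⟩
    rw [smul_add, mul_comm s1 s2, mul_smul, e1, mul_comm s2 s1, mul_smul, e2,
      TensorProduct.tmul_add, TensorProduct.tmul_smul, TensorProduct.tmul_smul]
  | smul c t _ h1 =>
    obtain ⟨s1, x1, hs1, hx1, e1⟩ := h1
    obtain ⟨s2, x2, hs2, e2⟩ := exists_smul_eq_one_tmul' hfrac c
    refine ⟨s2 * s1, x2 * x1, by rw [map_mul]; exact mul_ne_zero hs2 hs1,
      J.mul_mem_left _ hx1, ?_⟩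
    rw [smul_eq_mul, mul_smul, ← mul_smul_comm, e1, ← smul_mul_assoc, e2,
      Algebra.TensorProduct.tmul_mul_tmul, one_mul]

end Denominators

lemma nzd_pow {B : Type*} [CommRing B] (t : B) (h : ∀ z, t * z = 0 → z = 0) (m : ℕ) :
    ∀ z, t ^ m * z = 0 → z = 0 := by
  induction m with
  | zero => intro z hz; simpa using hz
  | succ m ih =>
    intro z hz
    apply ih
    apply h
    rw [← mul_assoc, ← pow_succ']
    exact hz

/-- **Nonzerodivisors modulo nilpotents on the generic fibre spread out.** -/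
theorem exists_forall_nzdRed (R A K : Type u) [CommRing R] [CommRing A] [Algebra R A]
    [Algebra.FiniteType R A] [Field K] [Algebra R K]
    (hker : ∀ r : R, algebraMap R K r = 0 → IsNilpotent r)
    (hfrac : ∀ z : K, ∃ a b : R, algebraMap R K b ≠ 0 ∧ z * algebraMap R K b = algebraMap R K a)
    (a : A) (h : NZDRed ((1 : K) ⊗ₜ[R] a)) :
    ∃ g : R, algebraMap R K g ≠ 0 ∧ ∀ (L : Type u) [Field L] [Algebra R L],
      algebraMap R L g ≠ 0 → NZDRed ((1 : L) ⊗ₜ[R] a) := by
  classical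
  haveI : IsNoetherianRing (K ⊗[R] A) := Algebra.FiniteType.isNoetherianRing K (K ⊗[R] A)
  obtain ⟨G, hG⟩ := (IsNoetherian.noetherian (nilradical (K ⊗[R] A)) : (nilradical (K ⊗[R] A)).FG)
  choose s b hs hb using fun z : K ⊗[R] A => exists_smul_eq_one_tmul' (A := A) hfrac z
  have hnilG : ∀ z ∈ G, IsNilpotent ((1 : K) ⊗ₜ[R] b z) := by
    intro z hz
    rw [← hb z]
    have : z ∈ nilradical (K ⊗[R] A) := by rw [← hG]; exact Submodule.subset_span hz
    exact (mem_nilradical.mp this).smul _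
  set n₀ : Ideal A := Ideal.span (b '' (G : Set (K ⊗[R] A))) with hn₀
  -- the extension of `n₀` to `K ⊗ A` is the nilradical
  have hmapK : n₀.map (Algebra.TensorProduct.includeRight : A →ₐ[R] K ⊗[R] A) =
      nilradical (K ⊗[R] A) := by
    apply le_antisymm
    · rw [hn₀, Ideal.map_span, Ideal.span_le]
      rintro _ ⟨_, ⟨z, hz, rfl⟩, rfl⟩
      exact mem_nilradical.mpr (hnilG z hz)
    · rw [← hG]
      change Ideal.span (G : Set (K ⊗[R] A)) ≤ _
      rw [Ideal.span_le]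
      intro z hz
      have h1 : (1 : K) ⊗ₜ[R] b z ∈
          n₀.map (Algebra.TensorProduct.includeRight : A →ₐ[R] K ⊗[R] A) :=
        Ideal.mem_map_of_mem _ (Ideal.subset_span ⟨z, hz, rfl⟩)
      have h2 : z = (algebraMap K (K ⊗[R] A) (algebraMap R K (s z))⁻¹) * ((1 : K) ⊗ₜ[R] b z) := by
        rw [← hb z, ← Algebra.smul_def, ← algebraMap_smul K (s z) z, smul_smul,
          inv_mul_cancel₀ (hs z), one_smul]
      rw [SetLike.mem_coe, h2]
      exact Ideal.mul_mem_left _ _ h1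
  -- torsion becomes nilpotent
  obtain ⟨gT, hgT, HT⟩ := exists_forall_isNilpotent_of_one_tmul_eq_zero R A K hker
  have hmapL : ∀ (L : Type u) [Field L] [Algebra R L], algebraMap R L gT ≠ 0 →
      n₀.map (Algebra.TensorProduct.includeRight : A →ₐ[R] L ⊗[R] A) ≤ nilradical (L ⊗[R] A) := by
    intro L _ _ hL
    rw [hn₀, Ideal.map_span, Ideal.span_le]
    rintro _ ⟨_, ⟨z, hz, rfl⟩, rfl⟩
    obtain ⟨N, hN⟩ := hnilG z hz
    rw [Algebra.TensorProduct.tmul_pow, one_pow] at hN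
    obtain ⟨n, hn⟩ := HT _ hN
    have h1 : IsNilpotent ((1 : L) ⊗ₜ[R] (gT ^ n • b z ^ N)) :=
      hn.map (Algebra.TensorProduct.includeRight : A →ₐ[R] L ⊗[R] A)
    rw [TensorProduct.tmul_smul, ← algebraMap_smul L (gT ^ n)] at h1
    have h2 : IsNilpotent ((1 : L) ⊗ₜ[R] (b z ^ N)) := by
      have := h1.smul ((algebraMap R L (gT ^ n))⁻¹)
      rwa [smul_smul, inv_mul_cancel₀ (by rw [map_pow]; exact pow_ne_zero n hL), one_smul] at this
    have h3 : IsNilpotent (((1 : L) ⊗ₜ[R] b z) ^ N) := by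
      rwa [Algebra.TensorProduct.tmul_pow, one_pow]
    rw [SetLike.mem_coe, mem_nilradical]
    change IsNilpotent ((1 : L) ⊗ₜ[R] b z)
    obtain ⟨k, hk⟩ := h3
    exact ⟨N * k, by rw [pow_mul]; exact hk⟩
  -- the quotient algebra
  haveI : Algebra.FiniteType R (A ⧸ n₀) :=
    Algebra.FiniteType.of_surjective (Ideal.Quotient.mkₐ R n₀) (Ideal.Quotient.mkₐ_surjective R n₀)
  have hK : ∀ z : K ⊗[R] (A ⧸ n₀),
      ((1 : K) ⊗ₜ[R] (Ideal.Quotient.mk n₀ a)) * z = 0 → z = 0 := by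
    have h0 : ∀ w : (K ⊗[R] A) ⧸ n₀.map (Algebra.TensorProduct.includeRight : A →ₐ[R] K ⊗[R] A),
        (Ideal.Quotient.mk _ ((1 : K) ⊗ₜ[R] a)) * w = 0 → w = 0 := by
      intro w hw
      obtain ⟨z, rfl⟩ := Ideal.Quotient.mk_surjective w
      rw [← map_mul, Ideal.Quotient.eq_zero_iff_mem, hmapK, mem_nilradical] at hw
      rw [Ideal.Quotient.eq_zero_iff_mem, hmapK, mem_nilradical]
      exact h z hw
    have := nzd_transfer (Algebra.TensorProduct.tensorQuotientEquiv (R := R) K A K n₀).symm.toRingEquiv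
      _ h0
    intro z hz
    apply this z
    rw [← hz]
    rfl
  obtain ⟨gN, hgN, HN⟩ := exists_forall_nzd R (A ⧸ n₀) K hker (Ideal.Quotient.mk n₀ a) hK
  refine ⟨gT * gN, by rw [map_mul]; exact mul_ne_zero hgT hgN, ?_⟩
  intro L _ _ hL
  have hLT : algebraMap R L gT ≠ 0 := fun h0 => hL (by rw [map_mul, h0, zero_mul])
  have hLN : algebraMap R L gN ≠ 0 := fun h0 => hL (by rw [map_mul, h0, mul_zero])
  have h0 : ∀ w : (L ⊗[R] A) ⧸ n₀.map (Algebra.TensorProduct.includeRight : A →ₐ[R] L ⊗[R] A),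
      (Ideal.Quotient.mk _ ((1 : L) ⊗ₜ[R] a)) * w = 0 → w = 0 := by
    have := nzd_transfer (Algebra.TensorProduct.tensorQuotientEquiv (R := R) L A L n₀).toRingEquiv
      _ (HN L hLN)
    intro w hw
    apply this w
    rw [← hw]
    rfl
  intro z hz
  obtain ⟨m, hm⟩ := hz
  rw [mul_pow] at hm
  have h1 := nzd_pow _ h0 m (Ideal.Quotient.mk _ (z ^ m)) (by
    rw [← map_pow, ← map_mul, hm, map_zero])
  rw [Ideal.Quotient.eq_zero_iff_mem] at h1
  have h2 := mem_nilradical.mp (hmapL L hLT h1)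
  obtain ⟨k, hk⟩ := h2
  exact ⟨m * k, by rw [pow_mul]; exact hk⟩

/-- **Nowhere dense closed subsets of the generic fibre spread out** (algebraic form). -/
theorem exists_forall_isNowhereDense (R A K : Type u) [CommRing R] [CommRing A] [Algebra R A]
    [Algebra.FiniteType R A] [Field K] [Algebra R K]
    (hker : ∀ r : R, algebraMap R K r = 0 → IsNilpotent r)
    (hfrac : ∀ z : K, ∃ a b : R, algebraMap R K b ≠ 0 ∧ z * algebraMap R K b = algebraMap R K a)
    (J : Ideal A)
    (hnd : IsNowhereDense (PrimeSpectrum.zeroLocus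
      ((J.map (Algebra.TensorProduct.includeRight : A →ₐ[R] K ⊗[R] A) : Ideal (K ⊗[R] A)) :
        Set (K ⊗[R] A)))) :
    ∃ g : R, algebraMap R K g ≠ 0 ∧ ∀ (L : Type u) [Field L] [Algebra R L],
      algebraMap R L g ≠ 0 → IsNowhereDense (PrimeSpectrum.zeroLocus
        ((J.map (Algebra.TensorProduct.includeRight : A →ₐ[R] L ⊗[R] A) : Ideal (L ⊗[R] A)) :
          Set (L ⊗[R] A))) := by
  haveI : IsNoetherianRing (K ⊗[R] A) := Algebra.FiniteType.isNoetherianRing K (K ⊗[R] A)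
  obtain ⟨t, htJ, ht⟩ := exists_nzdRed_of_isNowhereDense _ hnd
  obtain ⟨s, a, hs, haJ, hsa⟩ := exists_smul_eq_one_tmul_of_mem_map hfrac J t htJ
  have ha : NZDRed ((1 : K) ⊗ₜ[R] a) := by
    intro z hz
    apply ht z
    rw [← hsa, smul_mul_assoc, ← algebraMap_smul K s] at hz
    have := hz.smul ((algebraMap R K s)⁻¹)
    rwa [smul_smul, inv_mul_cancel₀ hs, one_smul] at this
  obtain ⟨g, hg, H⟩ := exists_forall_nzdRed R A K hker hfrac a ha
  refine ⟨g, hg, ?_⟩
  intro L _ _ hL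
  exact isNowhereDense_zeroLocus_of_nzdRed _ ((1 : L) ⊗ₜ[R] a)
    (Ideal.mem_map_of_mem _ haJ) (H L hL)

end Groth.Agent.H1.GenFib
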