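import Mathlib
import Groth.Agent.Lib.Helper1.FibDimCons
import Groth.Agent.Lib.Helper1.GenFibND

/-!
# Chevalley's semicontinuity of the fibre dimension: algebra (helper1)
-/

set_option autoImplicit false
universe u

namespace Groth.Agent.H1.Chev

open TensorProduct MvPolynomial Groth.Agent.H1.GenFib Groth.Agent.H1.FibDim

/-- quasi-finite algebras do not raise the dimension (incomparability). -/
theorem ringKrullDim_le_of_quasiFinite (R S : Type*) [CommRing R] [CommRing S] [Algebra R S]
    [Algebra.QuasiFinite R S] : ringKrullDim S ≤ ringKrullDim R := by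
  refine Order.krullDim_le_of_strictMono
    (fun P : PrimeSpectrum S => P.comap (algebraMap R S)) ?_
  intro P Q hPQ
  have hle : P.asIdeal ≤ Q.asIdeal := (PrimeSpectrum.asIdeal_le_asIdeal _ _).mpr hPQ.le
  refine lt_of_le_of_ne (fun x hx => hle hx) (fun h => ?_)
  have := Algebra.QuasiFinite.eq_of_le_of_under_eq (R := R) P.asIdeal Q.asIdeal hle
    (congrArg PrimeSpectrum.asIdeal h)
  exact hPQ.ne (PrimeSpectrum.ext this)

/-- **Noether normalization of a fibre with denominators cleared.** -/
theorem exists_aeval_isIntegral (A B κ : Type u) [CommRing A] [CommRing B] [Algebra A B]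
    [Algebra.FiniteType A B] [Field κ] [Algebra A κ]
    (hfrac : ∀ z : κ, ∃ a b : A, algebraMap A κ b ≠ 0 ∧ z * algebraMap A κ b = algebraMap A κ a)
    (n : ℕ) (hn : ringKrullDim (κ ⊗[A] B) ≤ n) :
    ∃ (m : ℕ) (_ : m ≤ n) (b : Fin m → B),
      (aeval (fun i => (1 : κ) ⊗ₜ[A] b i) :
        MvPolynomial (Fin m) κ →ₐ[κ] κ ⊗[A] B).toRingHom.IsIntegral := by
  rcases subsingleton_or_nontrivial (κ ⊗[A] B) with hsub | hnt
  · refine ⟨0, Nat.zero_le _, Fin.elim0, ?_⟩
    intro x
    refine ⟨Polynomial.X, Polynomial.monic_X, Subsingleton.elim _ _⟩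
  obtain ⟨m, ν, hinj, hint⟩ := exists_integral_inj_algHom_of_fg κ (κ ⊗[A] B)
  -- dimension
  have hdim : ringKrullDim (κ ⊗[A] B) = m := by
    have h1 := ringKrullDim_tensor_eq_of_integral_injective (R := κ) (A := κ ⊗[A] B)
      (fun i => ν (X i)) (by
        have : (aeval (fun i => ν (X i)) : MvPolynomial (Fin m) κ →ₐ[κ] κ ⊗[A] B) = ν := by
          ext i; simp
        rw [this]; exact hinj) (by
        have : (aeval (fun i => ν (X i)) : MvPolynomial (Fin m) κ →ₐ[κ] κ ⊗[A] B) = ν := by
          ext i; simp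
        rw [this]; exact hint) κ
    rw [← h1]
    exact (ringKrullDim_eq_of_ringEquiv
      (Algebra.TensorProduct.lid κ (κ ⊗[A] B)).toRingEquiv).symm
  have hmn : m ≤ n := by
    rw [hdim] at hn
    exact_mod_cast hn
  -- clear denominators
  have H : ∀ i : Fin m, ∃ (s : A) (x : B), algebraMap A κ s ≠ 0 ∧
      s • ν (X i) = (1 : κ) ⊗ₜ[A] x := fun i => exists_smul_eq_one_tmul' hfrac (ν (X i))
  choose s b hs hsb using H
  refine ⟨m, hmn, b, ?_⟩
  -- `ν = ν' ∘ β`
  let β : MvPolynomial (Fin m) κ →ₐ[κ] MvPolynomial (Fin m) κ :=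
    aeval (fun i => (algebraMap A κ (s i))⁻¹ • (X i : MvPolynomial (Fin m) κ))
  have hcomp : ((aeval (fun i => (1 : κ) ⊗ₜ[A] b i) :
      MvPolynomial (Fin m) κ →ₐ[κ] κ ⊗[A] B).comp β) = ν := by
    ext i
    simp only [AlgHom.coe_comp, Function.comp_apply, β, aeval_X, map_smul]
    rw [← hsb i, ← algebraMap_smul κ (s i) (ν (X i)), smul_smul, inv_mul_cancel₀ (hs i), one_smul]
  have h2 : ((aeval (fun i => (1 : κ) ⊗ₜ[A] b i) :
      MvPolynomial (Fin m) κ →ₐ[κ] κ ⊗[A] B).toRingHom.comp β.toRingHom).IsIntegral := by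
    have : (aeval (fun i => (1 : κ) ⊗ₜ[A] b i) :
      MvPolynomial (Fin m) κ →ₐ[κ] κ ⊗[A] B).toRingHom.comp β.toRingHom = ν.toRingHom := by
      rw [← hcomp]; rfl
    rw [this]; exact hint
  exact RingHom.IsIntegral.tower_top _ _ h2


/-- the residue field of a prime is made of fractions. -/
theorem hfrac_residueField {A : Type*} [CommRing A] (p : Ideal A) [p.IsPrime] (z : p.ResidueField) :
    ∃ a b : A, algebraMap A p.ResidueField b ≠ 0 ∧
      z * algebraMap A p.ResidueField b = algebraMap A p.ResidueField a := by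
  obtain ⟨x, y, hy, rfl⟩ := IsFractionRing.div_surjective (A := A ⧸ p) z
  obtain ⟨a, rfl⟩ := Ideal.Quotient.mk_surjective x
  obtain ⟨b, rfl⟩ := Ideal.Quotient.mk_surjective y
  have hb : algebraMap A p.ResidueField b ≠ 0 := by
    rw [← Ideal.algebraMap_quotient_residueField_mk]
    exact fun h => (nonZeroDivisors.ne_zero hy)
      (p.injective_algebraMap_quotient_residueField (h.trans (map_zero _).symm))
  refine ⟨a, b, hb, ?_⟩
  rw [← Ideal.algebraMap_quotient_residueField_mk, ← Ideal.algebraMap_quotient_residueField_mk]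
  rw [← Ideal.algebraMap_quotient_residueField_mk] at hb
  exact div_mul_cancel₀ _ hb


/-- if the fibre `κ(p) ⊗ B` is integral over `κ(p)[X]` via the `1 ⊗ b i`, then `B` is quasi-finite
over `A[X]` (via the `b i`) at every prime over `p`. -/
theorem quasiFiniteAt_of_isIntegral (A B : Type u) [CommRing A] [CommRing B] [Algebra A B]
    [Algebra.FiniteType A B] {m : ℕ} (b : Fin m → B) (q : PrimeSpectrum B)
    (hint : (aeval (fun i => (1 : (q.asIdeal.comap (algebraMap A B)).ResidueField) ⊗ₜ[A] b i) :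
      MvPolynomial (Fin m) (q.asIdeal.comap (algebraMap A B)).ResidueField →ₐ[_]
        (q.asIdeal.comap (algebraMap A B)).ResidueField ⊗[A] B).toRingHom.IsIntegral) :
    letI := (aeval b : MvPolynomial (Fin m) A →ₐ[A] B).toRingHom.toAlgebra
    Algebra.QuasiFiniteAt (MvPolynomial (Fin m) A) q.asIdeal := by
  letI algRB := (aeval b : MvPolynomial (Fin m) A →ₐ[A] B).toRingHom.toAlgebra
  haveI : IsScalarTower A (MvPolynomial (Fin m) A) B :=
    IsScalarTower.of_algebraMap_eq (fun r => ((aeval b).commutes r).symm)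
  haveI : Algebra.FiniteType (MvPolynomial (Fin m) A) B :=
    Algebra.FiniteType.of_restrictScalars_finiteType A _ B
  set R := MvPolynomial (Fin m) A with hR
  set p₀ : Ideal A := q.asIdeal.comap (algebraMap A B) with hp₀
  set κ := p₀.ResidueField with hκ
  let p : PrimeSpectrum R := q.comap (algebraMap R B)
  let e := PrimeSpectrum.preimageHomeomorphFiber R B p
  suffices Algebra.QuasiFiniteAt p.asIdeal.ResidueField (e ⟨q, rfl⟩).asIdeal from
    .of_quasiFiniteAt_residueField _ q.asIdeal (e ⟨q, rfl⟩).asIdeal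
      congr($(e.symm_apply_apply ⟨q, rfl⟩).1.asIdeal)
  set K := p.asIdeal.ResidueField with hK
  have hpp : p₀ = p.asIdeal.comap (algebraMap A R) := by
    ext x
    simp only [hp₀, Ideal.mem_comap, p, PrimeSpectrum.comap_asIdeal]
    rw [← IsScalarTower.algebraMap_apply]
  letI algκK : Algebra κ K := (Ideal.ResidueField.map p₀ p.asIdeal (algebraMap A R) hpp).toAlgebra
  haveI : IsScalarTower A κ K := IsScalarTower.of_algebraMap_eq (fun x => by
    rw [RingHom.algebraMap_toAlgebra, Ideal.ResidueField.map_algebraMap,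
      ← IsScalarTower.algebraMap_apply])
  -- the comparison map
  let θ : κ ⊗[A] B →ₐ[A] K ⊗[R] B :=
    (Algebra.TensorProduct.mapOfCompatibleSMul R A A K B).comp
      (Algebra.TensorProduct.map (IsScalarTower.toAlgHom A κ K) (AlgHom.id A B))
  let ev : MvPolynomial (Fin m) κ →+* K :=
    MvPolynomial.eval₂Hom (algebraMap κ K) (fun i => algebraMap R K (X i))
  let ν' : MvPolynomial (Fin m) κ →ₐ[κ] κ ⊗[A] B := aeval (fun i => (1 : κ) ⊗ₜ[A] b i)
  have hsq : (algebraMap K (K ⊗[R] B)).comp ev = θ.toRingHom.comp ν'.toRingHom := by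
    apply MvPolynomial.ringHom_ext
    · intro a
      simp only [RingHom.comp_apply, ev, ν', θ, MvPolynomial.coe_eval₂Hom, MvPolynomial.eval₂_C,
        AlgHom.toRingHom_eq_coe, RingHom.coe_coe, MvPolynomial.aeval_C, AlgHom.coe_comp,
        Function.comp_apply]
      rw [Algebra.TensorProduct.algebraMap_apply, Algebra.TensorProduct.algebraMap_apply]
      simp
    · intro i
      simp only [RingHom.comp_apply, ev, ν', θ, MvPolynomial.coe_eval₂Hom, MvPolynomial.eval₂_X,
        AlgHom.toRingHom_eq_coe, RingHom.coe_coe, MvPolynomial.aeval_X, AlgHom.coe_comp,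
        Function.comp_apply]
      rw [Algebra.TensorProduct.algebraMap_apply]
      simp only [Algebra.TensorProduct.map_tmul, map_one, AlgHom.coe_id, id_eq,
        Algebra.TensorProduct.mapOfCompatibleSMul_tmul, Algebra.algebraMap_self, RingHom.id_apply]
      rw [Algebra.algebraMap_eq_smul_one, TensorProduct.smul_tmul, ← Algebra.algebraMap_eq_smul_one]
      congr 1
      change (aeval b) (X i) = b i
      simp
  have hb' : ∀ b' : B, IsIntegral K ((1 : K) ⊗ₜ[R] b') := by
    intro b'
    letI := ν'.toRingHom.toAlgebra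
    have h1 : IsIntegral (MvPolynomial (Fin m) κ) ((1 : κ) ⊗ₜ[A] b') := hint _
    have h2 := IsIntegral.map_of_comp_eq ev θ.toRingHom hsq h1
    simpa [θ] using h2
  haveI : Algebra.IsIntegral K (K ⊗[R] B) := by
    refine ⟨fun z => ?_⟩
    induction z using TensorProduct.induction_on with
    | zero => exact isIntegral_zero
    | tmul k b' =>
      have : k ⊗ₜ[R] b' = algebraMap K (K ⊗[R] B) k * ((1 : K) ⊗ₜ[R] b') := by
        rw [Algebra.TensorProduct.algebraMap_apply, Algebra.TensorProduct.tmul_mul_tmul]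
        simp
      rw [this]
      exact isIntegral_algebraMap.mul (hb' b')
    | add x y hx hy => exact hx.add hy
  haveI : Module.Finite K (K ⊗[R] B) := Algebra.IsIntegral.finite
  change Algebra.QuasiFinite K (Localization.AtPrime (e ⟨q, rfl⟩).asIdeal)
  infer_instance


/-- a finite type algebra which is quasi-finite at a prime is quasi-finite on a basic open
neighbourhood of it. -/
theorem exists_away_quasiFinite (R B : Type*) [CommRing R] [CommRing B] [Algebra R B]
    [Algebra.FiniteType R B] (q : Ideal B) [q.IsPrime] [Algebra.QuasiFiniteAt R q] :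
    ∃ h : B, h ∉ q ∧ Algebra.QuasiFinite R (Localization.Away h) := by
  obtain ⟨S', hS', r, hrq, H⟩ :=
    Algebra.QuasiFiniteAt.exists_fg_and_exists_notMem_and_awayMap_bijective (R := R) q
  have : Module.Finite R S' := ⟨(Submodule.fg_top _).mpr hS'⟩
  have : Algebra.QuasiFinite R (Localization.Away r) := .trans _ S' _
  have : Algebra.QuasiFinite R (Localization.Away r.1) :=
    .of_surjective_algHom (Localization.awayMapₐ S'.val r) H.2
  exact ⟨r.1, hrq, this⟩

/-- the fibres of a quasi-finite algebra over a polynomial ring have dimension at most the number of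
variables. -/
theorem ringKrullDim_tensor_le_of_quasiFinite (A B' L : Type u) [CommRing A] [CommRing B']
    [Algebra A B'] {m : ℕ} [Algebra (MvPolynomial (Fin m) A) B']
    [IsScalarTower A (MvPolynomial (Fin m) A) B'] [Algebra.QuasiFinite (MvPolynomial (Fin m) A) B']
    [Field L] [Algebra A L] :
    ringKrullDim (L ⊗[A] B') ≤ m := by
  set R := MvPolynomial (Fin m) A
  have h1 : ringKrullDim ((R ⊗[A] L) ⊗[R] B') ≤ ringKrullDim (R ⊗[A] L) :=
    ringKrullDim_le_of_quasiFinite (R ⊗[A] L) ((R ⊗[A] L) ⊗[R] B')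
  have h2 : ringKrullDim (R ⊗[A] L) = m := by
    have e1 : R ⊗[A] L ≃ₐ[A] L ⊗[A] R := Algebra.TensorProduct.comm A R L
    have e2 : L ⊗[A] R ≃ₐ[L] MvPolynomial (Fin m) L := MvPolynomial.algebraTensorAlgEquiv A L
    rw [ringKrullDim_eq_of_ringEquiv e1.toRingEquiv, ringKrullDim_eq_of_ringEquiv e2.toRingEquiv,
      MvPolynomial.ringKrullDim_of_isNoetherianRing, ringKrullDim_eq_zero_of_field]
    simp
  have e3 : (R ⊗[A] L) ⊗[R] B' ≃ₐ[R] B' ⊗[R] (R ⊗[A] L) := Algebra.TensorProduct.comm R _ _
  have e4 : B' ⊗[R] (R ⊗[A] L) ≃ₐ[B'] B' ⊗[A] L :=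
    Algebra.TensorProduct.cancelBaseChange A R B' B' L
  have e5 : B' ⊗[A] L ≃ₐ[A] L ⊗[A] B' := Algebra.TensorProduct.comm A B' L
  have d3 : ringKrullDim ((R ⊗[A] L) ⊗[R] B') = ringKrullDim (B' ⊗[R] (R ⊗[A] L)) :=
    ringKrullDim_eq_of_ringEquiv e3.toRingEquiv
  have d4 : ringKrullDim (B' ⊗[R] (R ⊗[A] L)) = ringKrullDim (B' ⊗[A] L) :=
    ringKrullDim_eq_of_ringEquiv e4.toRingEquiv
  have d5 : ringKrullDim (B' ⊗[A] L) = ringKrullDim (L ⊗[A] B') :=
    ringKrullDim_eq_of_ringEquiv e5.toRingEquiv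
  rw [← h2, ← d5, ← d4, ← d3]
  exact h1


/-- **Chevalley's semicontinuity, algebraic form**: if the fibre of `Spec B → Spec A` through `q`
has dimension at most `n`, then on a basic open neighbourhood of `q` all fibres have dimension at
most `n`. -/
theorem exists_away_forall_dim_le (A B : Type u) [CommRing A] [CommRing B] [Algebra A B]
    [Algebra.FiniteType A B] (q : PrimeSpectrum B) (n : ℕ)
    (hn : fibDim A B (q.comap (algebraMap A B)) ≤ n) :
    ∃ h : B, h ∉ q.asIdeal ∧ ∀ (L : Type u) [Field L] [Algebra A L],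
      ringKrullDim (L ⊗[A] Localization.Away h) ≤ n := by
  obtain ⟨m, hmn, b, hint⟩ := exists_aeval_isIntegral A B
    (q.asIdeal.comap (algebraMap A B)).ResidueField (hfrac_residueField _) n hn
  have hq := quasiFiniteAt_of_isIntegral A B b q hint
  letI algRB := (aeval b : MvPolynomial (Fin m) A →ₐ[A] B).toRingHom.toAlgebra
  haveI : IsScalarTower A (MvPolynomial (Fin m) A) B :=
    IsScalarTower.of_algebraMap_eq (fun r => ((aeval b).commutes r).symm)
  haveI : Algebra.FiniteType (MvPolynomial (Fin m) A) B :=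
    Algebra.FiniteType.of_restrictScalars_finiteType A _ B
  haveI : Algebra.QuasiFiniteAt (MvPolynomial (Fin m) A) q.asIdeal := hq
  obtain ⟨h, hhq, hqf⟩ := exists_away_quasiFinite (MvPolynomial (Fin m) A) B q.asIdeal
  refine ⟨h, hhq, ?_⟩
  intro L _ _
  haveI : IsScalarTower A (MvPolynomial (Fin m) A) (Localization.Away h) :=
    IsScalarTower.of_algebraMap_eq (fun r => by
      rw [IsScalarTower.algebraMap_apply A B (Localization.Away h),
        IsScalarTower.algebraMap_apply (MvPolynomial (Fin m) A) B (Localization.Away h),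
        ← IsScalarTower.algebraMap_apply A (MvPolynomial (Fin m) A) B])
  exact (ringKrullDim_tensor_le_of_quasiFinite A (Localization.Away h) L (m := m)).trans
    (by exact_mod_cast hmn)

/-- variant of `exists_away_forall_dim_le` for an arbitrary localization away from `h`. -/
theorem exists_away_forall_dim_le' (A B : Type u) [CommRing A] [CommRing B] [Algebra A B]
    [Algebra.FiniteType A B] (q : PrimeSpectrum B) (n : ℕ)
    (hn : fibDim A B (q.comap (algebraMap A B)) ≤ n) :
    ∃ h : B, h ∉ q.asIdeal ∧ ∀ (B' : Type u) [CommRing B'] [Algebra B B'] [Algebra A B']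
      [IsScalarTower A B B'] [IsLocalization.Away h B'] (L : Type u) [Field L] [Algebra A L],
      ringKrullDim (L ⊗[A] B') ≤ n := by
  obtain ⟨h, hh, H⟩ := exists_away_forall_dim_le A B q n hn
  refine ⟨h, hh, ?_⟩
  intro B' _ _ _ _ _ L _ _
  let e : Localization.Away h ≃ₐ[B] B' :=
    IsLocalization.algEquiv (Submonoid.powers h) (Localization.Away h) B'
  let e' : Localization.Away h ≃ₐ[A] B' := e.restrictScalars A
  have e2 : L ⊗[A] Localization.Away h ≃ₐ[L] L ⊗[A] B' :=
    Algebra.TensorProduct.congr AlgEquiv.refl e'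
  rw [← ringKrullDim_eq_of_ringEquiv e2.toRingEquiv]
  exact H L

end Groth.Agent.H1.Chev
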