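import Mathlib
import Groth.Agent.Lib.Helper1.Chev1

/-!
# Chevalley semicontinuity of the fibre dimension on the source (helper1)
-/

set_option autoImplicit false
universe u

namespace Groth.Agent.H1.Chev

open TensorProduct Groth.Agent.H1.GenFib Groth.Agent.H1.FibDim AlgebraicGeometry CategoryTheory
  TopologicalSpace Topology

/-- in `WithBot ℕ∞`, `x < n + 1` iff `x ≤ n`. -/
theorem withBot_lt_add_one_iff (x : WithBot ℕ∞) (n : ℕ) :
    x < ((n + 1 : ℕ) : WithBot ℕ∞) ↔ x ≤ (n : WithBot ℕ∞) := by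
  induction x with
  | bot => simp
  | coe a =>
    have h1 : ((n + 1 : ℕ) : WithBot ℕ∞) = ((( n + 1 : ℕ) : ℕ∞) : WithBot ℕ∞) := rfl
    have h2 : (n : WithBot ℕ∞) = ((n : ℕ∞) : WithBot ℕ∞) := rfl
    rw [h1, h2, WithBot.coe_lt_coe, WithBot.coe_le_coe]
    push_cast
    exact ENat.lt_add_one_iff (ENat.natCast_ne_top n)

/-- a point of local dimension at most `n` has an open neighbourhood of dimension at most `n`. -/
theorem exists_open_dim_le_of_localDim_le {Z : Type*} [TopologicalSpace Z] (z : Z) (n : ℕ)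
    (h : FlatMor.localDim Z z ≤ n) :
    ∃ V : Opens Z, z ∈ V ∧ topologicalKrullDim (V : Set Z) ≤ n := by
  by_contra hcon
  push Not at hcon
  have h1 : ((n + 1 : ℕ) : WithBot ℕ∞) ≤ FlatMor.localDim Z z := by
    apply le_iInf
    rintro ⟨V, hV⟩
    have := hcon V hV
    by_contra h2
    rw [not_le, withBot_lt_add_one_iff] at h2
    exact absurd h2 (not_le.mpr this)
  have h3 := h1.trans h
  rw [← not_lt] at h3
  apply h3
  rw [withBot_lt_add_one_iff]

variable {X S : Scheme.{u}}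

/-- **Chevalley's semicontinuity theorem**: for a morphism locally of finite type, the local
dimension of the fibres is upper semicontinuous on the source. -/
theorem isOpen_fibreDimAt_le (f : X ⟶ S) [LocallyOfFiniteType f] (n : ℕ) :
    IsOpen {x : X | FlatMor.fibreDimAt f x ≤ n} := by
  rw [isOpen_iff_forall_mem_open]
  intro x₀ hx₀
  obtain ⟨V₀, hzV₀, hV₀⟩ := exists_open_dim_le_of_localDim_le (f.asFiber x₀) n hx₀
  obtain ⟨U₀, hU₀, hU₀V⟩ := (f.fiberι (f x₀)).isEmbedding.isInducing.isOpen_iff.mp V₀.isOpen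
  have hx₀U₀ : x₀ ∈ U₀ := by
    have h1 : f.asFiber x₀ ∈ (f.fiberι (f x₀)) ⁻¹' U₀ := by rw [hU₀V]; exact hzV₀
    rwa [Set.mem_preimage, f.fiberι_asFiber] at h1
  obtain ⟨_, ⟨W, hW, rfl⟩, hsW, -⟩ :=
    S.isBasis_affineOpens.exists_subset_of_mem_open (Set.mem_univ (f x₀)) isOpen_univ
  obtain ⟨_, ⟨U, hU, rfl⟩, hxU, hUsub⟩ := X.isBasis_affineOpens.exists_subset_of_mem_open
    (show x₀ ∈ U₀ ∩ (f ⁻¹ᵁ W : Set X) from ⟨hx₀U₀, hsW⟩) (hU₀.inter (f ⁻¹ᵁ W).isOpen)
  have e : U ≤ f ⁻¹ᵁ W := fun x hx => (hUsub hx).2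
  -- the dimension of the piece of the fibre through `x₀`
  have hdim : topologicalKrullDim ↥((f.fiberι (f x₀)) ⁻¹' (U : Set X)) ≤ n := by
    refine le_trans (Groth.Agent.H3.TopDim.dim_mono ?_) hV₀
    intro z hz
    have : z ∈ (f.fiberι (f x₀)) ⁻¹' U₀ := (hUsub hz).1
    rwa [hU₀V] at this
  letI algA := (f.appLE W U e).hom.toAlgebra
  haveI : Algebra.FiniteType Γ(S, W) Γ(X, U) := f.finiteType_appLE hW hU e
  set q₀ : PrimeSpectrum Γ(X, U) := hU.primeIdealOf ⟨x₀, hxU⟩ with hq₀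
  have hcomap : q₀.comap (algebraMap Γ(S, W) Γ(X, U)) = hW.primeIdealOf ⟨f x₀, hsW⟩ :=
    IsAffineOpen.comap_primeIdealOf_appLE W hW U hU e hxU
  have hfd : fibDim Γ(S, W) Γ(X, U) (q₀.comap (algebraMap Γ(S, W) Γ(X, U))) ≤ n := by
    letI := (S.evaluation W (f x₀) hsW).hom.toAlgebra
    rw [hcomap, ← ringKrullDim_tensor_eq_fibDim Γ(S, W) Γ(X, U) (S.residueField (f x₀))
      (hW.primeIdealOf ⟨f x₀, hsW⟩) (ker_evaluation hW (f x₀) hsW),
      ← topologicalKrullDim_fiberPiece f hU hW e (f x₀) hsW]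
    exact hdim
  obtain ⟨h, hh, H⟩ := exists_away_forall_dim_le' Γ(S, W) Γ(X, U) q₀ n hfd
  have hx₀h : x₀ ∈ X.basicOpen h := by
    have h1 : x₀ ∈ X.basicOpen h ↔ q₀ ∈ hU.fromSpec ⁻¹ᵁ X.basicOpen h := by
      change _ ↔ hU.fromSpec (hU.primeIdealOf ⟨x₀, hxU⟩) ∈ X.basicOpen h
      rw [hU.fromSpec_primeIdealOf]
    rw [h1, hU.fromSpec_preimage_basicOpen]
    exact hh
  refine ⟨X.basicOpen h, ?_, (X.basicOpen h).isOpen, hx₀h⟩
  intro x hx
  have hxU' : x ∈ U := X.basicOpen_le h hx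
  have hs : f x ∈ W := e hxU'
  have hUh : IsAffineOpen (X.basicOpen h) := hU.basicOpen h
  have e' : X.basicOpen h ≤ f ⁻¹ᵁ W := (X.basicOpen_le h).trans e
  have hloc : FlatMor.fibreDimAt f x ≤
      topologicalKrullDim ↥((f.fiberι (f x)) ⁻¹' ((X.basicOpen h : X.Opens) : Set X)) :=
    Groth.Agent.H3.TopDim.localDim_le_dim_of_mem ((f.fiberι (f x)) ⁻¹ᵁ (X.basicOpen h)) (by
      change f.fiberι (f x) (f.asFiber x) ∈ X.basicOpen h
      rw [f.fiberι_asFiber]; exact hx)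
  refine hloc.trans ?_
  letI algA' := (f.appLE W (X.basicOpen h) e').hom.toAlgebra
  letI algK := (S.evaluation W (f x) hs).hom.toAlgebra
  rw [topologicalKrullDim_fiberPiece f hUh hW e' (f x) hs]
  haveI : IsScalarTower Γ(S, W) Γ(X, U) Γ(X, X.basicOpen h) :=
    IsScalarTower.of_algebraMap_eq (fun r => by
      change (f.appLE W (X.basicOpen h) e').hom r =
        (X.presheaf.map (homOfLE (X.basicOpen_le h)).op).hom ((f.appLE W U e).hom r)
      rw [← CommRingCat.comp_apply, Scheme.Hom.appLE_map])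
  haveI : IsLocalization.Away h Γ(X, X.basicOpen h) := hU.isLocalization_basicOpen h
  exact H Γ(X, X.basicOpen h) (S.residueField (f x))

end Groth.Agent.H1.Chev
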