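import Mathlib
import Groth.Agent.Lib.Helper1.Chev2

set_option autoImplicit false
universe u

namespace Groth.Agent.H1.Chev

open TensorProduct Groth.Agent.H1.GenFib Groth.Agent.H1.FibDim AlgebraicGeometry CategoryTheory
  TopologicalSpace Topology

variable {X S : Scheme.{u}}

/-- the local dimension of a fibre at a point, as `fibreDimAt`. -/
theorem localDim_fiber_eq_fibreDimAt (f : X ⟶ S) (x : X) (s : S) (hs : f x = s) (z : f.fiber s)
    (hz : f.fiberι s z = x) : FlatMor.localDim (f.fiber s) z = FlatMor.fibreDimAt f x := by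
  subst hs
  have : z = f.asFiber x := by
    apply (f.fiberι (f x)).isEmbedding.injective
    rw [hz, f.fiberι_asFiber]
  rw [this]
  rfl

/-- the dimension of a fibre is at most `n` iff the local fibre dimension is at most `n` at all
points over `s`. -/
theorem fiber_dim_le_iff (f : X ⟶ S) (s : S) (c : WithBot ℕ∞) :
    topologicalKrullDim (f.fiber s) ≤ c ↔ ∀ x : X, f x = s → FlatMor.fibreDimAt f x ≤ c := by
  rw [Groth.Agent.H3.TopDim.dim_eq_iSup_localDim, iSup_le_iff]
  constructor
  · intro h x hx
    rw [← localDim_fiber_eq_fibreDimAt f x s hx ((f.fiberHomeo s).symm ⟨x, hx⟩)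
      (f.fiberι_fiberHomeo_symm s ⟨x, hx⟩)]
    exact h _
  · intro h z
    rw [localDim_fiber_eq_fibreDimAt f (f.fiberι s z) s (fiberι_apply_mem f s z) z rfl]
    exact h _ (fiberι_apply_mem f s z)

/-- for a closed morphism locally of finite type, the fibre dimension is upper semicontinuous on
the target. -/
theorem isOpen_fiber_dim_le_of_isClosedMap (f : X ⟶ S) [LocallyOfFiniteType f]
    (hf : IsClosedMap f) (c : WithBot ℕ∞) :
    IsOpen {s : S | topologicalKrullDim (f.fiber s) ≤ c} := by
  have key : ∀ Z : Set X, IsClosed Z → (∀ s, (∀ x : X, f x = s → x ∉ Z) ↔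
      topologicalKrullDim (f.fiber s) ≤ c) →
      IsOpen {s : S | topologicalKrullDim (f.fiber s) ≤ c} := by
    intro Z hZ h
    have : {s : S | topologicalKrullDim (f.fiber s) ≤ c} = (f '' Z)ᶜ := by
      ext s
      simp only [Set.mem_ofPred_eq, Set.mem_compl_iff, Set.mem_image, not_exists, not_and]
      rw [← h s]
      exact ⟨fun h1 x hxZ hxs => h1 x hxs hxZ, fun h1 x hxs hxZ => h1 x hxZ hxs⟩
    rw [this]
    exact (hf Z hZ).isOpen_compl
  induction c with
  | bot =>
    refine key Set.univ isClosed_univ (fun s => ?_)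
    rw [fiber_dim_le_iff]
    constructor
    · intro h x hx
      exact absurd (Set.mem_univ x) (h x hx)
    · intro h x hx _
      have h1 := h x hx
      have h2 : (0 : WithBot ℕ∞) ≤ FlatMor.fibreDimAt f x := by
        apply le_iInf
        rintro ⟨U, hU⟩
        haveI : Nonempty ↥(U : Set (f.fiber (f x))) := ⟨⟨_, hU⟩⟩
        exact Groth.Agent.H3.TopDim.dim_nonneg
      exact absurd (h2.trans h1) (by simp)
  | coe a =>
    induction a with
    | top =>
      have : {s : S | topologicalKrullDim (f.fiber s) ≤ ((⊤ : ℕ∞) : WithBot ℕ∞)} = Set.univ := by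
        ext s
        simp only [Set.mem_ofPred_eq, Set.mem_univ, iff_true]
        exact le_top
      rw [this]; exact isOpen_univ
    | coe n =>
      refine key {x : X | FlatMor.fibreDimAt f x ≤ n}ᶜ
        (isOpen_fibreDimAt_le f n).isClosed_compl (fun s => ?_)
      rw [fiber_dim_le_iff]
      simp only [Set.mem_compl_iff, Set.mem_ofPred_eq, not_not]
      rfl

end Groth.Agent.H1.Chev
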