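import Mathlib
import Groth.Agent.Lib.Helper9.Misc.FrobDegD
import Groth.Agent.Lib.Helper1.CartierKit
import Groth.Agent.Lib.Helper3.AlgSpMor.EtaleDim
import Groth.Agent.S4368

/-! Equidimensionality of irreducible schemes locally of finite type over a field (helper1):
every nonempty open has the dimension of the whole space; the local dimension at every point is
the dimension. -/

set_option autoImplicit false
universe u

namespace Groth.Agent.H1.EquiDim

open AlgebraicGeometry CategoryTheory TopologicalSpace Groth.Agent.H9.FrobDegD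

section Integral

variable {k : Type u} [Field k] {Z : Scheme.{u}} [IsIntegral Z]
  (g : Z ⟶ Spec (CommRingCat.of k)) [LocallyOfFiniteType g]

theorem exists_dim_trdeg (V : Z.Opens) (hV : IsAffineOpen V) [Nonempty V] :
    let := (toFunctionField g).toAlgebra
    ∃ s : ℕ, ringKrullDim Γ(Z, V) = s ∧ Algebra.trdeg k Z.functionField = s := by
  intro algL
  let algA := (toSections g V).toAlgebra
  have : IsScalarTower k Γ(Z, V) Z.functionField := by
    apply IsScalarTower.of_algebraMap_eq
    intro c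
    exact (germToFunctionField_toSections g V c).symm
  have : Algebra.FiniteType k Γ(Z, V) := finiteType_toSections g hV
  have : IsFractionRing Γ(Z, V) Z.functionField :=
    functionField_isFractionRing_of_isAffineOpen Z V hV
  obtain ⟨s, h1, h2, -⟩ := exists_algIndep_finite k Γ(Z, V) Z.functionField
  exact ⟨s, h1, h2⟩

include g in
theorem ringKrullDim_affineOpen_eq (U V : Z.Opens) (hU : IsAffineOpen U) (hV : IsAffineOpen V)
    [Nonempty U] [Nonempty V] : ringKrullDim Γ(Z, U) = ringKrullDim Γ(Z, V) := by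
  obtain ⟨s, h1, h2⟩ := exists_dim_trdeg g U hU
  obtain ⟨t, h3, h4⟩ := exists_dim_trdeg g V hV
  have : (s : Cardinal) = t := h2.symm.trans h4
  have : s = t := by exact_mod_cast this
  rw [h1, h3, this]

include g in
theorem dim_opens_eq_of_isIntegral (V : Z.Opens) (hV : (V : Set Z).Nonempty) (U : Z.Opens)
    (hU : IsAffineOpen U) [Nonempty U] :
    topologicalKrullDim (V : Set Z) = ringKrullDim Γ(Z, U) := by
  apply le_antisymm
  · rw [Groth.Agent.H3.EtaleDim.scheme_dim_opens_eq_iSup_coheight]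
    apply iSup_le
    rintro ⟨w, hw⟩
    obtain ⟨_, ⟨W, hW, rfl⟩, hwW, hWV⟩ :=
      Z.isBasis_affineOpens.exists_subset_of_mem_open (a := w) hw V.isOpen
    obtain ⟨W, hW, hwW, hWV⟩ : ∃ W : Z.Opens, IsAffineOpen W ∧ w ∈ W ∧ (W : Set Z) ⊆ V :=
      ⟨W, hW, hwW, hWV⟩
    have : Nonempty W := ⟨⟨w, hwW⟩⟩
    rw [ringKrullDim_affineOpen_eq g U W hU hW, ← Groth.Agent.H1.CartierKit.dim_affineOpen W hW,
      Groth.Agent.H3.EtaleDim.scheme_dim_opens_eq_iSup_coheight]
    exact le_iSup (fun w' : ↥(W : Set Z) => (Order.coheight (w' : Z) : WithBot ℕ∞)) ⟨w, hwW⟩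
  · obtain ⟨w, hw⟩ := hV
    obtain ⟨_, ⟨W, hW, rfl⟩, hwW, hWV⟩ :=
      Z.isBasis_affineOpens.exists_subset_of_mem_open (a := w) hw V.isOpen
    obtain ⟨W, hW, hwW, hWV⟩ : ∃ W : Z.Opens, IsAffineOpen W ∧ w ∈ W ∧ (W : Set Z) ⊆ V :=
      ⟨W, hW, hwW, hWV⟩
    have : Nonempty W := ⟨⟨w, hwW⟩⟩
    rw [ringKrullDim_affineOpen_eq g U W hU hW, ← Groth.Agent.H1.CartierKit.dim_affineOpen W hW]
    exact Groth.Agent.H3.TopDim.dim_mono hWV

include g in
theorem dim_opens_eq_dim_of_isIntegral (V : Z.Opens) (hV : (V : Set Z).Nonempty) :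
    topologicalKrullDim (V : Set Z) = topologicalKrullDim Z := by
  obtain ⟨w, hw⟩ := hV
  obtain ⟨_, ⟨W, hW, rfl⟩, hwW, hWV⟩ :=
    Z.isBasis_affineOpens.exists_subset_of_mem_open (a := w) hw V.isOpen
  obtain ⟨W, hW, hwW, hWV⟩ : ∃ W : Z.Opens, IsAffineOpen W ∧ w ∈ W ∧ (W : Set Z) ⊆ V :=
    ⟨W, hW, hwW, hWV⟩
  have : Nonempty W := ⟨⟨w, hwW⟩⟩
  rw [dim_opens_eq_of_isIntegral g V ⟨w, hw⟩ W hW]
  have h2 := dim_opens_eq_of_isIntegral g ⊤ ⟨w, trivial⟩ W hW
  rw [← h2]
  exact (IsHomeomorph.topologicalKrullDim_eq _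
    (Homeomorph.Set.univ Z).isHomeomorph)

end Integral

section Irreducible

variable {k : Type u} [Field k] {Z : Scheme.{u}} [IrreducibleSpace Z]
  (g : Z ⟶ Spec (CommRingCat.of k)) [LocallyOfFiniteType g]

include g in
/-- every nonempty open of an irreducible scheme locally of finite type over a field has the
dimension of the whole scheme. -/
theorem dim_opens_eq_dim (V : Z.Opens) (hV : (V : Set Z).Nonempty) :
    topologicalKrullDim (V : Set Z) = topologicalKrullDim Z := by
  let ι := Z.nilradical.subschemeι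
  have hred : AlgebraicGeometry.IsReduced Z.nilradical.subscheme :=
    (Groth.Agent.S4368.result Z Z.nilradical (Scheme.support_nilradical Z)).mpr rfl
  have hsurj : Function.Surjective ι := by
    rw [← Set.range_eq_univ, Scheme.IdealSheafData.range_subschemeι, Scheme.support_nilradical]
    rfl
  have hhomeo : IsHomeomorph ι :=
    isHomeomorph_iff_isEmbedding_surjective.mpr ⟨ι.isEmbedding, hsurj⟩
  let e : Z.nilradical.subscheme ≃ₜ Z := hhomeo.homeomorph
  have : IrreducibleSpace Z.nilradical.subscheme := e.irreducibleSpace_iff.mpr inferInstance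
  have : IsIntegral Z.nilradical.subscheme := isIntegral_of_irreducibleSpace_of_isReduced _
  have h1 := dim_opens_eq_dim_of_isIntegral (ι ≫ g) (ι ⁻¹ᵁ V) (by
    obtain ⟨w, hw⟩ := hV
    obtain ⟨w', rfl⟩ := hsurj w
    exact ⟨w', hw⟩)
  have h2 : topologicalKrullDim Z.nilradical.subscheme = topologicalKrullDim Z :=
    IsHomeomorph.topologicalKrullDim_eq _ hhomeo
  have h3 : topologicalKrullDim ((ι ⁻¹ᵁ V : Z.nilradical.subscheme.Opens) :
      Set Z.nilradical.subscheme) = topologicalKrullDim (V : Set Z) :=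
    IsHomeomorph.topologicalKrullDim_eq _
      (e.subtype (p := fun x => x ∈ ι ⁻¹ᵁ V) (q := fun x => x ∈ V) (fun _ => Iff.rfl)).isHomeomorph
  rw [← h3, h1, h2]

include g in
/-- the local dimension at any point of an irreducible scheme locally of finite type over a field
is the dimension of the scheme. -/
theorem localDim_eq_dim (z : Z) : FlatMor.localDim Z z = topologicalKrullDim Z := by
  unfold FlatMor.localDim
  apply le_antisymm
  · exact Groth.Agent.H3.TopDim.localDim_le_dim z
  · apply le_iInf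
    rintro ⟨U, hU⟩
    rw [dim_opens_eq_dim g U ⟨z, hU⟩]

end Irreducible

end Groth.Agent.H1.EquiDim
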