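import Mathlib
import Groth.Agent.Lib.Helper1.EquiDim
import Groth.Agent.Lib.Helper1.Chev3

/-! Generic fibre dimension is the minimal fibre dimension (helper1). -/

set_option autoImplicit false
universe u

namespace Groth.Agent.H1.Chev

open AlgebraicGeometry CategoryTheory TopologicalSpace

theorem map_genericPoint {X Y : Scheme.{u}} [IrreducibleSpace X] [IrreducibleSpace Y]
    (f : X ⟶ Y) [IsDominant f] : f (genericPoint X) = genericPoint Y := by
  have h1 : IsGenericPoint (f (genericPoint X)) (closure (f '' Set.univ)) :=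
    (genericPoint_spec X).image f.continuous
  rw [Set.image_univ, f.denseRange.closure_range] at h1
  exact h1.eq (genericPoint_spec Y)

theorem irreducibleSpace_fiber {X Y : Scheme.{u}} [IrreducibleSpace X] (f : X ⟶ Y) (y : Y)
    (hy : f (genericPoint X) = y) : IrreducibleSpace (f.fiber y) := by
  have h1 : IsIrreducible (f ⁻¹' {y}) := by
    refine ⟨⟨genericPoint X, hy⟩, ?_⟩
    rintro u v hu hv ⟨a, -, hau⟩ ⟨b, -, hbv⟩
    exact ⟨genericPoint X, hy, (genericPoint_specializes a).mem_open hu hau,
      (genericPoint_specializes b).mem_open hv hbv⟩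
  haveI := Subtype.irreducibleSpace h1
  exact (f.fiberHomeo y).irreducibleSpace_iff.mpr inferInstance

instance locallyOfFiniteType_fiberToSpecResidueField {X Y : Scheme.{u}} (f : X ⟶ Y)
    [LocallyOfFiniteType f] (y : Y) : LocallyOfFiniteType (f.fiberToSpecResidueField y) :=
  MorphismProperty.pullback_snd _ _ inferInstance

/-- in an irreducible fibre of a morphism locally of finite type, the local dimension at every
point is the dimension of the fibre. -/
theorem fibreDimAt_eq_dim_of_irreducibleSpace {X Y : Scheme.{u}} (f : X ⟶ Y)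
    [LocallyOfFiniteType f] (x : X) [IrreducibleSpace (f.fiber (f x))] :
    FlatMor.fibreDimAt f x = topologicalKrullDim (f.fiber (f x)) :=
  @Groth.Agent.H1.EquiDim.localDim_eq_dim (Y.residueField (f x)) _ _ _
      (f.fiberToSpecResidueField (f x)) (locallyOfFiniteType_fiberToSpecResidueField f (f x)) _

theorem zero_le_fibreDimAt {X Y : Scheme.{u}} (f : X ⟶ Y) (x : X) :
    (0 : WithBot ℕ∞) ≤ FlatMor.fibreDimAt f x := by
  apply le_iInf
  rintro ⟨U, hU⟩
  haveI : Nonempty ↥(U : Set (f.fiber (f x))) := ⟨⟨_, hU⟩⟩
  exact Groth.Agent.H3.TopDim.dim_nonneg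

/-- the dimension of the generic fibre is at most the local fibre dimension at every point. -/
theorem dim_generic_fiber_le_fibreDimAt {X Y : Scheme.{u}} [IrreducibleSpace X]
    [IrreducibleSpace Y] (f : X ⟶ Y) [LocallyOfFiniteType f] [IsDominant f] (x : X) :
    topologicalKrullDim ↥(f.fiber (genericPoint Y)) ≤ FlatMor.fibreDimAt f x := by
  have hgen := map_genericPoint f
  haveI := irreducibleSpace_fiber f _ hgen
  have hξ : FlatMor.fibreDimAt f (genericPoint X) =
      topologicalKrullDim (f.fiber (genericPoint Y)) := by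
    rw [← localDim_fiber_eq_fibreDimAt f (genericPoint X) (genericPoint Y) hgen
      ((f.fiberHomeo _).symm ⟨genericPoint X, hgen⟩) (f.fiberι_fiberHomeo_symm _ ⟨_, hgen⟩)]
    exact @Groth.Agent.H1.EquiDim.localDim_eq_dim (Y.residueField (genericPoint Y)) _ _ _
      (f.fiberToSpecResidueField (genericPoint Y))
      (locallyOfFiniteType_fiberToSpecResidueField f _) _
  rw [← hξ]
  generalize hn : FlatMor.fibreDimAt f x = n
  induction n with
  | bot =>
    exfalso
    have h2 := zero_le_fibreDimAt f x
    rw [hn] at h2
    exact absurd h2 (by simp)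
  | coe a =>
    induction a with
    | top => exact le_top
    | coe m =>
      have hopen := isOpen_fibreDimAt_le f m
      have hx : x ∈ {x : X | FlatMor.fibreDimAt f x ≤ m} := hn.le
      exact (genericPoint_specializes x).mem_open hopen hx

end Groth.Agent.H1.Chev
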