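import Mathlib

/-! Helper1: Krull dimension along flat local homomorphisms. -/

set_option autoImplicit false

open IsLocalRing

namespace Groth.Agent.H1.FlatDim

/-- For a flat local homomorphism of local rings, `dim A ≤ dim B` (going down). -/
theorem ringKrullDim_le_of_flat_isLocalHom (A B : Type*) [CommRing A] [CommRing B]
    [IsLocalRing A] [IsLocalRing B] [Algebra A B] [IsLocalHom (algebraMap A B)]
    [Module.Flat A B] : ringKrullDim A ≤ ringKrullDim B := by
  rw [← IsLocalRing.maximalIdeal_height_eq_ringKrullDim (R := A)]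
  have h1 : (maximalIdeal A).height =
      Order.height (⟨maximalIdeal A, inferInstance⟩ : PrimeSpectrum A) :=
    PrimeSpectrum.height_eq_orderHeight ⟨maximalIdeal A, inferInstance⟩
  rw [h1]
  have hne : ringKrullDim B ≠ ⊥ := by
    intro h
    have := ringKrullDim_nonneg_of_nontrivial (R := B)
    rw [h] at this
    exact absurd this (by simp)
  obtain ⟨n, hn⟩ := WithBot.ne_bot_iff_exists.mp hne
  rw [← hn, WithBot.coe_le_coe]
  apply Order.height_le
  intro l hl
  haveI : (maximalIdeal B).LiesOver l.last.asIdeal := by
    constructor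
    rw [hl]
    exact (IsLocalRing.maximalIdeal_comap (algebraMap A B)).symm
  obtain ⟨L, hlen, -, -⟩ := Ideal.exists_ltSeries_of_hasGoingDown l (maximalIdeal B)
  rw [← hlen]
  have h3 : ((L.length : ℕ∞) : WithBot ℕ∞) ≤ ringKrullDim B := Order.LTSeries.length_le_krullDim L
  rw [← hn, WithBot.coe_le_coe] at h3
  exact h3

section
variable (A B : Type*) [CommRing A] [CommRing B] [IsLocalRing A] [IsLocalRing B] [Algebra A B]
  [IsLocalHom (algebraMap A B)]

theorem map_maximalIdeal_le : (maximalIdeal A).map (algebraMap A B) ≤ maximalIdeal B :=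
  ((IsLocalRing.local_hom_TFAE (algebraMap A B)).out 0 2 rfl rfl).mp inferInstance

theorem map_maximalIdeal_ne_top : (maximalIdeal A).map (algebraMap A B) ≠ ⊤ := by
  intro h
  have := map_maximalIdeal_le A B
  rw [h] at this
  exact (maximalIdeal.isMaximal B).ne_top (top_le_iff.mp this)

instance nontrivial_fiber : Nontrivial (B ⧸ (maximalIdeal A).map (algebraMap A B)) :=
  Ideal.Quotient.nontrivial_iff.mpr (map_maximalIdeal_ne_top A B)

instance isLocalRing_fiber : IsLocalRing (B ⧸ (maximalIdeal A).map (algebraMap A B)) :=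
  IsLocalRing.of_surjective' (Ideal.Quotient.mk _) Ideal.Quotient.mk_surjective

theorem maximalIdeal_fiber :
    maximalIdeal (B ⧸ (maximalIdeal A).map (algebraMap A B)) =
      (maximalIdeal B).map (Ideal.Quotient.mk ((maximalIdeal A).map (algebraMap A B))) := by
  have hsurj : Function.Surjective (Ideal.Quotient.mk ((maximalIdeal A).map (algebraMap A B))) :=
    Ideal.Quotient.mk_surjective
  haveI : IsLocalHom (Ideal.Quotient.mk ((maximalIdeal A).map (algebraMap A B))) :=
    IsLocalHom.of_surjective _ hsurj
  rw [← IsLocalRing.maximalIdeal_comap (Ideal.Quotient.mk ((maximalIdeal A).map (algebraMap A B))),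
    Ideal.map_comap_of_surjective _ hsurj]

/-- Dimension inequality for local homomorphisms of Noetherian local rings. -/
theorem ringKrullDim_le_add_fiber [IsNoetherianRing A] [IsNoetherianRing B] :
    ringKrullDim B ≤ ringKrullDim A +
      ringKrullDim (B ⧸ (maximalIdeal A).map (algebraMap A B)) := by
  haveI : (maximalIdeal B).LiesOver (maximalIdeal A) :=
    ⟨(IsLocalRing.maximalIdeal_comap (algebraMap A B)).symm⟩
  have h := Ideal.height_le_height_add_of_liesOver (maximalIdeal A) (maximalIdeal B)
  rw [← maximalIdeal_fiber A B] at h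
  rw [← IsLocalRing.maximalIdeal_height_eq_ringKrullDim (R := A),
    ← IsLocalRing.maximalIdeal_height_eq_ringKrullDim (R := B),
    ← IsLocalRing.maximalIdeal_height_eq_ringKrullDim
      (R := B ⧸ (maximalIdeal A).map (algebraMap A B))]
  exact_mod_cast h

/-- Dimension formula for flat local homomorphisms of Noetherian local rings. -/
theorem ringKrullDim_eq_add_fiber_of_flat [IsNoetherianRing A] [IsNoetherianRing B]
    [Module.Flat A B] :
    ringKrullDim B = ringKrullDim A +
      ringKrullDim (B ⧸ (maximalIdeal A).map (algebraMap A B)) := by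
  haveI : (maximalIdeal B).LiesOver (maximalIdeal A) :=
    ⟨(IsLocalRing.maximalIdeal_comap (algebraMap A B)).symm⟩
  have h := Ideal.height_eq_height_add_of_liesOver_of_hasGoingDown (maximalIdeal A) (maximalIdeal B)
  rw [← maximalIdeal_fiber A B] at h
  rw [← IsLocalRing.maximalIdeal_height_eq_ringKrullDim (R := A),
    ← IsLocalRing.maximalIdeal_height_eq_ringKrullDim (R := B),
    ← IsLocalRing.maximalIdeal_height_eq_ringKrullDim
      (R := B ⧸ (maximalIdeal A).map (algebraMap A B))]
  exact_mod_cast congrArg (fun x : ℕ∞ => (x : WithBot ℕ∞)) h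

end

end Groth.Agent.H1.FlatDim
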