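import Mathlib
import Groth.Agent.Lib.Helper1.Chev1
import Groth.Agent.Lib.Helper2.DimFG
import Groth.Agent.Lib.Helper1.FlatDimLocal

/-!
# Lower semicontinuity of the fibre dimension for flat morphisms of finite presentation (helper1)
-/

set_option autoImplicit false
universe u

namespace Groth.Agent.H1.FlatDim

open TensorProduct MvPolynomial Groth.Agent.H1.GenFib Groth.Agent.H1.FibDim AlgebraicGeometry
  CategoryTheory TopologicalSpace Topology

/-- in a valuation ring a nonempty finite set has an element dividing all others. -/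
theorem exists_dvd_all {V : Type*} [CommRing V] [IsDomain V] [ValuationRing V] (s : Finset V)
    (hs : s.Nonempty) : ∃ a ∈ s, ∀ b ∈ s, a ∣ b := by
  classical
  induction hs using Finset.Nonempty.cons_induction with
  | singleton a => exact ⟨a, by simp, by simp⟩
  | cons x s hx hs ih =>
    obtain ⟨a, has, ha⟩ := ih
    rcases ValuationRing.dvd_total x a with h | h
    · refine ⟨x, by simp, ?_⟩
      intro b hb
      rw [Finset.mem_cons] at hb
      rcases hb with rfl | hb
      · exact dvd_rfl
      · exact h.trans (ha b hb)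
    · refine ⟨a, by simp [has], ?_⟩
      intro b hb
      rw [Finset.mem_cons] at hb
      rcases hb with rfl | hb
      · exact h
      · exact ha b hb

/-- a nonzero polynomial over a valuation ring is a nonzero constant times a polynomial with a
unit coefficient. -/
theorem exists_smul_unit_coeff {V : Type*} [CommRing V] [IsDomain V] [ValuationRing V] {σ : Type*}
    (P : MvPolynomial σ V) (hP : P ≠ 0) :
    ∃ (c : V) (P₀ : MvPolynomial σ V), c ≠ 0 ∧ P = c • P₀ ∧ ∃ m, P₀.coeff m = 1 := by
  classical
  have hne : P.coeffs.Nonempty := by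
    obtain ⟨m, hm⟩ := MvPolynomial.ne_zero_iff.mp hP
    exact ⟨P.coeff m, MvPolynomial.mem_coeffs_iff.mpr ⟨m, MvPolynomial.mem_support_iff.mpr hm, rfl⟩⟩
  obtain ⟨c, hc, hdvd⟩ := exists_dvd_all P.coeffs hne
  obtain ⟨m₀, hm₀, rfl⟩ := MvPolynomial.mem_coeffs_iff.mp hc
  have hc0 : P.coeff m₀ ≠ 0 := MvPolynomial.mem_support_iff.mp hm₀
  have hall : ∀ m, P.coeff m₀ ∣ P.coeff m := by
    intro m
    by_cases hm : m ∈ P.support
    · exact hdvd _ (MvPolynomial.mem_coeffs_iff.mpr ⟨m, hm, rfl⟩)
    · rw [MvPolynomial.notMem_support_iff.mp hm]; exact dvd_zero _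
  choose q hq using hall
  refine ⟨P.coeff m₀, ∑ m ∈ P.support, monomial m (q m), hc0, ?_, m₀, ?_⟩
  · ext m
    rw [MvPolynomial.coeff_smul, MvPolynomial.coeff_sum]
    simp only [MvPolynomial.coeff_monomial, Finset.sum_ite_eq', smul_eq_mul]
    split_ifs with hm
    · exact hq m
    · rw [MvPolynomial.notMem_support_iff.mp hm, mul_zero]
  · rw [MvPolynomial.coeff_sum]
    simp only [MvPolynomial.coeff_monomial, Finset.sum_ite_eq', hm₀, if_true]
    have := hq m₀
    exact (mul_right_cancel₀ hc0 (by rw [one_mul, mul_comm]; exact this.symm))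


/-- injectivity of a flat base change of `aeval y`. -/
theorem aeval_one_tmul_injective_of_flat {R A : Type u} [CommRing R] [CommRing A] [Algebra R A]
    {d : ℕ} (y : Fin d → A)
    (hind : Function.Injective (aeval y : MvPolynomial (Fin d) R →ₐ[R] A))
    (R' : Type u) [CommRing R'] [Algebra R R'] [Module.Flat R R'] :
    Function.Injective
      (aeval (fun i => (1 : R') ⊗ₜ[R] y i) : MvPolynomial (Fin d) R' →ₐ[R'] R' ⊗[R] A) := by
  set ψ : MvPolynomial (Fin d) R' →ₐ[R'] R' ⊗[R] A := aeval (fun i => (1 : R') ⊗ₜ[R] y i) with hψ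
  have key : ∀ t : R' ⊗[R] MvPolynomial (Fin d) R,
      ψ (MvPolynomial.algebraTensorAlgEquiv R R' t) =
        (aeval y : MvPolynomial (Fin d) R →ₐ[R] A).toLinearMap.lTensor R' t := by
    intro t
    induction t using TensorProduct.induction_on with
    | zero => simp
    | tmul a p =>
      rw [MvPolynomial.algebraTensorAlgEquiv_tmul, map_smul, hψ, aeval_one_tmul_map,
        LinearMap.lTensor_tmul, TensorProduct.smul_tmul', smul_eq_mul, mul_one]
      rfl
    | add t1 t2 h1 h2 => rw [map_add, map_add, map_add, h1, h2]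
  have hinj := Module.Flat.lTensor_preserves_injective_linearMap (M := R')
    (aeval y : MvPolynomial (Fin d) R →ₐ[R] A).toLinearMap hind
  intro a b hab
  obtain ⟨a', rfl⟩ := (MvPolynomial.algebraTensorAlgEquiv R R').surjective a
  obtain ⟨b', rfl⟩ := (MvPolynomial.algebraTensorAlgEquiv R R').surjective b
  rw [key, key] at hab
  rw [hinj hab]

/-- over a valuation ring, for a flat algebra, injectivity of `aeval` on the special fibre lifts. -/
theorem aeval_injective_of_residue_injective (V B : Type u) [CommRing V] [IsDomain V]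
    [ValuationRing V] [CommRing B] [Algebra V B] [Module.Flat V B] {d : ℕ} (b : Fin d → B)
    (hinj : Function.Injective (aeval (fun i => (1 : IsLocalRing.ResidueField V) ⊗ₜ[V] b i) :
      MvPolynomial (Fin d) (IsLocalRing.ResidueField V) →ₐ[IsLocalRing.ResidueField V]
        IsLocalRing.ResidueField V ⊗[V] B)) :
    Function.Injective (aeval b : MvPolynomial (Fin d) V →ₐ[V] B) := by
  rw [injective_iff_map_eq_zero]
  intro P hP
  by_contra hP0
  obtain ⟨c, P₀, hc, rfl, m, hm⟩ := exists_smul_unit_coeff P hP0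
  rw [map_smul] at hP
  have hreg : IsSMulRegular B c :=
    Module.Flat.isSMulRegular_of_nonZeroDivisors (mem_nonZeroDivisors_of_ne_zero hc)
  have h0 : (aeval b) P₀ = 0 :=
    hreg (show c • (aeval b) P₀ = c • (0 : B) by rw [hP, smul_zero])
  have h1 := aeval_one_tmul_map b (IsLocalRing.ResidueField V) P₀
  rw [h0, TensorProduct.tmul_zero] at h1
  have h2 : MvPolynomial.map (algebraMap V (IsLocalRing.ResidueField V)) P₀ = 0 :=
    hinj (h1.trans (map_zero _).symm)
  have h3 := congrArg (MvPolynomial.coeff m) h2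
  rw [MvPolynomial.coeff_map, hm, map_one, MvPolynomial.coeff_zero] at h3
  exact one_ne_zero h3

/-- a finite type algebra over a field containing a polynomial ring in `d` variables has
dimension at least `d`. -/
theorem le_ringKrullDim_of_injective (K C : Type u) [Field K] [CommRing C] [Algebra K C]
    [Algebra.FiniteType K C] {d : ℕ} (g : MvPolynomial (Fin d) K →ₐ[K] C)
    (hg : Function.Injective g) : (d : WithBot ℕ∞) ≤ ringKrullDim C := by
  classical
  haveI : IsNoetherianRing C := Algebra.FiniteType.isNoetherianRing K C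
  have hfin : (minimalPrimes C).Finite := minimalPrimes.finite_of_isNoetherianRing C
  -- some minimal prime has trivial contraction
  have hex : ∃ p ∈ minimalPrimes C, Ideal.comap g.toRingHom p = ⊥ := by
    by_contra hcon
    push Not at hcon
    have hprod : ∏ p ∈ hfin.toFinset, Ideal.comap g.toRingHom p = ⊥ := by
      rw [eq_bot_iff]
      intro x hx
      have hx' : ∀ p ∈ minimalPrimes C, g x ∈ p := by
        intro p hp
        have := Ideal.prod_le_inf hx
        rw [Finset.inf_eq_iInf, Ideal.mem_iInf] at this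
        have h2 := this p
        rw [Ideal.mem_iInf] at h2
        exact h2 (hfin.mem_toFinset.mpr hp)
      have hnil : IsNilpotent (g x) := by
        rw [← mem_nilradical, nilradical, ← Ideal.sInf_minimalPrimes]
        rw [Ideal.mem_sInf]
        intro p hp
        exact hx' p hp
      obtain ⟨n, hn⟩ := hnil
      rw [← map_pow] at hn
      have : x ^ n = 0 := hg (hn.trans (map_zero g).symm)
      rw [IsReduced.eq_zero x ⟨n, this⟩]
      exact Ideal.zero_mem _
    rw [← Ideal.zero_eq_bot, Finset.prod_eq_zero_iff] at hprod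
    obtain ⟨p, hp, hp0⟩ := hprod
    exact hcon p (hfin.mem_toFinset.mp hp) hp0
  obtain ⟨p, hp, hp0⟩ := hex
  haveI : p.IsPrime := hp.1.1
  obtain ⟨s, hs1, hs2⟩ := Groth.Agent.H2.DimFG.exists_dim_eq_trdeg K (C ⧸ p)
  have hinj' : Function.Injective ((Ideal.Quotient.mkₐ K p).comp g) := by
    rw [injective_iff_map_eq_zero]
    intro x hx
    rw [AlgHom.comp_apply, Ideal.Quotient.mkₐ_eq_mk, Ideal.Quotient.eq_zero_iff_mem] at hx
    have : x ∈ Ideal.comap g.toRingHom p := hx
    rw [hp0] at this
    exact this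
  have h1 := trdeg_le_of_injective _ hinj'
  rw [MvPolynomial.trdeg_of_isDomain, hs2] at h1
  have hds : d ≤ s := by simpa using h1
  calc (d : WithBot ℕ∞) ≤ s := by exact_mod_cast hds
    _ = ringKrullDim (C ⧸ p) := hs1.symm
    _ ≤ ringKrullDim C := ringKrullDim_quotient_le p


/-- the dimension of a finite type algebra over a field, from a Noether normalization. -/
theorem ringKrullDim_eq_of_noether (k C : Type u) [Field k] [CommRing C] [Algebra k C] {m : ℕ}
    (ν : MvPolynomial (Fin m) k →ₐ[k] C) (hinj : Function.Injective ν)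
    (hint : ν.toRingHom.IsIntegral) : ringKrullDim C = m := by
  have hν : (aeval (fun i => ν (X i)) : MvPolynomial (Fin m) k →ₐ[k] C) = ν := by
    ext i; simp
  have h1 := ringKrullDim_tensor_eq_of_integral_injective (R := k) (A := C)
    (fun i => ν (X i)) (by rw [hν]; exact hinj) (by rw [hν]; exact hint) k
  rw [← h1]
  exact (ringKrullDim_eq_of_ringEquiv (Algebra.TensorProduct.lid k C).toRingEquiv).symm

/-- over a local ring, every element of the special fibre of an algebra is a pure tensor `1 ⊗ b`. -/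
theorem exists_eq_one_tmul_residue (V B : Type*) [CommRing V] [IsLocalRing V] [CommRing B]
    [Algebra V B] (z : IsLocalRing.ResidueField V ⊗[V] B) :
    ∃ b : B, z = (1 : IsLocalRing.ResidueField V) ⊗ₜ[V] b := by
  induction z using TensorProduct.induction_on with
  | zero => exact ⟨0, by simp⟩
  | tmul r b =>
    obtain ⟨r', rfl⟩ := IsLocalRing.residue_surjective r
    refine ⟨r' • b, ?_⟩
    rw [TensorProduct.tmul_smul, TensorProduct.smul_tmul', Algebra.smul_def, mul_one]
    rfl
  | add x y hx hy =>
    obtain ⟨a, rfl⟩ := hx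
    obtain ⟨b, rfl⟩ := hy
    exact ⟨a + b, by rw [TensorProduct.tmul_add]⟩

/-- **For a flat finite type algebra over a valuation ring, the special fibre has dimension at
most that of the generic fibre.** -/
theorem ringKrullDim_residue_le_fraction (V B K : Type u) [CommRing V] [IsDomain V]
    [ValuationRing V] [CommRing B] [Algebra V B] [Algebra.FiniteType V B] [Module.Flat V B]
    [Field K] [Algebra V K] [IsFractionRing V K] :
    ringKrullDim (IsLocalRing.ResidueField V ⊗[V] B) ≤ ringKrullDim (K ⊗[V] B) := by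
  rcases subsingleton_or_nontrivial (IsLocalRing.ResidueField V ⊗[V] B) with hsub | hnt
  · rw [ringKrullDim_eq_bot_of_subsingleton]
    exact bot_le
  obtain ⟨m, ν, hinj, hint⟩ :=
    exists_integral_inj_algHom_of_fg (IsLocalRing.ResidueField V)
      (IsLocalRing.ResidueField V ⊗[V] B)
  rw [ringKrullDim_eq_of_noether _ _ ν hinj hint]
  have H : ∀ i : Fin m, ∃ b : B, ν (X i) = (1 : IsLocalRing.ResidueField V) ⊗ₜ[V] b :=
    fun i => exists_eq_one_tmul_residue V B _
  choose b hb using H
  have hν : (aeval (fun i => (1 : IsLocalRing.ResidueField V) ⊗ₜ[V] b i) :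
      MvPolynomial (Fin m) (IsLocalRing.ResidueField V) →ₐ[IsLocalRing.ResidueField V]
        IsLocalRing.ResidueField V ⊗[V] B) = ν := by
    ext i
    simp [hb i]
  have h1 := aeval_injective_of_residue_injective V B b (by rw [hν]; exact hinj)
  haveI : Module.Flat V K := IsLocalization.flat K (nonZeroDivisors V)
  have h2 := aeval_one_tmul_injective_of_flat b h1 K
  exact le_ringKrullDim_of_injective K (K ⊗[V] B) _ h2


/-- **For a flat finite type algebra, the fibre dimension does not increase under
specialization.** -/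
theorem fibDim_le_of_le (A B : Type u) [CommRing A] [CommRing B] [Algebra A B]
    [Algebra.FiniteType A B] [Module.Flat A B] (p p' : PrimeSpectrum A) (h : p' ≤ p) :
    fibDim A B p ≤ fibDim A B p' := by
  set K := p'.asIdeal.ResidueField with hK
  set R := Localization.AtPrime p.asIdeal with hR
  have hunit : ∀ y : p.asIdeal.primeCompl, IsUnit (algebraMap A K y) := by
    rintro ⟨y, hy⟩
    rw [isUnit_iff_ne_zero, Ne, Ideal.algebraMap_residueField_eq_zero]
    exact fun hy' => hy (h hy')
  let f : R →+* K := IsLocalization.lift (M := p.asIdeal.primeCompl) (g := algebraMap A K) hunit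
  obtain ⟨V, hV, hloc⟩ := IsLocalRing.exists_factor_valuationRing f
  letI algAV : Algebra A V := ((f.codRestrict V.toSubring hV).comp (algebraMap A R)).toAlgebra
  have hAV : ∀ a : A, ((algebraMap A V a : V) : K) = algebraMap A K a := by
    intro a
    change f (algebraMap A R a) = _
    exact IsLocalization.lift_eq _ _
  haveI : IsScalarTower A V K := IsScalarTower.of_algebraMap_eq (fun a => (hAV a).symm)
  set kV := IsLocalRing.ResidueField V with hkV
  have hker : RingHom.ker (algebraMap A kV) = p.asIdeal := by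
    ext a
    rw [RingHom.mem_ker, IsScalarTower.algebraMap_apply A V kV,
      IsLocalRing.ResidueField.algebraMap_eq, IsLocalRing.residue_eq_zero_iff,
      IsLocalRing.mem_maximalIdeal, mem_nonunits_iff]
    have h1 : IsUnit (algebraMap A V a) ↔ IsUnit (algebraMap A R a) := by
      constructor
      · intro hu
        exact hloc.map_nonunit _ hu
      · intro hu
        exact hu.map (f.codRestrict V.toSubring hV)
    rw [h1, IsLocalization.AtPrime.isUnit_to_map_iff R p.asIdeal]
    simp [Ideal.primeCompl]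
  rw [← ringKrullDim_tensor_eq_fibDim A B kV p hker]
  have e1 : kV ⊗[V] (V ⊗[A] B) ≃ₐ[kV] kV ⊗[A] B :=
    Algebra.TensorProduct.cancelBaseChange A V kV kV B
  have e2 : K ⊗[V] (V ⊗[A] B) ≃ₐ[K] K ⊗[A] B :=
    Algebra.TensorProduct.cancelBaseChange A V K K B
  have d1 : ringKrullDim (kV ⊗[V] (V ⊗[A] B)) = ringKrullDim (kV ⊗[A] B) :=
    ringKrullDim_eq_of_ringEquiv e1.toRingEquiv
  have d2 : ringKrullDim (K ⊗[V] (V ⊗[A] B)) = ringKrullDim (K ⊗[A] B) :=
    ringKrullDim_eq_of_ringEquiv e2.toRingEquiv
  rw [← d1]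
  change _ ≤ ringKrullDim (K ⊗[A] B)
  rw [← d2]
  exact ringKrullDim_residue_le_fraction V (V ⊗[A] B) K


variable {X S : Scheme.{u}}

/-- the fibre dimension over an affine open of the target as a constructible function on its
spectrum, monotone under generization in the flat case. -/
theorem exists_fiber_dim_data (f : X ⟶ S) [LocallyOfFinitePresentation f] [QuasiCompact f]
    {W : S.Opens} (hW : IsAffineOpen W) :
    ∃ D : PrimeSpectrum Γ(S, W) → WithBot ℕ∞, CFun D ∧
      (∀ y : W, topologicalKrullDim (f.fiber y.1) = D (hW.primeIdealOf y)) ∧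
      (Flat f → ∀ p p' : PrimeSpectrum Γ(S, W), p' ≤ p → D p ≤ D p') := by
  classical
  have hqc : IsCompact (f ⁻¹ᵁ W : Set X) := f.isCompact_preimage hW.isCompact
  obtain ⟨s, hsfin, hs⟩ := isCompact_iff_finite_and_eq_biUnion_affineOpens.mp hqc
  have hle : ∀ i ∈ s, (i : X.Opens) ≤ f ⁻¹ᵁ W := by
    intro i hi
    rw [hs]
    exact le_iSup₂ (f := fun (i : X.affineOpens) (_ : i ∈ s) => (i : X.Opens)) i hi
  haveI : Fintype s := hsfin.fintype
  let d : s → PrimeSpectrum Γ(S, W) → WithBot ℕ∞ := fun i =>
    @fibDim Γ(S, W) Γ(X, (i.1 : X.Opens)) _ _ (f.appLE W i.1 (hle i.1 i.2)).hom.toAlgebra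
  have hd : ∀ i, CFun (d i) := by
    intro i
    letI := (f.appLE W i.1 (hle i.1 i.2)).hom.toAlgebra
    haveI : Algebra.FinitePresentation Γ(S, W) Γ(X, (i.1 : X.Opens)) :=
      f.finitePresentation_appLE hW i.1.2 (hle i.1 i.2)
    exact isConstructible_fibDim Γ(S, W) Γ(X, (i.1 : X.Opens))
  refine ⟨fun p => (Finset.univ : Finset s).sup (fun i => d i p),
    CFun.finset_sup (Finset.univ : Finset s) d (fun i _ => hd i), ?_, ?_⟩
  · rintro ⟨y, hy⟩
    change _ = (Finset.univ : Finset s).sup (fun i => d i (hW.primeIdealOf ⟨y, hy⟩))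
    rw [fiber_dim_eq_iSup f s hs y hy, Finset.sup_univ_eq_iSup]
    congr 1
    funext i
    letI := (f.appLE W i.1 (hle i.1 i.2)).hom.toAlgebra
    letI := (S.evaluation W y hy).hom.toAlgebra
    haveI : Algebra.FiniteType Γ(S, W) Γ(X, (i.1 : X.Opens)) :=
      LocallyOfFiniteType.finiteType_appLE f hW i.1.2 (hle i.1 i.2)
    rw [topologicalKrullDim_fiberPiece f i.1.2 hW (hle i.1 i.2) y hy]
    exact ringKrullDim_tensor_eq_fibDim Γ(S, W) Γ(X, (i.1 : X.Opens)) (S.residueField y)
      (hW.primeIdealOf ⟨y, hy⟩) (ker_evaluation hW y hy)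
  · intro hflat p p' hpp'
    apply Finset.sup_mono_fun
    intro i _
    letI := (f.appLE W i.1 (hle i.1 i.2)).hom.toAlgebra
    haveI : Algebra.FiniteType Γ(S, W) Γ(X, (i.1 : X.Opens)) :=
      LocallyOfFiniteType.finiteType_appLE f hW i.1.2 (hle i.1 i.2)
    haveI : Module.Flat Γ(S, W) Γ(X, (i.1 : X.Opens)) := f.flat_appLE hW i.1.2 (hle i.1 i.2)
    exact fibDim_le_of_le Γ(S, W) Γ(X, (i.1 : X.Opens)) p p' hpp'

/-- **For a flat morphism of finite presentation the fibre dimension is lower semicontinuous on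
the target.** -/
theorem isOpen_lt_fiber_dim (f : X ⟶ S) [Flat f] [LocallyOfFinitePresentation f] [QuasiCompact f]
    (c : WithBot ℕ∞) : IsOpen {s : S | c < topologicalKrullDim (f.fiber s)} := by
  rw [isOpen_iff_forall_mem_open]
  intro s₀ hs₀
  obtain ⟨_, ⟨W, hW, rfl⟩, hsW, -⟩ :=
    S.isBasis_affineOpens.exists_subset_of_mem_open (Set.mem_univ s₀) isOpen_univ
  obtain ⟨D, hD, hDeq, hDmono⟩ := exists_fiber_dim_data f hW
  -- the open subset of the spectrum
  set T : Set (PrimeSpectrum Γ(S, W)) := {p | c < D p} with hT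
  have hTc : IsConstructible T := by
    have h1 := (hD.comp (fun n => (c < n : Prop))).1 True
    have h2 : (fun n => (c < n : Prop)) ∘ D ⁻¹' {True} = T := by
      ext p
      simp [hT]
    rwa [h2] at h1
  have hTg : StableUnderGeneralization T := by
    intro p p' hpp' hp
    have h1 : p' ≤ p := (PrimeSpectrum.le_iff_specializes p' p).mpr hpp'
    exact lt_of_lt_of_le hp (hDmono inferInstance p p' h1)
  have hTo : IsOpen T := PrimeSpectrum.isOpen_of_stableUnderGeneralization_of_isConstructible hTg hTc
  -- transport to `W`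
  let φ := hW.isoSpec.hom.homeomorph
  have hφ : ∀ y : W, φ y = hW.primeIdealOf y := fun y => rfl
  have hopenW : IsOpen (φ ⁻¹' T) := hTo.preimage φ.continuous
  have hopen : IsOpen (Subtype.val '' (φ ⁻¹' T) : Set S) := W.isOpen.isOpenMap_subtype_val _ hopenW
  refine ⟨Subtype.val '' (φ ⁻¹' T), ?_, hopen, ⟨⟨s₀, hsW⟩, ?_, rfl⟩⟩
  · rintro _ ⟨y, hy, rfl⟩
    change c < topologicalKrullDim (f.fiber y.1)
    rw [hDeq y]
    exact hy
  · change c < D (φ ⟨s₀, hsW⟩)
    rw [hφ, ← hDeq ⟨s₀, hsW⟩]
    exact hs₀


end Groth.Agent.H1.FlatDim
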