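import Mathlib
import Groth.Agent.Lib.Helper1.FlatDim
import Groth.Agent.Lib.Helper1.Chev4

/-! Fibre dimension of flat morphisms over a dense open (helper1). -/

set_option autoImplicit false
universe u

namespace Groth.Agent.H1.FlatDim

open TensorProduct Groth.Agent.H1.GenFib Groth.Agent.H1.FibDim Groth.Agent.H1.Chev
  AlgebraicGeometry CategoryTheory TopologicalSpace Topology

section Top

variable {F : Type*} [TopologicalSpace F]

/-- the local dimension of an open subspace at a point is at most that of the ambient space. -/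
theorem localDim_opens_le (V : Opens F) (z : V) :
    FlatMor.localDim V z ≤ FlatMor.localDim F z.1 := by
  apply le_iInf
  rintro ⟨N, hN⟩
  let N' : Opens V := ⟨Subtype.val ⁻¹' (N : Set F), N.isOpen.preimage continuous_subtype_val⟩
  refine (Groth.Agent.H3.TopDim.localDim_le_dim_of_mem N' (show z ∈ N' from hN)).trans ?_
  exact Groth.Agent.H3.TopDim.dim_le_of_inducing_mapsTo (f := (Subtype.val : V → F))
    IsInducing.subtypeVal (fun a ha => ha)

/-- an open subspace all of whose points have local dimension at most `c` in the ambient space has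
dimension at most `c`. -/
theorem dim_opens_le_of_localDim_le (V : Opens F) (c : WithBot ℕ∞)
    (h : ∀ z ∈ V, FlatMor.localDim F z ≤ c) : topologicalKrullDim (V : Set F) ≤ c := by
  change topologicalKrullDim V ≤ c
  rw [Groth.Agent.H3.TopDim.dim_eq_iSup_localDim]
  apply iSup_le
  intro z
  exact (localDim_opens_le V z).trans (h z.1 z.2)

end Top

section Alg

variable (A B : Type u) [CommRing A] [CommRing B] [Algebra A B]

/-- flat of finite presentation: every point has a point of a given dense open with at least the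
same fibre dimension. -/
theorem exists_mem_fibDim_le_of_dense [Algebra.FinitePresentation A B] [Module.Flat A B]
    (p : PrimeSpectrum A) (O : Set (PrimeSpectrum A)) (hO : IsOpen O) (hd : Dense O) :
    ∃ q ∈ O, fibDim A B p ≤ fibDim A B q := by
  have hD := isConstructible_fibDim A B
  set T : Set (PrimeSpectrum A) := {q | fibDim A B p ≤ fibDim A B q} with hT
  have hTc : IsConstructible T := by
    have h1 := (hD.comp (fun n => (fibDim A B p ≤ n : Prop))).1 True
    have h2 : (fun n => (fibDim A B p ≤ n : Prop)) ∘ fibDim A B ⁻¹' {True} = T := by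
      ext q
      simp [hT]
    rwa [h2] at h1
  have hTg : StableUnderGeneralization T := by
    intro q q' hqq' hq
    have h1 : q' ≤ q := (PrimeSpectrum.le_iff_specializes q' q).mpr hqq'
    exact le_trans hq (fibDim_le_of_le A B q q' h1)
  have hTo : IsOpen T :=
    PrimeSpectrum.isOpen_of_stableUnderGeneralization_of_isConstructible hTg hTc
  obtain ⟨q, hqT, hqO⟩ := hd.inter_open_nonempty T hTo ⟨p, le_refl (fibDim A B p)⟩
  exact ⟨q, hqO, hqT⟩

/-- a dense quasi-compact open of a spectrum contains a generization of every point. -/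
theorem exists_le_mem_of_dense_of_isCompact (p : PrimeSpectrum A) (O : Set (PrimeSpectrum A))
    (hO : IsOpen O) (hc : IsCompact O) (hd : Dense O) : ∃ q ∈ O, q ≤ p := by
  classical
  obtain ⟨s, hs⟩ := (PrimeSpectrum.isCompact_isOpen_iff (s := O)).mp ⟨hc, hO⟩
  replace hs := hs.symm
  by_contra hcon
  push Not at hcon
  -- every generator is nilpotent in the localization
  have hnil : ∀ a ∈ s, ∃ b : A, b ∉ p.asIdeal ∧ ∃ n : ℕ, b * a ^ n = 0 := by
    intro a ha
    have h1 : IsNilpotent (algebraMap A (Localization.AtPrime p.asIdeal) a) := by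
      rw [← PrimeSpectrum.basicOpen_eq_bot_iff]
      ext q'
      simp only [Opens.coe_bot, Set.mem_empty_iff_false, iff_false]
      intro hq'
      set q := PrimeSpectrum.comap (algebraMap A (Localization.AtPrime p.asIdeal)) q' with hq
      have hqp : q ≤ p := by
        change q'.asIdeal.comap _ ≤ p.asIdeal
        have := (IsLocalization.AtPrime.orderIsoOfPrime (Localization.AtPrime p.asIdeal)
          p.asIdeal ⟨q'.asIdeal, q'.isPrime⟩).2.2
        exact this
      refine hcon q ?_ hqp
      rw [hs]
      change q ∈ (PrimeSpectrum.zeroLocus (s : Set A))ᶜ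
      rw [Set.mem_compl_iff, PrimeSpectrum.mem_zeroLocus]
      intro hsub
      exact hq' (hsub ha)
    obtain ⟨n, hn⟩ := h1
    rw [← map_pow, IsLocalization.map_eq_zero_iff p.asIdeal.primeCompl] at hn
    obtain ⟨⟨b, hb⟩, hb0⟩ := hn
    exact ⟨b, hb, n, hb0⟩
  choose! b hb n hbn using hnil
  set c := ∏ a ∈ s, b a with hc
  have hcp : c ∉ p.asIdeal := by
    rw [hc]
    intro h
    obtain ⟨a, ha, hba⟩ := (Ideal.IsPrime.prod_mem_iff (hp := p.isPrime)).mp h
    exact hb a ha hba
  obtain ⟨q, hqc, hqO⟩ := hd.inter_open_nonempty (PrimeSpectrum.basicOpen c : Set _)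
    (PrimeSpectrum.basicOpen c).isOpen ⟨p, hcp⟩
  rw [hs] at hqO
  change q ∈ (PrimeSpectrum.zeroLocus (s : Set A))ᶜ at hqO
  rw [Set.mem_compl_iff, PrimeSpectrum.mem_zeroLocus, Set.not_subset] at hqO
  obtain ⟨a, ha, haq⟩ := hqO
  have h1 : b a * a ^ n a ∈ q.asIdeal := by rw [hbn a ha]; exact zero_mem _
  rcases q.isPrime.mem_or_mem h1 with h2 | h2
  · apply hqc
    change c ∈ q.asIdeal
    rw [hc, ← Finset.mul_prod_erase s b ha]
    exact Ideal.mul_mem_right _ _ h2
  · exact haq (q.isPrime.mem_of_pow_mem _ h2)

end Alg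

end Groth.Agent.H1.FlatDim
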