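import Mathlib
import Groth.Agent.Lib.Helper1.FlatDim2

/-! Local dimension is invariant under extension of the base field; consequently the local fibre
dimension is invariant under base change (helper1). -/

set_option autoImplicit false
universe u

namespace Groth.Agent.H1.FibDimBC

open TensorProduct AlgebraicGeometry CategoryTheory CategoryTheory.Limits TopologicalSpace Topology
  Order

section Order

variable {α β : Type*} [Preorder α] [Preorder β]

/-- a map with the lifting property for strict upper bounds does not raise coheight. -/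
theorem coheight_apply_le_of_lifting (f : α → β)
    (h : ∀ a : α, ∀ b : β, f a < b → ∃ a' : α, a < a' ∧ f a' = b) (a : α) :
    coheight (f a) ≤ coheight a := by
  refine coheight_le_iff'.mpr fun p hp ↦ ?_
  induction p using RelSeries.inductionOn generalizing a with
  | singleton x => simp
  | cons p x hx ih =>
    simp only [RelSeries.head_cons] at hp
    obtain ⟨a', haa', ha'⟩ := h a p.head (by grind)
    grw [RelSeries.cons_length, Nat.cast_add, Nat.cast_one, ih a' ha'.symm]
    exact coheight_add_one_le haa'

end Order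

section Coheight

attribute [local instance] specializationOrder

/-- a flat morphism does not raise the coheight (codimension) of points. -/
theorem coheight_apply_le_of_flat {Z' Z : Scheme.{u}} (p : Z' ⟶ Z) [Flat p] (w : Z') :
    coheight (p w) ≤ coheight w := by
  refine coheight_apply_le_of_lifting (fun z : Z' => p z) ?_ w
  intro a b hab
  rw [Groth.Agent.H3.EtaleDim.lt_iff_specializes] at hab
  obtain ⟨a', ha', rfl⟩ := Flat.generalizingMap p hab.1
  refine ⟨a', ?_, rfl⟩
  rw [Groth.Agent.H3.EtaleDim.lt_iff_specializes]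
  exact ⟨ha', fun h => hab.2 (h.map p.continuous)⟩

/-- the image of an open under a flat open morphism has at most the dimension of the open. -/
theorem dim_image_le_of_flat {Z' Z : Scheme.{u}} (p : Z' ⟶ Z) [Flat p] (N' : Z'.Opens)
    (N : Z.Opens) (hN : (N : Set Z) = p '' (N' : Set Z')) :
    topologicalKrullDim (N : Set Z) ≤ topologicalKrullDim (N' : Set Z') := by
  rw [Groth.Agent.H3.EtaleDim.scheme_dim_opens_eq_iSup_coheight,
    Groth.Agent.H3.EtaleDim.scheme_dim_opens_eq_iSup_coheight]
  apply iSup_le
  rintro ⟨t, ht⟩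
  rw [hN] at ht
  obtain ⟨w, hw, rfl⟩ := ht
  refine le_trans ?_ (le_iSup (fun w' : ↥(N' : Set Z') => (coheight (w' : Z') : WithBot ℕ∞))
    ⟨w, hw⟩)
  exact WithBot.coe_le_coe.mpr (coheight_apply_le_of_flat p w)

end Coheight

section Field

variable {K L : Type u} [Field K] [Field L] (φ : CommRingCat.of K ⟶ CommRingCat.of L)
  {Z Z' : Scheme.{u}} (fK : Z ⟶ Spec (.of K)) (fL : Z' ⟶ Spec (.of L)) (p : Z' ⟶ Z)
  (sq : IsPullback p fL fK (Spec.map φ))

include sq

theorem flat_of_isPullback_field : Flat p := by
  have h1 : Flat (Spec.map φ) := by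
    rw [HasRingHomProperty.Spec_iff (P := @Flat)]
    algebraize [φ.hom]
    exact (inferInstance : Module.Flat K L)
  exact MorphismProperty.of_isPullback (P := @Flat) sq.flip h1

theorem universallyOpen_of_isPullback_field : UniversallyOpen p := by
  haveI : Subsingleton (Spec (.of K)) := inferInstanceAs (Subsingleton (PrimeSpectrum K))
  have h1 : UniversallyOpen (Spec.map φ) := inferInstance
  exact MorphismProperty.of_isPullback (P := @UniversallyOpen) sq.flip h1

/-- the preimage of an affine open under a field extension of the base has the same dimension. -/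
theorem dim_preimage_affine [LocallyOfFiniteType fK] (M : Z.Opens) (hM : IsAffineOpen M) :
    topologicalKrullDim ((p ⁻¹ᵁ M : Z'.Opens) : Set Z') = topologicalKrullDim (M : Set Z) := by
  set j := hM.fromSpec with hj
  set ψ : CommRingCat.of K ⟶ Γ(Z, M) := Spec.preimage (j ≫ fK) with hψ
  have hψ' : Spec.map ψ = j ≫ fK := Spec.map_preimage _
  -- the pasted pullback square
  have top : IsPullback (pullback.snd p j) (pullback.fst p j) j p :=
    (IsPullback.of_hasPullback p j).flip
  have big : IsPullback (pullback.snd p j) (pullback.fst p j ≫ fL) (j ≫ fK) (Spec.map φ) :=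
    top.paste_vert sq
  rw [← hψ'] at big
  algebraize [φ.hom, ψ.hom]
  have hft : Algebra.FiniteType K Γ(Z, M) := by
    have h1 : LocallyOfFiniteType (Spec.map ψ) := by
      rw [hψ']; infer_instance
    exact (HasRingHomProperty.Spec_iff (P := @LocallyOfFiniteType)).mp h1
  have big' : IsPullback (pullback.fst p j ≫ fL) (pullback.snd p j)
      (Spec.map (CommRingCat.ofHom (algebraMap K L)))
      (Spec.map (CommRingCat.ofHom (algebraMap K Γ(Z, M)))) := big.flip
  let e : pullback p j ≅ Spec (.of (L ⊗[K] Γ(Z, M))) :=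
    big'.isoPullback ≪≫ pullbackSpecIso K L Γ(Z, M)
  -- dimensions
  have h1 : topologicalKrullDim ↥(pullback p j : Scheme.{u}) = ringKrullDim Γ(Z, M) := by
    rw [← Groth.Agent.H1.FibDim.ringKrullDim_tensor_field K Γ(Z, M) L,
      ← PrimeSpectrum.topologicalKrullDim_eq_ringKrullDim]
    exact IsHomeomorph.topologicalKrullDim_eq _ e.hom.homeomorph.isHomeomorph
  have h2 : topologicalKrullDim ↥(pullback p j : Scheme.{u}) =
      topologicalKrullDim ((p ⁻¹ᵁ M : Z'.Opens) : Set Z') := by
    have hr : Set.range (pullback.fst p j) = ((p ⁻¹ᵁ M : Z'.Opens) : Set Z') := by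
      rw [Scheme.Pullback.range_fst, hj, hM.range_fromSpec]
      rfl
    have hemb := (pullback.fst p j).isOpenEmbedding.isEmbedding
    rw [← hr]
    exact IsHomeomorph.topologicalKrullDim_eq _ hemb.toHomeomorph.isHomeomorph
  rw [← h2, h1, Groth.Agent.H1.CartierKit.dim_affineOpen M hM]

section Coheight2

attribute [local instance] specializationOrder

/-- the preimage of an open under a field extension of the base has at most the same dimension. -/
theorem dim_preimage_le [LocallyOfFiniteType fK] (N : Z.Opens) :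
    topologicalKrullDim ((p ⁻¹ᵁ N : Z'.Opens) : Set Z') ≤ topologicalKrullDim (N : Set Z) := by
  rw [Groth.Agent.H3.EtaleDim.scheme_dim_opens_eq_iSup_coheight]
  apply iSup_le
  rintro ⟨w, hw⟩
  obtain ⟨M, hM, hwM, hMN⟩ : ∃ M : Z.Opens, IsAffineOpen M ∧ p w ∈ M ∧ (M : Set Z) ⊆ N := by
    obtain ⟨_, ⟨M, hM, rfl⟩, hwM, hMN⟩ :=
      Z.isBasis_affineOpens.exists_subset_of_mem_open (a := p w) hw N.isOpen
    exact ⟨M, hM, hwM, hMN⟩
  have h1 : (coheight w : WithBot ℕ∞) ≤ topologicalKrullDim ((p ⁻¹ᵁ M : Z'.Opens) : Set Z') := by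
    rw [Groth.Agent.H3.EtaleDim.scheme_dim_opens_eq_iSup_coheight]
    exact le_iSup (fun w' : ↥((p ⁻¹ᵁ M : Z'.Opens) : Set Z') =>
      (coheight (w' : Z') : WithBot ℕ∞)) ⟨w, hwM⟩
  refine h1.trans ?_
  rw [dim_preimage_affine φ fK fL p sq M hM]
  exact Groth.Agent.H3.TopDim.dim_mono hMN

end Coheight2

/-- **Local dimension is invariant under extension of the base field.** -/
theorem localDim_eq_of_isPullback_field [LocallyOfFiniteType fK] (z' : Z') :
    FlatMor.localDim Z' z' = FlatMor.localDim Z (p z') := by
  have := flat_of_isPullback_field φ fK fL p sq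
  have := universallyOpen_of_isPullback_field φ fK fL p sq
  apply le_antisymm
  · conv_rhs => unfold FlatMor.localDim
    apply le_iInf
    rintro ⟨N, hN⟩
    refine (Groth.Agent.H3.TopDim.localDim_le_dim_of_mem (p ⁻¹ᵁ N) (show z' ∈ p ⁻¹ᵁ N from hN)).trans
      ?_
    exact dim_preimage_le φ fK fL p sq N
  · conv_rhs => unfold FlatMor.localDim
    apply le_iInf
    rintro ⟨N', hN'⟩
    let N : Z.Opens := ⟨p '' (N' : Set Z'), p.isOpenMap _ N'.isOpen⟩
    refine (Groth.Agent.H3.TopDim.localDim_le_dim_of_mem N
      (show p z' ∈ N from ⟨z', hN', rfl⟩)).trans ?_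
    exact dim_image_le_of_flat p N' N rfl

end Field

end Groth.Agent.H1.FibDimBC

namespace Groth.Agent.H1.FibDimBC

open AlgebraicGeometry CategoryTheory CategoryTheory.Limits

set_option backward.isDefEq.respectTransparency.types false in
/-- the fibres of a base change are the base changes of the fibres, compatibly with the
inclusions. -/
lemma fiber_isPullback' {X Y X' Y' : Scheme.{u}} (f : X ⟶ Y) (g : Y' ⟶ Y) (f' : X' ⟶ Y')
    (g' : X' ⟶ X) (hc : IsPullback g' f' f g) (y' : Y') :
    ∃ r : f'.fiber y' ⟶ f.fiber (g y'), IsPullback r (f'.fiberToSpecResidueField y')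
      (f.fiberToSpecResidueField (g y')) (Spec.map (g.residueFieldMap y')) ∧
      r ≫ f.fiberι (g y') = f'.fiberι y' ≫ g' := by
  have e : Spec.map (g.residueFieldMap y') ≫ Y.fromSpecResidueField (g y') =
      Y'.fromSpecResidueField y' ≫ g := Scheme.Hom.SpecMap_residueFieldMap_fromSpecResidueField g y'
  have cond : (f'.fiberι y' ≫ g') ≫ f =
      (f'.fiberToSpecResidueField y' ≫ Spec.map (g.residueFieldMap y')) ≫
        Y.fromSpecResidueField (g y') := by
    rw [Category.assoc, hc.w, Scheme.Hom.fiber_fac_assoc, Category.assoc, e]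
  let r : f'.fiber y' ⟶ f.fiber (g y') := pullback.lift _ _ cond
  have hr1 : r ≫ f.fiberι (g y') = f'.fiberι y' ≫ g' :=
    pullback.lift_fst (f := f) (g := Y.fromSpecResidueField (g y')) _ _ cond
  refine ⟨r, ?_, hr1⟩
  have big : IsPullback (r ≫ f.fiberι (g y')) (f'.fiberToSpecResidueField y') f
      (Spec.map (g.residueFieldMap y') ≫ Y.fromSpecResidueField (g y')) := by
    have := (IsPullback.of_hasPullback f' (Y'.fromSpecResidueField y')).paste_horiz hc
    rw [e, hr1]
    exact this
  have hr2 : r ≫ f.fiberToSpecResidueField (g y') =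
      f'.fiberToSpecResidueField y' ≫ Spec.map (g.residueFieldMap y') :=
    pullback.lift_snd (f := f) (g := Y.fromSpecResidueField (g y')) _ _ cond
  exact IsPullback.of_right big hr2 (IsPullback.of_hasPullback _ _)

/-- **The local fibre dimension is invariant under base change.** -/
theorem fibreDimAt_eq_of_isPullback {X S X' S' : Scheme.{u}} (f : X ⟶ S) [LocallyOfFiniteType f]
    (g : S' ⟶ S) (g' : X' ⟶ X) (f' : X' ⟶ S') (hsq : IsPullback g' f' f g) (x' : X') :
    FlatMor.fibreDimAt f' x' = FlatMor.fibreDimAt f (g' x') := by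
  obtain ⟨r, hr, hrι⟩ := fiber_isPullback' f g f' g' hsq (f' x')
  have hfx : f (g' x') = g (f' x') := by
    have := congrArg (fun φ : X' ⟶ S => φ x') hsq.w
    exact this
  have hz : f.fiberι (g (f' x')) (r (f'.asFiber x')) = g' x' := by
    have := congrArg (fun φ : f'.fiber (f' x') ⟶ X => φ (f'.asFiber x')) hrι
    simp only [Scheme.Hom.comp_apply] at this
    rw [this, f'.fiberι_asFiber]
  rw [← Groth.Agent.H1.Chev.localDim_fiber_eq_fibreDimAt f (g' x') (g (f' x')) hfx
    (r (f'.asFiber x')) hz]
  have hlft : LocallyOfFiniteType (f.fiberToSpecResidueField (g (f' x'))) :=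
    Groth.Agent.H1.Chev.locallyOfFiniteType_fiberToSpecResidueField f _
  exact @localDim_eq_of_isPullback_field (S.residueField (g (f' x'))) (S'.residueField (f' x')) _ _
    (g.residueFieldMap (f' x')) _ _ (f.fiberToSpecResidueField (g (f' x')))
    (f'.fiberToSpecResidueField (f' x')) r hr hlft (f'.asFiber x')

end Groth.Agent.H1.FibDimBC
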