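import Mathlib
import Groth.Prelude.Def_Cyc
import Groth.Agent.Lib.Helper1.FibDimBC

/-! Dictionary: equidimensional fibres (`Cyc.HasRelDim`) versus constant local fibre dimension
(helper1). -/

set_option autoImplicit false
universe u

namespace Groth.Agent.H1.RelDim

open AlgebraicGeometry CategoryTheory CategoryTheory.Limits TopologicalSpace Topology

section Top

variable {A B : Type*} [TopologicalSpace A] [TopologicalSpace B]

/-- the dimension of a preimage under an embedding. -/
theorem dim_preimage_eq_of_isEmbedding {e : A → B} (he : IsEmbedding e) (S : Set B) :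
    topologicalKrullDim ↥(e ⁻¹' S) = topologicalKrullDim ↥(S ∩ Set.range e) := by
  have h1 : IsEmbedding (fun a : ↥(e ⁻¹' S) => e a.1) := he.comp IsEmbedding.subtypeVal
  have h2 : Set.range (fun a : ↥(e ⁻¹' S) => e a.1) = S ∩ Set.range e := by
    ext b
    constructor
    · rintro ⟨⟨a, ha⟩, rfl⟩
      exact ⟨ha, a, rfl⟩
    · rintro ⟨hb, a, rfl⟩
      exact ⟨⟨a, hb⟩, rfl⟩
  rw [← h2]
  exact IsHomeomorph.topologicalKrullDim_eq _ h1.toHomeomorph.isHomeomorph

end Top

section EqT

variable {k : Type u} [Field k] {Z : Scheme.{u}} (g : Z ⟶ Spec (CommRingCat.of k))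
  [LocallyOfFiniteType g]

include g in
/-- a nonempty open piece of an irreducible closed subset of a scheme locally of finite type over
a field has the dimension of the whole subset. -/
theorem dim_inter_eq_dim (T : Set Z) (hT : IsIrreducible T) (hTc : IsClosed T) (N : Z.Opens)
    (hN : ((N : Set Z) ∩ T).Nonempty) :
    topologicalKrullDim ↥((N : Set Z) ∩ T) = topologicalKrullDim ↥T := by
  set I := Scheme.IdealSheafData.vanishingIdeal ⟨T, hTc⟩ with hI
  set ι := I.subschemeι with hι
  have hr : Set.range ι = T := by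
    rw [hι, Scheme.IdealSheafData.range_subschemeι, hI,
      Scheme.IdealSheafData.coe_support_vanishingIdeal]
    rfl
  have hemb : IsEmbedding ι := ι.isEmbedding
  have e0 : I.subscheme ≃ₜ ↥(Set.range ι) := hemb.toHomeomorph
  have hirr : IrreducibleSpace I.subscheme := by
    rw [e0.irreducibleSpace_iff, hr]
    exact Subtype.irreducibleSpace hT
  have h1 : topologicalKrullDim I.subscheme = topologicalKrullDim ↥T := by
    rw [← hr]
    exact IsHomeomorph.topologicalKrullDim_eq _ e0.isHomeomorph
  have h2 : topologicalKrullDim ↥((ι ⁻¹ᵁ N : I.subscheme.Opens) : Set I.subscheme) =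
      topologicalKrullDim ↥((N : Set Z) ∩ T) := by
    rw [← hr]
    exact dim_preimage_eq_of_isEmbedding hemb (N : Set Z)
  rw [← h1, ← h2]
  refine Groth.Agent.H1.EquiDim.dim_opens_eq_dim (ι ≫ g) (ι ⁻¹ᵁ N) ?_
  obtain ⟨z, hzN, hzT⟩ := hN
  rw [← hr] at hzT
  obtain ⟨w, rfl⟩ := hzT
  exact ⟨w, hzN⟩

end EqT

/-- in a locally noetherian scheme every irreducible component contains a nonempty open. -/
theorem exists_open_subset_irreducibleComponent {Z : Scheme.{u}} [IsLocallyNoetherian Z]
    (T : Set Z) (hT : T ∈ irreducibleComponents Z) :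
    ∃ o : Z.Opens, (o : Set Z).Nonempty ∧ (o : Set Z) ⊆ T := by
  obtain ⟨t, ht⟩ := hT.1.nonempty
  obtain ⟨M, hM, htM⟩ : ∃ M : Z.Opens, IsAffineOpen M ∧ t ∈ M := by
    obtain ⟨_, ⟨M, hM, rfl⟩, htM, -⟩ :=
      Z.isBasis_affineOpens.exists_subset_of_mem_open (Set.mem_univ t) isOpen_univ
    exact ⟨M, hM, htM⟩
  haveI : IsNoetherianRing Γ(Z, M) := IsLocallyNoetherian.component_noetherian ⟨M, hM⟩
  haveI : NoetherianSpace M := noetherianSpace_of_isAffineOpen M hM
  have hemb : IsOpenEmbedding (Subtype.val : M → Z) := M.isOpen.isOpenEmbedding_subtypeVal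
  have hTM : (Subtype.val : M → Z) ⁻¹' T ∈ irreducibleComponents M :=
    preimage_mem_irreducibleComponents hT hemb ⟨t, ht, ⟨⟨t, htM⟩, rfl⟩⟩
  obtain ⟨o', ho', hne, hsub⟩ :=
    NoetherianSpace.exists_isOpen_nonempty_subset_irreducibleComponent _ hTM
  refine ⟨⟨Subtype.val '' o', hemb.isOpenMap _ ho'⟩, hne.image _, ?_⟩
  rintro _ ⟨w, hw, rfl⟩
  exact hsub hw

section Dict

variable {k : Type u} [Field k] {Z : Scheme.{u}} (g : Z ⟶ Spec (CommRingCat.of k))
  [LocallyOfFiniteType g]

include g in
/-- **Dictionary**: all irreducible components have dimension `r` iff the local dimension is `r`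
at every point. -/
theorem forall_dim_irreducibleComponents_iff (r : WithBot ℕ∞) :
    (∀ T ∈ irreducibleComponents Z, topologicalKrullDim ↥T = r) ↔
      ∀ z : Z, FlatMor.localDim Z z = r := by
  haveI : IsLocallyNoetherian Z := LocallyOfFiniteType.isLocallyNoetherian g
  constructor
  · intro h z
    apply le_antisymm
    · refine (Groth.Agent.H3.TopDim.localDim_le_dim z).trans ?_
      rw [Groth.Agent.H3.TopDim.dim_eq_iSup_irreducibleComponents]
      exact iSup₂_le fun T hT => (h T hT).le
    · unfold FlatMor.localDim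
      apply le_iInf
      rintro ⟨N, hN⟩
      have hT := irreducibleComponent_mem_irreducibleComponents z
      rw [← h _ hT, ← dim_inter_eq_dim g (irreducibleComponent z) hT.1
        (isClosed_of_mem_irreducibleComponents _ hT) N ⟨z, hN, mem_irreducibleComponent⟩]
      exact Groth.Agent.H3.TopDim.dim_mono Set.inter_subset_left
  · intro h T hT
    obtain ⟨o, ⟨w, hw⟩, hoT⟩ := exists_open_subset_irreducibleComponent T hT
    have hTc := isClosed_of_mem_irreducibleComponents _ hT
    have hoT' : (o : Set Z) ∩ T = o := Set.inter_eq_left.mpr hoT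
    rw [← h w]
    apply le_antisymm
    · unfold FlatMor.localDim
      apply le_iInf
      rintro ⟨N, hN⟩
      rw [← dim_inter_eq_dim g T hT.1 hTc N ⟨w, hN, hoT hw⟩]
      exact Groth.Agent.H3.TopDim.dim_mono Set.inter_subset_left
    · refine (Groth.Agent.H3.TopDim.localDim_le_dim_of_mem o hw).trans ?_
      rw [← dim_inter_eq_dim g T hT.1 hTc o ⟨w, hw, hoT hw⟩, hoT']

end Dict

/-- **`Cyc.HasRelDim` in terms of the local fibre dimension.** -/
theorem hasRelDim_iff {X Y : Scheme.{u}} (f : X ⟶ Y) [LocallyOfFiniteType f] (r : ℕ) :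
    Cyc.HasRelDim f r ↔ ∀ x : X, FlatMor.fibreDimAt f x = r := by
  unfold Cyc.HasRelDim
  have key : ∀ y : Y, (∀ T ∈ irreducibleComponents ↥(f.fiber y), topologicalKrullDim ↥T = r) ↔
      ∀ z : f.fiber y, FlatMor.localDim (f.fiber y) z = r := fun y =>
    @forall_dim_irreducibleComponents_iff (Y.residueField y) _ _
      (f.fiberToSpecResidueField y)
      (Groth.Agent.H1.Chev.locallyOfFiniteType_fiberToSpecResidueField f y) r
  constructor
  · intro h x
    exact (key (f x)).mp (h (f x)) (f.asFiber x)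
  · intro h y
    rw [key y]
    intro z
    rw [Groth.Agent.H1.Chev.localDim_fiber_eq_fibreDimAt f (f.fiberι y z) y
      (Groth.Agent.H1.GenFib.fiberι_apply_mem f y z) z rfl]
    exact h _

end Groth.Agent.H1.RelDim
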