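import Mathlib
import Groth.Agent.Lib.Helper1.RelDim
import Groth.Agent.Lib.Helper2.DimFG
import Groth.Agent.Lib.Helper1.GenFin

/-! The dimension formula `dim_x Z = dim O_{Z,x} + trdeg_k κ(x)` for schemes locally of finite type
over a field, and its relative version for fibres (helper1). -/

set_option autoImplicit false
universe u

namespace Groth.Agent.H1.DimFormula

open AlgebraicGeometry CategoryTheory CategoryTheory.Limits TopologicalSpace Topology

section Order

variable {α : Type*} [PartialOrder α]

/-- between two comparable elements, the upper one of finite height, there is a saturated chain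
of length at most that height. -/
theorem exists_saturated_chain_between (p q : α) (hpq : p ≤ q) {n : ℕ}
    (hq : Order.height q = n) :
    ∃ c : LTSeries α, c.head = p ∧ c.last = q ∧ c.length ≤ n ∧
      ∀ i : Fin c.length, c i.castSucc ⋖ c i.succ := by
  let q' : Set.Ici p := ⟨q, hpq⟩
  have hle : Order.height q' ≤ Order.height q :=
    Order.height_le_height_apply_of_strictMono (Subtype.val : Set.Ici p → α)
      (fun _ _ h => h) q'
  obtain ⟨m, hm⟩ : ∃ m : ℕ, Order.height q' = m := by
    have : Order.height q' ≠ ⊤ := by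
      intro h
      rw [h, hq] at hle
      exact absurd hle (by simp)
    exact ⟨(Order.height q').toNat, (ENat.natCast_toNat this).symm⟩
  have hmn : m ≤ n := by
    rw [hm, hq] at hle
    exact_mod_cast hle
  obtain ⟨c', hlast, hlen, hmin, hsat⟩ := Groth.Agent.H2.DimFG.exists_saturated_series q' hm
  refine ⟨c'.map Subtype.val (fun _ _ h => h), ?_, ?_, ?_, ?_⟩
  · rw [LTSeries.head_map]
    have h1 : (⟨p, le_refl p⟩ : Set.Ici p) ≤ c'.head := c'.head.2
    have h2 := hmin h1
    exact le_antisymm h2 h1
  · rw [LTSeries.last_map, hlast]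
  · rw [LTSeries.map_length, hlen]; exact hmn
  · intro i
    have hi := hsat i
    refine ⟨hi.1, ?_⟩
    intro z hz1 hz2
    have hz : p ≤ z := le_trans (c' i.castSucc).2 hz1.le
    exact hi.2 (c := ⟨z, hz⟩) hz1 hz2

end Order

section Top

variable {A B : Type*} [TopologicalSpace A] [TopologicalSpace B]

/-- the local dimension is invariant under open embeddings. -/
theorem localDim_eq_of_isOpenEmbedding {j : A → B} (hj : IsOpenEmbedding j) (a : A) :
    FlatMor.localDim A a = FlatMor.localDim B (j a) := by
  apply le_antisymm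
  · conv_rhs => unfold FlatMor.localDim
    apply le_iInf
    rintro ⟨N, hN⟩
    let N' : Opens A := ⟨j ⁻¹' (N : Set B), N.isOpen.preimage hj.continuous⟩
    refine (Groth.Agent.H3.TopDim.localDim_le_dim_of_mem N' (show a ∈ N' from hN)).trans ?_
    exact Groth.Agent.H3.TopDim.dim_le_of_inducing_mapsTo hj.isInducing (fun x hx => hx)
  · conv_rhs => unfold FlatMor.localDim
    apply le_iInf
    rintro ⟨N, hN⟩
    let N' : Opens B := ⟨j '' (N : Set A), hj.isOpenMap _ N.isOpen⟩
    refine (Groth.Agent.H3.TopDim.localDim_le_dim_of_mem N' (show j a ∈ N' from ⟨a, hN, rfl⟩)).trans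
      ?_
    have h1 : IsEmbedding (fun x : ↥(N : Set A) => j x.1) :=
      hj.isEmbedding.comp IsEmbedding.subtypeVal
    have h2 : Set.range (fun x : ↥(N : Set A) => j x.1) = j '' (N : Set A) := by
      ext b
      constructor
      · rintro ⟨⟨x, hx⟩, rfl⟩; exact ⟨x, hx, rfl⟩
      · rintro ⟨x, hx, rfl⟩; exact ⟨⟨x, hx⟩, rfl⟩
    change topologicalKrullDim ↥(j '' (N : Set A)) ≤ _
    rw [← h2]
    exact (IsHomeomorph.topologicalKrullDim_eq _ h1.toHomeomorph.isHomeomorph).ge

end Top

section Alg

/-- a closed subset of a spectrum has the dimension of the quotient ring. -/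
theorem topologicalKrullDim_zeroLocus (B : Type u) [CommRing B] (I : Ideal B) :
    topologicalKrullDim ↥(PrimeSpectrum.zeroLocus (I : Set B)) = ringKrullDim (B ⧸ I) := by
  have hsurj : Function.Surjective (Ideal.Quotient.mk I) := Ideal.Quotient.mk_surjective
  have hemb := PrimeSpectrum.isClosedEmbedding_comap_of_surjective (B ⧸ I) (Ideal.Quotient.mk I)
    hsurj
  have hrange : Set.range (PrimeSpectrum.comap (Ideal.Quotient.mk I)) =
      PrimeSpectrum.zeroLocus (I : Set B) := by
    rw [range_comap_of_surjective _ _ hsurj, Ideal.mk_ker]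
  rw [← PrimeSpectrum.topologicalKrullDim_eq_ringKrullDim, ← hrange]
  exact (IsHomeomorph.topologicalKrullDim_eq _
    hemb.isEmbedding.toHomeomorph.isHomeomorph).symm

/-- the dimension of the quotient by a smaller prime is bounded by height plus dimension. -/
theorem ringKrullDim_quotient_le (k B : Type u) [Field k] [CommRing B] [Algebra k B]
    [Algebra.FiniteType k B] (p q : PrimeSpectrum B) (hpq : p ≤ q) :
    ringKrullDim (B ⧸ p.asIdeal) ≤
      (q.asIdeal.height : WithBot ℕ∞) + ringKrullDim (B ⧸ q.asIdeal) := by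
  have hnoeth : IsNoetherianRing B := Algebra.FiniteType.isNoetherianRing k B
  obtain ⟨n, hn⟩ : ∃ n : ℕ, q.asIdeal.height = n := by
    have := Ideal.height_ne_top_of_isPrime (I := q.asIdeal)
    exact ⟨q.asIdeal.height.toNat, (ENat.natCast_toNat this).symm⟩
  have hn' : Order.height q = n := by
    rw [← PrimeSpectrum.height_eq_orderHeight]; exact hn
  obtain ⟨c, hhead, hlast, hlen, hsat⟩ := exists_saturated_chain_between p q hpq hn'
  have key := Groth.Agent.H2.DimFG.ringKrullDim_quotient_head_eq k B c hsat
  rw [hhead, hlast] at key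
  rw [key, hn, add_comm]
  gcongr
  exact_mod_cast hlen

/-- some minimal prime below `q` realizes the bound. -/
theorem exists_minimal_ringKrullDim_quotient_eq (k B : Type u) [Field k] [CommRing B]
    [Algebra k B] [Algebra.FiniteType k B] (q : PrimeSpectrum B) :
    ∃ p : PrimeSpectrum B, p ≤ q ∧ p.asIdeal ∈ minimalPrimes B ∧
      ringKrullDim (B ⧸ p.asIdeal) =
        (q.asIdeal.height : WithBot ℕ∞) + ringKrullDim (B ⧸ q.asIdeal) := by
  have hnoeth : IsNoetherianRing B := Algebra.FiniteType.isNoetherianRing k B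
  obtain ⟨n, hn⟩ : ∃ n : ℕ, q.asIdeal.height = n := by
    have := Ideal.height_ne_top_of_isPrime (I := q.asIdeal)
    exact ⟨q.asIdeal.height.toNat, (ENat.natCast_toNat this).symm⟩
  have hn' : Order.height q = n := by
    rw [← PrimeSpectrum.height_eq_orderHeight]; exact hn
  obtain ⟨c, hlast, hlen, hmin, hsat⟩ := Groth.Agent.H2.DimFG.exists_saturated_series q hn'
  have key := Groth.Agent.H2.DimFG.ringKrullDim_quotient_head_eq k B c hsat
  rw [hlast, hlen] at key
  refine ⟨c.head, ?_, ?_, ?_⟩
  · rw [← hlast]
    exact c.monotone (Fin.zero_le _)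
  · rw [← PrimeSpectrum.isMin_iff] 
    exact hmin
  · rw [key, hn, add_comm]
    rfl

/-- **The dimension formula for spectra of finitely generated algebras over a field.** -/
theorem localDim_Spec (k B : Type u) [Field k] [CommRing B] [Algebra k B]
    [Algebra.FiniteType k B] (q : Spec (CommRingCat.of B)) :
    FlatMor.localDim ↥(Spec (CommRingCat.of B)) q =
      ((q : PrimeSpectrum B).asIdeal.height : WithBot ℕ∞) +
        ringKrullDim (B ⧸ (q : PrimeSpectrum B).asIdeal) := by
  classical
  have hnoeth : IsNoetherianRing B := Algebra.FiniteType.isNoetherianRing k B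
  set g : Spec (CommRingCat.of B) ⟶ Spec (CommRingCat.of k) :=
    Spec.map (CommRingCat.ofHom (algebraMap k B)) with hg
  have : LocallyOfFiniteType g := by
    rw [hg, HasRingHomProperty.Spec_iff (P := @LocallyOfFiniteType)]
    exact RingHom.finiteType_algebraMap.mpr inferInstance
  apply le_antisymm
  · -- the open neighbourhood avoiding the components not through `q`
    have hfin : (minimalPrimes B).Finite := minimalPrimes.finite_of_isNoetherianRing B
    set bad : Set (Ideal B) := {p | p ∈ minimalPrimes B ∧ ¬ p ≤ (q : PrimeSpectrum B).asIdeal}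
      with hbad
    have hbadfin : bad.Finite := hfin.subset (fun p hp => hp.1)
    have hclosed : IsClosed (⋃ p ∈ bad, PrimeSpectrum.zeroLocus (p : Set B)) :=
      hbadfin.isClosed_biUnion fun p _ => PrimeSpectrum.isClosed_zeroLocus _
    let N : (Spec (CommRingCat.of B)).Opens :=
      ⟨(⋃ p ∈ bad, PrimeSpectrum.zeroLocus (p : Set B))ᶜ, hclosed.isOpen_compl⟩
    have hqN : q ∈ N := by
      intro hq
      obtain ⟨p, ⟨-, hp⟩, hqp⟩ := Set.mem_iUnion₂.mp hq
      exact hp ((PrimeSpectrum.mem_zeroLocus _ _).mp hqp)
    refine (Groth.Agent.H3.TopDim.localDim_le_dim_of_mem N hqN).trans ?_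
    -- cover by the components through `q`
    let ι := {p : Ideal B // p ∈ minimalPrimes B ∧ p ≤ (q : PrimeSpectrum B).asIdeal}
    have : Finite ι := (hfin.subset (fun p (hp : p ∈ minimalPrimes B ∧ _) => hp.1)).to_subtype
    have hcov : (N : Set (Spec (CommRingCat.of B))) ⊆
        ⋃ i : ι, PrimeSpectrum.zeroLocus ((i.1 : Ideal B) : Set B) := by
      intro w hw
      obtain ⟨p, hp, hpw⟩ := Ideal.exists_minimalPrimes_le
        (bot_le : (⊥ : Ideal B) ≤ (w : PrimeSpectrum B).asIdeal)
      have hwp : w ∈ PrimeSpectrum.zeroLocus (p : Set B) :=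
        (PrimeSpectrum.mem_zeroLocus _ _).mpr hpw
      by_cases hpq : p ≤ (q : PrimeSpectrum B).asIdeal
      · exact Set.mem_iUnion.mpr ⟨⟨p, hp, hpq⟩, hwp⟩
      · exfalso
        apply hw
        exact Set.mem_biUnion (show p ∈ bad from ⟨hp, hpq⟩) hwp
    refine (Groth.Agent.H3.TopDim.dim_le_iSup_of_subset_iUnion_closed _ _
      (fun i : ι => PrimeSpectrum.isClosed_zeroLocus _) hcov).trans ?_
    apply iSup_le
    rintro ⟨p, hp, hpq⟩
    refine (Groth.Agent.H3.TopDim.dim_mono Set.inter_subset_right).trans ?_
    have := hp.1.1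
    have h1 := topologicalKrullDim_zeroLocus B p
    change topologicalKrullDim ↥(PrimeSpectrum.zeroLocus (p : Set B)) ≤ _
    rw [h1]
    exact ringKrullDim_quotient_le k B ⟨p, hp.1.1⟩ q hpq
  · obtain ⟨p, hpq, hpmin, hp⟩ := exists_minimal_ringKrullDim_quotient_eq k B q
    rw [← hp, ← topologicalKrullDim_zeroLocus B p.asIdeal]
    unfold FlatMor.localDim
    apply le_iInf
    rintro ⟨N, hN⟩
    have hirr : IsIrreducible (PrimeSpectrum.zeroLocus (p.asIdeal : Set B)) := by
      rw [PrimeSpectrum.isIrreducible_zeroLocus_iff_of_radical _ p.isPrime.isRadical]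
      exact p.isPrime
    have h2 := Groth.Agent.H1.RelDim.dim_inter_eq_dim g
      (PrimeSpectrum.zeroLocus (p.asIdeal : Set B)) hirr (PrimeSpectrum.isClosed_zeroLocus _) N
      ⟨q, hN, (PrimeSpectrum.mem_zeroLocus _ _).mpr hpq⟩
    refine le_trans (le_of_eq h2.symm) ?_
    exact Groth.Agent.H3.TopDim.dim_mono Set.inter_subset_left

end Alg

section Scheme

variable {k : Type u} [Field k] {Z : Scheme.{u}} (gk : Z ⟶ Spec (CommRingCat.of k))

/-- the structure map `k → κ(z)` of a point of a `k`-scheme. -/
noncomputable def toResidueField (z : Z) : CommRingCat.of k ⟶ Z.residueField z :=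
  Spec.preimage (Z.fromSpecResidueField z ≫ gk)

theorem SpecMap_toResidueField (z : Z) :
    Spec.map (toResidueField gk z) = Z.fromSpecResidueField z ≫ gk :=
  Spec.map_preimage _

theorem SpecMap_evaluation_fromSpec {U : Z.Opens} (hU : IsAffineOpen U) (z : Z) (hz : z ∈ U) :
    Spec.map (Z.evaluation U z hz) ≫ hU.fromSpec = Z.fromSpecResidueField z := by
  rw [← Scheme.germ_residue, Spec.map_comp, Category.assoc]
  change _ ≫ hU.fromSpecStalk hz = _
  rw [hU.fromSpecStalk_eq]
  rfl

/-- **The dimension formula for schemes locally of finite type over a field.** -/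
theorem exists_localDim_eq_stalk_add_trdeg [LocallyOfFiniteType gk] (z : Z) :
    ∃ t : ℕ, @Algebra.trdeg k (Z.residueField z) _ _ (toResidueField gk z).hom.toAlgebra = t ∧
      FlatMor.localDim Z z = ringKrullDim (Z.presheaf.stalk z) + (t : WithBot ℕ∞) := by
  obtain ⟨U, hU, hz⟩ : ∃ U : Z.Opens, IsAffineOpen U ∧ z ∈ U := by
    obtain ⟨_, ⟨U, hU, rfl⟩, hz, -⟩ :=
      Z.isBasis_affineOpens.exists_subset_of_mem_open (Set.mem_univ z) isOpen_univ
    exact ⟨U, hU, hz⟩
  set ψ : CommRingCat.of k ⟶ Γ(Z, U) := Spec.preimage (hU.fromSpec ≫ gk) with hψ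
  have hψ' : Spec.map ψ = hU.fromSpec ≫ gk := Spec.map_preimage _
  set ev := Z.evaluation U z hz with hev
  have hρ : toResidueField gk z = ψ ≫ ev := by
    apply Spec.map_injective
    rw [SpecMap_toResidueField, Spec.map_comp, hψ', ← Category.assoc,
      SpecMap_evaluation_fromSpec hU z hz]
  letI algB : Algebra k Γ(Z, U) := ψ.hom.toAlgebra
  letI algK : Algebra k (Z.residueField z) := (toResidueField gk z).hom.toAlgebra
  have hft : Algebra.FiniteType k Γ(Z, U) := by
    have h1 : LocallyOfFiniteType (Spec.map ψ) := by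
      rw [hψ']; infer_instance
    exact (HasRingHomProperty.Spec_iff (P := @LocallyOfFiniteType)).mp h1
  set q := hU.primeIdealOf ⟨z, hz⟩ with hq
  have hker : RingHom.ker ev.hom = q.asIdeal := Groth.Agent.H1.FibDim.ker_evaluation hU z hz
  -- the residue field is the fraction field of `B ⧸ q`
  letI algQ : Algebra (Γ(Z, U) ⧸ q.asIdeal) (Z.residueField z) :=
    (Ideal.Quotient.lift q.asIdeal ev.hom (fun a ha => by
      rw [← hker] at ha; exact ha)).toAlgebra
  have halgQ : ∀ a : Γ(Z, U), algebraMap (Γ(Z, U) ⧸ q.asIdeal) (Z.residueField z)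
      (Ideal.Quotient.mk _ a) = ev.hom a := fun a => rfl
  have htower : IsScalarTower k (Γ(Z, U) ⧸ q.asIdeal) (Z.residueField z) := by
    apply IsScalarTower.of_algebraMap_eq
    intro c
    change (toResidueField gk z).hom c = ev.hom (ψ.hom c)
    rw [hρ]
    rfl
  have hinj : ∀ a : Γ(Z, U) ⧸ q.asIdeal,
      algebraMap (Γ(Z, U) ⧸ q.asIdeal) (Z.residueField z) a = 0 → a = 0 := by
    intro a ha
    obtain ⟨a, rfl⟩ := Ideal.Quotient.mk_surjective a
    rw [halgQ] at ha
    rw [Ideal.Quotient.eq_zero_iff_mem, ← hker]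
    exact ha
  have hfrac : IsFractionRing (Γ(Z, U) ⧸ q.asIdeal) (Z.residueField z) :=
    { map_units := by
        rintro ⟨b, hb⟩
        have : b ≠ 0 := nonZeroDivisors.ne_zero hb
        exact IsUnit.mk0 _ (fun h => this (hinj b h))
      surj := by
        intro c
        obtain ⟨a, b, hb, hab⟩ := Groth.Agent.H1.GenFin.exists_frac_evaluation hU z hz c
        refine ⟨⟨Ideal.Quotient.mk _ a, ⟨Ideal.Quotient.mk _ b,
          mem_nonZeroDivisors_of_ne_zero (fun h => hb ?_)⟩⟩, ?_⟩
        · have := congrArg (algebraMap (Γ(Z, U) ⧸ q.asIdeal) (Z.residueField z)) h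
          rw [halgQ, map_zero] at this
          exact this
        · exact hab
      exists_of_eq := by
        intro a b hab
        refine ⟨1, ?_⟩
        have := hinj (a - b) (by rw [map_sub, sub_eq_zero]; exact hab)
        rw [sub_eq_zero.mp this] }
  obtain ⟨t, ht1, ht2, -⟩ := Groth.Agent.H9.FrobDegD.exists_algIndep_finite k
    (Γ(Z, U) ⧸ q.asIdeal) (Z.residueField z)
  refine ⟨t, ht2, ?_⟩
  -- local dimension on the affine open
  have h1 : FlatMor.localDim Z z = FlatMor.localDim ↥(Spec Γ(Z, U)) q := by
    rw [localDim_eq_of_isOpenEmbedding hU.fromSpec.isOpenEmbedding q]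
    congr 1
    exact (hU.fromSpec_primeIdealOf ⟨z, hz⟩).symm
  have h2 := localDim_Spec k Γ(Z, U) q
  letI := Z.presheaf.algebra_section_stalk ⟨z, hz⟩
  haveI := hU.isLocalization_stalk ⟨z, hz⟩
  have h3 : ringKrullDim (Z.presheaf.stalk z) = q.asIdeal.height :=
    IsLocalization.AtPrime.ringKrullDim_eq_height q.asIdeal (Z.presheaf.stalk z)
  rw [h1, h3, ← ht1]
  exact h2

end Scheme

section Fibre

variable {X S : Scheme.{u}}

/-- the residue field of a point of a fibre is the residue field of the point of the total space,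
compatibly with the structure maps from the residue field of the base point. -/
theorem exists_residueField_fiber_equiv (h : X ⟶ S) (x : X) :
    letI := (h.residueFieldMap x).hom.toAlgebra
    letI := (toResidueField (k := S.residueField (h x))
      (h.fiberToSpecResidueField (h x)) (h.asFiber x)).hom.toAlgebra
    Nonempty (X.residueField x ≃ₐ[S.residueField (h x)]
      (h.fiber (h x)).residueField (h.asFiber x)) := by
  have e : h.fiberι (h x) (h.asFiber x) = x := h.fiberι_asFiber x
  -- compatibility with the structure maps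
  have hcomp : h.residueFieldMap x ≫ (X.residueFieldCongr e).inv ≫
      (h.fiberι (h x)).residueFieldMap (h.asFiber x) =
      toResidueField (k := S.residueField (h x)) (h.fiberToSpecResidueField (h x))
        (h.asFiber x) := by
    apply Spec.map_injective
    rw [← cancel_mono (S.fromSpecResidueField (h x))]
    rw [SpecMap_toResidueField, Category.assoc, ← Scheme.Hom.fiber_fac,
      ← Scheme.Hom.SpecMap_residueFieldMap_fromSpecResidueField_assoc]
    rw [Spec.map_comp, Spec.map_comp, Category.assoc, Category.assoc,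
      Scheme.Hom.SpecMap_residueFieldMap_fromSpecResidueField]
    congr 1
    rw [← Scheme.residueFieldCongr_fromSpecResidueField_assoc e, ← Spec.map_comp_assoc,
      Iso.hom_inv_id, Spec.map_id, Category.id_comp]
  -- bijectivity
  have hsurj : Function.Surjective ((X.residueFieldCongr e).inv ≫
      (h.fiberι (h x)).residueFieldMap (h.asFiber x)).hom := by
    rw [CommRingCat.hom_comp, RingHom.coe_comp]
    refine Function.Surjective.comp ?_
      (ConcreteCategory.bijective_of_isIso (X.residueFieldCongr e).inv).2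
    have h1 := Scheme.residue_residueFieldMap (h.fiberι (h x)) (h.asFiber x)
    have h2 : Function.Surjective (X.residue (h.fiberι (h x) (h.asFiber x)) ≫
        (h.fiberι (h x)).residueFieldMap (h.asFiber x)).hom := by
      rw [h1, CommRingCat.hom_comp, RingHom.coe_comp]
      exact ((h.fiber (h x)).residue_surjective (h.asFiber x)).comp
        ((h.fiberι (h x)).stalkMap_surjective (h.asFiber x))
    rw [CommRingCat.hom_comp, RingHom.coe_comp] at h2
    exact Function.Surjective.of_comp h2
  have hbij : Function.Bijective ((X.residueFieldCongr e).inv ≫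
      (h.fiberι (h x)).residueFieldMap (h.asFiber x)).hom :=
    ⟨RingHom.injective _, hsurj⟩
  letI a1 := (h.residueFieldMap x).hom.toAlgebra
  letI a2 := (toResidueField (k := S.residueField (h x))
      (h.fiberToSpecResidueField (h x)) (h.asFiber x)).hom.toAlgebra
  exact ⟨AlgEquiv.ofRingEquiv (f := RingEquiv.ofBijective _ hbij) (fun c => by
    change ((X.residueFieldCongr e).inv ≫
      (h.fiberι (h x)).residueFieldMap (h.asFiber x)).hom ((h.residueFieldMap x).hom c) = _
    rw [← RingHom.comp_apply, ← CommRingCat.hom_comp, hcomp]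
    rfl)⟩

/-- **The relative dimension formula**: the local dimension of the fibre at `x` is the dimension of
the local ring of the fibre at `x` plus the transcendence degree of `κ(x)` over `κ(h x)`. -/
theorem exists_fibreDimAt_eq_stalk_add_trdeg (h : X ⟶ S) [LocallyOfFiniteType h] (x : X) :
    ∃ t : ℕ, @Algebra.trdeg (S.residueField (h x)) (X.residueField x) _ _
        (h.residueFieldMap x).hom.toAlgebra = t ∧
      FlatMor.fibreDimAt h x =
        ringKrullDim ((h.fiber (h x)).presheaf.stalk (h.asFiber x)) + (t : WithBot ℕ∞) := by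
  obtain ⟨t, ht, hdim⟩ := @exists_localDim_eq_stalk_add_trdeg (S.residueField (h x)) _ _
    (h.fiberToSpecResidueField (h x))
    (Groth.Agent.H1.Chev.locallyOfFiniteType_fiberToSpecResidueField h (h x)) (h.asFiber x)
  obtain ⟨θ⟩ := exists_residueField_fiber_equiv h x
  refine ⟨t, ?_, hdim⟩
  rw [← ht]
  letI a1 := (h.residueFieldMap x).hom.toAlgebra
  letI a2 := (toResidueField (k := S.residueField (h x))
      (h.fiberToSpecResidueField (h x)) (h.asFiber x)).hom.toAlgebra
  exact θ.trdeg_eq

end Fibre

end Groth.Agent.H1.DimFormula
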