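import Mathlib
set_option autoImplicit false
universe u
open CategoryTheory CategoryTheory.Limits AlgebraicGeometry IsLocalRing

namespace Groth.Agent.H1.FibreStalk

/-- A non-unit in a stalk of the spectrum of a field is zero. -/
theorem eq_zero_of_not_isUnit_stalk_field (K : Type u) [Field K] (p : Spec (CommRingCat.of K))
    (u : (Spec (CommRingCat.of K)).presheaf.stalk p) (hu : ¬ IsUnit u) : u = 0 := by
  obtain rfl : p = closedPoint K := Subsingleton.elim (α := PrimeSpectrum K) _ _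
  let e := (stalkClosedPointIso (CommRingCat.of K)).commRingCatIsoToRingEquiv
  have h1 : ¬ IsUnit (e u) := fun h ↦ hu (by simpa using h.map e.symm)
  have h2 : e u = 0 := by
    by_contra h
    exact h1 (IsUnit.mk0 _ h)
  exact (map_eq_zero_iff e e.injective).mp h2

variable {X Y : Scheme.{u}}

/-- the canonical map from the local ring of `X` at `x` to the local ring of the fibre -/
noncomputable def toFiberStalk (f : X ⟶ Y) (x : X) :
    X.presheaf.stalk x →+* (f.fiber (f x)).presheaf.stalk (f.asFiber x) :=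
  ((f.fiberι (f x)).stalkMap (f.asFiber x)).hom.comp
    (X.presheaf.stalkCongr (Inseparable.of_eq (f.fiberι_asFiber x).symm)).hom.hom

theorem toFiberStalk_surjective (f : X ⟶ Y) (x : X) : Function.Surjective (toFiberStalk f x) := by
  have h1 : Function.Surjective ((f.fiberι (f x)).stalkMap (f.asFiber x)) :=
    (f.fiberι (f x)).stalkMap_surjective _
  rw [toFiberStalk, RingHom.coe_comp]
  refine h1.comp ?_
  exact ((X.presheaf.stalkCongr
    (Inseparable.of_eq (f.fiberι_asFiber x).symm)).commRingCatIsoToRingEquiv).surjective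

theorem isUnit_of_isUnit_iso_hom {A B : CommRingCat.{u}} (e : A ≅ B) (a : A)
    (h : IsUnit (e.hom.hom a)) : IsUnit a := by
  have := h.map e.inv.hom
  rwa [← RingHom.comp_apply, ← CommRingCat.hom_comp, e.hom_inv_id] at this

theorem chain_zero {A B C D E : CommRingCat.{u}} (a : A ≅ B) (b : B ≅ C) (c : C ⟶ D)
    (hc : IsLocalHom c.hom) (d : D ⟶ E) (hD : ∀ u : D, ¬ IsUnit u → u = 0) (t : A) (ht : ¬ IsUnit t) :
    (a.hom ≫ b.hom ≫ c ≫ d).hom t = 0 := by
  change d.hom (c.hom (b.hom.hom (a.hom.hom t))) = 0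
  rw [hD (c.hom (b.hom.hom (a.hom.hom t))), map_zero]
  intro h
  have h1 := (isUnit_map_iff c.hom _).mp h
  have h2 := isUnit_of_isUnit_iso_hom _ _ h1
  have h3 := isUnit_of_isUnit_iso_hom _ _ h2
  exact ht h3

theorem toFiberStalk_stalkMap_eq_zero (f : X ⟶ Y) (x : X) (t : Y.presheaf.stalk (f x))
    (ht : t ∈ maximalIdeal (Y.presheaf.stalk (f x))) :
    toFiberStalk f x ((f.stalkMap x).hom t) = 0 := by
  set z := f.asFiber x
  have hz : (f.fiberι (f x)) z = x := f.fiberι_asFiber x
  have E1 := Scheme.Hom.stalkMap_congr_point f x ((f.fiberι (f x)) z) hz.symm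
  have E2 := Scheme.Hom.stalkMap_congr_hom _ _ (f.fiber_fac (f x)) z
  have E3 := Scheme.Hom.stalkMap_comp (f.fiberToSpecResidueField (f x))
    (Y.fromSpecResidueField (f x)) z
  have E0 := Scheme.Hom.stalkMap_comp (f.fiberι (f x)) f z
  have key := E1 =≫ (f.fiberι (f x)).stalkMap z
  rw [Category.assoc, Category.assoc, ← E0, E2, E3] at key
  have h0 : toFiberStalk f x ((f.stalkMap x).hom t) =
      (f.stalkMap x ≫ (X.presheaf.stalkCongr (.of_eq hz.symm)).hom ≫
        (f.fiberι (f x)).stalkMap z).hom t := rfl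
  rw [h0, key]
  have hc : IsLocalHom ((Y.fromSpecResidueField (f x)).stalkMap
      ((f.fiberToSpecResidueField (f x)) z)).hom := inferInstance
  exact chain_zero _ _ _ hc _ (eq_zero_of_not_isUnit_stalk_field _ _) t ht

theorem sS3 {X : Scheme.{u}} {p₁ p₂ p₃ p₄ : X} (h₁ : p₂ ⤳ p₁) (h₂ : p₃ ⤳ p₂) (h₃ : p₄ ⤳ p₃)
    (h₄ : p₄ ⤳ p₁) :
    (X.presheaf.stalkSpecializes h₁ ≫ X.presheaf.stalkSpecializes h₂) ≫
      X.presheaf.stalkSpecializes h₃ = X.presheaf.stalkSpecializes h₄ := by
  rw [TopCat.Presheaf.stalkSpecializes_comp, TopCat.Presheaf.stalkSpecializes_comp]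

theorem ker_toFiberStalk_le (f : X ⟶ Y) (x : X) :
    RingHom.ker (toFiberStalk f x) ≤
      (maximalIdeal (Y.presheaf.stalk (f x))).map (f.stalkMap x).hom := by
  set I := (maximalIdeal (Y.presheaf.stalk (f x))).map (f.stalkMap x).hom with hI
  have hIle : I ≤ maximalIdeal (X.presheaf.stalk x) :=
    ((local_hom_TFAE (f.stalkMap x).hom).out 0 2 rfl rfl).mp inferInstance
  haveI : Nontrivial (X.presheaf.stalk x ⧸ I) := by
    refine Ideal.Quotient.nontrivial_iff.mpr (fun h ↦ ?_)
    rw [h, top_le_iff] at hIle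
    exact (maximalIdeal.isMaximal _).ne_top hIle
  haveI : IsLocalRing (X.presheaf.stalk x ⧸ I) :=
    IsLocalRing.of_surjective' (Ideal.Quotient.mk I) Ideal.Quotient.mk_surjective
  let R' : CommRingCat.{u} := CommRingCat.of (X.presheaf.stalk x ⧸ I)
  haveI : IsLocalRing R' := inferInstanceAs <| IsLocalRing (X.presheaf.stalk x ⧸ I)
  let q : X.presheaf.stalk x ⟶ R' := CommRingCat.ofHom (Ideal.Quotient.mk I)
  haveI hq : IsLocalHom q.hom :=
    IsLocalHom.of_surjective (Ideal.Quotient.mk I) Ideal.Quotient.mk_surjective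
  let a : Spec R' ⟶ X := Spec.map q ≫ X.fromSpecStalk x
  let ψ : Y.residueField (f x) ⟶ R' := CommRingCat.ofHom
    (Ideal.Quotient.lift (maximalIdeal (Y.presheaf.stalk (f x)))
      ((Ideal.Quotient.mk I).comp (f.stalkMap x).hom) (by
        intro t ht
        rw [RingHom.comp_apply, Ideal.Quotient.eq_zero_iff_mem]
        exact Ideal.mem_map_of_mem _ ht))
  let b : Spec R' ⟶ Spec (Y.residueField (f x)) := Spec.map ψ
  have hab : a ≫ f = b ≫ Y.fromSpecResidueField (f x) := by
    simp only [a, b, Scheme.fromSpecResidueField, Category.assoc]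
    rw [← Scheme.SpecMap_stalkMap_fromSpecStalk, ← Spec.map_comp_assoc, ← Spec.map_comp_assoc]
    congr 2
  let σ : Spec R' ⟶ f.fiber (f x) := pullback.lift a b hab
  have hσι : σ ≫ f.fiberι (f x) = a := pullback.lift_fst _ _ _
  have hA := (SpecToEquivOfLocalRing X R').right_inv ⟨x, q, hq⟩
  obtain ⟨h₁, e₁⟩ := SpecToEquivOfLocalRing_eq_iff.mp hA
  have hB : (SpecToEquivOfLocalRing X R') a =
      (SpecToEquivOfLocalRing X R') (σ ≫ f.fiberι (f x)) := by rw [hσι]
  obtain ⟨h₂, e₂⟩ := SpecToEquivOfLocalRing_eq_iff.mp hB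
  have h₁' : a (closedPoint R') = x := h₁
  have h₂' : a (closedPoint R') = (f.fiberι (f x)) (σ (closedPoint R')) := h₂
  have e₁' : Scheme.stalkClosedPointTo a = (X.presheaf.stalkCongr (.of_eq h₁')).hom ≫ q := e₁
  have e₂' : Scheme.stalkClosedPointTo a = (X.presheaf.stalkCongr (.of_eq h₂')).hom ≫
      (f.fiberι (f x)).stalkMap (σ (closedPoint R')) ≫ Scheme.stalkClosedPointTo σ := by
    rw [← Scheme.stalkClosedPointTo_comp]
    exact e₂
  have hσc : σ (closedPoint R') = f.asFiber x := by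
    apply (f.fiberι (f x)).isEmbedding.injective
    rw [f.fiberι_asFiber, ← h₂', h₁']
  have E := Scheme.Hom.stalkMap_congr_point (f.fiberι (f x)) (σ (closedPoint R')) (f.asFiber x) hσc
  have E' : (f.fiberι (f x)).stalkMap (σ (closedPoint R')) =
      (X.presheaf.stalkCongr (.of_eq (hσc ▸ rfl))).hom ≫ (f.fiberι (f x)).stalkMap (f.asFiber x) ≫
        ((f.fiber (f x)).presheaf.stalkCongr (.of_eq hσc)).inv := by
    rw [← Category.assoc, ← E, Category.assoc, Iso.hom_inv_id, Category.comp_id]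
  have Q : q = (X.presheaf.stalkCongr (.of_eq (f.fiberι_asFiber x).symm)).hom ≫
      (f.fiberι (f x)).stalkMap (f.asFiber x) ≫
        ((f.fiber (f x)).presheaf.stalkCongr (.of_eq hσc)).inv ≫ Scheme.stalkClosedPointTo σ := by
    have h3 : q = (X.presheaf.stalkCongr (.of_eq h₁')).inv ≫ Scheme.stalkClosedPointTo a := by
      rw [e₁', Iso.inv_hom_id_assoc]
    rw [h3, e₂', E']
    simp only [Category.assoc, ← Category.assoc]
    congr 3
    simp only [TopCat.Presheaf.stalkCongr_hom, TopCat.Presheaf.stalkCongr_inv]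
    exact sS3 _ _ _ _
  intro r hr
  rw [← Ideal.Quotient.eq_zero_iff_mem]
  change q.hom r = 0
  rw [Q]
  change (((f.fiber (f x)).presheaf.stalkCongr (.of_eq hσc)).inv ≫
    Scheme.stalkClosedPointTo σ).hom (toFiberStalk f x r) = 0
  rw [RingHom.mem_ker.mp hr, map_zero]


theorem ker_toFiberStalk (f : X ⟶ Y) (x : X) :
    RingHom.ker (toFiberStalk f x) =
      (maximalIdeal (Y.presheaf.stalk (f x))).map (f.stalkMap x).hom := by
  apply le_antisymm (ker_toFiberStalk_le f x)
  rw [Ideal.map_le_iff_le_comap]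
  intro t ht
  exact toFiberStalk_stalkMap_eq_zero f x t ht

/-- The local ring of the fibre at `x` is `O_{X,x} / m_y O_{X,x}`. -/
noncomputable def fiberStalkEquiv (f : X ⟶ Y) (x : X) :
    (X.presheaf.stalk x ⧸ (maximalIdeal (Y.presheaf.stalk (f x))).map (f.stalkMap x).hom) ≃+*
      (f.fiber (f x)).presheaf.stalk (f.asFiber x) :=
  (Ideal.quotEquivOfEq (ker_toFiberStalk f x).symm).trans
    (RingHom.quotientKerEquivOfSurjective (toFiberStalk_surjective f x))

theorem fiberStalkEquiv_mk (f : X ⟶ Y) (x : X) (r : X.presheaf.stalk x) :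
    fiberStalkEquiv f x (Ideal.Quotient.mk _ r) = toFiberStalk f x r := by
  rw [fiberStalkEquiv, RingEquiv.trans_apply, Ideal.quotEquivOfEq_mk]
  rfl

end Groth.Agent.H1.FibreStalk
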