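import Mathlib
import Groth.Agent.Lib.Helper1.DimFormula
import Groth.Agent.Lib.Helper1.FibreStalk
import Groth.Agent.Lib.Helper1.FlatDimLocal
import Groth.Agent.Lib.Helper5.CA.Nilp031L

/-! Helper1: additivity of fibre dimensions under composition (EGA IV 5.6 / Stacks 02FX style). -/

set_option autoImplicit false
universe u
open AlgebraicGeometry CategoryTheory CategoryTheory.Limits TopologicalSpace Topology IsLocalRing

namespace Groth.Agent.H1.DimFormula

theorem ringKrullDim_quotient_map_le {R₂ R₃ : Type u} [CommRing R₂] [CommRing R₃]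
    [IsLocalRing R₂] [IsLocalRing R₃]
    (ψ : R₂ →+* R₃) [IsLocalHom ψ] (I : Ideal R₂) (hI : I ≤ maximalIdeal R₂)
    [IsNoetherianRing (R₂ ⧸ I)] [IsNoetherianRing (R₃ ⧸ I.map ψ)] :
    ringKrullDim (R₃ ⧸ I.map ψ) ≤
        ringKrullDim (R₂ ⧸ I) + ringKrullDim (R₃ ⧸ (maximalIdeal R₂).map ψ) ∧
    (ψ.Flat → ringKrullDim (R₃ ⧸ I.map ψ) =
        ringKrullDim (R₂ ⧸ I) + ringKrullDim (R₃ ⧸ (maximalIdeal R₂).map ψ)) := by
  have hm : (maximalIdeal R₂).map ψ ≤ maximalIdeal R₃ :=
    ((IsLocalRing.local_hom_TFAE ψ).out 0 2 rfl rfl).mp inferInstance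
  have hIne : I ≠ ⊤ := by
    intro h
    rw [h] at hI
    exact (maximalIdeal.isMaximal R₂).ne_top (top_le_iff.mp hI)
  have hI3 : I.map ψ ≤ maximalIdeal R₃ := (Ideal.map_mono hI).trans hm
  have hI3ne : I.map ψ ≠ ⊤ := by
    intro h
    rw [h] at hI3
    exact (maximalIdeal.isMaximal R₃).ne_top (top_le_iff.mp hI3)
  haveI : Nontrivial (R₂ ⧸ I) := Ideal.Quotient.nontrivial_iff.mpr hIne
  haveI : Nontrivial (R₃ ⧸ I.map ψ) := Ideal.Quotient.nontrivial_iff.mpr hI3ne
  haveI lA : IsLocalRing (R₂ ⧸ I) :=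
    IsLocalRing.of_surjective' (Ideal.Quotient.mk _) Ideal.Quotient.mk_surjective
  haveI lB : IsLocalRing (R₃ ⧸ I.map ψ) :=
    IsLocalRing.of_surjective' (Ideal.Quotient.mk _) Ideal.Quotient.mk_surjective
  letI alg : Algebra (R₂ ⧸ I) (R₃ ⧸ I.map ψ) :=
    (Ideal.quotientMap (I.map ψ) ψ Ideal.le_comap_map).toAlgebra
  have halg : ∀ r : R₂, algebraMap (R₂ ⧸ I) (R₃ ⧸ I.map ψ) (Ideal.Quotient.mk I r) =
      Ideal.Quotient.mk (I.map ψ) (ψ r) := fun r => rfl
  haveI lmk2 : IsLocalHom (Ideal.Quotient.mk I) :=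
    IsLocalHom.of_surjective _ Ideal.Quotient.mk_surjective
  haveI lmk3 : IsLocalHom (Ideal.Quotient.mk (I.map ψ)) :=
    IsLocalHom.of_surjective _ Ideal.Quotient.mk_surjective
  haveI lAB : IsLocalHom (algebraMap (R₂ ⧸ I) (R₃ ⧸ I.map ψ)) := by
    constructor
    intro a ha
    obtain ⟨r, rfl⟩ := Ideal.Quotient.mk_surjective a
    rw [halg] at ha
    have h1 : IsUnit (ψ r) := isUnit_of_map_unit (Ideal.Quotient.mk (I.map ψ)) _ ha
    have h2 : IsUnit r := isUnit_of_map_unit ψ _ h1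
    exact h2.map _
  have hmA : maximalIdeal (R₂ ⧸ I) = (maximalIdeal R₂).map (Ideal.Quotient.mk I) := by
    rw [← IsLocalRing.maximalIdeal_comap (Ideal.Quotient.mk I),
      Ideal.map_comap_of_surjective _ Ideal.Quotient.mk_surjective]
  have hmap : (maximalIdeal (R₂ ⧸ I)).map (algebraMap (R₂ ⧸ I) (R₃ ⧸ I.map ψ)) =
      ((maximalIdeal R₂).map ψ).map (Ideal.Quotient.mk (I.map ψ)) := by
    rw [hmA, Ideal.map_map, Ideal.map_map]
    congr 1
  have hsup : I.map ψ ⊔ (maximalIdeal R₂).map ψ = (maximalIdeal R₂).map ψ :=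
    sup_eq_right.mpr (Ideal.map_mono hI)
  have e : ((R₃ ⧸ I.map ψ) ⧸ (maximalIdeal (R₂ ⧸ I)).map
      (algebraMap (R₂ ⧸ I) (R₃ ⧸ I.map ψ))) ≃+* R₃ ⧸ (maximalIdeal R₂).map ψ :=
    (Ideal.quotEquivOfEq hmap).trans
      ((DoubleQuot.quotQuotEquivQuotSup (I.map ψ) ((maximalIdeal R₂).map ψ)).trans
        (Ideal.quotEquivOfEq hsup))
  rw [← ringKrullDim_eq_of_ringEquiv e]
  refine ⟨Groth.Agent.H1.FlatDim.ringKrullDim_le_add_fiber _ _, fun hflat => ?_⟩
  haveI : Module.Flat (R₂ ⧸ I) (R₃ ⧸ I.map ψ) := by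
    have := Groth.Agent.H5.Nilp031L.flat_quotientMap ψ hflat I
    exact this
  exact Groth.Agent.H1.FlatDim.ringKrullDim_eq_add_fiber_of_flat _ _

instance isLocallyNoetherian_fiber {X S : Scheme.{u}} (h : X ⟶ S) [LocallyOfFiniteType h] (s : S) :
    IsLocallyNoetherian (h.fiber s) :=
  LocallyOfFiniteType.isLocallyNoetherian (h.fiberToSpecResidueField s)

/-- additivity of transcendence degrees of residue fields -/
theorem trdeg_residueField_comp {X Y S : Scheme.{u}} (f : X ⟶ Y) (g : Y ⟶ S) (x : X) :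
    @Algebra.trdeg (S.residueField (g (f x))) (Y.residueField (f x)) _ _
        (g.residueFieldMap (f x)).hom.toAlgebra +
      @Algebra.trdeg (Y.residueField (f x)) (X.residueField x) _ _
        (f.residueFieldMap x).hom.toAlgebra =
      @Algebra.trdeg (S.residueField ((f ≫ g) x)) (X.residueField x) _ _
        ((f ≫ g).residueFieldMap x).hom.toAlgebra := by
  letI a1 := (g.residueFieldMap (f x)).hom.toAlgebra
  letI a2 := (f.residueFieldMap x).hom.toAlgebra
  letI a3 : Algebra (S.residueField (g (f x))) (X.residueField x) :=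
    ((f ≫ g).residueFieldMap x).hom.toAlgebra
  haveI : IsScalarTower (S.residueField (g (f x))) (Y.residueField (f x)) (X.residueField x) := by
    apply IsScalarTower.of_algebraMap_eq
    intro c
    change ((f ≫ g).residueFieldMap x).hom c = (f.residueFieldMap x).hom ((g.residueFieldMap (f x)).hom c)
    rw [Scheme.residueFieldMap_comp]
    rfl
  exact trdeg_add_eq (S.residueField (g (f x))) (Y.residueField (f x))
    (A := X.residueField x)

/-- dimension of fibres of a composition -/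
theorem fibreDimAt_comp {X Y S : Scheme.{u}} (f : X ⟶ Y) (g : Y ⟶ S) [LocallyOfFiniteType f] [LocallyOfFiniteType g] (x : X) :
    FlatMor.fibreDimAt (f ≫ g) x ≤ FlatMor.fibreDimAt f x + FlatMor.fibreDimAt g (f.base x) ∧
      ((f.stalkMap x).hom.Flat →
        FlatMor.fibreDimAt (f ≫ g) x = FlatMor.fibreDimAt f x + FlatMor.fibreDimAt g (f.base x)) := by
  obtain ⟨t₁, ht₁, h₁⟩ := Groth.Agent.H1.DimFormula.exists_fibreDimAt_eq_stalk_add_trdeg (f ≫ g) x
  obtain ⟨t₂, ht₂, h₂⟩ := Groth.Agent.H1.DimFormula.exists_fibreDimAt_eq_stalk_add_trdeg g (f x)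
  obtain ⟨t₃, ht₃, h₃⟩ := Groth.Agent.H1.DimFormula.exists_fibreDimAt_eq_stalk_add_trdeg f x
  have ht : t₁ = t₂ + t₃ := by
    have := Groth.Agent.H1.DimFormula.trdeg_residueField_comp f g x
    rw [ht₁, ht₂, ht₃] at this
    exact_mod_cast this.symm
  have hImap : ((IsLocalRing.maximalIdeal (S.presheaf.stalk (g (f x)))).map
      (g.stalkMap (f x)).hom).map (f.stalkMap x).hom =
      (IsLocalRing.maximalIdeal (S.presheaf.stalk ((f ≫ g) x))).map
        ((f ≫ g).stalkMap x).hom := by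
    rw [Scheme.Hom.stalkMap_comp, Ideal.map_map]
    rfl
  have hI : (IsLocalRing.maximalIdeal (S.presheaf.stalk (g (f x)))).map (g.stalkMap (f x)).hom ≤
      IsLocalRing.maximalIdeal (Y.presheaf.stalk (f x)) :=
    ((IsLocalRing.local_hom_TFAE (g.stalkMap (f x)).hom).out 0 2 rfl rfl).mp inferInstance
  have e₁ := Groth.Agent.H1.FibreStalk.fiberStalkEquiv (f ≫ g) x
  have e₂ := Groth.Agent.H1.FibreStalk.fiberStalkEquiv g (f x)
  have e₃ := Groth.Agent.H1.FibreStalk.fiberStalkEquiv f x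
  haveI n₂ : IsNoetherianRing (Y.presheaf.stalk (f x) ⧸
      (IsLocalRing.maximalIdeal (S.presheaf.stalk (g (f x)))).map (g.stalkMap (f x)).hom) :=
    isNoetherianRing_of_ringEquiv _ e₂.symm
  haveI n₃ : IsNoetherianRing (X.presheaf.stalk x ⧸
      ((IsLocalRing.maximalIdeal (S.presheaf.stalk (g (f x)))).map
      (g.stalkMap (f x)).hom).map (f.stalkMap x).hom) := by
    rw [hImap]
    exact isNoetherianRing_of_ringEquiv _ e₁.symm
  obtain ⟨hle, heq⟩ := Groth.Agent.H1.DimFormula.ringKrullDim_quotient_map_le (f.stalkMap x).hom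
    ((IsLocalRing.maximalIdeal (S.presheaf.stalk (g (f x)))).map (g.stalkMap (f x)).hom) hI
  rw [ringKrullDim_eq_of_ringEquiv (Ideal.quotEquivOfEq hImap),
    ringKrullDim_eq_of_ringEquiv e₁, ringKrullDim_eq_of_ringEquiv e₂,
    ringKrullDim_eq_of_ringEquiv e₃] at hle heq
  rw [h₁, h₂, h₃, ht]
  constructor
  · push_cast
    calc _ ≤ (ringKrullDim ((g.fiber (g (f x))).presheaf.stalk (g.asFiber (f x))) +
          ringKrullDim ((f.fiber (f x)).presheaf.stalk (f.asFiber x))) + ((t₂ : WithBot ℕ∞) + t₃) := by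
            gcongr
      _ = _ := by abel
  · intro hflat
    rw [heq hflat]
    push_cast
    abel

/-- the local ring at a point without proper generizations has dimension zero. -/
theorem ringKrullDim_stalk_eq_zero {T : Scheme.{u}} (t : T) (h : ∀ z : T, z ⤳ t → z = t) :
    ringKrullDim (T.presheaf.stalk t) = 0 := by
  haveI : Subsingleton (PrimeSpectrum (T.presheaf.stalk t)) := by
    constructor
    intro p q
    have hp : T.fromSpecStalk t p ∈ Set.range (T.fromSpecStalk t) := ⟨p, rfl⟩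
    have hq : T.fromSpecStalk t q ∈ Set.range (T.fromSpecStalk t) := ⟨q, rfl⟩
    rw [Scheme.range_fromSpecStalk] at hp hq
    have := (h _ hp).trans (h _ hq).symm
    exact (T.fromSpecStalk t).isEmbedding.injective this
  exact Order.krullDim_eq_zero

/-- at a generic point of a fibre, the local fibre dimension is the transcendence degree of the
residue field extension. -/
theorem fibreDimAt_eq_trdeg_of_generic {X Y : Scheme.{u}} (f : X ⟶ Y) [LocallyOfFiniteType f]
    (x : X) (hx : ∀ x' : X, f x' = f x → x' ⤳ x → x' = x) :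
    ∃ t : ℕ, @Algebra.trdeg (Y.residueField (f x)) (X.residueField x) _ _
        (f.residueFieldMap x).hom.toAlgebra = t ∧ FlatMor.fibreDimAt f x = t := by
  obtain ⟨t, ht, hdim⟩ := exists_fibreDimAt_eq_stalk_add_trdeg f x
  refine ⟨t, ht, ?_⟩
  rw [hdim, ringKrullDim_stalk_eq_zero, zero_add]
  intro z hz
  apply (f.fiberι (f x)).isEmbedding.injective
  rw [f.fiberι_asFiber x]
  apply hx
  · have : f.fiberι (f x) z ∈ Set.range (f.fiberι (f x)) := ⟨z, rfl⟩
    rw [Scheme.Hom.range_fiberι] at this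
    exact this
  · have := hz.map (f.fiberι (f x)).continuous
    rwa [f.fiberι_asFiber x] at this

end Groth.Agent.H1.DimFormula
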