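import Mathlib
import Groth.Agent.Lib.Helper1.FibDimBC

/-! The local fibre dimension is étale local on source and target (helper1). -/

set_option autoImplicit false
universe u

namespace Groth.Agent.H1.FibDimEt

open AlgebraicGeometry CategoryTheory CategoryTheory.Limits TopologicalSpace Topology

/-- the residue field extension of an étale morphism is étale. -/
theorem etale_SpecMap_residueFieldMap {X Y : Scheme.{u}} (f : X ⟶ Y) [Etale f] (x : X) :
    Etale (Spec.map (f.residueFieldMap x)) := by
  rw [HasRingHomProperty.Spec_iff (P := @Etale)]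
  algebraize [(f.stalkMap x).hom]
  have : IsLocalHom (algebraMap (Y.presheaf.stalk (f x)) (X.presheaf.stalk x)) :=
    inferInstanceAs <| IsLocalHom (f.stalkMap x).hom
  have : Algebra.EssFiniteType (Y.presheaf.stalk (f x)) (X.presheaf.stalk x) := by
    rw [← RingHom.essFiniteType_algebraMap, RingHom.algebraMap_toAlgebra]
    exact LocallyOfFiniteType.stalkMap f x
  have : Algebra.FormallyUnramified (Y.presheaf.stalk (f x)) (X.presheaf.stalk x) := by
    rw [← RingHom.formallyUnramified_algebraMap, RingHom.algebraMap_toAlgebra]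
    exact FormallyUnramified.stalkMap f x
  have h1 : Module.Finite (IsLocalRing.ResidueField (Y.presheaf.stalk (f x)))
      (IsLocalRing.ResidueField (X.presheaf.stalk x)) := inferInstance
  have h2 : Algebra.IsSeparable (IsLocalRing.ResidueField (Y.presheaf.stalk (f x)))
      (IsLocalRing.ResidueField (X.presheaf.stalk x)) := inferInstance
  have h3 : Algebra.Etale (IsLocalRing.ResidueField (Y.presheaf.stalk (f x)))
      (IsLocalRing.ResidueField (X.presheaf.stalk x)) :=
    ⟨Algebra.FormallyEtale.of_isSeparable _ _,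
      Algebra.FinitePresentation.of_finiteType.mp inferInstance⟩
  change @Algebra.Etale _ _ _ _ (f.residueFieldMap x).hom.toAlgebra
  convert! h3
  refine Algebra.algebra_ext _ _ fun t ↦ ?_
  obtain ⟨t, rfl⟩ := IsLocalRing.residue_surjective t
  rfl

variable {X Y Z : Scheme.{u}}

/-- the map on fibres induced by a morphism of the sources, as a base change. -/
theorem exists_fiber_map (c : X ⟶ Y) (k : Y ⟶ Z) (z : Z) :
    ∃ m : (c ≫ k).fiber z ⟶ k.fiber z,
      IsPullback m ((c ≫ k).fiberι z) (k.fiberι z) c := by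
  have cond : ((c ≫ k).fiberι z ≫ c) ≫ k =
      (c ≫ k).fiberToSpecResidueField z ≫ Z.fromSpecResidueField z := by
    rw [Category.assoc]
    exact pullback.condition
  let m : (c ≫ k).fiber z ⟶ k.fiber z := pullback.lift _ _ cond
  have hm1 : m ≫ k.fiberι z = (c ≫ k).fiberι z ≫ c :=
    pullback.lift_fst (f := k) (g := Z.fromSpecResidueField z) _ _ cond
  have hm2 : m ≫ k.fiberToSpecResidueField z = (c ≫ k).fiberToSpecResidueField z :=
    pullback.lift_snd (f := k) (g := Z.fromSpecResidueField z) _ _ cond
  refine ⟨m, ?_⟩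
  have s : IsPullback (m ≫ k.fiberToSpecResidueField z) ((c ≫ k).fiberι z)
      (Z.fromSpecResidueField z) (c ≫ k) := by
    rw [hm2]
    exact (IsPullback.of_hasPullback (c ≫ k) (Z.fromSpecResidueField z)).flip
  exact IsPullback.of_right s hm1 (IsPullback.of_hasPullback k (Z.fromSpecResidueField z)).flip

/-- the local fibre dimension is unchanged by an étale morphism to the source. -/
theorem fibreDimAt_comp_of_etale (c : X ⟶ Y) [Etale c] (k : Y ⟶ Z) (x : X) :
    FlatMor.fibreDimAt (c ≫ k) x = FlatMor.fibreDimAt k (c x) := by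
  obtain ⟨m, hm⟩ := exists_fiber_map c k ((c ≫ k) x)
  have : Etale m := MorphismProperty.of_isPullback (P := @Etale) hm.flip inferInstance
  have hz : k.fiberι ((c ≫ k) x) (m ((c ≫ k).asFiber x)) = c x := by
    have := congrArg (fun φ : (c ≫ k).fiber ((c ≫ k) x) ⟶ Y => φ ((c ≫ k).asFiber x)) hm.w
    simp only [Scheme.Hom.comp_apply] at this
    rw [this, (c ≫ k).fiberι_asFiber]
  rw [← Groth.Agent.H1.Chev.localDim_fiber_eq_fibreDimAt k (c x) ((c ≫ k) x) rfl
    (m ((c ≫ k).asFiber x)) hz]
  exact Groth.Agent.H3.EtaleDim.localDim_eq_of_etale m _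

/-- the local fibre dimension is unchanged by étale base change (no finiteness assumption). -/
theorem fibreDimAt_eq_of_isPullback_of_etale {X S X' S' : Scheme.{u}} (f : X ⟶ S)
    (g : S' ⟶ S) [Etale g] (g' : X' ⟶ X) (f' : X' ⟶ S') (hsq : IsPullback g' f' f g) (x' : X') :
    FlatMor.fibreDimAt f' x' = FlatMor.fibreDimAt f (g' x') := by
  obtain ⟨r, hr, hrι⟩ := Groth.Agent.H1.FibDimBC.fiber_isPullback' f g f' g' hsq (f' x')
  have hfx : f (g' x') = g (f' x') := by
    have := congrArg (fun φ : X' ⟶ S => φ x') hsq.w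
    exact this
  have hz : f.fiberι (g (f' x')) (r (f'.asFiber x')) = g' x' := by
    have := congrArg (fun φ : f'.fiber (f' x') ⟶ X => φ (f'.asFiber x')) hrι
    simp only [Scheme.Hom.comp_apply] at this
    rw [this, f'.fiberι_asFiber]
  rw [← Groth.Agent.H1.Chev.localDim_fiber_eq_fibreDimAt f (g' x') (g (f' x')) hfx
    (r (f'.asFiber x')) hz]
  have := etale_SpecMap_residueFieldMap g (f' x')
  have : Etale r := MorphismProperty.of_isPullback (P := @Etale) hr.flip inferInstance
  exact Groth.Agent.H3.EtaleDim.localDim_eq_of_etale r _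

/-- **The local fibre dimension is étale local on source and target.** -/
theorem fibreDimAt_eq_of_etale_square {U U' V V' : Scheme.{u}} (h : U ⟶ V) (h' : U' ⟶ V')
    (a : U' ⟶ U) (b : V' ⟶ V) [Etale a] [Etale b] (comm : h' ≫ b = a ≫ h) (u' : U') :
    FlatMor.fibreDimAt h (a u') = FlatMor.fibreDimAt h' u' := by
  let c : U' ⟶ pullback h b := pullback.lift a h' comm.symm
  have hc1 : c ≫ pullback.fst h b = a := pullback.lift_fst _ _ _
  have hc2 : c ≫ pullback.snd h b = h' := pullback.lift_snd _ _ _
  have : Etale (c ≫ pullback.fst h b) := by rw [hc1]; infer_instance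
  have : Etale c := MorphismProperty.of_postcomp (W := @Etale) (W' := @Etale) c
    (pullback.fst h b) inferInstance inferInstance
  have e1 : FlatMor.fibreDimAt h' u' = FlatMor.fibreDimAt (pullback.snd h b) (c u') := by
    rw [← fibreDimAt_comp_of_etale c (pullback.snd h b) u']
    congr 1
    exact hc2.symm
  have e2 := fibreDimAt_eq_of_isPullback_of_etale h b (pullback.fst h b) (pullback.snd h b)
    (IsPullback.of_hasPullback h b) (c u')
  rw [e1, e2]
  congr 1
  have := congrArg (fun φ : U' ⟶ U => φ u') hc1
  exact this.symm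

end Groth.Agent.H1.FibDimEt
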