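import Mathlib
import Groth.Agent.Lib.Helper5.AlgSp.LocPAt
import Groth.Agent.Lib.Helper5.AlgSp.ResidueFieldEtale
import Groth.Agent.Lib.Helper1.DimFormula2
import Groth.Agent.Lib.Helper1.FibDimEt
import Groth.Prelude.Def_Dual3

/-! Helper1: relative dimension at points of morphisms of algebraic spaces: chart independence of
étale-local pointwise predicates, and étale-locality of fibre dimension, transcendence degree and
dimension of the local ring of the fibre. -/

set_option autoImplicit false
universe u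
open CategoryTheory CategoryTheory.Limits AlgebraicGeometry MorphismProperty Topology
namespace Groth.Agent.H1.AlgSpDim
open _root_.AlgSp Groth.Agent.H5.EtSrc Groth.Agent.H5.AlgSp

variable {S : Scheme.{u}} {F G H : Sp S}

/-- A pointwise predicate on morphisms of schemes is *étale-local* (for morphisms locally of finite
type) if it is invariant under étale squares. -/
def EtLocal (Q : ∀ (U V : Scheme.{u}), (U ⟶ V) → ↥U → Prop) : Prop :=
  ∀ ⦃U V U'' V'' : Scheme.{u}⦄ (h : U ⟶ V) (h'' : U'' ⟶ V'') (p : U'' ⟶ U) (q : V'' ⟶ V),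
    Etale p → Etale q → h'' ≫ q = p ≫ h → LocallyOfFiniteType h → LocallyOfFiniteType h'' →
    ∀ r : U'', Q _ _ h'' r ↔ Q _ _ h (p r)

/-- **chart independence**: if an étale-local predicate holds in some chart diagram through `x`,
it holds in every chart diagram through `x`. -/
theorem hasAtMor_chart {Q : ∀ (U V : Scheme.{u}), (U ⟶ V) → ↥U → Prop} (hQ : EtLocal Q)
    {f : F ⟶ G} (hf : LocP @LocallyOfFiniteType f)
    {U V : Over S} (a : (yon S).obj U ⟶ F) (b : (yon S).obj V ⟶ G) (h : U ⟶ V)
    (ha : RepWith @Etale a) (hb : RepWith @Etale b) (comm : a ≫ f = (yon S).map h ≫ b)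
    (u : ↥U.left)
    (hx : HasAtMor Q f (Points.ofPt a u)) : Q _ _ h.left u := by
  obtain ⟨U', V', a', b', h', u', ha', hb', comm', hu', hQ'⟩ := hx
  -- `R = U' ×_F U`
  have sqU := ha'.rep.isPullback' a
  have hpr : Etale (ha'.rep.snd a).left := ha'.property_snd a
  have hpr' : Etale (ha'.rep.fst' a).left := ha.property a' _ _ sqU.flip
  have h12 : Points.map a' (Points.schemeHomeo U' u') = Points.ofPt a u := by
    rw [← hu', Points.ofPt_eq_map_ofScheme]
    rfl
  obtain ⟨r, hr1, hr2⟩ := exists_point_of_isPullback sqU (Points.schemeHomeo U' u') u h12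
  have hr' : (ha'.rep.fst' a).left r = u' := by
    apply (Points.schemeHomeo U').injective
    rw [← hr2]
    have := ofPt_yon_map_comp (ha'.rep.fst' a) (𝟙 ((yon S).obj U')) r
    rw [Category.comp_id] at this
    rw [this]
    rfl
  -- `V'' = V' ×_G V`
  have sqV := hb'.rep.isPullback' b
  have hq : Etale (hb'.rep.snd b).left := hb'.property_snd b
  have hq' : Etale (hb'.rep.fst' b).left := hb.property b' _ _ sqV.flip
  have hw : (yon S).map (ha'.rep.fst' a ≫ h') ≫ b' = (yon S).map (ha'.rep.snd a ≫ h) ≫ b := by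
    rw [Functor.map_comp, Functor.map_comp, Category.assoc, Category.assoc, ← comm', ← comm,
      ← Category.assoc, ← Category.assoc, sqU.w]
  obtain ⟨k, hk⟩ := (yon S).map_surjective (sqV.lift _ _ hw)
  have hk1 : k ≫ hb'.rep.fst' b = ha'.rep.fst' a ≫ h' :=
    (yon S).map_injective (by rw [Functor.map_comp, hk, sqV.lift_fst])
  have hk2 : k ≫ hb'.rep.snd b = ha'.rep.snd a ≫ h :=
    (yon S).map_injective (by rw [Functor.map_comp, hk, sqV.lift_snd])
  have lh : LocallyOfFiniteType h.left := hf a b h ha hb comm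
  have lh' : LocallyOfFiniteType h'.left := hf a' b' h' ha' hb' comm'
  have hk1' : k.left ≫ (hb'.rep.fst' b).left = (ha'.rep.fst' a).left ≫ h'.left := by
    rw [← Over.comp_left, hk1, Over.comp_left]
  have hk2' : k.left ≫ (hb'.rep.snd b).left = (ha'.rep.snd a).left ≫ h.left := by
    rw [← Over.comp_left, hk2, Over.comp_left]
  have lk : LocallyOfFiniteType k.left := by
    have : LocallyOfFiniteType (k.left ≫ (hb'.rep.snd b).left) := by
      rw [hk2']; infer_instance
    exact locallyOfFiniteType_of_comp k.left (hb'.rep.snd b).left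
  have e1 := (hQ h'.left k.left (ha'.rep.fst' a).left (hb'.rep.fst' b).left hpr' hq' hk1' lh' lk r)
  have e2 := (hQ h.left k.left (ha'.rep.snd a).left (hb'.rep.snd b).left hpr hq hk2' lh lk r)
  rw [hr'] at e1
  rw [hr1] at e2
  exact e2.mp (e1.mpr hQ')

/-- additivity of `resTrdeg` -/
theorem resTrdeg_comp {X Y Z : Scheme.{u}} (f : X ⟶ Y) (g : Y ⟶ Z) (x : X) :
    Dual3.resTrdeg (f ≫ g) x = Dual3.resTrdeg g (f x) + Dual3.resTrdeg f x :=
  (Groth.Agent.H1.DimFormula.trdeg_residueField_comp f g x).symm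

theorem resTrdeg_eq_zero_of_etale {X Y : Scheme.{u}} (f : X ⟶ Y) [Etale f] (x : X) :
    Dual3.resTrdeg f x = 0 := by
  letI : Algebra (Y.residueField (f x)) (X.residueField x) := (f.residueFieldMap x).hom.toAlgebra
  haveI : Module.Finite (Y.residueField (f x)) (X.residueField x) :=
    Groth.Agent.H5.AlgSp.finite_residueField_of_formallyUnramified f x
  exact trdeg_eq_zero

theorem resTrdeg_eq_of_etale_square {U V U'' V'' : Scheme.{u}} (h : U ⟶ V) (h'' : U'' ⟶ V'')
    (p : U'' ⟶ U) (q : V'' ⟶ V) [Etale p] [Etale q] (comm : h'' ≫ q = p ≫ h) (r : U'') :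
    Dual3.resTrdeg h'' r = Dual3.resTrdeg h (p r) := by
  have h1 := resTrdeg_comp h'' q r
  have h2 := resTrdeg_comp p h r
  rw [resTrdeg_eq_zero_of_etale q, zero_add] at h1
  rw [resTrdeg_eq_zero_of_etale p, add_zero] at h2
  rw [← h1, ← h2, comm]

theorem etLocal_fibreDimAt_eq (d : WithBot ℕ∞) :
    EtLocal (fun _ _ h u => FlatMor.fibreDimAt h u = d) := by
  intro U V U'' V'' h h'' p q hp hq comm _ _ r
  beta_reduce
  rw [Groth.Agent.H1.FibDimEt.fibreDimAt_eq_of_etale_square h h'' p q comm r]

theorem etLocal_resTrdeg_eq (c : Cardinal.{u}) :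
    EtLocal (fun _ _ h u => Dual3.resTrdeg h u = c) := by
  intro U V U'' V'' h h'' p q hp hq comm _ _ r
  beta_reduce
  rw [resTrdeg_eq_of_etale_square h h'' p q comm r]

theorem withBot_add_natCast_cancel {a b : WithBot ℕ∞} {t : ℕ}
    (h : a + (t : WithBot ℕ∞) = b + (t : WithBot ℕ∞)) : a = b := by
  induction a with
  | bot =>
    induction b with
    | bot => rfl
    | coe b =>
      exfalso
      rw [WithBot.bot_add] at h
      exact WithBot.bot_ne_coe (a := b + (t : ℕ∞)) (by exact_mod_cast h)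
  | coe a =>
    induction b with
    | bot =>
      exfalso
      rw [WithBot.bot_add] at h
      exact WithBot.coe_ne_bot (a := a + (t : ℕ∞)) (by exact_mod_cast h)
    | coe b =>
      have h' : a + (t : ℕ∞) = b + (t : ℕ∞) := by exact_mod_cast h
      have := ENat.add_left_injective_of_ne_top (ENat.natCast_ne_top t) h'
      rw [this]

/-- the dimension of the local ring of the fibre at a point, for morphisms locally of finite type,
is étale local. -/
theorem dim_fiber_stalk_eq_of_etale_square {U V U'' V'' : Scheme.{u}} (h : U ⟶ V) (h'' : U'' ⟶ V'')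
    (p : U'' ⟶ U) (q : V'' ⟶ V) [Etale p] [Etale q] (comm : h'' ≫ q = p ≫ h)
    [LocallyOfFiniteType h] [LocallyOfFiniteType h''] (r : U'') :
    ringKrullDim ((h''.fiber (h'' r)).presheaf.stalk (h''.asFiber r)) =
      ringKrullDim ((h.fiber (h (p r))).presheaf.stalk (h.asFiber (p r))) := by
  obtain ⟨t₁, ht₁, hd₁⟩ := Groth.Agent.H1.DimFormula.exists_fibreDimAt_eq_stalk_add_trdeg h'' r
  obtain ⟨t₂, ht₂, hd₂⟩ := Groth.Agent.H1.DimFormula.exists_fibreDimAt_eq_stalk_add_trdeg h (p r)
  have e1 := resTrdeg_eq_of_etale_square h h'' p q comm r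
  have e2 := Groth.Agent.H1.FibDimEt.fibreDimAt_eq_of_etale_square h h'' p q comm r
  have ht : t₁ = t₂ := by
    have : (t₁ : Cardinal.{u}) = t₂ := by
      rw [← ht₁, ← ht₂]; exact e1
    exact_mod_cast this
  rw [hd₁, hd₂, ht] at e2
  exact (withBot_add_natCast_cancel e2).symm

theorem etLocal_dim_fiber_stalk_eq (e : WithBot ℕ∞) :
    EtLocal (fun _ _ h u => ringKrullDim ↥((h.fiber (h u)).presheaf.stalk (h.asFiber u)) = e) := by
  intro U V U'' V'' h h'' p q hp hq comm _ _ r
  beta_reduce
  rw [dim_fiber_stalk_eq_of_etale_square h h'' p q comm r]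

end Groth.Agent.H1.AlgSpDim
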