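import Mathlib

/-! # Dimension inequality, part A: heights along surjections; primes of `D[X]` over `0`. -/

set_option autoImplicit false
universe u
open Polynomial

namespace Groth.Agent.H1.DimIneq

/-- Heights add along a strictly monotone map landing above a fixed element. -/
theorem height_add_le_of_strictMono {α β : Type*} [Preorder α] [Preorder β] (g : β → α)
    (hg : StrictMono g) (a : α) (ha : ∀ y, a ≤ g y) (y : β) :
    Order.height a + Order.height y ≤ Order.height (g y) := by
  have key : ∀ (n : ℕ) (p : LTSeries β), p.length = n →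
      Order.height a + n ≤ Order.height (g p.last) := by
    intro n
    induction n with
    | zero =>
      intro p _
      simpa using Order.height_mono (ha p.last)
    | succ n ih =>
      intro p hp
      have hne : p.length ≠ 0 := by omega
      have h1 := ih p.eraseLast (by simp [hp])
      have h2 : p.eraseLast.last < p.last := p.eraseLast_last_rel_last hne
      have h3 := Order.height_add_one_le (hg h2)
      calc Order.height a + ((n + 1 : ℕ) : ℕ∞) = (Order.height a + n) + 1 := by
            push_cast; rw [add_assoc]
        _ ≤ Order.height (g p.eraseLast.last) + 1 := by gcongr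
        _ ≤ _ := h3
  cases hy : Order.height y with
  | top =>
    have : Order.height (g y) = ⊤ := by
      rw [ENat.eq_top_iff_forall_ge]
      intro m
      obtain ⟨p, hp1, hp2⟩ := Order.exists_series_of_le_height y (n := m) (by rw [hy]; exact le_top)
      have := key m p hp2
      rw [hp1] at this
      exact le_trans (le_add_self) this
    rw [this]; exact le_top
  | coe n =>
    obtain ⟨p, hp1, hp2⟩ := Order.exists_series_of_height_eq_coe y hy
    have := key n p hp2
    rwa [hp1] at this

/-- For a surjection `φ : A → B` with prime kernel and a prime `q` of `B`: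
`ht (ker φ) + ht q ≤ ht (φ⁻¹ q)`. -/
theorem height_ker_add_height_le {A B : Type*} [CommRing A] [CommRing B] (φ : A →+* B)
    (hφ : Function.Surjective φ) [hk : (RingHom.ker φ).IsPrime] (q : Ideal B) [q.IsPrime] :
    (RingHom.ker φ).height + q.height ≤ (q.comap φ).height := by
  have h1 := height_add_le_of_strictMono (PrimeSpectrum.comap φ)
    (RingHom.strictMono_comap_of_surjective hφ) (⟨RingHom.ker φ, hk⟩ : PrimeSpectrum A)
    (fun y => by
      change RingHom.ker φ ≤ y.asIdeal.comap φ
      exact Ideal.comap_mono bot_le) ⟨q, inferInstance⟩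
  rw [← PrimeSpectrum.height_eq_orderHeight, ← PrimeSpectrum.height_eq_orderHeight,
    ← PrimeSpectrum.height_eq_orderHeight] at h1
  exact h1

end Groth.Agent.H1.DimIneq

namespace Groth.Agent.H1.DimIneq

section PolyOverDomain

variable (D : Type u) [CommRing D] [IsDomain D]

attribute [local instance] Polynomial.algebra in
/-- A nonzero prime of `D[X]` contracting to `0` has height one. -/
theorem height_eq_one_of_comap_C_eq_bot (P : Ideal D[X]) [P.IsPrime]
    (hP : P.comap (C : D →+* D[X]) = ⊥) (hne : P ≠ ⊥) : P.height = 1 := by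
  let K := FractionRing D
  haveI : IsLocalization ((nonZeroDivisors D).map (C : D →+* D[X])) K[X] :=
    Polynomial.isLocalization (nonZeroDivisors D) K
  have disj : Disjoint (((nonZeroDivisors D).map (C : D →+* D[X]) : Submonoid D[X]) : Set D[X])
      (P : Set D[X]) := by
    rw [Set.disjoint_left]
    rintro _ ⟨d, hd, rfl⟩ hdP
    have : d ∈ P.comap (C : D →+* D[X]) := hdP
    rw [hP, Ideal.mem_bot] at this
    exact (nonZeroDivisors.ne_zero hd) this
  have h1 := IsLocalization.height_map_of_disjoint (S := K[X])
    ((nonZeroDivisors D).map (C : D →+* D[X])) P disj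
  haveI hprime : (P.map (algebraMap D[X] K[X])).IsPrime :=
    IsLocalization.isPrime_of_isPrime_disjoint ((nonZeroDivisors D).map (C : D →+* D[X])) K[X] P
      inferInstance disj
  have hinj : Function.Injective (algebraMap D[X] K[X]) :=
    Polynomial.map_injective _ (IsFractionRing.injective D K)
  have hne' : P.map (algebraMap D[X] K[X]) ≠ ⊥ := by
    rw [Ne, Ideal.map_eq_bot_iff_of_injective hinj]
    exact hne
  haveI : (P.map (algebraMap D[X] K[X])).IsMaximal := IsPrime.to_maximal_ideal hne'
  rw [← h1]
  exact IsPrincipalIdealRing.height_eq_one_of_isMaximal _ (Polynomial.not_isField K)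

theorem isAlgebraic_quotient_of_ne_bot (P : Ideal D[X]) (hne : P ≠ ⊥) :
    Algebra.IsAlgebraic D (D[X] ⧸ P) := by
  obtain ⟨f, hfP, hf0⟩ := Submodule.exists_mem_ne_zero_of_ne_bot hne
  have hx : IsAlgebraic D (Ideal.Quotient.mkₐ D P X) := by
    refine ⟨f, hf0, ?_⟩
    rw [Polynomial.aeval_algHom_apply, Polynomial.aeval_X_left_apply]
    exact Ideal.Quotient.eq_zero_iff_mem.2 hfP
  have hadj : Algebra.adjoin D {(Ideal.Quotient.mkₐ D P) X} = ⊤ := by
    have h := congrArg (Subalgebra.map (Ideal.Quotient.mkₐ D P)) (Polynomial.adjoin_X (R := D))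
    rw [AlgHom.map_adjoin, Set.image_singleton, Algebra.map_top,
      (AlgHom.range_eq_top _).2 (Ideal.Quotient.mkₐ_surjective D P)] at h
    exact h
  have h2 := Algebra.isAlgebraic_adjoin_singleton_iff.2 hx
  rw [hadj] at h2
  exact ⟨fun y => h2 y Algebra.mem_top⟩

/-- **Lemma A**: for a prime `P` of `D[X]` contracting to `0` in the domain `D`:
`ht P + trdeg_D (D[X]/P) = 1`. -/
theorem height_add_trdeg_of_comap_C_eq_bot (P : Ideal D[X]) [P.IsPrime]
    (hP : P.comap (C : D →+* D[X]) = ⊥) :
    (P.height : Cardinal.{u}) + Algebra.trdeg D (D[X] ⧸ P) = 1 := by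
  by_cases hne : P = ⊥
  · subst hne
    rw [Ideal.height_bot, (AlgEquiv.quotientBot D D[X]).trdeg_eq, Polynomial.trdeg_of_isDomain]
    simp
  · rw [height_eq_one_of_comap_C_eq_bot D P hP hne]
    haveI := isAlgebraic_quotient_of_ne_bot D P hne
    rw [trdeg_eq_zero]
    simp

end PolyOverDomain

end Groth.Agent.H1.DimIneq
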