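import Mathlib
import Groth.Agent.Lib.Helper1.DimIneqA

/-! # Dimension inequality, part B: the polynomial ring `R[X]` over a Noetherian ring. -/

set_option autoImplicit false
universe u
open Polynomial

namespace Groth.Agent.H1.DimIneq

section

variable (R : Type u) [CommRing R] [IsNoetherianRing R] (p : Ideal R) [p.IsPrime]
  (q : Ideal R[X]) [q.IsPrime] [q.LiesOver p]

theorem map_C_le_of_liesOver : p.map (C : R →+* R[X]) ≤ q := by
  rw [Ideal.map_le_iff_le_comap]
  intro r hr
  exact (Ideal.mem_of_liesOver q p r).1 hr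

/-- **Lemma B**: for a prime `q` of `R[X]` over `p` (`R` Noetherian):
`ht q + trdeg_{R/p} (R[X]/q) = ht p + 1`. -/
theorem height_add_trdeg_polynomial :
    (q.height : Cardinal.{u}) + Algebra.trdeg (R ⧸ p) (R[X] ⧸ q) = (p.height : Cardinal.{u}) + 1 := by
  have hle : p.map (C : R →+* R[X]) ≤ q := map_C_le_of_liesOver R p q
  have h1 := Ideal.height_eq_height_add_of_liesOver_of_hasGoingDown p q
  set qbar : Ideal (R[X] ⧸ p.map (algebraMap R R[X])) :=
    q.map (Ideal.Quotient.mk (p.map (algebraMap R R[X]))) with hqbar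
  haveI hqbar_prime : qbar.IsPrime :=
    Ideal.map_isPrime_of_surjective Ideal.Quotient.mk_surjective (by rw [Ideal.mk_ker]; exact hle)
  let e := Ideal.polynomialQuotientEquivQuotientPolynomial p
  set P : Ideal (R ⧸ p)[X] := qbar.comap e with hPdef
  haveI : P.IsPrime := Ideal.comap_isPrime e qbar
  have hP : P.height = qbar.height := RingEquiv.height_comap e qbar
  -- membership in `P`
  have hmem : ∀ x : R[X], x.map (Ideal.Quotient.mk p) ∈ P ↔ x ∈ q := by
    intro x
    rw [hPdef, Ideal.mem_comap, Ideal.polynomialQuotientEquivQuotientPolynomial_map_mk]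
    exact Ideal.mem_quotient_iff_mem hle
  have hP0 : P.comap (C : (R ⧸ p) →+* (R ⧸ p)[X]) = ⊥ := by
    rw [eq_bot_iff]
    intro d hd
    obtain ⟨r, rfl⟩ := Ideal.Quotient.mk_surjective d
    rw [Ideal.mem_comap, ← Polynomial.map_C, hmem] at hd
    rw [Ideal.mem_bot, Ideal.Quotient.eq_zero_iff_mem]
    exact (Ideal.mem_of_liesOver q p r).2 hd
  have hA := height_add_trdeg_of_comap_C_eq_bot (R ⧸ p) P hP0
  -- the algebra isomorphism
  let σ : R[X] →+* (R ⧸ p)[X] := Polynomial.mapRingHom (Ideal.Quotient.mk p)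
  have hcomap : P.comap σ = q := by
    ext x
    rw [Ideal.mem_comap]
    exact hmem x
  let θ : R[X] ⧸ q →+* (R ⧸ p)[X] ⧸ P := Ideal.quotientMap P σ (le_of_eq hcomap.symm)
  have hθinj : Function.Injective θ := Ideal.quotientMap_injective' (le_of_eq hcomap)
  have hθsurj : Function.Surjective θ :=
    Ideal.quotientMap_surjective (Polynomial.map_surjective _ Ideal.Quotient.mk_surjective)
  let E : (R[X] ⧸ q) ≃ₐ[R ⧸ p] ((R ⧸ p)[X] ⧸ P) :=
    AlgEquiv.ofRingEquiv (f := RingEquiv.ofBijective θ ⟨hθinj, hθsurj⟩) (by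
      intro d
      obtain ⟨r, rfl⟩ := Ideal.Quotient.mk_surjective d
      change θ (Ideal.Quotient.mk q (C r)) = Ideal.Quotient.mk P (C (Ideal.Quotient.mk p r))
      rw [Ideal.quotientMap_mk]
      congr 1
      exact Polynomial.map_C _)
  have hE : Algebra.trdeg (R ⧸ p) (R[X] ⧸ q) = Algebra.trdeg (R ⧸ p) ((R ⧸ p)[X] ⧸ P) :=
    AlgEquiv.trdeg_eq E
  rw [hE, h1, Cardinal.ofENat_add, add_assoc, ← hP, hA]

end

end Groth.Agent.H1.DimIneq
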