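import Mathlib
import Groth.Agent.Lib.Helper1.DimIneqB

/-! # Dimension inequality, part C: one generator, and the general finite type case. -/

set_option autoImplicit false
universe u
open Polynomial

namespace Groth.Agent.H1.DimIneq

section OneGen

variable (R : Type u) [CommRing R] [IsDomain R] [IsNoetherianRing R]
  (S : Type u) [CommRing S] [IsDomain S] [Algebra R S] [FaithfulSMul R S]
  (p : Ideal R) [p.IsPrime] (q : Ideal S) [q.IsPrime] [q.LiesOver p]

/-- The dimension inequality for an extension generated by one element. -/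
theorem dimIneq_of_adjoin_singleton (x : S) (hx : Algebra.adjoin R {x} = ⊤) :
    (q.height : Cardinal.{u}) + Algebra.trdeg (R ⧸ p) (S ⧸ q) ≤
      (p.height : Cardinal.{u}) + Algebra.trdeg R S := by
  let φ : R[X] →ₐ[R] S := Polynomial.aeval x
  have hφ : Function.Surjective φ := by
    rw [← AlgHom.range_eq_top, ← Algebra.adjoin_singleton_eq_range_aeval]
    exact hx
  haveI hQ : (RingHom.ker φ.toRingHom).IsPrime := RingHom.ker_isPrime φ.toRingHom
  -- (ii) `ht Q + trdeg_R S = 1`
  have hQ0 : (RingHom.ker φ.toRingHom).comap (C : R →+* R[X]) = ⊥ := by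
    rw [eq_bot_iff]
    intro r hr
    rw [Ideal.mem_comap, RingHom.mem_ker] at hr
    have : algebraMap R S r = 0 := by
      have h2 : φ (C r) = algebraMap R S r := Polynomial.aeval_C x r
      rw [← h2]; exact hr
    rw [Ideal.mem_bot]
    exact (FaithfulSMul.algebraMap_injective R S) (by rw [this, map_zero])
  have hii := height_add_trdeg_of_comap_C_eq_bot R (RingHom.ker φ.toRingHom) hQ0
  have hES : Algebra.trdeg R (R[X] ⧸ RingHom.ker φ.toRingHom) = Algebra.trdeg R S :=
    AlgEquiv.trdeg_eq (Ideal.quotientKerAlgEquivOfSurjective hφ)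
  rw [hES] at hii
  -- (i) Lemma B for `q* = φ⁻¹ q`
  set qs : Ideal R[X] := q.comap φ with hqs
  haveI : qs.IsPrime := Ideal.comap_isPrime φ q
  haveI : qs.LiesOver p := Ideal.comap_liesOver q p φ
  have hi := height_add_trdeg_polynomial R p qs
  -- the residue algebras agree
  let θ : R[X] ⧸ qs →+* S ⧸ q := Ideal.quotientMap q φ.toRingHom le_rfl
  have hθinj : Function.Injective θ := Ideal.quotientMap_injective
  have hθsurj : Function.Surjective θ := Ideal.quotientMap_surjective hφ
  let E : (R[X] ⧸ qs) ≃ₐ[R ⧸ p] (S ⧸ q) :=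
    AlgEquiv.ofRingEquiv (f := RingEquiv.ofBijective θ ⟨hθinj, hθsurj⟩) (by
      intro d
      obtain ⟨r, rfl⟩ := Ideal.Quotient.mk_surjective d
      change θ (Ideal.Quotient.mk qs (C r)) = Ideal.Quotient.mk q (algebraMap R S r)
      rw [Ideal.quotientMap_mk]
      congr 1
      exact Polynomial.aeval_C x r)
  have hE : Algebra.trdeg (R ⧸ p) (R[X] ⧸ qs) = Algebra.trdeg (R ⧸ p) (S ⧸ q) :=
    AlgEquiv.trdeg_eq E
  rw [hE] at hi
  -- (iii) heights
  have hiii := height_ker_add_height_le φ.toRingHom hφ q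
  have hiii' : ((RingHom.ker φ.toRingHom).height : Cardinal.{u}) + (q.height : Cardinal.{u}) ≤
      (qs.height : Cardinal.{u}) := by
    rw [← Cardinal.ofENat_add]
    exact Cardinal.ofENat_le_ofENat.2 hiii
  -- combine
  have hfin : ((RingHom.ker φ.toRingHom).height : Cardinal.{u}) < Cardinal.aleph0 := by
    have h1 : ((RingHom.ker φ.toRingHom).height : Cardinal.{u}) ≤ 1 := by
      rw [← hii]; exact le_self_add
    exact lt_of_le_of_lt h1 Cardinal.one_lt_aleph0
  have key : ((RingHom.ker φ.toRingHom).height : Cardinal.{u}) +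
      ((q.height : Cardinal.{u}) + Algebra.trdeg (R ⧸ p) (S ⧸ q)) ≤
      ((RingHom.ker φ.toRingHom).height : Cardinal.{u}) +
      ((p.height : Cardinal.{u}) + Algebra.trdeg R S) := by
    calc _ = (((RingHom.ker φ.toRingHom).height : Cardinal.{u}) + (q.height : Cardinal.{u})) +
            Algebra.trdeg (R ⧸ p) (S ⧸ q) := by rw [add_assoc]
      _ ≤ (qs.height : Cardinal.{u}) + Algebra.trdeg (R ⧸ p) (S ⧸ q) := by gcongr
      _ = (p.height : Cardinal.{u}) + 1 := hi
      _ = (p.height : Cardinal.{u}) + (((RingHom.ker φ.toRingHom).height : Cardinal.{u}) +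
            Algebra.trdeg R S) := by rw [hii]
      _ = _ := by rw [← add_assoc, add_comm (p.height : Cardinal.{u}), add_assoc]
  exact (Cardinal.add_le_add_iff_of_lt_aleph0 hfin).1 (by rwa [add_comm _ ((RingHom.ker φ.toRingHom).height : Cardinal.{u}), add_comm _ ((RingHom.ker φ.toRingHom).height : Cardinal.{u})])

end OneGen

end Groth.Agent.H1.DimIneq

namespace Groth.Agent.H1.DimIneq

/-- tower of residue algebras -/
theorem isScalarTower_quotient_quotient_quotient (R R' S : Type*) [CommRing R] [CommRing R']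
    [CommRing S] [Algebra R R'] [Algebra R' S] [Algebra R S] [IsScalarTower R R' S]
    (p : Ideal R) (p' : Ideal R') (q : Ideal S) [p'.LiesOver p] [q.LiesOver p'] [q.LiesOver p] :
    IsScalarTower (R ⧸ p) (R' ⧸ p') (S ⧸ q) := by
  refine IsScalarTower.of_algebraMap_eq fun d => ?_
  obtain ⟨r, rfl⟩ := Ideal.Quotient.mk_surjective d
  change Ideal.Quotient.mk q (algebraMap R S r) =
    Ideal.Quotient.mk q (algebraMap R' S (algebraMap R R' r))
  rw [← IsScalarTower.algebraMap_apply]

/-- The dimension inequality is transitive in towers. -/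
theorem dimIneq_trans (R R' S : Type u) [CommRing R] [IsDomain R] [CommRing R'] [IsDomain R']
    [CommRing S] [IsDomain S] [Algebra R R'] [Algebra R' S] [Algebra R S] [IsScalarTower R R' S]
    [FaithfulSMul R R'] [FaithfulSMul R' S]
    (p : Ideal R) [p.IsPrime] (p' : Ideal R') [p'.IsPrime] (q : Ideal S) [q.IsPrime]
    [p'.LiesOver p] [q.LiesOver p'] [q.LiesOver p]
    (h1 : (p'.height : Cardinal.{u}) + Algebra.trdeg (R ⧸ p) (R' ⧸ p') ≤
      (p.height : Cardinal.{u}) + Algebra.trdeg R R')
    (h2 : (q.height : Cardinal.{u}) + Algebra.trdeg (R' ⧸ p') (S ⧸ q) ≤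
      (p'.height : Cardinal.{u}) + Algebra.trdeg R' S) :
    (q.height : Cardinal.{u}) + Algebra.trdeg (R ⧸ p) (S ⧸ q) ≤
      (p.height : Cardinal.{u}) + Algebra.trdeg R S := by
  haveI := isScalarTower_quotient_quotient_quotient R R' S p p' q
  have e1 : Algebra.trdeg R R' + Algebra.trdeg R' S = Algebra.trdeg R S := trdeg_add_eq R R' (A := S)
  have e2 : Algebra.trdeg (R ⧸ p) (R' ⧸ p') + Algebra.trdeg (R' ⧸ p') (S ⧸ q) =
      Algebra.trdeg (R ⧸ p) (S ⧸ q) := trdeg_add_eq (R ⧸ p) (R' ⧸ p') (A := S ⧸ q)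
  rw [← e1, ← e2]
  calc (q.height : Cardinal.{u}) + (Algebra.trdeg (R ⧸ p) (R' ⧸ p') + Algebra.trdeg (R' ⧸ p') (S ⧸ q))
      = ((q.height : Cardinal.{u}) + Algebra.trdeg (R' ⧸ p') (S ⧸ q)) +
          Algebra.trdeg (R ⧸ p) (R' ⧸ p') := by
        rw [add_comm (Algebra.trdeg (R ⧸ p) (R' ⧸ p')), add_assoc]
    _ ≤ ((p'.height : Cardinal.{u}) + Algebra.trdeg R' S) + Algebra.trdeg (R ⧸ p) (R' ⧸ p') := by
        gcongr
    _ = ((p'.height : Cardinal.{u}) + Algebra.trdeg (R ⧸ p) (R' ⧸ p')) + Algebra.trdeg R' S := by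
        rw [add_assoc, add_comm (Algebra.trdeg R' S), ← add_assoc]
    _ ≤ ((p.height : Cardinal.{u}) + Algebra.trdeg R R') + Algebra.trdeg R' S := by gcongr
    _ = _ := by rw [add_assoc]

/-- The dimension inequality, by induction on the number of generators. -/
theorem dimIneq_of_adjoin_range (n : ℕ) : ∀ (R : Type u) [CommRing R] [IsDomain R]
    [IsNoetherianRing R] (S : Type u) [CommRing S] [IsDomain S] [Algebra R S] [FaithfulSMul R S]
    (s : Fin n → S) (_ : Algebra.adjoin R (Set.range s) = ⊤)
    (p : Ideal R) [p.IsPrime] (q : Ideal S) [q.IsPrime] [q.LiesOver p],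
    (q.height : Cardinal.{u}) + Algebra.trdeg (R ⧸ p) (S ⧸ q) ≤
      (p.height : Cardinal.{u}) + Algebra.trdeg R S := by
  induction n with
  | zero =>
    intro R _ _ _ S _ _ _ _ s hs p _ q _ _
    refine dimIneq_of_adjoin_singleton R S p q 0 ?_
    rw [eq_top_iff, ← hs]
    exact Algebra.adjoin_mono (by rintro _ ⟨i, _⟩; exact i.elim0)
  | succ n ih =>
    intro R _ _ _ S _ _ _ _ s hs p _ q _ _
    let R' : Subalgebra R S := Algebra.adjoin R {s 0}
    haveI : FaithfulSMul R R' := by
      rw [faithfulSMul_iff_algebraMap_injective]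
      intro a b hab
      apply FaithfulSMul.algebraMap_injective R S
      have := congrArg (algebraMap R' S) hab
      rwa [← IsScalarTower.algebraMap_apply, ← IsScalarTower.algebraMap_apply] at this
    haveI : FaithfulSMul R' S := by
      rw [faithfulSMul_iff_algebraMap_injective]
      exact Subtype.val_injective
    haveI : Algebra.FiniteType R R' :=
      (Subalgebra.fg_iff_finiteType R').1 (by
        have := Subalgebra.fg_adjoin_finset (R := R) ({s 0} : Finset S)
        simpa using this)
    haveI : IsNoetherianRing R' := Algebra.FiniteType.isNoetherianRing R R'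
    -- the intermediate prime
    let p' : Ideal R' := q.under R'
    haveI : p'.IsPrime := inferInstance
    haveI : q.LiesOver p' := inferInstance
    haveI : p'.LiesOver p := Ideal.under_liesOver_of_liesOver R' q p
    -- bottom step: one generator
    have h1 : (p'.height : Cardinal.{u}) + Algebra.trdeg (R ⧸ p) (R' ⧸ p') ≤
        (p.height : Cardinal.{u}) + Algebra.trdeg R R' := by
      refine dimIneq_of_adjoin_singleton R R' p p' ⟨s 0, Algebra.subset_adjoin rfl⟩ ?_
      have hpre : ((↑) ⁻¹' ({s 0} : Set S) : Set (Algebra.adjoin R ({s 0} : Set S))) =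
          {⟨s 0, Algebra.subset_adjoin rfl⟩} := by
        ext ⟨y, hy⟩
        simp [Subtype.ext_iff]
      have := Algebra.adjoin_adjoin_coe_preimage (R := R) (s := ({s 0} : Set S))
      rw [hpre] at this
      exact this
    -- top step: `n` generators
    have h2 : (q.height : Cardinal.{u}) + Algebra.trdeg (R' ⧸ p') (S ⧸ q) ≤
        (p'.height : Cardinal.{u}) + Algebra.trdeg R' S := by
      refine ih R' S (fun i => s i.succ) ?_ p' q
      have hunion : Set.range s = {s 0} ∪ Set.range (fun i : Fin n => s i.succ) := by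
        ext y
        constructor
        · rintro ⟨i, rfl⟩
          refine Fin.cases ?_ (fun j => ?_) i
          · exact Or.inl rfl
          · exact Or.inr ⟨j, rfl⟩
        · rintro (h | ⟨j, rfl⟩)
          · exact ⟨0, h.symm⟩
          · exact ⟨j.succ, rfl⟩
      rw [hunion, Algebra.adjoin_union_eq_adjoin_adjoin] at hs
      apply Subalgebra.restrictScalars_injective R
      rw [hs, Subalgebra.restrictScalars_top]
    exact dimIneq_trans R R' S p p' q h1 h2

/-- **The dimension inequality** (Stacks 02IJ). -/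
theorem dimIneq (R : Type u) [CommRing R] [IsDomain R]
    [IsNoetherianRing R] (S : Type u) [CommRing S] [IsDomain S] [Algebra R S]
    [FaithfulSMul R S] [Algebra.FiniteType R S] (p : Ideal R) [p.IsPrime] (q : Ideal S) [q.IsPrime]
    [q.LiesOver p] :
    (q.height : Cardinal.{u}) + Algebra.trdeg (R ⧸ p) (S ⧸ q) ≤
      (p.height : Cardinal.{u}) + Algebra.trdeg R S := by
  obtain ⟨t, ht⟩ := (Algebra.FiniteType.out : (⊤ : Subalgebra R S).FG)
  refine dimIneq_of_adjoin_range t.card R S (fun i => (t.equivFin.symm i : S)) ?_ p q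
  convert ht using 2
  ext y
  constructor
  · rintro ⟨i, rfl⟩
    exact (t.equivFin.symm i).2
  · intro hy
    exact ⟨t.equivFin ⟨y, hy⟩, by simp⟩

end Groth.Agent.H1.DimIneq
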