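import Mathlib
import Groth.Agent.Lib.Helper1.DimIneqC

/-! # Dimension inequality, part D: general (non-domain) ring-level form. -/

set_option autoImplicit false
universe u

namespace Groth.Agent.H1.DimIneq

/-- `trdeg` only depends on the base ring up to isomorphism. -/
theorem trdeg_eq_of_ringEquiv_base {A A' B : Type u} [CommRing A] [CommRing A'] [CommRing B]
    [Algebra A B] [Algebra A' B] (e : A ≃+* A')
    (h : ∀ a, algebraMap A B a = algebraMap A' B (e a)) :
    Algebra.trdeg A B = Algebra.trdeg A' B := by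
  have key : ∀ s : Set B, AlgebraicIndepOn A' id s ↔ AlgebraicIndepOn A id s := by
    intro s
    have := algebraicIndependent_ringHom_iff_of_comp_eq (R := A) (S := A') (A := B) (B := B)
      (x := fun i : s => (i : B)) e (RingHom.id B) Function.injective_id (by
        ext a
        simp only [RingHom.comp_apply, RingHom.id_apply]
        exact (h a).symm)
    exact this
  unfold Algebra.trdeg
  apply le_antisymm
  · refine ciSup_le' fun s => ?_
    exact le_ciSup_of_le Cardinal.bddAbove_of_small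
      (⟨s.1, (key s.1).2 s.2⟩ : { s : Set B // AlgebraicIndepOn A' id s }) le_rfl
  · refine ciSup_le' fun s => ?_
    exact le_ciSup_of_le Cardinal.bddAbove_of_small
      (⟨s.1, (key s.1).1 s.2⟩ : { s : Set B // AlgebraicIndepOn A id s }) le_rfl

/-- **Lemma T**: `trdeg` is invariant under compatible ring isomorphisms. -/
theorem trdeg_eq_of_ringEquiv {A A' B B' : Type u} [CommRing A] [CommRing A'] [CommRing B]
    [CommRing B'] [Algebra A B] [Algebra A' B'] (e₁ : A ≃+* A') (e₂ : B ≃+* B')
    (h : ∀ a, e₂ (algebraMap A B a) = algebraMap A' B' (e₁ a)) :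
    Algebra.trdeg A B = Algebra.trdeg A' B' := by
  letI : Algebra A B' := ((algebraMap A' B').comp (e₁ : A →+* A')).toAlgebra
  let E : B ≃ₐ[A] B' := AlgEquiv.ofRingEquiv (f := e₂) (fun a => h a)
  rw [E.trdeg_eq]
  exact trdeg_eq_of_ringEquiv_base e₁ (fun a => rfl)

end Groth.Agent.H1.DimIneq

namespace Groth.Agent.H1.DimIneq

/-- In a ring where `q` has finite height, there is a minimal prime `q₀ ≤ q` such that the height
of `q / q₀` in `S / q₀` is the height of `q`. -/
theorem exists_minimalPrimes_height_map_eq {S : Type*} [CommRing S] (q : Ideal S) [q.IsPrime]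
    [q.FiniteHeight] :
    ∃ q₀ ∈ minimalPrimes S, q₀ ≤ q ∧ (q.map (Ideal.Quotient.mk q₀)).height = q.height := by
  obtain ⟨l, hlast, hlen⟩ := q.exists_ltSeries_length_eq_height
  have hheadle : l.head.asIdeal ≤ q := by
    have := LTSeries.head_le_last l
    rw [hlast] at this
    exact this
  -- the head is a minimal prime
  have hmin : l.head.asIdeal ∈ minimalPrimes S := by
    obtain ⟨m, hm, hmle⟩ := Ideal.exists_minimalPrimes_le (bot_le : (⊥ : Ideal S) ≤ l.head.asIdeal)
    by_cases heq : m = l.head.asIdeal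
    · rw [← heq]; exact hm
    · exfalso
      have hlt : (⟨m, hm.1.1⟩ : PrimeSpectrum S) < l.head := lt_of_le_of_ne hmle (by
        intro h; exact heq (congrArg PrimeSpectrum.asIdeal h))
      have h1 := Order.length_le_height_last (p := l.cons ⟨m, hm.1.1⟩ hlt)
      rw [RelSeries.last_cons, hlast, ← PrimeSpectrum.height_eq_orderHeight] at h1
      have h2 : (l.cons ⟨m, hm.1.1⟩ hlt).length = l.length + 1 := by simp [add_comm]
      rw [h2] at h1
      change ((l.length + 1 : ℕ) : ℕ∞) ≤ q.height at h1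
      rw [← hlen] at h1
      have h3 : (l.length + 1 : ℕ) ≤ l.length := by exact_mod_cast h1
      omega
  refine ⟨l.head.asIdeal, hmin, hheadle, le_antisymm ?_ ?_⟩
  · -- `ht (q/q₀) ≤ ht q`
    haveI : (RingHom.ker (Ideal.Quotient.mk l.head.asIdeal)).IsPrime := by
      rw [Ideal.mk_ker]; exact l.head.2
    haveI : (q.map (Ideal.Quotient.mk l.head.asIdeal)).IsPrime :=
      Ideal.map_isPrime_of_surjective Ideal.Quotient.mk_surjective (by rw [Ideal.mk_ker]; exact hheadle)
    have h := height_ker_add_height_le (Ideal.Quotient.mk l.head.asIdeal)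
      Ideal.Quotient.mk_surjective (q.map (Ideal.Quotient.mk l.head.asIdeal))
    rw [Ideal.comap_map_of_surjective _ Ideal.Quotient.mk_surjective, ← RingHom.ker_eq_comap_bot,
      Ideal.mk_ker, sup_eq_left.2 hheadle] at h
    exact le_trans le_add_self h
  · -- `ht q ≤ ht (q/q₀)`
    set q₀ := l.head.asIdeal with hq₀
    haveI : (q.map (Ideal.Quotient.mk q₀)).IsPrime :=
      Ideal.map_isPrime_of_surjective Ideal.Quotient.mk_surjective (by rw [Ideal.mk_ker]; exact hheadle)
    let e := q₀.primeSpectrumQuotientOrderIsoZeroLocus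
    -- the chain inside the zero locus
    have hmem : ∀ i, l i ∈ PrimeSpectrum.zeroLocus (q₀ : Set S) := by
      intro i
      rw [PrimeSpectrum.mem_zeroLocus]
      exact (LTSeries.head_le l i : l.head ≤ l i)
    let l' : LTSeries (PrimeSpectrum.zeroLocus (q₀ : Set S)) :=
      { length := l.length
        toFun := fun i => ⟨l i, hmem i⟩
        step := fun i => l.step i }
    have hl'last : l'.last = e ⟨q.map (Ideal.Quotient.mk q₀), inferInstance⟩ := by
      apply Subtype.ext
      apply PrimeSpectrum.ext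
      change (l.last).asIdeal = (q.map (Ideal.Quotient.mk q₀)).comap (Ideal.Quotient.mk q₀)
      rw [hlast, Ideal.comap_map_of_surjective _ Ideal.Quotient.mk_surjective,
        ← RingHom.ker_eq_comap_bot, Ideal.mk_ker, sup_eq_left.2 hheadle]
    have h1 := Order.length_le_height_last (p := l')
    rw [hl'last, Order.height_orderIso, ← PrimeSpectrum.height_eq_orderHeight] at h1
    rw [← hlen]
    exact h1

end Groth.Agent.H1.DimIneq

namespace Groth.Agent.H1.DimIneq

section Relative

variable (R S : Type u) [CommRing R] [IsNoetherianRing R] [CommRing S] [Algebra R S]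
  [Algebra.FiniteType R S]
  (p₀ p : Ideal R) [p₀.IsPrime] [p.IsPrime] (q₀ q : Ideal S) [q₀.IsPrime] [q.IsPrime]
  [q₀.LiesOver p₀] [q.LiesOver p]

include R S p₀ p q₀ q in
/-- **The dimension inequality, relative form**: for primes `q₀ ≤ q` of a finite type algebra `S`
over a Noetherian ring `R`, lying over `p₀ ≤ p`:
`ht(q/q₀) + trdeg_{R/p}(S/q) ≤ ht(p/p₀) + trdeg_{R/p₀}(S/q₀)`. -/
theorem dimIneq_relative (hq : q₀ ≤ q) :
    ((q.map (Ideal.Quotient.mk q₀)).height : Cardinal.{u}) + Algebra.trdeg (R ⧸ p) (S ⧸ q) ≤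
      ((p.map (Ideal.Quotient.mk p₀)).height : Cardinal.{u}) +
        Algebra.trdeg (R ⧸ p₀) (S ⧸ q₀) := by
  have hp : p₀ ≤ p := by
    rw [Ideal.over_def q₀ p₀, Ideal.over_def q p]
    exact Ideal.comap_mono hq
  haveI : Algebra.FiniteType R (S ⧸ q₀) :=
    Algebra.FiniteType.of_surjective (Ideal.Quotient.mkₐ R q₀) (Ideal.Quotient.mkₐ_surjective R q₀)
  haveI : Algebra.FiniteType (R ⧸ p₀) (S ⧸ q₀) :=
    Algebra.FiniteType.of_restrictScalars_finiteType R (R ⧸ p₀) (S ⧸ q₀)
  haveI hp' : (p.map (Ideal.Quotient.mk p₀)).IsPrime :=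
    Ideal.map_isPrime_of_surjective Ideal.Quotient.mk_surjective (by rw [Ideal.mk_ker]; exact hp)
  haveI hq' : (q.map (Ideal.Quotient.mk q₀)).IsPrime :=
    Ideal.map_isPrime_of_surjective Ideal.Quotient.mk_surjective (by rw [Ideal.mk_ker]; exact hq)
  haveI : (q.map (Ideal.Quotient.mk q₀)).LiesOver (p.map (Ideal.Quotient.mk p₀)) := by
    refine ⟨?_⟩
    ext d
    obtain ⟨r, rfl⟩ := Ideal.Quotient.mk_surjective d
    rw [Ideal.mem_quotient_iff_mem hp, Ideal.under_def, Ideal.mem_comap,
      Ideal.Quotient.algebraMap_mk_of_liesOver, Ideal.mem_quotient_iff_mem hq]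
    exact Ideal.mem_of_liesOver q p r
  have key := dimIneq (R ⧸ p₀) (S ⧸ q₀) (p.map (Ideal.Quotient.mk p₀))
    (q.map (Ideal.Quotient.mk q₀))
  have hT : Algebra.trdeg ((R ⧸ p₀) ⧸ p.map (Ideal.Quotient.mk p₀))
      ((S ⧸ q₀) ⧸ q.map (Ideal.Quotient.mk q₀)) = Algebra.trdeg (R ⧸ p) (S ⧸ q) := by
    refine trdeg_eq_of_ringEquiv (DoubleQuot.quotQuotEquivQuotOfLE hp)
      (DoubleQuot.quotQuotEquivQuotOfLE hq) ?_
    intro a
    obtain ⟨a, rfl⟩ := Ideal.Quotient.mk_surjective a
    obtain ⟨r, rfl⟩ := Ideal.Quotient.mk_surjective a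
    rfl
  rw [hT] at key
  exact key

end Relative

end Groth.Agent.H1.DimIneq

namespace Groth.Agent.H1.DimIneq

theorem height_map_mk_le {R : Type*} [CommRing R] (p₀ p : Ideal R) [p₀.IsPrime] [p.IsPrime]
    (hp : p₀ ≤ p) : (p.map (Ideal.Quotient.mk p₀)).height ≤ p.height := by
  haveI : (RingHom.ker (Ideal.Quotient.mk p₀)).IsPrime := by
    rw [Ideal.mk_ker]; infer_instance
  haveI : (p.map (Ideal.Quotient.mk p₀)).IsPrime :=
    Ideal.map_isPrime_of_surjective Ideal.Quotient.mk_surjective (by rw [Ideal.mk_ker]; exact hp)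
  have h := height_ker_add_height_le (Ideal.Quotient.mk p₀)
    Ideal.Quotient.mk_surjective (p.map (Ideal.Quotient.mk p₀))
  rw [Ideal.comap_map_of_surjective _ Ideal.Quotient.mk_surjective, ← RingHom.ker_eq_comap_bot,
    Ideal.mk_ker, sup_eq_left.2 hp] at h
  exact le_trans le_add_self h

/-- **The dimension inequality, absolute form with a bound on the generic transcendence degrees.** -/
theorem dimIneq_of_forall_minimalPrimes (R S : Type u) [CommRing R] [IsNoetherianRing R]
    [CommRing S] [Algebra R S] [Algebra.FiniteType R S] (p : Ideal R) [p.IsPrime] (q : Ideal S)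
    [q.IsPrime] [q.LiesOver p] (E : Cardinal.{u})
    (hE : ∀ (q₀ : Ideal S) [q₀.IsPrime], q₀ ∈ minimalPrimes S → q₀ ≤ q →
      Algebra.trdeg (R ⧸ q₀.under R) (S ⧸ q₀) ≤ E) :
    (q.height : Cardinal.{u}) + Algebra.trdeg (R ⧸ p) (S ⧸ q) ≤ (p.height : Cardinal.{u}) + E := by
  haveI : IsNoetherianRing S := Algebra.FiniteType.isNoetherianRing R S
  obtain ⟨q₀, hmin, hq, hht⟩ := exists_minimalPrimes_height_map_eq q
  haveI : q₀.IsPrime := hmin.1.1
  have hp : q₀.under R ≤ p := by
    rw [Ideal.over_def q p]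
    exact Ideal.comap_mono hq
  have key := dimIneq_relative R S (q₀.under R) p q₀ q hq
  rw [hht] at key
  refine key.trans (add_le_add ?_ (hE q₀ hmin hq))
  exact Cardinal.ofENat_le_ofENat.2 (height_map_mk_le (q₀.under R) p hp)

end Groth.Agent.H1.DimIneq
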