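import Mathlib
import Groth.Agent.Lib.Helper1.DimIneqD
import Groth.Agent.Lib.Helper1.GenFin
import Groth.Agent.Lib.Helper1.FibDimCons
import Groth.Agent.Lib.Helper1.AlgSpDim

/-! # Dimension inequality, part E: residue transcendence degrees on affine opens. -/

set_option autoImplicit false
universe u
open CategoryTheory AlgebraicGeometry

namespace Groth.Agent.H1.DimIneq

/-- **Lemma F**: the transcendence degree of an extension of domains is that of the fraction
fields. -/
theorem trdeg_eq_of_isFractionRing (A B K L : Type u) [CommRing A] [IsDomain A] [CommRing B]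
    [IsDomain B] [Field K] [Field L] [Algebra A B] [Algebra A K] [Algebra B L] [Algebra K L]
    [Algebra A L] [IsScalarTower A B L] [IsScalarTower A K L] [IsFractionRing A K]
    [IsFractionRing B L] [FaithfulSMul A B] :
    Algebra.trdeg K L = Algebra.trdeg A B := by
  haveI : Algebra.IsAlgebraic A K := IsLocalization.isAlgebraic K (nonZeroDivisors A)
  haveI : Algebra.IsAlgebraic B L := IsLocalization.isAlgebraic L (nonZeroDivisors B)
  haveI : FaithfulSMul A K := (faithfulSMul_iff_algebraMap_injective A K).2 (IsFractionRing.injective A K)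
  haveI : FaithfulSMul B L := (faithfulSMul_iff_algebraMap_injective B L).2 (IsFractionRing.injective B L)
  have e1 : Algebra.trdeg A B + Algebra.trdeg B L = Algebra.trdeg A L := trdeg_add_eq A B (A := L)
  have e2 : Algebra.trdeg A K + Algebra.trdeg K L = Algebra.trdeg A L := trdeg_add_eq A K (A := L)
  rw [trdeg_eq_zero (R := B) (A := L), add_zero] at e1
  rw [trdeg_eq_zero (R := A) (A := K), zero_add] at e2
  rw [e1, e2]

variable {X Y : Scheme.{u}}

/-- the algebra structure `Γ(X, U) ⧸ q → κ(x)` for a point `x` of an affine open `U`. -/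
noncomputable def quotEvalAlgebra {U : X.Opens} (hU : IsAffineOpen U) (x : X) (hx : x ∈ U) :
    Algebra (Γ(X, U) ⧸ (hU.primeIdealOf ⟨x, hx⟩).asIdeal) (X.residueField x) :=
  (Ideal.Quotient.lift (hU.primeIdealOf ⟨x, hx⟩).asIdeal (X.evaluation U x hx).hom (fun a ha => by
    rw [← Groth.Agent.H1.FibDim.ker_evaluation hU x hx] at ha; exact ha)).toAlgebra

theorem quotEvalAlgebra_mk {U : X.Opens} (hU : IsAffineOpen U) (x : X) (hx : x ∈ U) (a : Γ(X, U)) :
    letI := quotEvalAlgebra hU x hx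
    algebraMap (Γ(X, U) ⧸ (hU.primeIdealOf ⟨x, hx⟩).asIdeal) (X.residueField x)
      (Ideal.Quotient.mk _ a) = (X.evaluation U x hx).hom a := rfl

theorem isFractionRing_quotEval {U : X.Opens} (hU : IsAffineOpen U) (x : X) (hx : x ∈ U) :
    letI := quotEvalAlgebra hU x hx
    IsFractionRing (Γ(X, U) ⧸ (hU.primeIdealOf ⟨x, hx⟩).asIdeal) (X.residueField x) := by
  letI := quotEvalAlgebra hU x hx
  have hker := Groth.Agent.H1.FibDim.ker_evaluation hU x hx
  have hinj : ∀ a : Γ(X, U) ⧸ (hU.primeIdealOf ⟨x, hx⟩).asIdeal,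
      algebraMap (Γ(X, U) ⧸ (hU.primeIdealOf ⟨x, hx⟩).asIdeal) (X.residueField x) a = 0 → a = 0 := by
    intro a ha
    obtain ⟨a, rfl⟩ := Ideal.Quotient.mk_surjective a
    rw [quotEvalAlgebra_mk] at ha
    rw [Ideal.Quotient.eq_zero_iff_mem, ← hker]
    exact ha
  exact
    { map_units := by
        rintro ⟨b, hb⟩
        have : b ≠ 0 := nonZeroDivisors.ne_zero hb
        exact IsUnit.mk0 _ (fun h => this (hinj b h))
      surj := by
        intro c
        obtain ⟨a, b, hb, hab⟩ := Groth.Agent.H1.GenFin.exists_frac_evaluation hU x hx c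
        refine ⟨⟨Ideal.Quotient.mk _ a, ⟨Ideal.Quotient.mk _ b,
          mem_nonZeroDivisors_of_ne_zero (fun h => hb ?_)⟩⟩, ?_⟩
        · have := congrArg (algebraMap (Γ(X, U) ⧸ (hU.primeIdealOf ⟨x, hx⟩).asIdeal)
            (X.residueField x)) h
          rw [quotEvalAlgebra_mk, map_zero] at this
          exact this
        · exact hab
      exists_of_eq := by
        intro a b hab
        refine ⟨1, ?_⟩
        have := hinj (a - b) (by rw [map_sub, sub_eq_zero]; exact hab)
        rw [sub_eq_zero.mp this] }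

end Groth.Agent.H1.DimIneq

namespace Groth.Agent.H1.DimIneq

variable {X Y : Scheme.{u}}

theorem liesOver_primeIdealOf (f : X ⟶ Y) {U : X.Opens} {V : Y.Opens} (hU : IsAffineOpen U)
    (hV : IsAffineOpen V) (e : U ≤ f ⁻¹ᵁ V) (x : X) (hx : x ∈ U) :
    letI := (f.appLE V U e).hom.toAlgebra
    (hU.primeIdealOf ⟨x, hx⟩).asIdeal.LiesOver (hV.primeIdealOf ⟨f x, e hx⟩).asIdeal := by
  letI := (f.appLE V U e).hom.toAlgebra
  refine ⟨?_⟩
  ext r
  rw [Ideal.under_def, Ideal.mem_comap, ← Groth.Agent.H1.FibDim.ker_evaluation hV (f x) (e hx),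
    ← Groth.Agent.H1.FibDim.ker_evaluation hU x hx, RingHom.mem_ker, RingHom.mem_ker]
  have h := congr($(Groth.Agent.H1.GenFin.evaluation_appLE f U V e x hx) r)
  change (X.evaluation U x hx).hom ((f.appLE V U e).hom r) =
    (f.residueFieldMap x).hom ((Y.evaluation V (f x) (e hx)).hom r) at h
  change _ ↔ (X.evaluation U x hx).hom ((f.appLE V U e).hom r) = 0
  rw [h]
  constructor
  · intro h0; rw [h0, map_zero]
  · intro h0
    exact (f.residueFieldMap x).hom.injective (by rw [h0, map_zero])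

/-- **Key identification**: on affine opens, the residue transcendence degree of `f` at `x` is
the transcendence degree of `Γ(X, U)/q` over `Γ(Y, V)/p`. -/
theorem resTrdeg_eq_trdeg_quotient (f : X ⟶ Y) {U : X.Opens} {V : Y.Opens} (hU : IsAffineOpen U)
    (hV : IsAffineOpen V) (e : U ≤ f ⁻¹ᵁ V) (x : X) (hx : x ∈ U) :
    letI := (f.appLE V U e).hom.toAlgebra
    letI := liesOver_primeIdealOf f hU hV e x hx
    Dual3.resTrdeg f x = Algebra.trdeg (Γ(Y, V) ⧸ (hV.primeIdealOf ⟨f x, e hx⟩).asIdeal)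
      (Γ(X, U) ⧸ (hU.primeIdealOf ⟨x, hx⟩).asIdeal) := by
  letI algRS := (f.appLE V U e).hom.toAlgebra
  letI hlo := liesOver_primeIdealOf f hU hV e x hx
  letI algAK := quotEvalAlgebra hV (f x) (e hx)
  letI algBL := quotEvalAlgebra hU x hx
  letI algKL : Algebra (Y.residueField (f x)) (X.residueField x) :=
    (f.residueFieldMap x).hom.toAlgebra
  letI algAL : Algebra (Γ(Y, V) ⧸ (hV.primeIdealOf ⟨f x, e hx⟩).asIdeal) (X.residueField x) :=
    ((algebraMap (Y.residueField (f x)) (X.residueField x)).comp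
      (algebraMap (Γ(Y, V) ⧸ (hV.primeIdealOf ⟨f x, e hx⟩).asIdeal) (Y.residueField (f x)))).toAlgebra
  haveI : IsScalarTower (Γ(Y, V) ⧸ (hV.primeIdealOf ⟨f x, e hx⟩).asIdeal) (Y.residueField (f x))
      (X.residueField x) := .of_algebraMap_eq (fun _ => rfl)
  haveI : IsScalarTower (Γ(Y, V) ⧸ (hV.primeIdealOf ⟨f x, e hx⟩).asIdeal)
      (Γ(X, U) ⧸ (hU.primeIdealOf ⟨x, hx⟩).asIdeal) (X.residueField x) := by
    refine .of_algebraMap_eq (fun a => ?_)
    obtain ⟨r, rfl⟩ := Ideal.Quotient.mk_surjective a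
    have h := congr($(Groth.Agent.H1.GenFin.evaluation_appLE f U V e x hx) r)
    change (f.residueFieldMap x).hom ((Y.evaluation V (f x) (e hx)).hom r) =
      (X.evaluation U x hx).hom ((f.appLE V U e).hom r)
    exact h.symm
  haveI := isFractionRing_quotEval hV (f x) (e hx)
  haveI := isFractionRing_quotEval hU x hx
  exact trdeg_eq_of_isFractionRing (Γ(Y, V) ⧸ (hV.primeIdealOf ⟨f x, e hx⟩).asIdeal)
    (Γ(X, U) ⧸ (hU.primeIdealOf ⟨x, hx⟩).asIdeal) (Y.residueField (f x)) (X.residueField x)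

end Groth.Agent.H1.DimIneq

namespace Groth.Agent.H1.DimIneq

variable {X Y : Scheme.{u}}

theorem trdeg_quotient_congr {R S : Type u} [CommRing R] [CommRing S] [Algebra R S]
    {p p' : Ideal R} {q q' : Ideal S} [q.LiesOver p] [q'.LiesOver p'] (hp : p = p') (hq : q = q') :
    Algebra.trdeg (R ⧸ p) (S ⧸ q) = Algebra.trdeg (R ⧸ p') (S ⧸ q') := by
  subst hp
  subst hq
  rfl

theorem ringKrullDim_stalk_eq_height {U : X.Opens} (hU : IsAffineOpen U) (x : X) (hx : x ∈ U) :
    ringKrullDim (X.presheaf.stalk x) = ((hU.primeIdealOf ⟨x, hx⟩).asIdeal.height : WithBot ℕ∞) := by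
  letI := X.presheaf.algebra_section_stalk ⟨x, hx⟩
  haveI := hU.isLocalization_stalk ⟨x, hx⟩
  exact IsLocalization.AtPrime.ringKrullDim_eq_height (hU.primeIdealOf ⟨x, hx⟩).asIdeal
    (X.presheaf.stalk x)

theorem primeIdealOf_fromSpec {U : X.Opens} (hU : IsAffineOpen U) (P : Spec Γ(X, U))
    (h : hU.fromSpec P ∈ U) : hU.primeIdealOf ⟨hU.fromSpec P, h⟩ = P := by
  apply hU.fromSpec.isOpenEmbedding.injective
  rw [hU.fromSpec_primeIdealOf]

/-- **The dimension inequality for schemes** (Stacks 02JU): for `f : X ⟶ Y` locally of finite type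
with `Y` locally Noetherian, `dim O_{X,x} + trdeg κ(x)/κ(f x) ≤ dim O_{Y,f x} + E` where `E` bounds
the residue transcendence degrees at the generic points of the irreducible components through `x`. -/
theorem stalk_dim_add_resTrdeg_le (f : X ⟶ Y) [LocallyOfFiniteType f] [IsLocallyNoetherian Y]
    (x : X) (E : Cardinal.{u})
    (hE : ∀ ξ : X, ξ ⤳ x → ringKrullDim (X.presheaf.stalk ξ) = 0 → Dual3.resTrdeg f ξ ≤ E) :
    ringKrullDim (X.presheaf.stalk x) +
        ((Cardinal.toENat (Dual3.resTrdeg f x) : ℕ∞) : WithBot ℕ∞) ≤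
      ringKrullDim (Y.presheaf.stalk (f x)) + ((Cardinal.toENat E : ℕ∞) : WithBot ℕ∞) := by
  obtain ⟨V, hV, hfxV⟩ : ∃ V : Y.Opens, IsAffineOpen V ∧ f x ∈ V := by
    obtain ⟨_, ⟨V, hV, rfl⟩, hz, -⟩ :=
      Y.isBasis_affineOpens.exists_subset_of_mem_open (Set.mem_univ (f x)) isOpen_univ
    exact ⟨V, hV, hz⟩
  obtain ⟨U, hU, hxU, hUV⟩ := exists_isAffineOpen_mem_and_subset (x := x) (U := f ⁻¹ᵁ V) hfxV
  have e : U ≤ f ⁻¹ᵁ V := hUV
  letI algRS := (f.appLE V U e).hom.toAlgebra
  haveI : IsNoetherianRing Γ(Y, V) := IsLocallyNoetherian.component_noetherian ⟨V, hV⟩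
  haveI : Algebra.FiniteType Γ(Y, V) Γ(X, U) := f.finiteType_appLE hV hU e
  letI hlo := liesOver_primeIdealOf f hU hV e x hxU
  have hKI := resTrdeg_eq_trdeg_quotient f hU hV e x hxU
  have hRDI := dimIneq_of_forall_minimalPrimes Γ(Y, V) Γ(X, U)
    (hV.primeIdealOf ⟨f x, e hxU⟩).asIdeal (hU.primeIdealOf ⟨x, hxU⟩).asIdeal E (by
      intro q₀ _ hmin hle
      set P : Spec Γ(X, U) := ⟨q₀, inferInstance⟩ with hP
      have hξU : hU.fromSpec P ∈ U := by
        rw [← SetLike.mem_coe, ← hU.range_fromSpec]; exact ⟨P, rfl⟩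
      have hprime := primeIdealOf_fromSpec hU P hξU
      have hspec : hU.fromSpec P ⤳ x := by
        have h1 : P ⤳ hU.primeIdealOf ⟨x, hxU⟩ :=
          (PrimeSpectrum.le_iff_specializes (R := Γ(X, U)) P (hU.primeIdealOf ⟨x, hxU⟩)).1 hle
        have := h1.map hU.fromSpec.continuous
        rwa [hU.fromSpec_primeIdealOf] at this
      have hdim : ringKrullDim (X.presheaf.stalk (hU.fromSpec P)) = 0 := by
        rw [ringKrullDim_stalk_eq_height hU _ hξU, hprime]
        have : q₀.height = 0 := Ideal.height_eq_zero_iff.2 hmin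
        change ((q₀.height : ℕ∞) : WithBot ℕ∞) = 0
        rw [this]; rfl
      have h1 := hE _ hspec hdim
      letI hlo' := liesOver_primeIdealOf f hU hV e (hU.fromSpec P) hξU
      rw [resTrdeg_eq_trdeg_quotient f hU hV e (hU.fromSpec P) hξU] at h1
      have hq : (hU.primeIdealOf ⟨hU.fromSpec P, hξU⟩).asIdeal = q₀ := by rw [hprime]
      have hp : (hV.primeIdealOf ⟨f (hU.fromSpec P), e hξU⟩).asIdeal = q₀.under Γ(Y, V) := by
        rw [Ideal.over_def (hU.primeIdealOf ⟨hU.fromSpec P, hξU⟩).asIdeal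
          (hV.primeIdealOf ⟨f (hU.fromSpec P), e hξU⟩).asIdeal, hq]
      rwa [trdeg_quotient_congr hp hq] at h1)
  rw [← hKI] at hRDI
  rw [ringKrullDim_stalk_eq_height hU x hxU, ringKrullDim_stalk_eq_height hV (f x) (e hxU)]
  have h2 : Cardinal.toENat (((hU.primeIdealOf ⟨x, hxU⟩).asIdeal.height : Cardinal.{u}) +
      Dual3.resTrdeg f x) ≤ Cardinal.toENat (((hV.primeIdealOf ⟨f x, e hxU⟩).asIdeal.height :
      Cardinal.{u}) + E) := Cardinal.toENat.monotone' hRDI
  rw [map_add, map_add, Cardinal.toENat_ofENat, Cardinal.toENat_ofENat] at h2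
  exact_mod_cast h2

end Groth.Agent.H1.DimIneq
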