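import Mathlib
import Groth.Agent.Lib.Helper1.DimIneqE
import Groth.Agent.Lib.Helper1.Chev4
import Groth.Agent.Lib.Helper1.DimFormula2

/-! # Dimension inequality, part F: consequences for fibre dimensions. -/

set_option autoImplicit false
universe u
open CategoryTheory AlgebraicGeometry

namespace Groth.Agent.H1.DimIneq

variable {X Y : Scheme.{u}}

/-- a point whose local ring has dimension zero has no proper generization. -/
theorem eq_of_specializes_of_stalk_dim_eq_zero (z z' : X)
    (hz : ringKrullDim (X.presheaf.stalk z) = 0) (h : z' ⤳ z) : z' = z := by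
  letI := specializationOrder X
  rw [ringKrullDim_stalk_eq_coheight] at hz
  have h0 : Order.coheight z = 0 := by exact_mod_cast hz
  have hmax : IsMax z := Order.coheight_eq_zero.1 h0
  have hle : z ≤ z' := h
  exact le_antisymm (hmax hle) hle

theorem withBot_enat_add_le_add_left_cancel {a b c : WithBot ℕ∞} (ha0 : a ≠ ⊥) (ha : a ≠ ⊤)
    (h : a + b ≤ a + c) : b ≤ c := by
  induction a with
  | bot => exact absurd rfl ha0
  | coe a =>
    induction a with
    | top => exact absurd rfl ha
    | coe n =>
      induction b with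
      | bot => exact bot_le
      | coe b =>
        induction c with
        | bot =>
          exfalso
          rw [WithBot.add_bot] at h
          exact absurd h (by simp [← WithBot.coe_add])
        | coe c =>
          have h' : ((n : ℕ∞) + b) ≤ (n : ℕ∞) + c := by exact_mod_cast h
          have : b ≤ c := (ENat.add_le_add_iff_left (ENat.coe_ne_top n)).1 h'
          exact_mod_cast this

end Groth.Agent.H1.DimIneq

namespace Groth.Agent.H1.DimIneq

variable {X Y : Scheme.{u}}

theorem toENat_resTrdeg_of_eq_natCast (f : X ⟶ Y) (x : X) (t : ℕ)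
    (ht : @Algebra.trdeg (Y.residueField (f x)) (X.residueField x) _ _
        (f.residueFieldMap x).hom.toAlgebra = t) :
    Cardinal.toENat (Dual3.resTrdeg f x) = t := by
  unfold Dual3.resTrdeg
  rw [ht]
  simp

/-- **EGA IV 13.3.? / 14.2.?**: if `dim O_{X,x} = dim O_{Y,y} + dim O_{X_y,x}` then the fibre
dimension at `x` is at most the fibre dimension at the generic point. -/
theorem fibreDimAt_le_generic_of_stalk_dim_eq [IrreducibleSpace X] [IsLocallyNoetherian Y]
    (f : X ⟶ Y) [LocallyOfFiniteType f] (x : X)
    (h : ringKrullDim (X.presheaf.stalk x) = ringKrullDim (Y.presheaf.stalk (f x)) +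
      ringKrullDim ((f.fiber (f x)).presheaf.stalk (f.asFiber x))) :
    FlatMor.fibreDimAt f x ≤ FlatMor.fibreDimAt f (genericPoint X) := by
  obtain ⟨t, ht, hdim⟩ := Groth.Agent.H1.DimFormula.exists_fibreDimAt_eq_stalk_add_trdeg f x
  obtain ⟨tξ, htξ, hdimξ⟩ := Groth.Agent.H1.DimFormula.fibreDimAt_eq_trdeg_of_generic f
    (genericPoint X) (fun x' _ hx' => (hx'.antisymm (genericPoint_specializes x')).eq)
  have key := stalk_dim_add_resTrdeg_le f x (Dual3.resTrdeg f (genericPoint X)) (by
    intro ξ' _ hz
    rw [← eq_of_specializes_of_stalk_dim_eq_zero ξ' (genericPoint X) hz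
      (genericPoint_specializes ξ')])
  rw [toENat_resTrdeg_of_eq_natCast f x t ht,
    toENat_resTrdeg_of_eq_natCast f (genericPoint X) tξ htξ, h, add_assoc] at key
  have hfin : ringKrullDim (Y.presheaf.stalk (f x)) ≠ ⊤ := ringKrullDim_ne_top
  have hbot : ringKrullDim (Y.presheaf.stalk (f x)) ≠ ⊥ := ringKrullDim_ne_bot
  have := withBot_enat_add_le_add_left_cancel hbot hfin key
  rw [hdim, hdimξ]
  exact this

end Groth.Agent.H1.DimIneq
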