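import Mathlib
import Groth.Agent.Lib.Helper5.Catenary
import Groth.Agent.Lib.Helper6.Catenary
import Groth.Agent.Lib.Helper1.DimIneqA

/-! # Dimension formula (equality), part A: heights in catenary orders with a bottom element. -/

set_option autoImplicit false
universe u
open Polynomial

namespace Groth.Agent.H1.DimEq

open Groth.Agent.H5 Groth.Agent.H6

section Order

variable {α : Type*} [PartialOrder α] [OrderBot α]

/-- In a catenary order with a bottom element, heights go up by one along covering relations. -/
theorem height_eq_add_one_of_covBy (h : OrderCatenary α) {x y : α} (hxy : x ⋖ y)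
    (hy : Order.height y ≠ ⊤) : Order.height y = Order.height x + 1 := by
  have hx : Order.height x ≠ ⊤ := ne_top_of_le_ne_top hy (Order.height_mono hxy.le)
  obtain ⟨n, hn⟩ := ENat.ne_top_iff_exists.mp hx
  obtain ⟨m, hm⟩ := ENat.ne_top_iff_exists.mp hy
  obtain ⟨s1, hs1l, hs1len, hs1min, hs1sat⟩ := Cat.exists_saturated_height x hn.symm
  obtain ⟨s3, hs3l, hs3len, hs3min, hs3sat⟩ := Cat.exists_saturated_height y hm.symm
  have hrel : s1.last < y := by rw [hs1l]; exact hxy.lt
  let s : LTSeries α := s1.snoc y hrel
  have hsat' : ∀ i : Fin (s1.length + 1),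
      (s1.snoc y hrel).toFun (Fin.castSucc i) ⋖ (s1.snoc y hrel).toFun (Fin.succ i) := by
    intro i
    induction i using Fin.lastCases with
    | last =>
      have e1 : (s1.snoc y hrel).toFun (Fin.castSucc (Fin.last s1.length)) = s1.last :=
        RelSeries.snoc_castSucc s1 y hrel (Fin.last s1.length)
      have e2 : (s1.snoc y hrel).toFun (Fin.succ (Fin.last s1.length)) = y :=
        RelSeries.last_snoc' s1 y hrel
      rw [e1, e2, hs1l]
      exact hxy
    | cast j =>
      have e1 : (s1.snoc y hrel).toFun (Fin.castSucc (Fin.castSucc j)) = s1 (Fin.castSucc j) :=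
        RelSeries.snoc_castSucc s1 y hrel (Fin.castSucc j)
      have e2 : (s1.snoc y hrel).toFun (Fin.succ (Fin.castSucc j)) = s1 (Fin.succ j) :=
        RelSeries.snoc_castSucc s1 y hrel (Fin.succ j)
      have h3 := hs1sat j
      rw [← e1, ← e2] at h3
      exact h3
  have hsat : ∀ i : Fin s.length, s i.castSucc ⋖ s i.succ := hsat'
  have hhead : s.head = s3.head := by
    rw [RelSeries.head_snoc, isMin_iff_eq_bot.1 hs1min, isMin_iff_eq_bot.1 hs3min]
  have hlast : s.last = s3.last := by
    rw [RelSeries.last_snoc, hs3l]
  have hlen := h.2 s s3 hhead hlast hsat hs3sat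
  have h1 : s1.length + 1 = s3.length := hlen
  rw [← hn, ← hm, ← hs1len, ← hs3len, ← h1]
  push_cast
  rfl

/-- heights along a saturated chain in a catenary order with bottom -/
theorem height_last_eq (h : OrderCatenary α) (s : LTSeries α)
    (hsat : ∀ i : Fin s.length, s i.castSucc ⋖ s i.succ) (hl : Order.height s.last ≠ ⊤) :
    Order.height s.last = Order.height s.head + s.length := by
  have hind : ∀ (i : ℕ) (hi : i < s.length + 1),
      Order.height (s ⟨i, hi⟩) = Order.height s.head + i := by
    intro i
    induction i with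
    | zero =>
      intro hi
      rw [Nat.cast_zero, add_zero]
      rfl
    | succ n ih =>
      intro hi
      have hn : n < s.length := by omega
      have hfin : Order.height (s ⟨n + 1, hi⟩) ≠ ⊤ :=
        ne_top_of_le_ne_top hl (Order.height_mono (LTSeries.monotone s (Fin.le_last _)))
      have h1 := height_eq_add_one_of_covBy h (hsat ⟨n, hn⟩) hfin
      have e1 : s (Fin.castSucc ⟨n, hn⟩) = s ⟨n, by omega⟩ := rfl
      have e2 : s (Fin.succ ⟨n, hn⟩) = s ⟨n + 1, hi⟩ := rfl
      rw [e1, e2] at h1
      rw [h1, ih (by omega)]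
      push_cast
      ring
  exact hind s.length (by omega)

/-- In a catenary order with bottom, for an order embedding `g` onto `Set.Ici a`:
`ht a + ht y = ht (g y)`. -/
theorem height_add_eq_of_range_eq_Ici {β : Type*} [PartialOrder β] (h : OrderCatenary α)
    (g : β ↪o α) (a : α) (hg : Set.range g = Set.Ici a) (y : β)
    (hy : Order.height (g y) ≠ ⊤) :
    Order.height a + Order.height y = Order.height (g y) := by
  have hy' : Order.height y ≠ ⊤ :=
    ne_top_of_le_ne_top hy (Order.height_le_height_apply_of_strictMono g g.strictMono y)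
  obtain ⟨m, hm⟩ := ENat.ne_top_iff_exists.mp hy'
  obtain ⟨s2, hs2l, hs2len, hs2min, hs2sat⟩ := Cat.exists_saturated_height y hm.symm
  have hconn : (Set.range g).OrdConnected := by
    rw [hg]; exact Set.ordConnected_Ici
  obtain ⟨a', ha'⟩ : a ∈ Set.range g := by rw [hg]; exact Set.mem_Ici.2 le_rfl
  have hhead : g s2.head = a := by
    have h1 : a ≤ g s2.head := by
      have : g s2.head ∈ Set.Ici a := by rw [← hg]; exact ⟨_, rfl⟩
      exact this
    have h2 : a' ≤ s2.head := by
      rw [← g.le_iff_le, ha']; exact h1
    have h3 : s2.head ≤ a' := hs2min h2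
    rw [← ha']
    exact congrArg g (le_antisymm h3 h2)
  let s : LTSeries α := s2.map g g.strictMono
  have hsat : ∀ i : Fin s.length, s i.castSucc ⋖ s i.succ := by
    intro i
    exact (hconn.apply_covBy_apply_iff g).mpr (hs2sat i)
  have hlast : s.last = g y := by
    rw [LTSeries.last_map, hs2l]
  have hhead' : s.head = a := by
    rw [LTSeries.head_map, hhead]
  have := height_last_eq h s hsat (by rw [hlast]; exact hy)
  rw [hlast, hhead'] at this
  rw [this, ← hm]
  congr 1
  have : s.length = m := hs2len
  rw [this]

end Order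

end Groth.Agent.H1.DimEq
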