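import Mathlib
import Groth.Agent.Lib.Helper1.DimEqA
import Groth.Agent.Lib.Helper1.DimIneqC

/-! # Dimension formula (equality), part B: heights along surjections from catenary domains,
the one generator case, transitivity and induction. -/

set_option autoImplicit false
set_option linter.style.haveILetI false
universe u
open Polynomial

namespace Groth.Agent.H1.DimEq

open Groth.Agent.H5 Groth.Agent.H6 Groth.Agent.H1.DimIneq

/-- For a surjection `φ : A → B` from a catenary domain with prime kernel and a prime `q` of `B`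
whose preimage has finite height: `ht (ker φ) + ht q = ht (φ⁻¹ q)`. -/
theorem height_ker_add_height_eq {A : Type u} {B : Type*} [CommRing A] [IsDomain A] [CommRing B]
    (hA : CAlg.IsCatenary A) (φ : A →+* B)
    (hφ : Function.Surjective φ) [hk : (RingHom.ker φ).IsPrime] (q : Ideal B) [q.IsPrime]
    (hfin : (q.comap φ).height ≠ ⊤) :
    (RingHom.ker φ).height + q.height = (q.comap φ).height := by
  rw [isCatenary_iff_orderCatenary] at hA
  let g : PrimeSpectrum B ↪o PrimeSpectrum A :=
    OrderEmbedding.ofMapLEIff (PrimeSpectrum.comap φ) (fun a b =>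
      Ideal.comap_le_comap_iff_of_surjective φ hφ a.asIdeal b.asIdeal)
  have hrange : Set.range g = Set.Ici (⟨RingHom.ker φ, hk⟩ : PrimeSpectrum A) := by
    have : Set.range g = Set.range (PrimeSpectrum.comap φ) := rfl
    rw [this, range_comap_of_surjective _ φ hφ]
    ext x
    rw [PrimeSpectrum.mem_zeroLocus, SetLike.coe_subset_coe, Set.mem_Ici]
    rfl
  have h1 := height_add_eq_of_range_eq_Ici hA g _ hrange ⟨q, inferInstance⟩ (by
    change Order.height (PrimeSpectrum.comap φ ⟨q, inferInstance⟩) ≠ ⊤
    rw [← PrimeSpectrum.height_eq_orderHeight]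
    exact hfin)
  change Order.height _ + Order.height _ = Order.height (PrimeSpectrum.comap φ ⟨q, inferInstance⟩)
    at h1
  rw [← PrimeSpectrum.height_eq_orderHeight, ← PrimeSpectrum.height_eq_orderHeight,
    ← PrimeSpectrum.height_eq_orderHeight] at h1
  exact h1

section OneGen

variable (R : Type u) [CommRing R] [IsDomain R] [IsNoetherianRing R]
  (S : Type u) [CommRing S] [IsDomain S] [Algebra R S] [FaithfulSMul R S]
  (p : Ideal R) [p.IsPrime] (q : Ideal S) [q.IsPrime] [q.LiesOver p]

/-- The dimension formula for an extension generated by one element, `R[X]` catenary. -/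
theorem dimEq_of_adjoin_singleton (hcat : CAlg.IsCatenary R[X]) (x : S)
    (hx : Algebra.adjoin R {x} = ⊤) :
    (q.height : Cardinal.{u}) + Algebra.trdeg (R ⧸ p) (S ⧸ q) =
      (p.height : Cardinal.{u}) + Algebra.trdeg R S := by
  let φ : R[X] →ₐ[R] S := Polynomial.aeval x
  have hφ : Function.Surjective φ := by
    rw [← AlgHom.range_eq_top, ← Algebra.adjoin_singleton_eq_range_aeval]
    exact hx
  haveI hQ : (RingHom.ker φ.toRingHom).IsPrime := RingHom.ker_isPrime φ.toRingHom
  -- (ii) `ht Q + trdeg_R S = 1`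
  have hQ0 : (RingHom.ker φ.toRingHom).comap (C : R →+* R[X]) = ⊥ := by
    rw [eq_bot_iff]
    intro r hr
    rw [Ideal.mem_comap, RingHom.mem_ker] at hr
    have : algebraMap R S r = 0 := by
      have h2 : φ (C r) = algebraMap R S r := Polynomial.aeval_C x r
      rw [← h2]; exact hr
    rw [Ideal.mem_bot]
    exact (FaithfulSMul.algebraMap_injective R S) (by rw [this, map_zero])
  have hii := height_add_trdeg_of_comap_C_eq_bot R (RingHom.ker φ.toRingHom) hQ0
  have hES : Algebra.trdeg R (R[X] ⧸ RingHom.ker φ.toRingHom) = Algebra.trdeg R S :=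
    AlgEquiv.trdeg_eq (Ideal.quotientKerAlgEquivOfSurjective hφ)
  rw [hES] at hii
  -- (i) Lemma B for `q* = φ⁻¹ q`
  set qs : Ideal R[X] := q.comap φ with hqs
  haveI : qs.IsPrime := Ideal.comap_isPrime φ q
  haveI : qs.LiesOver p := Ideal.comap_liesOver q p φ
  have hi := height_add_trdeg_polynomial R p qs
  -- the residue algebras agree
  let θ : R[X] ⧸ qs →+* S ⧸ q := Ideal.quotientMap q φ.toRingHom le_rfl
  have hθinj : Function.Injective θ := Ideal.quotientMap_injective
  have hθsurj : Function.Surjective θ := Ideal.quotientMap_surjective hφ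
  let E : (R[X] ⧸ qs) ≃ₐ[R ⧸ p] (S ⧸ q) :=
    AlgEquiv.ofRingEquiv (f := RingEquiv.ofBijective θ ⟨hθinj, hθsurj⟩) (by
      intro d
      obtain ⟨r, rfl⟩ := Ideal.Quotient.mk_surjective d
      change θ (Ideal.Quotient.mk qs (C r)) = Ideal.Quotient.mk q (algebraMap R S r)
      rw [Ideal.quotientMap_mk]
      congr 1
      exact Polynomial.aeval_C x r)
  have hE : Algebra.trdeg (R ⧸ p) (R[X] ⧸ qs) = Algebra.trdeg (R ⧸ p) (S ⧸ q) :=
    AlgEquiv.trdeg_eq E
  rw [hE] at hi
  -- (iii) heights
  have hiii := height_ker_add_height_eq hcat φ.toRingHom hφ q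
    (Ideal.height_ne_top_of_isPrime)
  have hiii' : ((RingHom.ker φ.toRingHom).height : Cardinal.{u}) + (q.height : Cardinal.{u}) =
      (qs.height : Cardinal.{u}) := by
    rw [← Cardinal.ofENat_add]
    exact congrArg _ hiii
  -- combine
  have hfin : ((RingHom.ker φ.toRingHom).height : Cardinal.{u}) < Cardinal.aleph0 := by
    have h1 : ((RingHom.ker φ.toRingHom).height : Cardinal.{u}) ≤ 1 := by
      rw [← hii]; exact le_self_add
    exact lt_of_le_of_lt h1 Cardinal.one_lt_aleph0
  have key : ((RingHom.ker φ.toRingHom).height : Cardinal.{u}) +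
      ((q.height : Cardinal.{u}) + Algebra.trdeg (R ⧸ p) (S ⧸ q)) =
      ((RingHom.ker φ.toRingHom).height : Cardinal.{u}) +
      ((p.height : Cardinal.{u}) + Algebra.trdeg R S) := by
    calc _ = (((RingHom.ker φ.toRingHom).height : Cardinal.{u}) + (q.height : Cardinal.{u})) +
            Algebra.trdeg (R ⧸ p) (S ⧸ q) := by rw [add_assoc]
      _ = (qs.height : Cardinal.{u}) + Algebra.trdeg (R ⧸ p) (S ⧸ q) := by rw [hiii']
      _ = (p.height : Cardinal.{u}) + 1 := hi
      _ = (p.height : Cardinal.{u}) + (((RingHom.ker φ.toRingHom).height : Cardinal.{u}) +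
            Algebra.trdeg R S) := by rw [hii]
      _ = _ := by rw [← add_assoc, add_comm (p.height : Cardinal.{u}), add_assoc]
  refine le_antisymm ?_ ?_
  · exact (Cardinal.add_le_add_iff_of_lt_aleph0 hfin).1 (by
      rw [add_comm _ ((RingHom.ker φ.toRingHom).height : Cardinal.{u}),
        add_comm _ ((RingHom.ker φ.toRingHom).height : Cardinal.{u})]
      exact key.le)
  · exact (Cardinal.add_le_add_iff_of_lt_aleph0 hfin).1 (by
      rw [add_comm _ ((RingHom.ker φ.toRingHom).height : Cardinal.{u}),
        add_comm _ ((RingHom.ker φ.toRingHom).height : Cardinal.{u})]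
      exact key.ge)

end OneGen

/-- The dimension formula is transitive in towers. -/
theorem dimEq_trans (R R' S : Type u) [CommRing R] [IsDomain R] [CommRing R'] [IsDomain R']
    [CommRing S] [IsDomain S] [Algebra R R'] [Algebra R' S] [Algebra R S] [IsScalarTower R R' S]
    [FaithfulSMul R R'] [FaithfulSMul R' S]
    (p : Ideal R) [p.IsPrime] (p' : Ideal R') [p'.IsPrime] (q : Ideal S) [q.IsPrime]
    [p'.LiesOver p] [q.LiesOver p'] [q.LiesOver p]
    (h1 : (p'.height : Cardinal.{u}) + Algebra.trdeg (R ⧸ p) (R' ⧸ p') =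
      (p.height : Cardinal.{u}) + Algebra.trdeg R R')
    (h2 : (q.height : Cardinal.{u}) + Algebra.trdeg (R' ⧸ p') (S ⧸ q) =
      (p'.height : Cardinal.{u}) + Algebra.trdeg R' S) :
    (q.height : Cardinal.{u}) + Algebra.trdeg (R ⧸ p) (S ⧸ q) =
      (p.height : Cardinal.{u}) + Algebra.trdeg R S := by
  haveI := isScalarTower_quotient_quotient_quotient R R' S p p' q
  have e1 : Algebra.trdeg R R' + Algebra.trdeg R' S = Algebra.trdeg R S := trdeg_add_eq R R' (A := S)
  have e2 : Algebra.trdeg (R ⧸ p) (R' ⧸ p') + Algebra.trdeg (R' ⧸ p') (S ⧸ q) =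
      Algebra.trdeg (R ⧸ p) (S ⧸ q) := trdeg_add_eq (R ⧸ p) (R' ⧸ p') (A := S ⧸ q)
  rw [← e1, ← e2]
  calc (q.height : Cardinal.{u}) + (Algebra.trdeg (R ⧸ p) (R' ⧸ p') + Algebra.trdeg (R' ⧸ p') (S ⧸ q))
      = ((q.height : Cardinal.{u}) + Algebra.trdeg (R' ⧸ p') (S ⧸ q)) +
          Algebra.trdeg (R ⧸ p) (R' ⧸ p') := by
        rw [add_comm (Algebra.trdeg (R ⧸ p) (R' ⧸ p')), add_assoc]
    _ = ((p'.height : Cardinal.{u}) + Algebra.trdeg R' S) + Algebra.trdeg (R ⧸ p) (R' ⧸ p') := by
        rw [h2]
    _ = ((p'.height : Cardinal.{u}) + Algebra.trdeg (R ⧸ p) (R' ⧸ p')) + Algebra.trdeg R' S := by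
        rw [add_assoc, add_comm (Algebra.trdeg R' S), ← add_assoc]
    _ = ((p.height : Cardinal.{u}) + Algebra.trdeg R R') + Algebra.trdeg R' S := by rw [h1]
    _ = _ := by rw [add_assoc]

/-- A finite type algebra over a universally catenary ring is universally catenary. -/
theorem isUniversallyCatenary_of_finiteType (R R' : Type u) [CommRing R] [CommRing R']
    [Algebra R R'] [Algebra.FiniteType R R'] (hR : CAlg.IsUniversallyCatenary R) :
    CAlg.IsUniversallyCatenary R' := by
  haveI := hR.1
  refine ⟨Algebra.FiniteType.isNoetherianRing R R', ?_⟩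
  intro T _ _ hT
  letI : Algebra R T := ((algebraMap R' T).comp (algebraMap R R')).toAlgebra
  haveI : IsScalarTower R R' T := IsScalarTower.of_algebraMap_eq fun _ => rfl
  exact hR.2 T (Algebra.FiniteType.trans (S := R') inferInstance hT)

/-- The dimension formula, by induction on the number of generators. -/
theorem dimEq_of_adjoin_range (n : ℕ) : ∀ (R : Type u) [CommRing R] [IsDomain R]
    (_ : CAlg.IsUniversallyCatenary R) (S : Type u) [CommRing S] [IsDomain S] [Algebra R S]
    [FaithfulSMul R S]
    (s : Fin n → S) (_ : Algebra.adjoin R (Set.range s) = ⊤)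
    (p : Ideal R) [p.IsPrime] (q : Ideal S) [q.IsPrime] [q.LiesOver p],
    (q.height : Cardinal.{u}) + Algebra.trdeg (R ⧸ p) (S ⧸ q) =
      (p.height : Cardinal.{u}) + Algebra.trdeg R S := by
  induction n with
  | zero =>
    intro R _ _ hR S _ _ _ _ s hs p _ q _ _
    haveI := hR.1
    refine dimEq_of_adjoin_singleton R S p q (hR.2 R[X] inferInstance) 0 ?_
    rw [eq_top_iff, ← hs]
    exact Algebra.adjoin_mono (by rintro _ ⟨i, _⟩; exact i.elim0)
  | succ n ih =>
    intro R _ _ hR S _ _ _ _ s hs p _ q _ _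
    haveI := hR.1
    let R' : Subalgebra R S := Algebra.adjoin R {s 0}
    haveI : FaithfulSMul R R' := by
      rw [faithfulSMul_iff_algebraMap_injective]
      intro a b hab
      apply FaithfulSMul.algebraMap_injective R S
      have := congrArg (algebraMap R' S) hab
      rwa [← IsScalarTower.algebraMap_apply, ← IsScalarTower.algebraMap_apply] at this
    haveI : FaithfulSMul R' S := by
      rw [faithfulSMul_iff_algebraMap_injective]
      exact Subtype.val_injective
    haveI : Algebra.FiniteType R R' :=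
      (Subalgebra.fg_iff_finiteType R').1 (by
        have := Subalgebra.fg_adjoin_finset (R := R) ({s 0} : Finset S)
        simpa using this)
    haveI : IsNoetherianRing R' := Algebra.FiniteType.isNoetherianRing R R'
    have hR' : CAlg.IsUniversallyCatenary R' := isUniversallyCatenary_of_finiteType R R' hR
    -- the intermediate prime
    let p' : Ideal R' := q.under R'
    haveI : p'.IsPrime := inferInstance
    haveI : q.LiesOver p' := inferInstance
    haveI : p'.LiesOver p := Ideal.under_liesOver_of_liesOver R' q p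
    -- bottom step: one generator
    have h1 : (p'.height : Cardinal.{u}) + Algebra.trdeg (R ⧸ p) (R' ⧸ p') =
        (p.height : Cardinal.{u}) + Algebra.trdeg R R' := by
      refine dimEq_of_adjoin_singleton R R' p p' (hR.2 R[X] inferInstance)
        ⟨s 0, Algebra.subset_adjoin rfl⟩ ?_
      have hpre : ((↑) ⁻¹' ({s 0} : Set S) : Set (Algebra.adjoin R ({s 0} : Set S))) =
          {⟨s 0, Algebra.subset_adjoin rfl⟩} := by
        ext ⟨y, hy⟩
        simp [Subtype.ext_iff]
      have := Algebra.adjoin_adjoin_coe_preimage (R := R) (s := ({s 0} : Set S))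
      rw [hpre] at this
      exact this
    -- top step: `n` generators
    have h2 : (q.height : Cardinal.{u}) + Algebra.trdeg (R' ⧸ p') (S ⧸ q) =
        (p'.height : Cardinal.{u}) + Algebra.trdeg R' S := by
      refine ih R' hR' S (fun i => s i.succ) ?_ p' q
      have hunion : Set.range s = {s 0} ∪ Set.range (fun i : Fin n => s i.succ) := by
        ext y
        constructor
        · rintro ⟨i, rfl⟩
          refine Fin.cases ?_ (fun j => ?_) i
          · exact Or.inl rfl
          · exact Or.inr ⟨j, rfl⟩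
        · rintro (h | ⟨j, rfl⟩)
          · exact ⟨0, h.symm⟩
          · exact ⟨j.succ, rfl⟩
      rw [hunion, Algebra.adjoin_union_eq_adjoin_adjoin] at hs
      apply Subalgebra.restrictScalars_injective R
      rw [hs, Subalgebra.restrictScalars_top]
    exact dimEq_trans R R' S p p' q h1 h2

/-- **The dimension formula** (Stacks 02IJ, equality case). -/
theorem dimEq (R : Type u) [CommRing R] [IsDomain R]
    (hR : CAlg.IsUniversallyCatenary R) (S : Type u) [CommRing S] [IsDomain S] [Algebra R S]
    [FaithfulSMul R S] [Algebra.FiniteType R S] (p : Ideal R) [p.IsPrime] (q : Ideal S) [q.IsPrime]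
    [q.LiesOver p] :
    (q.height : Cardinal.{u}) + Algebra.trdeg (R ⧸ p) (S ⧸ q) =
      (p.height : Cardinal.{u}) + Algebra.trdeg R S := by
  obtain ⟨t, ht⟩ := (Algebra.FiniteType.out : (⊤ : Subalgebra R S).FG)
  refine dimEq_of_adjoin_range t.card R hR S (fun i => (t.equivFin.symm i : S)) ?_ p q
  convert ht using 2
  ext y
  constructor
  · rintro ⟨i, rfl⟩
    exact (t.equivFin.symm i).2
  · intro hy
    exact ⟨t.equivFin ⟨y, hy⟩, by simp⟩

end Groth.Agent.H1.DimEq
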