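import Mathlib
import Groth.Agent.Lib.Helper1.DimEqB
import Groth.Agent.Lib.Helper1.DimIneqD

/-! # Dimension (in)equality with hypotheses only on the localization of the base at `p`. -/

set_option autoImplicit false
set_option linter.style.haveILetI false
universe u
open Polynomial

namespace Groth.Agent.H1.DimLoc

open Groth.Agent.H1.DimIneq Groth.Agent.H1.DimEq

/-- `trdeg` of the bottom and top rows of a commutative square with algebraic columns agree. -/
theorem trdeg_eq_of_isAlgebraic_square (A B A' B' : Type u) [CommRing A] [Nontrivial A]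
    [CommRing B] [CommRing A'] [CommRing B'] [NoZeroDivisors B']
    [Algebra A B] [Algebra A A'] [Algebra A' B'] [Algebra B B'] [Algebra A B']
    [IsScalarTower A A' B'] [IsScalarTower A B B']
    [FaithfulSMul A B] [FaithfulSMul B B'] [FaithfulSMul A A'] [FaithfulSMul A' B']
    [Algebra.IsAlgebraic A A'] [Algebra.IsAlgebraic B B'] :
    Algebra.trdeg A B = Algebra.trdeg A' B' := by
  have h1 : Algebra.trdeg A B + Algebra.trdeg B B' = Algebra.trdeg A B' :=
    trdeg_add_eq A B (A := B')
  have h2 : Algebra.trdeg A A' + Algebra.trdeg A' B' = Algebra.trdeg A B' :=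
    trdeg_add_eq A A' (A := B')
  have z1 : Algebra.trdeg B B' = 0 := trdeg_eq_zero
  have z2 : Algebra.trdeg A A' = 0 := trdeg_eq_zero
  rw [z1, add_zero] at h1
  rw [z2, zero_add] at h2
  rw [h1, h2]

/-- The residue ring of a localization at the extension of a prime `I` disjoint from `M` is
algebraic over the residue ring at `I`. -/
theorem isAlgebraic_quotient_of_isLocalization {A : Type*} [CommRing A] (M : Submonoid A)
    (A' : Type*) [CommRing A'] [Algebra A A'] [IsLocalization M A'] (I : Ideal A)
    (hI : Disjoint (M : Set A) (I : Set A)) (I' : Ideal A') [I'.LiesOver I] :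
    Algebra.IsAlgebraic (A ⧸ I) (A' ⧸ I') := by
  refine ⟨fun x => ?_⟩
  obtain ⟨a', rfl⟩ := Ideal.Quotient.mk_surjective x
  obtain ⟨a, m, rfl⟩ := IsLocalization.exists_mk'_eq M a'
  refine ⟨C (Ideal.Quotient.mk I (m : A)) * X - C (Ideal.Quotient.mk I a), ?_, ?_⟩
  · intro h
    have h1 := congrArg (fun P => Polynomial.coeff P 1) h
    simp only [Polynomial.coeff_sub, Polynomial.coeff_C_mul, Polynomial.coeff_X_one, mul_one,
      Polynomial.coeff_C, one_ne_zero, if_false, sub_zero, Polynomial.coeff_zero] at h1
    rw [Ideal.Quotient.eq_zero_iff_mem] at h1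
    exact Set.disjoint_left.1 hI m.2 h1
  · rw [map_sub, map_mul, Polynomial.aeval_C, Polynomial.aeval_C, Polynomial.aeval_X,
      Ideal.Quotient.algebraMap_mk_of_liesOver, Ideal.Quotient.algebraMap_mk_of_liesOver,
      ← map_mul, ← map_sub]
    rw [IsLocalization.mul_mk'_eq_mk'_of_mul, IsLocalization.mk'_mul_cancel_left, sub_self,
      map_zero]

end Groth.Agent.H1.DimLoc
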