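import Mathlib
import Groth.Agent.Lib.Helper1.DimLocA

/-! # Dimension (in)equality with hypotheses only on `R_p`: localization transfer. -/

set_option autoImplicit false
set_option linter.style.haveILetI false
universe u
open Polynomial

namespace Groth.Agent.H1.DimLoc

open Groth.Agent.H1.DimIneq Groth.Agent.H1.DimEq

section DL

variable (R : Type u) [CommRing R] [IsDomain R]
  (S : Type u) [CommRing S] [IsDomain S] [Algebra R S] [FaithfulSMul R S] [Algebra.FiniteType R S]
  (p : Ideal R) [p.IsPrime] (q : Ideal S) [q.IsPrime] [q.LiesOver p]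

/-- Transfer statement: the four quantities in the dimension formula are unchanged when
localizing at `p`. -/
theorem exists_localization_data :
    ∃ (R' S' : Type u) (_ : CommRing R') (_ : IsDomain R') (_ : CommRing S') (_ : IsDomain S')
      (_ : Algebra R' S') (_ : FaithfulSMul R' S') (_ : Algebra.FiniteType R' S')
      (p' : Ideal R') (_ : p'.IsPrime) (q' : Ideal S') (_ : q'.IsPrime) (_ : q'.LiesOver p'),
      Nonempty (R' ≃+* Localization.AtPrime p) ∧
      q'.height = q.height ∧ p'.height = p.height ∧
      Algebra.trdeg R' S' = Algebra.trdeg R S ∧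
      Algebra.trdeg (R' ⧸ p') (S' ⧸ q') = Algebra.trdeg (R ⧸ p) (S ⧸ q) := by
  let M := p.primeCompl
  let MS := Algebra.algebraMapSubmonoid S M
  let R' := Localization.AtPrime p
  let S' := Localization MS
  have hMS : MS ≤ nonZeroDivisors S := by
    rintro _ ⟨r, hr, rfl⟩
    refine mem_nonZeroDivisors_of_ne_zero ?_
    intro h0
    have : r = 0 := (FaithfulSMul.algebraMap_injective R S) (by rw [h0, map_zero])
    exact hr (by rw [this]; exact p.zero_mem)
  have hM : M ≤ nonZeroDivisors R := by
    intro r hr
    refine mem_nonZeroDivisors_of_ne_zero ?_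
    rintro rfl
    exact hr p.zero_mem
  haveI : IsDomain S' := IsLocalization.isDomain_localization hMS
  haveI : IsDomain R' := IsLocalization.isDomain_localization hM
  haveI : FaithfulSMul R' S' := by
    rw [faithfulSMul_iff_algebraMap_injective]
    exact localizationAlgebra_injective R' S' (FaithfulSMul.algebraMap_injective R S)
  haveI : Algebra.FiniteType R' S' := by
    have h1 : (algebraMap R S).FiniteType := RingHom.finiteType_algebraMap.2 inferInstance
    haveI : IsLocalization (Submonoid.map (algebraMap R S) M) S' :=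
      (inferInstance : IsLocalization MS S')
    have h2 := RingHom.finiteType_localizationPreserves (algebraMap R S) M R' S' h1
    exact RingHom.finiteType_algebraMap.1 h2
  let p' : Ideal R' := p.map (algebraMap R R')
  let q' : Ideal S' := q.map (algebraMap S S')
  have hdisjp : Disjoint (M : Set R) (p : Set R) := by
    rw [Set.disjoint_left]
    intro r hr hrp
    exact hr hrp
  have hdisjq : Disjoint (MS : Set S) (q : Set S) := by
    rw [Set.disjoint_left]
    rintro _ ⟨r, hr, rfl⟩ hrq
    exact hr ((Ideal.mem_of_liesOver q p r).2 hrq)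
  haveI hp' : p'.IsPrime := IsLocalization.isPrime_of_isPrime_disjoint M R' p inferInstance hdisjp
  haveI hq' : q'.IsPrime := IsLocalization.isPrime_of_isPrime_disjoint MS S' q inferInstance hdisjq
  have hq'S : q'.under S = q := IsLocalization.under_map_of_isPrime_disjoint MS S' inferInstance hdisjq
  have hp'R : p'.under R = p := IsLocalization.under_map_of_isPrime_disjoint M R' inferInstance hdisjp
  haveI : q'.LiesOver q := ⟨hq'S.symm⟩
  haveI : p'.LiesOver p := ⟨hp'R.symm⟩
  haveI : q'.LiesOver p := Ideal.LiesOver.trans q' q p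
  haveI : q'.LiesOver p' := by
    refine ⟨?_⟩
    have h1 : (q'.under R').under R = p := by
      rw [Ideal.under_under, ← Ideal.over_def q' p]
    have h2 := IsLocalization.map_under M R' (q'.under R')
    change ((q'.under R').under R).map (algebraMap R R') = q'.under R' at h2
    rw [h1] at h2
    exact h2
  refine ⟨R', S', inferInstance, inferInstance, inferInstance, inferInstance, inferInstance,
    inferInstance, inferInstance, p', hp', q', hq', inferInstance, ⟨RingEquiv.refl _⟩, ?_, ?_, ?_, ?_⟩
  · exact IsLocalization.height_map_of_disjoint MS q hdisjq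
  · exact IsLocalization.height_map_of_disjoint M p hdisjp
  · haveI : Algebra.IsAlgebraic R R' := IsLocalization.isAlgebraic R' M
    haveI : Algebra.IsAlgebraic S S' := IsLocalization.isAlgebraic S' MS
    haveI : FaithfulSMul R R' := by
      rw [faithfulSMul_iff_algebraMap_injective]
      exact IsLocalization.injective R' hM
    haveI : FaithfulSMul S S' := by
      rw [faithfulSMul_iff_algebraMap_injective]
      exact IsLocalization.injective S' hMS
    exact (trdeg_eq_of_isAlgebraic_square R S R' S').symm
  · haveI := isAlgebraic_quotient_of_isLocalization M R' p hdisjp p'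
    haveI := isAlgebraic_quotient_of_isLocalization MS S' q hdisjq q'
    haveI := isScalarTower_quotient_quotient_quotient R R' S' p p' q'
    haveI := isScalarTower_quotient_quotient_quotient R S S' p q q'
    exact (trdeg_eq_of_isAlgebraic_square (R ⧸ p) (S ⧸ q) (R' ⧸ p') (S' ⧸ q')).symm

/-- Universal catenarity passes along surjective ring homomorphisms. -/
theorem isUniversallyCatenary_of_surjective {A B : Type u} [CommRing A] [CommRing B]
    (φ : A →+* B) (hφ : Function.Surjective φ) (hA : CAlg.IsUniversallyCatenary A) :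
    CAlg.IsUniversallyCatenary B := by
  letI := φ.toAlgebra
  haveI : Algebra.FiniteType A B :=
    Algebra.FiniteType.of_surjective (Algebra.ofId A B) hφ
  exact isUniversallyCatenary_of_finiteType A B hA

/-- **Dimension inequality, localized hypothesis**: domains, `R_p` Noetherian. -/
theorem dimIneq_of_localization (hN : IsNoetherianRing (Localization.AtPrime p)) :
    (q.height : Cardinal.{u}) + Algebra.trdeg (R ⧸ p) (S ⧸ q) ≤
      (p.height : Cardinal.{u}) + Algebra.trdeg R S := by
  obtain ⟨R', S', _, _, _, _, _, _, _, p', _, q', _, _, ⟨e⟩, h1, h2, h3, h4⟩ :=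
    exists_localization_data R S p q
  haveI : IsNoetherianRing R' := isNoetherianRing_of_ringEquiv _ e.symm
  have key := dimIneq R' S' p' q'
  rw [h1, h2, h3, h4] at key
  exact key

/-- **Dimension formula, localized hypothesis**: domains, `R_p` universally catenary. -/
theorem dimEq_of_localization (hU : CAlg.IsUniversallyCatenary (Localization.AtPrime p)) :
    (q.height : Cardinal.{u}) + Algebra.trdeg (R ⧸ p) (S ⧸ q) =
      (p.height : Cardinal.{u}) + Algebra.trdeg R S := by
  obtain ⟨R', S', _, _, _, _, _, _, _, p', _, q', _, _, ⟨e⟩, h1, h2, h3, h4⟩ :=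
    exists_localization_data R S p q
  have hU' : CAlg.IsUniversallyCatenary R' :=
    isUniversallyCatenary_of_surjective (e.symm : Localization.AtPrime p →+* R')
      e.symm.surjective hU
  have key := dimEq R' hU' S' p' q'
  rw [h1, h2, h3, h4] at key
  exact key

end DL

section Relative

variable (R S : Type u) [CommRing R] [CommRing S] [Algebra R S]
  [Algebra.FiniteType R S]
  (p₀ p : Ideal R) [p₀.IsPrime] [p.IsPrime] (q₀ q : Ideal S) [q₀.IsPrime] [q.IsPrime]
  [q₀.LiesOver p₀] [q.LiesOver p]

omit [p₀.IsPrime] in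
/-- The localization of `R ⧸ p₀` at `p / p₀` is a quotient of `R_p`. -/
theorem exists_surjective_localization_quotient (hp : p₀ ≤ p)
    [hp' : (p.map (Ideal.Quotient.mk p₀)).IsPrime] :
    ∃ φ : Localization.AtPrime p →+* Localization.AtPrime (p.map (Ideal.Quotient.mk p₀)),
      Function.Surjective φ := by
  have hM : p.primeCompl.map (Ideal.Quotient.mk p₀) =
      (p.map (Ideal.Quotient.mk p₀)).primeCompl := by
    ext d
    obtain ⟨r', rfl⟩ := Ideal.Quotient.mk_surjective d
    constructor
    · rintro ⟨r, hr, hrr'⟩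
      change Ideal.Quotient.mk p₀ r' ∉ p.map (Ideal.Quotient.mk p₀)
      rw [← hrr', Ideal.mem_quotient_iff_mem hp]
      exact hr
    · intro hr'
      change Ideal.Quotient.mk p₀ r' ∉ p.map (Ideal.Quotient.mk p₀) at hr'
      rw [Ideal.mem_quotient_iff_mem hp] at hr'
      exact ⟨r', hr', rfl⟩
  haveI : IsLocalization (p.primeCompl.map (Ideal.Quotient.mk p₀))
      (Localization.AtPrime (p.map (Ideal.Quotient.mk p₀))) := by
    rw [hM]; infer_instance
  exact ⟨_, IsLocalization.map_surjective_of_surjective (g := Ideal.Quotient.mk p₀) p.primeCompl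
    (Localization.AtPrime p)
    (Localization.AtPrime (p.map (Ideal.Quotient.mk p₀))) Ideal.Quotient.mk_surjective⟩

include R S p₀ p q₀ q in
/-- **The dimension inequality, relative form, localized hypothesis.** -/
theorem dimIneq_relative_of_localization (hq : q₀ ≤ q)
    (hN : IsNoetherianRing (Localization.AtPrime p)) :
    ((q.map (Ideal.Quotient.mk q₀)).height : Cardinal.{u}) + Algebra.trdeg (R ⧸ p) (S ⧸ q) ≤
      ((p.map (Ideal.Quotient.mk p₀)).height : Cardinal.{u}) +
        Algebra.trdeg (R ⧸ p₀) (S ⧸ q₀) := by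
  have hp : p₀ ≤ p := by
    rw [Ideal.over_def q₀ p₀, Ideal.over_def q p]
    exact Ideal.comap_mono hq
  haveI : Algebra.FiniteType R (S ⧸ q₀) :=
    Algebra.FiniteType.of_surjective (Ideal.Quotient.mkₐ R q₀) (Ideal.Quotient.mkₐ_surjective R q₀)
  haveI : Algebra.FiniteType (R ⧸ p₀) (S ⧸ q₀) :=
    Algebra.FiniteType.of_restrictScalars_finiteType R (R ⧸ p₀) (S ⧸ q₀)
  haveI hp' : (p.map (Ideal.Quotient.mk p₀)).IsPrime :=
    Ideal.map_isPrime_of_surjective Ideal.Quotient.mk_surjective (by rw [Ideal.mk_ker]; exact hp)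
  haveI hq' : (q.map (Ideal.Quotient.mk q₀)).IsPrime :=
    Ideal.map_isPrime_of_surjective Ideal.Quotient.mk_surjective (by rw [Ideal.mk_ker]; exact hq)
  haveI : (q.map (Ideal.Quotient.mk q₀)).LiesOver (p.map (Ideal.Quotient.mk p₀)) := by
    refine ⟨?_⟩
    ext d
    obtain ⟨r, rfl⟩ := Ideal.Quotient.mk_surjective d
    rw [Ideal.mem_quotient_iff_mem hp, Ideal.under_def, Ideal.mem_comap,
      Ideal.Quotient.algebraMap_mk_of_liesOver, Ideal.mem_quotient_iff_mem hq]
    exact Ideal.mem_of_liesOver q p r
  obtain ⟨φ, hφ⟩ := exists_surjective_localization_quotient R p₀ p hp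
  have hN' : IsNoetherianRing (Localization.AtPrime (p.map (Ideal.Quotient.mk p₀))) :=
    isNoetherianRing_of_surjective _ _ φ hφ
  have key := dimIneq_of_localization (R ⧸ p₀) (S ⧸ q₀) (p.map (Ideal.Quotient.mk p₀))
    (q.map (Ideal.Quotient.mk q₀)) hN'
  have hT : Algebra.trdeg ((R ⧸ p₀) ⧸ p.map (Ideal.Quotient.mk p₀))
      ((S ⧸ q₀) ⧸ q.map (Ideal.Quotient.mk q₀)) = Algebra.trdeg (R ⧸ p) (S ⧸ q) := by
    refine trdeg_eq_of_ringEquiv (DoubleQuot.quotQuotEquivQuotOfLE hp)
      (DoubleQuot.quotQuotEquivQuotOfLE hq) ?_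
    intro a
    obtain ⟨a, rfl⟩ := Ideal.Quotient.mk_surjective a
    obtain ⟨r, rfl⟩ := Ideal.Quotient.mk_surjective a
    rfl
  rw [hT] at key
  exact key

include R S p₀ p q₀ q in
/-- **The dimension formula, relative form, localized hypothesis.** -/
theorem dimEq_relative_of_localization (hq : q₀ ≤ q)
    (hU : CAlg.IsUniversallyCatenary (Localization.AtPrime p)) :
    ((q.map (Ideal.Quotient.mk q₀)).height : Cardinal.{u}) + Algebra.trdeg (R ⧸ p) (S ⧸ q) =
      ((p.map (Ideal.Quotient.mk p₀)).height : Cardinal.{u}) +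
        Algebra.trdeg (R ⧸ p₀) (S ⧸ q₀) := by
  have hp : p₀ ≤ p := by
    rw [Ideal.over_def q₀ p₀, Ideal.over_def q p]
    exact Ideal.comap_mono hq
  haveI : Algebra.FiniteType R (S ⧸ q₀) :=
    Algebra.FiniteType.of_surjective (Ideal.Quotient.mkₐ R q₀) (Ideal.Quotient.mkₐ_surjective R q₀)
  haveI : Algebra.FiniteType (R ⧸ p₀) (S ⧸ q₀) :=
    Algebra.FiniteType.of_restrictScalars_finiteType R (R ⧸ p₀) (S ⧸ q₀)
  haveI hp' : (p.map (Ideal.Quotient.mk p₀)).IsPrime :=
    Ideal.map_isPrime_of_surjective Ideal.Quotient.mk_surjective (by rw [Ideal.mk_ker]; exact hp)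
  haveI hq' : (q.map (Ideal.Quotient.mk q₀)).IsPrime :=
    Ideal.map_isPrime_of_surjective Ideal.Quotient.mk_surjective (by rw [Ideal.mk_ker]; exact hq)
  haveI : (q.map (Ideal.Quotient.mk q₀)).LiesOver (p.map (Ideal.Quotient.mk p₀)) := by
    refine ⟨?_⟩
    ext d
    obtain ⟨r, rfl⟩ := Ideal.Quotient.mk_surjective d
    rw [Ideal.mem_quotient_iff_mem hp, Ideal.under_def, Ideal.mem_comap,
      Ideal.Quotient.algebraMap_mk_of_liesOver, Ideal.mem_quotient_iff_mem hq]
    exact Ideal.mem_of_liesOver q p r
  obtain ⟨φ, hφ⟩ := exists_surjective_localization_quotient R p₀ p hp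
  have hU' : CAlg.IsUniversallyCatenary (Localization.AtPrime (p.map (Ideal.Quotient.mk p₀))) :=
    isUniversallyCatenary_of_surjective φ hφ hU
  have key := dimEq_of_localization (R ⧸ p₀) (S ⧸ q₀) (p.map (Ideal.Quotient.mk p₀))
    (q.map (Ideal.Quotient.mk q₀)) hU'
  have hT : Algebra.trdeg ((R ⧸ p₀) ⧸ p.map (Ideal.Quotient.mk p₀))
      ((S ⧸ q₀) ⧸ q.map (Ideal.Quotient.mk q₀)) = Algebra.trdeg (R ⧸ p) (S ⧸ q) := by
    refine trdeg_eq_of_ringEquiv (DoubleQuot.quotQuotEquivQuotOfLE hp)
      (DoubleQuot.quotQuotEquivQuotOfLE hq) ?_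
    intro a
    obtain ⟨a, rfl⟩ := Ideal.Quotient.mk_surjective a
    obtain ⟨r, rfl⟩ := Ideal.Quotient.mk_surjective a
    rfl
  rw [hT] at key
  exact key

end Relative

section Absolute

variable (R S : Type u) [CommRing R] [CommRing S] [Algebra R S]
  [Algebra.FiniteType R S] (p : Ideal R) [p.IsPrime] (q : Ideal S) [q.IsPrime] [q.LiesOver p]

/-- If `R_p` is Noetherian and `S` is of finite type over `R` then `S_q` is Noetherian. -/
theorem isNoetherianRing_localization_of_finiteType
    (hN : IsNoetherianRing (Localization.AtPrime p)) :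
    IsNoetherianRing (Localization.AtPrime q) := by
  have hunits : ∀ m : p.primeCompl, IsUnit (algebraMap R (Localization.AtPrime q) m) := by
    intro m
    rw [IsScalarTower.algebraMap_apply R S (Localization.AtPrime q)]
    exact IsLocalization.map_units (Localization.AtPrime q)
      (⟨algebraMap R S m, fun h => m.2 ((Ideal.mem_of_liesOver q p m.1).2 h)⟩ : q.primeCompl)
  letI : Algebra (Localization.AtPrime p) (Localization.AtPrime q) :=
    (IsLocalization.lift hunits).toAlgebra
  haveI : IsScalarTower R (Localization.AtPrime p) (Localization.AtPrime q) :=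
    IsScalarTower.of_algebraMap_eq (fun r => (IsLocalization.lift_eq hunits r).symm)
  haveI : Algebra.EssFiniteType R (Localization.AtPrime q) :=
    Algebra.EssFiniteType.comp R S (Localization.AtPrime q)
  haveI : Algebra.EssFiniteType (Localization.AtPrime p) (Localization.AtPrime q) :=
    Algebra.EssFiniteType.of_comp R (Localization.AtPrime p) (Localization.AtPrime q)
  exact Algebra.EssFiniteType.isNoetherianRing (Localization.AtPrime p) (Localization.AtPrime q)

theorem finiteHeight_of_localization (hN : IsNoetherianRing (Localization.AtPrime p)) :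
    q.FiniteHeight := by
  haveI := isNoetherianRing_localization_of_finiteType R S p q hN
  have h1 := IsLocalization.AtPrime.ringKrullDim_eq_height q (Localization.AtPrime q)
  refine ⟨Or.inr ?_⟩
  intro htop
  rw [htop] at h1
  exact ringKrullDim_ne_top h1

/-- **The dimension inequality, absolute form with a bound on the generic transcendence degrees,
localized hypothesis.** -/
theorem dimIneq_of_forall_minimalPrimes_of_localization
    (hN : IsNoetherianRing (Localization.AtPrime p)) (E : Cardinal.{u})
    (hE : ∀ (q₀ : Ideal S) [q₀.IsPrime], q₀ ∈ minimalPrimes S → q₀ ≤ q →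
      Algebra.trdeg (R ⧸ q₀.under R) (S ⧸ q₀) ≤ E) :
    (q.height : Cardinal.{u}) + Algebra.trdeg (R ⧸ p) (S ⧸ q) ≤ (p.height : Cardinal.{u}) + E := by
  haveI := finiteHeight_of_localization R S p q hN
  obtain ⟨q₀, hmin, hq, hht⟩ := exists_minimalPrimes_height_map_eq q
  haveI : q₀.IsPrime := hmin.1.1
  have hp : q₀.under R ≤ p := by
    rw [Ideal.over_def q p]
    exact Ideal.comap_mono hq
  have key := dimIneq_relative_of_localization R S (q₀.under R) p q₀ q hq hN
  rw [hht] at key
  refine key.trans (add_le_add ?_ (hE q₀ hmin hq))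
  exact Cardinal.ofENat_le_ofENat.2 (height_map_mk_le (q₀.under R) p hp)

end Absolute

end Groth.Agent.H1.DimLoc
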