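import Mathlib
import Groth.Agent.Lib.Helper1.DimLocB
import Groth.Agent.Lib.Helper1.DimIneqF

/-! # Dimension (in)equality on schemes, hypotheses only on the local ring of the base. -/

set_option autoImplicit false
set_option linter.style.haveILetI false
universe u
open CategoryTheory AlgebraicGeometry

namespace Groth.Agent.H1.DimLoc

open Groth.Agent.H1.DimIneq Groth.Agent.H1.DimEq

variable {X Y : Scheme.{u}}

/-- the stalk at a point of an affine open is the localization at its prime ideal -/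
theorem nonempty_stalk_ringEquiv_localization {U : X.Opens} (hU : IsAffineOpen U) (x : X)
    (hx : x ∈ U) :
    Nonempty (X.presheaf.stalk x ≃+* Localization.AtPrime (hU.primeIdealOf ⟨x, hx⟩).asIdeal) := by
  letI := X.presheaf.algebra_section_stalk ⟨x, hx⟩
  haveI := hU.isLocalization_stalk ⟨x, hx⟩
  exact ⟨(IsLocalization.algEquiv (hU.primeIdealOf ⟨x, hx⟩).asIdeal.primeCompl
    (X.presheaf.stalk x) (Localization.AtPrime (hU.primeIdealOf ⟨x, hx⟩).asIdeal)).toRingEquiv⟩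

theorem isNoetherianRing_atPrime_of_stalk {U : X.Opens} (hU : IsAffineOpen U) (x : X)
    (hx : x ∈ U) (hN : IsNoetherianRing (X.presheaf.stalk x)) :
    IsNoetherianRing (Localization.AtPrime (hU.primeIdealOf ⟨x, hx⟩).asIdeal) := by
  obtain ⟨e⟩ := nonempty_stalk_ringEquiv_localization hU x hx
  exact isNoetherianRing_of_ringEquiv _ e

theorem isUniversallyCatenary_atPrime_of_stalk {U : X.Opens} (hU : IsAffineOpen U) (x : X)
    (hx : x ∈ U) (hN : CAlg.IsUniversallyCatenary (X.presheaf.stalk x)) :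
    CAlg.IsUniversallyCatenary (Localization.AtPrime (hU.primeIdealOf ⟨x, hx⟩).asIdeal) := by
  obtain ⟨e⟩ := nonempty_stalk_ringEquiv_localization hU x hx
  exact isUniversallyCatenary_of_surjective (e : X.presheaf.stalk x →+* _) e.surjective hN

/-- `primeIdealOf` is monotone for specialization. -/
theorem primeIdealOf_le_of_specializes {U : X.Opens} (hU : IsAffineOpen U) (x ξ : X)
    (hx : x ∈ U) (hξ : ξ ∈ U) (h : ξ ⤳ x) :
    (hU.primeIdealOf ⟨ξ, hξ⟩).asIdeal ≤ (hU.primeIdealOf ⟨x, hx⟩).asIdeal := by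
  have h1 : hU.fromSpec (hU.primeIdealOf ⟨ξ, hξ⟩) ⤳ hU.fromSpec (hU.primeIdealOf ⟨x, hx⟩) := by
    rw [hU.fromSpec_primeIdealOf, hU.fromSpec_primeIdealOf]
    exact h
  have h2 := hU.fromSpec.isOpenEmbedding.isInducing.specializes_iff.1 h1
  exact (PrimeSpectrum.le_iff_specializes (R := Γ(X, U)) _ _).2 h2

/-- **Relative dimension inequality in an affine chart** (base local ring Noetherian). -/
theorem chart_relative_le (f : X ⟶ Y) [LocallyOfFiniteType f] {U : X.Opens} {V : Y.Opens}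
    (hU : IsAffineOpen U) (hV : IsAffineOpen V) (e : U ≤ f ⁻¹ᵁ V) (x ξ : X) (hxU : x ∈ U)
    (hξU : ξ ∈ U) (hξ : ξ ⤳ x) (hN : IsNoetherianRing (Y.presheaf.stalk (f x))) :
    ((((hU.primeIdealOf ⟨x, hxU⟩).asIdeal.map
      (Ideal.Quotient.mk (hU.primeIdealOf ⟨ξ, hξU⟩).asIdeal)).height : ℕ∞) : Cardinal.{u}) +
        Dual3.resTrdeg f x ≤
    ((((hV.primeIdealOf ⟨f x, e hxU⟩).asIdeal.map
      (Ideal.Quotient.mk (hV.primeIdealOf ⟨f ξ, e hξU⟩).asIdeal)).height : ℕ∞) : Cardinal.{u}) +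
        Dual3.resTrdeg f ξ := by
  letI algRS := (f.appLE V U e).hom.toAlgebra
  haveI : Algebra.FiniteType Γ(Y, V) Γ(X, U) := f.finiteType_appLE hV hU e
  letI hlo := liesOver_primeIdealOf f hU hV e x hxU
  letI hlo' := liesOver_primeIdealOf f hU hV e ξ hξU
  rw [resTrdeg_eq_trdeg_quotient f hU hV e x hxU, resTrdeg_eq_trdeg_quotient f hU hV e ξ hξU]
  exact dimIneq_relative_of_localization Γ(Y, V) Γ(X, U)
    (hV.primeIdealOf ⟨f ξ, e hξU⟩).asIdeal (hV.primeIdealOf ⟨f x, e hxU⟩).asIdeal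
    (hU.primeIdealOf ⟨ξ, hξU⟩).asIdeal (hU.primeIdealOf ⟨x, hxU⟩).asIdeal
    (primeIdealOf_le_of_specializes hU x ξ hxU hξU hξ)
    (isNoetherianRing_atPrime_of_stalk hV (f x) (e hxU) hN)

/-- **Relative dimension formula in an affine chart** (base local ring universally catenary). -/
theorem chart_relative_eq (f : X ⟶ Y) [LocallyOfFiniteType f] {U : X.Opens} {V : Y.Opens}
    (hU : IsAffineOpen U) (hV : IsAffineOpen V) (e : U ≤ f ⁻¹ᵁ V) (x ξ : X) (hxU : x ∈ U)
    (hξU : ξ ∈ U) (hξ : ξ ⤳ x) (hN : CAlg.IsUniversallyCatenary (Y.presheaf.stalk (f x))) :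
    ((((hU.primeIdealOf ⟨x, hxU⟩).asIdeal.map
      (Ideal.Quotient.mk (hU.primeIdealOf ⟨ξ, hξU⟩).asIdeal)).height : ℕ∞) : Cardinal.{u}) +
        Dual3.resTrdeg f x =
    ((((hV.primeIdealOf ⟨f x, e hxU⟩).asIdeal.map
      (Ideal.Quotient.mk (hV.primeIdealOf ⟨f ξ, e hξU⟩).asIdeal)).height : ℕ∞) : Cardinal.{u}) +
        Dual3.resTrdeg f ξ := by
  letI algRS := (f.appLE V U e).hom.toAlgebra
  haveI : Algebra.FiniteType Γ(Y, V) Γ(X, U) := f.finiteType_appLE hV hU e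
  letI hlo := liesOver_primeIdealOf f hU hV e x hxU
  letI hlo' := liesOver_primeIdealOf f hU hV e ξ hξU
  rw [resTrdeg_eq_trdeg_quotient f hU hV e x hxU, resTrdeg_eq_trdeg_quotient f hU hV e ξ hξU]
  exact dimEq_relative_of_localization Γ(Y, V) Γ(X, U)
    (hV.primeIdealOf ⟨f ξ, e hξU⟩).asIdeal (hV.primeIdealOf ⟨f x, e hxU⟩).asIdeal
    (hU.primeIdealOf ⟨ξ, hξU⟩).asIdeal (hU.primeIdealOf ⟨x, hxU⟩).asIdeal
    (primeIdealOf_le_of_specializes hU x ξ hxU hξU hξ)
    (isUniversallyCatenary_atPrime_of_stalk hV (f x) (e hxU) hN)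

/-- **The dimension inequality for schemes**, base local ring Noetherian. -/
theorem stalk_dim_add_resTrdeg_le' (f : X ⟶ Y) [LocallyOfFiniteType f]
    (x : X) (hN : IsNoetherianRing (Y.presheaf.stalk (f x))) (E : Cardinal.{u})
    (hE : ∀ ξ : X, ξ ⤳ x → ringKrullDim (X.presheaf.stalk ξ) = 0 → Dual3.resTrdeg f ξ ≤ E) :
    ringKrullDim (X.presheaf.stalk x) +
        ((Cardinal.toENat (Dual3.resTrdeg f x) : ℕ∞) : WithBot ℕ∞) ≤
      ringKrullDim (Y.presheaf.stalk (f x)) + ((Cardinal.toENat E : ℕ∞) : WithBot ℕ∞) := by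
  obtain ⟨V, hV, hfxV⟩ : ∃ V : Y.Opens, IsAffineOpen V ∧ f x ∈ V := by
    obtain ⟨_, ⟨V, hV, rfl⟩, hz, -⟩ :=
      Y.isBasis_affineOpens.exists_subset_of_mem_open (Set.mem_univ (f x)) isOpen_univ
    exact ⟨V, hV, hz⟩
  obtain ⟨U, hU, hxU, hUV⟩ := exists_isAffineOpen_mem_and_subset (x := x) (U := f ⁻¹ᵁ V) hfxV
  have e : U ≤ f ⁻¹ᵁ V := hUV
  letI algRS := (f.appLE V U e).hom.toAlgebra
  haveI : Algebra.FiniteType Γ(Y, V) Γ(X, U) := f.finiteType_appLE hV hU e
  letI hlo := liesOver_primeIdealOf f hU hV e x hxU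
  have hKI := resTrdeg_eq_trdeg_quotient f hU hV e x hxU
  have hRDI := dimIneq_of_forall_minimalPrimes_of_localization Γ(Y, V) Γ(X, U)
    (hV.primeIdealOf ⟨f x, e hxU⟩).asIdeal (hU.primeIdealOf ⟨x, hxU⟩).asIdeal
    (isNoetherianRing_atPrime_of_stalk hV (f x) (e hxU) hN) E (by
      intro q₀ _ hmin hle
      set P : Spec Γ(X, U) := ⟨q₀, inferInstance⟩ with hP
      have hξU : hU.fromSpec P ∈ U := by
        rw [← SetLike.mem_coe, ← hU.range_fromSpec]; exact ⟨P, rfl⟩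
      have hprime := primeIdealOf_fromSpec hU P hξU
      have hspec : hU.fromSpec P ⤳ x := by
        have h1 : P ⤳ hU.primeIdealOf ⟨x, hxU⟩ :=
          (PrimeSpectrum.le_iff_specializes (R := Γ(X, U)) P (hU.primeIdealOf ⟨x, hxU⟩)).1 hle
        have := h1.map hU.fromSpec.continuous
        rwa [hU.fromSpec_primeIdealOf] at this
      have hdim : ringKrullDim (X.presheaf.stalk (hU.fromSpec P)) = 0 := by
        rw [ringKrullDim_stalk_eq_height hU _ hξU, hprime]
        have : q₀.height = 0 := Ideal.height_eq_zero_iff.2 hmin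
        change ((q₀.height : ℕ∞) : WithBot ℕ∞) = 0
        rw [this]; rfl
      have h1 := hE _ hspec hdim
      letI hlo' := liesOver_primeIdealOf f hU hV e (hU.fromSpec P) hξU
      rw [resTrdeg_eq_trdeg_quotient f hU hV e (hU.fromSpec P) hξU] at h1
      have hq : (hU.primeIdealOf ⟨hU.fromSpec P, hξU⟩).asIdeal = q₀ := by rw [hprime]
      have hp : (hV.primeIdealOf ⟨f (hU.fromSpec P), e hξU⟩).asIdeal = q₀.under Γ(Y, V) := by
        rw [Ideal.over_def (hU.primeIdealOf ⟨hU.fromSpec P, hξU⟩).asIdeal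
          (hV.primeIdealOf ⟨f (hU.fromSpec P), e hξU⟩).asIdeal, hq]
      rwa [trdeg_quotient_congr hp hq] at h1)
  rw [← hKI] at hRDI
  rw [ringKrullDim_stalk_eq_height hU x hxU, ringKrullDim_stalk_eq_height hV (f x) (e hxU)]
  have h2 : Cardinal.toENat (((hU.primeIdealOf ⟨x, hxU⟩).asIdeal.height : Cardinal.{u}) +
      Dual3.resTrdeg f x) ≤ Cardinal.toENat (((hV.primeIdealOf ⟨f x, e hxU⟩).asIdeal.height :
      Cardinal.{u}) + E) := Cardinal.toENat.monotone' hRDI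
  rw [map_add, map_add, Cardinal.toENat_ofENat, Cardinal.toENat_ofENat] at h2
  exact_mod_cast h2

end Groth.Agent.H1.DimLoc
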