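import Groth.Agent.Lib.Helper1.SchFibInj2
import Groth.Agent.Lib.Helper1.DimLocC
import Groth.Agent.Lib.Helper1.DimIneqE
import Groth.Agent.Lib.Lead.QC.SubExt
import Groth.Agent.Lib.Lead.QC.Epi
import Groth.Agent.Lib.Lead.QC.AnnIdeal
import Groth.Agent.S16234

/-!
# Lengths of stalks of coherent modules

* `stalkLin u x`: the stalk map of a morphism of `O_X`-modules, as an `O_{X,x}`-linear map.
* `stalk_shortExact`: a short exact sequence of `O_X`-modules is short exact on stalks.
* `length_stalk_add`: additivity of the length of stalks in short exact sequences.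
* `finite_stalk`: stalks of quasi-coherent modules of finite type are finite modules.
* `length_stalk_lt_top`: finite length at the maximal points of the support.
-/

set_option autoImplicit false
set_option linter.style.haveILetI false

universe u

open CategoryTheory Limits AlgebraicGeometry TopologicalSpace Opposite

namespace Groth.Agent.H1.CohLen

open Groth.Agent.LD.QC Groth.Agent.H1.SchFlat

variable {X : Scheme.{u}}

/-- The stalk map of a morphism of `O_X`-modules as an `O_{X,x}`-linear map. -/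
noncomputable def stalkLin {F' F : X.Modules} (u : F' ⟶ F) (x : X) :
    F'.presheaf.stalk x →ₗ[X.presheaf.stalk x] F.presheaf.stalk x where
  toFun := stalkFun u x
  map_add' := stalkFun_add u x
  map_smul' := stalkFun_smul u x

lemma stalkLin_apply {F' F : X.Modules} (u : F' ⟶ F) (x : X) (m : F'.presheaf.stalk x) :
    stalkLin u x m = stalkFun u x m := rfl

lemma germ_eq_zero_iff (M : X.Modules) (x : X) (U : X.Opens) (hx : x ∈ U) (s : Γ(M, U)) :
    M.presheaf.germ U x hx s = 0 ↔
      ∃ (W : X.Opens) (hW : W ≤ U), x ∈ W ∧ M.presheaf.map (homOfLE hW).op s = 0 := by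
  constructor
  · intro h
    have h0 : M.presheaf.germ U x hx s = M.presheaf.germ U x hx 0 := by rw [h, map_zero]
    obtain ⟨W, hxW, iU, iV, e⟩ := TopCat.Presheaf.germ_eq M.presheaf x hx hx s 0 h0
    refine ⟨W, iU.le, hxW, ?_⟩
    have e' : M.presheaf.map (homOfLE iU.le).op s = M.presheaf.map (homOfLE iU.le).op 0 := e
    rw [e', map_zero]
  · rintro ⟨W, hW, hxW, h⟩
    rw [← germ_res M x hW hxW s, h, map_zero]

theorem stalkFun_injective_of_mono {F' F : X.Modules} (u : F' ⟶ F) [Mono u] (x : X) :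
    Function.Injective (stalkFun u x) := by
  have key : ∀ m, stalkFun u x m = 0 → m = 0 := by
    intro m hm
    obtain ⟨U, hxU, s, rfl⟩ := TopCat.Presheaf.exists_germ_eq F'.presheaf m
    rw [stalkFun_germ, germ_eq_zero_iff] at hm
    obtain ⟨W, hW, hxW, h⟩ := hm
    rw [← app_res] at h
    have h2 : F'.presheaf.map (homOfLE hW).op s = 0 :=
      mono_app u W (by rw [h, map_zero])
    rw [germ_eq_zero_iff]
    exact ⟨W, hW, hxW, h2⟩
  intro a b hab
  have : stalkFun u x (a - b) = 0 := by
    have := (stalkLin u x).map_sub a b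
    simp only [stalkLin_apply] at this
    rw [this, hab, sub_self]
  exact sub_eq_zero.mp (key _ this)

theorem stalkFun_surjective_of_epi {F F'' : X.Modules} (p : F ⟶ F'') [hp : Epi p] (x : X) :
    Function.Surjective (stalkFun p x) := by
  intro m
  obtain ⟨U, hxU, h, rfl⟩ := TopCat.Presheaf.exists_germ_eq F''.presheaf m
  obtain ⟨W, hW, hxW, g, hg⟩ := exists_local_lift p hp U h x hxU
  refine ⟨F.presheaf.germ W x hxW g, ?_⟩
  rw [stalkFun_germ, hg, germ_res]

theorem stalkFun_comp_eq_zero {F' F F'' : X.Modules} (u : F' ⟶ F) (p : F ⟶ F'') (h : u ≫ p = 0)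
    (x : X) (m : F'.presheaf.stalk x) : stalkFun p x (stalkFun u x m) = 0 := by
  obtain ⟨U, hxU, s, rfl⟩ := TopCat.Presheaf.exists_germ_eq F'.presheaf m
  rw [stalkFun_germ, stalkFun_germ]
  have : p.app U (u.app U s) = (u ≫ p).app U s := rfl
  rw [this, h]
  exact map_zero _

theorem stalkFun_exact (T : ShortComplex X.Modules) (hT : T.ShortExact) (x : X) :
    Function.Exact (stalkFun T.f x) (stalkFun T.g x) := by
  intro m
  constructor
  · intro hm
    obtain ⟨U, hxU, s, rfl⟩ := TopCat.Presheaf.exists_germ_eq T.X₂.presheaf m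
    rw [stalkFun_germ, germ_eq_zero_iff] at hm
    obtain ⟨W, hW, hxW, h⟩ := hm
    rw [← app_res] at h
    obtain ⟨t, ht⟩ := exists_kernel_section T.g W _ h
    haveI := hT.mono_f
    let l : kernel T.g ⟶ T.X₁ := hT.fIsKernel.lift (KernelFork.ofι (kernel.ι T.g) (kernel.condition _))
    have hl : l ≫ T.f = kernel.ι T.g := hT.fIsKernel.fac _ WalkingParallelPair.zero
    refine ⟨T.X₁.presheaf.germ W x hxW (l.app W t), ?_⟩
    rw [stalkFun_germ]
    have : T.f.app W (l.app W t) = (l ≫ T.f).app W t := rfl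
    rw [this, hl, ht, germ_res]
  · rintro ⟨m', rfl⟩
    exact stalkFun_comp_eq_zero T.f T.g T.zero x m'

/-- Additivity of the length of stalks in a short exact sequence of `O_X`-modules. -/
theorem length_stalk_add (T : ShortComplex X.Modules) (hT : T.ShortExact) (x : X) :
    Module.length (X.presheaf.stalk x) (T.X₂.presheaf.stalk x) =
      Module.length (X.presheaf.stalk x) (T.X₁.presheaf.stalk x) +
        Module.length (X.presheaf.stalk x) (T.X₃.presheaf.stalk x) := by
  haveI := hT.mono_f
  haveI := hT.epi_g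
  exact Module.length_eq_add_of_exact (stalkLin T.f x) (stalkLin T.g x)
    (stalkFun_injective_of_mono T.f x) (stalkFun_surjective_of_epi T.g x) (stalkFun_exact T hT x)

/-- Stalks of quasi-coherent modules of finite type are finite modules over the local ring. -/
theorem finite_stalk (F : X.Modules) [F.IsQuasicoherent] (hF : F.IsFiniteType) (x : X) :
    Module.Finite (X.presheaf.stalk x) (F.presheaf.stalk x) := by
  obtain ⟨U, hU, hxU, -⟩ := exists_isAffineOpen_mem_and_subset (x := x) (U := ⊤) trivial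
  letI := stalkΓModule F x U hxU
  haveI := isLocalizedModule_germ F hU x hxU
  letI : Algebra Γ(X, U) (X.presheaf.stalk x) := X.presheaf.algebra_section_stalk ⟨x, hxU⟩
  haveI := hU.isLocalization_stalk ⟨x, hxU⟩
  haveI : Module.Finite Γ(X, U) Γ(F, U) := finite_sections_of_isFiniteType F hF hU
  haveI : IsScalarTower Γ(X, U) (X.presheaf.stalk x) (F.presheaf.stalk x) :=
    ⟨fun r s m => by
      change (r • s) • m = X.presheaf.germ U x hxU r • (s • m)
      rw [Algebra.smul_def, mul_smul]
      rfl⟩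
  exact Module.Finite.of_isLocalizedModule (hU.primeIdealOf ⟨x, hxU⟩).asIdeal.primeCompl
    (germLinear F x U hxU)

/-- A quasi-coherent module of finite type on a locally Noetherian scheme has finite length at the
maximal points of its support. -/
theorem length_stalk_lt_top [IsLocallyNoetherian X] (F : X.Modules) [F.IsQuasicoherent]
    (hF : F.IsFiniteType) (ξ : X)
    (hmax : ∀ x : X, Nontrivial (F.presheaf.stalk x) → x ⤳ ξ → x = ξ) :
    Module.length (X.presheaf.stalk ξ) (F.presheaf.stalk ξ) < ⊤ := by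
  obtain ⟨U, hU, hξU, -⟩ := exists_isAffineOpen_mem_and_subset (x := ξ) (U := ⊤) trivial
  letI := stalkΓModule F ξ U hξU
  haveI hloc := isLocalizedModule_germ F hU ξ hξU
  letI : Algebra Γ(X, U) (X.presheaf.stalk ξ) := X.presheaf.algebra_section_stalk ⟨ξ, hξU⟩
  haveI := hU.isLocalization_stalk ⟨ξ, hξU⟩
  haveI : Module.Finite Γ(X, U) Γ(F, U) := finite_sections_of_isFiniteType F hF hU
  haveI : IsScalarTower Γ(X, U) (X.presheaf.stalk ξ) (F.presheaf.stalk ξ) :=
    ⟨fun r s m => by
      change (r • s) • m = X.presheaf.germ U ξ hξU r • (s • m)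
      rw [Algebra.smul_def, mul_smul]
      rfl⟩
  haveI : Module.Finite (X.presheaf.stalk ξ) (F.presheaf.stalk ξ) := finite_stalk F hF ξ
  rw [lt_top_iff_ne_top, Module.length_ne_top_iff]
  apply (Groth.Agent.S16234.result _ _).mp
  intro q' hq'
  set p := hU.primeIdealOf ⟨ξ, hξU⟩ with hp
  rw [Module.support_eq_zeroLocus, PrimeSpectrum.mem_zeroLocus, SetLike.coe_subset_coe,
    ← annihilator_map_of_isLocalizedModule p.asIdeal.primeCompl (germLinear F ξ U hξU),
    Ideal.map_le_iff_le_comap] at hq'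
  let q : PrimeSpectrum Γ(X, U) := ⟨q'.asIdeal.comap (algebraMap Γ(X, U) (X.presheaf.stalk ξ)),
    inferInstance⟩
  have hqsupp : q ∈ Module.support Γ(X, U) Γ(F, U) := by
    rw [Module.support_eq_zeroLocus, PrimeSpectrum.mem_zeroLocus, SetLike.coe_subset_coe]
    exact hq'
  have hqp : q.asIdeal ≤ p.asIdeal := by
    have h1 : q'.asIdeal ≤ IsLocalRing.maximalIdeal (X.presheaf.stalk ξ) :=
      IsLocalRing.le_maximalIdeal q'.2.ne_top
    have h2 : q'.asIdeal.under Γ(X, U) ≤
        (IsLocalRing.maximalIdeal (X.presheaf.stalk ξ)).under Γ(X, U) :=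
      Ideal.comap_mono (f := algebraMap Γ(X, U) (X.presheaf.stalk ξ)) h1
    rwa [IsLocalization.AtPrime.under_maximalIdeal (X.presheaf.stalk ξ) p.asIdeal] at h2
  obtain ⟨Q, hQ⟩ : ∃ Q : ↥(Spec Γ(X, U)), Q = q := ⟨q, rfl⟩
  obtain ⟨P, hP⟩ : ∃ P : ↥(Spec Γ(X, U)), P = p := ⟨p, rfl⟩
  have hxU : hU.fromSpec Q ∈ U := by
    have : hU.fromSpec Q ∈ Set.range hU.fromSpec := ⟨Q, rfl⟩
    rw [hU.range_fromSpec] at this
    exact this
  have hQ' : hU.primeIdealOf ⟨hU.fromSpec Q, hxU⟩ = Q :=
    Groth.Agent.H1.DimIneq.primeIdealOf_fromSpec hU Q hxU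
  have hnt : Nontrivial (F.presheaf.stalk (hU.fromSpec Q)) := by
    rw [← not_subsingleton_iff_nontrivial, ← mem_support_iff_not_subsingleton_stalk F hU _ hxU, hQ',
      hQ]
    exact hqsupp
  have hsp : hU.fromSpec Q ⤳ ξ := by
    have h1 : Q ⤳ P := by
      rw [hQ, hP]
      exact (PrimeSpectrum.le_iff_specializes (R := Γ(X, U)) q p).1 hqp
    have h2 := h1.map hU.fromSpec.continuous
    rwa [hP, hp, hU.fromSpec_primeIdealOf] at h2
  have hxξ := hmax _ hnt hsp
  have hQP : Q = P := by
    apply hU.fromSpec.isOpenEmbedding.injective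
    rw [hxξ, hP, hp, hU.fromSpec_primeIdealOf]
  have hqp' : q.asIdeal = p.asIdeal := by
    rw [← hQ, hQP, hP]
  have : q'.asIdeal = IsLocalRing.maximalIdeal (X.presheaf.stalk ξ) := by
    rw [← IsLocalization.map_under p.asIdeal.primeCompl (X.presheaf.stalk ξ) q'.asIdeal,
      ← IsLocalization.AtPrime.map_eq_maximalIdeal p.asIdeal (X.presheaf.stalk ξ)]
    congr 1
  rw [this]
  infer_instance

/-- In a locally Noetherian topological space, the irreducible components of any subset form a
locally finite family. -/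
theorem locallyFinite_irreducibleComponents {T : Type*} [TopologicalSpace T]
    (hT : ∀ x : T, ∃ U : Set T, IsOpen U ∧ x ∈ U ∧ NoetherianSpace U) (S : Set T) :
    LocallyFinite (fun Z : irreducibleComponents S => ((↑) '' (Z : Set S) : Set T)) := by
  intro x
  obtain ⟨U, hUo, hxU, hUN⟩ := hT x
  refine ⟨U, hUo.mem_nhds hxU, ?_⟩
  let V : Set S := Subtype.val ⁻¹' U
  have hVo : IsOpen V := hUo.preimage continuous_subtype_val
  let f : V → S := Subtype.val
  have hf : Topology.IsOpenEmbedding f := hVo.isOpenEmbedding_subtypeVal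
  haveI : NoetherianSpace V := by
    let j : V → U := fun v => ⟨v.1.1, v.2⟩
    have hj : Topology.IsInducing j := by
      have h1 : Topology.IsInducing ((Subtype.val : U → T) ∘ j) :=
        (Topology.IsInducing.subtypeVal (t := S)).comp (Topology.IsInducing.subtypeVal (t := V))
      have hjc : Continuous j :=
        Continuous.subtype_mk (continuous_subtype_val.comp continuous_subtype_val) _
      exact Topology.IsInducing.of_comp hjc continuous_subtype_val h1
    exact hj.noetherianSpace
  have hfin := NoetherianSpace.finite_irreducibleComponents (α := V)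
  apply Set.Finite.of_finite_image (f := Subtype.val) _ Subtype.val_injective.injOn
  apply (hfin.image (fun W => closure (f '' W))).subset
  rintro _ ⟨Z, hZ, rfl⟩
  have hne : (Z.1 ∩ Set.range f).Nonempty := by
    obtain ⟨_, ⟨s, hsZ, rfl⟩, hsU⟩ := hZ
    exact ⟨s, hsZ, ⟨⟨s, hsU⟩, rfl⟩⟩
  refine ⟨f ⁻¹' Z.1, preimage_mem_irreducibleComponents Z.2 hf hne, ?_⟩
  refine closure_image_preimage_of_isPreirreducible f hf.isOpenMap Z.1 ?_ Z.2.1.2
    (isClosed_of_mem_irreducibleComponents _ Z.2)
  obtain ⟨_, hsZ, ⟨v, rfl⟩⟩ := hne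
  exact ⟨v, hsZ⟩

theorem exists_noetherianSpace_nhd [IsLocallyNoetherian X] (x : X) :
    ∃ U : Set X, IsOpen U ∧ x ∈ U ∧ NoetherianSpace U := by
  obtain ⟨U, hU, hxU, -⟩ := exists_isAffineOpen_mem_and_subset (x := x) (U := ⊤) trivial
  haveI : IsNoetherianRing Γ(X, U) := IsLocallyNoetherian.component_noetherian ⟨U, hU⟩
  exact ⟨U, U.2, hxU, noetherianSpace_of_isAffineOpen U hU⟩

end Groth.Agent.H1.CohLen
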