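import Mathlib

/-! Helper1: change of rings for projective dimension, `R → R/(x)` with `x` regular. -/

set_option autoImplicit false

universe u

open CategoryTheory IsLocalRing Pointwise

namespace Groth.Agent.H1.Reg

section Basic

variable {R : Type u} [CommRing R] (x : R)

theorem mk_surj : Function.Surjective (algebraMap R (R ⧸ Ideal.span ({x} : Set R))) :=
  Ideal.Quotient.mk_surjective

/-- Reduction mod `x` of a linear map, as an `R/(x)`-linear map. -/
noncomputable def modMap {M N : Type u} [AddCommGroup M] [Module R M] [AddCommGroup N]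
    [Module R N] (f : M →ₗ[R] N) :
    QuotSMulTop x M →ₗ[R ⧸ Ideal.span ({x} : Set R)] QuotSMulTop x N :=
  (QuotSMulTop.map x f).extendScalarsOfSurjective (mk_surj x)

theorem modMap_apply {M N : Type u} [AddCommGroup M] [Module R M] [AddCommGroup N]
    [Module R N] (f : M →ₗ[R] N) (y : QuotSMulTop x M) :
    modMap x f y = QuotSMulTop.map x f y := rfl

theorem modMap_comp_eq_zero {K' F K : Type u} [AddCommGroup K'] [Module R K'] [AddCommGroup F]
    [Module R F] [AddCommGroup K] [Module R K] (i : K' →ₗ[R] F) (π : F →ₗ[R] K)
    (h : π.comp i = 0) : (modMap x π).comp (modMap x i) = 0 := by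
  apply LinearMap.ext
  intro y
  have h1 : (QuotSMulTop.map x π).comp (QuotSMulTop.map x i) = 0 := by
    rw [← QuotSMulTop.map_comp, h, map_zero]
  exact LinearMap.congr_fun h1 y

/-- The reduction mod `x` of a short exact sequence whose cokernel is `x`-regular, as a short exact
sequence of `R/(x)`-modules. -/
theorem shortExact_mod {K' F K : Type u} [AddCommGroup K'] [Module R K'] [AddCommGroup F]
    [Module R F] [AddCommGroup K] [Module R K] (i : K' →ₗ[R] F) (π : F →ₗ[R] K)
    (hi : Function.Injective i) (hex : Function.Exact i π) (hπ : Function.Surjective π)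
    (hreg : IsSMulRegular K x) :
    (ModuleCat.shortComplexOfCompEqZero (modMap x i) (modMap x π)
      (modMap_comp_eq_zero x i π hex.linearMap_comp_eq_zero)).ShortExact := by
  apply ModuleCat.shortComplex_shortExact
  · exact QuotSMulTop.map_exact x hex hπ
  · have h0 : Function.Exact (0 : PUnit.{u+1} →ₗ[R] K') i := by
      intro y
      constructor
      · intro hy
        exact ⟨0, by simpa using (hi (by simpa using hy) : y = 0).symm⟩
      · rintro ⟨_, rfl⟩
        simp
    have := QuotSMulTop.map_first_exact_on_four_term_exact_of_isSMulRegular_last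
      (r := x) h0 hex hreg
    intro a b hab
    have h1 : QuotSMulTop.map x i (a - b) = 0 := by
      rw [map_sub]; exact sub_eq_zero.mpr hab
    obtain ⟨c, hc⟩ := (this (a - b)).mp h1
    have : c = 0 := Subsingleton.elim _ _
    rw [this, map_zero] at hc
    exact sub_eq_zero.mp hc.symm
  · exact QuotSMulTop.map_surjective x hπ

theorem isSMulRegular_of_free (hx : IsSMulRegular R x) (F : Type u) [AddCommGroup F] [Module R F]
    [Module.Flat R F] : IsSMulRegular F x := by
  apply Module.Flat.isSMulRegular_of_isRegular
  exact ⟨hx, by
    intro a b hab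
    apply hx
    simpa [mul_comm] using hab⟩

theorem projective_quotSMulTop (K : Type u) [AddCommGroup K] [Module R K] [Module.Projective R K] :
    Module.Projective (R ⧸ Ideal.span ({x} : Set R)) (QuotSMulTop x K) :=
  Module.Projective.of_equiv ((QuotSMulTop.equivQuotTensor x K).extendScalarsOfSurjective
    Ideal.Quotient.mk_surjective).symm

/-- Change of rings, going down: `pd_{R/x} (K/xK) ≤ pd_R K` if `x` is regular on `R` and `K`. -/
theorem hasProjectiveDimensionLT_quotSMulTop (hx : IsSMulRegular R x) :
    ∀ (n : ℕ) (K : Type u) [AddCommGroup K] [Module R K], IsSMulRegular K x →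
      HasProjectiveDimensionLT (ModuleCat.of R K) (n + 1) →
      HasProjectiveDimensionLT (ModuleCat.of (R ⧸ Ideal.span ({x} : Set R)) (QuotSMulTop x K))
        (n + 1) := by
  intro n
  induction n with
  | zero =>
    intro K _ _ hK h
    rw [zero_add, ← projective_iff_hasProjectiveDimensionLT_one] at h ⊢
    rw [← IsProjective.iff_projective] at h ⊢
    exact projective_quotSMulTop x K
  | succ n ih =>
    intro K _ _ hK h
    let π : (K →₀ R) →ₗ[R] K := Finsupp.linearCombination R id
    have hπ : Function.Surjective π := Finsupp.linearCombination_id_surjective R K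
    have hS := LinearMap.shortExact_shortComplexKer hπ
    have h1 : HasProjectiveDimensionLT π.shortComplexKer.X₁ (n + 1) :=
      hS.hasProjectiveDimensionLT_X₁ (n + 1)
        (by
          have : Projective π.shortComplexKer.X₂ :=
            (IsProjective.iff_projective (R := R) (K →₀ R)).mp inferInstance
          infer_instance) h
    have hFreg : IsSMulRegular (K →₀ R) x := isSMulRegular_of_free x hx _
    have hK'reg : IsSMulRegular (LinearMap.ker π) x := hFreg.submodule _ x
    have h2 := ih (LinearMap.ker π) hK'reg h1
    have hS' := shortExact_mod x (K' := LinearMap.ker π) (LinearMap.ker π).subtype π (Submodule.injective_subtype _)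
      (LinearMap.exact_subtype_ker_map π) hπ hK
    have hproj : Projective (ModuleCat.of (R ⧸ Ideal.span ({x} : Set R))
        (QuotSMulTop x (K →₀ R))) :=
      (IsProjective.iff_projective _).mp (projective_quotSMulTop x _)
    exact hS'.hasProjectiveDimensionLT_X₃ (n + 1) h2 inferInstance

end Basic

section Local

variable {R : Type u} [CommRing R] [IsLocalRing R] [IsNoetherianRing R] (x : R)

/-- Change of rings, going up: for finite modules over a Noetherian local ring and `x ∈ 𝔪` regular
on `K`, `pd_R K ≤ pd_{R/x} (K/xK)`. -/
theorem hasProjectiveDimensionLT_of_quotSMulTop (hxm : x ∈ maximalIdeal R)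
    (hx : IsSMulRegular R x) :
    ∀ (n : ℕ) (K : Type u) [AddCommGroup K] [Module R K] [Module.Finite R K], IsSMulRegular K x →
      HasProjectiveDimensionLT (ModuleCat.of (R ⧸ Ideal.span ({x} : Set R)) (QuotSMulTop x K))
        (n + 1) →
      HasProjectiveDimensionLT (ModuleCat.of R K) (n + 1) := by
  have hne : Ideal.span ({x} : Set R) ≠ ⊤ := by
    intro h
    have : (1 : R) ∈ Ideal.span ({x} : Set R) := by rw [h]; trivial
    obtain ⟨a, ha⟩ := Ideal.mem_span_singleton'.mp this
    exact (maximalIdeal.isMaximal R).ne_top
      ((Ideal.eq_top_iff_one _).mpr (ha ▸ Ideal.mul_mem_left _ a hxm))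
  have : Nontrivial (R ⧸ Ideal.span ({x} : Set R)) := Ideal.Quotient.nontrivial_iff.mpr hne
  have : IsLocalRing (R ⧸ Ideal.span ({x} : Set R)) :=
    IsLocalRing.of_surjective' (Ideal.Quotient.mk _) Ideal.Quotient.mk_surjective
  intro n
  induction n with
  | zero =>
    intro K _ _ _ hK h
    rw [zero_add, ← projective_iff_hasProjectiveDimensionLT_one] at h ⊢
    rw [← IsProjective.iff_projective] at h ⊢
    have : Module.Finite (R ⧸ Ideal.span ({x} : Set R)) (QuotSMulTop x K) :=
      Module.Finite.of_restrictScalars_finite R _ _
    have hfree : Module.Free (R ⧸ Ideal.span ({x} : Set R)) (QuotSMulTop x K) :=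
      Module.free_of_flat_of_isLocalRing
    have : Module.FinitePresentation R K := Module.finitePresentation_of_finite R K
    have := (Module.free_quotSMulTop_iff_free R K (x := x)
      (by rw [IsLocalRing.jacobson_eq_maximalIdeal _ bot_ne_top]; exact hxm) hK).mp hfree
    infer_instance
  | succ n ih =>
    intro K _ _ _ hK h
    obtain ⟨m, π, hπ⟩ := Module.Finite.exists_fin' R K
    have hS := LinearMap.shortExact_shortComplexKer hπ
    have hS' := shortExact_mod x (K' := LinearMap.ker π) (LinearMap.ker π).subtype π (Submodule.injective_subtype _)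
      (LinearMap.exact_subtype_ker_map π) hπ hK
    have hproj : Projective (ModuleCat.of (R ⧸ Ideal.span ({x} : Set R))
        (QuotSMulTop x (Fin m → R))) :=
      (IsProjective.iff_projective _).mp (projective_quotSMulTop x _)
    have h1 := hS'.hasProjectiveDimensionLT_X₁ (n + 1) inferInstance h
    have hFreg : IsSMulRegular (Fin m → R) x := isSMulRegular_of_free x hx _
    have hK'reg : IsSMulRegular (LinearMap.ker π) x := hFreg.submodule _ x
    have h2 := ih (LinearMap.ker π) hK'reg h1
    have hproj2 : Projective π.shortComplexKer.X₂ :=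
      (IsProjective.iff_projective (R := R) (Fin m → R)).mp inferInstance
    exact hS.hasProjectiveDimensionLT_X₃ (n + 1) h2 inferInstance

end Local

end Groth.Agent.H1.Reg
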