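import Mathlib
import Groth.Agent.Lib.Helper1.RegCR
import Groth.Agent.Lib.Helper7.Reg1

/-! Helper1: global dimension of regular local rings (Serre), via injective dimension and Baer. -/

set_option autoImplicit false

universe u

open CategoryTheory IsLocalRing Abelian Limits

namespace Groth.Agent.H1.Reg

section Baer

variable {R : Type u} [CommRing R]

/-- The short exact sequence `0 → I → R → R/I → 0` in `ModuleCat R`. -/
noncomputable def idealSC (I : Ideal R) : ShortComplex (ModuleCat.{u} R) :=
  ModuleCat.shortComplexOfCompEqZero (Submodule.subtype I) (Submodule.mkQ I) (by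
    ext ⟨y, hy⟩
    simpa using (Submodule.Quotient.mk_eq_zero I).mpr hy)

theorem idealSC_shortExact (I : Ideal R) : (idealSC I).ShortExact := by
  apply ModuleCat.shortComplex_shortExact
  · intro y
    constructor
    · intro hy
      exact ⟨⟨y, (Submodule.Quotient.mk_eq_zero I).mp hy⟩, rfl⟩
    · rintro ⟨⟨z, hz⟩, rfl⟩
      exact (Submodule.Quotient.mk_eq_zero I).mpr hz
  · exact Submodule.injective_subtype I
  · exact Submodule.mkQ_surjective I

/-- Baer's criterion in `Ext` form. -/
theorem injective_of_ext_one (N : ModuleCat.{u} R)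
    (h : ∀ I : Ideal R, Subsingleton (Ext (ModuleCat.of R (R ⧸ I)) N 1)) : Injective N := by
  have hB : Module.Baer R N := by
    intro I g
    have hS := idealSC_shortExact I
    have : Subsingleton (Ext (idealSC I).X₃ N 1) := h I
    let gN : (idealSC I).X₁ ⟶ N := ModuleCat.ofHom g
    obtain ⟨x₂, hx₂⟩ := Ext.contravariant_sequence_exact₁ hS N
      (Ext.mk₀ gN) (n₁ := 1) rfl (Subsingleton.elim _ _)
    obtain ⟨g', rfl⟩ := (Ext.mk₀_bijective _ _).2 x₂
    rw [Ext.mk₀_comp_mk₀] at hx₂
    have hx₃ := (Ext.mk₀_bijective _ _).1 hx₂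
    refine ⟨g'.hom, fun y hy => ?_⟩
    have := congrArg (fun φ => φ.hom ⟨y, hy⟩) hx₃
    exact this
  have : Module.Injective R N := hB.injective
  exact Module.injective_object_of_injective_module R N

/-- If `Ext^{n+1}(R/I, N) = 0` for all ideals `I`, then `N` has injective dimension `≤ n`. -/
theorem hasInjectiveDimensionLT_of_ext_cyclic (n : ℕ) : ∀ (N : ModuleCat.{u} R),
    (∀ I : Ideal R, Subsingleton (Ext (ModuleCat.of R (R ⧸ I)) N (n + 1))) →
    HasInjectiveDimensionLT N (n + 1) := by
  induction n with
  | zero =>
    intro N h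
    have := injective_of_ext_one N h
    infer_instance
  | succ n ih =>
    intro N h
    let ⟨p⟩ := EnoughInjectives.presentation N
    have hS : (ShortComplex.mk _ _ (cokernel.condition p.f)).ShortExact :=
      { exact := ShortComplex.exact_cokernel p.f }
    have h3 : HasInjectiveDimensionLT (ShortComplex.mk _ _ (cokernel.condition p.f)).X₃ (n + 1) := by
      apply ih
      intro I
      refine ⟨fun a b => ?_⟩
      suffices ∀ c : Ext (ModuleCat.of R (R ⧸ I)) (cokernel p.f) (n + 1), c = 0 by
        rw [this a, this b]
      intro c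
      have := h I
      obtain ⟨x₂, rfl⟩ := Ext.covariant_sequence_exact₃ _ hS c (n₁ := n + 1 + 1) rfl
        (Subsingleton.elim _ _)
      rw [Ext.eq_zero_of_injective x₂, Ext.zero_comp]
    exact (hS.hasInjectiveDimensionLT_X₃_iff n p.injective).mp h3

/-- If all cyclic modules have projective dimension `≤ n`, so do all modules. -/
theorem hasProjectiveDimensionLT_of_cyclic (n : ℕ)
    (h : ∀ I : Ideal R, HasProjectiveDimensionLT (ModuleCat.of R (R ⧸ I)) (n + 1))
    (M : ModuleCat.{u} R) : HasProjectiveDimensionLT M (n + 1) := by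
  apply hasProjectiveDimensionLT_of_enoughInjectives
  intro N
  have : HasInjectiveDimensionLT N (n + 1) :=
    hasInjectiveDimensionLT_of_ext_cyclic n N (fun I =>
      haveI := h I
      HasProjectiveDimensionLT.subsingleton (ModuleCat.of R (R ⧸ I)) (n + 1) (n + 1) le_rfl N)
  exact HasInjectiveDimensionLT.subsingleton N (n + 1) (n + 1) le_rfl M

end Baer

section Serre

/-- Finite modules over a regular local ring of dimension `d` have projective dimension `≤ d`. -/
theorem hasProjectiveDimensionLT_of_finite : ∀ (d : ℕ) (R : Type u) [CommRing R]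
    [IsRegularLocalRing R], ringKrullDim R = (d : WithBot ℕ∞) →
    ∀ (M : Type u) [AddCommGroup M] [Module R M] [Module.Finite R M],
      HasProjectiveDimensionLT (ModuleCat.of R M) (d + 1) := by
  intro d
  induction d with
  | zero =>
    intro R _ _ hd M _ _ _
    have h0 : (maximalIdeal R).spanFinrank = 0 :=
      Groth.Agent.H7.Reg.spanFinrank_eq_of_dim 0 hd
    have h1 : maximalIdeal R = ⊥ :=
      (Submodule.spanFinrank_eq_zero_iff_eq_bot (maximalIdeal R).fg_of_isNoetherianRing).mp h0
    have isf : IsField R := IsLocalRing.isField_iff_maximalIdeal_eq.mpr h1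
    have : Module.Free R M := by
      letI := isf.toField
      exact Module.Free.of_divisionRing R M
    have : Projective (ModuleCat.of R M) := (IsProjective.iff_projective M).mp inferInstance
    infer_instance
  | succ d ih =>
    intro R _ _ hd M _ _ _
    have hdom : IsDomain R := Groth.Agent.H7.Reg.isDomain R
    obtain ⟨x, hxm, hx2, -⟩ := Groth.Agent.H7.Reg.exists_parameter d (by exact_mod_cast hd)
    obtain ⟨hreg, hdim⟩ := Groth.Agent.H7.Reg.quotient_regular x hxm hx2 d
      (by exact_mod_cast hd)
    have hx0 : x ≠ 0 := by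
      intro h
      apply hx2
      rw [h]
      exact Ideal.zero_mem _
    have hxreg : IsSMulRegular R x := by
      rw [isSMulRegular_iff_right_eq_zero_of_smul]
      intro y hy
      rw [smul_eq_mul] at hy
      exact (mul_eq_zero.mp hy).resolve_left hx0
    obtain ⟨m, π, hπ⟩ := Module.Finite.exists_fin' R M
    have hS := LinearMap.shortExact_shortComplexKer hπ
    have hFreg : IsSMulRegular (Fin m → R) x := isSMulRegular_of_free x hxreg _
    have hKreg : IsSMulRegular (LinearMap.ker π) x := hFreg.submodule _ x
    have : Module.Finite (R ⧸ Ideal.span ({x} : Set R)) (QuotSMulTop x (LinearMap.ker π)) :=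
      Module.Finite.of_restrictScalars_finite R _ _
    have h1 := ih (R ⧸ Ideal.span ({x} : Set R)) hdim (QuotSMulTop x (LinearMap.ker π))
    have h2 := hasProjectiveDimensionLT_of_quotSMulTop x hxm hxreg d (LinearMap.ker π) hKreg h1
    have hproj2 : Projective π.shortComplexKer.X₂ :=
      (IsProjective.iff_projective (R := R) (Fin m → R)).mp inferInstance
    exact hS.hasProjectiveDimensionLT_X₃ (d + 1) h2 inferInstance

/-- **Serre** (S0563): every module over a regular local ring of dimension `d` has projective
dimension `≤ d`. -/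
theorem hasProjectiveDimensionLT_of_isRegularLocalRing (R : Type u) [CommRing R]
    [IsRegularLocalRing R] (d : ℕ) (hd : ringKrullDim R = d) (M : ModuleCat.{u} R) :
    HasProjectiveDimensionLT M (d + 1) := by
  apply hasProjectiveDimensionLT_of_cyclic
  intro I
  exact hasProjectiveDimensionLT_of_finite d R hd (R ⧸ I)

end Serre

end Groth.Agent.H1.Reg
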