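import Mathlib

namespace Groth.Agent.H1.CompleteNoeth

open MvPolynomial

section poly

variable {σ R : Type*} [CommSemiring R]

attribute [local instance] MvPolynomial.gradedAlgebra in
lemma homogeneousComponent_mul_right (φ ψ : MvPolynomial σ R) {d : ℕ} (hψ : ψ.IsHomogeneous d)
    (n : ℕ) :
    homogeneousComponent n (φ * ψ) =
      if d ≤ n then homogeneousComponent (n - d) φ * ψ else 0 := by
  have hmem : ψ ∈ homogeneousSubmodule σ R d := hψ
  split_ifs with h
  · have := DirectSum.coe_decompose_mul_of_right_mem_of_le (homogeneousSubmodule σ R)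
      (a := φ) (b := ψ) (n := n) hmem h
    simpa [← decomposition.decompose'_apply] using this
  · have := DirectSum.coe_decompose_mul_of_right_mem_of_not_le (homogeneousSubmodule σ R)
      (a := φ) (b := ψ) (n := n) hmem h
    simpa [← decomposition.decompose'_apply] using this

lemma map_homogeneousComponent {S : Type*} [CommSemiring S] (f : R →+* S) (n : ℕ)
    (p : MvPolynomial σ R) :
    MvPolynomial.map f (homogeneousComponent n p) = homogeneousComponent n (MvPolynomial.map f p) := by
  ext m
  simp only [coeff_map, coeff_homogeneousComponent]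
  split_ifs <;> simp

lemma exists_isHomogeneous_map_eq {S : Type*} [CommSemiring S] (f : R →+* S)
    (hf : Function.Surjective f) {n : ℕ} (p : MvPolynomial σ S) (hp : p.IsHomogeneous n) :
    ∃ P : MvPolynomial σ R, P.IsHomogeneous n ∧ MvPolynomial.map f P = p := by
  obtain ⟨P, rfl⟩ := MvPolynomial.map_surjective f hf p
  refine ⟨homogeneousComponent n P, homogeneousComponent_isHomogeneous n P, ?_⟩
  rw [map_homogeneousComponent, homogeneousComponent_of_mem hp, if_pos rfl]

end poly

variable {A : Type*} [CommRing A]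

lemma eval_mem_pow_succ {ι : Type*} (x : ι → A) (I : Ideal A)
    (hx : Ideal.span (Set.range x) ≤ I) {n : ℕ} (F : MvPolynomial ι A) (hF : F.IsHomogeneous n)
    (hc : ∀ m, coeff m F ∈ I) : eval x F ∈ I ^ (n + 1) := by
  classical
  rw [eval_eq]
  refine Ideal.sum_mem _ fun v hv => ?_
  rw [pow_succ']
  refine Ideal.mul_mem_mul (hc v) ?_
  have hdeg : v.degree = n := by
    by_contra hne
    exact (mem_support_iff.mp hv) (hF.coeff_eq_zero hne)
  refine Ideal.pow_right_mono hx n ?_
  rw [Ideal.mem_span_pow_iff_exists_isHomogeneous]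
  exact ⟨monomial v 1, isHomogeneous_monomial 1 hdeg, by simp [eval_monomial, Finsupp.prod]⟩


lemma pow_le_span_pow_sup {ι : Type*} (x : ι → A) (I : Ideal A)
    (hle : I ≤ Ideal.span (Set.range x) ⊔ I ^ 2) (hxI : Ideal.span (Set.range x) ≤ I) (n : ℕ) :
    I ^ n ≤ Ideal.span (Set.range x) ^ n ⊔ I ^ (n + 1) := by
  induction n with
  | zero => simp
  | succ n ih =>
    calc I ^ (n + 1) = I ^ n * I := pow_succ _ _
      _ ≤ (Ideal.span (Set.range x) ^ n ⊔ I ^ (n + 1)) * (Ideal.span (Set.range x) ⊔ I ^ 2) :=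
        Ideal.mul_mono ih hle
      _ ≤ Ideal.span (Set.range x) ^ (n + 1) ⊔ I ^ (n + 1 + 1) := by
        rw [Ideal.sup_mul, Ideal.mul_sup, Ideal.mul_sup]
        refine sup_le (sup_le ?_ ?_) (sup_le ?_ ?_)
        · rw [← pow_succ]; exact le_sup_left
        · refine le_trans ?_ le_sup_right
          calc Ideal.span (Set.range x) ^ n * I ^ 2 ≤ I ^ n * I ^ 2 :=
                Ideal.mul_mono (Ideal.pow_right_mono hxI n) le_rfl
            _ = I ^ (n + 1 + 1) := by rw [← pow_add]
        · refine le_trans ?_ le_sup_right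
          calc I ^ (n + 1) * Ideal.span (Set.range x) ≤ I ^ (n + 1) * I :=
                Ideal.mul_mono le_rfl hxI
            _ = I ^ (n + 1 + 1) := by rw [← pow_succ]
        · refine le_trans ?_ le_sup_right
          rw [← pow_add]
          exact Ideal.pow_le_pow_right (by omega)

/-- A ring complete with respect to an ideal `I` which is generated modulo `I ^ 2` by finitely
many elements, with `A ⧸ I` Noetherian, is Noetherian. -/
theorem isNoetherianRing_of_isAdicComplete' (I : Ideal A) [IsAdicComplete I A]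
    {s : Type*} [Finite s] (x : s → A) (hxI : ∀ i, x i ∈ I)
    (hle : I ≤ Ideal.span (Set.range x) ⊔ I ^ 2)
    [IsNoetherianRing (A ⧸ I)] : IsNoetherianRing A := by
  classical
  have hx : Ideal.span (Set.range x) ≤ I := by
    rw [Ideal.span_le]; rintro _ ⟨i, rfl⟩; exact hxI i
  let q : MvPolynomial s A →+* MvPolynomial s (A ⧸ I) := MvPolynomial.map (Ideal.Quotient.mk I)
  rw [isNoetherianRing_iff_ideal_fg]
  intro J
  let S : Set (MvPolynomial s (A ⧸ I)) := {p | ∃ (n : ℕ) (F : MvPolynomial s A),
    F.IsHomogeneous n ∧ q F = p ∧ ∃ g ∈ J, eval x F - g ∈ I ^ (n + 1)}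
  have hfg : (Ideal.span S).FG := IsNoetherian.noetherian _
  obtain ⟨T, hTS, hT⟩ := (Submodule.fg_span_iff_fg_span_finset_subset S).mp hfg
  choose! d F hFhom hqF g hgJ hFg using (fun t (ht : t ∈ T) => hTS ht)
  refine ⟨T.image g, le_antisymm ?_ ?_⟩
  · rw [Ideal.span_le]
    intro y hy
    simp only [Finset.coe_image, Set.mem_image, Finset.mem_coe] at hy
    obtain ⟨t, ht, rfl⟩ := hy
    exact hgJ t ht
  have hpow : ∀ (k : ℕ) (C : MvPolynomial s A), C.IsHomogeneous k → eval x C ∈ I ^ k := by
    intro k C hC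
    have := (Ideal.mem_span_pow_iff_exists_isHomogeneous x (eval x C)).mpr ⟨C, hC, rfl⟩
    exact Ideal.pow_right_mono hx k this
  -- the step
  have step : ∀ n (y : A), y ∈ J → y ∈ I ^ n → ∃ a : MvPolynomial s (A ⧸ I) → A,
      (∀ t ∈ T, a t ∈ I ^ (n - d t)) ∧ y - ∑ t ∈ T, a t * g t ∈ I ^ (n + 1) := by
    intro n y hyJ hyn
    obtain ⟨y₀, hy₀, e, he, hy⟩ := Submodule.mem_sup.mp (pow_le_span_pow_sup x I hle hx n hyn)
    rw [Ideal.mem_span_pow_iff_exists_isHomogeneous] at hy₀
    obtain ⟨G, hG, rfl⟩ := hy₀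
    have hqG : q G ∈ Ideal.span S :=
      Ideal.subset_span ⟨n, G, hG, rfl, y, hyJ, by
        rw [← hy, sub_add_cancel_left]; exact (Ideal.neg_mem_iff _).mpr he⟩
    rw [Ideal.span, hT, Submodule.mem_span_finset] at hqG
    obtain ⟨c, -, hc⟩ := hqG
    -- homogeneous coefficients
    have hlift : ∀ t, ∃ C : MvPolynomial s A, C.IsHomogeneous (n - d t) ∧
        q C = (if d t ≤ n then homogeneousComponent (n - d t) (c t) else 0) ∧
        (¬ d t ≤ n → C = 0) := by
      intro t
      by_cases h : d t ≤ n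
      · obtain ⟨C, hC, hqC⟩ := exists_isHomogeneous_map_eq (Ideal.Quotient.mk I)
          Ideal.Quotient.mk_surjective _ (homogeneousComponent_isHomogeneous (n - d t) (c t))
        exact ⟨C, hC, by rw [if_pos h]; exact hqC, fun h' => absurd h h'⟩
      · exact ⟨0, isHomogeneous_zero _ _ _, by simp [h], fun _ => rfl⟩
    choose C hChom hqC hC0 using hlift
    let D : MvPolynomial s A := G - ∑ t ∈ T, C t * F t
    have hDhom : D.IsHomogeneous n := by
      refine hG.sub (IsHomogeneous.sum _ _ _ fun t ht => ?_)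
      by_cases h : d t ≤ n
      · have := (hChom t).mul (hFhom t ht)
        rwa [Nat.sub_add_cancel h] at this
      · rw [hC0 t h, zero_mul]; exact isHomogeneous_zero s A n
    have hqD : q D = 0 := by
      have h1 : q G = homogeneousComponent n (q G) := by
        rw [homogeneousComponent_of_mem (hG.map (Ideal.Quotient.mk I)), if_pos rfl]
      simp only [D, map_sub, map_sum, map_mul]
      rw [sub_eq_zero, h1, ← hc, map_sum]
      refine Finset.sum_congr rfl fun t ht => ?_
      have ht' : t.IsHomogeneous (d t) := by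
        have h2 := (hFhom t ht).map (Ideal.Quotient.mk I)
        rwa [show MvPolynomial.map (Ideal.Quotient.mk I) (F t) = t from hqF t ht] at h2
      rw [smul_eq_mul, homogeneousComponent_mul_right _ _ ht', hqC t, hqF t ht]
      split_ifs <;> simp
    have hDI : ∀ m, coeff m D ∈ I := by
      intro m
      have := congrArg (coeff m) hqD
      simpa [q, coeff_map, Ideal.Quotient.eq_zero_iff_mem] using this
    have hevD := eval_mem_pow_succ x I hx D hDhom hDI
    refine ⟨fun t => eval x (C t), fun t _ => ?_, ?_⟩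
    · exact hpow _ _ (hChom t)
    · have : y - ∑ t ∈ T, eval x (C t) * g t =
          e + (eval x D + ∑ t ∈ T, eval x (C t) * (eval x (F t) - g t)) := by
        simp only [D, map_sub, map_sum, map_mul, mul_sub, Finset.sum_sub_distrib, ← hy]
        ring
      rw [this]
      refine Ideal.add_mem _ he (Ideal.add_mem _ hevD (Ideal.sum_mem _ fun t ht => ?_))
      by_cases h : d t ≤ n
      · have h1 : eval x (C t) ∈ I ^ (n - d t) := hpow _ _ (hChom t)
        have h2 := Ideal.mul_mem_mul h1 (hFg t ht)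
        rw [← pow_add] at h2
        have : n - d t + (d t + 1) = n + 1 := by omega
        rwa [this] at h2
      · rw [hC0 t h]; simp
  intro y hy
  -- successive approximation
  let P : ℕ → (MvPolynomial s (A ⧸ I) → A) → Prop := fun n u => y - ∑ t ∈ T, u t * g t ∈ I ^ n
  let D := T.sup d
  have step' : ∀ n (u : {u // P n u}), ∃ u' : {u // P (n + 1) u},
      ∀ t ∈ T, u'.1 t - u.1 t ∈ I ^ (n - D) := by
    rintro n ⟨u, hu⟩
    have hJ : y - ∑ t ∈ T, u t * g t ∈ J :=
      J.sub_mem hy (Ideal.sum_mem _ fun t ht => J.mul_mem_left _ (hgJ t ht))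
    obtain ⟨a, ha, ha'⟩ := step n _ hJ hu
    refine ⟨⟨u + a, ?_⟩, fun t ht => ?_⟩
    · show y - ∑ t ∈ T, (u + a) t * g t ∈ I ^ (n + 1)
      have : y - ∑ t ∈ T, (u + a) t * g t = y - ∑ t ∈ T, u t * g t - ∑ t ∈ T, a t * g t := by
        simp only [Pi.add_apply, add_mul, Finset.sum_add_distrib]; ring
      rw [this]; exact ha'
    · simp only [Pi.add_apply, add_sub_cancel_left]
      exact Ideal.pow_le_pow_right (Nat.sub_le_sub_left (Finset.le_sup ht) n) (ha t ht)
  choose nxt hnxt using step'
  let seq : ∀ n, {u // P n u} := fun n => Nat.rec ⟨0, by simp [P]⟩ (fun n u => nxt n u) n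
  have hseq : ∀ n, seq (n + 1) = nxt n (seq n) := fun n => rfl
  have hcauchy : ∀ t ∈ T, ∀ m n, m ≤ n → (seq (n + D)).1 t - (seq (m + D)).1 t ∈ I ^ m := by
    intro t ht m n hmn
    induction n, hmn using Nat.le_induction with
    | base => simp
    | succ n hmn ih =>
      have h1 := hnxt (n + D) (seq (n + D)) t ht
      rw [← hseq, Nat.add_sub_cancel] at h1
      have h2 : (seq (n + 1 + D)).1 t - (seq (m + D)).1 t =
          ((seq (n + D + 1)).1 t - (seq (n + D)).1 t) + ((seq (n + D)).1 t - (seq (m + D)).1 t) := by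
        rw [show n + 1 + D = n + D + 1 by omega]; ring
      rw [h2]
      exact Ideal.add_mem _ (Ideal.pow_le_pow_right hmn h1) ih
  have hlim : ∀ t ∈ T, ∃ b : A, ∀ n, (seq (n + D)).1 t - b ∈ I ^ n := by
    intro t ht
    obtain ⟨b, hb⟩ := IsPrecomplete.prec' (I := I) (M := A) (f := fun n => (seq (n + D)).1 t)
      (by
        intro m n hmn
        rw [SModEq.sub_mem, smul_eq_mul, Ideal.mul_top]
        have := hcauchy t ht m n hmn
        rw [← neg_sub]
        exact Ideal.neg_mem_iff _ |>.mpr this)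
    refine ⟨b, fun n => ?_⟩
    have := hb n
    rwa [SModEq.sub_mem, smul_eq_mul, Ideal.mul_top] at this
  choose! b hb using hlim
  have hzero : y - ∑ t ∈ T, b t * g t = 0 := by
    apply IsHausdorff.haus' (I := I) (M := A)
    intro n
    rw [SModEq.sub_mem, sub_zero, smul_eq_mul, Ideal.mul_top]
    have h1 : y - ∑ t ∈ T, b t * g t = (y - ∑ t ∈ T, (seq (n + D)).1 t * g t) +
        ∑ t ∈ T, ((seq (n + D)).1 t - b t) * g t := by
      simp only [sub_mul, Finset.sum_sub_distrib]; ring
    rw [h1]
    refine Ideal.add_mem _ (Ideal.pow_le_pow_right (Nat.le_add_right n D) (seq (n + D)).2)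
      (Ideal.sum_mem _ fun t ht => Ideal.mul_mem_right _ _ (hb t ht n))
  rw [sub_eq_zero] at hzero
  rw [hzero]
  exact Ideal.sum_mem _ fun t ht => Ideal.mul_mem_left _ _
    (Ideal.subset_span (Finset.mem_coe.mpr (Finset.mem_image_of_mem g ht)))


/-- A ring complete with respect to a finitely generated ideal `I` with `A ⧸ I` Noetherian is
Noetherian. -/
theorem isNoetherianRing_of_isAdicComplete (I : Ideal A) [IsAdicComplete I A] (hI : I.FG)
    [IsNoetherianRing (A ⧸ I)] : IsNoetherianRing A := by
  classical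
  obtain ⟨s, hs⟩ := hI
  have hx : Ideal.span (Set.range (Subtype.val : s → A)) = I := by
    rw [← hs]; congr 1; simp
  refine isNoetherianRing_of_isAdicComplete' I (Subtype.val : s → A) (fun i => ?_) ?_
  · rw [← hs]; exact Ideal.subset_span i.2
  · rw [hx]; exact le_sup_left

end Groth.Agent.H1.CompleteNoeth
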