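import Mathlib

/-!
# Coefficient fields in residue characteristic zero (helper1)

A henselian local ring whose residue field has characteristic zero has a coefficient field.
-/

universe u
open IsLocalRing Polynomial

namespace Groth.Agent.H1.CoeffField

variable (R : Type u) [CommRing R] [IsLocalRing R]

/-- Subrings meeting the maximal ideal trivially. -/
def Good (S : Subring R) : Prop := ∀ x ∈ S, x ∈ maximalIdeal R → x = 0

variable {R}

theorem good_bot [CharZero (ResidueField R)] : Good R ⊥ := by
  intro x hx hxm
  obtain ⟨n, rfl⟩ := Subring.mem_bot.mp hx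
  have h1 : residue R (n : R) = 0 := (residue_eq_zero_iff _).mpr hxm
  rw [map_intCast] at h1
  have : n = 0 := by exact_mod_cast h1
  rw [this, Int.cast_zero]

theorem exists_maximal [CharZero (ResidueField R)] :
    ∃ S : Subring R, Good R S ∧ ∀ T : Subring R, Good R T → S ≤ T → T = S := by
  have := zorn_le_nonempty₀ {S : Subring R | Good R S} ?_ ⊥ good_bot
  · obtain ⟨S, _, hS⟩ := this
    exact ⟨S, hS.prop, fun T hT hST => le_antisymm (hS.le_of_ge hT hST) hST⟩
  · intro c hc hchain y hy
    haveI : Nonempty c := ⟨⟨y, hy⟩⟩
    have hdir : Directed (· ≤ ·) (fun i : c => (i : Subring R)) :=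
      hchain.directedOn.directed_val
    refine ⟨⨆ i : c, (i : Subring R), ?_, fun z hz => le_iSup (fun i : c => (i : Subring R)) ⟨z, hz⟩⟩
    intro x hx hxm
    obtain ⟨i, hi⟩ := (Subring.mem_iSup_of_directed hdir).mp hx
    exact hc i.2 x hi hxm

/-- A maximal good subring is closed under inverses of its nonzero elements. -/
theorem exists_inv_of_maximal {S : Subring R} (hS : Good R S)
    (hmax : ∀ T : Subring R, Good R T → S ≤ T → T = S) {x : R} (hx : x ∈ S) (hx0 : x ≠ 0) :
    ∃ y ∈ S, x * y = 1 := by
  have hxu : IsUnit x := by
    by_contra h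
    exact hx0 (hS x hx ((mem_maximalIdeal x).mpr h))
  obtain ⟨y, hy⟩ := hxu.exists_right_inv
  refine ⟨y, ?_, hy⟩
  -- the subring of elements `z` with `z * x ^ n ∈ S` for some `n`
  let T : Subring R :=
    { carrier := {z | ∃ n : ℕ, z * x ^ n ∈ S}
      mul_mem' := by
        rintro a b ⟨n, ha⟩ ⟨m, hb⟩
        refine ⟨n + m, ?_⟩
        have : a * b * x ^ (n + m) = (a * x ^ n) * (b * x ^ m) := by ring
        rw [this]; exact S.mul_mem ha hb
      one_mem' := ⟨0, by simpa using S.one_mem⟩
      add_mem' := by
        rintro a b ⟨n, ha⟩ ⟨m, hb⟩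
        refine ⟨n + m, ?_⟩
        have : (a + b) * x ^ (n + m) = (a * x ^ n) * x ^ m + (b * x ^ m) * x ^ n := by ring
        rw [this]
        exact S.add_mem (S.mul_mem ha (S.pow_mem hx m)) (S.mul_mem hb (S.pow_mem hx n))
      zero_mem' := ⟨0, by simpa using S.zero_mem⟩
      neg_mem' := by
        rintro a ⟨n, ha⟩
        exact ⟨n, by rw [neg_mul]; exact S.neg_mem ha⟩ }
  have hST : S ≤ T := fun z hz => ⟨0, by simpa using hz⟩
  have hT : Good R T := by
    rintro z ⟨n, hz⟩ hzm
    have h1 : z * x ^ n = 0 := hS _ hz (Ideal.mul_mem_right _ _ hzm)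
    have h2 : IsUnit (x ^ n) := hxu.pow n
    exact (h2.mul_left_eq_zero).mp h1
  have hyT : y ∈ T := ⟨1, by rw [pow_one, mul_comm, hy]; exact S.one_mem⟩
  rw [← hmax T hT hST]
  exact hyT

/-- Key step: over a field `K` of characteristic zero inside a henselian local ring `R`, every
element of the residue field has a lift `a` such that every polynomial relation over `K` satisfied
by the residue class is satisfied by `a`. -/
theorem exists_lift (K : Type*) [Field K] [CharZero K] [Algebra K R]
    [HenselianRing R (maximalIdeal R)] (x : ResidueField R) :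
    ∃ a : R, residue R a = x ∧ ∀ p : K[X], aeval x p = 0 → aeval a p = 0 := by
  have hres : ∀ (a : R) (p : K[X]), residue R (aeval a p) = aeval (residue R a) p := by
    intro a p
    have := Polynomial.aeval_algHom_apply (IsScalarTower.toAlgHom K R (ResidueField R)) a p
    exact this.symm
  by_cases halg : IsAlgebraic K x
  · -- algebraic case: Hensel
    have hint : IsIntegral K x := halg.isIntegral
    set f := minpoly K x with hf
    have hmonic : f.Monic := minpoly.monic hint
    have hsep : f.Separable := (minpoly.irreducible hint).separable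
    obtain ⟨a₀, ha₀⟩ := residue_surjective x
    set F := f.map (algebraMap K R) with hF
    have hFm : F.Monic := hmonic.map _
    have hev : ∀ (g : K[X]) (b : R), (g.map (algebraMap K R)).eval b = aeval b g := by
      intro g b
      rw [Polynomial.eval_map, Polynomial.aeval_def]
    have h1 : F.eval a₀ ∈ maximalIdeal R := by
      rw [← residue_eq_zero_iff, hF, hev, hres, ha₀, hf, minpoly.aeval]
    have h2 : IsUnit (Ideal.Quotient.mk (maximalIdeal R) (F.derivative.eval a₀)) := by
      have h3 : residue R (F.derivative.eval a₀) ≠ 0 := by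
        rw [hF, Polynomial.derivative_map, hev, hres, ha₀]
        exact hsep.aeval_derivative_ne_zero (minpoly.aeval K x)
      exact isUnit_iff_ne_zero.mpr h3
    obtain ⟨a, hroot, haa⟩ := HenselianRing.is_henselian F hFm a₀ h1 h2
    have hax : residue R a = x := by
      rw [← ha₀, ← sub_eq_zero, ← map_sub, residue_eq_zero_iff]
      exact haa
    refine ⟨a, hax, fun p hp => ?_⟩
    obtain ⟨g, rfl⟩ := minpoly.dvd K x hp
    have : aeval a f = 0 := by
      rw [← hev]; exact hroot
    rw [map_mul, this, zero_mul]
  · -- transcendental case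
    obtain ⟨a, ha⟩ := residue_surjective x
    refine ⟨a, ha, fun p hp => ?_⟩
    have : p = 0 := by
      by_contra hp0
      exact halg ⟨p, hp0, hp⟩
    rw [this, map_zero]

variable (R) in
/-- A henselian local ring with residue field of characteristic zero has a coefficient field. -/
theorem exists_section [HenselianRing R (maximalIdeal R)] [CharZero (ResidueField R)] :
    ∃ s : ResidueField R →+* R, (residue R).comp s = RingHom.id _ := by
  classical
  obtain ⟨S, hS, hmax⟩ := exists_maximal (R := R)
  have hfield : IsField S :=
    { exists_pair_ne := ⟨0, 1, fun h => zero_ne_one (congrArg Subtype.val h)⟩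
      mul_comm := mul_comm
      mul_inv_cancel := by
        rintro ⟨a, ha⟩ ha0
        obtain ⟨y, hy, hay⟩ := exists_inv_of_maximal hS hmax ha
          (fun h => ha0 (Subtype.ext h))
        exact ⟨⟨y, hy⟩, Subtype.ext hay⟩ }
  letI : Field S := hfield.toField
  haveI : CharZero R := RingHom.charZero (residue R)
  haveI : CharZero S := RingHom.charZero S.subtype
  have hinj : Function.Injective ((residue R).comp S.subtype) := by
    rw [injective_iff_map_eq_zero]
    intro x hx
    have := hS x x.2 ((residue_eq_zero_iff _).mp hx)
    exact Subtype.ext this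
  have hsurj : Function.Surjective ((residue R).comp S.subtype) := by
    intro x
    obtain ⟨a, hax, ha⟩ := exists_lift S x
    -- the subring generated by S and a
    let T : Subring R := (Algebra.adjoin S {a}).toSubring
    have hST : S ≤ T := fun z hz => (Algebra.adjoin S {a}).algebraMap_mem ⟨z, hz⟩
    have hT : Good R T := by
      intro z hz hzm
      have hz' : z ∈ Algebra.adjoin S {a} := hz
      rw [Algebra.adjoin_singleton_eq_range_aeval] at hz'
      obtain ⟨p, rfl⟩ := hz'
      apply ha
      have h1 : residue R (aeval a p) = 0 := (residue_eq_zero_iff _).mpr hzm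
      have h2 := Polynomial.aeval_algHom_apply (IsScalarTower.toAlgHom S R (ResidueField R)) a p
      rw [← hax]
      exact h2.trans h1
    have hTS := hmax T hT hST
    have haS : a ∈ S := by
      rw [← hTS]
      exact Algebra.subset_adjoin (Set.mem_singleton a)
    exact ⟨⟨a, haS⟩, hax⟩
  let e := RingEquiv.ofBijective ((residue R).comp S.subtype) ⟨hinj, hsurj⟩
  refine ⟨S.subtype.comp e.symm.toRingHom, ?_⟩
  ext x
  obtain ⟨y, rfl⟩ := e.surjective x
  simp only [RingHom.comp_apply, RingEquiv.toRingHom_eq_coe, RingHom.coe_coe,
    RingEquiv.symm_apply_apply, RingHom.id_apply]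
  rfl

end Groth.Agent.H1.CoeffField
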