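import Mathlib
open IsLocalRing

/-! Helper1: regular local rings. -/


namespace Groth.Agent.H1

theorem isRegularLocalRing_of_quotient_span_singleton (R : Type*) [CommRing R] [IsLocalRing R]
    [IsNoetherianRing R] (x : R) (hx : x ∈ maximalIdeal R) (hreg : x ∈ nonZeroDivisors R)
    [h : IsRegularLocalRing (R ⧸ Ideal.span ({x} : Set R))] : IsRegularLocalRing R := by
  classical
  apply IsRegularLocalRing.of_spanFinrank_maximalIdeal_le
  have hdim := ringKrullDim_quotient_succ_le_of_nonZeroDivisor hreg
  obtain ⟨s, hs₁, hs₂⟩ := Submodule.FG.exists_span_finset_card_eq_spanFinrank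
    (maximalIdeal (R ⧸ Ideal.span ({x} : Set R))).fg_of_isNoetherianRing
  have hsurj : Function.Surjective (Ideal.Quotient.mk (Ideal.span ({x} : Set R))) :=
    Ideal.Quotient.mk_surjective
  let t : Finset R := s.image (Function.surjInv hsurj)
  have hmk_t : (Ideal.Quotient.mk (Ideal.span ({x} : Set R))) '' (t : Set R) = (s : Set _) := by
    ext y
    simp only [t, Finset.coe_image, Set.mem_image, Finset.mem_coe]
    constructor
    · rintro ⟨_, ⟨z, hz, rfl⟩, rfl⟩
      rwa [Function.surjInv_eq hsurj]
    · intro hy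
      exact ⟨_, ⟨y, hy, rfl⟩, Function.surjInv_eq hsurj y⟩
  have hmap : Ideal.map (Ideal.Quotient.mk (Ideal.span ({x} : Set R))) (Ideal.span (t : Set R)) =
      maximalIdeal _ := by
    rw [Ideal.map_span, hmk_t]
    exact hs₂
  have hlocal : IsLocalHom (Ideal.Quotient.mk (Ideal.span ({x} : Set R))) :=
    hsurj.isLocalHom _
  have hcomap : Ideal.comap (Ideal.Quotient.mk (Ideal.span ({x} : Set R))) (maximalIdeal _) =
      maximalIdeal R := by
    ext y
    simp only [Ideal.mem_comap, mem_maximalIdeal, mem_nonunits_iff]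
    exact not_congr (isUnit_map_iff _ _)
  have ht : Ideal.span ((t : Set R) ∪ {x}) = maximalIdeal R := by
    rw [Ideal.span_union, ← hcomap, ← hmap, Ideal.comap_map_of_surjective _ hsurj,
      ← RingHom.ker_eq_comap_bot, Ideal.mk_ker]
  have hcard : (maximalIdeal R).spanFinrank ≤ s.card + 1 := by
    rw [← ht]
    refine (Submodule.spanFinrank_span_le_ncard_of_finite
      ((Finset.finite_toSet t).union (Set.finite_singleton x))).trans ?_
    refine (Set.ncard_union_le _ _).trans ?_
    rw [Set.ncard_singleton, Set.ncard_coe_finset]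
    exact Nat.add_le_add_right Finset.card_image_le 1
  have h1 : ((maximalIdeal (R ⧸ Ideal.span ({x} : Set R))).spanFinrank : WithBot ℕ∞) =
      ringKrullDim (R ⧸ Ideal.span ({x} : Set R)) := h.spanFinrank_maximalIdeal
  calc ((maximalIdeal R).spanFinrank : WithBot ℕ∞) ≤ ((s.card + 1 : ℕ) : WithBot ℕ∞) := by
        exact_mod_cast hcard
    _ = ringKrullDim (R ⧸ Ideal.span ({x} : Set R)) + 1 := by
        rw [← h1, hs₁]; norm_cast
    _ ≤ ringKrullDim R := hdim

end Groth.Agent.H1
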