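import Mathlib
import Groth.Agent.Lib.Helper1.RegCR
import Groth.Agent.Lib.Helper1.RegGlobal
import Groth.Agent.Lib.Helper1.Regular

/-! Helper1: Serre's converse: a Noetherian local ring whose residue field has finite projective
dimension is regular. -/

set_option autoImplicit false

universe u

open CategoryTheory IsLocalRing Pointwise TensorProduct

namespace Groth.Agent.H1.Reg

section DepthZero

variable {R : Type u} [CommRing R] [IsLocalRing R]

theorem smul_eq_zero_of_mem_smul_top (a : R) (ham : ∀ y ∈ maximalIdeal R, y * a = 0)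
    {F : Type u} [AddCommGroup F] [Module R F] (y : F)
    (hy : y ∈ (maximalIdeal R) • (⊤ : Submodule R F)) : a • y = 0 := by
  refine Submodule.smul_induction_on hy ?_ ?_
  · intro r hr f _
    rw [← mul_smul, mul_comm, ham r hr, zero_smul]
  · intro y z hy hz
    rw [smul_add, hy, hz, add_zero]

theorem tmul_eq_zero_iff {F : Type u} [AddCommGroup F] [Module R F] (y : F) :
    (1 : ResidueField R) ⊗ₜ[R] y = 0 ↔ y ∈ (maximalIdeal R) • (⊤ : Submodule R F) := by
  have h := quotTensorEquivQuotSMul_mk_one_tmul (M := F) (maximalIdeal R) y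
  constructor
  · intro h0
    have h1 : (1 : R ⧸ maximalIdeal R) ⊗ₜ[R] y = 0 := h0
    rw [h1, map_zero] at h
    exact (Submodule.Quotient.mk_eq_zero _).mp h.symm
  · intro hy
    have h1 : (1 : R ⧸ maximalIdeal R) ⊗ₜ[R] y = 0 := by
      apply (quotTensorEquivQuotSMul F (maximalIdeal R)).injective
      rw [h, map_zero]
      exact (Submodule.Quotient.mk_eq_zero _).mpr hy
    exact h1

/-- Over a local ring of depth zero (witnessed by `a ≠ 0` with `𝔪 a = 0`), an injective map
out of a free module stays injective after tensoring with the residue field. -/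
theorem lTensor_residueField_injective_of_annihilator (a : R) (ha : a ≠ 0)
    (ham : ∀ y ∈ maximalIdeal R, y * a = 0)
    {K F : Type u} [AddCommGroup K] [Module R K] [Module.Free R K] [AddCommGroup F] [Module R F]
    (i : K →ₗ[R] F) (hi : Function.Injective i) :
    Function.Injective (i.lTensor (ResidueField R)) := by
  rw [injective_iff_map_eq_zero]
  intro t ht
  obtain ⟨k, rfl⟩ := TensorProduct.mk_surjective R K (ResidueField R)
    Ideal.Quotient.mk_surjective t
  rw [TensorProduct.mk_apply, LinearMap.lTensor_tmul, tmul_eq_zero_iff] at ht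
  rw [TensorProduct.mk_apply, tmul_eq_zero_iff]
  have h1 : i (a • k) = 0 := by
    rw [map_smul]
    exact smul_eq_zero_of_mem_smul_top a ham _ ht
  have h2 : a • k = 0 := hi (by rw [h1, map_zero])
  let b := Module.Free.chooseBasis R K
  have h3 : ∀ j, b.repr k j ∈ maximalIdeal R := by
    intro j
    by_contra hu
    rw [mem_maximalIdeal, mem_nonunits_iff, not_not] at hu
    have h4 : a * b.repr k j = 0 := by
      have := congrArg (fun z => b.repr z j) h2
      simpa using this
    exact ha (hu.mul_left_eq_zero.mp h4)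
  rw [← b.linearCombination_repr k, Finsupp.linearCombination_apply]
  refine Submodule.sum_mem _ fun j _ => ?_
  exact Submodule.smul_mem_smul (h3 j) trivial

variable [IsNoetherianRing R]

/-- Over a Noetherian local ring of depth zero, finite modules of finite projective dimension are
free. -/
theorem free_of_hasProjectiveDimensionLT_of_annihilator (a : R) (ha : a ≠ 0)
    (ham : ∀ y ∈ maximalIdeal R, y * a = 0) :
    ∀ (n : ℕ) (M : Type u) [AddCommGroup M] [Module R M] [Module.Finite R M],
      HasProjectiveDimensionLT (ModuleCat.of R M) (n + 1) → Module.Free R M := by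
  intro n
  induction n with
  | zero =>
    intro M _ _ _ h
    rw [zero_add, ← projective_iff_hasProjectiveDimensionLT_one,
      ← IsProjective.iff_projective] at h
    exact Module.free_of_flat_of_isLocalRing
  | succ n ih =>
    intro M _ _ _ h
    obtain ⟨m, π, hπ⟩ := Module.Finite.exists_fin' R M
    have hS := LinearMap.shortExact_shortComplexKer hπ
    have hproj2 : Projective π.shortComplexKer.X₂ :=
      (IsProjective.iff_projective (R := R) (Fin m → R)).mp inferInstance
    have h1 : HasProjectiveDimensionLT π.shortComplexKer.X₁ (n + 1) :=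
      hS.hasProjectiveDimensionLT_X₁ (n + 1) inferInstance h
    have hK : Module.Free R (LinearMap.ker π) := ih (LinearMap.ker π) h1
    exact Module.free_of_lTensor_residueField_injective (LinearMap.ker π).subtype π hπ
      (LinearMap.exact_subtype_ker_map π)
      (lTensor_residueField_injective_of_annihilator a ha ham _ (Submodule.injective_subtype _))

end DepthZero

section Retract

variable {R : Type u} [CommRing R] [IsLocalRing R]

/-- A nonzero module killed by `𝔪` has the residue field as a retract. -/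
theorem nonempty_retract_residueField (N : Type u) [AddCommGroup N] [Module R N] [Nontrivial N]
    (hN : ∀ a ∈ maximalIdeal R, ∀ n : N, a • n = 0) :
    Nonempty (Retract (ModuleCat.of R (R ⧸ maximalIdeal R)) (ModuleCat.of R N)) := by
  obtain ⟨n₀, hn₀⟩ := exists_ne (0 : N)
  have htors : Module.IsTorsionBySet R N (maximalIdeal R : Set R) := by
    intro n a
    exact hN a.1 a.2 n
  letI : Field (R ⧸ maximalIdeal R) := Ideal.Quotient.field (maximalIdeal R)
  letI : Module (R ⧸ maximalIdeal R) N := htors.module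
  haveI : IsScalarTower R (R ⧸ maximalIdeal R) N := htors.isScalarTower
  obtain ⟨f, hf⟩ := Module.Projective.exists_dual_eq_one (R ⧸ maximalIdeal R) hn₀
  let r : N →ₗ[R] (R ⧸ maximalIdeal R) := f.restrictScalars R
  let s : (R ⧸ maximalIdeal R) →ₗ[R] N :=
    Submodule.liftQ (maximalIdeal R) (LinearMap.toSpanSingleton R N n₀) (by
      intro a ha
      simpa using hN a ha n₀)
  have hrs : r.comp s = LinearMap.id := by
    apply LinearMap.ext
    intro y
    obtain ⟨a, rfl⟩ := Submodule.Quotient.mk_surjective _ y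
    change f (a • n₀) = _
    rw [← algebraMap_smul (R ⧸ maximalIdeal R) a n₀, map_smul, hf]
    simp
  exact ⟨⟨ModuleCat.ofHom (Y := ModuleCat.of R N) (X := ModuleCat.of R (R ⧸ maximalIdeal R)) s,
    ModuleCat.ofHom (X := ModuleCat.of R N) (Y := ModuleCat.of R (R ⧸ maximalIdeal R)) r, by
      rw [← ModuleCat.ofHom_comp, hrs]
      rfl⟩⟩

/-- The class of `x` in `𝔪/x𝔪`. -/
noncomputable def qx (x : R) (hxm : x ∈ maximalIdeal R) : QuotSMulTop x (maximalIdeal R) :=
  Submodule.Quotient.mk ⟨x, hxm⟩

theorem smul_qx_eq_zero (x : R) (hxm : x ∈ maximalIdeal R) (a : R) (ha : a ∈ maximalIdeal R) :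
    a • qx x hxm = 0 := by
  unfold qx
  rw [← Submodule.Quotient.mk_smul, Submodule.Quotient.mk_eq_zero]
  have : a • (⟨x, hxm⟩ : maximalIdeal R) = x • (⟨a, ha⟩ : maximalIdeal R) := by
    apply Subtype.ext
    change a * x = x * a
    exact mul_comm _ _
  rw [this]
  exact Submodule.smul_mem_pointwise_smul _ _ _ trivial

theorem smul_quotSMulTop_eq_zero (x : R) {M : Type u} [AddCommGroup M] [Module R M]
    (q : QuotSMulTop x M) : x • q = 0 := by
  obtain ⟨w, rfl⟩ := Submodule.Quotient.mk_surjective _ q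
  rw [← Submodule.Quotient.mk_smul, Submodule.Quotient.mk_eq_zero]
  exact Submodule.smul_mem_pointwise_smul _ _ _ trivial

/-- `κ → 𝔪/x𝔪`, `ā ↦ [a x]`. -/
noncomputable def sec₀ (x : R) (hxm : x ∈ maximalIdeal R) :
    (R ⧸ maximalIdeal R) →ₗ[R] QuotSMulTop x (maximalIdeal R) :=
  Submodule.liftQ (maximalIdeal R) (LinearMap.toSpanSingleton R _ (qx x hxm)) (by
    intro a ha
    rw [LinearMap.mem_ker, LinearMap.toSpanSingleton_apply]
    exact smul_qx_eq_zero x hxm a ha)

theorem sec₀_mk (x : R) (hxm : x ∈ maximalIdeal R) (a : R) :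
    sec₀ x hxm (Submodule.Quotient.mk a) = a • qx x hxm := rfl

/-- `κ/xκ → 𝔪/x𝔪`. -/
noncomputable def sec (x : R) (hxm : x ∈ maximalIdeal R) :
    QuotSMulTop x (R ⧸ maximalIdeal R) →ₗ[R] QuotSMulTop x (maximalIdeal R) :=
  Submodule.liftQ _ (sec₀ x hxm) (by
    intro y hy
    rw [LinearMap.mem_ker]
    obtain ⟨z, -, rfl⟩ := (Submodule.mem_smul_pointwise_iff_exists _ _ _).mp hy
    rw [map_smul]
    exact smul_quotSMulTop_eq_zero x _)

theorem sec_mk (x : R) (hxm : x ∈ maximalIdeal R) (y : R ⧸ maximalIdeal R) :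
    sec x hxm (Submodule.Quotient.mk y) = sec₀ x hxm y := rfl

/-- Key trick: for `x ∈ 𝔪 ∖ 𝔪²`, `κ/xκ` is a retract of `𝔪/x𝔪` as `R/(x)`-modules. -/
theorem nonempty_retract_quotSMulTop (x : R) (hxm : x ∈ maximalIdeal R)
    (hx2 : x ∉ maximalIdeal R ^ 2) :
    Nonempty (Retract
      (ModuleCat.of (R ⧸ Ideal.span ({x} : Set R)) (QuotSMulTop x (R ⧸ maximalIdeal R)))
      (ModuleCat.of (R ⧸ Ideal.span ({x} : Set R)) (QuotSMulTop x (maximalIdeal R)))) := by
  have hne : (maximalIdeal R).toCotangent ⟨x, hxm⟩ ≠ 0 := by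
    rw [Ne, Ideal.toCotangent_eq_zero]
    exact hx2
  obtain ⟨ℓ, hℓ⟩ := Module.Projective.exists_dual_eq_one (ResidueField R)
    (V := CotangentSpace R) hne
  let r₀ : maximalIdeal R →ₗ[R] (R ⧸ maximalIdeal R) :=
    (ℓ.restrictScalars R).comp (maximalIdeal R).toCotangent
  have hr₀ : r₀ ⟨x, hxm⟩ = 1 := hℓ
  let r : QuotSMulTop x (maximalIdeal R) →ₗ[R] QuotSMulTop x (R ⧸ maximalIdeal R) :=
    QuotSMulTop.map x r₀
  have hrs : r.comp (sec x hxm) = LinearMap.id := by
    apply LinearMap.ext
    intro y
    obtain ⟨y, rfl⟩ := Submodule.Quotient.mk_surjective _ y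
    obtain ⟨a, rfl⟩ := Submodule.Quotient.mk_surjective _ y
    rw [LinearMap.comp_apply, sec_mk, sec₀_mk, map_smul]
    unfold qx
    rw [QuotSMulTop.map_apply_mk, hr₀, LinearMap.id_apply, ← Submodule.Quotient.mk_smul]
    congr 1
    change a • Submodule.Quotient.mk (1 : R) = _
    rw [← Submodule.Quotient.mk_smul, smul_eq_mul, mul_one]
  have hrs' : (r.extendScalarsOfSurjective (mk_surj x)).comp
      ((sec x hxm).extendScalarsOfSurjective (mk_surj x)) = LinearMap.id :=
    LinearMap.ext fun y => LinearMap.congr_fun hrs y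
  refine ⟨⟨ModuleCat.ofHom ((sec x hxm).extendScalarsOfSurjective (mk_surj x)),
    ModuleCat.ofHom (r.extendScalarsOfSurjective (mk_surj x)), ?_⟩⟩
  rw [← ModuleCat.ofHom_comp, hrs']
  rfl

end Retract

section Main

variable {R : Type u} [CommRing R] [IsLocalRing R] [IsNoetherianRing R]

/-- If every element of `𝔪` is a zero divisor, then `𝔪` annihilates a nonzero element. -/
theorem exists_annihilator_of_forall_not_mem_nonZeroDivisors
    (h : ∀ y ∈ maximalIdeal R, y ∉ nonZeroDivisors R) :
    ∃ a : R, a ≠ 0 ∧ ∀ y ∈ maximalIdeal R, y * a = 0 := by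
  classical
  have hfin := associatedPrimes.finite R R
  have hsub : ((maximalIdeal R : Ideal R) : Set R) ⊆
      ⋃ p ∈ (↑hfin.toFinset : Set (Ideal R)), ((id p : Ideal R) : Set R) := by
    intro y hy
    have h1 : y ∈ ((nonZeroDivisors R : Set R))ᶜ := h y hy
    rw [← biUnion_associatedPrimes_eq_compl_nonZeroDivisors] at h1
    simpa using h1
  rw [Ideal.subset_union_prime (R := R) (s := hfin.toFinset) (f := id) ⊥ ⊥ (fun i hi _ _ =>
    (hfin.mem_toFinset.mp hi).isPrime)] at hsub
  obtain ⟨p, hp, hle⟩ := hsub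
  have hpass := hfin.mem_toFinset.mp hp
  have hpm : p = maximalIdeal R :=
    ((maximalIdeal.isMaximal R).eq_of_le hpass.isPrime.ne_top hle).symm
  obtain ⟨-, a, ha⟩ := isAssociatedPrime_iff.mp hpass
  refine ⟨a, ?_, fun y hy => ?_⟩
  · rintro rfl
    apply hpass.isPrime.ne_top
    rw [ha, Ideal.eq_top_iff_one, Submodule.mem_colon_singleton]
    simp
  · have : y ∈ Submodule.colon (⊥ : Submodule R R) {a} := by rw [← ha, hpm]; exact hy
    rw [Submodule.mem_colon_singleton] at this
    simpa using this

/-- If `𝔪` contains a nonzerodivisor, it contains one outside `𝔪²`. -/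
theorem exists_nonZeroDivisor_not_mem_sq (y : R) (hy : y ∈ maximalIdeal R)
    (hy0 : y ∈ nonZeroDivisors R) :
    ∃ x ∈ maximalIdeal R, x ∉ maximalIdeal R ^ 2 ∧ x ∈ nonZeroDivisors R := by
  classical
  have hfin := associatedPrimes.finite R R
  let S : Finset (Ideal R) := insert ((maximalIdeal R) ^ 2) hfin.toFinset
  have hav := Ideal.subset_union_prime (R := R) (s := S) (f := id) ((maximalIdeal R) ^ 2)
    ((maximalIdeal R) ^ 2) (I := maximalIdeal R) (by
      intro i hi h1 _
      rcases Finset.mem_insert.mp hi with h | h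
      · exact absurd h h1
      · exact (hfin.mem_toFinset.mp h).isPrime)
  have hnot : ¬ ∃ i ∈ S, maximalIdeal R ≤ id i := by
    rintro ⟨i, hi, hle⟩
    rcases Finset.mem_insert.mp hi with h | h
    · subst h
      have h0 : maximalIdeal R = ⊥ := by
        apply Groth.Agent.H7.Reg.eq_bot_of_le_smul
        rw [smul_eq_mul, ← pow_two]
        exact hle
      rw [h0, Ideal.mem_bot] at hy
      rw [hy] at hy0
      exact zero_notMem_nonZeroDivisors hy0
    · have hmem : y ∈ ⋃ p ∈ associatedPrimes R R, (p : Set R) :=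
        Set.mem_biUnion (hfin.mem_toFinset.mp h) (hle hy)
      rw [biUnion_associatedPrimes_eq_compl_nonZeroDivisors] at hmem
      exact hmem hy0
  rw [← hav, Set.not_subset] at hnot
  obtain ⟨x, hx, hxn⟩ := hnot
  refine ⟨x, hx, ?_, ?_⟩
  · intro h2
    apply hxn
    exact Set.mem_biUnion (Finset.mem_coe.mpr (Finset.mem_insert_self _ _)) h2
  · by_contra hx0
    have hmem : x ∈ ((nonZeroDivisors R : Set R))ᶜ := hx0
    rw [← biUnion_associatedPrimes_eq_compl_nonZeroDivisors] at hmem
    obtain ⟨p, hp, hxp⟩ := Set.mem_iUnion₂.mp hmem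
    apply hxn
    exact Set.mem_biUnion (Finset.mem_coe.mpr
      (Finset.mem_insert_of_mem (hfin.mem_toFinset.mpr hp))) hxp

omit [IsNoetherianRing R] in
theorem smul_eq_zero_of_mem_maximalIdeal (a : R) (ha : a ∈ maximalIdeal R)
    (y : R ⧸ maximalIdeal R) : a • y = 0 := by
  obtain ⟨b, rfl⟩ := Submodule.Quotient.mk_surjective _ y
  rw [← Submodule.Quotient.mk_smul, Submodule.Quotient.mk_eq_zero]
  exact Ideal.mul_mem_right _ _ ha

/-- A free nontrivial module killed by `𝔪` forces `𝔪 = ⊥`. -/
theorem maximalIdeal_eq_bot_of_free (N : Type u) [AddCommGroup N] [Module R N] [Nontrivial N]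
    [Module.Free R N] (hN : ∀ a ∈ maximalIdeal R, ∀ n : N, a • n = 0) : maximalIdeal R = ⊥ := by
  rw [eq_bot_iff]
  intro y hy
  let b := Module.Free.chooseBasis R N
  have : Nonempty (Module.Free.ChooseBasisIndex R N) := by
    by_contra hempty
    rw [not_nonempty_iff] at hempty
    have : Subsingleton N := b.repr.toEquiv.subsingleton
    exact not_subsingleton N this
  obtain ⟨i⟩ := this
  have h1 := congrArg (fun z => b.repr z i) (hN y hy (b i))
  simpa using h1

theorem isRegularLocalRing_of_hasProjectiveDimensionLT_aux : ∀ (e : ℕ) (R : Type u) [CommRing R]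
    [IsLocalRing R] [IsNoetherianRing R], (maximalIdeal R).spanFinrank = e →
    ∀ (N : Type u) [AddCommGroup N] [Module R N] [Nontrivial N],
    (∀ a ∈ maximalIdeal R, ∀ n : N, a • n = 0) →
    ∀ k : ℕ, HasProjectiveDimensionLT (ModuleCat.of R N) (k + 1) → IsRegularLocalRing R := by
  intro e
  induction e using Nat.strong_induction_on with
  | _ e ih =>
  intro R _ _ _ he N _ _ _ hN k hk
  classical
  obtain ⟨ρ⟩ := nonempty_retract_residueField N hN
  have hκ : HasProjectiveDimensionLT (ModuleCat.of R (R ⧸ maximalIdeal R)) (k + 1) :=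
    ρ.hasProjectiveDimensionLT (k + 1)
  by_cases hnzd : ∃ y ∈ maximalIdeal R, y ∈ nonZeroDivisors R
  · obtain ⟨y, hy, hy0⟩ := hnzd
    obtain ⟨x, hxm, hx2, hx0⟩ := exists_nonZeroDivisor_not_mem_sq y hy hy0
    have hxreg : IsSMulRegular R x := by
      rw [isSMulRegular_iff_right_eq_zero_of_smul]
      intro z hz
      rw [smul_eq_mul] at hz
      exact (mem_nonZeroDivisors_iff.mp hx0).1 z hz
    -- the quotient ring
    have hle : Ideal.span ({x} : Set R) ≤ maximalIdeal R := by
      rw [Ideal.span_le]; intro y hy; rw [Set.mem_singleton_iff] at hy; rw [hy]; exact hxm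
    have hne : Ideal.span ({x} : Set R) ≠ ⊤ := fun h => by
      rw [h] at hle
      exact (maximalIdeal.isMaximal R).ne_top (top_le_iff.mp hle)
    haveI : Nontrivial (R ⧸ Ideal.span ({x} : Set R)) := Ideal.Quotient.nontrivial_iff.mpr hne
    have hsurj : Function.Surjective (Ideal.Quotient.mk (Ideal.span ({x} : Set R))) :=
      Ideal.Quotient.mk_surjective
    haveI : IsLocalRing (R ⧸ Ideal.span ({x} : Set R)) :=
      IsLocalRing.of_surjective' (Ideal.Quotient.mk _) hsurj
    obtain ⟨t, ht1, ht2⟩ := Groth.Agent.H7.Reg.exists_finset_span_insert x hxm hx2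
    have hcomap : Ideal.comap (Ideal.Quotient.mk (Ideal.span ({x} : Set R)))
        (maximalIdeal (R ⧸ Ideal.span ({x} : Set R))) = maximalIdeal R :=
      eq_maximalIdeal (Ideal.comap_isMaximal_of_surjective _ hsurj)
    have hmax : maximalIdeal (R ⧸ Ideal.span ({x} : Set R)) =
        Ideal.map (Ideal.Quotient.mk (Ideal.span ({x} : Set R))) (maximalIdeal R) := by
      rw [← hcomap, Ideal.map_comap_of_surjective _ hsurj]
    have hx0' : Ideal.Quotient.mk (Ideal.span ({x} : Set R)) x = 0 :=
      Ideal.Quotient.eq_zero_iff_mem.mpr (Ideal.subset_span (Set.mem_singleton x))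
    have hspan : maximalIdeal (R ⧸ Ideal.span ({x} : Set R)) =
        Ideal.span ((Ideal.Quotient.mk (Ideal.span ({x} : Set R))) '' (t : Set R)) := by
      rw [hmax, ← ht2, Ideal.map_span, Set.image_insert_eq, hx0', Ideal.span_insert_zero]
    have hfr : (maximalIdeal (R ⧸ Ideal.span ({x} : Set R))).spanFinrank < e := by
      rw [hspan]
      calc _ ≤ ((Ideal.Quotient.mk (Ideal.span ({x} : Set R))) '' (t : Set R)).ncard :=
            Submodule.spanFinrank_span_le_ncard_of_finite (t.finite_toSet.image _)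
        _ ≤ (t : Set R).ncard := Set.ncard_image_le t.finite_toSet
        _ = t.card := Set.ncard_coe_finset t
        _ < e := by omega
    -- projective dimension of 𝔪
    have hS := idealSC_shortExact (maximalIdeal R)
    have hproj2 : Projective (idealSC (maximalIdeal R)).X₂ :=
      (IsProjective.iff_projective (R := R) R).mp inferInstance
    haveI : HasProjectiveDimensionLT (idealSC (maximalIdeal R)).X₃ (k + 1) := hκ
    have hm : HasProjectiveDimensionLT (ModuleCat.of R (maximalIdeal R)) (k + 1) :=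
      hS.hasProjectiveDimensionLT_X₁ (k + 1) inferInstance
        (hasProjectiveDimensionLT_of_ge _ (k + 1) (k + 1 + 1) (Nat.le_succ _))
    have hmreg : IsSMulRegular (maximalIdeal R) x := hxreg.submodule _ x
    have hQ := hasProjectiveDimensionLT_quotSMulTop x hxreg k (maximalIdeal R) hmreg hm
    obtain ⟨ρ'⟩ := nonempty_retract_quotSMulTop x hxm hx2
    have hN' := ρ'.hasProjectiveDimensionLT (k + 1)
    haveI : Nontrivial (QuotSMulTop x (R ⧸ maximalIdeal R)) :=
      nontrivial_quotSMulTop_of_mem_maximalIdeal _ hxm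
    have hkill : ∀ a ∈ maximalIdeal (R ⧸ Ideal.span ({x} : Set R)),
        ∀ n : QuotSMulTop x (R ⧸ maximalIdeal R), a • n = 0 := by
      intro a ha n
      obtain ⟨a, rfl⟩ := hsurj a
      have ham : a ∈ maximalIdeal R := by rw [← hcomap]; exact ha
      obtain ⟨n, rfl⟩ := Submodule.Quotient.mk_surjective _ n
      change Submodule.Quotient.mk (a • n) = 0
      rw [smul_eq_zero_of_mem_maximalIdeal a ham n]
      rfl
    haveI : IsRegularLocalRing (R ⧸ Ideal.span ({x} : Set R)) :=
      ih _ hfr (R ⧸ Ideal.span ({x} : Set R)) rfl (QuotSMulTop x (R ⧸ maximalIdeal R)) hkill k hN'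
    exact isRegularLocalRing_of_quotient_span_singleton R x hxm hx0
  · push_neg at hnzd
    obtain ⟨a, ha, ham⟩ := exists_annihilator_of_forall_not_mem_nonZeroDivisors hnzd
    have hfree : Module.Free R (R ⧸ maximalIdeal R) :=
      free_of_hasProjectiveDimensionLT_of_annihilator a ha ham k _ hκ
    have hbot : maximalIdeal R = ⊥ :=
      maximalIdeal_eq_bot_of_free (R ⧸ maximalIdeal R) smul_eq_zero_of_mem_maximalIdeal
    apply IsRegularLocalRing.of_spanFinrank_maximalIdeal_le
    rw [hbot, (Submodule.spanFinrank_eq_zero_iff_eq_bot Submodule.fg_bot).mpr rfl]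
    exact ringKrullDim_nonneg_of_nontrivial

/-- **Serre's converse** (S0562). -/
theorem isRegularLocalRing_of_hasProjectiveDimensionLT (n : ℕ)
    (h : HasProjectiveDimensionLT (ModuleCat.of R (ResidueField R)) n) :
    IsRegularLocalRing R := by
  have h' : HasProjectiveDimensionLT (ModuleCat.of R (ResidueField R)) (n + 1) :=
    hasProjectiveDimensionLT_of_ge _ n (n + 1) (Nat.le_succ _)
  exact isRegularLocalRing_of_hasProjectiveDimensionLT_aux _ R rfl (ResidueField R)
    (fun a ha y => smul_eq_zero_of_mem_maximalIdeal a ha y) n h'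

end Main

end Groth.Agent.H1.Reg
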