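import Mathlib
import Groth.Agent.Lib.Helper7.Reg1

/-! Helper1: generators of the maximal ideal of a regular local ring form a regular sequence. -/

set_option autoImplicit false

universe u

open IsLocalRing RingTheory.Sequence Pointwise

namespace Groth.Agent.H1.Reg

/-- `QuotSMulTop x R` is `R ⧸ (x)` as a module over `R ⧸ (x)`. -/
noncomputable def quotSMulTopSelfEquiv {R : Type u} [CommRing R] (x : R) :
    QuotSMulTop x R ≃ₗ[R ⧸ Ideal.span ({x} : Set R)] (R ⧸ Ideal.span ({x} : Set R)) := by
  have h : (x • (⊤ : Submodule R R)) = Ideal.span ({x} : Set R) := by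
    rw [← Submodule.ideal_span_singleton_smul, smul_eq_mul, Ideal.mul_top]
  refine { (Submodule.quotEquivOfEq _ _ h) with map_smul' := ?_ }
  intro r y
  obtain ⟨r, rfl⟩ := Ideal.Quotient.mk_surjective r
  obtain ⟨y, rfl⟩ := Submodule.Quotient.mk_surjective _ y
  rfl

/-- If `x 0 ∈ 𝔪²` and `x` generates `𝔪`, then the tail already generates `𝔪`. -/
theorem span_tail_eq_of_mem_sq {R : Type u} [CommRing R] [IsLocalRing R] [IsNoetherianRing R]
    {d : ℕ} (x : Fin (d + 1) → R) (hx : Ideal.span (Set.range x) = maximalIdeal R)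
    (h0 : x 0 ∈ maximalIdeal R ^ 2) :
    Ideal.span (Set.range (fun i : Fin d => x i.succ)) = maximalIdeal R := by
  apply le_antisymm
  · rw [Ideal.span_le]
    rintro _ ⟨i, rfl⟩
    rw [← hx]
    exact Ideal.subset_span ⟨i.succ, rfl⟩
  · apply Submodule.le_of_le_smul_of_le_jacobson_bot (maximalIdeal R).fg_of_isNoetherianRing
      (by rw [IsLocalRing.jacobson_eq_maximalIdeal _ bot_ne_top])
    conv_lhs => rw [← hx]
    rw [Ideal.span_le]
    rintro _ ⟨i, rfl⟩
    refine Fin.cases ?_ (fun j => ?_) i
    · apply Submodule.mem_sup_right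
      rwa [smul_eq_mul, ← pow_two]
    · exact Submodule.mem_sup_left (Ideal.subset_span ⟨j, rfl⟩)

theorem isRegular_ofFn_of_dim : ∀ (d : ℕ) (R : Type u) [CommRing R] [IsRegularLocalRing R],
    ringKrullDim R = (d : WithBot ℕ∞) → ∀ x : Fin d → R,
      Ideal.span (Set.range x) = maximalIdeal R → IsRegular R (List.ofFn x) := by
  intro d
  induction d with
  | zero =>
    intro R _ _ _ x _
    rw [List.ofFn_zero]
    exact IsRegular.nil R R
  | succ d ih =>
    intro R _ _ hd x hx
    have hdom : IsDomain R := Groth.Agent.H7.Reg.isDomain R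
    have hsf : (maximalIdeal R).spanFinrank = d + 1 :=
      Groth.Agent.H7.Reg.spanFinrank_eq_of_dim (d + 1) (by exact_mod_cast hd)
    have hx0m : x 0 ∈ maximalIdeal R := by
      rw [← hx]; exact Ideal.subset_span ⟨0, rfl⟩
    have hx0sq : x 0 ∉ maximalIdeal R ^ 2 := by
      intro h0
      have h1 := span_tail_eq_of_mem_sq x hx h0
      have h2 : (maximalIdeal R).spanFinrank ≤ d := by
        rw [← h1]
        refine (Submodule.spanFinrank_span_le_ncard_of_finite (Set.finite_range _)).trans ?_
        rw [← Set.image_univ]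
        refine (Set.ncard_image_le (Set.finite_univ)).trans ?_
        simp
      omega
    obtain ⟨hreg, hdim⟩ := Groth.Agent.H7.Reg.quotient_regular (x 0) hx0m hx0sq d
      (by exact_mod_cast hd)
    have hx0ne : x 0 ≠ 0 := by
      intro h
      apply hx0sq
      rw [h]
      exact Ideal.zero_mem _
    rw [List.ofFn_succ, isRegular_cons_iff']
    refine ⟨(isSMulRegular_iff_right_eq_zero_of_smul.mpr ?_), ?_⟩
    · intro y hy
      rw [smul_eq_mul] at hy
      exact (mul_eq_zero.mp hy).resolve_left hx0ne
    · rw [(quotSMulTopSelfEquiv (x 0)).isRegular_congr, List.map_ofFn]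
      apply ih _ hdim
      have hsurj : Function.Surjective (Ideal.Quotient.mk (Ideal.span ({x 0} : Set R))) :=
        Ideal.Quotient.mk_surjective
      have hmax : maximalIdeal (R ⧸ Ideal.span ({x 0} : Set R)) =
          Ideal.map (Ideal.Quotient.mk (Ideal.span ({x 0} : Set R))) (maximalIdeal R) := by
        have h1 : Ideal.comap (Ideal.Quotient.mk (Ideal.span ({x 0} : Set R)))
            (maximalIdeal (R ⧸ Ideal.span ({x 0} : Set R))) = maximalIdeal R :=
          eq_maximalIdeal (Ideal.comap_isMaximal_of_surjective _ hsurj)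
        rw [← h1, Ideal.map_comap_of_surjective _ hsurj]
      rw [hmax, ← hx, Ideal.map_span]
      apply le_antisymm
      · rw [Ideal.span_le]
        rintro _ ⟨i, rfl⟩
        exact Ideal.subset_span ⟨_, ⟨i.succ, rfl⟩, rfl⟩
      · rw [Ideal.span_le]
        rintro _ ⟨_, ⟨i, rfl⟩, rfl⟩
        refine Fin.cases ?_ (fun j => ?_) i
        · have : Ideal.Quotient.mk (Ideal.span ({x 0} : Set R)) (x 0) = 0 :=
            Ideal.Quotient.eq_zero_iff_mem.mpr (Ideal.subset_span (Set.mem_singleton _))
          rw [this]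
          exact Ideal.zero_mem _
        · exact Ideal.subset_span ⟨j, rfl⟩

/-- **S0559**. -/
theorem isRegular_ofFn {R : Type u} [CommRing R] [IsRegularLocalRing R] (d : ℕ)
    (hd : ringKrullDim R = d) (x : Fin d → R)
    (hx : Ideal.span (Set.range x) = maximalIdeal R) : IsRegular R (List.ofFn x) :=
  isRegular_ofFn_of_dim d R hd x hx

end Groth.Agent.H1.Reg
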