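import Mathlib
import Groth.Agent.Lib.Helper1.RegSeq
import Groth.Agent.Lib.Helper1.RegConv

/-! Helper1: projective dimension of the residue field of a regular local ring. -/

set_option autoImplicit false

universe u

open CategoryTheory IsLocalRing RingTheory.Sequence

namespace Groth.Agent.H1.Reg

/-- A regular local ring of dimension `d` has a generating family of `𝔪` indexed by `Fin d`. -/
theorem exists_fin_span_eq_maximalIdeal (R : Type u) [CommRing R] [IsRegularLocalRing R] (d : ℕ)
    (hd : ringKrullDim R = d) :
    ∃ x : Fin d → R, Ideal.span (Set.range x) = maximalIdeal R := by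
  classical
  have hsf : (maximalIdeal R).spanFinrank = d :=
    Groth.Agent.H7.Reg.spanFinrank_eq_of_dim d hd
  obtain ⟨s, hs₁, hs₂⟩ := Submodule.FG.exists_span_finset_card_eq_spanFinrank
    (maximalIdeal R).fg_of_isNoetherianRing
  have hcard : s.card = d := hs₁.trans hsf
  let e : s ≃ Fin d := s.equivFinOfCardEq hcard
  refine ⟨fun i => (e.symm i : R), ?_⟩
  have : Set.range (fun i => ((e.symm i : s) : R)) = (s : Set R) := by
    ext y
    constructor
    · rintro ⟨i, rfl⟩
      exact (e.symm i).2
    · intro hy
      exact ⟨e ⟨y, hy⟩, by simp⟩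
  rw [this]
  exact hs₂

theorem projectiveDimension_residueField (R : Type u) [CommRing R] [IsRegularLocalRing R] (d : ℕ)
    (hd : ringKrullDim R = d) :
    projectiveDimension (ModuleCat.of R (ResidueField R)) = d := by
  obtain ⟨x, hx⟩ := exists_fin_span_eq_maximalIdeal R d hd
  have reg := isRegular_ofFn d hd x hx
  have h := ModuleCat.projectiveDimension_quotient_eq_length.{u} (List.ofFn x) reg
  rw [List.length_ofFn] at h
  have hof : Ideal.ofList (List.ofFn x) = maximalIdeal R := by
    rw [← hx]
    unfold Ideal.ofList
    congr 1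
    ext y
    simp [List.mem_ofFn]
  let e : Shrink.{u} (R ⧸ Ideal.ofList (List.ofFn x)) ≃ₗ[R] ResidueField R :=
    (Shrink.linearEquiv R _).trans (Submodule.quotEquivOfEq _ _ hof)
  rw [← h]
  exact (projectiveDimension_eq_of_iso e.toModuleIso).symm

/-- **S2061**. -/
theorem finrank_cotangentSpace_lt (R : Type u) [CommRing R] [IsLocalRing R] [IsNoetherianRing R]
    (d : ℕ) (hd : HasProjectiveDimensionLT (ModuleCat.of R (ResidueField R)) d) :
    Module.finrank (ResidueField R) (CotangentSpace R) < d := by
  haveI : IsRegularLocalRing R := isRegularLocalRing_of_hasProjectiveDimensionLT d hd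
  have h1 := (IsRegularLocalRing.iff_finrank_cotangentSpace R).mp inferInstance
  set e := Module.finrank (ResidueField R) (CotangentSpace R) with he
  have h2 := projectiveDimension_residueField R e h1.symm
  have h3 := projectiveDimension_lt_iff.mpr hd
  rw [h2] at h3
  exact_mod_cast h3

end Groth.Agent.H1.Reg
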