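import Mathlib
import Groth.Agent.Lib.Helper1.RegPd
import Groth.Agent.Lib.Helper2.ProjDimFFlat

/-! Helper1: localizations of regular local rings are regular; regularity descends along flat local
homomorphisms. -/

set_option autoImplicit false

universe u

open CategoryTheory IsLocalRing

namespace Groth.Agent.H1.Reg

/-- **S0564**: the localization of a regular local ring at a prime is regular. -/
theorem isRegularLocalRing_localization (R : Type u) [CommRing R] [IsRegularLocalRing R]
    (p : Ideal R) [p.IsPrime] : IsRegularLocalRing (Localization.AtPrime p) := by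
  have hfin : ringKrullDim R = ((maximalIdeal R).spanFinrank : WithBot ℕ∞) :=
    (IsRegularLocalRing.spanFinrank_maximalIdeal (R := R)).symm
  set d := (maximalIdeal R).spanFinrank with hd
  have h1 : HasProjectiveDimensionLT (ModuleCat.of R (R ⧸ p)) (d + 1) :=
    hasProjectiveDimensionLT_of_isRegularLocalRing R d hfin _
  have h2 : HasProjectiveDimensionLE ((ModuleCat.of R (R ⧸ p)).localizedModule p.primeCompl) d :=
    ModuleCat.localizedModule_hasProjectiveDimensionLE d p.primeCompl _
  let N := LocalizedModule p.primeCompl (R ⧸ p)
  let e : ((ModuleCat.of R (R ⧸ p)).localizedModule p.primeCompl) ≅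
      ModuleCat.of (Localization.AtPrime p) N :=
    (Shrink.linearEquiv (Localization.AtPrime p) N).toModuleIso
  have h3 : HasProjectiveDimensionLT (ModuleCat.of (Localization.AtPrime p) N) (d + 1) :=
    hasProjectiveDimensionLT_of_iso e (d + 1)
  have hnt : Nontrivial N := by
    refine ⟨⟨LocalizedModule.mk (1 : R ⧸ p) 1, 0, ?_⟩⟩
    intro h0
    rw [← LocalizedModule.zero_mk (1 : p.primeCompl), LocalizedModule.mk_eq] at h0
    obtain ⟨u, hu⟩ := h0
    simp only [one_smul, smul_zero] at hu
    have : (u : R) ∈ p := by
      rw [← Ideal.Quotient.eq_zero_iff_mem]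
      have h5 : (u : R) • (1 : R ⧸ p) = 0 := hu
      rwa [Algebra.smul_def, mul_one] at h5
    exact u.2 this
  have hkill : ∀ a ∈ maximalIdeal (Localization.AtPrime p), ∀ n : N, a • n = 0 := by
    intro a ha n
    rw [← Localization.AtPrime.map_eq_maximalIdeal,
      IsLocalization.mem_map_algebraMap_iff p.primeCompl] at ha
    obtain ⟨⟨b, s⟩, hbs⟩ := ha
    apply IsLocalizedModule.smul_injective (LocalizedModule.mkLinearMap p.primeCompl (R ⧸ p)) s
    dsimp only
    rw [smul_zero, Submonoid.smul_def, ← algebraMap_smul (Localization.AtPrime p) (s : R),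
      ← mul_smul, mul_comm, hbs, algebraMap_smul]
    induction n using LocalizedModule.induction_on with
    | h m t =>
      rw [LocalizedModule.smul'_mk]
      have : (b : R) • m = 0 := by
        obtain ⟨m, rfl⟩ := Ideal.Quotient.mk_surjective m
        rw [Algebra.smul_def, Ideal.Quotient.algebraMap_eq, ← map_mul,
          Ideal.Quotient.eq_zero_iff_mem]
        exact Ideal.mul_mem_right _ _ b.2
      rw [this, LocalizedModule.zero_mk]
  exact isRegularLocalRing_of_hasProjectiveDimensionLT_aux _ _ rfl N hkill d h3

/-- **S0565**: regularity descends along flat local homomorphisms. -/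
theorem isRegularLocalRing_of_flat (R : Type u) [CommRing R] [IsLocalRing R] [IsNoetherianRing R]
    (S : Type u) [CommRing S] [IsRegularLocalRing S] [Algebra R S]
    [IsLocalHom (algebraMap R S)] [Module.Flat R S] : IsRegularLocalRing R := by
  have hfin : ringKrullDim S = ((maximalIdeal S).spanFinrank : WithBot ℕ∞) :=
    (IsRegularLocalRing.spanFinrank_maximalIdeal (R := S)).symm
  set d := (maximalIdeal S).spanFinrank with hd
  haveI : Module.FaithfullyFlat R S := Module.FaithfullyFlat.of_flat_of_isLocalHom
  have h1 : HasProjectiveDimensionLE ((ModuleCat.extendScalars.{_, _, u} (algebraMap R S)).obj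
      (ModuleCat.of R (ResidueField R))) d :=
    hasProjectiveDimensionLT_of_isRegularLocalRing S d hfin _
  have h2 : HasProjectiveDimensionLE (ModuleCat.of R (ResidueField R)) d :=
    (Groth.Agent.H2.hasProjectiveDimensionLE_extendScalars_iff R S d _).mp h1
  exact isRegularLocalRing_of_hasProjectiveDimensionLT (d + 1) h2

end Groth.Agent.H1.Reg
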