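import Mathlib
import Groth.Agent.Lib.Helper1.RegLoc
import Groth.Agent.Lib.Helper1.Regular

/-! Helper1: criteria for (global) regular rings. -/

set_option autoImplicit false

universe u

open IsLocalRing

namespace Groth.Agent.H1.Reg

/-- A Noetherian ring is regular as soon as its localizations at maximal ideals are. -/
theorem isRegularRing_of_maximal (B : Type u) [CommRing B] [IsNoetherianRing B]
    (h : ∀ n : Ideal B, ∀ _ : n.IsMaximal, IsRegularLocalRing (Localization.AtPrime n)) :
    IsRegularRing B := by
  rw [isRegularRing_iff]
  intro q hq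
  obtain ⟨n, hn, hqn⟩ := Ideal.exists_le_maximal q hq.ne_top
  haveI := h n hn
  have hdisj : Disjoint (n.primeCompl : Set B) (q : Set B) := by
    rw [Set.disjoint_left]
    intro x hx hxq
    exact hx (hqn hxq)
  let p : Ideal (Localization.AtPrime n) := q.map (algebraMap B (Localization.AtPrime n))
  haveI hp : p.IsPrime := IsLocalization.isPrime_of_isPrime_disjoint n.primeCompl _ q hq hdisj
  have hcomap : p.comap (algebraMap B (Localization.AtPrime n)) = q :=
    IsLocalization.comap_map_of_isPrime_disjoint n.primeCompl _ hq hdisj
  haveI : IsRegularLocalRing (Localization.AtPrime p) :=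
    isRegularLocalRing_localization (Localization.AtPrime n) p
  have hsub : (p.comap (algebraMap B (Localization.AtPrime n))).primeCompl = q.primeCompl := by
    ext x
    rw [Ideal.mem_primeCompl_iff, Ideal.mem_primeCompl_iff, hcomap]
  haveI : IsLocalization.AtPrime (Localization.AtPrime p) q := by
    have := IsLocalization.isLocalization_atPrime_localization_atPrime n.primeCompl p
    unfold IsLocalization.AtPrime at this ⊢
    rw [hsub] at this
    exact this
  exact IsRegularLocalRing.of_ringEquiv
    (IsLocalization.algEquiv q.primeCompl (Localization.AtPrime p)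
      (Localization.AtPrime q)).toRingEquiv

/-- If `x` lies in the Jacobson radical, is a non-zero-divisor and `B/(x)` is regular, then `B` is
regular. -/
theorem isRegularRing_of_quotient (B : Type u) [CommRing B] [IsNoetherianRing B] (x : B)
    (hjac : x ∈ Ring.jacobson B) (hreg : x ∈ nonZeroDivisors B)
    [hq : IsRegularRing (B ⧸ Ideal.span ({x} : Set B))] : IsRegularRing B := by
  apply isRegularRing_of_maximal
  intro n hn
  have hxn : x ∈ n := by
    have : Ring.jacobson B ≤ n := Ring.jacobson_le_of_isMaximal n
    exact this hjac
  set I : Ideal B := Ideal.span ({x} : Set B) with hI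
  have hIn : I ≤ n := by
    rw [hI, Ideal.span_le, Set.singleton_subset_iff]; exact hxn
  set Bn := Localization.AtPrime n
  set x' : Bn := algebraMap B Bn x with hx'
  have hx'm : x' ∈ maximalIdeal Bn := (IsLocalization.AtPrime.to_map_mem_maximal_iff Bn n x).mpr hxn
  have hx'reg : x' ∈ nonZeroDivisors Bn :=
    IsLocalization.map_nonZeroDivisors_le n.primeCompl Bn (Submonoid.mem_map_of_mem _ hreg)
  -- the quotient
  have hsurj : Function.Surjective (Ideal.Quotient.mk I) := Ideal.Quotient.mk_surjective
  let nbar : Ideal (B ⧸ I) := n.map (Ideal.Quotient.mk I)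
  have hcomap : nbar.comap (Ideal.Quotient.mk I) = n := by
    rw [Ideal.comap_map_of_surjective _ hsurj, ← RingHom.ker_eq_comap_bot, Ideal.mk_ker,
      sup_eq_left]
    exact hIn
  haveI hnbar : nbar.IsPrime :=
    Ideal.map_isPrime_of_surjective hsurj (by rw [Ideal.mk_ker]; exact hIn)
  have hsub : Algebra.algebraMapSubmonoid (B ⧸ I) n.primeCompl = nbar.primeCompl := by
    ext y
    rw [Ideal.mem_primeCompl_iff]
    constructor
    · rintro ⟨b, hb, rfl⟩ hmem
      apply hb
      rw [← hcomap]
      exact hmem
    · intro hy
      obtain ⟨b, rfl⟩ := hsurj y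
      refine ⟨b, ?_, rfl⟩
      intro hbn
      exact hy (Ideal.mem_map_of_mem _ hbn)
  haveI : IsLocalization.AtPrime (Bn ⧸ I.map (algebraMap B Bn)) nbar := by
    have : IsLocalization (Algebra.algebraMapSubmonoid (B ⧸ I) n.primeCompl)
        (Bn ⧸ I.map (algebraMap B Bn)) := inferInstance
    unfold IsLocalization.AtPrime
    rw [← hsub]
    exact this
  haveI : IsRegularLocalRing (Bn ⧸ I.map (algebraMap B Bn)) :=
    IsRegularLocalRing.of_ringEquiv
      (IsLocalization.algEquiv nbar.primeCompl (Localization.AtPrime nbar)
        (Bn ⧸ I.map (algebraMap B Bn))).toRingEquiv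
  have hmap : I.map (algebraMap B Bn) = Ideal.span ({x'} : Set Bn) := by
    rw [hI, Ideal.map_span, Set.image_singleton]
  haveI : IsRegularLocalRing (Bn ⧸ Ideal.span ({x'} : Set Bn)) :=
    IsRegularLocalRing.of_ringEquiv (Ideal.quotEquivOfEq hmap)
  exact Groth.Agent.H1.isRegularLocalRing_of_quotient_span_singleton Bn x' hx'm hx'reg

/-- A localization of a regular ring is regular. -/
theorem isRegularRing_of_isLocalization (R : Type u) [CommRing R] [IsRegularRing R]
    (M : Submonoid R) (R' : Type u) [CommRing R'] [Algebra R R'] [IsLocalization M R'] :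
    IsRegularRing R' := by
  haveI : IsNoetherianRing R' := IsLocalization.isNoetherianRing M R' inferInstance
  rw [isRegularRing_iff]
  intro q hq
  haveI : IsLocalization.AtPrime (Localization.AtPrime q) (q.comap (algebraMap R R')) :=
    IsLocalization.isLocalization_isLocalization_atPrime_isLocalization M (Localization.AtPrime q) q
  exact IsRegularLocalRing.of_ringEquiv
    (IsLocalization.algEquiv (q.comap (algebraMap R R')).primeCompl
      (Localization.AtPrime (q.comap (algebraMap R R'))) (Localization.AtPrime q)).toRingEquiv

end Groth.Agent.H1.Reg
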