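import Mathlib
open AlgebraicGeometry DirectSum

namespace Groth.Agent.H1.PB

variable {R A : Type*} [CommRing R] [CommRing A] [Algebra R A] (𝒜 : ℕ → Submodule R A) [GradedAlgebra 𝒜]

/-- key lemma: an element of the irrelevant ideal outside the radical of a homogeneous ideal `I`
is avoided by some relevant homogeneous prime containing `I`. -/
theorem exists_relevant_prime (I : HomogeneousIdeal 𝒜) (e : A)
    (he : e ∈ (HomogeneousIdeal.irrelevant 𝒜).toIdeal) (hne : e ∉ I.toIdeal.radical) :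
    ∃ x : ProjectiveSpectrum 𝒜, I ≤ x.asHomogeneousIdeal ∧ e ∉ x.asHomogeneousIdeal := by
  rw [Ideal.radical_eq_sInf, Ideal.mem_sInf] at hne
  push Not at hne
  obtain ⟨p, ⟨hIp, hp⟩, hep⟩ := hne
  refine ⟨⟨p.homogeneousCore 𝒜, hp.homogeneousCore, ?_⟩, ?_, ?_⟩
  · intro hle
    exact hep (Ideal.toIdeal_homogeneousCore_le 𝒜 p (hle he))
  · exact (Ideal.homogeneousCore.gc 𝒜 _ _).mp hIp
  · intro h
    exact hep (Ideal.toIdeal_homogeneousCore_le 𝒜 p h)

theorem exists_relevant_prime_of_not_nilpotent (e : A)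
    (he : e ∈ (HomogeneousIdeal.irrelevant 𝒜).toIdeal) (hne : ¬ IsNilpotent e) :
    ∃ x : ProjectiveSpectrum 𝒜, e ∉ x.asHomogeneousIdeal := by
  obtain ⟨x, _, hx⟩ := exists_relevant_prime 𝒜 ⊥ e he (by
    rw [HomogeneousIdeal.toIdeal_bot]; exact fun h => hne (mem_nilradical.mp h))
  exact ⟨x, hx⟩


theorem exists_homogeneous_pos_notMem (x : ProjectiveSpectrum 𝒜) :
    ∃ (i : ℕ) (s : A), 0 < i ∧ s ∈ 𝒜 i ∧ s ∉ x.asHomogeneousIdeal := by
  classical
  obtain ⟨f, hf, hfx⟩ := Set.not_subset.mp x.not_irrelevant_le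
  by_contra hcon
  push Not at hcon
  apply hfx
  change f ∈ x.asHomogeneousIdeal.toIdeal
  rw [← sum_support_decompose 𝒜 f]
  refine sum_mem fun i _ => ?_
  by_cases hi : i = 0
  · subst hi
    have h0 : ((decompose 𝒜 f 0 : 𝒜 0) : A) = 0 := hf
    rw [h0]; exact zero_mem _
  · exact hcon i _ (Nat.pos_of_ne_zero hi) (SetLike.coe_mem _)

theorem away_isReduced     (hred : ∀ f ∈ (HomogeneousIdeal.irrelevant 𝒜).toIdeal, IsNilpotent f → f = 0)
    {d : ℕ} (hd : 0 < d) (f : A) (hf : f ∈ 𝒜 d) :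
    _root_.IsReduced (HomogeneousLocalization.Away 𝒜 f) := by
  refine ⟨fun x hx => ?_⟩
  obtain ⟨k, hk⟩ := hx
  obtain ⟨n, a, ha, rfl⟩ := HomogeneousLocalization.Away.mk_surjective 𝒜 hf x
  apply HomogeneousLocalization.val_injective
  rw [HomogeneousLocalization.val_zero, HomogeneousLocalization.Away.val_mk]
  have h1 := congrArg HomogeneousLocalization.val hk
  rw [HomogeneousLocalization.val_pow, HomogeneousLocalization.Away.val_mk,
    HomogeneousLocalization.val_zero, Localization.mk_pow, Localization.mk_eq_mk',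
    IsLocalization.mk'_eq_zero_iff] at h1
  obtain ⟨⟨_, m, rfl⟩, hm⟩ := h1
  have hfa : f * a = 0 := by
    apply hred
    · exact Ideal.mul_mem_right _ _ (HomogeneousIdeal.mem_irrelevant_of_mem 𝒜 hd hf)
    · refine ⟨m + k, ?_⟩
      rw [mul_pow, pow_add, pow_add]
      calc f ^ m * f ^ k * (a ^ m * a ^ k) = (f ^ m * a ^ k) * (f ^ k * a ^ m) := by ring
        _ = 0 := by rw [hm, zero_mul]
  rw [Localization.mk_eq_mk', IsLocalization.mk'_eq_zero_iff]
  exact ⟨⟨f, 1, pow_one f⟩, hfa⟩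

end Groth.Agent.H1.PB
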