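import Mathlib
import Groth.Agent.Lib.Helper1.LocalCriterion

/-!
# Local criterion of flatness, part 2 (helper1): Stacks 00ME and consequences
-/

universe u v w w'
open TensorProduct Function

namespace Groth.Agent.H1

section

variable {A : Type*} [CommRing A] {B : Type*} [CommRing B] [Algebra A B]
  {M : Type*} [AddCommGroup M] [Module A M] [Module B M] [IsScalarTower A B M]

/-- Elements `m ⊗ p` with `p ∈ I^n • ⊤` lie in `(I B)^n • ⊤`. -/
theorem tmul_mem_map_pow_smul_top' (I : Ideal A) (n : ℕ) (P : Type*) [AddCommGroup P] [Module A P]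
    (m : M) (p : P) (hp : p ∈ I ^ n • (⊤ : Submodule A P)) :
    m ⊗ₜ[A] p ∈ (I.map (algebraMap A B)) ^ n • (⊤ : Submodule B (M ⊗[A] P)) := by
  refine Submodule.smul_induction_on hp ?_ ?_
  · intro a ha p' _
    have : m ⊗ₜ[A] (a • p') = (algebraMap A B a) • (m ⊗ₜ[A] p') := by
      rw [TensorProduct.tmul_smul]
      exact (algebraMap_smul B a _).symm
    rw [this, ← Ideal.map_pow]
    exact Submodule.smul_mem_smul (Ideal.mem_map_of_mem _ ha) Submodule.mem_top
  · intro j₁ j₂ h₁ h₂
    rw [TensorProduct.tmul_add]
    exact Submodule.add_mem _ h₁ h₂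

end

section

variable {R : Type u} [CommRing R] [IsLocalRing R] (S : Type v) [CommRing S] [IsLocalRing S]
  [IsNoetherianRing S] [Algebra R S] [IsLocalHom (algebraMap R S)]
  {M : Type w} [AddCommGroup M] [Module R M] [Module.Flat R M]
  {N : Type w'} [AddCommGroup N] [Module R N] [Module S N] [IsScalarTower R S N] [Module.Finite S N]

include S

/-- Stacks 00ME, key step: if `u ⊗ κ` is injective then `u ⊗ P` is injective for every finite
`R`-module `P`. -/
theorem lTensor_injective_of_lTensor_residue_injective (u : N →ₗ[R] M)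
    (h : Injective (u.lTensor (R ⧸ IsLocalRing.maximalIdeal R)))
    (P : Type u) [AddCommGroup P] [Module R P] [Module.Finite R P] :
    Injective (u.lTensor P) := by
  set m := IsLocalRing.maximalIdeal R with hm
  let _ : Field (R ⧸ m) := Ideal.Quotient.field _
  have hflat : Module.Flat (R ⧸ m) ((R ⧸ m) ⊗[R] (M ⧸ LinearMap.range u)) := inferInstance
  have hT : ∀ (k : ℕ) (P : Type u) [AddCommGroup P] [Module R P],
      m ^ k • (⊤ : Submodule R P) = ⊥ → Injective (u.lTensor P) := fun k ↦
    LocalCrit.T_of_isNilpotent u (LinearMap.range u).mkQ (LinearMap.exact_map_mkQ_range u)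
      (Submodule.mkQ_surjective _) m h k
  rw [LinearMap.lTensor_inj_iff_rTensor_inj, injective_iff_map_eq_zero]
  intro y hy
  have : Module.Finite S (N ⊗[R] P) := finite_tensor_of_finite P
  have hkrull := Ideal.iInf_pow_smul_eq_bot_of_le_jacobson (M := N ⊗[R] P) _
    (map_le_jacobson_of_isLocalHom (S := S) m (Ideal.IsPrime.ne_top inferInstance))
  have hmem : y ∈ (⨅ i : ℕ, (m.map (algebraMap R S)) ^ i • ⊤ : Submodule S (N ⊗[R] P)) := by
    rw [Submodule.mem_iInf]
    intro n
    let P' : Submodule R P := m ^ n • ⊤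
    have hkill : m ^ n • (⊤ : Submodule R (P ⧸ P')) = ⊥ := by
      rw [eq_bot_iff]
      refine Submodule.smul_le.mpr fun a ha z _ ↦ ?_
      obtain ⟨p, rfl⟩ := Submodule.mkQ_surjective _ z
      rw [Submodule.mem_bot, ← map_smul, Submodule.mkQ_apply, Submodule.Quotient.mk_eq_zero]
      exact Submodule.smul_mem_smul ha Submodule.mem_top
    have hinj : Injective (u.rTensor (P ⧸ P')) := by
      rw [← LinearMap.lTensor_inj_iff_rTensor_inj]
      exact hT n (P ⧸ P') hkill
    have h0 : (P'.mkQ.lTensor N) y = 0 := by
      apply hinj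
      rw [map_zero, ← LinearMap.comp_apply, LinearMap.rTensor_comp_lTensor,
        ← LinearMap.lTensor_comp_rTensor, LinearMap.comp_apply, hy, map_zero]
    have hex := lTensor_exact N (LinearMap.exact_subtype_mkQ P') (Submodule.mkQ_surjective _)
    obtain ⟨z, rfl⟩ := (hex y).mp h0
    clear h0 hy
    induction z using TensorProduct.induction_on with
    | zero => simp
    | add y₁ y₂ h₁ h₂ => rw [map_add]; exact Submodule.add_mem _ h₁ h₂
    | tmul n' p =>
      rw [LinearMap.lTensor_tmul]
      exact tmul_mem_map_pow_smul_top' m n P n' _ p.2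
  rw [hkrull] at hmem
  exact hmem

/-- Stacks 00ME: `u : N → M` with `N` finite over Noetherian local `S`, `M` flat over `R`, and
`u ⊗ κ` injective; then `u` is injective with `R`-flat cokernel. -/
theorem injective_and_flat_quotient_of_lTensor_residue_injective (u : N →ₗ[R] M)
    (h : Injective (u.lTensor (R ⧸ IsLocalRing.maximalIdeal R))) :
    Injective u ∧ Module.Flat R (M ⧸ LinearMap.range u) := by
  have hP := lTensor_injective_of_lTensor_residue_injective S u h
  constructor
  · rw [injective_iff_map_eq_zero]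
    intro x hx
    have h1 : (u.lTensor R) ((1 : R) ⊗ₜ[R] x) = 0 := by
      rw [LinearMap.lTensor_tmul, hx, tmul_zero]
    have h2 : (1 : R) ⊗ₜ[R] x = 0 := hP R (by rw [h1, map_zero])
    have h3 := congrArg (TensorProduct.lid R N) h2
    simpa using h3
  · rw [Module.Flat.iff_lTensor_injective']
    intro I
    exact LocalCrit.lTensor_injective_of_T u (LinearMap.range u).mkQ
      (LinearMap.exact_map_mkQ_range u) (Submodule.mkQ_surjective _) I.subtype I.mkQ
      Subtype.val_injective (LinearMap.exact_subtype_mkQ I) (Submodule.mkQ_surjective I)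
      (hP (R ⧸ I))

/-- Variant of `injective_and_flat_quotient_of_lTensor_residue_injective` for an arbitrary cokernel
`π : M → Q` of `u`. -/
theorem flat_of_exact_of_lTensor_residue_injective (u : N →ₗ[R] M)
    (h : Injective (u.lTensor (R ⧸ IsLocalRing.maximalIdeal R)))
    {Q : Type*} [AddCommGroup Q] [Module R Q] (π : M →ₗ[R] Q) (hex : Exact u π)
    (hπ : Surjective π) : Module.Flat R Q := by
  have hP := lTensor_injective_of_lTensor_residue_injective S u h
  rw [Module.Flat.iff_lTensor_injective']
  intro I
  exact LocalCrit.lTensor_injective_of_T u π hex hπ I.subtype I.mkQ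
    Subtype.val_injective (LinearMap.exact_subtype_mkQ I) (Submodule.mkQ_surjective I)
    (hP (R ⧸ I))

end

end Groth.Agent.H1
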