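import Mathlib
import Groth.Prelude.Def_Wider
import Groth.Agent.Lib.Helper6.HartConn
import Groth.Agent.Lib.Helper6.LCDepth

universe u
open TopologicalSpace Topology AlgebraicGeometry CategoryTheory

namespace Groth.Agent.H1.DepthConn

section Top

variable {T : Type*} [TopologicalSpace T]

/-- every point has an open neighbourhood which is a Noetherian quasi-sober space -/
def LocNoeth (T : Type*) [TopologicalSpace T] : Prop :=
  ∀ x : T, ∃ N : Set T, IsOpen N ∧ x ∈ N ∧ NoetherianSpace N ∧ QuasiSober N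

theorem isOpen_connectedComponent (h : LocNoeth T) (x : T) : IsOpen (connectedComponent x) := by
  classical
  rw [isOpen_iff_mem_nhds]
  intro y hy
  obtain ⟨N, hNo, hyN, hNoeth, -⟩ := h y
  have hfin : (irreducibleComponents N).Finite := NoetherianSpace.finite_irreducibleComponents
  let F : Set (Set N) := {Z | Z ∈ irreducibleComponents N ∧ ¬ (Subtype.val '' Z ⊆ connectedComponent x)}
  have hFfin : F.Finite := hfin.subset fun Z hZ => hZ.1
  let S' : Set N := ⋃ Z ∈ F, Z
  have hS'closed : IsClosed S' :=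
    hFfin.isClosed_biUnion fun Z hZ => isClosed_of_mem_irreducibleComponents Z hZ.1
  have hopen : IsOpen (Subtype.val '' S'ᶜ : Set T) :=
    hNo.isOpenMap_subtype_val _ hS'closed.isOpen_compl
  have hcc : connectedComponent x = connectedComponent y := connectedComponent_eq hy
  have hyS' : (⟨y, hyN⟩ : N) ∉ S' := by
    intro hmem
    simp only [S', Set.mem_iUnion] at hmem
    obtain ⟨Z, hZ, hyZ⟩ := hmem
    apply hZ.2
    have hconn : IsPreconnected (Subtype.val '' Z : Set T) :=
      (hZ.1.1.isConnected.image _ continuous_subtype_val.continuousOn).isPreconnected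
    rw [hcc]
    exact hconn.subset_connectedComponent ⟨⟨y, hyN⟩, hyZ, rfl⟩
  refine Filter.mem_of_superset (hopen.mem_nhds ⟨⟨y, hyN⟩, hyS', rfl⟩) ?_
  rintro _ ⟨n, hn, rfl⟩
  by_contra hcon
  apply hn
  simp only [S', Set.mem_iUnion]
  refine ⟨irreducibleComponent n, ⟨irreducibleComponent_mem_irreducibleComponents n, ?_⟩,
    mem_irreducibleComponent⟩
  intro hsub
  exact hcon (hsub ⟨n, mem_irreducibleComponent, rfl⟩)

theorem exists_specializes_of_mem_closure (h : LocNoeth T) {W : Set T} (hW : IsOpen W) {x : T}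
    (hx : x ∈ closure W) : ∃ w ∈ W, w ⤳ x := by
  classical
  obtain ⟨N, hNo, hxN, hNoeth, hQS⟩ := h x
  have hfin : (irreducibleComponents N).Finite := NoetherianSpace.finite_irreducibleComponents
  let S : Set N := Subtype.val ⁻¹' W
  have hSo : IsOpen S := hW.preimage continuous_subtype_val
  have hxS : (⟨x, hxN⟩ : N) ∈ closure S := by
    rw [closure_subtype]
    have h1 : x ∈ closure (N ∩ W) := hNo.inter_closure ⟨hxN, hx⟩
    refine closure_mono ?_ h1
    rintro z ⟨hzN, hzW⟩
    exact ⟨⟨z, hzN⟩, hzW, rfl⟩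
  let F : Set (Set N) := {Z | Z ∈ irreducibleComponents N ∧ (S ∩ Z).Nonempty}
  have hFfin : F.Finite := hfin.subset fun Z hZ => hZ.1
  let R : Set N := ⋃ Z ∈ F, Z
  have hRclosed : IsClosed R :=
    hFfin.isClosed_biUnion fun Z hZ => isClosed_of_mem_irreducibleComponents Z hZ.1
  have hSR : S ⊆ R := by
    intro s hs
    simp only [R, Set.mem_iUnion]
    exact ⟨irreducibleComponent s, ⟨irreducibleComponent_mem_irreducibleComponents s,
      ⟨s, hs, mem_irreducibleComponent⟩⟩, mem_irreducibleComponent⟩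
  have hxR : (⟨x, hxN⟩ : N) ∈ R := (closure_minimal hSR hRclosed) hxS
  simp only [R, Set.mem_iUnion] at hxR
  obtain ⟨Z, ⟨hZ, ⟨s, hsS, hsZ⟩⟩, hxZ⟩ := hxR
  obtain ⟨ζ, hζ⟩ := QuasiSober.sober hZ.1 (isClosed_of_mem_irreducibleComponents Z hZ)
  have h1 : ζ ⤳ s := by
    rw [specializes_iff_mem_closure, hζ.def]; exact hsZ
  have h2 : ζ ∈ S := h1.mem_open hSo hsS
  have h3 : ζ ⤳ (⟨x, hxN⟩ : N) := by
    rw [specializes_iff_mem_closure, hζ.def]; exact hxZ
  exact ⟨ζ, h2, h3.map continuous_subtype_val⟩

end Top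


section Local

variable (A : Type u) [CommRing A] [IsLocalRing A] [IsNoetherianRing A]

theorem idem_local (c : A) (hc : c * c = c) : c = 0 ∨ c = 1 := by
  rcases IsLocalRing.isUnit_or_isUnit_one_sub_self c with h | h
  · right
    obtain ⟨u, rfl⟩ := h
    have : (u : A) * u = u * 1 := by rw [hc, mul_one]
    exact u.isUnit.mul_left_cancel this
  · left
    have h0 : (1 - c) * c = (1 - c) * 0 := by rw [mul_zero, sub_mul, one_mul, hc, sub_self]
    exact h.mul_left_cancel h0

theorem smul_top_ne_top : IsLocalRing.maximalIdeal A • (⊤ : Submodule A A) ≠ ⊤ := by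
  rw [smul_eq_mul, Ideal.mul_top]
  exact Ideal.IsPrime.ne_top inferInstance

/-- Hartshorne: depth at least two implies the punctured spectrum is preconnected -/
theorem isPreconnected_punctured (h : (2 : ℕ∞) ≤ LocCoh.depth A A) :
    _root_.IsPreconnected ({IsLocalRing.closedPoint A}ᶜ : Set (PrimeSpectrum A)) := by
  have h1 := (Groth.Agent.H6.LC.le_idealDepth_iff (IsLocalRing.maximalIdeal A) A
    (smul_top_ne_top A) 2).mp h
  have h2 := Groth.Agent.H6.HartConn.isPreconnected_compl_zeroLocus (idem_local A)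
    (IsLocalRing.maximalIdeal A) h1
  convert h2 using 2
  ext p
  simp only [Set.mem_singleton_iff, PrimeSpectrum.mem_zeroLocus, SetLike.coe_subset_coe]
  constructor
  · rintro rfl
    exact le_refl _
  · intro hle
    exact PrimeSpectrum.ext (le_antisymm (IsLocalRing.le_maximalIdeal p.2.ne_top) hle)

/-- depth at least one gives a non-nilpotent element of the maximal ideal -/
theorem exists_not_nilpotent (h : (1 : ℕ∞) ≤ LocCoh.depth A A) :
    ∃ r ∈ IsLocalRing.maximalIdeal A, ¬ IsNilpotent r := by
  classical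
  unfold LocCoh.depth LocCoh.idealDepth at h
  rw [if_neg (smul_top_ne_top A)] at h
  by_contra hcon
  push Not at hcon
  have : (⨆ (rs : List A) (_ : RingTheory.Sequence.IsWeaklyRegular A rs ∧
      ∀ r ∈ rs, r ∈ IsLocalRing.maximalIdeal A), (rs.length : ℕ∞)) ≤ 0 := by
    refine iSup₂_le fun rs hrs => ?_
    cases rs with
    | nil => simp
    | cons r rs =>
      exfalso
      have hr : r ∈ IsLocalRing.maximalIdeal A := hrs.2 r List.mem_cons_self
      obtain ⟨k, hk⟩ := hcon r hr
      have hreg : IsSMulRegular A r :=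
        ((RingTheory.Sequence.isWeaklyRegular_cons_iff A r rs).mp hrs.1).1
      have hregk : IsSMulRegular A (r ^ k) := hreg.pow k
      have : (1 : A) = 0 := hregk (by simp only [hk, zero_smul])
      exact one_ne_zero this
  have h3 := h.trans this
  simp at h3

end Local

end Groth.Agent.H1.DepthConn
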