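import Mathlib
import Groth.Agent.Lib.Helper1.FlatNilpotent
import Groth.Agent.Lib.Helper1.FlatLocus

/-!
# Fibrewise criterion of flatness for finitely presented modules (no Noetherian hypotheses)

`A → S` with `S` local, `N` a finitely presented `S`-module flat over `A`, `I` an ideal of `A` with
`IS ≠ S`.  If `N/IN` is flat over `S/IS` then `N` is free over `S`.
-/

set_option autoImplicit false

universe u

open TensorProduct Function

namespace Groth.Agent.H1.FibreFree

section tor

variable {A : Type*} [CommRing A] {F N : Type*} [AddCommGroup F] [Module A F] [AddCommGroup N]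
  [Module A N]

/-- an element is killed by `- ⊗ A/I` iff it lies in `I • ⊤` -/
theorem one_tmul_eq_zero_iff (I : Ideal A) (x : F) :
    (1 : A ⧸ I) ⊗ₜ[A] x = 0 ↔ x ∈ I • (⊤ : Submodule A F) := by
  rw [← quotTensorEquivQuotSMul_symm_mk, LinearEquiv.map_eq_zero_iff,
    Submodule.Quotient.mk_eq_zero]

/-- (`Tor₁(N, A/I) = 0`) `L ∩ IF = IL` for `0 → L → F → N → 0` with `N` flat. -/
theorem mem_smul_top_ker_of_flat [Module.Flat A N] (φ : F →ₗ[A] N) (hφ : Surjective φ)
    (I : Ideal A) (x : F) (hx : φ x = 0) (hxI : x ∈ I • (⊤ : Submodule A F)) :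
    (⟨x, hx⟩ : LinearMap.ker φ) ∈ I • (⊤ : Submodule A (LinearMap.ker φ)) := by
  have inj := Groth.Agent.H1.lTensor_injective_of_exact_of_flat (LinearMap.ker φ).subtype φ
    Subtype.val_injective (LinearMap.exact_subtype_ker_map φ) hφ (A ⧸ I)
  rw [← one_tmul_eq_zero_iff]
  apply inj
  rw [map_zero, LinearMap.lTensor_tmul]
  exact (one_tmul_eq_zero_iff I x).mpr hxI

end tor

section loc

variable {A S N : Type*} [CommRing A] [CommRing S] [IsLocalRing S] [Algebra A S]
  [AddCommGroup N] [Module S N] [Module A N] [IsScalarTower A S N]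

/-- `IS • F ⊆ I • F` -/
theorem mem_smul_top_of_mem_map_smul_top {F : Type*} [AddCommGroup F] [Module S F] [Module A F]
    [IsScalarTower A S F] (I : Ideal A) (x : F)
    (hx : x ∈ I.map (algebraMap A S) • (⊤ : Submodule S F)) : x ∈ I • (⊤ : Submodule A F) := by
  refine Submodule.smul_induction_on hx ?_ ?_
  · intro j hj
    suffices h : ∀ f : F, j • f ∈ I • (⊤ : Submodule A F) from fun f _ => h f
    refine Submodule.span_induction (p := fun j _ => ∀ f : F, j • f ∈ I • (⊤ : Submodule A F))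
      ?_ ?_ ?_ ?_ hj
    · rintro _ ⟨a, ha, rfl⟩ f
      rw [algebraMap_smul]
      exact Submodule.smul_mem_smul ha Submodule.mem_top
    · intro f
      rw [zero_smul]
      exact Submodule.zero_mem _
    · intro j₁ j₂ _ _ h₁ h₂ f
      rw [add_smul]
      exact Submodule.add_mem _ (h₁ f) (h₂ f)
    · intro s j _ h f
      rw [smul_eq_mul, mul_comm, mul_smul]
      exact h (s • f)
  · intro x y hx hy
    exact Submodule.add_mem _ hx hy

/-- **Fibrewise bijectivity criterion.** -/
theorem bijective_of_bijective_fibre [Module.FinitePresentation S N] [Module.Flat A N]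
    (I : Ideal A) (hI : I.map (algebraMap A S) ≠ ⊤) {F : Type*} [AddCommGroup F] [Module S F]
    [Module A F] [IsScalarTower A S F] [Module.Finite S F] (φ : F →ₗ[S] N)
    (hφ : Bijective (φ.lTensor (S ⧸ I.map (algebraMap A S)))) : Bijective φ := by
  set J := I.map (algebraMap A S) with hJdef
  have hJ : J ≤ Ideal.jacobson ⊥ :=
    (IsLocalRing.le_maximalIdeal hI).trans (IsLocalRing.maximalIdeal_le_jacobson ⊥)
  have hmk : ∀ y : (S ⧸ J) ⊗[S] F, ∃ f : F, (1 : S ⧸ J) ⊗ₜ[S] f = y := by
    intro y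
    induction y using TensorProduct.induction_on with
    | zero => exact ⟨0, by simp⟩
    | add a b ha hb =>
      obtain ⟨f₁, rfl⟩ := ha
      obtain ⟨f₂, rfl⟩ := hb
      exact ⟨f₁ + f₂, by rw [TensorProduct.tmul_add]⟩
    | tmul c f =>
      obtain ⟨s, rfl⟩ := Ideal.Quotient.mk_surjective c
      refine ⟨s • f, ?_⟩
      rw [TensorProduct.tmul_smul, TensorProduct.smul_tmul', ← Ideal.Quotient.algebraMap_eq,
        Algebra.smul_def, mul_one]
  -- surjectivity
  have hsurj : Surjective φ := by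
    rw [← LinearMap.range_eq_top, eq_top_iff]
    refine Submodule.le_of_le_smul_of_le_jacobson_bot Module.Finite.fg_top hJ ?_
    intro x _
    obtain ⟨y, hy⟩ := hφ.2 ((1 : S ⧸ J) ⊗ₜ[S] x)
    obtain ⟨f, rfl⟩ := hmk y
    rw [LinearMap.lTensor_tmul] at hy
    have h0 : (1 : S ⧸ J) ⊗ₜ[S] (x - φ f) = 0 := by
      rw [TensorProduct.tmul_sub, hy, sub_self]
    have h1 : x - φ f ∈ J • (⊤ : Submodule S N) := (one_tmul_eq_zero_iff J _).mp h0
    have : x = φ f + (x - φ f) := by abel
    rw [this]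
    exact Submodule.add_mem_sup ⟨f, rfl⟩ h1
  refine ⟨?_, hsurj⟩
  -- injectivity
  rw [← LinearMap.ker_eq_bot]
  have hfg : (LinearMap.ker φ).FG := Module.FinitePresentation.fg_ker φ hsurj
  refine Submodule.eq_bot_of_le_smul_of_le_jacobson_bot J _ hfg ?_ hJ
  intro x hx
  have hx0 : φ x = 0 := hx
  have h1 : (1 : S ⧸ J) ⊗ₜ[S] x = 0 := by
    apply hφ.1
    rw [LinearMap.lTensor_tmul, hx0, TensorProduct.tmul_zero, map_zero]
  have h2 : x ∈ J • (⊤ : Submodule S F) := (one_tmul_eq_zero_iff J _).mp h1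
  have h3 : x ∈ I • (⊤ : Submodule A F) := mem_smul_top_of_mem_map_smul_top I x h2
  have h4 := mem_smul_top_ker_of_flat (φ.restrictScalars A) hsurj I x hx0 h3
  -- transfer to the `S`-submodule
  have key : ∀ z : LinearMap.ker (φ.restrictScalars A),
      z ∈ I • (⊤ : Submodule A (LinearMap.ker (φ.restrictScalars A))) →
      (z : F) ∈ J • LinearMap.ker φ := by
    intro z hz
    refine Submodule.smul_induction_on hz ?_ ?_
    · intro a ha y _
      change a • (y : F) ∈ J • LinearMap.ker φ
      rw [← algebraMap_smul S a (y : F)]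
      exact Submodule.smul_mem_smul (Ideal.mem_map_of_mem _ ha) y.2
    · intro z₁ z₂ h₁ h₂
      exact Submodule.add_mem _ h₁ h₂
  exact key _ h4

/-- **Fibrewise freeness criterion.** `N` finitely presented over the local ring `S`, flat over
`A`, and `N/IN` flat over `S/IS` (with `IS ≠ S`): then `N` is free over `S`. -/
theorem free_of_flat_of_flat_fibre [Module.FinitePresentation S N] [Module.Flat A N]
    (I : Ideal A) (hI : I.map (algebraMap A S) ≠ ⊤)
    [Module.Flat (S ⧸ I.map (algebraMap A S)) ((S ⧸ I.map (algebraMap A S)) ⊗[S] N)] :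
    Module.Free S N := by
  set J := I.map (algebraMap A S) with hJdef
  haveI : Nontrivial (S ⧸ J) := Ideal.Quotient.nontrivial_iff.mpr hI
  haveI : IsLocalRing (S ⧸ J) :=
    IsLocalRing.of_surjective' (Ideal.Quotient.mk J) Ideal.Quotient.mk_surjective
  haveI : Module.Free (S ⧸ J) ((S ⧸ J) ⊗[S] N) := Module.free_of_flat_of_isLocalRing
  let b := Module.Free.chooseBasis (S ⧸ J) ((S ⧸ J) ⊗[S] N)
  have hmk : ∀ y : (S ⧸ J) ⊗[S] N, ∃ f : N, (1 : S ⧸ J) ⊗ₜ[S] f = y := by
    intro y
    induction y using TensorProduct.induction_on with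
    | zero => exact ⟨0, by simp⟩
    | add a b ha hb =>
      obtain ⟨f₁, rfl⟩ := ha
      obtain ⟨f₂, rfl⟩ := hb
      exact ⟨f₁ + f₂, by rw [TensorProduct.tmul_add]⟩
    | tmul c f =>
      obtain ⟨s, rfl⟩ := Ideal.Quotient.mk_surjective c
      refine ⟨s • f, ?_⟩
      rw [TensorProduct.tmul_smul, TensorProduct.smul_tmul', ← Ideal.Quotient.algebraMap_eq,
        Algebra.smul_def, mul_one]
  choose n hn using fun i => hmk (b i)
  let φ : (Module.Free.ChooseBasisIndex (S ⧸ J) ((S ⧸ J) ⊗[S] N) → S) →ₗ[S] N :=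
    Fintype.linearCombination S n
  let b' := (Pi.basisFun S (Module.Free.ChooseBasisIndex (S ⧸ J) ((S ⧸ J) ⊗[S] N))).baseChange
    (S ⧸ J)
  have heq : φ.baseChange (S ⧸ J) = (b'.equiv b (Equiv.refl _)).toLinearMap := by
    refine b'.ext fun i => ?_
    rw [LinearEquiv.coe_coe, Module.Basis.equiv_apply, Equiv.refl_apply,
      Module.Basis.baseChange_apply, LinearMap.baseChange_tmul, Pi.basisFun_apply, ← hn i]
    congr 1
    simp [φ, Fintype.linearCombination_apply_single]
  have hbij : Bijective (φ.lTensor (S ⧸ J)) := by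
    have : (φ.lTensor (S ⧸ J) : _ → _) = φ.baseChange (S ⧸ J) := rfl
    rw [this, heq]
    exact (b'.equiv b (Equiv.refl _)).bijective
  have := bijective_of_bijective_fibre (A := A) I hI φ hbij
  exact Module.Free.of_equiv (LinearEquiv.ofBijective φ this)

end loc

section glob

variable {A B M : Type u} [CommRing A] [CommRing B] [Algebra A B] [AddCommGroup M] [Module B M]
  [Module A M] [IsScalarTower A B M]

/-- a localization (over `B`) of an `A`-flat module is `A`-flat -/
theorem flat_localizedModule_of_flat [Module.Flat A M] (T : Submonoid B) :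
    Module.Flat A (LocalizedModule T M) := by
  refine Groth.Agent.H1.FlatLocus.flat_of_forall_exists_smul T (LocalizedModule.mkLinearMap T M)
    fun I x hx => ⟨1, T.one_mem, ?_⟩
  have hinj : Injective (I.subtype.lTensor M) :=
    Module.Flat.iff_lTensor_injective'.mp inferInstance I
  rw [one_smul]
  exact hinj (by rw [hx, map_zero])

set_option maxHeartbeats 1600000 in
/-- the fibre of the localization is a base change of the global fibre -/
theorem flat_fibre_localization (Q : Ideal B) [Q.IsPrime] (p : Ideal A) [p.IsPrime]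
    (hp : p = Q.comap (algebraMap A B))
    [Module.Flat (B ⊗[A] p.ResidueField) ((B ⊗[A] p.ResidueField) ⊗[B] M)] :
    Module.Flat (Localization.AtPrime Q ⧸ p.map (algebraMap A (Localization.AtPrime Q)))
      ((Localization.AtPrime Q ⧸ p.map (algebraMap A (Localization.AtPrime Q)))
        ⊗[Localization.AtPrime Q] LocalizedModule Q.primeCompl M) := by
  let S := Localization.AtPrime Q
  let J : Ideal S := p.map (algebraMap A S)
  let K := p.ResidueField
  -- the map `κ(p) → S/J`
  have hf₁ : p ≤ RingHom.ker (Algebra.ofId A (S ⧸ J)).toRingHom := by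
    intro a ha
    rw [RingHom.mem_ker]
    change algebraMap A (S ⧸ J) a = 0
    rw [IsScalarTower.algebraMap_apply A S (S ⧸ J), Ideal.Quotient.algebraMap_eq,
      Ideal.Quotient.eq_zero_iff_mem]
    exact Ideal.mem_map_of_mem _ ha
  have hf₂ : p.primeCompl ≤ (IsUnit.submonoid (S ⧸ J)).comap (Algebra.ofId A (S ⧸ J)) := by
    intro a ha
    change IsUnit (algebraMap A (S ⧸ J) a)
    rw [IsScalarTower.algebraMap_apply A S (S ⧸ J)]
    refine IsUnit.map _ ?_
    rw [IsScalarTower.algebraMap_apply A B S]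
    refine IsLocalization.map_units S (⟨algebraMap A B a, ?_⟩ : Q.primeCompl)
    intro hmem
    exact ha (by rw [hp]; exact hmem)
  let κ : K →ₐ[A] (S ⧸ J) := Ideal.ResidueField.liftₐ p (Algebra.ofId A (S ⧸ J)) hf₁ hf₂
  let ψ : B ⊗[A] K →ₐ[B] (S ⧸ J) :=
    Algebra.TensorProduct.lift (Algebra.ofId B (S ⧸ J)) κ (fun _ _ => Commute.all _ _)
  letI algBK : Algebra (B ⊗[A] K) (S ⧸ J) := ψ.toRingHom.toAlgebra
  haveI tow1 : IsScalarTower B (B ⊗[A] K) (S ⧸ J) :=
    IsScalarTower.of_algebraMap_eq fun x => (ψ.commutes x).symm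
  let N := LocalizedModule Q.primeCompl M
  let T := (S ⧸ J) ⊗[S] N
  letI modBK : Module (B ⊗[A] K) T := Module.compHom T (algebraMap (B ⊗[A] K) (S ⧸ J))
  haveI tow2 : IsScalarTower (B ⊗[A] K) (S ⧸ J) T :=
    ⟨fun x y z => by
      change (algebraMap (B ⊗[A] K) (S ⧸ J) x * y) • z = algebraMap (B ⊗[A] K) (S ⧸ J) x • (y • z)
      exact mul_smul (algebraMap (B ⊗[A] K) (S ⧸ J) x) y z⟩
  haveI tow3 : IsScalarTower B (B ⊗[A] K) T :=
    IsScalarTower.of_algebraMap_smul (R := B) (A := B ⊗[A] K) (M := T) fun b z => by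
      change algebraMap (B ⊗[A] K) (S ⧸ J) (algebraMap B (B ⊗[A] K) b) • z = b • z
      rw [← IsScalarTower.algebraMap_apply B (B ⊗[A] K) (S ⧸ J), algebraMap_smul]
  -- the chain of base changes
  let f₁ : M →ₗ[B] N := LocalizedModule.mkLinearMap Q.primeCompl M
  have h₁ : IsBaseChange S f₁ := IsLocalizedModule.isBaseChange Q.primeCompl S f₁
  let f₂ : N →ₗ[S] T := TensorProduct.mk S (S ⧸ J) N 1
  have h₂ : IsBaseChange (S ⧸ J) f₂ := TensorProduct.isBaseChange S N (S ⧸ J)
  have h₁₂ : IsBaseChange (S ⧸ J) ((f₂.restrictScalars B) ∘ₗ f₁) := IsBaseChange.comp h₁ h₂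
  let g₁ : M →ₗ[B] (B ⊗[A] K) ⊗[B] M := TensorProduct.mk B (B ⊗[A] K) M 1
  have hg₁ : IsBaseChange (B ⊗[A] K) g₁ := TensorProduct.isBaseChange B M (B ⊗[A] K)
  let g₂ : (B ⊗[A] K) ⊗[B] M →ₗ[B ⊗[A] K] T := hg₁.lift ((f₂.restrictScalars B) ∘ₗ f₁)
  have hg₂ : IsBaseChange (S ⧸ J) g₂ := by
    refine IsBaseChange.of_comp hg₁ ?_
    have : (g₂.restrictScalars B) ∘ₗ g₁ = (f₂.restrictScalars B) ∘ₗ f₁ := hg₁.lift_comp _
    rw [this]
    exact h₁₂
  exact Module.Flat.isBaseChange (R := B ⊗[A] K) (S := S ⧸ J) (M := (B ⊗[A] K) ⊗[B] M) T hg₂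

set_option maxHeartbeats 800000 in
/-- **Fibrewise criterion of flatness, finitely presented case** (no finiteness on `A → B`):
`M` a finitely presented `B`-module, flat over `A`, with all fibres `M ⊗ κ(p)` flat over
`B ⊗ κ(p)`.  Then `M` is flat over `B`. -/
theorem flat_of_flat_fibres [Module.FinitePresentation B M] [Module.Flat A M]
    (h : ∀ (p : Ideal A) [p.IsPrime],
      Module.Flat (B ⊗[A] p.ResidueField) ((B ⊗[A] p.ResidueField) ⊗[B] M)) :
    Module.Flat B M := by
  refine Module.flat_of_localized_maximal M fun Q _ => ?_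
  let p : Ideal A := Q.comap (algebraMap A B)
  haveI : p.IsPrime := Ideal.comap_isPrime _ _
  haveI : Module.Flat A (LocalizedModule Q.primeCompl M) := flat_localizedModule_of_flat _
  have hJ : p.map (algebraMap A (Localization.AtPrime Q)) ≤
      IsLocalRing.maximalIdeal (Localization.AtPrime Q) := by
    rw [Ideal.map_le_iff_le_comap]
    intro a ha
    rw [Ideal.mem_comap, IsScalarTower.algebraMap_apply A B (Localization.AtPrime Q)]
    exact (IsLocalization.AtPrime.to_map_mem_maximal_iff (Localization.AtPrime Q) Q _).mpr ha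
  have hI : p.map (algebraMap A (Localization.AtPrime Q)) ≠ ⊤ := fun htop =>
    (IsLocalRing.maximalIdeal.isMaximal _).ne_top (top_le_iff.mp (htop ▸ hJ))
  haveI := h p
  haveI := flat_fibre_localization (A := A) (M := M) Q p rfl
  haveI : Module.Free (Localization.AtPrime Q) (LocalizedModule Q.primeCompl M) :=
    free_of_flat_of_flat_fibre (A := A) p hI
  exact Module.Flat.trans B (Localization.AtPrime Q) (LocalizedModule Q.primeCompl M)

end glob

end Groth.Agent.H1.FibreFree
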