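import Mathlib
import Groth.Agent.Lib.Helper1.FlatNilpotentApps

universe u v
open TensorProduct Function

namespace Groth.Agent.H1

section cb
variable {R A : Type*} [CommRing R] [CommRing A] [Algebra R A]
  {M : Type*} [AddCommGroup M] [Module R M] [Module A M] [IsScalarTower R A M]
  {N Q : Type*} [AddCommGroup N] [Module R N] [AddCommGroup Q] [Module R Q]

theorem cancelBaseChange_lTensor_baseChange (f : N →ₗ[R] Q) (x : M ⊗[A] (A ⊗[R] N)) :
    (TensorProduct.AlgebraTensorModule.cancelBaseChange R A A M Q)
      ((f.baseChange A).lTensor M x) =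
    f.lTensor M ((TensorProduct.AlgebraTensorModule.cancelBaseChange R A A M N) x) := by
  induction x using TensorProduct.induction_on with
  | zero => simp
  | add x y hx hy => simp only [map_add, hx, hy]
  | tmul m y =>
    induction y using TensorProduct.induction_on with
    | zero => simp
    | add x y hx hy => simp only [tmul_add, map_add, hx, hy]
    | tmul a n => simp

theorem bijective_lTensor_baseChange_iff (f : N →ₗ[R] Q) :
    Bijective ((f.baseChange A).lTensor M) ↔ Bijective (f.lTensor M) := by
  let e1 := TensorProduct.AlgebraTensorModule.cancelBaseChange R A A M N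
  let e2 := TensorProduct.AlgebraTensorModule.cancelBaseChange R A A M Q
  have h : ⇑e2 ∘ ⇑((f.baseChange A).lTensor M) = ⇑(f.lTensor M) ∘ ⇑e1 :=
    funext fun x ↦ cancelBaseChange_lTensor_baseChange f x
  constructor
  · intro hb
    have : ⇑(f.lTensor M) = ⇑e2 ∘ ⇑((f.baseChange A).lTensor M) ∘ ⇑e1.symm := by
      rw [← Function.comp_assoc, h]; ext x; simp
    rw [this]
    exact e2.bijective.comp (hb.comp e1.symm.bijective)
  · intro hb
    have : ⇑((f.baseChange A).lTensor M) = ⇑e2.symm ∘ ⇑(f.lTensor M) ∘ ⇑e1 := by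
      rw [← h]; ext x; simp
    rw [this]
    exact e2.symm.bijective.comp (hb.comp e1.bijective)

end cb

theorem bijective_lTensor_of_bijective {R : Type*} [CommRing R] {M N Q : Type*}
    [AddCommGroup M] [Module R M] [AddCommGroup N] [Module R N] [AddCommGroup Q] [Module R Q]
    (g : N →ₗ[R] Q) (hg : Bijective g) : Bijective (g.lTensor M) := by
  have : g.lTensor M = (LinearEquiv.lTensor M (LinearEquiv.ofBijective g hg)).toLinearMap := by
    ext; simp
  rw [this]
  exact (LinearEquiv.lTensor M (LinearEquiv.ofBijective g hg)).bijective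

/-- Descent of bijectivity along an injective ring map, modulo a nilpotent ideal. -/
theorem bijective_of_flat_baseChange_of_injective {R S : Type*} [CommRing R] [CommRing S]
    [Algebra R S] (hinj : Injective (algebraMap R S)) (I : Ideal R) (hI : IsNilpotent I)
    {F M : Type*} [AddCommGroup F] [Module R F] [Module.Flat R F] [AddCommGroup M] [Module R M]
    [Module.Flat S (S ⊗[R] M)] (f : F →ₗ[R] M) (hf : Bijective (f.lTensor (R ⧸ I))) :
    Bijective f := by
  have hsurj : Surjective f := surjective_of_lTensor_surjective_of_isNilpotent hI f hf.2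
  refine ⟨?_, hsurj⟩
  set J := I.map (algebraMap R S) with hJdef
  have hJ : IsNilpotent J := by
    obtain ⟨n, hn⟩ := hI
    exact ⟨n, by rw [hJdef, ← Ideal.map_pow, hn, Ideal.zero_eq_bot, Ideal.map_bot]; rfl⟩
  -- step 1: bijective after tensoring with `S ⧸ J` over `R`
  have h1 : Bijective ((f.baseChange (R ⧸ I)).lTensor (S ⧸ J)) :=
    bijective_lTensor_of_bijective _ hf
  have h2 : Bijective (f.lTensor (S ⧸ J)) :=
    (bijective_lTensor_baseChange_iff (A := R ⧸ I) (M := S ⧸ J) f).mp h1
  have h3 : Bijective ((f.baseChange S).lTensor (S ⧸ J)) :=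
    (bijective_lTensor_baseChange_iff (A := S) (M := S ⧸ J) f).mpr h2
  have h4 : Bijective (f.baseChange S) :=
    bijective_of_lTensor_bijective_of_isNilpotent hJ (f.baseChange S) h3
  -- step 2: `F → S ⊗ F` is injective
  have h5 : Injective ((Algebra.linearMap R S).rTensor F) :=
    Module.Flat.rTensor_preserves_injective_linearMap _ hinj
  rw [injective_iff_map_eq_zero]
  intro x hx
  have h6 : (1 : S) ⊗ₜ[R] x = 0 := by
    apply h4.1
    rw [LinearMap.baseChange_tmul, hx, tmul_zero, map_zero]
  have h7 : (Algebra.linearMap R S).rTensor F ((1 : R) ⊗ₜ x) = 0 := by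
    rw [LinearMap.rTensor_tmul, Algebra.linearMap_apply, map_one, h6]
  have h8 := h5 (h7.trans (map_zero _).symm)
  have := congrArg (TensorProduct.lid R F) h8
  simpa using this

theorem exists_finsupp_lTensor_residue_bijective (R M : Type u) [CommRing R] [IsLocalRing R]
    [AddCommGroup M] [Module R M] :
    ∃ (ι : Type u) (f : (ι →₀ R) →ₗ[R] M),
      Bijective (f.lTensor (R ⧸ IsLocalRing.maximalIdeal R)) := by
  let k := R ⧸ IsLocalRing.maximalIdeal R
  let _ : Field k := Ideal.Quotient.field _
  let b := Module.Free.chooseBasis k (k ⊗[R] M)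
  let ι := Module.Free.ChooseBasisIndex k (k ⊗[R] M)
  have hsurj : Surjective (TensorProduct.mk R k M 1) := by
    intro x
    induction x using TensorProduct.induction_on with
    | zero => exact ⟨0, by simp⟩
    | add x y hx hy =>
      obtain ⟨x', rfl⟩ := hx
      obtain ⟨y', rfl⟩ := hy
      exact ⟨x' + y', by rw [map_add]⟩
    | tmul a m =>
      obtain ⟨a, rfl⟩ := Ideal.Quotient.mk_surjective a
      refine ⟨a • m, ?_⟩
      simp only [mk_apply, tmul_smul]
      rw [smul_tmul']
      congr 1
      rw [Algebra.smul_def, mul_one]; rfl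
  choose m hm using fun i => hsurj (b i)
  let f : (ι →₀ R) →ₗ[R] M := Finsupp.linearCombination R m
  let B : Module.Basis ι k (k ⊗[R] (ι →₀ R)) := Algebra.TensorProduct.basis k Finsupp.basisSingleOne
  have hf : f.baseChange k = (B.equiv b (Equiv.refl ι)).toLinearMap := by
    apply B.ext
    intro i
    have h1 : B i = 1 ⊗ₜ Finsupp.single i 1 := by simp [B]
    rw [LinearEquiv.coe_coe, Module.Basis.equiv_apply, h1, LinearMap.baseChange_tmul]
    simp only [f, Finsupp.linearCombination_single, one_smul, Equiv.refl_apply]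
    exact hm i
  refine ⟨ι, f, ?_⟩
  have : Bijective (f.baseChange k) := by rw [hf]; exact (B.equiv b (Equiv.refl ι)).bijective
  exact this

theorem flat_of_flat_baseChange_of_injective_of_isNilpotent_maximalIdeal {R S M : Type u}
    [CommRing R] [IsLocalRing R] (hR : IsNilpotent (IsLocalRing.maximalIdeal R))
    [CommRing S] [Algebra R S] (hinj : Injective (algebraMap R S))
    [AddCommGroup M] [Module R M] [Module.Flat S (S ⊗[R] M)] : Module.Flat R M := by
  obtain ⟨ι, f, hf⟩ := exists_finsupp_lTensor_residue_bijective R M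
  have := bijective_of_flat_baseChange_of_injective hinj _ hR f hf
  exact Module.Flat.of_linearEquiv (LinearEquiv.ofBijective f this).symm

theorem flat_of_flat_baseChange_of_injective_of_isArtinianRing {R S M : Type u} [CommRing R]
    [CommRing S] [IsArtinianRing R] [Algebra R S] (hinj : Function.Injective (algebraMap R S))
    [AddCommGroup M] [Module R M] [Module.Flat S (S ⊗[R] M)] : Module.Flat R M := by
  apply Module.flat_of_localized_maximal
  intro P hP
  let R' := Localization.AtPrime P
  let S' := Localization (Algebra.algebraMapSubmonoid S P.primeCompl)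
  let M' := LocalizedModule P.primeCompl M
  have hnil : IsNilpotent (IsLocalRing.maximalIdeal R') := by
    rw [← IsLocalRing.jacobson_eq_maximalIdeal (⊥ : Ideal R') bot_ne_top]
    exact IsArtinianRing.isNilpotent_jacobson_bot
  have hinj' : Injective (algebraMap R' S') := localizationAlgebra_injective R' S' hinj
  have hbc : IsBaseChange R' (LocalizedModule.mkLinearMap P.primeCompl M) :=
    IsLocalizedModule.isBaseChange P.primeCompl R' _
  let e1 : R' ⊗[R] M ≃ₗ[R'] M' := hbc.equiv
  let e2 : S' ⊗[R'] (R' ⊗[R] M) ≃ₗ[S'] S' ⊗[R'] M' :=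
    TensorProduct.AlgebraTensorModule.congr (LinearEquiv.refl S' S') e1
  let e3 : S' ⊗[R'] (R' ⊗[R] M) ≃ₗ[S'] S' ⊗[R] M :=
    TensorProduct.AlgebraTensorModule.cancelBaseChange R R' S' S' M
  let e4 : S' ⊗[S] (S ⊗[R] M) ≃ₗ[S'] S' ⊗[R] M :=
    TensorProduct.AlgebraTensorModule.cancelBaseChange R S S' S' M
  have hflat : Module.Flat S' (S' ⊗[R'] M') :=
    Module.Flat.of_linearEquiv (e2.symm ≪≫ₗ e3 ≪≫ₗ e4.symm)
  have h1 : Module.Flat R' M' :=
    flat_of_flat_baseChange_of_injective_of_isNilpotent_maximalIdeal hnil hinj'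
  exact Module.Flat.trans R R' M'

end Groth.Agent.H1
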