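import Mathlib
import Groth.Agent.Lib.Helper1.ArtinianFlatDescent

universe u v
open TensorProduct Function

namespace Groth.Agent.H1

section cb
variable {R A : Type*} [CommRing R] [CommRing A] [Algebra R A]
  {M : Type*} [AddCommGroup M] [Module R M] [Module A M] [IsScalarTower R A M]
  {N Q : Type*} [AddCommGroup N] [Module R N] [AddCommGroup Q] [Module R Q]

theorem injective_lTensor_baseChange_iff (f : N →ₗ[R] Q) :
    Injective ((f.baseChange A).lTensor M) ↔ Injective (f.lTensor M) := by
  let e1 := TensorProduct.AlgebraTensorModule.cancelBaseChange R A A M N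
  let e2 := TensorProduct.AlgebraTensorModule.cancelBaseChange R A A M Q
  have h : ⇑e2 ∘ ⇑((f.baseChange A).lTensor M) = ⇑(f.lTensor M) ∘ ⇑e1 :=
    funext fun x ↦ cancelBaseChange_lTensor_baseChange f x
  constructor
  · intro hb
    have : ⇑(f.lTensor M) = ⇑e2 ∘ ⇑((f.baseChange A).lTensor M) ∘ ⇑e1.symm := by
      rw [← Function.comp_assoc, h]; ext x; simp
    rw [this]
    exact e2.injective.comp (hb.comp e1.symm.injective)
  · intro hb
    have : ⇑((f.baseChange A).lTensor M) = ⇑e2.symm ∘ ⇑(f.lTensor M) ∘ ⇑e1 := by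
      rw [← h]; ext x; simp
    rw [this]
    exact e2.symm.injective.comp (hb.comp e1.injective)

end cb

/-- Lemma A: if `f` is a nonzerodivisor on `A` and on `M` then `(f) ⊗ M → A ⊗ M` is injective. -/
theorem rTensor_span_singleton_injective {A M : Type*} [CommRing A] [AddCommGroup M] [Module A M]
    (f : A) (hM : IsSMulRegular M f) :
    Injective ((Ideal.span {f}).subtype.rTensor M) := by
  let f' : Ideal.span {f} := ⟨f, Ideal.subset_span rfl⟩
  have hsurj : ∀ x : (Ideal.span {f} : Ideal A) ⊗[A] M, ∃ m : M, x = f' ⊗ₜ m := by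
    intro x
    induction x using TensorProduct.induction_on with
    | zero => exact ⟨0, by simp⟩
    | add x y hx hy =>
      obtain ⟨m, rfl⟩ := hx
      obtain ⟨m', rfl⟩ := hy
      exact ⟨m + m', by rw [tmul_add]⟩
    | tmul a m =>
      obtain ⟨a, ha⟩ := a
      obtain ⟨c, rfl⟩ := Ideal.mem_span_singleton'.mp ha
      refine ⟨c • m, ?_⟩
      rw [tmul_smul, smul_tmul']
      rfl
  rw [injective_iff_map_eq_zero]
  intro x hx
  obtain ⟨m, rfl⟩ := hsurj x
  have h1 : f • m = 0 := by
    have := congrArg (TensorProduct.lid A M) hx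
    simpa [f'] using this
  have h2 : m = 0 := hM (by simp only [h1, smul_zero])
  rw [h2, tmul_zero]

/-- Lemma B: modules killed by `f` are `M`-acyclic when `Tor₁(A/f, M) = 0` and `M/fM` is flat
over `A/f`. -/
theorem lTensor_injective_of_isTorsionBy {A : Type*} [CommRing A] (f : A)
    {M F R : Type*} [AddCommGroup M] [Module A M] [AddCommGroup F] [Module A F]
    [Module.Flat A F] [AddCommGroup R] [Module A R]
    (ι : R →ₗ[A] F) (π : F →ₗ[A] M) (hι : Injective ι) (hex : Exact ι π) (hπ : Surjective π)
    (hM : Injective ((Ideal.span {f}).subtype.rTensor M))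
    [Module.Flat (A ⧸ Ideal.span {f}) ((A ⧸ Ideal.span {f}) ⊗[A] M)]
    (N' : Type*) [AddCommGroup N'] [Module A N'] (hN' : ∀ y : N', f • y = 0) :
    Injective (ι.lTensor N') := by
  let B := A ⧸ Ideal.span {f}
  have h1 : Injective (ι.lTensor B) :=
    LocalCrit.T_of_rTensor_injective ι π hι hex hπ (Ideal.span {f}).subtype
      (Ideal.span {f}).mkQ (LinearMap.exact_subtype_mkQ _) (Submodule.mkQ_surjective _) hM
  have h2 : Injective (ι.baseChange B) := h1
  have h3 : Exact (ι.baseChange B) (π.baseChange B) := lTensor_exact B hex hπ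
  have h4 : Surjective (π.baseChange B) := LinearMap.lTensor_surjective B hπ
  have htors : Module.IsTorsionBySet A N' (Ideal.span {f} : Ideal A) :=
    (Module.isTorsionBySet_span_singleton_iff f).mpr hN'
  let : Module B N' := htors.module
  have : IsScalarTower A B N' := htors.isScalarTower
  have h5 : Injective ((ι.baseChange B).lTensor N') :=
    lTensor_injective_of_exact_of_flat (ι.baseChange B) (π.baseChange B) h2 h3 h4 N'
  exact (injective_lTensor_baseChange_iff ι).mp h5

/-- Lemma C: the kernel of a surjection of flat modules is flat. -/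
theorem flat_of_exact_of_flat_of_flat {A : Type*} [CommRing A] {K B C : Type*}
    [AddCommGroup K] [Module A K] [AddCommGroup B] [Module A B] [AddCommGroup C] [Module A C]
    (g₁ : K →ₗ[A] B) (g₂ : B →ₗ[A] C)
    (hg₁ : Injective g₁) (hex : Exact g₁ g₂) (hg₂ : Surjective g₂) [Module.Flat A B]
    [Module.Flat A C] : Module.Flat A K := by
  rw [Module.Flat.iff_rTensor_injective']
  intro a
  have h1 : Injective (g₁.lTensor a) := lTensor_injective_of_exact_of_flat g₁ g₂ hg₁ hex hg₂ a
  have h2 : Injective (a.subtype.rTensor B) :=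
    Module.Flat.rTensor_preserves_injective_linearMap _ Subtype.val_injective
  have h3 : (g₁.lTensor A) ∘ₗ (a.subtype.rTensor K) = (a.subtype.rTensor B) ∘ₗ (g₁.lTensor a) := by
    rw [LinearMap.lTensor_comp_rTensor, LinearMap.rTensor_comp_lTensor]
  have h4 : Injective ((g₁.lTensor A) ∘ (a.subtype.rTensor K)) := by
    have : ⇑(g₁.lTensor A) ∘ ⇑(a.subtype.rTensor K) =
        ⇑((g₁.lTensor A) ∘ₗ (a.subtype.rTensor K)) := rfl
    rw [this, h3]
    exact h2.comp h1
  exact h4.of_comp

/-- Lemma D: if `M_f` is flat over `A_f`, then `Tor₁(N, M)` is `f`-power torsion. -/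
theorem exists_pow_smul_eq_zero_of_lTensor_eq_zero {A : Type*} [CommRing A] (f : A)
    {M F R : Type*} [AddCommGroup M] [Module A M] [AddCommGroup F] [Module A F]
    [AddCommGroup R] [Module A R]
    (ι : R →ₗ[A] F) (π : F →ₗ[A] M) (hι : Injective ι) (hex : Exact ι π) (hπ : Surjective π)
    [Module.Flat (Localization.Away f) (LocalizedModule (Submonoid.powers f) M)]
    (N : Type*) [AddCommGroup N] [Module A N] (x : N ⊗[A] R) (hx : ι.lTensor N x = 0) :
    ∃ n : ℕ, f ^ n • x = 0 := by
  let S := Submonoid.powers f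
  let mkR := LocalizedModule.mkLinearMap S R
  let mkF := LocalizedModule.mkLinearMap S F
  let mkM := LocalizedModule.mkLinearMap S M
  let ι' := IsLocalizedModule.map S mkR mkF ι
  let π' := IsLocalizedModule.map S mkF mkM π
  have hι' : Injective ι' := IsLocalizedModule.map_injective S mkR mkF ι hι
  have hπ' : Surjective π' := IsLocalizedModule.map_surjective S mkF mkM π hπ
  have hex' : Exact ι' π' := IsLocalizedModule.map_exact S mkR mkF mkM ι π hex
  have : Module.Flat A (LocalizedModule S M) :=
    Module.Flat.trans A (Localization.Away f) (LocalizedModule S M)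
  have h1 : Injective (ι'.lTensor N) := lTensor_injective_of_exact_of_flat ι' π' hι' hex' hπ' N
  have hsq : ι' ∘ₗ mkR = mkF ∘ₗ ι := IsLocalizedModule.map_comp S mkR mkF ι
  have h2 : mkR.lTensor N x = 0 := by
    apply h1
    rw [map_zero, ← LinearMap.comp_apply, ← LinearMap.lTensor_comp, hsq, LinearMap.lTensor_comp,
      LinearMap.comp_apply, hx, map_zero]
  have hcomm : ∀ y : N ⊗[A] R, mkR.rTensor N (TensorProduct.comm A N R y) =
      TensorProduct.comm A N _ (mkR.lTensor N y) := by
    intro y
    induction y using TensorProduct.induction_on with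
    | zero => simp
    | add x y hx hy => simp only [map_add, hx, hy]
    | tmul n r => simp
  have h3 : mkR.rTensor N (TensorProduct.comm A N R x) = 0 := by
    rw [hcomm, h2, map_zero]
  have h4 : IsLocalizedModule S (TensorProduct.AlgebraTensorModule.rTensor A N mkR) :=
    inferInstance
  have h5 := (IsLocalizedModule.eq_zero_iff S
    (TensorProduct.AlgebraTensorModule.rTensor A N mkR)).mp h3
  obtain ⟨⟨_, n, rfl⟩, hc⟩ := h5
  refine ⟨n, ?_⟩
  apply (TensorProduct.comm A N R).injective
  rw [map_smul, map_zero]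
  exact hc

/-- Step 3: multiplication by `f` is injective on `Tor₁(N, M)`. -/
theorem eq_zero_of_smul_eq_zero_of_lTensor_eq_zero {A : Type*} [CommRing A] (f : A)
    {F R : Type*} [AddCommGroup F] [Module A F] [Module.Flat A F]
    [AddCommGroup R] [Module A R] (ι : R →ₗ[A] F)
    (N : Type*) [AddCommGroup N] [Module A N]
    (h2 : Injective (ι.lTensor (LinearMap.ker (LinearMap.lsmul A N f))))
    (h3 : Injective ((LinearMap.range (LinearMap.lsmul A N f)).subtype.rTensor R))
    (x : N ⊗[A] R) (hx : ι.lTensor N x = 0) (hfx : f • x = 0) : x = 0 := by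
  let fN := LinearMap.range (LinearMap.lsmul A N f)
  let Nf := LinearMap.ker (LinearMap.lsmul A N f)
  let g : N →ₗ[A] fN := (LinearMap.lsmul A N f).rangeRestrict
  let i : fN →ₗ[A] N := fN.subtype
  let j : Nf →ₗ[A] N := Nf.subtype
  have hig : i ∘ₗ g = LinearMap.lsmul A N f := by ext y; rfl
  have hg : Surjective g := LinearMap.surjective_rangeRestrict _
  have hjg : Exact j g := by
    intro y
    constructor
    · intro hy
      exact ⟨⟨y, by
        have := congrArg Subtype.val hy
        exact LinearMap.mem_ker.mpr this⟩, rfl⟩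
    · rintro ⟨⟨z, hz⟩, rfl⟩
      apply Subtype.ext
      exact LinearMap.mem_ker.mp hz
  -- a, b
  have ha : g.rTensor R x = 0 := by
    apply h3
    rw [map_zero, ← LinearMap.comp_apply, ← LinearMap.rTensor_comp, hig]
    have : (LinearMap.lsmul A N f).rTensor R = LinearMap.lsmul A (N ⊗[A] R) f := by
      ext n r
      simp [smul_tmul']
    rw [this]
    exact hfx
  -- c
  have hex2 : Exact (j.rTensor R) (g.rTensor R) := rTensor_exact R hjg hg
  obtain ⟨y, rfl⟩ := (hex2 x).mp ha
  -- d
  have hd : j.rTensor F (ι.lTensor Nf y) = 0 := by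
    rw [← LinearMap.comp_apply, LinearMap.rTensor_comp_lTensor, ← LinearMap.lTensor_comp_rTensor,
      LinearMap.comp_apply]
    exact hx
  have hjF : Injective (j.rTensor F) :=
    Module.Flat.rTensor_preserves_injective_linearMap _ Subtype.val_injective
  have hy : y = 0 := h2 ((hjF (hd.trans (map_zero _).symm)).trans (map_zero _).symm)
  rw [hy, map_zero]

/-- `T_M(N)` for all `N`, for generic presentations of `M` and of its syzygy `R`. -/
theorem lTensor_injective_of_flat_away_of_flat_quotient_aux {A : Type*} [CommRing A] (f : A)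
    {M F R F₂ R₂ : Type*} [AddCommGroup M] [Module A M] [AddCommGroup F] [Module A F]
    [Module.Flat A F] [AddCommGroup R] [Module A R] [AddCommGroup F₂] [Module A F₂]
    [Module.Flat A F₂] [AddCommGroup R₂] [Module A R₂]
    (ι : R →ₗ[A] F) (π : F →ₗ[A] M) (hι : Injective ι) (hex : Exact ι π) (hπ : Surjective π)
    (ι₂ : R₂ →ₗ[A] F₂) (π₂ : F₂ →ₗ[A] R) (hι₂ : Injective ι₂) (hex₂ : Exact ι₂ π₂)
    (hπ₂ : Surjective π₂)
    (hMt : Injective ((Ideal.span {f}).subtype.rTensor M))
    (hRt : Injective ((Ideal.span {f}).subtype.rTensor R))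
    [Module.Flat (Localization.Away f) (LocalizedModule (Submonoid.powers f) M)]
    [Module.Flat (A ⧸ Ideal.span {f}) ((A ⧸ Ideal.span {f}) ⊗[A] M)]
    (N : Type*) [AddCommGroup N] [Module A N] : Injective (ι.lTensor N) := by
  -- flatness of `B ⊗ R`
  have hιB : Injective (ι.lTensor (A ⧸ Ideal.span {f})) :=
    LocalCrit.T_of_rTensor_injective ι π hι hex hπ (Ideal.span {f}).subtype
      (Ideal.span {f}).mkQ (LinearMap.exact_subtype_mkQ _) (Submodule.mkQ_surjective _) hMt
  have hRflat : Module.Flat (A ⧸ Ideal.span {f}) ((A ⧸ Ideal.span {f}) ⊗[A] R) :=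
    flat_of_exact_of_flat_of_flat (ι.baseChange (A ⧸ Ideal.span {f}))
      (π.baseChange (A ⧸ Ideal.span {f})) hιB
      (lTensor_exact (A ⧸ Ideal.span {f}) hex hπ)
      (LinearMap.lTensor_surjective (A ⧸ Ideal.span {f}) hπ)
  -- the two acyclicity facts
  have h2 : Injective (ι.lTensor (LinearMap.ker (LinearMap.lsmul A N f))) :=
    lTensor_injective_of_isTorsionBy f ι π hι hex hπ hMt _ (fun y ↦ Subtype.ext
      (LinearMap.mem_ker.mp y.2))
  have h3 : Injective ((LinearMap.range (LinearMap.lsmul A N f)).subtype.rTensor R) := by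
    rw [← LinearMap.lTensor_inj_iff_rTensor_inj]
    refine LocalCrit.lTensor_injective_of_T ι₂ π₂ hex₂ hπ₂
      (LinearMap.range (LinearMap.lsmul A N f)).subtype
      (LinearMap.range (LinearMap.lsmul A N f)).mkQ Subtype.val_injective
      (LinearMap.exact_subtype_mkQ _) (Submodule.mkQ_surjective _) ?_
    refine lTensor_injective_of_isTorsionBy f ι₂ π₂ hι₂ hex₂ hπ₂ hRt _ (fun y ↦ ?_)
    obtain ⟨y, rfl⟩ := Submodule.mkQ_surjective _ y
    rw [← map_smul, Submodule.mkQ_apply, Submodule.Quotient.mk_eq_zero]
    exact ⟨y, rfl⟩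
  -- induction on the exponent
  have key : ∀ (n : ℕ) (x : N ⊗[A] R), ι.lTensor N x = 0 → f ^ n • x = 0 → x = 0 := by
    intro n
    induction n with
    | zero => intro x _ hx; simpa using hx
    | succ n ih =>
      intro x hx hfx
      apply ih x hx
      apply eq_zero_of_smul_eq_zero_of_lTensor_eq_zero f ι N h2 h3
      · rw [map_smul, hx, smul_zero]
      · rw [smul_smul, ← pow_succ']; exact hfx
  rw [injective_iff_map_eq_zero]
  intro x hx
  obtain ⟨n, hn⟩ := exists_pow_smul_eq_zero_of_lTensor_eq_zero f ι π hι hex hπ N x hx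
  exact key n x hx hn

theorem flat_of_forall_lTensor_quotient_injective {A : Type u} [CommRing A] {M F R : Type*}
    [AddCommGroup M] [Module A M] [AddCommGroup F] [Module A F] [Module.Flat A F]
    [AddCommGroup R] [Module A R] (ι : R →ₗ[A] F) (π : F →ₗ[A] M) (hex : Exact ι π)
    (hπ : Surjective π) (h : ∀ a : Ideal A, Injective (ι.lTensor (A ⧸ a))) : Module.Flat A M := by
  rw [Module.Flat.iff_rTensor_injective']
  intro a
  rw [← LinearMap.lTensor_inj_iff_rTensor_inj]
  exact LocalCrit.lTensor_injective_of_T ι π hex hπ a.subtype a.mkQ Subtype.val_injective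
    (LinearMap.exact_subtype_mkQ a) (Submodule.mkQ_surjective a) (h a)

theorem isSMulRegular_finsupp_of_mem_nonZeroDivisors {A : Type*} [CommRing A] (M : Type*) (f : A)
    (hA : f ∈ nonZeroDivisors A) : IsSMulRegular (M →₀ A) f := by
  intro v w h
  ext m
  have := DFunLike.congr_fun h m
  simp only [Finsupp.smul_apply, smul_eq_mul] at this
  exact (mul_cancel_left_mem_nonZeroDivisors hA).mp this

/-- Wrapper: only a presentation of `M` is needed. -/
theorem lTensor_injective_of_flat_away_of_flat_quotient {A : Type*} [CommRing A] (f : A)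
    {M F R : Type*} [AddCommGroup M] [Module A M] [AddCommGroup F] [Module A F]
    [Module.Flat A F] [AddCommGroup R] [Module A R]
    (ι : R →ₗ[A] F) (π : F →ₗ[A] M) (hι : Injective ι) (hex : Exact ι π) (hπ : Surjective π)
    (hM : IsSMulRegular M f) (hF : IsSMulRegular F f)
    [Module.Flat (Localization.Away f) (LocalizedModule (Submonoid.powers f) M)]
    [Module.Flat (A ⧸ Ideal.span {f}) ((A ⧸ Ideal.span {f}) ⊗[A] M)]
    (N : Type*) [AddCommGroup N] [Module A N] : Injective (ι.lTensor N) := by
  have hR : IsSMulRegular R f := fun r r' h ↦ hι (hF (by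
    change f • ι r = f • ι r'
    rw [← map_smul, ← map_smul]; exact congrArg ι h))
  exact lTensor_injective_of_flat_away_of_flat_quotient_aux f (F := F) (R := R)
    (F₂ := R →₀ A) (R₂ := LinearMap.ker (Finsupp.linearCombination A (id : R → R)))
    ι π hι hex hπ
    (LinearMap.ker (Finsupp.linearCombination A (id : R → R))).subtype
    (Finsupp.linearCombination A id) Subtype.val_injective (LinearMap.exact_subtype_ker_map _)
    (Finsupp.linearCombination_id_surjective A R)
    (rTensor_span_singleton_injective f hM) (rTensor_span_singleton_injective f hR) N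

/-- An abstract free presentation. -/
theorem exists_free_presentation (A M : Type u) [CommRing A] [AddCommGroup M] [Module A M] :
    ∃ (F : Type u) (_ : AddCommGroup F) (_ : Module A F) (_ : Module.Flat A F)
      (R : Type u) (_ : AddCommGroup R) (_ : Module A R) (ι : R →ₗ[A] F) (π : F →ₗ[A] M),
      Injective ι ∧ Exact ι π ∧ Surjective π ∧
        ∀ f ∈ nonZeroDivisors A, IsSMulRegular F f :=
  ⟨M →₀ A, inferInstance, inferInstance, inferInstance,
    LinearMap.ker (Finsupp.linearCombination A (id : M → M)), inferInstance, inferInstance,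
    (LinearMap.ker (Finsupp.linearCombination A (id : M → M))).subtype,
    Finsupp.linearCombination A id, Subtype.val_injective, LinearMap.exact_subtype_ker_map _,
    Finsupp.linearCombination_id_surjective A M,
    fun f hf ↦ isSMulRegular_finsupp_of_mem_nonZeroDivisors M f hf⟩

theorem flat_of_flat_away_of_flat_quotient {A M : Type u} [CommRing A]
    [AddCommGroup M] [Module A M] (f : A) (hA : f ∈ nonZeroDivisors A) (hM : IsSMulRegular M f)
    [Module.Flat (Localization.Away f) (LocalizedModule (Submonoid.powers f) M)]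
    [Module.Flat (A ⧸ Ideal.span {f}) ((A ⧸ Ideal.span {f}) ⊗[A] M)] : Module.Flat A M := by
  obtain ⟨F, _, _, _, R, _, _, ι, π, hι, hex, hπ, hF⟩ := exists_free_presentation A M
  exact flat_of_forall_lTensor_quotient_injective ι π hex hπ fun a ↦
    lTensor_injective_of_flat_away_of_flat_quotient f ι π hι hex hπ hM (hF f hA) (A ⧸ a)

end Groth.Agent.H1
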