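import Mathlib
open DirectSum

namespace Groth.Agent.H1.GFG

variable {R A : Type*} [CommRing R] [CommRing A] [Algebra R A] (𝒜 : ℕ → Submodule R A) [GradedAlgebra 𝒜]

/-- The set of products `a * e` with `e ∈ E` homogeneous of degree `d ≤ m` and `a ∈ 𝒜 (m - d)`. -/
def prodSet (E : Set A) (m : ℕ) : Set A :=
  {y | ∃ e ∈ E, ∃ d, 0 < d ∧ d ≤ m ∧ e ∈ 𝒜 d ∧ ∃ a ∈ 𝒜 (m - d), y = a * e}

theorem decompose_mem_closure_of_mem_span (E : Set A) (hE : ∀ e ∈ E, ∃ d : ℕ, 0 < d ∧ e ∈ 𝒜 d)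
    (m : ℕ) {y : A} (hy : y ∈ Ideal.span E) :
    ((decompose 𝒜 y m : 𝒜 m) : A) ∈ AddSubmonoid.closure (prodSet 𝒜 E m) := by
  have hy' : y ∈ (Submodule.span A E).toAddSubmonoid := hy
  rw [Submodule.span_eq_closure] at hy'
  clear hy
  induction hy' using AddSubmonoid.closure_induction with
  | mem y hy =>
    obtain ⟨a, -, e, he, rfl⟩ := hy
    obtain ⟨d, hd, hed⟩ := hE e he
    change ((decompose 𝒜 (a * e) m : 𝒜 m) : A) ∈ _
    by_cases hdm : d ≤ m
    · rw [coe_decompose_mul_of_right_mem_of_le 𝒜 hed hdm]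
      exact AddSubmonoid.subset_closure ⟨e, he, d, hd, hdm, hed, _, SetLike.coe_mem _, rfl⟩
    · rw [coe_decompose_mul_of_right_mem_of_not_le 𝒜 hed hdm]
      exact zero_mem _
  | zero => simp
  | add y z _ _ hy hz =>
    rw [decompose_add, DirectSum.add_apply, Submodule.coe_add]
    exact add_mem hy hz

theorem mem_closure_prodSet (E : Set A) (hE : ∀ e ∈ E, ∃ d : ℕ, 0 < d ∧ e ∈ 𝒜 d)
    (h : (HomogeneousIdeal.irrelevant 𝒜).toIdeal ≤ Ideal.span E) {m : ℕ} (hm : 0 < m) {x : A}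
    (hx : x ∈ 𝒜 m) : x ∈ AddSubmonoid.closure (prodSet 𝒜 E m) := by
  have := decompose_mem_closure_of_mem_span 𝒜 E hE m
    (h (HomogeneousIdeal.mem_irrelevant_of_mem 𝒜 hm hx))
  rwa [decompose_of_mem_same 𝒜 hx] at this

/-- S4389 (⇒) -/
theorem adjoin_eq_top_of_irrelevant_le_span (E : Set A) (hE : ∀ e ∈ E, ∃ d : ℕ, 0 < d ∧ e ∈ 𝒜 d)
    (h : (HomogeneousIdeal.irrelevant 𝒜).toIdeal ≤ Ideal.span E) :
    Algebra.adjoin (𝒜 0) E = ⊤ := by
  have key : ∀ m : ℕ, ∀ x ∈ 𝒜 m, x ∈ Algebra.adjoin (𝒜 0) E := by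
    intro m
    induction m using Nat.strong_induction_on with
    | _ m ih =>
      intro x hx
      rcases Nat.eq_zero_or_pos m with rfl | hm
      · exact Subalgebra.algebraMap_mem _ (⟨x, hx⟩ : 𝒜 0)
      · have hx' := mem_closure_prodSet 𝒜 E hE h hm hx
        clear hx
        induction hx' using AddSubmonoid.closure_induction with
        | mem y hy =>
          obtain ⟨e, he, d, hd, hdm, -, a, ha, rfl⟩ := hy
          exact mul_mem (ih (m - d) (by omega) a ha) (Algebra.subset_adjoin he)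
        | zero => exact zero_mem _
        | add y z _ _ hy hz => exact add_mem hy hz
  rw [eq_top_iff]
  intro x _
  classical
  rw [← sum_support_decompose 𝒜 x]
  exact sum_mem fun i _ => key i _ (SetLike.coe_mem _)

/-- S4389 (⇐), `≤` part (from Mathlib's proof of `Proj.iSup_basicOpen_eq_top'`). -/
theorem irrelevant_le_span_of_adjoin_eq_top (E : Set A) (hE : ∀ e ∈ E, ∃ d : ℕ, e ∈ 𝒜 d)
    (hf : Algebra.adjoin (𝒜 0) E = ⊤) :
    (HomogeneousIdeal.irrelevant 𝒜).toIdeal ≤ Ideal.span E := by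
  intro x hx
  have h1 : x - GradedRing.projZeroRingHom 𝒜 x ∈ Ideal.span E := by
    clear hx
    have := (eq_iff_iff.mp congr(x ∈ $hf)).mpr trivial
    induction this using Algebra.adjoin_induction with
    | mem x hx =>
      obtain ⟨n, hn⟩ := hE x hx
      rw [GradedRing.projZeroRingHom_apply]
      by_cases hn' : n = 0
      · rw [DirectSum.decompose_of_mem_same 𝒜 (hn' ▸ hn), sub_self]
        exact zero_mem _
      · rw [DirectSum.decompose_of_mem_ne 𝒜 hn hn', sub_zero]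
        exact Ideal.subset_span hx
    | algebraMap r =>
      convert zero_mem (Ideal.span _)
      rw [sub_eq_zero]
      exact (DirectSum.decompose_of_mem_same 𝒜 r.2).symm
    | add x y hx hy _ _ =>
      rw [map_add, add_sub_add_comm]
      exact add_mem ‹_› ‹_›
    | mul x y hx hy hx' hy' =>
      convert
        add_mem (Ideal.mul_mem_left _ x hy')
          (Ideal.mul_mem_right (GradedRing.projZeroRingHom 𝒜 y) _ hx') using 1
      rw [map_mul]
      ring
  have h2 : GradedRing.projZeroRingHom 𝒜 x = 0 := hx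
  rwa [h2, sub_zero] at h1

theorem span_le_irrelevant (E : Set A) (hE : ∀ e ∈ E, ∃ d : ℕ, 0 < d ∧ e ∈ 𝒜 d) :
    Ideal.span E ≤ (HomogeneousIdeal.irrelevant 𝒜).toIdeal := by
  rw [Ideal.span_le]
  intro e he
  obtain ⟨d, hd, hed⟩ := hE e he
  exact HomogeneousIdeal.mem_irrelevant_of_mem 𝒜 hd hed

theorem irrelevant_eq_span_iff (E : Set A) (hE : ∀ e ∈ E, ∃ d : ℕ, 0 < d ∧ e ∈ 𝒜 d) :
    (HomogeneousIdeal.irrelevant 𝒜).toIdeal = Ideal.span E ↔ Algebra.adjoin (𝒜 0) E = ⊤ := by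
  constructor
  · intro h
    exact adjoin_eq_top_of_irrelevant_le_span 𝒜 E hE h.le
  · intro h
    exact le_antisymm (irrelevant_le_span_of_adjoin_eq_top 𝒜 E
      (fun e he => (hE e he).imp fun d hd => hd.2) h) (span_le_irrelevant 𝒜 E hE)

/-- S4390 -/
theorem irrelevant_fg_iff_finiteType :
    (HomogeneousIdeal.irrelevant 𝒜).toIdeal.FG ↔ Algebra.FiniteType (𝒜 0) A := by
  classical
  constructor
  · rintro ⟨T, hT⟩
    let T' : Finset A := T.biUnion fun t => (decompose 𝒜 t).support.image fun i => (decompose 𝒜 t i : A)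
    have hT' : ∀ e ∈ (T' : Set A), ∃ d : ℕ, 0 < d ∧ e ∈ 𝒜 d := by
      intro e he
      simp only [T', Finset.coe_biUnion, Finset.coe_image, Set.mem_iUnion, Set.mem_image,
        Finset.mem_coe, exists_prop] at he
      obtain ⟨t, ht, i, hi, rfl⟩ := he
      refine ⟨i, ?_, SetLike.coe_mem _⟩
      rw [Nat.pos_iff_ne_zero]
      rintro rfl
      have ht' : t ∈ (HomogeneousIdeal.irrelevant 𝒜).toIdeal := hT ▸ Ideal.subset_span ht
      have h0 : ((decompose 𝒜 t 0 : 𝒜 0) : A) = 0 := ht'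
      rw [DFinsupp.mem_support_iff] at hi
      exact hi (Subtype.ext h0)
    have hle : (HomogeneousIdeal.irrelevant 𝒜).toIdeal ≤ Ideal.span (T' : Set A) := by
      rw [← hT, Ideal.span_le]
      intro t ht
      rw [← sum_support_decompose 𝒜 t]
      refine sum_mem fun i hi => Ideal.subset_span ?_
      simp only [T', Finset.coe_biUnion, Finset.coe_image, Set.mem_iUnion, Set.mem_image,
        Finset.mem_coe, exists_prop]
      exact ⟨t, ht, i, hi, rfl⟩
    exact ⟨⟨T', adjoin_eq_top_of_irrelevant_le_span 𝒜 _ hT' hle⟩⟩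
  · intro h
    obtain ⟨s, hs, hs'⟩ := GradedAlgebra.exists_finset_adjoin_eq_top_and_homogeneous_ne_zero 𝒜
    have hE : ∀ e ∈ (s : Set A), ∃ d : ℕ, 0 < d ∧ e ∈ 𝒜 d := fun e he => by
      obtain ⟨n, hn, hen⟩ := hs' e he
      exact ⟨n, Nat.pos_of_ne_zero hn, hen⟩
    exact ⟨s, ((irrelevant_eq_span_iff 𝒜 _ hE).mpr hs).symm⟩

/-- S4391 -/
theorem isNoetherianRing_iff :
    IsNoetherianRing A ↔ IsNoetherianRing (𝒜 0) ∧ Algebra.FiniteType (𝒜 0) A := by
  constructor
  · intro h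
    refine ⟨inferInstance, (irrelevant_fg_iff_finiteType 𝒜).mp ?_⟩
    exact (isNoetherianRing_iff_ideal_fg A).mp h _
  · rintro ⟨h0, hft⟩
    exact Algebra.FiniteType.isNoetherianRing (𝒜 0) A

/-- S4394 -/
theorem exists_forall_le_irrelevant_pow [Algebra.FiniteType (𝒜 0) A] (n : ℕ) :
    ∃ m₀ : ℕ, ∀ m : ℕ, m₀ ≤ m → (𝒜 m : Set A) ⊆ ((HomogeneousIdeal.irrelevant 𝒜).toIdeal ^ n : Ideal A) := by
  classical
  obtain ⟨s, hs, hs'⟩ := GradedAlgebra.exists_finset_adjoin_eq_top_and_homogeneous_ne_zero 𝒜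
  have hE : ∀ e ∈ (s : Set A), ∃ d : ℕ, 0 < d ∧ e ∈ 𝒜 d := fun e he => by
    obtain ⟨n, hn, hen⟩ := hs' e he
    exact ⟨n, Nat.pos_of_ne_zero hn, hen⟩
  have hspan := (irrelevant_eq_span_iff 𝒜 _ hE).mpr hs
  choose! deg hdeg using hE
  -- D bounds all degrees of generators
  let D : ℕ := 1 + ∑ e ∈ s, deg e
  have hD : ∀ e ∈ s, deg e ≤ D := fun e he => by
    have := Finset.single_le_sum (f := deg) (fun i _ => Nat.zero_le _) he
    omega
  induction n with
  | zero => exact ⟨0, fun m _ x _ => by simp⟩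
  | succ n ih =>
    obtain ⟨m₀, hm₀⟩ := ih
    refine ⟨m₀ + D, fun m hm x hx => ?_⟩
    have hmpos : 0 < m := by omega
    have hx' := mem_closure_prodSet 𝒜 (s : Set A) (fun e he => ⟨deg e, hdeg e he⟩) hspan.le hmpos hx
    clear hx
    induction hx' using AddSubmonoid.closure_induction with
    | mem y hy =>
      obtain ⟨e, he, d, hd, hdm, hed, a, ha, rfl⟩ := hy
      by_cases he0 : e = 0
      · rw [he0, mul_zero]; exact zero_mem _
      · have hdeq : d = deg e := DirectSum.degree_eq_of_mem_mem 𝒜 hed (hdeg e he).2 he0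
        have hmd : m₀ ≤ m - d := by
          have := hD e he
          omega
        rw [pow_succ]
        exact Ideal.mul_mem_mul (hm₀ _ hmd ha) (HomogeneousIdeal.mem_irrelevant_of_mem 𝒜 hd hed)
    | zero => exact zero_mem _
    | add y z _ _ hy hz => exact add_mem hy hz

end Groth.Agent.H1.GFG
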