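import Mathlib

/-! Helper1: topological lemmas on quasi-components for pro-finite towers of spaces
(used for connected components of `X_K`, Stacks 04PZ). -/

set_option autoImplicit false
universe u v w

namespace Groth.Agent.H1.ConnCompTop

open Set

variable {Y : Type u} [TopologicalSpace Y]

/-- the quasi-component of a point: intersection of all clopen neighbourhoods. -/
def quasiComp (y : Y) : Set Y := ⋂₀ {Q : Set Y | IsClopen Q ∧ y ∈ Q}

theorem mem_quasiComp (y : Y) : y ∈ quasiComp y := by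
  rintro Q ⟨-, hy⟩
  exact hy

theorem isClosed_quasiComp (y : Y) : IsClosed (quasiComp y) :=
  isClosed_sInter fun _ hQ => hQ.1.1

theorem quasiComp_subset {y : Y} {Q : Set Y} (hQ : IsClopen Q) (hy : y ∈ Q) : quasiComp y ⊆ Q :=
  sInter_subset_of_mem ⟨hQ, hy⟩

theorem connectedComponent_subset_quasiComp (y : Y) : connectedComponent y ⊆ quasiComp y := by
  apply subset_sInter
  rintro Q ⟨hQ, hy⟩
  exact hQ.connectedComponent_subset hy

/-- a continuous open closed map with quasi-compact fibres maps the quasi-component of `y` onto a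
set containing the connected component of the image. -/
theorem exists_mem_quasiComp {Z : Type v} [TopologicalSpace Z] (q : Y → Z)
    (ho : IsOpenMap q) (hcl : IsClosedMap q) (hfib : ∀ z, IsCompact (q ⁻¹' {z}))
    (y : Y) (z : Z) (hz : z ∈ connectedComponent (q y)) : ∃ c ∈ quasiComp y, q c = z := by
  classical
  have key := (hfib z).inter_iInter_nonempty
    (fun Q : {Q : Set Y // IsClopen Q ∧ y ∈ Q} => (Q : Set Y)) (fun Q => Q.2.1.1) ?_
  · obtain ⟨c, hc1, hc2⟩ := key
    refine ⟨c, ?_, hc1⟩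
    rintro Q hQ
    exact mem_iInter.mp hc2 ⟨Q, hQ⟩
  · intro u
    have hclopen : IsClopen (⋂ i ∈ u, (i : Set Y)) :=
      isClopen_biInter_finset fun i _ => i.2.1
    have hy : y ∈ ⋂ i ∈ u, (i : Set Y) := by
      simp only [mem_iInter]
      intro i _
      exact i.2.2
    have himg : IsClopen (q '' ⋂ i ∈ u, (i : Set Y)) :=
      ⟨hcl _ hclopen.1, ho _ hclopen.2⟩
    have hsub := himg.connectedComponent_subset (mem_image_of_mem q hy)
    obtain ⟨c, hc, hcz⟩ := hsub hz
    exact ⟨c, hcz, hc⟩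

/-- a space with finitely many clopen subsets has open connected components. -/
theorem isClopen_connectedComponent_of_finite (h : {Q : Set Y | IsClopen Q}.Finite) (y : Y) :
    IsClopen (connectedComponent y) := by
  have hfin : {Q : Set Y | IsClopen Q ∧ y ∈ Q}.Finite := h.subset fun Q hQ => hQ.1
  have hC : IsClopen (quasiComp y) :=
    ⟨isClosed_quasiComp y, hfin.isOpen_sInter fun Q hQ => hQ.1.2⟩
  have hpre : IsPreconnected (quasiComp y) := by
    rw [isPreconnected_iff_subset_of_fully_disjoint_closed hC.1]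
    intro u v hu hv huv hdis
    have h1 : IsClopen (quasiComp y ∩ u) := by
      refine ⟨hC.1.inter hu, ?_⟩
      have : quasiComp y ∩ u = quasiComp y ∩ vᶜ := by
        ext t
        constructor
        · rintro ⟨ht, htu⟩
          exact ⟨ht, fun htv => (Set.disjoint_left.mp hdis) htu htv⟩
        · rintro ⟨ht, htv⟩
          exact ⟨ht, (huv ht).resolve_right htv⟩
      rw [this]
      exact hC.2.inter hv.isOpen_compl
    have h2 : IsClopen (quasiComp y ∩ v) := by
      refine ⟨hC.1.inter hv, ?_⟩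
      have : quasiComp y ∩ v = quasiComp y ∩ uᶜ := by
        ext t
        constructor
        · rintro ⟨ht, htv⟩
          exact ⟨ht, fun htu => (Set.disjoint_left.mp hdis) htu htv⟩
        · rintro ⟨ht, htu⟩
          exact ⟨ht, (huv ht).resolve_left htu⟩
      rw [this]
      exact hC.2.inter hu.isOpen_compl
    rcases huv (mem_quasiComp y) with hyu | hyv
    · left
      exact (quasiComp_subset h1 ⟨mem_quasiComp y, hyu⟩).trans inter_subset_right
    · right
      exact (quasiComp_subset h2 ⟨mem_quasiComp y, hyv⟩).trans inter_subset_right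
  have heq : connectedComponent y = quasiComp y :=
    subset_antisymm (connectedComponent_subset_quasiComp y)
      (hpre.subset_connectedComponent (mem_quasiComp y))
  rw [heq]
  exact hC

/-- the source of an open closed map with finite fibres onto a connected space has finitely many
clopen subsets. -/
theorem finite_clopens_of_map {Z : Type v} [TopologicalSpace Z] [ConnectedSpace Z] (p : Y → Z)
    (ho : IsOpenMap p) (hcl : IsClosedMap p) (hfin : ∀ z, (p ⁻¹' {z}).Finite) :
    {Q : Set Y | IsClopen Q}.Finite := by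
  obtain ⟨z₀⟩ : Nonempty Z := inferInstance
  have hsub : ∀ Q Q' : Set Y, IsClopen Q → IsClopen Q' → Q ∩ p ⁻¹' {z₀} = Q' ∩ p ⁻¹' {z₀} →
      Q ⊆ Q' := by
    intro Q Q' hQ hQ' heq
    by_contra hne
    have hD : IsClopen (Q \ Q') := hQ.diff hQ'
    have hDne : (Q \ Q').Nonempty := by
      rw [Set.not_subset] at hne
      obtain ⟨t, ht, ht'⟩ := hne
      exact ⟨t, ht, ht'⟩
    have himg : IsClopen (p '' (Q \ Q')) := ⟨hcl _ hD.1, ho _ hD.2⟩
    have huniv : p '' (Q \ Q') = Set.univ := by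
      rcases isClopen_iff.mp himg with h0 | h0
      · exact ((hDne.image p).ne_empty h0).elim
      · exact h0
    obtain ⟨t, ⟨htQ, htQ'⟩, htz⟩ : z₀ ∈ p '' (Q \ Q') := by rw [huniv]; trivial
    have : t ∈ Q ∩ p ⁻¹' {z₀} := ⟨htQ, htz⟩
    rw [heq] at this
    exact htQ' this.1
  refine Set.Finite.of_injOn (f := fun Q : Set Y => Q ∩ p ⁻¹' {z₀})
    (t := {a | a ⊆ p ⁻¹' {z₀}}) ?_ ?_ (hfin z₀).finite_subsets
  · intro Q _
    exact inter_subset_right
  · intro Q hQ Q' hQ' heq
    exact subset_antisymm (hsub Q Q' hQ hQ' heq) (hsub Q' Q hQ' hQ heq.symm)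

/-- **Main topological lemma.** Let `Y` be the "limit" of a directed system of quotients
`q i : Y → Z i` by open closed maps with quasi-compact fibres, such that the connected components
of the `Z i` are open.  Then the quasi-components of `Y` are connected. -/
theorem isPreconnected_quasiComp {I : Type w} [Preorder I] [Nonempty I] (Z : I → Type v)
    [∀ i, TopologicalSpace (Z i)] (q : ∀ i, Y → Z i)
    (hcont : ∀ i, Continuous (q i)) (hcl : ∀ i, IsClosedMap (q i)) (ho : ∀ i, IsOpenMap (q i))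
    (hfib : ∀ i z, IsCompact (q i ⁻¹' {z}))
    (hcomp : ∀ i (z : Z i), IsOpen (connectedComponent z))
    (hmono : ∀ i j, i ≤ j → ∀ a b, q j a = q j b → q i a = q i b)
    (hbasis : ∀ (y : Y) (N : Set Y), IsOpen N → y ∈ N → ∀ i₀, ∃ j, i₀ ≤ j ∧
      ∃ U : Set (Z j), IsOpen U ∧ y ∈ q j ⁻¹' U ∧ q j ⁻¹' U ⊆ N)
    (y : Y) : IsPreconnected (quasiComp y) := by
  -- images of points of `C` stay in the component
  have F2' : ∀ i, ∀ c ∈ quasiComp y, q i c ∈ connectedComponent (q i y) := by
    intro i c hc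
    have hclopen : IsClopen (q i ⁻¹' connectedComponent (q i y)) :=
      ⟨isClosed_connectedComponent.preimage (hcont i), (hcomp i _).preimage (hcont i)⟩
    exact quasiComp_subset hclopen (show q i y ∈ _ from mem_connectedComponent) hc
  have F2 : ∀ i, ∀ z ∈ connectedComponent (q i y), ∃ c ∈ quasiComp y, q i c = z :=
    fun i z hz => exists_mem_quasiComp (q i) (ho i) (hcl i) (hfib i) y z hz
  -- openness of images of relatively clopen pieces
  have hOpen : ∀ A₁ B₁ : Set Y, IsClosed A₁ → Disjoint A₁ B₁ → quasiComp y ⊆ A₁ ∪ B₁ →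
      B₁ ⊆ quasiComp y → ∀ i₀, IsOpen (q i₀ '' B₁) := by
    intro A₁ B₁ hA hdis hcov hB i₀
    rw [isOpen_iff_forall_mem_open]
    rintro z ⟨b, hb, rfl⟩
    have hbA : b ∈ A₁ᶜ := fun h => (Set.disjoint_left.mp hdis) h hb
    obtain ⟨j, hij, U, hU, hbU, hUN⟩ := hbasis b A₁ᶜ hA.isOpen_compl hbA i₀
    refine ⟨q i₀ '' (q j ⁻¹' (U ∩ connectedComponent (q j y))), ?_, ?_, ?_⟩
    · rintro _ ⟨m, ⟨hmU, hmc⟩, rfl⟩
      obtain ⟨c, hc, hcm⟩ := F2 j _ hmc
      have hcU : c ∈ q j ⁻¹' U := by
        show q j c ∈ U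
        rw [hcm]
        exact hmU
      have hcA : c ∉ A₁ := hUN hcU
      have hcB : c ∈ B₁ := (hcov hc).resolve_left hcA
      exact ⟨c, hcB, hmono i₀ j hij c m hcm⟩
    · exact ho i₀ _ ((hU.inter (hcomp j _)).preimage (hcont j))
    · exact ⟨b, ⟨hbU, F2' j b (hB hb)⟩, rfl⟩
  rw [isPreconnected_closed_iff]
  intro A B hA hB hcov hAne hBne
  by_contra hcon
  rw [Set.not_nonempty_iff_eq_empty] at hcon
  have hCc := isClosed_quasiComp y
  -- the two pieces
  have hA₁ : IsClosed (quasiComp y ∩ A) := hCc.inter hA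
  have hB₁ : IsClosed (quasiComp y ∩ B) := hCc.inter hB
  have hdis : Disjoint (quasiComp y ∩ A) (quasiComp y ∩ B) := by
    rw [Set.disjoint_left]
    rintro t ⟨ht, htA⟩ ⟨-, htB⟩
    have : t ∈ quasiComp y ∩ (A ∩ B) := ⟨ht, htA, htB⟩
    rw [hcon] at this
    exact this
  have hcov' : quasiComp y ⊆ (quasiComp y ∩ A) ∪ (quasiComp y ∩ B) := by
    intro t ht
    rcases hcov ht with h | h
    · exact Or.inl ⟨ht, h⟩
    · exact Or.inr ⟨ht, h⟩
  obtain ⟨a, haC, haA⟩ := hAne
  obtain ⟨b₀, hb₀C, hb₀B⟩ := hBne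
  have haB : a ∈ (quasiComp y ∩ B)ᶜ := fun h => (Set.disjoint_left.mp hdis) ⟨haC, haA⟩ h
  obtain ⟨i₀⟩ := ‹Nonempty I›
  obtain ⟨j, -, U, hU, haU, hUN⟩ := hbasis a (quasiComp y ∩ B)ᶜ hB₁.isOpen_compl haB i₀
  have hclopen : IsClopen (q j '' (quasiComp y ∩ B)) :=
    ⟨hcl j _ hB₁, hOpen (quasiComp y ∩ A) (quasiComp y ∩ B) hA₁ hdis hcov' inter_subset_left j⟩
  have hmem : q j b₀ ∈ q j '' (quasiComp y ∩ B) := ⟨b₀, ⟨hb₀C, hb₀B⟩, rfl⟩
  have hsub := hclopen.connectedComponent_subset hmem
  have hcc : connectedComponent (q j b₀) = connectedComponent (q j y) :=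
    (connectedComponent_eq (F2' j b₀ hb₀C)).symm
  rw [hcc] at hsub
  obtain ⟨b, hb, hba⟩ := hsub (F2' j a haC)
  have hbU : b ∈ q j ⁻¹' U := by
    show q j b ∈ U
    rw [hba]
    exact haU
  exact hUN hbU hb

/-- consequently connected components of `Y` are the quasi-components. -/
theorem connectedComponent_eq_quasiComp {I : Type w} [Preorder I] [Nonempty I] (Z : I → Type v)
    [∀ i, TopologicalSpace (Z i)] (q : ∀ i, Y → Z i)
    (hcont : ∀ i, Continuous (q i)) (hcl : ∀ i, IsClosedMap (q i)) (ho : ∀ i, IsOpenMap (q i))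
    (hfib : ∀ i z, IsCompact (q i ⁻¹' {z}))
    (hcomp : ∀ i (z : Z i), IsOpen (connectedComponent z))
    (hmono : ∀ i j, i ≤ j → ∀ a b, q j a = q j b → q i a = q i b)
    (hbasis : ∀ (y : Y) (N : Set Y), IsOpen N → y ∈ N → ∀ i₀, ∃ j, i₀ ≤ j ∧
      ∃ U : Set (Z j), IsOpen U ∧ y ∈ q j ⁻¹' U ∧ q j ⁻¹' U ⊆ N)
    (y : Y) : connectedComponent y = quasiComp y :=
  subset_antisymm (connectedComponent_subset_quasiComp y)
    ((isPreconnected_quasiComp Z q hcont hcl ho hfib hcomp hmono hbasis y).subset_connectedComponent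
      (mem_quasiComp y))

end Groth.Agent.H1.ConnCompTop
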