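import Mathlib

set_option autoImplicit false
universe u
open CategoryTheory CategoryTheory.Limits AlgebraicGeometry

namespace Groth.Agent.Lib.Helper1.WEt

/-- weakly étale for `Spec` of an algebra map. -/
theorem weaklyEtale_SpecMap_iff (R S : Type u) [CommRing R] [CommRing S] [Algebra R S] :
    WeaklyEtale (Spec.map (CommRingCat.ofHom (algebraMap R S))) ↔
      (algebraMap R S).Flat ∧
        (Algebra.TensorProduct.lmul' (S := S) R).toRingHom.Flat := by
  rw [weaklyEtale_iff, HasRingHomProperty.Spec_iff (P := @Flat), diagonal_SpecMap R S,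
    MorphismProperty.cancel_right_of_respectsIso (P := @Flat),
    HasRingHomProperty.Spec_iff (P := @Flat)]
  rfl

/-- the version for an arbitrary ring hom. -/
theorem weaklyEtale_SpecMap_iff' {R S : CommRingCat.{u}} (φ : R ⟶ S) :
    WeaklyEtale (Spec.map φ) ↔
      φ.hom.Flat ∧ (letI := φ.hom.toAlgebra
        (Algebra.TensorProduct.lmul' (S := S) R).toRingHom.Flat) := by
  letI := φ.hom.toAlgebra
  exact weaklyEtale_SpecMap_iff R S


instance flat_fromSpecStalk (X : Scheme.{u}) (x : X) : Flat (X.fromSpecStalk x) := by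
  obtain ⟨_, ⟨U, hU, rfl⟩, hxU, -⟩ := X.isBasis_affineOpens.exists_subset_of_mem_open
    (Set.mem_univ x) isOpen_univ
  rw [← hU.fromSpecStalk_eq_fromSpecStalk hxU, IsAffineOpen.fromSpecStalk]
  haveI : Flat (Spec.map (X.presheaf.germ U x hxU)) := by
    rw [HasRingHomProperty.Spec_iff (P := @Flat)]
    letI : Algebra Γ(X, U) (X.presheaf.stalk x) :=
      TopCat.Presheaf.algebra_section_stalk X.presheaf ⟨x, hxU⟩
    haveI := hU.isLocalization_stalk ⟨x, hxU⟩
    exact IsLocalization.flat (X.presheaf.stalk x) (hU.primeIdealOf ⟨x, hxU⟩).asIdeal.primeCompl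
  infer_instance

instance weaklyEtale_fromSpecStalk (X : Scheme.{u}) (x : X) : WeaklyEtale (X.fromSpecStalk x) where


theorem weaklyEtale_SpecMap_stalkMap {X Y : Scheme.{u}} (f : X ⟶ Y) [WeaklyEtale f] (x : X) :
    WeaklyEtale (Spec.map (f.stalkMap x)) := by
  haveI : WeaklyEtale (Spec.map (f.stalkMap x) ≫ Y.fromSpecStalk (f x)) := by
    rw [Scheme.SpecMap_stalkMap_fromSpecStalk]
    infer_instance
  exact WeaklyEtale.of_comp _ (Y.fromSpecStalk (f x))


theorem exists_flat_diagonal_comparison {X Y X' Y' : Scheme.{u}} (f : X ⟶ Y) (g : X' ⟶ Y')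
    (ιx : X' ⟶ X) (ιy : Y' ⟶ Y) [Mono ιy] [Flat ιx] (hsq : g ≫ ιy = ιx ≫ f) :
    ∃ j : pullback g g ⟶ pullback f f, Flat j ∧
      pullback.diagonal g ≫ j = ιx ≫ pullback.diagonal f := by
  let j1 : pullback g g ⟶ pullback (g ≫ ιy) (g ≫ ιy) := pullback.mapDesc g g ιy
  let inv1 : pullback (g ≫ ιy) (g ≫ ιy) ⟶ pullback g g :=
    pullback.lift (pullback.fst _ _) (pullback.snd _ _) (by
      rw [← cancel_mono ιy, Category.assoc, Category.assoc]
      exact pullback.condition)
  have h1f : j1 ≫ pullback.fst _ _ = pullback.fst g g := by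
    simp only [j1, pullback.mapDesc, pullback.map]
    rw [pullback.lift_fst, Category.comp_id]
  have h1s : j1 ≫ pullback.snd _ _ = pullback.snd g g := by
    simp only [j1, pullback.mapDesc, pullback.map]
    rw [pullback.lift_snd, Category.comp_id]
  have hif : inv1 ≫ pullback.fst g g = pullback.fst _ _ := pullback.lift_fst _ _ _
  have his : inv1 ≫ pullback.snd g g = pullback.snd _ _ := pullback.lift_snd _ _ _
  haveI : IsIso j1 := ⟨inv1, by
      apply pullback.hom_ext
      · rw [Category.assoc, hif, h1f, Category.id_comp]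
      · rw [Category.assoc, his, h1s, Category.id_comp],
    by
      apply pullback.hom_ext
      · rw [Category.assoc, h1f, hif, Category.id_comp]
      · rw [Category.assoc, h1s, his, Category.id_comp]⟩
  let j2 : pullback (g ≫ ιy) (g ≫ ιy) ⟶ pullback f f :=
    pullback.map (g ≫ ιy) (g ≫ ιy) f f ιx ιx (𝟙 Y) ((Category.comp_id _).trans hsq)
      ((Category.comp_id _).trans hsq)
  haveI : Flat j2 := MorphismProperty.pullbackMap (P := @Flat) (inferInstanceAs (Flat ιx))
    (inferInstanceAs (Flat ιx)) hsq hsq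
  have h2f : j2 ≫ pullback.fst f f = pullback.fst _ _ ≫ ιx := pullback.lift_fst _ _ _
  have h2s : j2 ≫ pullback.snd f f = pullback.snd _ _ ≫ ιx := pullback.lift_snd _ _ _
  refine ⟨j1 ≫ j2, inferInstance, ?_⟩
  apply pullback.hom_ext
  · rw [Category.assoc, Category.assoc, h2f, ← Category.assoc j1, h1f, ← Category.assoc,
      pullback.diagonal_fst, Category.id_comp, Category.assoc, pullback.diagonal_fst,
      Category.comp_id]
  · rw [Category.assoc, Category.assoc, h2s, ← Category.assoc j1, h1s, ← Category.assoc,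
      pullback.diagonal_snd, Category.id_comp, Category.assoc, pullback.diagonal_snd,
      Category.comp_id]


open IsLocalRing in
theorem flat_diagonal_stalkMap_of_weaklyEtale_SpecMap {X Y : Scheme.{u}} (f : X ⟶ Y) (x : X)
    (hx : WeaklyEtale (Spec.map (f.stalkMap x))) :
    ((pullback.diagonal f).stalkMap x).hom.Flat := by
  obtain ⟨j, hjflat, hj⟩ := exists_flat_diagonal_comparison f (Spec.map (f.stalkMap x))
    (X.fromSpecStalk x) (Y.fromSpecStalk (f x)) (Scheme.SpecMap_stalkMap_fromSpecStalk f)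
  have key : ∀ h : Spec (X.presheaf.stalk x) ⟶ pullback f f,
      h = pullback.diagonal (Spec.map (f.stalkMap x)) ≫ j →
      (Scheme.stalkClosedPointTo h).hom.Flat := by
    rintro _ rfl
    rw [Scheme.stalkClosedPointTo_comp]
    have hA : (j.stalkMap ((pullback.diagonal (Spec.map (f.stalkMap x)))
        (closedPoint (X.presheaf.stalk x)))).hom.Flat := Flat.stalkMap j _
    have hB : (Scheme.stalkClosedPointTo
        (pullback.diagonal (Spec.map (f.stalkMap x)))).hom.Flat := by
      have hB1 : ((pullback.diagonal (Spec.map (f.stalkMap x))).stalkMap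
          (closedPoint (X.presheaf.stalk x))).hom.Flat := Flat.stalkMap _ _
      have hB2 : (stalkClosedPointIso (X.presheaf.stalk x)).hom.hom.Flat :=
        RingHom.Flat.of_bijective (ConcreteCategory.bijective_of_isIso _)
      exact RingHom.Flat.comp hB1 hB2
    exact RingHom.Flat.comp hA hB
  have h2 := key _ hj.symm
  rw [Scheme.stalkClosedPointTo_comp, Scheme.stalkClosedPointTo_fromSpecStalk] at h2
  have h3 : ((pullback.diagonal f).stalkMap
      ((X.fromSpecStalk x) (closedPoint (X.presheaf.stalk x)))).hom.Flat :=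
    (RingHom.Flat.respectsIso.cancel_right_isIso _
      (X.presheaf.stalkCongr _).hom).1 h2
  exact (RingHom.Flat.respectsIso.arrow_mk_iso_iff
    ((pullback.diagonal f).arrowStalkMapIsoOfEq Scheme.fromSpecStalk_closedPoint)).1 h3

theorem weaklyEtale_iff_forall_SpecMap_stalkMap {X Y : Scheme.{u}} (f : X ⟶ Y) :
    WeaklyEtale f ↔ ∀ x : X, WeaklyEtale (Spec.map (f.stalkMap x)) := by
  refine ⟨fun _ x => weaklyEtale_SpecMap_stalkMap f x, fun h => ?_⟩
  refine ⟨?_, ?_⟩
  · rw [Flat.iff_flat_stalkMap]
    intro x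
    exact ((weaklyEtale_SpecMap_iff' _).1 (h x)).1
  · rw [Flat.iff_flat_stalkMap]
    intro x
    exact flat_diagonal_stalkMap_of_weaklyEtale_SpecMap f x (h x)

end Groth.Agent.Lib.Helper1.WEt
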