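import Mathlib
import Groth.Prelude.Def_Curv2
import Groth.Agent.Lib.Helper1.WEt

/-! Helper1: local rings of the base change `X_K` of a `k`-scheme: they are the localizations of
`O_{X,x} ⊗_k K` at the primes over the maximal ideal. -/

set_option autoImplicit false
universe u
open CategoryTheory CategoryTheory.Limits AlgebraicGeometry IsLocalRing TensorProduct

namespace Groth.Agent.H1.BCStalk

/-- the base change of `Spec O_{X,x} ⟶ X` along any morphism induces isomorphisms on local
rings. -/
theorem bijective_stalkMap_snd {X Y : Scheme.{u}} (x : X) (h : Y ⟶ X)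
    (t : ↥(pullback (X.fromSpecStalk x) h)) :
    Function.Bijective ((pullback.snd (X.fromSpecStalk x) h).stalkMap t).hom := by
  haveI : IsPreimmersion (pullback.snd (X.fromSpecStalk x) h) :=
    MorphismProperty.pullback_snd _ _ inferInstance
  haveI : Flat (pullback.snd (X.fromSpecStalk x) h) :=
    MorphismProperty.pullback_snd _ _ inferInstance
  refine ⟨?_, SurjectiveOnStalks.stalkMap_surjective _ t⟩
  have hflat := Flat.stalkMap (pullback.snd (X.fromSpecStalk x) h) t
  algebraize [((pullback.snd (X.fromSpecStalk x) h).stalkMap t).hom]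
  haveI : IsLocalHom (algebraMap (Y.presheaf.stalk ((pullback.snd (X.fromSpecStalk x) h) t))
      ((pullback (X.fromSpecStalk x) h).presheaf.stalk t)) :=
    inferInstanceAs (IsLocalHom ((pullback.snd (X.fromSpecStalk x) h).stalkMap t).hom)
  haveI : Module.FaithfullyFlat (Y.presheaf.stalk ((pullback.snd (X.fromSpecStalk x) h) t))
      ((pullback (X.fromSpecStalk x) h).presheaf.stalk t) :=
    Module.FaithfullyFlat.of_flat_of_isLocalHom
  exact FaithfulSMul.algebraMap_injective _ _

/-- the structure morphism of `Spec O_{X,x}` over `Spec k`. -/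
theorem fromSpecStalk_comp (k : Type u) [Field k] (X : Scheme.{u})
    [X.Over (Spec (CommRingCat.of k))] (x : X) :
    X.fromSpecStalk x ≫ (X ↘ Spec (CommRingCat.of k)) =
      Spec.map (CommRingCat.ofHom (Curv2.stalkMap k X x)) := by
  apply ext_of_isAffine
  simp only [Scheme.Hom.comp_appTop, Scheme.fromSpecStalk_appTop]
  simp [Curv2.stalkMap, Coh.toGlobal]
  have h : Scheme.Hom.app (Spec.map (Scheme.ΓSpecIso (CommRingCat.of k)).inv) ⊤ =
      (Scheme.ΓSpecIso Γ(Spec (CommRingCat.of k), ⊤)).inv := by
    change Scheme.Hom.appTop _ = _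
    rw [← cancel_mono (Scheme.ΓSpecIso _).hom, Scheme.ΓSpecIso_naturality]
    simp
  rw [h]


section Dict

variable (k : Type u) [Field k] (X : Scheme.{u}) [X.Over (Spec (CommRingCat.of k))]
  (K : Type u) [Field K] [Algebra k K] (x : X)

attribute [local instance] Curv2.stalkAlgebra

/-- `Spec O_{X,x} ×_X X_K ≅ Spec (O_{X,x} ⊗_k K)`. -/
noncomputable def isoSpec :
    pullback (X.fromSpecStalk x) (Curv2.bcFst k X K) ≅
      Spec (CommRingCat.of (X.presheaf.stalk x ⊗[k] K)) :=
  pullbackRightPullbackFstIso (X ↘ Spec (CommRingCat.of k))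
      (Spec.map (CommRingCat.ofHom (algebraMap k K))) (X.fromSpecStalk x) ≪≫
    pullback.congrHom (fromSpecStalk_comp k X x) rfl ≪≫
    pullbackSpecIso k (X.presheaf.stalk x) K

theorem isoSpec_hom_fst :
    (isoSpec k X K x).hom ≫
      Spec.map (CommRingCat.ofHom (Algebra.TensorProduct.includeLeftRingHom
        (R := k) (A := X.presheaf.stalk x) (B := K))) =
      pullback.fst (X.fromSpecStalk x) (Curv2.bcFst k X K) := by
  simp only [isoSpec, Iso.trans_hom, Category.assoc]
  rw [pullbackSpecIso_hom_fst]
  simp only [pullback.congrHom_hom]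
  erw [pullback.lift_fst]
  simp

/-- the local ring of `T` at `t` is the localization of `O_{X,x} ⊗_k K` at the corresponding
prime. -/
theorem nonempty_stalk_ringEquiv (t : ↥(pullback (X.fromSpecStalk x) (Curv2.bcFst k X K))) :
    Nonempty ((Curv2.bc k X K).presheaf.stalk
        ((pullback.snd (X.fromSpecStalk x) (Curv2.bcFst k X K)) t) ≃+*
      Localization.AtPrime
        (((isoSpec k X K x).hom t : PrimeSpectrum (X.presheaf.stalk x ⊗[k] K)).asIdeal)) := by
  have e1 : (Curv2.bc k X K).presheaf.stalk
      ((pullback.snd (X.fromSpecStalk x) (Curv2.bcFst k X K)) t) ≃+*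
      (pullback (X.fromSpecStalk x) (Curv2.bcFst k X K)).presheaf.stalk t :=
    RingEquiv.ofBijective _ (bijective_stalkMap_snd x (Curv2.bcFst k X K) t)
  have e2 : (Spec (CommRingCat.of (X.presheaf.stalk x ⊗[k] K))).presheaf.stalk
      ((isoSpec k X K x).hom t) ≃+*
      (pullback (X.fromSpecStalk x) (Curv2.bcFst k X K)).presheaf.stalk t :=
    RingEquiv.ofBijective ((isoSpec k X K x).hom.stalkMap t).hom
      (ConcreteCategory.bijective_of_isIso ((isoSpec k X K x).hom.stalkMap t))
  have e3 : Localization.AtPrime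
      (((isoSpec k X K x).hom t : PrimeSpectrum (X.presheaf.stalk x ⊗[k] K)).asIdeal) ≃+*
      (Spec (CommRingCat.of (X.presheaf.stalk x ⊗[k] K))).presheaf.stalk
        ((isoSpec k X K x).hom t) :=
    (StructureSheaf.stalkIso (X.presheaf.stalk x ⊗[k] K) ((isoSpec k X K x).hom t)).toRingEquiv
  exact ⟨e1.trans (e2.symm.trans e3.symm)⟩


theorem fst_eq_closedPoint_iff (t : ↥(pullback (X.fromSpecStalk x) (Curv2.bcFst k X K))) :
    (pullback.fst (X.fromSpecStalk x) (Curv2.bcFst k X K)) t = closedPoint (X.presheaf.stalk x) ↔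
      ((isoSpec k X K x).hom t : PrimeSpectrum (X.presheaf.stalk x ⊗[k] K)).asIdeal.comap
        (Algebra.TensorProduct.includeLeftRingHom (R := k) (A := X.presheaf.stalk x) (B := K)) =
        maximalIdeal (X.presheaf.stalk x) := by
  have h := congr($(isoSpec_hom_fst k X K x) t)
  rw [← h]
  constructor
  · intro h1
    exact congrArg PrimeSpectrum.asIdeal h1
  · intro h1
    exact PrimeSpectrum.ext h1

/-- every point of `X_K` over `x` has local ring a localization of `O_{X,x} ⊗_k K` at a prime over
the maximal ideal. -/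
theorem exists_prime_of_point (x' : ↥(Curv2.bc k X K)) (hx : (Curv2.bcFst k X K) x' = x) :
    ∃ q : PrimeSpectrum (X.presheaf.stalk x ⊗[k] K),
      q.asIdeal.comap (Algebra.TensorProduct.includeLeftRingHom
        (R := k) (A := X.presheaf.stalk x) (B := K)) = maximalIdeal (X.presheaf.stalk x) ∧
      Nonempty ((Curv2.bc k X K).presheaf.stalk x' ≃+* Localization.AtPrime q.asIdeal) := by
  obtain ⟨t, ht1, ht2⟩ := Scheme.Pullback.exists_preimage_pullback
    (f := X.fromSpecStalk x) (g := Curv2.bcFst k X K) (closedPoint (X.presheaf.stalk x)) x'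
    (by rw [Scheme.fromSpecStalk_closedPoint, hx])
  subst ht2
  exact ⟨(isoSpec k X K x).hom t, (fst_eq_closedPoint_iff k X K x t).mp ht1,
    nonempty_stalk_ringEquiv k X K x t⟩

/-- every prime of `O_{X,x} ⊗_k K` over the maximal ideal comes from a point of `X_K` over `x`. -/
theorem exists_point_of_prime (q : PrimeSpectrum (X.presheaf.stalk x ⊗[k] K))
    (hq : q.asIdeal.comap (Algebra.TensorProduct.includeLeftRingHom
        (R := k) (A := X.presheaf.stalk x) (B := K)) = maximalIdeal (X.presheaf.stalk x)) :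
    ∃ x' : ↥(Curv2.bc k X K), (Curv2.bcFst k X K) x' = x ∧
      Nonempty ((Curv2.bc k X K).presheaf.stalk x' ≃+* Localization.AtPrime q.asIdeal) := by
  set t := (isoSpec k X K x).inv q with ht
  have htq : (isoSpec k X K x).hom t = q := by
    rw [ht, ← Scheme.Hom.comp_apply, Iso.inv_hom_id]
    rfl
  refine ⟨(pullback.snd (X.fromSpecStalk x) (Curv2.bcFst k X K)) t, ?_, ?_⟩
  · have h1 : (pullback.fst (X.fromSpecStalk x) (Curv2.bcFst k X K)) t =
        closedPoint (X.presheaf.stalk x) := by
      rw [fst_eq_closedPoint_iff, htq]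
      exact hq
    rw [← Scheme.Hom.comp_apply, ← pullback.condition, Scheme.Hom.comp_apply, h1,
      Scheme.fromSpecStalk_closedPoint]
  · have h2 := nonempty_stalk_ringEquiv k X K x t
    rw [htq] at h2
    exact h2

end Dict

end Groth.Agent.H1.BCStalk
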