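import Mathlib

/-!
# Geometric connectedness / tensor products over (separably / algebraically) closed fields

* `noZeroDivisors_tensor`: over an algebraically closed field, the tensor product of two domains
  has no zero divisors.
* `connectedSpace_of_fibers`: open map of spectra with connected fibres and connected base.
* `connectedSpace_tensor_sepClosed`: over a separably closed field the tensor product of two
  algebras with connected spectrum has connected spectrum.
-/

set_option autoImplicit false
universe u

namespace Groth.Agent.H1.GeomConn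

open TensorProduct

section AlgClosedDomain

variable {k : Type u} [Field k] [IsAlgClosed k]

lemma eq_zero_of_forall_algHom {A : Type u} [CommRing A] [Algebra k A]
    [Algebra.FiniteType k A] [IsReduced A] (a : A) (h : ∀ φ : A →ₐ[k] k, φ a = 0) : a = 0 := by
  haveI : IsJacobsonRing A := isJacobsonRing_of_finiteType (A := k) (B := A)
  have h1 : a ∈ (⊥ : Ideal A).jacobson := by
    rw [Ideal.jacobson, Ideal.mem_sInf]
    rintro m ⟨-, hm⟩
    letI := Ideal.Quotient.field m
    haveI : Module.Finite k (A ⧸ m) := finite_of_finite_type_of_isJacobsonRing k (A ⧸ m)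
    have hbij : Function.Bijective (algebraMap k (A ⧸ m)) :=
      IsAlgClosed.algebraMap_bijective_of_isIntegral
    let e : k ≃ₐ[k] (A ⧸ m) := AlgEquiv.ofBijective (Algebra.ofId k (A ⧸ m)) hbij
    have h2 := h (e.symm.toAlgHom.comp (Ideal.Quotient.mkₐ k m))
    have h3 : (Ideal.Quotient.mkₐ k m) a = 0 := by
      have : e.symm ((Ideal.Quotient.mkₐ k m) a) = 0 := h2
      simpa using this
    exact Ideal.Quotient.eq_zero_iff_mem.mp h3
  rwa [IsJacobsonRing.out' _ Ideal.isRadical_bot, Ideal.mem_bot] at h1

/-- evaluation at a `k`-point of `A`, tensored with `L` -/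
noncomputable def evalPt {A L : Type u} [CommRing A] [Algebra k A] [CommRing L] [Algebra k L]
    (φ : A →ₐ[k] k) : A ⊗[k] L →ₐ[k] L :=
  Algebra.TensorProduct.lift ((Algebra.ofId k L).comp φ) (AlgHom.id k L) (fun _ _ => Commute.all _ _)

omit [IsAlgClosed k] in
lemma evalPt_tmul {A L : Type u} [CommRing A] [Algebra k A] [CommRing L] [Algebra k L]
    (φ : A →ₐ[k] k) (a : A) (l : L) : evalPt φ (a ⊗ₜ[k] l) = φ a • l := by
  simp [evalPt, Algebra.smul_def, Algebra.ofId_apply]

lemma evalPt_eq_sum {A L : Type u} [CommRing A] [Algebra k A] [CommRing L] [Algebra k L]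
    {ι : Type*} (B : Module.Basis ι k L) (φ : A →ₐ[k] k) (x : A ⊗[k] L) :
    evalPt φ x = ∑ i ∈ ((Algebra.TensorProduct.basis A B).repr x).support,
      φ ((Algebra.TensorProduct.basis A B).repr x i) • B i := by
  conv_lhs => rw [← (Algebra.TensorProduct.basis A B).linearCombination_repr x]
  rw [Finsupp.linearCombination_apply, Finsupp.sum, map_sum]
  refine Finset.sum_congr rfl fun i _ => ?_
  rw [Algebra.TensorProduct.basis_apply, TensorProduct.smul_tmul', smul_eq_mul, mul_one,
    evalPt_tmul]

lemma evalPt_eq_zero_iff {A L : Type u} [CommRing A] [Algebra k A] [CommRing L] [Algebra k L]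
    {ι : Type*} (B : Module.Basis ι k L) (φ : A →ₐ[k] k) (x : A ⊗[k] L) :
    evalPt φ x = 0 ↔ ∀ i, φ ((Algebra.TensorProduct.basis A B).repr x i) = 0 := by
  rw [evalPt_eq_sum B]
  constructor
  · intro h i
    by_cases hi : i ∈ ((Algebra.TensorProduct.basis A B).repr x).support
    · exact linearIndependent_iff'.mp B.linearIndependent _ _ h i hi
    · rw [Finsupp.notMem_support_iff.mp hi, map_zero]
  · intro h
    exact Finset.sum_eq_zero fun i _ => by rw [h i, zero_smul]

lemma noZeroDivisors_tensor_of_finiteType {A L : Type u} [CommRing A] [IsDomain A] [Algebra k A]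
    [Algebra.FiniteType k A] [CommRing L] [IsDomain L] [Algebra k L] :
    NoZeroDivisors (A ⊗[k] L) := by
  constructor
  intro x y hxy
  let B := Module.Basis.ofVectorSpace k L
  let BL := Algebra.TensorProduct.basis A B
  have key : ∀ i j, BL.repr x i * BL.repr y j = 0 := by
    intro i j
    apply eq_zero_of_forall_algHom (k := k)
    intro φ
    have h1 : evalPt φ x * evalPt φ y = 0 := by rw [← map_mul, hxy, map_zero]
    rcases mul_eq_zero.mp h1 with h | h
    · rw [map_mul, (evalPt_eq_zero_iff B φ x).mp h i, zero_mul]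
    · rw [map_mul, (evalPt_eq_zero_iff B φ y).mp h j, mul_zero]
  by_cases hx : x = 0
  · exact Or.inl hx
  · right
    have : ∃ i, BL.repr x i ≠ 0 := by
      by_contra hcon
      push_neg at hcon
      apply hx
      apply BL.repr.injective
      ext i
      rw [hcon i, map_zero, Finsupp.zero_apply]
    obtain ⟨i, hi⟩ := this
    apply BL.repr.injective
    ext j
    rw [map_zero, Finsupp.zero_apply]
    exact (mul_eq_zero.mp (key i j)).resolve_left hi

omit [IsAlgClosed k] in
lemma baseChange_mono' {K L : Type u} [CommRing K] [Algebra k K] [CommRing L] [Algebra k L]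
    {C₁ C₂ : Subalgebra k L} (h : C₁ ≤ C₂) : C₁.baseChange K ≤ C₂.baseChange K := by
  rintro _ ⟨x, rfl⟩
  refine ⟨Algebra.TensorProduct.map (AlgHom.id K K) (Subalgebra.inclusion h) x, ?_⟩
  induction x using TensorProduct.induction_on with
  | zero => simp
  | tmul a b => rfl
  | add x y hx hy => simp only [map_add, hx, hy]

lemma noZeroDivisors_tensor {K L : Type u} [CommRing K] [IsDomain K] [Algebra k K]
    [CommRing L] [IsDomain L] [Algebra k L] :
    NoZeroDivisors (K ⊗[k] L) := by
  constructor
  intro x y hxy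
  obtain ⟨C₁, hC₁, hx⟩ := exists_fg_and_mem_baseChange x
  obtain ⟨C₂, hC₂, hy⟩ := exists_fg_and_mem_baseChange y
  let C := C₁ ⊔ C₂
  have hC : C.FG := hC₁.sup hC₂
  haveI : Algebra.FiniteType k C := ⟨C.fg_top.mpr hC⟩
  let ι : K ⊗[k] C →ₐ[K] K ⊗[k] L := Algebra.TensorProduct.map (AlgHom.id K K) C.val
  have hι : Function.Injective ι :=
    Module.Flat.lTensor_preserves_injective_linearMap (M := K) C.val.toLinearMap
      Subtype.val_injective
  have hle₁ : C₁.baseChange K ≤ C.baseChange K := baseChange_mono' le_sup_left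
  have hle₂ : C₂.baseChange K ≤ C.baseChange K := baseChange_mono' le_sup_right
  obtain ⟨x₀, rfl⟩ : ∃ x₀, ι x₀ = x := hle₁ hx
  obtain ⟨y₀, rfl⟩ : ∃ y₀, ι y₀ = y := hle₂ hy
  have h0 : x₀ * y₀ = 0 := hι (by rw [map_mul, hxy, map_zero])
  haveI : NoZeroDivisors (C ⊗[k] K) := noZeroDivisors_tensor_of_finiteType
  let e : K ⊗[k] C ≃ₐ[k] C ⊗[k] K := Algebra.TensorProduct.comm k K C
  have h1 : e x₀ * e y₀ = 0 := by rw [← map_mul, h0, map_zero]
  rcases mul_eq_zero.mp h1 with h | h
  · left
    rw [(EmbeddingLike.map_eq_zero_iff (f := e)).mp h, map_zero]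
  · right
    rw [(EmbeddingLike.map_eq_zero_iff (f := e)).mp h, map_zero]

end AlgClosedDomain
section FiberArg

lemma connectedSpace_of_fibers {A B : Type u} [CommRing A] [CommRing B] [Algebra A B]
    (hopen : IsOpenMap (PrimeSpectrum.comap (algebraMap A B)))
    [ConnectedSpace (PrimeSpectrum A)]
    (hfib : ∀ p : PrimeSpectrum A, ConnectedSpace (PrimeSpectrum (p.asIdeal.Fiber B))) :
    ConnectedSpace (PrimeSpectrum B) := by
  let f := PrimeSpectrum.comap (algebraMap A B)
  have hconn : ∀ t, IsConnected (f ⁻¹' {t}) := fun t => by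
    have e := PrimeSpectrum.preimageHomeomorphFiber A B t
    haveI := hfib t
    haveI : ConnectedSpace (f ⁻¹' {t}) := e.connectedSpace_iff.mpr inferInstance
    exact isConnected_iff_connectedSpace.mpr this
  have hsurj : Function.Surjective f := fun t => (hconn t).nonempty.imp (fun x hx => hx)
  have hcl : Topology.IsCoinducing f :=
    (hopen.isQuotientMap (PrimeSpectrum.continuous_comap _) hsurj).isCoinducing
  have := hcl.isConnected_preimage_of_isClosed hconn isClosed_univ isConnected_univ
  rw [Set.preimage_univ] at this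
  exact connectedSpace_iff_univ.mpr this

lemma connectedSpace_tensor_of_fibers {k A R : Type u} [Field k] [CommRing A] [CommRing R]
    [Algebra k A] [Algebra k R] [ConnectedSpace (PrimeSpectrum A)]
    (hfib : ∀ p : PrimeSpectrum A,
      ConnectedSpace (PrimeSpectrum (p.asIdeal.ResidueField ⊗[k] R))) :
    ConnectedSpace (PrimeSpectrum (A ⊗[k] R)) := by
  refine connectedSpace_of_fibers
    PrimeSpectrum.isOpenMap_comap_algebraMap_tensorProduct_of_field fun p => ?_
  haveI := hfib p
  let e := Algebra.TensorProduct.cancelBaseChange k A A p.asIdeal.ResidueField R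
  exact (PrimeSpectrum.homeomorphOfRingEquiv e.toRingEquiv).connectedSpace_iff.mpr inferInstance

end FiberArg
section AlgClosedCase

variable {k : Type u} [Field k] [IsAlgClosed k]

lemma connectedSpace_tensor_fields {K L : Type u} [Field K] [Field L] [Algebra k K] [Algebra k L] :
    ConnectedSpace (PrimeSpectrum (K ⊗[k] L)) := by
  haveI : NoZeroDivisors (K ⊗[k] L) := noZeroDivisors_tensor
  haveI : Nontrivial (K ⊗[k] L) := inferInstance
  haveI : IsDomain (K ⊗[k] L) := NoZeroDivisors.to_isDomain _
  infer_instance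

lemma connectedSpace_tensor_field {R L : Type u} [CommRing R] [Field L] [Algebra k R] [Algebra k L]
    [ConnectedSpace (PrimeSpectrum R)] :
    ConnectedSpace (PrimeSpectrum (R ⊗[k] L)) :=
  connectedSpace_tensor_of_fibers fun _ => connectedSpace_tensor_fields

lemma connectedSpace_tensor_algClosed {R S : Type u} [CommRing R] [CommRing S] [Algebra k R]
    [Algebra k S] [ConnectedSpace (PrimeSpectrum R)] [ConnectedSpace (PrimeSpectrum S)] :
    ConnectedSpace (PrimeSpectrum (R ⊗[k] S)) := by
  refine connectedSpace_tensor_of_fibers fun p => ?_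
  haveI : ConnectedSpace (PrimeSpectrum (S ⊗[k] p.asIdeal.ResidueField)) :=
    connectedSpace_tensor_field
  let e := Algebra.TensorProduct.comm k S p.asIdeal.ResidueField
  exact (PrimeSpectrum.homeomorphOfRingEquiv e.toRingEquiv).connectedSpace_iff.mp inferInstance

end AlgClosedCase
section SepClosed

variable {k : Type u} [Field k] [IsSepClosed k]

lemma connectedSpace_algClosure_tensor_iff (R : Type u) [CommRing R] [Algebra k R] :
    ConnectedSpace (PrimeSpectrum (AlgebraicClosure k ⊗[k] R)) ↔
      ConnectedSpace (PrimeSpectrum R) := by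
  have h := PrimeSpectrum.isHomeomorph_comap_of_isPurelyInseparable k (AlgebraicClosure k) R
  let e := Algebra.TensorProduct.comm k (AlgebraicClosure k) R
  rw [(PrimeSpectrum.homeomorphOfRingEquiv e.toRingEquiv).connectedSpace_iff]
  exact (IsHomeomorph.homeomorph _ h).connectedSpace_iff

lemma connectedSpace_tensor_sepClosed {R S : Type u} [CommRing R] [CommRing S] [Algebra k R]
    [Algebra k S] [ConnectedSpace (PrimeSpectrum R)] [ConnectedSpace (PrimeSpectrum S)] :
    ConnectedSpace (PrimeSpectrum (R ⊗[k] S)) := by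
  haveI : ConnectedSpace (PrimeSpectrum (AlgebraicClosure k ⊗[k] R)) :=
    (connectedSpace_algClosure_tensor_iff R).mpr inferInstance
  haveI : ConnectedSpace (PrimeSpectrum (AlgebraicClosure k ⊗[k] S)) :=
    (connectedSpace_algClosure_tensor_iff S).mpr inferInstance
  haveI : ConnectedSpace (PrimeSpectrum ((AlgebraicClosure k ⊗[k] R) ⊗[AlgebraicClosure k]
      (AlgebraicClosure k ⊗[k] S))) := connectedSpace_tensor_algClosed
  rw [← connectedSpace_algClosure_tensor_iff (k := k) (R ⊗[k] S)]
  let e₁ := Algebra.TensorProduct.cancelBaseChange k (AlgebraicClosure k) (AlgebraicClosure k)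
    (AlgebraicClosure k ⊗[k] R) S
  let e₂ := Algebra.TensorProduct.assoc k k k (AlgebraicClosure k) R S
  rw [← (PrimeSpectrum.homeomorphOfRingEquiv e₂.toRingEquiv).connectedSpace_iff,
    ← (PrimeSpectrum.homeomorphOfRingEquiv e₁.toRingEquiv).connectedSpace_iff]
  infer_instance

end SepClosed

end Groth.Agent.H1.GeomConn
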