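import Mathlib
import Groth.Agent.Lib.Helper1.GeomConn

/-!
# Geometric irreducibility of algebras over a field

* `irreducibleSpace_of_injective`: irreducibility of `Spec` descends along injective ring maps.
* `irreducibleSpace_tensor_of_isAlgClosed`: over an algebraically closed field irreducible algebras
  stay irreducible after any field extension.
* `irr_of_algClosure`, `irr_algClosure_of_sepClosure`, `irr_sepClosure_of_finite`: the
  implications between the characterisations of geometric irreducibility.
-/

set_option autoImplicit false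
universe u

namespace Groth.Agent.H1.GeomIrr

open TensorProduct Groth.Agent.H1.GeomConn

section GeomIrr

lemma irreducibleSpace_of_injective {A B : Type*} [CommRing A] [CommRing B] (f : A →+* B)
    (hf : Function.Injective f) [IrreducibleSpace (PrimeSpectrum B)] :
    IrreducibleSpace (PrimeSpectrum A) := by
  rw [PrimeSpectrum.irreducibleSpace_iff_isPrime_nilradical] at *
  have : nilradical A = (nilradical B).comap f := by
    ext x
    rw [Ideal.mem_comap, mem_nilradical, mem_nilradical]
    exact (IsNilpotent.map_iff hf).symm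
  rw [this]
  infer_instance

lemma irreducibleSpace_tensor_of_isAlgClosed {k : Type u} [Field k] [IsAlgClosed k]
    (Ω R : Type u) [Field Ω] [Algebra k Ω] [CommRing R] [Algebra k R]
    [IrreducibleSpace (PrimeSpectrum R)] : IrreducibleSpace (PrimeSpectrum (Ω ⊗[k] R)) := by
  have hN : (nilradical R).IsPrime := PrimeSpectrum.irreducibleSpace_iff_isPrime_nilradical.mp ‹_›
  let D := R ⧸ nilradical R
  haveI : IsDomain D := Ideal.Quotient.isDomain _
  let g : R →ₐ[k] D := Ideal.Quotient.mkₐ k (nilradical R)
  have hg : Function.Surjective g := Ideal.Quotient.mkₐ_surjective _ _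
  let π : Ω ⊗[k] R →ₐ[k] Ω ⊗[k] D := Algebra.TensorProduct.map (AlgHom.id k Ω) g
  haveI : NoZeroDivisors (Ω ⊗[k] D) := noZeroDivisors_tensor
  haveI : Nontrivial (Ω ⊗[k] D) := inferInstance
  haveI : IsDomain (Ω ⊗[k] D) := NoZeroDivisors.to_isDomain _
  have hker : RingHom.ker π = (RingHom.ker g).map
      (Algebra.TensorProduct.includeRight : R →ₐ[k] Ω ⊗[k] R) :=
    Algebra.TensorProduct.lTensor_ker g hg
  have hle : RingHom.ker π ≤ nilradical (Ω ⊗[k] R) := by
    rw [hker, Ideal.map_le_iff_le_comap]
    intro x hx
    have hx' : x ∈ nilradical R := by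
      have : g x = 0 := hx
      exact Ideal.Quotient.eq_zero_iff_mem.mp this
    rw [Ideal.mem_comap, mem_nilradical]
    exact (mem_nilradical.mp hx').map _
  have hprime : (RingHom.ker π).IsPrime := RingHom.ker_isPrime _
  have heq : nilradical (Ω ⊗[k] R) = RingHom.ker π :=
    le_antisymm (nilradical_le_prime _) hle
  rw [PrimeSpectrum.irreducibleSpace_iff_isPrime_nilradical, heq]
  exact hprime

lemma irr_of_algClosure {k R : Type u} [Field k] [CommRing R] [Algebra k R]
    [IrreducibleSpace (PrimeSpectrum (AlgebraicClosure k ⊗[k] R))]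
    (k' : Type u) [Field k'] [Algebra k k'] : IrreducibleSpace (PrimeSpectrum (k' ⊗[k] R)) := by
  let Ω := AlgebraicClosure k'
  let φ : AlgebraicClosure k →ₐ[k] Ω := IsAlgClosed.lift
  letI : Algebra (AlgebraicClosure k) Ω := φ.toRingHom.toAlgebra
  haveI : IsScalarTower k (AlgebraicClosure k) Ω :=
    IsScalarTower.of_algebraMap_eq fun x => (φ.commutes x).symm
  haveI : IrreducibleSpace
      (PrimeSpectrum (Ω ⊗[AlgebraicClosure k] (AlgebraicClosure k ⊗[k] R))) :=
    irreducibleSpace_tensor_of_isAlgClosed Ω _
  let e := Algebra.TensorProduct.cancelBaseChange k (AlgebraicClosure k) (AlgebraicClosure k) Ω R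
  haveI : IrreducibleSpace (PrimeSpectrum (Ω ⊗[k] R)) :=
    (PrimeSpectrum.homeomorphOfRingEquiv e.toRingEquiv).irreducibleSpace_iff.mp inferInstance
  let ι : k' ⊗[k] R →ₐ[k] Ω ⊗[k] R :=
    Algebra.TensorProduct.map (IsScalarTower.toAlgHom k k' Ω) (AlgHom.id k R)
  have hι : Function.Injective ι :=
    Module.Flat.rTensor_preserves_injective_linearMap (M := R)
      (IsScalarTower.toAlgHom k k' Ω).toLinearMap (algebraMap k' Ω).injective
  exact irreducibleSpace_of_injective ι.toRingHom hι

lemma irr_algClosure_of_sepClosure {k R : Type u} [Field k] [CommRing R] [Algebra k R]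
    [IrreducibleSpace (PrimeSpectrum (SeparableClosure k ⊗[k] R))] :
    IrreducibleSpace (PrimeSpectrum (AlgebraicClosure k ⊗[k] R)) := by
  have h := PrimeSpectrum.isHomeomorph_comap_tensorProductMap_of_isPurelyInseparable
    (SeparableClosure k) k R (AlgebraicClosure k)
  exact (IsHomeomorph.homeomorph _ h).irreducibleSpace_iff.mpr inferInstance

/-- every element of `E ⊗ R` comes from `F ⊗ R` for `F` generated by a finite set -/
lemma exists_finset_mem_range {k E R : Type u} [Field k] [Field E] [Algebra k E] [CommRing R]
    [Algebra k R] (x : E ⊗[k] R) : ∃ s : Finset E, ∀ F : IntermediateField k E, (s : Set E) ⊆ F →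
      x ∈ (Algebra.TensorProduct.map F.val (AlgHom.id k R)).range := by
  classical
  obtain ⟨S, rfl⟩ := TensorProduct.exists_finset x
  refine ⟨S.image Prod.fst, fun F hF => ?_⟩
  refine Subalgebra.sum_mem _ fun i hi => ?_
  have hi' : i.1 ∈ F := hF (by simpa using Finset.mem_image_of_mem Prod.fst hi)
  exact ⟨(⟨i.1, hi'⟩ : F) ⊗ₜ[k] i.2, rfl⟩

lemma irr_sepClosure_of_finite {k R : Type u} [Field k] [CommRing R] [Algebra k R]
    (h : ∀ (k' : Type u) [Field k'] [Algebra k k'] [Module.Finite k k'] [Algebra.IsSeparable k k'],
      IrreducibleSpace (PrimeSpectrum (k' ⊗[k] R))) :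
    IrreducibleSpace (PrimeSpectrum (SeparableClosure k ⊗[k] R)) := by
  classical
  rw [PrimeSpectrum.irreducibleSpace_iff_isPrime_nilradical]
  have hinj : ∀ F : IntermediateField k (SeparableClosure k), Function.Injective
      (Algebra.TensorProduct.map F.val (AlgHom.id k R)) := fun F =>
    Module.Flat.rTensor_preserves_injective_linearMap (M := R) F.val.toLinearMap
      Subtype.val_injective
  have hprime : ∀ (F : IntermediateField k (SeparableClosure k)), FiniteDimensional k F →
      (nilradical (F ⊗[k] R)).IsPrime := fun F hF =>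
    PrimeSpectrum.irreducibleSpace_iff_isPrime_nilradical.mp (h F)
  refine ⟨?_, ?_⟩
  · rw [Ne, Ideal.eq_top_iff_one, mem_nilradical]
    intro h1
    have hF : FiniteDimensional k (⊥ : IntermediateField k (SeparableClosure k)) := inferInstance
    have h2 := (hprime ⊥ hF).ne_top
    apply h2
    rw [Ideal.eq_top_iff_one, mem_nilradical]
    rw [← (IsNilpotent.map_iff (hinj ⊥)), map_one]
    exact h1
  · intro x y hxy
    obtain ⟨sx, hsx⟩ := exists_finset_mem_range x
    obtain ⟨sy, hsy⟩ := exists_finset_mem_range y
    let F : IntermediateField k (SeparableClosure k) :=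
      IntermediateField.adjoin k ((sx ∪ sy : Finset _) : Set (SeparableClosure k))
    have hF : FiniteDimensional k F :=
      IntermediateField.finiteDimensional_adjoin fun x _ => Algebra.IsIntegral.isIntegral x
    have hsub : ((sx ∪ sy : Finset _) : Set (SeparableClosure k)) ⊆ F :=
      IntermediateField.subset_adjoin _ _
    obtain ⟨x', hx'⟩ := hsx F (fun a ha => hsub (by
      simp only [Finset.coe_union, Set.mem_union]; exact Or.inl ha))
    obtain ⟨y', hy'⟩ := hsy F (fun a ha => hsub (by
      simp only [Finset.coe_union, Set.mem_union]; exact Or.inr ha))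
    replace hx' : Algebra.TensorProduct.map F.val (AlgHom.id k R) x' = x := hx'
    replace hy' : Algebra.TensorProduct.map F.val (AlgHom.id k R) y' = y := hy'
    have h3 : x' * y' ∈ nilradical (F ⊗[k] R) := by
      rw [mem_nilradical, ← IsNilpotent.map_iff (hinj F), map_mul, hx', hy']
      exact mem_nilradical.mp hxy
    rcases (hprime F hF).mem_or_mem h3 with h4 | h4
    · left
      rw [← hx']
      exact mem_nilradical.mpr ((mem_nilradical.mp h4).map
        (Algebra.TensorProduct.map F.val (AlgHom.id k R)))
    · right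
      rw [← hy']
      exact mem_nilradical.mpr ((mem_nilradical.mp h4).map
        (Algebra.TensorProduct.map F.val (AlgHom.id k R)))

end GeomIrr

end Groth.Agent.H1.GeomIrr
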