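import Mathlib
import Groth.Agent.Lib.Helper1.GeomIrr

/-!
# More on geometric irreducibility

* `irreducibleSpace_of_ker_le_nilradical`
* `irreducibleSpace_tensor_of_geomIrr`: `R` irreducible, `S` geometrically irreducible over `k`
  implies `R ⊗[k] S` irreducible.
-/

set_option autoImplicit false
universe u

namespace Groth.Agent.H1.GeomIrr

open TensorProduct

lemma nilradical_eq_comap_of_ker_le {A B : Type*} [CommRing A] [CommRing B] (f : A →+* B)
    (hf : RingHom.ker f ≤ nilradical A) : nilradical A = (nilradical B).comap f := by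
  ext x
  rw [Ideal.mem_comap, mem_nilradical, mem_nilradical]
  constructor
  · intro h; exact h.map f
  · rintro ⟨n, hn⟩
    have h1 : x ^ n ∈ RingHom.ker f := by rw [RingHom.mem_ker, map_pow, hn]
    obtain ⟨m, hm⟩ := mem_nilradical.mp (hf h1)
    exact ⟨n * m, by rw [pow_mul, hm]⟩

lemma irreducibleSpace_of_ker_le_nilradical {A B : Type*} [CommRing A] [CommRing B] (f : A →+* B)
    (hf : RingHom.ker f ≤ nilradical A) [IrreducibleSpace (PrimeSpectrum B)] :
    IrreducibleSpace (PrimeSpectrum A) := by
  rw [PrimeSpectrum.irreducibleSpace_iff_isPrime_nilradical] at *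
  rw [nilradical_eq_comap_of_ker_le f hf]
  infer_instance

lemma irreducibleSpace_tensor_of_geomIrr {k R S : Type u} [Field k] [CommRing R] [CommRing S]
    [Algebra k R] [Algebra k S]
    (hS : ∀ (k' : Type u) [Field k'] [Algebra k k'], IrreducibleSpace (PrimeSpectrum (k' ⊗[k] S)))
    [IrreducibleSpace (PrimeSpectrum R)] : IrreducibleSpace (PrimeSpectrum (R ⊗[k] S)) := by
  have hN : (nilradical R).IsPrime := PrimeSpectrum.irreducibleSpace_iff_isPrime_nilradical.mp ‹_›
  let D := R ⧸ nilradical R
  haveI : IsDomain D := Ideal.Quotient.isDomain _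
  let Kf := FractionRing D
  haveI : IrreducibleSpace (PrimeSpectrum (Kf ⊗[k] S)) := hS Kf
  let ι : D ⊗[k] S →ₐ[k] Kf ⊗[k] S :=
    Algebra.TensorProduct.map (IsScalarTower.toAlgHom k D Kf) (AlgHom.id k S)
  have hι : Function.Injective ι :=
    Module.Flat.rTensor_preserves_injective_linearMap (M := S)
      (IsScalarTower.toAlgHom k D Kf).toLinearMap (IsFractionRing.injective D Kf)
  haveI : IrreducibleSpace (PrimeSpectrum (D ⊗[k] S)) :=
    irreducibleSpace_of_injective ι.toRingHom hι
  let g : R →ₐ[k] D := Ideal.Quotient.mkₐ k (nilradical R)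
  have hg : Function.Surjective g := Ideal.Quotient.mkₐ_surjective _ _
  let π : R ⊗[k] S →ₐ[k] D ⊗[k] S := Algebra.TensorProduct.map g (AlgHom.id k S)
  have hker : RingHom.ker π = (RingHom.ker g).map
      (Algebra.TensorProduct.includeLeft : R →ₐ[k] R ⊗[k] S) :=
    Algebra.TensorProduct.rTensor_ker g hg
  have hle : RingHom.ker π.toRingHom ≤ nilradical (R ⊗[k] S) := by
    change RingHom.ker π ≤ _
    rw [hker, Ideal.map_le_iff_le_comap]
    intro x hx
    have hx' : x ∈ nilradical R := by
      have : g x = 0 := hx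
      exact Ideal.Quotient.eq_zero_iff_mem.mp this
    rw [Ideal.mem_comap, mem_nilradical]
    exact (mem_nilradical.mp hx').map _
  exact irreducibleSpace_of_ker_le_nilradical π.toRingHom hle

end Groth.Agent.H1.GeomIrr
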