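import Mathlib
import Groth.Agent.Lib.Helper1.GeomIrr2

/-!
# Geometric reducedness over fields

* `eq_zero_of_forall_prime`: an element of `R ⊗[F] K` (`R` reduced) vanishing in all
  `κ(p) ⊗[F] K` is zero.
* `isReduced_tensor_of_isSeparable`: separable algebraic base change preserves reducedness.
* `isReduced_tensor_of_isAlgClosed`: over an algebraically closed field, reduced algebras stay
  reduced after any field extension.
-/

set_option autoImplicit false
universe u

namespace Groth.Agent.H1.GeomRed

open TensorProduct Groth.Agent.H1.GeomConn Groth.Agent.H1.GeomIrr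

section Basic

variable {F R κ K ι : Type*} [CommRing F] [CommRing R] [CommRing κ] [CommRing K]
  [Algebra F R] [Algebra F κ] [Algebra F K]

lemma repr_map (b : Module.Basis ι F K) (ψ : R →ₐ[F] κ) (x : R ⊗[F] K) (i : ι) :
    (Algebra.TensorProduct.basis κ b).repr (Algebra.TensorProduct.map ψ (AlgHom.id F K) x) i =
      ψ ((Algebra.TensorProduct.basis R b).repr x i) := by
  induction x using TensorProduct.induction_on with
  | zero => simp
  | tmul r m =>
    rw [Algebra.TensorProduct.map_tmul, Algebra.TensorProduct.basis_repr_tmul,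
      Algebra.TensorProduct.basis_repr_tmul]
    simp
  | add x y hx hy =>
    rw [map_add, map_add, map_add, Finsupp.add_apply, Finsupp.add_apply, hx, hy, map_add]

end Basic

lemma eq_zero_of_forall_prime {F R K : Type*} [Field F] [CommRing R] [IsReduced R] [Algebra F R]
    [CommRing K] [Algebra F K] (x : R ⊗[F] K)
    (h : ∀ (p : Ideal R) [p.IsPrime], Algebra.TensorProduct.map
      (IsScalarTower.toAlgHom F R p.ResidueField) (AlgHom.id F K) x = 0) : x = 0 := by
  let b := Module.Basis.ofVectorSpace F K
  apply (Algebra.TensorProduct.basis R b).repr.injective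
  ext i
  rw [map_zero, Finsupp.zero_apply]
  have h1 : (Algebra.TensorProduct.basis R b).repr x i ∈ nilradical R := by
    rw [nilradical_eq_sInf, Ideal.mem_sInf]
    intro p hp
    haveI : p.IsPrime := hp
    have h2 := repr_map b (IsScalarTower.toAlgHom F R p.ResidueField) x i
    rw [h p, map_zero, Finsupp.zero_apply] at h2
    exact Ideal.algebraMap_residueField_eq_zero.mp h2.symm
  have h3 := nilradical_eq_zero R
  rw [h3] at h1
  exact h1

lemma isReduced_tensor_of_forall_prime {F R K : Type*} [Field F] [CommRing R] [IsReduced R]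
    [Algebra F R] [CommRing K] [Algebra F K]
    (h : ∀ (p : Ideal R) [p.IsPrime], IsReduced (p.ResidueField ⊗[F] K)) :
    IsReduced (R ⊗[F] K) := by
  constructor
  intro x hx
  apply eq_zero_of_forall_prime
  intro p _
  haveI := h p
  exact (hx.map _).eq_zero

/-- finite separable case over a field -/
lemma isReduced_tensor_field_of_finite_isSeparable (F E K : Type*) [Field F] [Field E] [Field K]
    [Algebra F E] [Algebra F K] [Algebra.IsSeparable F K] [FiniteDimensional F K] :
    IsReduced (E ⊗[F] K) := by
  haveI : Algebra.FormallyUnramified F K := Algebra.FormallyUnramified.of_isSeparable F K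
  haveI : Algebra.FormallyUnramified E (E ⊗[F] K) := inferInstance
  exact Algebra.FormallyUnramified.isReduced_of_field E (E ⊗[F] K)

/-- every element of `E ⊗ R` comes from `E₀ ⊗ R` for `E₀` generated by a finite set -/
lemma exists_finset_mem_range' {k E R : Type*} [Field k] [Field E] [Algebra k E] [CommRing R]
    [Algebra k R] (x : E ⊗[k] R) : ∃ s : Finset E, ∀ F : IntermediateField k E, (s : Set E) ⊆ F →
      x ∈ (Algebra.TensorProduct.map F.val (AlgHom.id k R)).range := by
  classical
  obtain ⟨S, rfl⟩ := TensorProduct.exists_finset x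
  refine ⟨S.image Prod.fst, fun F hF => ?_⟩
  refine Subalgebra.sum_mem _ fun i hi => ?_
  have hi' : i.1 ∈ F := hF (by simpa using Finset.mem_image_of_mem Prod.fst hi)
  exact ⟨(⟨i.1, hi'⟩ : F) ⊗ₜ[k] i.2, rfl⟩

/-- separable algebraic case over a field -/
lemma isReduced_tensor_field_of_isSeparable (F E K : Type*) [Field F] [Field E] [Field K]
    [Algebra F E] [Algebra F K] [Algebra.IsSeparable F K] :
    IsReduced (K ⊗[F] E) := by
  constructor
  intro x hx
  obtain ⟨s, hs⟩ := exists_finset_mem_range' x
  let K₀ : IntermediateField F K := IntermediateField.adjoin F (s : Set K)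
  haveI : FiniteDimensional F K₀ :=
    IntermediateField.finiteDimensional_adjoin fun x _ => Algebra.IsIntegral.isIntegral x
  obtain ⟨x₀, hx₀⟩ := hs K₀ (IntermediateField.subset_adjoin _ _)
  replace hx₀ : Algebra.TensorProduct.map K₀.val (AlgHom.id F E) x₀ = x := hx₀
  have hinj : Function.Injective (Algebra.TensorProduct.map K₀.val (AlgHom.id F E)) :=
    Module.Flat.rTensor_preserves_injective_linearMap (M := E) K₀.val.toLinearMap
      Subtype.val_injective
  have h1 : IsNilpotent x₀ := by
    rw [← IsNilpotent.map_iff hinj, hx₀]; exact hx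
  haveI : IsReduced (E ⊗[F] K₀) := isReduced_tensor_field_of_finite_isSeparable F E K₀
  let e := Algebra.TensorProduct.comm F K₀ E
  have h2 : e x₀ = 0 := (h1.map e).eq_zero
  rw [← hx₀, (EmbeddingLike.map_eq_zero_iff (f := e)).mp h2, map_zero]

/-- Separable algebraic base change preserves reducedness. -/
lemma isReduced_tensor_of_isSeparable (F R K : Type*) [Field F] [CommRing R] [IsReduced R]
    [Algebra F R] [Field K] [Algebra F K] [Algebra.IsSeparable F K] :
    IsReduced (R ⊗[F] K) := by
  refine isReduced_tensor_of_forall_prime fun p _ => ?_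
  haveI := isReduced_tensor_field_of_isSeparable F p.ResidueField K
  let e := Algebra.TensorProduct.comm F p.ResidueField K
  exact isReduced_of_injective e.toRingHom e.injective

/-- Over an algebraically closed field, reducedness is preserved by field extensions. -/
lemma isReduced_tensor_of_isAlgClosed (k : Type u) [Field k] [IsAlgClosed k] (R Ω : Type u)
    [CommRing R] [IsReduced R] [Algebra k R] [Field Ω] [Algebra k Ω] :
    IsReduced (R ⊗[k] Ω) := by
  refine isReduced_tensor_of_forall_prime fun p _ => ?_
  haveI : NoZeroDivisors (p.ResidueField ⊗[k] Ω) := noZeroDivisors_tensor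
  infer_instance



lemma red_of_algClosure {k S : Type u} [Field k] [CommRing S] [Algebra k S]
    [IsReduced (AlgebraicClosure k ⊗[k] S)]
    (K : Type u) [Field K] [Algebra k K] : IsReduced (K ⊗[k] S) := by
  let Ω := AlgebraicClosure K
  let φ : AlgebraicClosure k →ₐ[k] Ω := IsAlgClosed.lift
  letI : Algebra (AlgebraicClosure k) Ω := φ.toRingHom.toAlgebra
  haveI : IsScalarTower k (AlgebraicClosure k) Ω :=
    IsScalarTower.of_algebraMap_eq fun x => (φ.commutes x).symm
  haveI : IsReduced ((AlgebraicClosure k ⊗[k] S) ⊗[AlgebraicClosure k] Ω) :=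
    isReduced_tensor_of_isAlgClosed (AlgebraicClosure k) _ Ω
  let e₀ := Algebra.TensorProduct.comm (AlgebraicClosure k) Ω (AlgebraicClosure k ⊗[k] S)
  let e := Algebra.TensorProduct.cancelBaseChange k (AlgebraicClosure k) (AlgebraicClosure k) Ω S
  let ι : K ⊗[k] S →ₐ[k] Ω ⊗[k] S :=
    Algebra.TensorProduct.map (IsScalarTower.toAlgHom k K Ω) (AlgHom.id k S)
  have hι : Function.Injective ι :=
    Module.Flat.rTensor_preserves_injective_linearMap (M := S)
      (IsScalarTower.toAlgHom k K Ω).toLinearMap (algebraMap K Ω).injective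
  have hinj : Function.Injective (fun x => e₀ (e.symm (ι x))) :=
    e₀.injective.comp (e.symm.injective.comp hι)
  exact isReduced_of_injective
    ((e₀.toRingHom.comp e.symm.toRingHom).comp ι.toRingHom) hinj
lemma red_of_tower {k P Kb S : Type u} [Field k] [Field P] [Field Kb] [Algebra k P] [Algebra P Kb]
    [Algebra k Kb] [IsScalarTower k P Kb] [Algebra.IsSeparable P Kb] [CommRing S] [Algebra k S]
    [IsReduced (P ⊗[k] S)] : IsReduced (Kb ⊗[k] S) := by
  haveI : IsReduced ((P ⊗[k] S) ⊗[P] Kb) := isReduced_tensor_of_isSeparable P _ _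
  let e₀ := Algebra.TensorProduct.comm P Kb (P ⊗[k] S)
  let e := Algebra.TensorProduct.cancelBaseChange k P P Kb S
  exact isReduced_of_injective (e₀.toRingHom.comp e.symm.toRingHom)
    (e₀.injective.comp e.symm.injective)

lemma red_of_finite_insep {k P S : Type u} [Field k] [Field P] [Algebra k P]
    [IsPurelyInseparable k P] [CommRing S] [Algebra k S]
    (h : ∀ (k' : Type u) [Field k'] [Algebra k k'] [Module.Finite k k']
      [IsPurelyInseparable k k'], IsReduced (k' ⊗[k] S)) : IsReduced (P ⊗[k] S) := by
  constructor
  intro x hx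
  obtain ⟨s, hs⟩ := exists_finset_mem_range' x
  let P₀ : IntermediateField k P := IntermediateField.adjoin k (s : Set P)
  haveI : FiniteDimensional k P₀ :=
    IntermediateField.finiteDimensional_adjoin fun x _ => Algebra.IsIntegral.isIntegral x
  haveI : IsPurelyInseparable k P₀ := IsPurelyInseparable.tower_bot k P₀ P
  obtain ⟨x₀, hx₀⟩ := hs P₀ (IntermediateField.subset_adjoin _ _)
  replace hx₀ : Algebra.TensorProduct.map P₀.val (AlgHom.id k S) x₀ = x := hx₀
  have hinj : Function.Injective (Algebra.TensorProduct.map P₀.val (AlgHom.id k S)) :=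
    Module.Flat.rTensor_preserves_injective_linearMap (M := S) P₀.val.toLinearMap
      Subtype.val_injective
  have h1 : IsNilpotent x₀ := by
    rw [← IsNilpotent.map_iff hinj, hx₀]; exact hx
  haveI := h P₀
  rw [← hx₀, h1.eq_zero, map_zero]

lemma red_algClosure_of_finite_insep {k S : Type u} [Field k] [CommRing S] [Algebra k S]
    (h : ∀ (k' : Type u) [Field k'] [Algebra k k'] [Module.Finite k k']
      [IsPurelyInseparable k k'], IsReduced (k' ⊗[k] S)) :
    IsReduced (AlgebraicClosure k ⊗[k] S) := by
  haveI : IsReduced (perfectClosure k (AlgebraicClosure k) ⊗[k] S) := red_of_finite_insep h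
  haveI : PerfectField (perfectClosure k (AlgebraicClosure k)) := inferInstance
  haveI : Algebra.IsSeparable (perfectClosure k (AlgebraicClosure k)) (AlgebraicClosure k) :=
    Algebra.IsAlgebraic.isSeparable_of_perfectField
  exact red_of_tower (P := perfectClosure k (AlgebraicClosure k))

end Groth.Agent.H1.GeomRed
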