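import Mathlib

/-! Generizations of a point and primes of its local ring. -/

universe u
set_option linter.style.haveILetI false
open CategoryTheory AlgebraicGeometry TopologicalSpace Opposite

namespace Groth.Agent.H1.StalkGen

variable {X : Scheme.{u}}

/-- the prime of `O_{X,x}` corresponding to a generization `z` of `x` -/
noncomputable def primeOf {x z : X} (h : z ⤳ x) : PrimeSpectrum (X.presheaf.stalk x) :=
  ⟨Ideal.comap (X.presheaf.stalkSpecializes h).hom (IsLocalRing.maximalIdeal (X.presheaf.stalk z)),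
    Ideal.comap_isPrime _ _⟩

theorem fromSpecStalk_primeOf {x z : X} (h : z ⤳ x) : X.fromSpecStalk x (primeOf h) = z := by
  have h1 := Scheme.SpecMap_stalkSpecializes_fromSpecStalk h
  have h2 : (Spec.map (X.presheaf.stalkSpecializes h) ≫ X.fromSpecStalk x)
      (IsLocalRing.closedPoint (X.presheaf.stalk z)) =
      X.fromSpecStalk z (IsLocalRing.closedPoint (X.presheaf.stalk z)) := by rw [h1]
  rw [Scheme.fromSpecStalk_closedPoint] at h2
  exact h2

theorem fromSpecStalk_injective (x : X) : Function.Injective (X.fromSpecStalk x) :=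
  (Scheme.Hom.isEmbedding (X.fromSpecStalk x)).injective

theorem fromSpecStalk_specializes (x : X) (q) : X.fromSpecStalk x q ⤳ x := by
  have : X.fromSpecStalk x q ∈ Set.range (X.fromSpecStalk x) := ⟨q, rfl⟩
  rw [Scheme.range_fromSpecStalk] at this
  exact this

theorem primeOf_fromSpecStalk (x : X) (q : PrimeSpectrum (X.presheaf.stalk x)) :
    primeOf (fromSpecStalk_specializes x q) = q :=
  fromSpecStalk_injective x (fromSpecStalk_primeOf _)

theorem fromSpecStalk_mono (x : X) {q q' : PrimeSpectrum (X.presheaf.stalk x)}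
    (h : q.asIdeal ≤ q'.asIdeal) : X.fromSpecStalk x q ⤳ X.fromSpecStalk x q' :=
  ((PrimeSpectrum.le_iff_specializes q q').mp h).map (X.fromSpecStalk x).continuous

/-- compatibility with morphisms -/
theorem map_fromSpecStalk {Y : Scheme.{u}} (f : Y ⟶ X) (y : Y)
    (q : PrimeSpectrum (Y.presheaf.stalk y)) :
    f (Y.fromSpecStalk y q) =
      X.fromSpecStalk (f y) (PrimeSpectrum.comap (f.stalkMap y).hom q) := by
  have h1 := Scheme.SpecMap_stalkMap_fromSpecStalk (f := f) (x := y)
  have h2 : (Spec.map (f.stalkMap y) ≫ X.fromSpecStalk (f y)) q =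
      (Y.fromSpecStalk y ≫ f) q := by rw [h1]
  exact h2.symm

/-- the local ring at a generization is the localization at the corresponding prime -/
theorem isLocalization_stalkSpecializes {x z : X} (h : z ⤳ x) :
    letI : Algebra (X.presheaf.stalk x) (X.presheaf.stalk z) :=
      (X.presheaf.stalkSpecializes h).hom.toAlgebra
    IsLocalization.AtPrime (X.presheaf.stalk z) (primeOf h).asIdeal := by
  letI : Algebra (X.presheaf.stalk x) (X.presheaf.stalk z) :=
    (X.presheaf.stalkSpecializes h).hom.toAlgebra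
  obtain ⟨_, ⟨V, hV, rfl⟩, hxV, -⟩ := X.isBasis_affineOpens.exists_subset_of_mem_open
    (Set.mem_univ x) isOpen_univ
  have hV : IsAffineOpen V := hV
  have hxV : x ∈ V := hxV
  have hzV : z ∈ V := h.mem_open V.2 hxV
  letI ax : Algebra Γ(X, V) (X.presheaf.stalk x) := X.presheaf.algebra_section_stalk ⟨x, hxV⟩
  letI az : Algebra Γ(X, V) (X.presheaf.stalk z) := X.presheaf.algebra_section_stalk ⟨z, hzV⟩
  haveI lx := hV.isLocalization_stalk ⟨x, hxV⟩
  haveI lz := hV.isLocalization_stalk ⟨z, hzV⟩
  haveI : IsScalarTower Γ(X, V) (X.presheaf.stalk x) (X.presheaf.stalk z) := by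
    apply IsScalarTower.of_algebraMap_eq'
    simp_rw [RingHom.algebraMap_toAlgebra]
    change _ = (X.presheaf.germ V x hxV ≫ X.presheaf.stalkSpecializes h).hom
    rw [X.presheaf.germ_stalkSpecializes]
  -- `p_z ≤ p_x`
  have hle : (hV.primeIdealOf ⟨x, hxV⟩).asIdeal.primeCompl ≤
      (hV.primeIdealOf ⟨z, hzV⟩).asIdeal.primeCompl := by
    intro s hs hsz
    apply hs
    -- s ∈ p_z → s ∈ p_x: the germ of s at z is a nonunit, hence also at x
    have h1 : algebraMap Γ(X, V) (X.presheaf.stalk z) s ∈
        IsLocalRing.maximalIdeal (X.presheaf.stalk z) :=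
      (IsLocalization.AtPrime.to_map_mem_maximal_iff (X.presheaf.stalk z)
        (hV.primeIdealOf ⟨z, hzV⟩).asIdeal s).mpr hsz
    apply (IsLocalization.AtPrime.to_map_mem_maximal_iff (X.presheaf.stalk x)
      (hV.primeIdealOf ⟨x, hxV⟩).asIdeal s).mp
    by_contra hnot
    have hu : IsUnit (algebraMap Γ(X, V) (X.presheaf.stalk x) s) := by
      by_contra hnu
      exact hnot ((IsLocalRing.mem_maximalIdeal _).mpr hnu)
    have hu' : IsUnit (algebraMap Γ(X, V) (X.presheaf.stalk z) s) := by
      rw [IsScalarTower.algebraMap_apply Γ(X, V) (X.presheaf.stalk x) (X.presheaf.stalk z)]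
      exact hu.map _
    exact (IsLocalRing.mem_maximalIdeal _).mp h1 hu'
  haveI h3 : IsLocalization ((hV.primeIdealOf ⟨z, hzV⟩).asIdeal.primeCompl.map
      (algebraMap Γ(X, V) (X.presheaf.stalk x))) (X.presheaf.stalk z) :=
    IsLocalization.isLocalization_of_submonoid_le (X.presheaf.stalk x) (X.presheaf.stalk z)
      (hV.primeIdealOf ⟨x, hxV⟩).asIdeal.primeCompl
      (hV.primeIdealOf ⟨z, hzV⟩).asIdeal.primeCompl hle
  refine IsLocalization.of_le ((hV.primeIdealOf ⟨z, hzV⟩).asIdeal.primeCompl.map
      (algebraMap Γ(X, V) (X.presheaf.stalk x))) (primeOf h).asIdeal.primeCompl ?_ ?_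
  · rintro _ ⟨s, hs, rfl⟩
    intro hmem
    have h1 : algebraMap (X.presheaf.stalk x) (X.presheaf.stalk z)
        (algebraMap Γ(X, V) (X.presheaf.stalk x) s) ∈
        IsLocalRing.maximalIdeal (X.presheaf.stalk z) := hmem
    rw [← IsScalarTower.algebraMap_apply,
      IsLocalization.AtPrime.to_map_mem_maximal_iff (X.presheaf.stalk z)
        (hV.primeIdealOf ⟨z, hzV⟩).asIdeal s] at h1
    exact hs h1
  · intro r hr
    by_contra hnu
    exact hr ((IsLocalRing.mem_maximalIdeal _).mpr hnu)

/-- dimension of the local ring at a generization -/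
theorem ringKrullDim_stalk_eq_height {x z : X} (h : z ⤳ x) :
    ringKrullDim (X.presheaf.stalk z) = (primeOf h).asIdeal.height := by
  letI : Algebra (X.presheaf.stalk x) (X.presheaf.stalk z) :=
    (X.presheaf.stalkSpecializes h).hom.toAlgebra
  haveI := isLocalization_stalkSpecializes h
  exact IsLocalization.AtPrime.ringKrullDim_eq_height (primeOf h).asIdeal (X.presheaf.stalk z)

end Groth.Agent.H1.StalkGen
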