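import Mathlib

/-! Helper1: flatness descends along faithfully flat maps on the source side. -/
open TensorProduct
universe u

namespace Groth.Agent.H1

/-- If `S → T` is faithfully flat and `R → T` is flat then `R → S` is flat. -/
theorem flat_of_flat_of_faithfullyFlat (R S T : Type*) [CommRing R] [CommRing S] [CommRing T]
    [Algebra R S] [Algebra S T] [Algebra R T] [IsScalarTower R S T]
    [Module.FaithfullyFlat S T] [Module.Flat R T] : Module.Flat R S := by
  rw [Module.Flat.iff_lTensor_preserves_injective_linearMap]
  intro N P _ _ _ _ f hf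
  -- the `S`-linear map
  let g : S ⊗[R] N →ₗ[S] S ⊗[R] P := f.baseChange S
  have hg : (g : S ⊗[R] N → S ⊗[R] P) = f.lTensor S := by
    ext x; rfl
  rw [← hg, ← Module.FaithfullyFlat.lTensor_injective_iff_injective S T]
  have key : ∀ x : T ⊗[S] (S ⊗[R] N),
      AlgebraTensorModule.cancelBaseChange R S T T P (g.lTensor T x) =
        f.lTensor T (AlgebraTensorModule.cancelBaseChange R S T T N x) := by
    intro x
    induction x using TensorProduct.induction_on with
    | zero => simp
    | add x y hx hy => simp only [map_add, hx, hy]
    | tmul t y =>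
      induction y using TensorProduct.induction_on with
      | zero => simp
      | add y z hy hz => simp only [tmul_add, map_add, hy, hz]
      | tmul s n => simp [g]
  have hinj : Function.Injective (f.lTensor T) :=
    Module.Flat.lTensor_preserves_injective_linearMap f hf
  intro x y hxy
  apply (AlgebraTensorModule.cancelBaseChange R S T T N).injective
  apply hinj
  rw [← key, ← key, hxy]



open AlgebraicGeometry CategoryTheory in
theorem flat_of_flat_comp_of_surjective {X' X Y : Scheme.{u}} (f : X' ⟶ X) (g : X ⟶ Y) [Flat f]
    [Surjective f] [Flat (f ≫ g)] : Flat g := by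
  apply Flat.of_stalkMap
  intro x
  obtain ⟨x', rfl⟩ := f.surjective x
  have h1 := Flat.stalkMap f x'
  have h2 := Flat.stalkMap (f ≫ g) x'
  rw [Scheme.Hom.stalkMap_comp] at h2
  let φ : Y.presheaf.stalk (g (f x')) →+* X.presheaf.stalk (f x') := (g.stalkMap (f x')).hom
  let ψ : X.presheaf.stalk (f x') →+* X'.presheaf.stalk x' := (f.stalkMap x').hom
  have h2' : (ψ.comp φ).Flat := h2
  algebraize [φ, ψ, ψ.comp φ]
  have : IsLocalHom (algebraMap (X.presheaf.stalk (f x')) (X'.presheaf.stalk x')) := by
    change IsLocalHom ψ
    infer_instance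
  have : Module.FaithfullyFlat (X.presheaf.stalk (f x')) (X'.presheaf.stalk x') :=
    Module.FaithfullyFlat.of_flat_of_isLocalHom
  exact Groth.Agent.H1.flat_of_flat_of_faithfullyFlat _ (X.presheaf.stalk (f x')) (X'.presheaf.stalk x')

end Groth.Agent.H1
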