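import Mathlib
import Groth.Agent.Lib.Helper1.RegLoc

/-! Helper1: regular local rings are integrally closed. -/

set_option autoImplicit false

universe u

open IsLocalRing

namespace Groth.Agent.H1.Reg

/-- If `x` is a prime element of a domain `R` and `y ∈ Frac R` is integral over `R` with
`xⁿ y ∈ R`, then `y ∈ R`. -/
theorem exists_algebraMap_eq_of_pow_mul {R : Type u} [CommRing R] [IsDomain R] (K : Type u)
    [Field K] [Algebra R K] [IsFractionRing R K] (x : R) (hx : Prime x) :
    ∀ (n : ℕ) (y : K), IsIntegral R y →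
      (∃ a : R, algebraMap R K x ^ n * y = algebraMap R K a) → ∃ b : R, algebraMap R K b = y := by
  intro n
  induction n with
  | zero =>
    rintro y - ⟨a, ha⟩
    exact ⟨a, by simpa using ha.symm⟩
  | succ n ih =>
    rintro y hy ⟨a, ha⟩
    have hy' : IsIntegral R (algebraMap R K x * y) := isIntegral_algebraMap.mul hy
    obtain ⟨b, hb⟩ := ih (algebraMap R K x * y) hy' ⟨a, by rw [← ha, pow_succ]; ring⟩
    obtain ⟨p, hp, hpy⟩ := hy
    have hdvd := Polynomial.dvd_pow_natDegree_of_eval₂_eq_zero (IsFractionRing.injective R K)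
      hp x b y hpy hb.symm
    obtain ⟨c, rfl⟩ := hx.dvd_of_dvd_pow hdvd
    refine ⟨c, ?_⟩
    rw [map_mul] at hb
    have hx0 : algebraMap R K x ≠ 0 := by
      rw [Ne, map_eq_zero_iff _ (IsFractionRing.injective R K)]
      exact hx.ne_zero
    exact mul_left_cancel₀ hx0 hb

theorem isIntegrallyClosed_of_dim : ∀ (d : ℕ) (R : Type u) [CommRing R] [IsRegularLocalRing R],
    ringKrullDim R = (d : WithBot ℕ∞) → IsIntegrallyClosed R := by
  intro d
  induction d using Nat.strong_induction_on with
  | _ d ih =>
  intro R _ _ hd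
  have hdom : IsDomain R := Groth.Agent.H7.Reg.isDomain R
  rcases Nat.eq_zero_or_pos d with rfl | hpos
  · have h0 : (maximalIdeal R).spanFinrank = 0 :=
      Groth.Agent.H7.Reg.spanFinrank_eq_of_dim 0 hd
    have h1 : maximalIdeal R = ⊥ :=
      (Submodule.spanFinrank_eq_zero_iff_eq_bot (maximalIdeal R).fg_of_isNoetherianRing).mp h0
    have isf : IsField R := IsLocalRing.isField_iff_maximalIdeal_eq.mpr h1
    letI := isf.toField
    infer_instance
  · obtain ⟨d, rfl⟩ : ∃ d', d = d' + 1 := ⟨d - 1, by omega⟩
    obtain ⟨x, hxm, hx2, -⟩ := Groth.Agent.H7.Reg.exists_parameter d (by exact_mod_cast hd)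
    obtain ⟨hreg, hdim⟩ := Groth.Agent.H7.Reg.quotient_regular x hxm hx2 d
      (by exact_mod_cast hd)
    have hx0 : x ≠ 0 := by
      intro h
      apply hx2
      rw [h]
      exact Ideal.zero_mem _
    have hdomq : IsDomain (R ⧸ Ideal.span ({x} : Set R)) := Groth.Agent.H7.Reg.isDomain _
    have hprime : Prime x :=
      (Ideal.span_singleton_prime hx0).mp ((Ideal.Quotient.isDomain_iff_prime _).mp hdomq)
    rw [isIntegrallyClosed_iff (FractionRing R)]
    intro y hy
    let D : Ideal R := Submodule.comap (LinearMap.toSpanSingleton R (FractionRing R) y)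
      (LinearMap.range (Algebra.linearMap R (FractionRing R)))
    have hD : ∀ r : R, r ∈ D ↔ ∃ a : R, algebraMap R (FractionRing R) r * y =
        algebraMap R (FractionRing R) a := by
      intro r
      change r • y ∈ LinearMap.range (Algebra.linearMap R (FractionRing R)) ↔ _
      rw [LinearMap.mem_range, Algebra.smul_def]
      exact ⟨fun ⟨a, ha⟩ => ⟨a, ha.symm⟩, fun ⟨a, ha⟩ => ⟨a, ha.symm⟩⟩
    have hrad : x ∈ D.radical := by
      rw [Ideal.radical_eq_sInf, Ideal.mem_sInf]
      rintro P ⟨hDP, hP⟩
      by_contra hxP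
      have hPm : P < maximalIdeal R :=
        lt_of_le_of_ne (le_maximalIdeal hP.ne_top) (fun h => hxP (h ▸ hxm))
      have hS : P.primeCompl ≤ nonZeroDivisors R :=
        le_nonZeroDivisors_of_noZeroDivisors (fun h0 => h0 (Ideal.zero_mem P))
      let Rp := Localization.subalgebra.ofField (FractionRing R) P.primeCompl hS
      let e : Localization.AtPrime P ≃ₐ[R] Rp :=
        IsLocalization.algEquiv P.primeCompl (Localization.AtPrime P) Rp
      haveI : IsRegularLocalRing (Localization.AtPrime P) := isRegularLocalRing_localization R P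
      haveI : IsRegularLocalRing Rp := IsRegularLocalRing.of_ringEquiv e.toRingEquiv
      have hht : P.height < (maximalIdeal R).height :=
        Ideal.height_strict_mono_of_isPrime_of_isPrime hPm
      have hdimP : ringKrullDim Rp = P.height := by
        rw [← ringKrullDim_eq_of_ringEquiv e.toRingEquiv]
        exact IsLocalization.AtPrime.ringKrullDim_eq_height P _
      have hmh : ((maximalIdeal R).height : WithBot ℕ∞) = ((d + 1 : ℕ) : WithBot ℕ∞) := by
        rw [IsLocalRing.maximalIdeal_height_eq_ringKrullDim, hd]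
      have hmh' : (maximalIdeal R).height = ((d + 1 : ℕ) : ℕ∞) := by exact_mod_cast hmh
      rw [hmh'] at hht
      obtain ⟨e', he'⟩ := ENat.ne_top_iff_exists.mp (ne_top_of_lt hht)
      rw [← he'] at hht hdimP
      have he'lt : e' < d + 1 := by exact_mod_cast hht
      have hic : IsIntegrallyClosed Rp := ih e' he'lt Rp hdimP
      have hyint : IsIntegral Rp y := hy.tower_top
      obtain ⟨z, hz⟩ := (isIntegrallyClosed_iff (FractionRing R)).mp hic hyint
      obtain ⟨a, s, hs, hzas⟩ : ∃ (a s : R) (_ : s ∈ P.primeCompl), (z : FractionRing R) =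
          algebraMap R (FractionRing R) a * (algebraMap R (FractionRing R) s)⁻¹ := z.2
      have hsD : s ∈ D := by
        rw [hD]
        refine ⟨a, ?_⟩
        have hs0 : algebraMap R (FractionRing R) s ≠ 0 := by
          rw [Ne, map_eq_zero_iff _ (IsFractionRing.injective R (FractionRing R))]
          rintro rfl
          exact hs (Ideal.zero_mem P)
        have : y = (z : FractionRing R) := hz.symm
        rw [this, hzas]
        field_simp
      exact hs (hDP hsD)
    obtain ⟨n, hn⟩ := hrad
    rw [hD, map_pow] at hn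
    exact exists_algebraMap_eq_of_pow_mul (FractionRing R) x hprime n y hy hn

/-- **S9829**: a regular local ring is integrally closed. -/
theorem isIntegrallyClosed (R : Type u) [CommRing R] [IsRegularLocalRing R] :
    IsIntegrallyClosed R := by
  have h := IsRegularLocalRing.spanFinrank_maximalIdeal (R := R)
  exact isIntegrallyClosed_of_dim _ R h.symm

end Groth.Agent.H1.Reg
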