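import Mathlib
import Groth.Agent.Lib.Helper1.RegLoc
import Groth.Agent.Lib.Helper1.FlatDim
import Groth.Agent.Lib.Helper1.Regular

/-! Helper1: ascent/descent of regularity along flat local homomorphisms. -/

set_option autoImplicit false

universe u

open IsLocalRing

namespace Groth.Agent.H1.RegFlat

/-- Noetherianity descends along faithfully flat ring maps. -/
theorem isNoetherianRing_of_faithfullyFlat (R S : Type*) [CommRing R] [CommRing S] [Algebra R S]
    [Module.FaithfullyFlat R S] [IsNoetherianRing S] : IsNoetherianRing R := by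
  rw [isNoetherianRing_iff, isNoetherian_iff']
  have hS : WellFoundedGT (Ideal S) := (isNoetherian_iff' (R := S) (M := S)).mp inferInstance
  have hmono : StrictMono (Ideal.map (algebraMap R S)) := by
    intro I J hIJ
    refine lt_of_le_of_ne (Ideal.map_mono hIJ.le) ?_
    intro h
    exact hIJ.ne (Ideal.map_injective_of_faithfullyFlat (B := S) h)
  exact ⟨hmono.wellFoundedGT.wf⟩

/-- Essentially of finite type algebras over Noetherian rings are Noetherian. -/
theorem isNoetherianRing_of_essFiniteType (R S : Type*) [CommRing R] [CommRing S] [Algebra R S]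
    [IsNoetherianRing R] [Algebra.EssFiniteType R S] : IsNoetherianRing S := by
  haveI : IsNoetherianRing (Algebra.EssFiniteType.subalgebra R S) :=
    Algebra.FiniteType.isNoetherianRing R _
  exact IsLocalization.isNoetherianRing (Algebra.EssFiniteType.submonoid R S) S inferInstance

/-- Flat ascent with trivial closed fibre (local form). -/
theorem isRegularLocalRing_of_flat_of_map_eq (A B : Type u) [CommRing A] [CommRing B]
    [IsRegularLocalRing A] [IsLocalRing B] [IsNoetherianRing B] [Algebra A B]
    [IsLocalHom (algebraMap A B)] [Module.Flat A B]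
    (h : (maximalIdeal A).map (algebraMap A B) = maximalIdeal B) : IsRegularLocalRing B := by
  apply IsRegularLocalRing.of_spanFinrank_maximalIdeal_le
  have h1 : (maximalIdeal B).spanFinrank ≤ (maximalIdeal A).spanFinrank := by
    rw [← h]
    exact Ideal.spanFinrank_map_le_of_fg _ (IsNoetherian.noetherian _)
  have h2 := IsRegularLocalRing.spanFinrank_maximalIdeal (R := A)
  have h3 := Groth.Agent.H1.FlatDim.ringKrullDim_le_of_flat_isLocalHom A B
  refine le_trans ?_ h3
  rw [← h2]
  exact_mod_cast h1

end Groth.Agent.H1.RegFlat

namespace Groth.Agent.H1.RegFlat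

/-- Number of generators: `μ(J) ≤ μ(I) + μ(J/I)`. -/
theorem spanFinrank_le_add {B : Type*} [CommRing B] [IsNoetherianRing B] (I J : Ideal B)
    (hIJ : I ≤ J) :
    J.spanFinrank ≤ I.spanFinrank + (J.map (Ideal.Quotient.mk I)).spanFinrank := by
  classical
  obtain ⟨s, hs₁, hs₂⟩ := Submodule.FG.exists_span_finset_card_eq_spanFinrank
    I.fg_of_isNoetherianRing
  obtain ⟨t', ht₁, ht₂⟩ := Submodule.FG.exists_span_finset_card_eq_spanFinrank
    (J.map (Ideal.Quotient.mk I)).fg_of_isNoetherianRing
  have hsurj : Function.Surjective (Ideal.Quotient.mk I) := Ideal.Quotient.mk_surjective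
  let t : Finset B := t'.image (Function.surjInv hsurj)
  have hmk : (Ideal.Quotient.mk I) '' (t : Set B) = (t' : Set (B ⧸ I)) := by
    rw [Finset.coe_image, ← Set.image_comp]
    have : (Ideal.Quotient.mk I) ∘ Function.surjInv hsurj = id := by
      funext y; exact Function.surjInv_eq hsurj y
    rw [this, Set.image_id]
  have hmap : (Ideal.span (t : Set B)).map (Ideal.Quotient.mk I) = J.map (Ideal.Quotient.mk I) := by
    rw [Ideal.map_span, hmk]
    exact ht₂
  have hJ : Ideal.span ((s : Set B) ∪ (t : Set B)) = J := by
    rw [Ideal.span_union]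
    have h1 := congrArg (Ideal.comap (Ideal.Quotient.mk I)) hmap
    rw [Ideal.comap_map_of_surjective _ hsurj, Ideal.comap_map_of_surjective _ hsurj,
      ← RingHom.ker_eq_comap_bot, Ideal.mk_ker] at h1
    have hs' : Ideal.span (s : Set B) = I := hs₂
    rw [hs', sup_comm, h1, sup_eq_left]
    exact hIJ
  calc J.spanFinrank = (Ideal.span ((s : Set B) ∪ (t : Set B))).spanFinrank := by rw [hJ]
    _ ≤ ((s : Set B) ∪ (t : Set B)).ncard :=
        Submodule.spanFinrank_span_le_ncard_of_finite (s.finite_toSet.union t.finite_toSet)
    _ ≤ (s : Set B).ncard + (t : Set B).ncard := Set.ncard_union_le _ _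
    _ ≤ I.spanFinrank + (J.map (Ideal.Quotient.mk I)).spanFinrank := by
        rw [Set.ncard_coe_finset, Set.ncard_coe_finset, hs₁]
        have : t.card ≤ t'.card := Finset.card_image_le
        omega

end Groth.Agent.H1.RegFlat

namespace Groth.Agent.H1.RegFlat

open Groth.Agent.H1.FlatDim in
/-- Flat ascent of regularity with regular closed fibre. -/
theorem isRegularLocalRing_of_flat_of_fiber (A B : Type u) [CommRing A] [CommRing B]
    [IsRegularLocalRing A] [IsLocalRing B] [IsNoetherianRing B] [Algebra A B]
    [IsLocalHom (algebraMap A B)] [Module.Flat A B]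
    [hF : IsRegularLocalRing (B ⧸ (maximalIdeal A).map (algebraMap A B))] :
    IsRegularLocalRing B := by
  apply IsRegularLocalRing.of_spanFinrank_maximalIdeal_le
  have h1 := spanFinrank_le_add ((maximalIdeal A).map (algebraMap A B)) (maximalIdeal B)
    (map_maximalIdeal_le A B)
  rw [← maximalIdeal_fiber A B] at h1
  have h2 : ((maximalIdeal A).map (algebraMap A B)).spanFinrank ≤ (maximalIdeal A).spanFinrank :=
    Ideal.spanFinrank_map_le_of_fg _ (IsNoetherian.noetherian _)
  have h3 := IsRegularLocalRing.spanFinrank_maximalIdeal (R := A)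
  have h4 := IsRegularLocalRing.spanFinrank_maximalIdeal
    (R := B ⧸ (maximalIdeal A).map (algebraMap A B))
  rw [ringKrullDim_eq_add_fiber_of_flat A B, ← h3, ← h4]
  have : (maximalIdeal B).spanFinrank ≤ (maximalIdeal A).spanFinrank +
      (maximalIdeal (B ⧸ (maximalIdeal A).map (algebraMap A B))).spanFinrank := by omega
  exact_mod_cast this

end Groth.Agent.H1.RegFlat

namespace Groth.Agent.H1.RegFlat

theorem isRegularLocalRing_congr {S : Type u} [CommRing S] (I J : Ideal S) [I.IsPrime] [J.IsPrime]
    (h : I = J) [IsRegularLocalRing (Localization.AtPrime I)] :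
    IsRegularLocalRing (Localization.AtPrime J) := by
  subst h; infer_instance

open Algebra.TensorProduct in
theorem isRegularLocalRing_of_fiber (R S : Type u) [CommRing R] [CommRing S] [Algebra R S]
    [IsRegularRing R] [IsNoetherianRing S] [Module.Flat R S] (p : Ideal R) [p.IsPrime]
    [IsRegularRing (p.Fiber S)] (q : Ideal (p.Fiber S)) [q.IsPrime] :
    IsRegularLocalRing (Localization.AtPrime (q.comap (includeRight (R := R) (A := p.ResidueField) (B := S)))) := by
  set r : Ideal S := q.comap (includeRight (R := R) (A := p.ResidueField) (B := S)) with hr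
  letI := Localization.AtPrime.algebraOfLiesOver p r
  haveI : IsLocalHom (algebraMap (Localization.AtPrime p) (Localization.AtPrime r)) := by
    rw [RingHom.algebraMap_toAlgebra]
    exact Localization.isLocalHom_localRingHom p r (algebraMap R S) Ideal.LiesOver.over
  have e := Ideal.Fiber.localizationAlgEquivQuotient p q
  have hmap : p.map (algebraMap R (Localization.AtPrime r)) =
      (IsLocalRing.maximalIdeal (Localization.AtPrime p)).map
        (algebraMap (Localization.AtPrime p) (Localization.AtPrime r)) := by
    rw [← Localization.AtPrime.map_eq_maximalIdeal, Ideal.map_map, ← IsScalarTower.algebraMap_eq]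
  have e' : Localization.AtPrime q ≃+* (Localization.AtPrime r ⧸
      (IsLocalRing.maximalIdeal (Localization.AtPrime p)).map
        (algebraMap (Localization.AtPrime p) (Localization.AtPrime r))) :=
    e.toRingEquiv.trans (Ideal.quotEquivOfEq hmap)
  haveI : IsRegularLocalRing (Localization.AtPrime r ⧸
      (IsLocalRing.maximalIdeal (Localization.AtPrime p)).map
        (algebraMap (Localization.AtPrime p) (Localization.AtPrime r))) :=
    IsRegularLocalRing.of_ringEquiv (R := Localization.AtPrime q) e'
  exact Groth.Agent.H1.RegFlat.isRegularLocalRing_of_flat_of_fiber (Localization.AtPrime p)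
    (Localization.AtPrime r)

end Groth.Agent.H1.RegFlat
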