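import Mathlib
import Groth.Prelude.Def_Curv2
import Groth.Agent.Lib.Helper1.BCStalk
import Groth.Agent.Lib.Helper8.ReducedHomComp
import Groth.Agent.Lib.Helper5.CA.PerfGR
import Groth.Agent.Lib.Helper1.StalkGen
import Groth.Agent.Lib.Helper1.GeomRed
import Groth.Agent.Lib.Helper8.HensGN.HensGN2

/-! Helper1: applications of the base-change stalk dictionary: geometric reducedness at a point. -/

set_option autoImplicit false
universe u
open CategoryTheory CategoryTheory.Limits AlgebraicGeometry IsLocalRing TensorProduct

namespace Groth.Agent.H1.BCStalk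

attribute [local instance] Curv2.resAlgebra Curv2.stalkAlgebra

section Dict

variable (k : Type u) [Field k] (X : Scheme.{u}) [X.Over (Spec (CommRingCat.of k))]
  (K : Type u) [Field K] [Algebra k K] (x : X)

/-- Dictionary for iso-invariant properties of local rings of `X_K` over `x`. -/
theorem forall_point_iff (P : ∀ (R : Type u) [CommRing R], Prop)
    (hP : ∀ (R S : Type u) [CommRing R] [CommRing S], (R ≃+* S) → P R → P S) :
    (∀ x' : ↥(Curv2.bc k X K), (Curv2.bcFst k X K) x' = x →
        P ((Curv2.bc k X K).presheaf.stalk x')) ↔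
      ∀ q : PrimeSpectrum (X.presheaf.stalk x ⊗[k] K),
        q.asIdeal.comap (Algebra.TensorProduct.includeLeftRingHom
          (R := k) (A := X.presheaf.stalk x) (B := K)) = maximalIdeal (X.presheaf.stalk x) →
        P (Localization.AtPrime q.asIdeal) := by
  constructor
  · intro h q hq
    obtain ⟨x', hx', ⟨e⟩⟩ := exists_point_of_prime k X K x q hq
    exact hP _ _ e (h x' hx')
  · intro h x' hx'
    obtain ⟨q, hq, ⟨e⟩⟩ := exists_prime_of_point k X K x x' hx'
    exact hP _ _ e.symm (h q hq)

end Dict

/-- pure algebra: reducedness of `A ⊗ K` for `K/k` algebraic can be checked at primes over the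
maximal ideal. -/
theorem isReduced_tensor_of_forall_prime (k A K : Type u) [Field k] [CommRing A] [IsLocalRing A]
    [Algebra k A] [Field K] [Algebra k K] [Algebra.IsAlgebraic k K]
    (h : ∀ q : PrimeSpectrum (A ⊗[k] K),
        q.asIdeal.comap (Algebra.TensorProduct.includeLeftRingHom
          (R := k) (A := A) (B := K)) = maximalIdeal A →
        IsReduced (Localization.AtPrime q.asIdeal)) : IsReduced (A ⊗[k] K) := by
  apply isReduced_ofLocalizationMaximal
  intro J hJ
  haveI : Algebra.IsIntegral k K := Algebra.IsAlgebraic.isIntegral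
  have hmax : (J.comap (algebraMap A (A ⊗[k] K))).IsMaximal :=
    Ideal.isMaximal_comap_of_isIntegral_of_isMaximal J
  exact h ⟨J, hJ.isPrime⟩ (IsLocalRing.eq_maximalIdeal hmax)

theorem s1541 (k : Type u) [Field k] (X : Scheme.{u}) [X.Over (Spec (CommRingCat.of k))] (x : X) :
    Curv2.IsGeomReducedAt k X x ↔ Algebra.IsGeometricallyReduced k (X.presheaf.stalk x) := by
  have hP : ∀ (R S : Type u) [CommRing R] [CommRing S], (R ≃+* S) → IsReduced R → IsReduced S :=
    fun R S _ _ e h => isReduced_of_injective e.symm.toRingHom e.symm.injective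
  constructor
  · intro h
    rw [Algebra.isGeometricallyReduced_field_iff]
    have h1 := (forall_point_iff k X (AlgebraicClosure k) x (fun R _ => IsReduced R) hP).mp
      (h (AlgebraicClosure k))
    haveI := isReduced_tensor_of_forall_prime k (X.presheaf.stalk x) (AlgebraicClosure k) h1
    let e := Algebra.TensorProduct.comm k (AlgebraicClosure k) (X.presheaf.stalk x)
    exact isReduced_of_injective e.toRingEquiv.toRingHom e.injective
  · intro h K _ _
    refine (forall_point_iff k X K x (fun R _ => IsReduced R) hP).mpr ?_
    intro q _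
    haveI := Groth.Agent.H8.RHC.isReduced_tensor_of_isGeometricallyReduced k
      (X.presheaf.stalk x) K
    haveI : IsReduced (X.presheaf.stalk x ⊗[k] K) := by
      let e := Algebra.TensorProduct.comm k (X.presheaf.stalk x) K
      exact isReduced_of_injective e.toRingEquiv.toRingHom e.injective
    exact isReduced_localizationPreserves q.asIdeal.primeCompl _ inferInstance

theorem s1560 (k : Type u) [Field k] (X : Scheme.{u}) [X.Over (Spec (CommRingCat.of k))]
    [PerfectField k] (x : X) [IsReduced (X.presheaf.stalk x)] : Curv2.IsGeomReducedAt k X x := by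
  rw [s1541]
  exact Groth.Agent.H5.isGeometricallyReduced_of_perfectField k _


/-- the `k`-structure on local rings is compatible with generization maps. -/
theorem stalkSpecializes_comp_stalkMap (k : Type u) [Field k] (X : Scheme.{u})
    [X.Over (Spec (CommRingCat.of k))] {x x' : X} (h : x' ⤳ x) :
    (X.presheaf.stalkSpecializes h).hom.comp (Curv2.stalkMap k X x) = Curv2.stalkMap k X x' := by
  unfold Curv2.stalkMap
  rw [← RingHom.comp_assoc]
  congr 1
  rw [← CommRingCat.hom_comp, X.presheaf.germ_stalkSpecializes]

theorem s1542 (k : Type u) [Field k] (X : Scheme.{u}) [X.Over (Spec (CommRingCat.of k))]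
    (x x' : X) (h : x' ⤳ x)
    (hx : Curv2.IsGeomReducedAt k X x) : Curv2.IsGeomReducedAt k X x' := by
  rw [s1541] at hx ⊢
  letI : Algebra (X.presheaf.stalk x) (X.presheaf.stalk x') :=
    (X.presheaf.stalkSpecializes h).hom.toAlgebra
  haveI : IsScalarTower k (X.presheaf.stalk x) (X.presheaf.stalk x') :=
    IsScalarTower.of_algebraMap_eq' (stalkSpecializes_comp_stalkMap k X h).symm
  haveI := Groth.Agent.H1.StalkGen.isLocalization_stalkSpecializes h
  rw [Algebra.isGeometricallyReduced_field_iff] at hx ⊢
  exact Groth.Agent.H8.Jap.HensGN.isReduced_tensor_localization k (AlgebraicClosure k)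
    (X.presheaf.stalk x) (X.presheaf.stalk x')
    (Groth.Agent.H1.StalkGen.primeOf h).asIdeal.primeCompl

theorem s1610 (k : Type u) [Field k] (p : ℕ) [Fact p.Prime] [CharP k p]
    (X : Scheme.{u}) [X.Over (Spec (CommRingCat.of k))] (x : X) :
    Curv2.IsGeomReducedAt k X x ↔
      ∀ (k' : Type u) [Field k'] [Algebra k k'] [FiniteDimensional k k']
        [IsPurelyInseparable k k']
        (x' : Curv2.bc k X k'), Curv2.bcFst k X k' x' = x →
          IsReduced ((Curv2.bc k X k').presheaf.stalk x') := by
  have hP : ∀ (R S : Type u) [CommRing R] [CommRing S], (R ≃+* S) → IsReduced R → IsReduced S :=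
    fun R S _ _ e h => isReduced_of_injective e.symm.toRingHom e.symm.injective
  constructor
  · intro h k' _ _ _ _ x' hx'
    exact h k' x' hx'
  · intro h
    rw [s1541, Algebra.isGeometricallyReduced_field_iff]
    apply Groth.Agent.H1.GeomRed.red_algClosure_of_finite_insep
    intro k' _ _ _ _
    have h1 := (forall_point_iff k X k' x (fun R _ => IsReduced R) hP).mp (h k')
    haveI : Algebra.IsAlgebraic k k' := Algebra.IsAlgebraic.of_finite k k'
    haveI := isReduced_tensor_of_forall_prime k (X.presheaf.stalk x) k' h1
    let e := Algebra.TensorProduct.comm k k' (X.presheaf.stalk x)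
    exact isReduced_of_injective e.toRingEquiv.toRingHom e.injective

end Groth.Agent.H1.BCStalk
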