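import Mathlib
import Groth.Prelude.Def_Curv2
import Groth.Agent.Lib.Helper1.BCStalkApp

/-! Helper1: geometric reducedness of a scheme over a field in terms of generic points. -/

set_option autoImplicit false
set_option linter.style.haveILetI false
universe u
open CategoryTheory CategoryTheory.Limits AlgebraicGeometry IsLocalRing TensorProduct

namespace Groth.Agent.H1.BCStalk

/-- a reduced algebra is geometrically reduced as soon as, for every minimal prime, it maps to a
geometrically reduced algebra with kernel inside the prime. -/
theorem isGeometricallyReduced_of_minimalPrimes (k A : Type u) [Field k] [CommRing A]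
    [Algebra k A] [IsReduced A]
    (h : ∀ p ∈ minimalPrimes A, ∃ (B : Type u) (_ : CommRing B) (_ : Algebra k B)
      (f : A →ₐ[k] B), Algebra.IsGeometricallyReduced k B ∧ RingHom.ker f ≤ p) :
    Algebra.IsGeometricallyReduced k A := by
  classical
  rw [Algebra.isGeometricallyReduced_field_iff]
  set K := AlgebraicClosure k
  let ℬ := Module.Free.chooseBasis k K
  constructor
  intro z hz
  apply (TensorProduct.equivFinsuppOfBasisLeft (N := A) ℬ).injective
  rw [map_zero]
  ext i
  rw [Finsupp.zero_apply]
  set a := (TensorProduct.equivFinsuppOfBasisLeft (N := A) ℬ) z i with ha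
  have hmem : a ∈ nilradical A := by
    rw [nilradical, ← Ideal.sInf_minimalPrimes, Ideal.mem_sInf]
    intro p hp
    obtain ⟨B, _, _, f, hB, hker⟩ := h p hp
    apply hker
    rw [RingHom.mem_ker]
    have hz' : IsNilpotent (Algebra.TensorProduct.map (AlgHom.id k K) f z) := hz.map _
    have h0 : Algebra.TensorProduct.map (AlgHom.id k K) f z = 0 := hz'.eq_zero
    have h1 : (TensorProduct.equivFinsuppOfBasisLeft (N := B) ℬ)
        (Algebra.TensorProduct.map (AlgHom.id k K) f z) i = f a := by
      rw [ha, TensorProduct.equivFinsuppOfBasisLeft_apply,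
        TensorProduct.equivFinsuppOfBasisLeft_apply]
      clear hz hz' h0 ha
      induction z with
      | zero => simp
      | tmul c b => simp
      | add x y hx hy => simp only [map_add, hx, hy]
    rw [h0, map_zero, Finsupp.zero_apply] at h1
    exact h1.symm
  have : nilradical A = ⊥ := nilradical_eq_bot_iff.mpr inferInstance
  rw [this] at hmem
  exact hmem

attribute [local instance] Curv2.resAlgebra Curv2.stalkAlgebra

section

variable (k : Type u) [Field k] (X : Scheme.{u}) [X.Over (Spec (CommRingCat.of k))]

/-- geometric reducedness of `X/k` is pointwise geometric reducedness. -/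
theorem geometricallyReduced_iff_forall :
    GeometricallyReduced (X ↘ (Spec (CommRingCat.of k))) ↔
      ∀ x : X, Curv2.IsGeomReducedAt k X x := by
  rw [GeometricallyReduced.eq_geometrically,
    geometrically_iff_of_commRing_of_isClosedUnderIsomorphisms]
  constructor
  · intro h x K _ _ x' _
    haveI : IsReduced (Curv2.bc k X K) := h K
    infer_instance
  · intro h K _ _
    haveI : ∀ x' : ↥(Curv2.bc k X K), _root_.IsReduced ((Curv2.bc k X K).presheaf.stalk x') :=
      fun x' => h _ K x' rfl
    exact isReduced_of_isReduced_stalk (Curv2.bc k X K)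

/-- the point corresponding to a minimal prime of a local ring is the generic point of an
irreducible component. -/
theorem closure_mem_irreducibleComponents (x : X) (p : Ideal (X.presheaf.stalk x))
    (hp : p ∈ minimalPrimes (X.presheaf.stalk x)) :
    closure {X.fromSpecStalk x ⟨p, hp.1.1⟩} ∈ irreducibleComponents (X : Type u) := by
  set η := X.fromSpecStalk x ⟨p, hp.1.1⟩ with hη
  refine ⟨isIrreducible_singleton.closure, ?_⟩
  intro Z hZ hle
  -- the generic point of `closure Z`
  have hZc : IsIrreducible (closure Z) := hZ.closure
  obtain ⟨ζ, hζ⟩ := QuasiSober.sober hZc isClosed_closure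
  have hηζ : ζ ⤳ η := by
    rw [specializes_iff_mem_closure, hζ.def]
    exact subset_closure (hle (subset_closure (Set.mem_singleton η)))
  have hηx : η ⤳ x := Groth.Agent.H1.StalkGen.fromSpecStalk_specializes x _
  have hζx : ζ ⤳ x := hηζ.trans hηx
  set p' := Groth.Agent.H1.StalkGen.primeOf hζx with hp'
  have hζ' : X.fromSpecStalk x p' = ζ := Groth.Agent.H1.StalkGen.fromSpecStalk_primeOf hζx
  have hle' : p' ≤ (⟨p, hp.1.1⟩ : PrimeSpectrum (X.presheaf.stalk x)) := by
    rw [PrimeSpectrum.le_iff_specializes]
    rw [← hζ', hη] at hηζ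
    exact ((Scheme.Hom.isEmbedding (X.fromSpecStalk x)).isInducing.specializes_iff).mp hηζ
  have heq : p'.asIdeal = p := le_antisymm hle' (hp.2 ⟨p'.2, bot_le⟩ hle')
  have hζη : ζ = η := by
    rw [← hζ', hη]
    congr 1
    exact PrimeSpectrum.ext heq
  calc Z ⊆ closure Z := subset_closure
    _ = closure {ζ} := hζ.def.symm
    _ = closure {η} := by rw [hζη]

theorem s1543 [IsReduced X]
    (h : ∀ Z ∈ irreducibleComponents (X : Type u), ∀ η : X, IsGenericPoint η Z →
      Curv2.IsGeomReducedAt k X η) :
    GeometricallyReduced (X ↘ (Spec (CommRingCat.of k))) := by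
  rw [geometricallyReduced_iff_forall]
  intro x
  rw [s1541]
  apply isGeometricallyReduced_of_minimalPrimes
  intro p hp
  set η := X.fromSpecStalk x ⟨p, hp.1.1⟩ with hη
  have hηx : η ⤳ x := Groth.Agent.H1.StalkGen.fromSpecStalk_specializes x _
  have hgr : Curv2.IsGeomReducedAt k X η :=
    h _ (closure_mem_irreducibleComponents X x p hp) η isGenericPoint_closure
  rw [s1541] at hgr
  refine ⟨X.presheaf.stalk η, inferInstance, inferInstance,
    { toRingHom := (X.presheaf.stalkSpecializes hηx).hom
      commutes' := fun c => congr($(stalkSpecializes_comp_stalkMap k X hηx) c) }, hgr, ?_⟩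
  intro a ha
  have h1 : Groth.Agent.H1.StalkGen.primeOf hηx = ⟨p, hp.1.1⟩ :=
    Groth.Agent.H1.StalkGen.primeOf_fromSpecStalk x _
  have h2 : a ∈ (Groth.Agent.H1.StalkGen.primeOf hηx).asIdeal := by
    show (X.presheaf.stalkSpecializes hηx).hom a ∈ IsLocalRing.maximalIdeal _
    have : (X.presheaf.stalkSpecializes hηx).hom a = 0 := ha
    rw [this]
    exact zero_mem _
  rw [h1] at h2
  exact h2

theorem s1544 [IsIntegral X] :
    GeometricallyReduced (X ↘ (Spec (CommRingCat.of k))) ↔
      Algebra.IsGeometricallyReduced k X.functionField := by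
  constructor
  · intro h
    exact (s1541 k X (genericPoint X)).mp
      ((geometricallyReduced_iff_forall k X).mp h (genericPoint X))
  · intro h
    apply s1543
    intro Z hZ η hη
    have hZ' : Z = Set.univ := by
      rw [irreducibleComponents_eq_singleton] at hZ
      exact hZ
    have : η = genericPoint X := by
      rw [hZ'] at hη
      exact (genericPoint_spec X).eq hη |>.symm
    rw [this]
    exact (s1541 k X (genericPoint X)).mpr h

end

end Groth.Agent.H1.BCStalk
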