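import Mathlib
import Groth.Prelude.Def_CAlg
import Groth.Agent.Lib.Helper3.DepthAux
import Groth.Agent.Lib.Helper6.DepthKit
import Groth.Agent.Lib.Helper1.RegCR
import Groth.Agent.Lib.Helper1.RegConv
import Groth.Agent.Lib.Helper1.RegSeq

/-! Helper1: the Auslander–Buchsbaum formula `depth R = pd M + depth M`. -/

set_option autoImplicit false

universe u

open CategoryTheory IsLocalRing RingTheory.Sequence Pointwise

namespace Groth.Agent.H1.AB

section Basic

/-- Depth is invariant under linear equivalences. -/
theorem idealDepth_eq_of_linearEquiv {R : Type u} [CommRing R] (I : Ideal R) {M N : Type u}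
    [AddCommGroup M] [Module R M] [AddCommGroup N] [Module R N] (e : M ≃ₗ[R] N) :
    LocCoh.idealDepth I M = LocCoh.idealDepth I N := by
  classical
  have h1 : I • (⊤ : Submodule R M) = ⊤ ↔ I • (⊤ : Submodule R N) = ⊤ := by
    have hm : Submodule.map e.toLinearMap (I • (⊤ : Submodule R M)) = I • (⊤ : Submodule R N) := by
      rw [Submodule.map_smul'', Submodule.map_top, LinearEquiv.range]
    constructor
    · intro h
      rw [← hm, h, Submodule.map_top, LinearEquiv.range]
    · intro h
      have h2 : Submodule.map e.toLinearMap (I • (⊤ : Submodule R M)) =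
          Submodule.map e.toLinearMap ⊤ := by
        rw [hm, h, Submodule.map_top, LinearEquiv.range]
      exact Submodule.map_injective_of_injective e.injective h2
  unfold LocCoh.idealDepth
  by_cases h : I • (⊤ : Submodule R M) = ⊤
  · rw [if_pos h, if_pos (h1.mp h)]
  · rw [if_neg h, if_neg (fun h' => h (h1.mpr h'))]
    refine iSup_congr fun rs => iSup_congr_Prop ?_ (fun _ => rfl)
    rw [e.isWeaklyRegular_congr rs]

variable {R : Type u} [CommRing R] [IsLocalRing R]

theorem depth_eq_of_linearEquiv {M N : Type u}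
    [AddCommGroup M] [Module R M] [AddCommGroup N] [Module R N] (e : M ≃ₗ[R] N) :
    LocCoh.depth R M = LocCoh.depth R N :=
  idealDepth_eq_of_linearEquiv _ e

/-- Depth does not depend on the base ring along a surjection of local rings. -/
theorem depth_eq_of_surjective {R' : Type u} [CommRing R'] [IsLocalRing R'] [Algebra R R']
    (hf : Function.Surjective (algebraMap R R')) (N : Type u) [AddCommGroup N] [Module R N]
    [Module R' N] [IsScalarTower R R' N] [Module.Finite R N] :
    LocCoh.depth R N = LocCoh.depth R' N := by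
  classical
  haveI : Module.Finite R' N := Module.Finite.of_restrictScalars_finite R R' N
  haveI : IsLocalHom (algebraMap R R') := IsLocalHom.of_surjective _ hf
  unfold LocCoh.depth LocCoh.idealDepth
  by_cases hN : Nontrivial N
  · rw [if_neg (Groth.Agent.H3.DepthAux.smul_top_ne_top_of_nontrivial N),
      if_neg (Groth.Agent.H3.DepthAux.smul_top_ne_top_of_nontrivial N)]
    apply le_antisymm
    · apply iSup₂_le
      rintro rs ⟨hreg, hmem⟩
      refine le_iSup₂_of_le (rs.map (algebraMap R R')) ⟨?_, ?_⟩ (by simp)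
      · exact (isWeaklyRegular_map_algebraMap_iff (S := R') (M := N) rs).mpr hreg
      · intro r hr
        obtain ⟨a, ha, rfl⟩ := List.mem_map.mp hr
        exact map_nonunit (algebraMap R R') a (hmem a ha)
    · apply iSup₂_le
      rintro rs ⟨hreg, hmem⟩
      have hcomp : (rs.map (Function.surjInv hf)).map (algebraMap R R') = rs := by
        rw [List.map_map]
        conv_rhs => rw [← List.map_id rs]
        apply List.map_congr_left
        intro a _
        exact Function.surjInv_eq hf a
      refine le_iSup₂_of_le (rs.map (Function.surjInv hf)) ⟨?_, ?_⟩ (by simp)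
      · rw [← isWeaklyRegular_map_algebraMap_iff (S := R') (M := N), hcomp]
        exact hreg
      · intro r hr
        obtain ⟨a, ha, rfl⟩ := List.mem_map.mp hr
        have h1 := hmem a ha
        rw [mem_maximalIdeal, mem_nonunits_iff] at h1 ⊢
        intro hu
        apply h1
        have := hu.map (algebraMap R R')
        rwa [Function.surjInv_eq hf] at this
  · rw [not_nontrivial_iff_subsingleton] at hN
    rw [if_pos (Subsingleton.elim _ _), if_pos (Subsingleton.elim _ _)]

/-- A regular element in `𝔪` shows that the depth is positive. -/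
theorem depth_ne_zero_of_isSMulRegular (M : Type u) [AddCommGroup M] [Module R M] (x : R)
    (hx : x ∈ maximalIdeal R) (hreg : IsSMulRegular M x) : LocCoh.depth R M ≠ 0 := by
  intro h
  exact ((Groth.Agent.H3.DepthAux.idealDepth_eq_zero_iff _ M).mp h).2 x hx hreg

theorem exists_isSMulRegular_of_depth_ne_zero (M : Type u) [AddCommGroup M] [Module R M]
    [Module.Finite R M] [Nontrivial M] (h : LocCoh.depth R M ≠ 0) :
    ∃ x ∈ maximalIdeal R, IsSMulRegular M x := by
  by_contra hcon
  push Not at hcon
  exact h ((Groth.Agent.H3.DepthAux.idealDepth_eq_zero_iff _ M).mpr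
    ⟨Groth.Agent.H3.DepthAux.smul_top_ne_top_of_nontrivial M, hcon⟩)

end Basic

section Main

variable {R : Type u} [CommRing R] [IsLocalRing R] [IsNoetherianRing R]

/-- A common regular element on `R` and `M` when both have positive depth. -/
theorem exists_isSMulRegular_common (M : Type u) [AddCommGroup M] [Module R M]
    [Module.Finite R M] [Nontrivial M] (hR : LocCoh.depth R R ≠ 0) (hM : LocCoh.depth R M ≠ 0) :
    ∃ x ∈ maximalIdeal R, IsSMulRegular R x ∧ IsSMulRegular M x := by
  have h0 : LocCoh.depth R (R × M) ≠ 0 := by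
    intro h
    rw [Groth.Agent.H3.DepthAux.depth_eq_zero_iff_mem_associatedPrimes, associatedPrimes.prod] at h
    rcases h with h | h
    · exact hR ((Groth.Agent.H3.DepthAux.depth_eq_zero_iff_mem_associatedPrimes R R).mpr h)
    · exact hM ((Groth.Agent.H3.DepthAux.depth_eq_zero_iff_mem_associatedPrimes R M).mpr h)
  obtain ⟨x, hxm, hx⟩ := exists_isSMulRegular_of_depth_ne_zero (R × M) h0
  refine ⟨x, hxm, ?_, ?_⟩
  · intro a b hab
    have : x • ((a, 0) : R × M) = x • ((b, 0) : R × M) := by
      simp only [Prod.smul_mk, smul_zero]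
      exact congrArg (fun r => (r, (0 : M))) hab
    exact congrArg Prod.fst (hx this)
  · intro a b hab
    have : x • ((0, a) : R × M) = x • ((0, b) : R × M) := by
      simp only [Prod.smul_mk, smul_zero]
      exact congrArg (fun r => ((0 : R), r)) hab
    exact congrArg Prod.snd (hx this)

/-- Depth zero case: a module of finite projective dimension is free, of depth zero. -/
theorem ab_zero (hR : LocCoh.depth R R = 0) (M : Type u) [AddCommGroup M] [Module R M]
    [Module.Finite R M] [Nontrivial M] (e : ℕ)
    (h1 : HasProjectiveDimensionLT (ModuleCat.of R M) (e + 1))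
    (h2 : ¬ HasProjectiveDimensionLT (ModuleCat.of R M) e) :
    e = 0 ∧ LocCoh.depth R M = 0 := by
  have hR' := (Groth.Agent.H3.DepthAux.idealDepth_eq_zero_iff _ R).mp hR
  have hnzd : ∀ y ∈ maximalIdeal R, y ∉ nonZeroDivisors R := by
    intro y hy hy0
    exact hR'.2 y hy (isRegular_iff_mem_nonZeroDivisors.mpr hy0).left.isSMulRegular
  obtain ⟨a, ha, ham⟩ := Groth.Agent.H1.Reg.exists_annihilator_of_forall_not_mem_nonZeroDivisors hnzd
  haveI hfree : Module.Free R M :=
    Groth.Agent.H1.Reg.free_of_hasProjectiveDimensionLT_of_annihilator a ha ham e M h1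
  constructor
  · by_contra he
    apply h2
    have hP : Projective (ModuleCat.of R M) :=
      (IsProjective.iff_projective (R := R) (P := M)).mp inferInstance
    have := (projective_iff_hasProjectiveDimensionLT_one (X := ModuleCat.of R M)).mp hP
    exact hasProjectiveDimensionLT_of_ge _ 1 e (by omega)
  · refine (Groth.Agent.H3.DepthAux.idealDepth_eq_zero_iff _ M).mpr
      ⟨Groth.Agent.H3.DepthAux.smul_top_ne_top_of_nontrivial M, ?_⟩
    intro x hx hreg
    let b := Module.Free.chooseBasis R M
    have hne : Nonempty (Module.Free.ChooseBasisIndex R M) := by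
      by_contra hempty
      rw [not_nonempty_iff] at hempty
      have : Subsingleton M := b.repr.toEquiv.subsingleton
      exact not_subsingleton M this
    obtain ⟨i⟩ := hne
    have h3 : a • b i = 0 := by
      apply hreg
      change x • (a • b i) = x • (0 : M)
      rw [smul_zero, ← mul_smul, ham x hx, zero_smul]
    have h4 := congrArg (fun v => b.repr v i) h3
    simp only [map_smul, Module.Basis.repr_self, Finsupp.smul_single, smul_eq_mul, mul_one,
      Finsupp.single_eq_same, map_zero, Finsupp.coe_zero, Pi.zero_apply] at h4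
    exact ha h4

theorem enat_cancel {a : ℕ∞} {t : ℕ} (h : a + 1 = ((t + 1 : ℕ) : ℕ∞)) : a = t := by
  have hne : a ≠ ⊤ := by
    rintro rfl
    rw [top_add] at h
    exact ENat.top_ne_coe _ h
  obtain ⟨n, rfl⟩ := ENat.ne_top_iff_exists.mp hne
  have h1 : n + 1 = t + 1 := by exact_mod_cast h
  have h2 : n = t := by omega
  rw [h2]

/-- The statement of the Auslander–Buchsbaum formula for rings of depth `t`. -/
def ABStatement (t : ℕ) : Prop :=
  ∀ (R : Type u) [CommRing R] [IsLocalRing R] [IsNoetherianRing R],
    LocCoh.depth R R = t → ∀ (M : Type u) [AddCommGroup M] [Module R M] [Module.Finite R M]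
      [Nontrivial M] (e : ℕ), HasProjectiveDimensionLT (ModuleCat.of R M) (e + 1) →
      ¬ HasProjectiveDimensionLT (ModuleCat.of R M) e →
      (t : ℕ∞) = e + LocCoh.depth R M

theorem ne_top_of_mem_maximalIdeal (x : R) (hxm : x ∈ maximalIdeal R) :
    Ideal.span ({x} : Set R) ≠ ⊤ := by
  intro h
  have : (1 : R) ∈ Ideal.span ({x} : Set R) := by rw [h]; trivial
  obtain ⟨a, ha⟩ := Ideal.mem_span_singleton'.mp this
  exact (maximalIdeal.isMaximal R).ne_top
    ((Ideal.eq_top_iff_one _).mpr (ha ▸ Ideal.mul_mem_left _ a hxm))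

/-- Inductive step, case of positive depth of `M`: pass to `R/(x)`, `M/xM`. -/
theorem ab_step1 (t : ℕ) (IH : ABStatement.{u} t) (hR : LocCoh.depth R R = ((t + 1 : ℕ) : ℕ∞))
    (M : Type u) [AddCommGroup M] [Module R M] [Module.Finite R M] [Nontrivial M]
    (hM : LocCoh.depth R M ≠ 0) (e : ℕ)
    (h1 : HasProjectiveDimensionLT (ModuleCat.of R M) (e + 1))
    (h2 : ¬ HasProjectiveDimensionLT (ModuleCat.of R M) e) :
    ((t + 1 : ℕ) : ℕ∞) = e + LocCoh.depth R M := by
  have hR0 : LocCoh.depth R R ≠ 0 := by
    rw [hR]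
    exact_mod_cast Nat.succ_ne_zero t
  obtain ⟨x, hxm, hxR, hxM⟩ := exists_isSMulRegular_common M hR0 hM
  have hne := ne_top_of_mem_maximalIdeal x hxm
  haveI : Nontrivial (R ⧸ Ideal.span ({x} : Set R)) := Ideal.Quotient.nontrivial_iff.mpr hne
  haveI : IsLocalRing (R ⧸ Ideal.span ({x} : Set R)) :=
    IsLocalRing.of_surjective' (Ideal.Quotient.mk _) Ideal.Quotient.mk_surjective
  have hsurj : Function.Surjective (algebraMap R (R ⧸ Ideal.span ({x} : Set R))) :=
    Ideal.Quotient.mk_surjective
  -- depth of `R/(x)`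
  have a1 : LocCoh.depth R (QuotSMulTop x R) + 1 = LocCoh.depth R R :=
    Groth.Agent.H6.Depth.idealDepth_quotSMulTop_add_one (maximalIdeal R) R x hxm hxR
  have a2 : LocCoh.depth R (QuotSMulTop x R) = LocCoh.depth R (R ⧸ Ideal.span ({x} : Set R)) :=
    depth_eq_of_linearEquiv ((Groth.Agent.H1.Reg.quotSMulTopSelfEquiv x).restrictScalars R)
  have a3 : LocCoh.depth R (R ⧸ Ideal.span ({x} : Set R)) =
      LocCoh.depth (R ⧸ Ideal.span ({x} : Set R)) (R ⧸ Ideal.span ({x} : Set R)) :=
    depth_eq_of_surjective hsurj _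
  have a4 : LocCoh.depth (R ⧸ Ideal.span ({x} : Set R)) (R ⧸ Ideal.span ({x} : Set R)) = t := by
    apply enat_cancel
    rw [← a3, ← a2, a1, hR]
  -- the module `M/xM`
  haveI : Module.Finite (R ⧸ Ideal.span ({x} : Set R)) (QuotSMulTop x M) :=
    Module.Finite.of_restrictScalars_finite R _ _
  haveI : Nontrivial (QuotSMulTop x M) := nontrivial_quotSMulTop_of_mem_maximalIdeal M hxm
  have h1' := Groth.Agent.H1.Reg.hasProjectiveDimensionLT_quotSMulTop x hxR e M hxM h1
  have h2' : ¬ HasProjectiveDimensionLT
      (ModuleCat.of (R ⧸ Ideal.span ({x} : Set R)) (QuotSMulTop x M)) e := by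
    intro h
    cases e with
    | zero =>
      have hz := (hasProjectiveDimensionLT_zero_iff_isZero
        (X := ModuleCat.of (R ⧸ Ideal.span ({x} : Set R)) (QuotSMulTop x M))).mp h
      have : Subsingleton (QuotSMulTop x M) := ModuleCat.subsingleton_of_isZero hz
      exact not_subsingleton _ this
    | succ e' =>
      exact h2 (Groth.Agent.H1.Reg.hasProjectiveDimensionLT_of_quotSMulTop x hxm hxR e' M hxM h)
  have key := IH (R ⧸ Ideal.span ({x} : Set R)) a4 (QuotSMulTop x M) e h1' h2'
  have b1 : LocCoh.depth R (QuotSMulTop x M) + 1 = LocCoh.depth R M :=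
    Groth.Agent.H6.Depth.idealDepth_quotSMulTop_add_one (maximalIdeal R) M x hxm hxM
  have b2 : LocCoh.depth R (QuotSMulTop x M) =
      LocCoh.depth (R ⧸ Ideal.span ({x} : Set R)) (QuotSMulTop x M) :=
    depth_eq_of_surjective hsurj _
  rw [← b1, b2, ← add_assoc, ← key]
  push_cast
  rfl

theorem two_le_of_ne {d : ℕ∞} (h0 : d ≠ 0) (h1 : d ≠ 1) : 2 ≤ d := by
  induction d using ENat.recTopCoe with
  | top => exact le_top
  | coe n =>
    have h0' : n ≠ 0 := by exact_mod_cast h0
    have h1' : n ≠ 1 := by exact_mod_cast h1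
    have : 2 ≤ n := by omega
    exact_mod_cast this

/-- Inductive step, case of depth zero of `M`: pass to a first syzygy. -/
theorem ab_step2 (t : ℕ) (IH : ABStatement.{u} t) (hR : LocCoh.depth R R = ((t + 1 : ℕ) : ℕ∞))
    (M : Type u) [AddCommGroup M] [Module R M] [Module.Finite R M] [Nontrivial M]
    (hM : LocCoh.depth R M = 0) (e : ℕ)
    (h1 : HasProjectiveDimensionLT (ModuleCat.of R M) (e + 1))
    (h2 : ¬ HasProjectiveDimensionLT (ModuleCat.of R M) e) :
    ((t + 1 : ℕ) : ℕ∞) = e + LocCoh.depth R M := by
  have hR0 : LocCoh.depth R R ≠ 0 := by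
    rw [hR]
    exact_mod_cast Nat.succ_ne_zero t
  obtain ⟨x, hxm, hxR⟩ := exists_isSMulRegular_of_depth_ne_zero R hR0
  obtain ⟨P, _, _, _, _, f, surjf⟩ := Module.exists_finite_presentation R M
  have hxP : IsSMulRegular P x := Groth.Agent.H1.Reg.isSMulRegular_of_free x hxR P
  have hS := LinearMap.shortExact_shortComplexKer surjf
  have hproj : Projective f.shortComplexKer.X₂ :=
    (IsProjective.iff_projective (R := R) (P := P)).mp inferInstance
  -- `M` is not projective
  have hnp : ¬ HasProjectiveDimensionLT (ModuleCat.of R M) 1 := by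
    intro h
    have hP : Projective (ModuleCat.of R M) :=
      (projective_iff_hasProjectiveDimensionLT_one (X := ModuleCat.of R M)).mpr h
    haveI : Module.Projective R M := (IsProjective.iff_projective (R := R) (P := M)).mpr hP
    haveI : Module.Free R M := Module.free_of_flat_of_isLocalRing
    exact depth_ne_zero_of_isSMulRegular M x hxm
      (Groth.Agent.H1.Reg.isSMulRegular_of_free x hxR M) hM
  obtain ⟨e', rfl⟩ : ∃ e', e = e' + 1 := by
    cases e with
    | zero => exact absurd h1 hnp
    | succ e' => exact ⟨e', rfl⟩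
  have hK1 : HasProjectiveDimensionLT (ModuleCat.of R (LinearMap.ker f)) (e' + 1) :=
    (hS.hasProjectiveDimensionLT_X₃_iff e' hproj).mp h1
  haveI : Nontrivial (LinearMap.ker f) := by
    by_contra hK
    rw [not_nontrivial_iff_subsingleton] at hK
    have hinj : Function.Injective f := by
      rw [← LinearMap.ker_eq_bot]
      exact Submodule.eq_bot_of_subsingleton
    apply hnp
    haveI : Module.Projective R M :=
      Module.Projective.of_equiv (LinearEquiv.ofBijective f ⟨hinj, surjf⟩)
    exact (projective_iff_hasProjectiveDimensionLT_one (X := ModuleCat.of R M)).mp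
      ((IsProjective.iff_projective (R := R) (P := M)).mp inferInstance)
  have hK2 : ¬ HasProjectiveDimensionLT (ModuleCat.of R (LinearMap.ker f)) e' := by
    intro h
    cases e' with
    | zero =>
      have hz := (hasProjectiveDimensionLT_zero_iff_isZero
        (X := ModuleCat.of R (LinearMap.ker f))).mp h
      have : Subsingleton (LinearMap.ker f) := ModuleCat.subsingleton_of_isZero hz
      exact not_subsingleton _ this
    | succ e'' => exact h2 ((hS.hasProjectiveDimensionLT_X₃_iff e'' hproj).mpr h)
  have hxK : IsSMulRegular (LinearMap.ker f) x := hxP.submodule _ x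
  have hK0 : LocCoh.depth R (LinearMap.ker f) ≠ 0 :=
    depth_ne_zero_of_isSMulRegular _ x hxm hxK
  have hK1' : LocCoh.depth R (LinearMap.ker f) = 1 := by
    by_contra hne
    have h2le : ((2 : ℕ) : ℕ∞) ≤ LocCoh.idealDepth (maximalIdeal R) (LinearMap.ker f) := by
      exact_mod_cast two_le_of_ne hK0 hne
    have hHK := (Groth.Agent.H6.Depth.le_idealDepth_iff (maximalIdeal R) (LinearMap.ker f) 2).mp h2le
    have hP1 : ((1 : ℕ) : ℕ∞) ≤ LocCoh.idealDepth (maximalIdeal R) P := by
      have := ENat.one_le_iff_ne_zero.mpr (depth_ne_zero_of_isSMulRegular P x hxm hxP)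
      exact_mod_cast this
    have hHP := (Groth.Agent.H6.Depth.le_idealDepth_iff (maximalIdeal R) P 1).mp hP1 0 (by omega)
    have hHM : Subsingleton (LocCoh.H (maximalIdeal R) 0 M) :=
      Groth.Agent.H6.Depth.subsingleton_right (LinearMap.ker f).subtype f (maximalIdeal R) 0
        (Submodule.injective_subtype _) surjf (LinearMap.exact_subtype_ker_map f) hHP
        (hHK 1 (by omega))
    have h1le : ((1 : ℕ) : ℕ∞) ≤ LocCoh.idealDepth (maximalIdeal R) M := by
      rw [Groth.Agent.H6.Depth.le_idealDepth_iff]
      intro i hi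
      obtain rfl : i = 0 := by omega
      exact hHM
    have hM' : LocCoh.idealDepth (maximalIdeal R) M = 0 := hM
    rw [hM'] at h1le
    simp at h1le
  have key := ab_step1 t IH hR (LinearMap.ker f) hK0 e' hK1 hK2
  rw [key, hK1', hM]
  push_cast
  ring

/-- **Auslander–Buchsbaum formula**, in terms of `HasProjectiveDimensionLT`. -/
theorem ab_aux : ∀ t : ℕ, ABStatement.{u} t := by
  intro t
  induction t with
  | zero =>
    intro R _ _ _ hR M _ _ _ _ e h1 h2
    obtain ⟨he, hM⟩ := ab_zero (by exact_mod_cast hR) M e h1 h2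
    rw [he, hM]
    simp
  | succ t ih =>
    intro R _ _ _ hR M _ _ _ _ e h1 h2
    by_cases hM : LocCoh.depth R M = 0
    · exact ab_step2 t ih hR M hM e h1 h2
    · exact ab_step1 t ih hR M hM e h1 h2

/-- **Auslander–Buchsbaum formula**: `depth R = pd M + depth M`. -/
theorem auslander_buchsbaum (M : Type u) [AddCommGroup M] [Module R M] [Module.Finite R M]
    [Nontrivial M] (e : ℕ) (h1 : HasProjectiveDimensionLT (ModuleCat.of R M) (e + 1))
    (h2 : ¬ HasProjectiveDimensionLT (ModuleCat.of R M) e) :
    LocCoh.depth R R = e + LocCoh.depth R M := by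
  obtain ⟨t, ht, -⟩ := Groth.Agent.H6.Depth.exists_depth_eq (R := R) R
  rw [ht]
  exact ab_aux t R ht M e h1 h2

theorem auslander_buchsbaum' (M : Type u) [AddCommGroup M] [Module R M] [Module.Finite R M]
    [Nontrivial M] (e : ℕ) (he : projectiveDimension (ModuleCat.of R M) = e) :
    LocCoh.depth R R = e + LocCoh.depth R M := by
  rw [le_antisymm_iff, projectiveDimension_le_iff, projectiveDimension_ge_iff] at he
  exact auslander_buchsbaum M e he.1 he.2

end Main

end Groth.Agent.H1.AB
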