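import Mathlib
import Groth.Agent.Lib.Helper1.AusBuch
import Groth.Agent.Lib.Helper1.RegGlobal
import Groth.Agent.Lib.Helper1.RegPd
import Groth.Agent.Lib.Helper1.RegLoc

/-! Helper1: consequences of the Auslander–Buchsbaum formula over regular local rings. -/

set_option autoImplicit false

universe u

open CategoryTheory IsLocalRing RingTheory.Sequence Pointwise

namespace Groth.Agent.H1.AB

section

variable {R : Type u} [CommRing R] [IsLocalRing R]

theorem le_depth_of_isWeaklyRegular (M : Type u) [AddCommGroup M] [Module R M] (rs : List R)
    (hreg : IsWeaklyRegular M rs) (hmem : ∀ r ∈ rs, r ∈ maximalIdeal R) :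
    (rs.length : ℕ∞) ≤ LocCoh.depth R M := by
  classical
  unfold LocCoh.depth LocCoh.idealDepth
  split_ifs with h
  · exact le_top
  · exact le_iSup₂_of_le rs ⟨hreg, hmem⟩ le_rfl

end

section Regular

variable {R : Type u} [CommRing R] [IsRegularLocalRing R]

/-- A regular local ring is Cohen–Macaulay: `depth R = dim R`. -/
theorem depth_eq_of_isRegularLocalRing (d : ℕ) (hd : ringKrullDim R = d) :
    LocCoh.depth R R = d := by
  apply le_antisymm
  · obtain ⟨t, ht, hle⟩ := Groth.Agent.H6.Depth.exists_depth_eq (R := R) R
    rw [Module.supportDim_self_eq_ringKrullDim, hd] at hle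
    rw [ht]
    exact_mod_cast hle
  · obtain ⟨x, hx⟩ := Groth.Agent.H1.Reg.exists_fin_span_eq_maximalIdeal R d hd
    have hreg := Groth.Agent.H1.Reg.isRegular_ofFn d hd x hx
    have := le_depth_of_isWeaklyRegular R (List.ofFn x) hreg.toIsWeaklyRegular (by
      intro r hr
      rw [List.mem_ofFn] at hr
      obtain ⟨i, rfl⟩ := hr
      rw [← hx]
      exact Ideal.subset_span ⟨i, rfl⟩)
    rwa [List.length_ofFn] at this

/-- Every nonzero finite module over a regular local ring has a projective dimension `e ≤ dim R`. -/
theorem exists_pd (d : ℕ) (hd : ringKrullDim R = d) (M : Type u) [AddCommGroup M] [Module R M]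
    [Nontrivial M] :
    ∃ e : ℕ, e ≤ d ∧ HasProjectiveDimensionLT (ModuleCat.of R M) (e + 1) ∧
      ¬ HasProjectiveDimensionLT (ModuleCat.of R M) e := by
  classical
  have hex : ∃ n : ℕ, HasProjectiveDimensionLT (ModuleCat.of R M) (n + 1) :=
    ⟨d, Groth.Agent.H1.Reg.hasProjectiveDimensionLT_of_isRegularLocalRing R d hd _⟩
  refine ⟨Nat.find hex, Nat.find_min' hex
    (Groth.Agent.H1.Reg.hasProjectiveDimensionLT_of_isRegularLocalRing R d hd _),
    Nat.find_spec hex, ?_⟩
  intro h
  rcases Nat.eq_zero_or_eq_succ_pred (Nat.find hex) with h0 | h0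
  · rw [h0] at h
    have hz := (hasProjectiveDimensionLT_zero_iff_isZero (X := ModuleCat.of R M)).mp h
    have : Subsingleton M := ModuleCat.subsingleton_of_isZero hz
    exact not_subsingleton M this
  · rw [h0] at h
    exact Nat.find_min hex (m := (Nat.find hex).pred) (by omega) h

/-- A maximal Cohen–Macaulay module over a regular local ring is free. -/
theorem free_of_depth_eq_dim (M : Type u) [AddCommGroup M] [Module R M] [Module.Finite R M]
    (h : ((LocCoh.depth R M : ℕ∞) : WithBot ℕ∞) = ringKrullDim R) : Module.Free R M := by
  have hd : ringKrullDim R = ((maximalIdeal R).spanFinrank : ℕ) :=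
    (IsRegularLocalRing.spanFinrank_maximalIdeal (R := R)).symm
  by_cases hM : Nontrivial M
  · obtain ⟨e, -, h1, h2⟩ := exists_pd _ hd M
    have hab := auslander_buchsbaum M e h1 h2
    rw [depth_eq_of_isRegularLocalRing _ hd] at hab
    rw [hd] at h
    have hM' : LocCoh.depth R M = ((maximalIdeal R).spanFinrank : ℕ) := by exact_mod_cast h
    rw [hM'] at hab
    have he : e = 0 := by
      have : (maximalIdeal R).spanFinrank = e + (maximalIdeal R).spanFinrank := by
        exact_mod_cast hab
      omega
    subst he
    have hP : Projective (ModuleCat.of R M) :=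
      (projective_iff_hasProjectiveDimensionLT_one (X := ModuleCat.of R M)).mpr h1
    haveI : Module.Projective R M := (IsProjective.iff_projective (R := R) (P := M)).mpr hP
    exact Module.free_of_flat_of_isLocalRing
  · rw [not_nontrivial_iff_subsingleton] at hM
    exact Module.Free.of_subsingleton R M

end Regular

end Groth.Agent.H1.AB

namespace Groth.Agent.H1.AB

section Ass

variable {B : Type u} [CommRing B] [IsRegularLocalRing B]

/-- Over a regular local ring, an associated prime `p` of a finite module `M` with `pd M ≤ n`
has height at most `n`. -/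
theorem height_le_of_mem_associatedPrimes (M : Type u) [AddCommGroup M] [Module B M]
    [Module.Finite B M] (p : Ideal B) (hp : p ∈ associatedPrimes B M) (n : ℕ)
    (hn : HasProjectiveDimensionLE (ModuleCat.of B M) n) : p.height ≤ n := by
  haveI : p.IsPrime := hp.1
  haveI := Groth.Agent.H1.Reg.isRegularLocalRing_localization B p
  -- the localized module
  have hass := Module.associatedPrimes.mem_associatedPrimes_atPrime_of_mem_associatedPrimes hp
  haveI : Nontrivial (LocalizedModule p.primeCompl M) := by
    by_contra h
    rw [not_nontrivial_iff_subsingleton] at h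
    have : associatedPrimes (Localization.AtPrime p) (LocalizedModule p.primeCompl M) = ∅ :=
      associatedPrimes.eq_empty_of_subsingleton
    rw [this] at hass
    exact hass
  have hdepth : LocCoh.depth (Localization.AtPrime p) (LocalizedModule p.primeCompl M) = 0 :=
    (Groth.Agent.H3.DepthAux.depth_eq_zero_iff_mem_associatedPrimes _ _).mpr hass
  -- projective dimension of the localization
  have hpd : HasProjectiveDimensionLT
      (ModuleCat.of (Localization.AtPrime p) (LocalizedModule p.primeCompl M)) (n + 1) := by
    haveI := hn
    have h1 : HasProjectiveDimensionLT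
        (ModuleCat.of (Localization p.primeCompl) (Shrink.{u} (LocalizedModule p.primeCompl M)))
        (n + 1) :=
      ModuleCat.localizedModule_hasProjectiveDimensionLE n p.primeCompl (ModuleCat.of B M)
    exact @hasProjectiveDimensionLT_of_iso _ _ _ _ _
      (Shrink.linearEquiv.{u} (Localization p.primeCompl)
        (LocalizedModule p.primeCompl M)).toModuleIso (n + 1) h1
  have hd : ringKrullDim (Localization.AtPrime p) =
      ((maximalIdeal (Localization.AtPrime p)).spanFinrank : ℕ) :=
    (IsRegularLocalRing.spanFinrank_maximalIdeal (R := Localization.AtPrime p)).symm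
  obtain ⟨e, -, h1, h2⟩ := exists_pd _ hd (LocalizedModule p.primeCompl M)
  have hab := auslander_buchsbaum (LocalizedModule p.primeCompl M) e h1 h2
  rw [depth_eq_of_isRegularLocalRing _ hd, hdepth, add_zero] at hab
  have he : (maximalIdeal (Localization.AtPrime p)).spanFinrank = e := by exact_mod_cast hab
  have hen : e ≤ n := by
    by_contra hlt
    exact h2 (hasProjectiveDimensionLT_of_ge _ (n + 1) e (by omega))
  have hht : ringKrullDim (Localization.AtPrime p) = p.height :=
    IsLocalization.AtPrime.ringKrullDim_eq_height p (Localization.AtPrime p)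
  rw [hd, he] at hht
  have : p.height = (e : ℕ∞) := by exact_mod_cast hht.symm
  rw [this]
  exact_mod_cast hen

end Ass

end Groth.Agent.H1.AB
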