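import Mathlib
import Groth.Prelude
import Groth.Agent.Lib.Helper6.FiberDict
import Groth.Agent.Lib.Helper1.LocalCriterion
import Groth.Agent.Lib.Helper1.AusBuchReg

/-! Helper1: regular rings are Cohen–Macaulay; a flat extension of a Cohen–Macaulay ring with
Cohen–Macaulay fibres is Cohen–Macaulay. -/

set_option autoImplicit false
universe u

namespace Groth.Agent.H1.CMFlat

/-- a regular local ring is a Cohen–Macaulay local ring -/
theorem isCohenMacaulayLocalRing_of_isRegularLocalRing (X : Type u) [CommRing X]
    [IsRegularLocalRing X] : LocCoh.IsCohenMacaulayLocalRing X := by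
  refine { supportDim_eq_depth := ?_ }
  obtain ⟨d, hd⟩ := Groth.Agent.H6.LC.exists_supportDim_eq (R := X) X
  rw [hd]
  rw [Module.supportDim_self_eq_ringKrullDim] at hd
  rw [Groth.Agent.H1.AB.depth_eq_of_isRegularLocalRing d hd]
  rfl

/-- a regular ring is a Cohen–Macaulay ring -/
theorem isCohenMacaulayRing_of_isRegularRing (X : Type u) [CommRing X] [IsRegularRing X] :
    LocCoh.IsCohenMacaulayRing X := by
  refine { isCohenMacaulayLocalRing_localization := ?_ }
  intro p hp
  exact isCohenMacaulayLocalRing_of_isRegularLocalRing _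

/-- flat extension with Cohen–Macaulay base and fibres is Cohen–Macaulay -/
theorem isCohenMacaulayRing_of_flat_of_fibres {R S : Type u} [CommRing R] [CommRing S]
    [IsNoetherianRing S] [Algebra R S] [Module.Flat R S] [LocCoh.IsCohenMacaulayRing R]
    (hfib : ∀ (p : Ideal R) [p.IsPrime], LocCoh.IsCohenMacaulayRing (p.Fiber S)) :
    LocCoh.IsCohenMacaulayRing S := by
  refine { isCohenMacaulayLocalRing_localization := ?_ }
  intro Q hQ
  haveI : IsNoetherianRing (Localization.AtPrime Q) :=
    IsLocalization.isNoetherianRing Q.primeCompl _ inferInstance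
  refine { supportDim_eq_depth := ?_ }
  set P := Q.comap (algebraMap R S) with hP
  have h1 := (LocCoh.IsCohenMacaulayRing.isCohenMacaulayLocalRing_localization (R := R)
    P).supportDim_eq_depth
  have h2 := (Groth.Agent.H6.FiberDict.cm_fiber_iff (B := S) P).mp (hfib P) Q rfl
  obtain ⟨h3, h4⟩ := Groth.Agent.H6.FlatLoc.depth_and_dim_localized_tensor (A := R)
    (B := S) R S Q
  obtain ⟨h5, h6⟩ := Groth.Agent.H6.FiberDict.depth_and_dim_self (A := R) (B := S) Q
  haveI : Module.Finite S (TensorProduct R S R) :=
    Groth.Agent.H1.finite_tensor_of_finite R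
  obtain ⟨h7, h8⟩ := Groth.Agent.H6.SkLoc.depth_and_dim_congr
    (TensorProduct R S R)
    (TensorProduct.AlgebraTensorModule.rid R S S) Q
  have e1 := Groth.Agent.H6.FiberDict.locEquiv S Q
  have e2 := Groth.Agent.H6.FiberDict.locEquiv R P
  have hd1 : LocCoh.depth (Localization.AtPrime Q) (LocalizedModule Q.primeCompl S) =
      LocCoh.depth (Localization.AtPrime Q) (Localization.AtPrime Q) :=
    Groth.Agent.H6.HomKer.idealDepth_congr _ e1
  have hd2 : LocCoh.depth (Localization.AtPrime P) (LocalizedModule P.primeCompl R) =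
      LocCoh.depth (Localization.AtPrime P) (Localization.AtPrime P) :=
    Groth.Agent.H6.HomKer.idealDepth_congr _ e2
  rw [← Module.supportDim_eq_of_equiv e1, ← hd1]
  rw [← Module.supportDim_eq_of_equiv e2, ← hd2] at h1
  rw [← h7, ← h8, h3, h4, h5, h6, h1, h2]
  push_cast
  rfl

end Groth.Agent.H1.CMFlat
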