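import Mathlib
import Groth.Agent.Lib.Helper6.TildePunct2
import Groth.Agent.Lib.Helper6.DTThm

universe u
set_option backward.isDefEq.respectTransparency.types false
open CategoryTheory AlgebraicGeometry TopologicalSpace Opposite PrimeSpectrum
open Groth.Agent.H6 Groth.Agent.H6.TildePunct AlgebraicGeometry.StructureSheaf

namespace Groth.Agent.H1.PunctAff

section LM

variable {R M : Type u} [CommRing R] [AddCommGroup M] [Module R M] (S : Submonoid R)

theorem mk_one_smul_smul (s : S) (m' : LocalizedModule S M) :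
    (Localization.mk 1 s : Localization S) • ((s : R) • m') = m' := by
  induction m' using LocalizedModule.induction_on with
  | h m t =>
    rw [LocalizedModule.smul'_mk, LocalizedModule.mk_smul_mk, one_smul]
    exact LocalizedModule.mk_cancel_common_left s t m

theorem smul_mk_one_smul (s : S) (m' : LocalizedModule S M) :
    (s : R) • ((Localization.mk 1 s : Localization S) • m') = m' := by
  rw [smul_comm]
  exact mk_one_smul_smul S s m'

end LM

variable {R M : Type u} [CommRing R] [AddCommGroup M] [Module R M] {a : Ideal R}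
  {U : Opens (PrimeSpectrum.Top R)}

/-- the value `φ(f^n)/f^n` at `y` -/
noncomputable def divAt (n : ℕ) (φ : ↥(a ^ n) →ₗ[R] Sec R M U) (y : U) (f : R) (hfa : f ∈ a)
    (hfy : f ∉ y.1.asIdeal) : Localizations M y.1 :=
  (Localization.mk 1 ⟨f ^ n, y.1.asIdeal.primeCompl.pow_mem hfy n⟩ :
    Localization y.1.asIdeal.primeCompl) • (φ ⟨f ^ n, Ideal.pow_mem_pow hfa n⟩).1 y

theorem smul_divAt (n : ℕ) (φ : ↥(a ^ n) →ₗ[R] Sec R M U) (y : U) (f : R) (hfa : f ∈ a)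
    (hfy : f ∉ y.1.asIdeal) (z : ↥(a ^ n)) :
    (z : R) • divAt n φ y f hfa hfy = (φ z).1 y := by
  have h1 : (f ^ n) • (φ z).1 y = (z : R) • (φ ⟨f ^ n, Ideal.pow_mem_pow hfa n⟩).1 y := by
    have e1 : (f ^ n) • φ z = (z : R) • φ ⟨f ^ n, Ideal.pow_mem_pow hfa n⟩ := by
      rw [← map_smul, ← map_smul]
      congr 1
      apply Subtype.ext
      simp [mul_comm]
    have := congrArg (fun s : Sec R M U => s.1 y) e1
    exact this
  unfold divAt
  rw [smul_comm, ← h1]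
  exact mk_one_smul_smul y.1.asIdeal.primeCompl ⟨f ^ n, _⟩ _

theorem divAt_eq (n : ℕ) (φ : ↥(a ^ n) →ₗ[R] Sec R M U) (y : U) (f g : R) (hfa : f ∈ a)
    (hfy : f ∉ y.1.asIdeal) (hga : g ∈ a) (hgy : g ∉ y.1.asIdeal) :
    divAt n φ y f hfa hfy = divAt n φ y g hga hgy := by
  have h := smul_divAt n φ y f hfa hfy ⟨g ^ n, Ideal.pow_mem_pow hga n⟩
  have h2 := mk_one_smul_smul y.1.asIdeal.primeCompl
    ⟨g ^ n, y.1.asIdeal.primeCompl.pow_mem hgy n⟩ (divAt n φ y f hfa hfy)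
  rw [← h2]
  simp only at h
  rw [h]
  rfl

variable (hU : IsPunct a U)

include hU in
theorem exists_gen (y : U) : ∃ f, f ∈ a ∧ f ∉ y.1.asIdeal := by
  obtain ⟨f, hfa, hfy⟩ := Set.not_subset.mp ((hU y.1).mp y.2)
  exact ⟨f, hfa, hfy⟩

/-- the glued function -/
noncomputable def glueFun (n : ℕ) (φ : ↥(a ^ n) →ₗ[R] Sec R M U) :
    ∀ y : U, Localizations M y.1 := fun y =>
  divAt n φ y (exists_gen hU y).choose (exists_gen hU y).choose_spec.1
    (exists_gen hU y).choose_spec.2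

theorem glueFun_eq (n : ℕ) (φ : ↥(a ^ n) →ₗ[R] Sec R M U) (y : U) (f : R) (hfa : f ∈ a)
    (hfy : f ∉ y.1.asIdeal) : glueFun hU n φ y = divAt n φ y f hfa hfy :=
  divAt_eq n φ y _ f _ _ hfa hfy

theorem glueFun_pred (n : ℕ) (φ : ↥(a ^ n) →ₗ[R] Sec R M U) :
    (isLocallyFraction R M).pred (glueFun hU n φ) := by
  intro y₀
  obtain ⟨f, hfa, hfy⟩ := exists_gen hU y₀
  obtain ⟨V, hyV, i, r, t, hrt⟩ := (φ ⟨f ^ n, Ideal.pow_mem_pow hfa n⟩).2 y₀
  refine ⟨V ⊓ basicOpen f, ⟨hyV, hfy⟩, Opens.infLELeft _ _ ≫ i, r, f ^ n * t, fun x => ?_⟩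
  obtain ⟨ht, hx⟩ := hrt ⟨x.1, x.2.1⟩
  have hfx : f ∉ x.1.asIdeal := x.2.2
  refine ⟨x.1.asIdeal.primeCompl.mul_mem (x.1.asIdeal.primeCompl.pow_mem hfx n) ht, ?_⟩
  change glueFun hU n φ ((Opens.infLELeft V (basicOpen f) ≫ i) x) = _
  rw [glueFun_eq hU n φ _ f hfa hfx]
  unfold divAt
  change _ • (φ ⟨f ^ n, Ideal.pow_mem_pow hfa n⟩).1 (i ⟨x.1, x.2.1⟩) = _
  have hx' : (φ ⟨f ^ n, Ideal.pow_mem_pow hfa n⟩).1 (i ⟨x.1, x.2.1⟩) =
    LocalizedModule.mk r ⟨t, ht⟩ := hx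
  rw [hx', LocalizedModule.mk_smul_mk, one_smul]
  rfl

include hU in
/-- every linear map `a^n → Γ(U, M~)` is multiplication by a section. -/
theorem exists_sec_of_linearMap (n : ℕ) (φ : ↥(a ^ n) →ₗ[R] Sec R M U) :
    ∃ b : Sec R M U, ∀ z : ↥(a ^ n), φ z = (z : R) • b := by
  refine ⟨⟨glueFun hU n φ, glueFun_pred hU n φ⟩, fun z => ?_⟩
  refine sec_ext fun y => ?_
  obtain ⟨f, hfa, hfy⟩ := exists_gen hU y
  rw [smul_val]
  change _ = (z : R) • glueFun hU n φ y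
  rw [glueFun_eq hU n φ y f hfa hfy, smul_divAt]


include hU in
/-- `Γ(U, M~)` is `a`-closed: `η : Γ(U, M~) → D_a(Γ(U, M~))` is bijective. -/
theorem toDT_sec_bijective : Function.Bijective (LocCoh.toDT a (Sec R M U)) := by
  constructor
  · rw [← LinearMap.ker_eq_bot, DT.ker_toDT, eq_bot_iff]
    rintro s ⟨n, hn⟩
    exact eq_zero_of_pow_smul hU s n hn
  · intro y
    obtain ⟨n, φ, rfl⟩ := DT.ι_surj y
    obtain ⟨b, hb⟩ := exists_sec_of_linearMap hU n φ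
    refine ⟨b, ?_⟩
    rw [DT.toDT_eq' n]
    congr 1
    ext z
    rw [DT.smulMap_apply, hb z]

end Groth.Agent.H1.PunctAff
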