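import Mathlib
import Groth.Agent.Lib.Helper1.PunctGlue
import Groth.Agent.Lib.Helper6.LCDT
import Groth.Agent.Lib.Helper6.LCZero
import Groth.Agent.Lib.Helper6.DepthInf
import Groth.Agent.Lib.Helper6.DepthKit

/-! Sections over the complement of a closed subset along which the depth is at least two. -/

universe u
set_option backward.isDefEq.respectTransparency.types false
open CategoryTheory AlgebraicGeometry TopologicalSpace Opposite PrimeSpectrum
open Groth.Agent.H6 Groth.Agent.H6.TildePunct AlgebraicGeometry.StructureSheaf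

namespace Groth.Agent.H1.Depth2Ext

variable {R M : Type u} [CommRing R] [IsNoetherianRing R] [AddCommGroup M] [Module R M]
  {a : Ideal R} {U : Opens (PrimeSpectrum.Top R)}

/-- if `H^0_a(M) = H^1_a(M) = 0` then `M → D_a(M)` is bijective -/
theorem toDT_bijective_of_vanish (h0 : Subsingleton (LocCoh.H a 0 M))
    (h1 : Subsingleton (LocCoh.H a 1 M)) : Function.Bijective (LocCoh.toDT a M) := by
  constructor
  · rw [← LinearMap.ker_eq_bot, DT.ker_toDT, eq_bot_iff]
    intro m hm
    have e := LC.zeroEquiv a (ModuleCat.of R M)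
    have : (⟨m, hm⟩ : DRing.torsionSub a M) = 0 := by
      apply e.symm.injective
      exact Subsingleton.elim (h := h0) _ _
    exact congrArg Subtype.val this
  · have e := LC.cokerToDTEquiv a M
    have hsub : Subsingleton (LocCoh.DT a M ⧸ LinearMap.range (LocCoh.toDT a M)) :=
      e.injective.subsingleton
    rw [← LinearMap.range_eq_top]
    exact Submodule.Quotient.subsingleton_iff.mp hsub

/-- if `H^0_a(M) = H^1_a(M) = 0` then `M → Γ(U, M~)` is bijective, `U` the complement of `V(a)`. -/
theorem toOpen_bijective_of_vanish (hU : IsPunct a U) (h0 : Subsingleton (LocCoh.H a 0 M))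
    (h1 : Subsingleton (LocCoh.H a 1 M)) : Function.Bijective (toOpenₗ R M U) := by
  obtain ⟨fs, hfs⟩ := (isNoetherianRing_iff_ideal_fg R).mp ‹_› a
  have hA := toDT_bijective_of_vanish h0 h1
  have hker : LinearMap.ker (toOpenₗ R M U) ≤ DRing.torsionSub a M := by
    intro x hx
    rw [ker_toOpen hU hfs, mem_iSup_torsionBy_iff] at hx
    exact hx
  have hcoker : LocCoh.IsPowerTorsion a (Sec R M U ⧸ LinearMap.range (toOpenₗ R M U)) := by
    intro q
    obtain ⟨s, rfl⟩ := Submodule.Quotient.mk_surjective _ q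
    obtain ⟨N, hN⟩ := exists_pow_smul_mem_range hU hfs s
    refine ⟨N, fun c hc => ?_⟩
    rw [← Submodule.Quotient.mk_smul, Submodule.Quotient.mk_eq_zero]
    exact hN c hc
  have hb1 := DT.map_bijective (I := a) (toOpenₗ R M U) hker hcoker
  have hb2 := Groth.Agent.H1.PunctAff.toDT_sec_bijective (M := M) hU
  have hnat := fun m => DT.toDT_naturality (I := a) (toOpenₗ R M U) m
  constructor
  · rw [injective_iff_map_eq_zero]
    intro m hm
    have h3 := hnat m
    rw [hm, map_zero] at h3
    have h4 : LocCoh.toDT a M m = 0 := hb1.1 (by rw [h3, map_zero])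
    exact hA.1 (by rw [h4, map_zero])
  · intro b
    obtain ⟨y, hy⟩ := hb1.2 (LocCoh.toDT a (Sec R M U) b)
    obtain ⟨m, rfl⟩ := hA.2 y
    refine ⟨m, hb2.1 ?_⟩
    rw [← hnat m, hy]

/-- depth at least two at all primes outside `U` implies `M → Γ(U, M~)` is bijective. -/
theorem toOpen_bijective_of_depth [Module.Finite R M] (hU : IsPunct a U)
    (h : ∀ p : PrimeSpectrum R, a ≤ p.asIdeal → (2 : ℕ∞) ≤
      LocCoh.depth (Localization.AtPrime p.asIdeal) (LocalizedModule p.asIdeal.primeCompl M)) :
    Function.Bijective (toOpenₗ R M U) := by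
  have hd : (2 : ℕ∞) ≤ LocCoh.idealDepth a M := by
    rw [Depth.idealDepth_eq_iInf]
    exact le_iInf₂ h
  have hv := (Depth.le_idealDepth_iff a M 2).mp hd
  exact toOpen_bijective_of_vanish hU (hv 0 (by norm_num)) (hv 1 (by norm_num))

end Groth.Agent.H1.Depth2Ext
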