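import Mathlib
import Groth.Agent.Lib.Helper1.Depth2Ext
import Groth.Agent.Lib.Helper6.SemiLin

universe u
set_option backward.isDefEq.respectTransparency.types false
set_option linter.style.haveILetI false
open CategoryTheory AlgebraicGeometry TopologicalSpace Opposite
open Groth.Agent.H6 Groth.Agent.H6.TildePunct

namespace Groth.Agent.H1.Depth2Ext

section Sch

variable {X : Scheme.{u}} [IsLocallyNoetherian X]

theorem depth_stalk_eq {V : X.Opens} (hV : IsAffineOpen V) (y : PrimeSpectrum Γ(X, V))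
    (hy : hV.fromSpec y ∈ V) :
    LocCoh.depth (X.presheaf.stalk (hV.fromSpec y)) (X.presheaf.stalk (hV.fromSpec y)) =
      LocCoh.depth (Localization.AtPrime y.asIdeal)
        (LocalizedModule y.asIdeal.primeCompl Γ(X, V)) := by
  haveI : IsNoetherianRing Γ(X, V) := IsLocallyNoetherian.component_noetherian ⟨V, hV⟩
  letI : Algebra Γ(X, V) (X.presheaf.stalk (hV.fromSpec y)) :=
    TopCat.Presheaf.algebra_section_stalk X.presheaf ⟨hV.fromSpec y, hy⟩
  haveI : IsLocalization.AtPrime (X.presheaf.stalk (hV.fromSpec y)) y.asIdeal :=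
    hV.isLocalization_stalk' y hy
  haveI : IsNoetherianRing (Localization.AtPrime y.asIdeal) :=
    IsLocalization.isNoetherianRing y.asIdeal.primeCompl _ inferInstance
  exact (SemiLin.depth_and_dim_eq_of_isLocalizedModule y.asIdeal.primeCompl
    (T₁ := X.presheaf.stalk (hV.fromSpec y)) (T₂ := Localization.AtPrime y.asIdeal)
    (Algebra.linearMap Γ(X, V) (X.presheaf.stalk (hV.fromSpec y)))
    (LocalizedModule.mkLinearMap y.asIdeal.primeCompl Γ(X, V))).1

variable (U : X.Opens)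
  (h : ∀ x : X, x ∉ U → (2 : ℕ∞) ≤ LocCoh.depth (X.presheaf.stalk x) (X.presheaf.stalk x))

include h in
/-- affine case: restriction from `V` to `V ⊓ U` is bijective -/
theorem res_bijective_of_isAffineOpen {V : X.Opens} (hV : IsAffineOpen V) :
    Function.Bijective (X.presheaf.map (homOfLE (inf_le_left : V ⊓ U ≤ V)).op) := by
  haveI : IsNoetherianRing Γ(X, V) := IsLocallyNoetherian.component_noetherian ⟨V, hV⟩
  -- the open `W' = f⁻¹(V ⊓ U)` of `Spec Γ(X, V)`
  obtain ⟨a, ha⟩ := (PrimeSpectrum.isClosed_iff_zeroLocus_ideal _).mp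
    (hV.fromSpec ⁻¹ᵁ (V ⊓ U)).2.isClosed_compl
  have hP : IsPunct a (cv (hV.fromSpec ⁻¹ᵁ (V ⊓ U))) := by
    suffices key : ∀ y : PrimeSpectrum Γ(X, V),
        (y ∈ cv (hV.fromSpec ⁻¹ᵁ (V ⊓ U))) ↔ ¬ a ≤ y.asIdeal from fun y => key y
    intro y
    have h1 : y ∈ (PrimeSpectrum.zeroLocus (a : Set Γ(X, V))) ↔ a ≤ y.asIdeal := by
      rw [PrimeSpectrum.mem_zeroLocus, SetLike.coe_subset_coe]
    have h2 : y ∈ (PrimeSpectrum.zeroLocus (a : Set Γ(X, V))) ↔
        ¬ (y ∈ cv (hV.fromSpec ⁻¹ᵁ (V ⊓ U))) := by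
      rw [← ha]; exact Iff.rfl
    constructor
    · intro hy hle
      exact (h2.mp (h1.mpr hle)) hy
    · intro hy
      by_contra hn
      exact hy (h1.mp (h2.mpr hn))
  have hbij := toOpen_bijective_of_depth (M := Γ(X, V)) hP (by
    intro p hp
    have hpV : hV.fromSpec p ∈ V :=
      (SetLike.ext_iff.mp hV.opensRange_fromSpec _).mp ⟨p, rfl⟩
    have hpU : hV.fromSpec p ∉ U := by
      intro hU
      have : p ∈ cv (hV.fromSpec ⁻¹ᵁ (V ⊓ U)) := ⟨hpV, hU⟩
      exact (hP p).mp this hp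
    rw [← depth_stalk_eq hV p hpV]
    exact h _ hpU)
  -- the square
  have hsq : X.presheaf.map (homOfLE (inf_le_left : V ⊓ U ≤ V)).op ≫ hV.fromSpec.app (V ⊓ U) =
      hV.fromSpec.app V ≫ (Spec Γ(X, V)).presheaf.map
        (homOfLE (show hV.fromSpec ⁻¹ᵁ (V ⊓ U) ≤ hV.fromSpec ⁻¹ᵁ V from
          fun _ hx => hx.1)).op :=
    (hV.fromSpec.naturality (homOfLE (inf_le_left : V ⊓ U ≤ V)).op)
  have hiso : IsIso (hV.fromSpec.app (V ⊓ U)) :=
    hV.fromSpec.isIso_app _ (hV.opensRange_fromSpec.symm ▸ inf_le_left)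
  have hcomp : Function.Bijective (hV.fromSpec.app V ≫ (Spec Γ(X, V)).presheaf.map
        (homOfLE (show hV.fromSpec ⁻¹ᵁ (V ⊓ U) ≤ hV.fromSpec ⁻¹ᵁ V from
          fun _ hx => hx.1)).op) := by
    have : (hV.fromSpec.app V ≫ (Spec Γ(X, V)).presheaf.map
        (homOfLE (show hV.fromSpec ⁻¹ᵁ (V ⊓ U) ≤ hV.fromSpec ⁻¹ᵁ V from
          fun _ hx => hx.1)).op) =
        CommRingCat.ofHom (algebraMap Γ(X, V)
          (Sec Γ(X, V) Γ(X, V) (cv (hV.fromSpec ⁻¹ᵁ (V ⊓ U))))) := by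
      rw [hV.fromSpec_app_self, Category.assoc, ← Functor.map_comp]
      rfl
    rw [this]
    exact hbij
  rw [← hsq] at hcomp
  have h2 : Function.Bijective (hV.fromSpec.app (V ⊓ U)) :=
    ConcreteCategory.bijective_of_isIso _
  have h3 : ⇑(X.presheaf.map (homOfLE (inf_le_left : V ⊓ U ≤ V)).op ≫ hV.fromSpec.app (V ⊓ U)) =
      ⇑(hV.fromSpec.app (V ⊓ U)) ∘ ⇑(X.presheaf.map (homOfLE (inf_le_left : V ⊓ U ≤ V)).op) := by
    ext x; rfl
  rw [h3] at hcomp
  exact (Function.Bijective.of_comp_iff' h2 _).mp hcomp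

omit [IsLocallyNoetherian X] in
theorem map_map {O₁ O₂ O₃ : X.Opens} (h₁ : O₂ ≤ O₁) (h₂ : O₃ ≤ O₂) (s : Γ(X, O₁)) :
    X.presheaf.map (homOfLE h₂).op (X.presheaf.map (homOfLE h₁).op s) =
      X.presheaf.map (homOfLE (h₂.trans h₁)).op s := by
  rw [← ConcreteCategory.comp_apply, ← Functor.map_comp]
  rfl

omit [IsLocallyNoetherian X] in
theorem le_iSup_affine (V : X.Opens) :
    V ≤ ⨆ i : {W : X.affineOpens // W.1 ≤ V}, i.1.1 := by
  intro x hx
  obtain ⟨_, ⟨W, hW : IsAffineOpen W, rfl⟩, hxW, hWV⟩ :=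
    X.isBasis_affineOpens.exists_subset_of_mem_open hx V.2
  rw [Opens.mem_iSup]
  exact ⟨⟨⟨W, hW⟩, hWV⟩, hxW⟩

include h in
theorem res_injective (V : X.Opens) :
    Function.Injective (X.presheaf.map (homOfLE (inf_le_left : V ⊓ U ≤ V)).op) := by
  intro s t hst
  refine X.sheaf.eq_of_locally_eq' (fun i : {W : X.affineOpens // W.1 ≤ V} => i.1.1) V
    (fun i => homOfLE i.2) (le_iSup_affine V) s t ?_
  intro i
  apply (res_bijective_of_isAffineOpen U h i.1.2).1
  change X.presheaf.map _ (X.presheaf.map (homOfLE i.2).op s) =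
    X.presheaf.map _ (X.presheaf.map (homOfLE i.2).op t)
  rw [map_map, map_map]
  have h1 : i.1.1 ⊓ U ≤ V ⊓ U := inf_le_inf_right U i.2
  have := congrArg (X.presheaf.map (homOfLE h1).op) hst
  rw [map_map, map_map] at this
  exact this

include h in
theorem res_bijective (V : X.Opens) :
    Function.Bijective (X.presheaf.map (homOfLE (inf_le_left : V ⊓ U ≤ V)).op) := by
  refine ⟨res_injective U h V, ?_⟩
  intro t
  -- local lifts
  have hloc : ∀ i : {W : X.affineOpens // W.1 ≤ V}, ∃ s : Γ(X, i.1.1),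
      X.presheaf.map (homOfLE (inf_le_left : i.1.1 ⊓ U ≤ i.1.1)).op s =
        X.presheaf.map (homOfLE (inf_le_inf_right U i.2 : i.1.1 ⊓ U ≤ V ⊓ U)).op t :=
    fun i => (res_bijective_of_isAffineOpen U h i.1.2).2 _
  choose sf hsf using hloc
  have hcompat : TopCat.Presheaf.IsCompatible X.sheaf.1
      (fun i : {W : X.affineOpens // W.1 ≤ V} => i.1.1) sf := by
    intro i j
    apply res_injective U h (i.1.1 ⊓ j.1.1)
    change X.presheaf.map _ (X.presheaf.map (homOfLE inf_le_left).op (sf i)) =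
      X.presheaf.map _ (X.presheaf.map (homOfLE inf_le_right).op (sf j))
    rw [map_map, map_map]
    have e1 : (i.1.1 ⊓ j.1.1) ⊓ U ≤ i.1.1 ⊓ U := inf_le_inf_right U inf_le_left
    have e2 : (i.1.1 ⊓ j.1.1) ⊓ U ≤ j.1.1 ⊓ U := inf_le_inf_right U inf_le_right
    have h1 := congrArg (X.presheaf.map (homOfLE e1).op) (hsf i)
    have h2 := congrArg (X.presheaf.map (homOfLE e2).op) (hsf j)
    rw [map_map, map_map] at h1 h2
    exact h1.trans h2.symm
  obtain ⟨s, hs, -⟩ := X.sheaf.existsUnique_gluing'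
    (fun i : {W : X.affineOpens // W.1 ≤ V} => i.1.1) V
    (fun i => homOfLE i.2) (le_iSup_affine V) sf hcompat
  refine ⟨s, ?_⟩
  refine X.sheaf.eq_of_locally_eq' (fun i : {W : X.affineOpens // W.1 ≤ V} => i.1.1 ⊓ U) (V ⊓ U)
    (fun i => homOfLE (inf_le_inf_right U i.2)) ?_ _ _ ?_
  · rintro x ⟨hxV, hxU⟩
    have := le_iSup_affine V hxV
    rw [Opens.mem_iSup] at this ⊢
    obtain ⟨i, hi⟩ := this
    exact ⟨i, hi, hxU⟩
  · intro i
    change X.presheaf.map _ (X.presheaf.map _ s) = X.presheaf.map _ t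
    rw [map_map, ← hsf i, ← hs i]
    change _ = X.presheaf.map _ (X.presheaf.map (homOfLE i.2).op s)
    rw [map_map]

include h in
theorem ι_appTop_bijective : Function.Bijective U.ι.appTop := by
  have h1 := res_bijective U h ⊤
  have e : (⊤ : X.Opens) ⊓ U = U.ι ''ᵁ ⊤ := by
    rw [top_inf_eq, Scheme.Opens.ι_image_top]
  have h2 : U.ι.appTop = X.presheaf.map (homOfLE (inf_le_left : ⊤ ⊓ U ≤ ⊤)).op ≫
      X.presheaf.map (eqToHom e.symm).op := by
    rw [Scheme.Opens.ι_appTop, ← Functor.map_comp]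
    rfl
  rw [h2]
  have h3 : Function.Bijective (X.presheaf.map (eqToHom e.symm).op) :=
    ConcreteCategory.bijective_of_isIso _
  exact h3.comp h1

include h in
/-- morphisms to an affine scheme extend uniquely across a closed subset of depth `≥ 2`. -/
theorem existsUnique_extension (Y : Scheme.{u}) [IsAffine Y] (f : (U : Scheme.{u}) ⟶ Y) :
    ∃! g : X ⟶ Y, U.ι ≫ g = f := by
  have hb := ι_appTop_bijective U h
  haveI : IsIso U.ι.appTop := (ConcreteCategory.isIso_iff_bijective _).mpr hb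
  refine ⟨X.toSpecΓ ≫ Spec.map (f.appTop ≫ inv U.ι.appTop) ≫ Y.isoSpec.inv, ?_, ?_⟩
  · show U.ι ≫ X.toSpecΓ ≫ Spec.map (f.appTop ≫ inv U.ι.appTop) ≫ Y.isoSpec.inv = f
    rw [Scheme.toSpecΓ_naturality_assoc, ← Spec.map_comp_assoc, Category.assoc,
      IsIso.inv_hom_id, Category.comp_id, ← Scheme.toSpecΓ_naturality_assoc]
    have : Y.toSpecΓ = Y.isoSpec.hom := rfl
    rw [this, Iso.hom_inv_id, Category.comp_id]
  · intro g hg
    apply ext_of_isAffine
    have h1 : (U.ι ≫ g).appTop = (U.ι ≫ (X.toSpecΓ ≫ Spec.map (f.appTop ≫ inv U.ι.appTop) ≫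
        Y.isoSpec.inv)).appTop := by
      rw [hg]
      congr 1
      rw [Scheme.toSpecΓ_naturality_assoc, ← Spec.map_comp_assoc, Category.assoc,
        IsIso.inv_hom_id, Category.comp_id, ← Scheme.toSpecΓ_naturality_assoc]
      have : Y.toSpecΓ = Y.isoSpec.hom := rfl
      rw [this, Iso.hom_inv_id, Category.comp_id]
    rw [Scheme.Hom.comp_appTop, Scheme.Hom.comp_appTop] at h1
    exact (cancel_mono U.ι.appTop).mp h1

end Sch

end Groth.Agent.H1.Depth2Ext
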