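import Mathlib
import Groth.Agent.Lib.Helper1.Depth2Ext2
import Groth.Agent.Lib.Helper1.CohLen
import Groth.Agent.Lib.Lead.QC.Stalk
import Groth.Agent.Lib.Lead.QC.FinType
import Groth.Agent.Lib.Lead.QC.Extend
import Groth.Agent.Lib.Helper6.TildePunct2

/-! Restriction of sections of a coherent module across a closed subset along which the depth is
at least two. -/

universe u
set_option backward.isDefEq.respectTransparency.types false
set_option linter.style.haveILetI false
open CategoryTheory AlgebraicGeometry TopologicalSpace Opposite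
open Groth.Agent.H6 Groth.Agent.H6.TildePunct Groth.Agent.LD.QC

namespace Groth.Agent.H1.Depth2Coh

variable {X : Scheme.{u}}

section Aff

variable (F : X.Modules) {V : X.Opens} (hV : IsAffineOpen V)

include hV in
lemma image_top : hV.fromSpec ''ᵁ ⊤ = V :=
  (Scheme.Hom.image_top_eq_opensRange _).trans hV.opensRange_fromSpec

/-- global sections of the restriction to `Spec Γ(X, V)`, as a `Γ(X, V)`-module. -/
noncomputable def topEquiv : Γ(F, V) ≃ₗ[Γ(X, V)] Γ(F.restrict hV.fromSpec, ⊤) where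
  toFun := F.presheaf.map (homOfLE (image_top hV).le).op
  invFun := F.presheaf.map (homOfLE (image_top hV).ge).op
  map_add' := fun a b => map_add _ a b
  map_smul' := fun r s => by
    rw [RingHom.id_apply, fromSpec_smul, Scheme.Modules.map_smul]
  left_inv := fun s => by
    change F.presheaf.map _ (F.presheaf.map _ s) = s
    rw [res_res, res_self]
  right_inv := fun s => by
    change F.presheaf.map _ (F.presheaf.map _ s) = s
    rw [res_res, res_self]

lemma bijective_res_of_eq {A B A' B' : X.Opens} (hBA : B ≤ A) (hB'A' : B' ≤ A') (eA : A = A')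
    (eB : B = B') (h : Function.Bijective (F.presheaf.map (homOfLE hBA).op)) :
    Function.Bijective (F.presheaf.map (homOfLE hB'A').op) := by
  subst eA eB
  exact h

end Aff

section Depth

variable [IsLocallyNoetherian X] (F : X.Modules) [F.IsQuasicoherent] (hF : F.IsFiniteType)
  {V : X.Opens} (hV : IsAffineOpen V)

include hF in
theorem depth_eq (p : PrimeSpectrum Γ(X, V)) (hp : hV.fromSpec p ∈ V) :
    LocCoh.depth (X.presheaf.stalk (hV.fromSpec p)) (F.presheaf.stalk (hV.fromSpec p)) =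
      LocCoh.depth (Localization.AtPrime p.asIdeal)
        (LocalizedModule p.asIdeal.primeCompl Γ(F.restrict hV.fromSpec, ⊤)) := by
  haveI : IsNoetherianRing Γ(X, V) := IsLocallyNoetherian.component_noetherian ⟨V, hV⟩
  letI := stalkΓModule F (hV.fromSpec p) V hp
  letI : Algebra Γ(X, V) (X.presheaf.stalk (hV.fromSpec p)) :=
    TopCat.Presheaf.algebra_section_stalk X.presheaf ⟨hV.fromSpec p, hp⟩
  haveI : IsLocalization.AtPrime (X.presheaf.stalk (hV.fromSpec p)) p.asIdeal :=
    hV.isLocalization_stalk' p hp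
  haveI : IsNoetherianRing (Localization.AtPrime p.asIdeal) :=
    IsLocalization.isNoetherianRing p.asIdeal.primeCompl _ inferInstance
  haveI : IsScalarTower Γ(X, V) (X.presheaf.stalk (hV.fromSpec p))
      (F.presheaf.stalk (hV.fromSpec p)) :=
    ⟨fun r s m => by
      change (r • s) • m = X.presheaf.germ V (hV.fromSpec p) hp r • (s • m)
      rw [Algebra.smul_def, mul_smul]
      rfl⟩
  haveI : Module.Finite (X.presheaf.stalk (hV.fromSpec p)) (F.presheaf.stalk (hV.fromSpec p)) :=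
    Groth.Agent.H1.CohLen.finite_stalk F hF _
  have hloc := isLocalizedModule_germ F hV (hV.fromSpec p) hp
  have hpp : hV.primeIdealOf ⟨hV.fromSpec p, hp⟩ = p :=
    Groth.Agent.LD.QC.primeIdealOf_fromSpec hV p hp
  rw [hpp] at hloc
  haveI := hloc
  haveI : IsLocalizedModule p.asIdeal.primeCompl
      ((germLinear F (hV.fromSpec p) V hp) ∘ₗ (topEquiv F hV).symm.toLinearMap) :=
    IsLocalizedModule.of_linearEquiv_right _ _ _
  exact (SemiLin.depth_and_dim_eq_of_isLocalizedModule p.asIdeal.primeCompl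
    (T₁ := X.presheaf.stalk (hV.fromSpec p)) (T₂ := Localization.AtPrime p.asIdeal)
    ((germLinear F (hV.fromSpec p) V hp) ∘ₗ (topEquiv F hV).symm.toLinearMap)
    (LocalizedModule.mkLinearMap p.asIdeal.primeCompl Γ(F.restrict hV.fromSpec, ⊤))).1

variable (U : X.Opens)
  (h : ∀ x : X, x ∉ U → (2 : ℕ∞) ≤ LocCoh.depth (X.presheaf.stalk x) (F.presheaf.stalk x))

include hF h hV in
/-- affine case: restriction from `V` to `V ⊓ U` is bijective -/
theorem res_bijective_of_isAffineOpen :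
    Function.Bijective (F.presheaf.map (homOfLE (inf_le_left : V ⊓ U ≤ V)).op) := by
  haveI : IsNoetherianRing Γ(X, V) := IsLocallyNoetherian.component_noetherian ⟨V, hV⟩
  obtain ⟨a, ha⟩ := (PrimeSpectrum.isClosed_iff_zeroLocus_ideal _).mp
    (hV.fromSpec ⁻¹ᵁ (V ⊓ U)).2.isClosed_compl
  have hP : IsPunct a (cv (hV.fromSpec ⁻¹ᵁ (V ⊓ U))) := by
    suffices key : ∀ y : PrimeSpectrum Γ(X, V),
        (y ∈ cv (hV.fromSpec ⁻¹ᵁ (V ⊓ U))) ↔ ¬ a ≤ y.asIdeal from fun y => key y
    intro y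
    have h1 : y ∈ (PrimeSpectrum.zeroLocus (a : Set Γ(X, V))) ↔ a ≤ y.asIdeal := by
      rw [PrimeSpectrum.mem_zeroLocus, SetLike.coe_subset_coe]
    have h2 : y ∈ (PrimeSpectrum.zeroLocus (a : Set Γ(X, V))) ↔
        ¬ (y ∈ cv (hV.fromSpec ⁻¹ᵁ (V ⊓ U))) := by
      rw [← ha]; exact Iff.rfl
    constructor
    · intro hy hle
      exact (h2.mp (h1.mpr hle)) hy
    · intro hy
      by_contra hn
      exact hy (h1.mp (h2.mpr hn))
  haveI : Module.Finite Γ(X, V) Γ(F, V) := finite_sections_of_isFiniteType F hF hV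
  haveI : Module.Finite Γ(X, V) Γ(F.restrict hV.fromSpec, ⊤) :=
    Module.Finite.equiv (topEquiv F hV)
  have hbij := Groth.Agent.H1.Depth2Ext.toOpen_bijective_of_depth
    (M := Γ(F.restrict hV.fromSpec, ⊤)) hP (by
    intro p hp
    have hpV : hV.fromSpec p ∈ V :=
      (SetLike.ext_iff.mp hV.opensRange_fromSpec _).mp ⟨p, rfl⟩
    have hpU : hV.fromSpec p ∉ U := by
      intro hU
      have : p ∈ cv (hV.fromSpec ⁻¹ᵁ (V ⊓ U)) := ⟨hpV, hU⟩
      exact (hP p).mp this hp
    rw [← depth_eq F hF hV p hpV]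
    exact h _ hpU)
  -- transport along `fromTildeΓ`
  have h1 := Scheme.Modules.toOpen_fromTildeΓ_app (F.restrict hV.fromSpec)
    (hV.fromSpec ⁻¹ᵁ (V ⊓ U))
  haveI : IsIso (modulesSpecToSheaf.map (F.restrict hV.fromSpec).fromTildeΓ) := inferInstance
  haveI : IsIso (modulesSpecToSheaf.map (F.restrict hV.fromSpec).fromTildeΓ).1 :=
    (inferInstance : IsIso ((TopCat.Sheaf.forget _ _).map
      (modulesSpecToSheaf.map (F.restrict hV.fromSpec).fromTildeΓ)))
  have h2 : Function.Bijective ((modulesSpecToSheaf.map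
      (F.restrict hV.fromSpec).fromTildeΓ).1.app (op (hV.fromSpec ⁻¹ᵁ (V ⊓ U)))).hom :=
    ConcreteCategory.bijective_of_isIso _
  have h3 : Function.Bijective (tilde.toOpen
      ((modulesSpecToSheaf.obj (F.restrict hV.fromSpec)).presheaf.obj (op ⊤))
      (hV.fromSpec ⁻¹ᵁ (V ⊓ U))).hom := by
    exact (eSec Γ(X, V) Γ(F.restrict hV.fromSpec, ⊤) _).symm.bijective.comp hbij
  have h4 : Function.Bijective ((modulesSpecToSheaf.obj (F.restrict hV.fromSpec)).1.map
      (homOfLE (le_top : hV.fromSpec ⁻¹ᵁ (V ⊓ U) ≤ ⊤)).op).hom := by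
    rw [← h1]
    exact h2.comp h3
  have h5 : Function.Bijective (F.presheaf.map (homOfLE
      (show hV.fromSpec ''ᵁ (hV.fromSpec ⁻¹ᵁ (V ⊓ U)) ≤ hV.fromSpec ''ᵁ ⊤ from
        hV.fromSpec.image_mono le_top)).op) := h4
  refine bijective_res_of_eq F _ _ (image_top hV) ?_ h5
  rw [Scheme.Hom.image_preimage_eq_opensRange_inf, hV.opensRange_fromSpec]
  exact inf_eq_right.mpr inf_le_left

include hF h in
theorem res_injective (V : X.Opens) :
    Function.Injective (F.presheaf.map (homOfLE (inf_le_left : V ⊓ U ≤ V)).op) := by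
  intro s t hst
  refine section_ext_of_cover F (fun i : {W : X.affineOpens // W.1 ≤ V} => i.1.1)
    (fun i => i.2) (Groth.Agent.H1.Depth2Ext.le_iSup_affine V) s t ?_
  intro i
  apply (res_bijective_of_isAffineOpen F hF i.1.2 U h).1
  rw [res_res, res_res]
  have h1 : i.1.1 ⊓ U ≤ V ⊓ U := inf_le_inf_right U i.2
  have := congrArg (F.presheaf.map (homOfLE h1).op) hst
  rw [res_res, res_res] at this
  exact this

include hF h in
theorem res_bijective (V : X.Opens) :
    Function.Bijective (F.presheaf.map (homOfLE (inf_le_left : V ⊓ U ≤ V)).op) := by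
  refine ⟨res_injective F hF U h V, ?_⟩
  intro t
  have hloc : ∀ i : {W : X.affineOpens // W.1 ≤ V}, ∃ s : Γ(F, i.1.1),
      F.presheaf.map (homOfLE (inf_le_left : i.1.1 ⊓ U ≤ i.1.1)).op s =
        F.presheaf.map (homOfLE (inf_le_inf_right U i.2 : i.1.1 ⊓ U ≤ V ⊓ U)).op t :=
    fun i => (res_bijective_of_isAffineOpen F hF i.1.2 U h).2 _
  choose sf hsf using hloc
  have hcompat : ∀ i j : {W : X.affineOpens // W.1 ≤ V},
      F.presheaf.map (homOfLE (inf_le_left : i.1.1 ⊓ j.1.1 ≤ i.1.1)).op (sf i) =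
        F.presheaf.map (homOfLE (inf_le_right : i.1.1 ⊓ j.1.1 ≤ j.1.1)).op (sf j) := by
    intro i j
    apply res_injective F hF U h (i.1.1 ⊓ j.1.1)
    rw [res_res, res_res]
    have e1 : (i.1.1 ⊓ j.1.1) ⊓ U ≤ i.1.1 ⊓ U := inf_le_inf_right U inf_le_left
    have e2 : (i.1.1 ⊓ j.1.1) ⊓ U ≤ j.1.1 ⊓ U := inf_le_inf_right U inf_le_right
    have h1 := congrArg (F.presheaf.map (homOfLE e1).op) (hsf i)
    have h2 := congrArg (F.presheaf.map (homOfLE e2).op) (hsf j)
    rw [res_res, res_res] at h1 h2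
    exact h1.trans h2.symm
  obtain ⟨s, hs, -⟩ := TopCat.Sheaf.existsUnique_gluing' ⟨_, F.isSheaf⟩
    (fun i : {W : X.affineOpens // W.1 ≤ V} => i.1.1) V
    (fun i => homOfLE i.2) (Groth.Agent.H1.Depth2Ext.le_iSup_affine V) sf
    (fun i j => hcompat i j)
  refine ⟨s, ?_⟩
  refine section_ext_of_cover F (fun i : {W : X.affineOpens // W.1 ≤ V} => i.1.1 ⊓ U)
    (fun i => inf_le_inf_right U i.2) ?_ _ _ ?_
  · rintro x ⟨hxV, hxU⟩
    have := Groth.Agent.H1.Depth2Ext.le_iSup_affine V hxV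
    rw [Opens.mem_iSup] at this ⊢
    obtain ⟨i, hi⟩ := this
    exact ⟨i, hi, hxU⟩
  · intro i
    rw [res_res, ← hsf i]
    have hsi : F.presheaf.map (homOfLE i.2).op s = sf i := hs i
    rw [← hsi, res_res]

end Depth

/-- EGA IV 5.10.5 / Hartshorne's depth-two extension for coherent modules. -/
theorem s1575 (X : Scheme.{u}) [IsLocallyNoetherian X]
    (F : X.Modules) (hF : Coh.IsCoh F) (U : X.Opens)
    (hdepth : ∀ x : X, x ∉ U →
      2 ≤ LocCoh.depth (X.presheaf.stalk x) (F.presheaf.stalk x)) (V : X.Opens) :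
    Function.Bijective (F.val.presheaf.map (homOfLE (inf_le_left : V ⊓ U ≤ V)).op) := by
  haveI : F.IsQuasicoherent := hF.1
  exact res_bijective F hF.2 U hdepth V

end Groth.Agent.H1.Depth2Coh
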