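import Mathlib
import Groth.Agent.Lib.Helper1.Depth2Coh
import Groth.Agent.Lib.Lead.QC.SubExt

/-! Consequences of the depth-two extension of sections of coherent modules. -/

universe u
set_option backward.isDefEq.respectTransparency.types false
set_option linter.style.haveILetI false
open CategoryTheory AlgebraicGeometry TopologicalSpace Opposite
open Groth.Agent.LD.QC

namespace Groth.Agent.H1.Depth2Coh

variable {X : Scheme.{u}} [IsLocallyNoetherian X]

/-- `F → j_* j^* F` is an isomorphism when `F` has depth at least two outside `U`. -/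
theorem isIso_unit (F : X.Modules) (hF : Coh.IsCoh F) (U : X.Opens)
    (hdepth : ∀ x : X, x ∉ U →
      (2 : ℕ∞) ≤ LocCoh.depth (X.presheaf.stalk x) (F.presheaf.stalk x)) :
    IsIso ((Scheme.Modules.restrictAdjunction U.ι).unit.app F) := by
  haveI : F.IsQuasicoherent := hF.1
  apply isIso_of_bijective_app
  intro W
  rw [Scheme.Modules.restrictAdjunction_unit_app_app]
  refine bijective_res_of_eq F (inf_le_left : W ⊓ U ≤ W) _ rfl ?_
    (res_bijective F hF.2 U hdepth W)
  rw [Scheme.Hom.image_preimage_eq_opensRange_inf, Scheme.Opens.opensRange_ι, inf_comm]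

/-- restriction of homomorphisms into a module of depth at least two outside `U` is bijective. -/
theorem s14995 (Y : Scheme.{u}) [IsLocallyNoetherian Y]
    (E F : Y.Modules) (hE : Coh.IsCoh E) (hF : Coh.IsCoh F) (U : Y.Opens)
    (hdepth : ∀ y : Y, y ∉ U →
      (2 : ℕ∞) ≤ LocCoh.depth (Y.presheaf.stalk y) (E.presheaf.stalk y)) :
    Function.Bijective (fun φ : F ⟶ E => (Scheme.Modules.restrictFunctor U.ι).map φ) := by
  haveI := isIso_unit E hE U hdepth
  set adj := Scheme.Modules.restrictAdjunction U.ι with hadj
  have key : ∀ φ : F ⟶ E, (Scheme.Modules.restrictFunctor U.ι).map φ =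
      (adj.homEquiv F ((Scheme.Modules.restrictFunctor U.ι).obj E)).symm (φ ≫ adj.unit.app E) := by
    intro φ
    rw [Equiv.eq_symm_apply, Adjunction.homEquiv_unit]
    exact (adj.unit.naturality φ).symm
  have h1 : Function.Bijective (fun φ : F ⟶ E => φ ≫ adj.unit.app E) := by
    constructor
    · intro a b hab
      exact (cancel_mono (adj.unit.app E)).mp hab
    · intro g
      exact ⟨g ≫ inv (adj.unit.app E), by simp⟩
  have h2 := (adj.homEquiv F ((Scheme.Modules.restrictFunctor U.ι).obj E)).symm.bijective.comp h1
  convert h2 using 1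
  funext φ
  exact key φ

end Groth.Agent.H1.Depth2Coh
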