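import Mathlib
open Polynomial

/-! Helper1: basic permanence properties of `HenselianRing`. -/


namespace Groth.Agent.H1

/-- A ring is adically complete w.r.t. a nilpotent ideal. -/
theorem isAdicComplete_of_pow_eq_bot {R : Type*} [CommRing R] (I : Ideal R) (n : ℕ) (hn : I ^ n = ⊥) :
    IsAdicComplete I R where
  haus' x hx := by
    have := hx n
    simpa [hn, SModEq.zero] using this
  prec' f hf := by
    refine ⟨f n, fun k => ?_⟩
    rcases le_total k n with hk | hk
    · exact hf hk
    · have := hf hk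
      rw [hn] at this
      simp only [smul_eq_mul, Ideal.mul_top] at this
      rw [SModEq.sub_mem, Submodule.mem_bot, sub_eq_zero] at this
      rw [this]

theorem le_jacobson_bot_of_forall_isNilpotent {A : Type*} [CommRing A] (I : Ideal A)
    (hI : ∀ x ∈ I, IsNilpotent x) : I ≤ Ideal.jacobson ⊥ := by
  intro x hx
  rw [Ideal.mem_jacobson_bot]
  intro y
  exact (hI _ (I.mul_mem_right y hx)).isUnit_add_one

theorem henselianRing_of_forall_isNilpotent {A : Type*} [CommRing A] (I : Ideal A)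
    (hI : ∀ x ∈ I, IsNilpotent x) : HenselianRing A I where
  jac := le_jacobson_bot_of_forall_isNilpotent I hI
  is_henselian f hf a₀ h₁ h₂ := by
    obtain ⟨n, hn⟩ := hI _ h₁
    let I₀ : Ideal A := Ideal.span {f.eval a₀}
    have hI₀ : I₀ ^ n = ⊥ := by
      simp only [I₀, Ideal.span_singleton_pow, hn]
      simp
    have := isAdicComplete_of_pow_eq_bot I₀ n hI₀
    have hle : I₀ ≤ I := by
      rw [Ideal.span_le]; simpa using h₁
    have hu : IsUnit (f.derivative.eval a₀) := by
      have := isLocalHom_of_le_jacobson_bot I (le_jacobson_bot_of_forall_isNilpotent I hI)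
      exact IsUnit.of_map (Ideal.Quotient.mk I) _ h₂
    obtain ⟨a, ha, ha'⟩ := HenselianRing.is_henselian (I := I₀) f hf a₀
      (Ideal.mem_span_singleton_self _) (hu.map _)
    exact ⟨a, ha, hle ha'⟩

end Groth.Agent.H1

namespace Groth.Agent.H1

theorem henselianLocalRing_of_henselianRing_maximalIdeal (R : Type*) [CommRing R] [IsLocalRing R]
    [h : HenselianRing R (IsLocalRing.maximalIdeal R)] : HenselianLocalRing R where
  is_henselian f hf a₀ h₁ h₂ :=
    HenselianRing.is_henselian (I := IsLocalRing.maximalIdeal R) f hf a₀ h₁ (h₂.map _)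

theorem henselianLocalRing_of_ringKrullDim_eq_zero (R : Type*) [CommRing R] [IsLocalRing R]
    (h : ringKrullDim R = 0) : HenselianLocalRing R := by
  have : Ring.KrullDimLE 0 R := ringKrullDimZero_iff_ringKrullDim_eq_zero.mpr h
  have := henselianRing_of_forall_isNilpotent (IsLocalRing.maximalIdeal R)
    (fun x hx => Ring.KrullDimLE.isNilpotent_iff_mem_maximalIdeal.mpr hx)
  exact henselianLocalRing_of_henselianRing_maximalIdeal R

end Groth.Agent.H1

namespace Groth.Agent.H1

theorem isUnit_quotient_mk_iff {A : Type*} [CommRing A] (I : Ideal A) (x : A) :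
    IsUnit (Ideal.Quotient.mk I x) ↔ ∃ b, x * b - 1 ∈ I := by
  rw [isUnit_iff_exists_inv]
  constructor
  · rintro ⟨b, hb⟩
    obtain ⟨b, rfl⟩ := Ideal.Quotient.mk_surjective b
    refine ⟨b, ?_⟩
    rwa [← Ideal.Quotient.eq, map_mul, map_one]
  · rintro ⟨b, hb⟩
    refine ⟨Ideal.Quotient.mk I b, ?_⟩
    rwa [← map_mul, ← map_one (Ideal.Quotient.mk I), Ideal.Quotient.eq]

/-- Key uniqueness-type refinement: a root `a` close to `a₀` modulo the Jacobson radical is as close
to `a₀` as `f a₀` is small. -/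
theorem sub_mem_of_isRoot_of_sub_mem_jacobson {A : Type*} [CommRing A] (I J : Ideal A)
    (hJ : J ≤ Ideal.jacobson ⊥) (f : A[X]) (a a₀ : A) (ha : f.IsRoot a) (haJ : a - a₀ ∈ J)
    (h₁ : f.eval a₀ ∈ I) (hu : IsUnit (f.derivative.eval a₀)) : a - a₀ ∈ I := by
  obtain ⟨k, hk⟩ := f.binomExpansion a₀ (a - a₀)
  rw [add_sub_cancel, ha.eq_zero] at hk
  set y := a - a₀ with hy
  set u := f.derivative.eval a₀ with hu'
  have hunit : IsUnit (u + k * y) := by
    obtain ⟨v, hv⟩ := hu
    have h1 : IsUnit (y * ((↑v⁻¹ : A) * k) + 1) := (Ideal.mem_jacobson_bot.mp (hJ haJ)) _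
    have : u + k * y = (v : A) * (y * ((↑v⁻¹ : A) * k) + 1) := by
      rw [← hv]; ring_nf
      have : (v : A) * (↑v⁻¹ : A) = 1 := by simp
      linear_combination (-(y * k)) * this
    rw [this]
    exact v.isUnit.mul h1
  have hmem : y * (u + k * y) ∈ I := by
    have : y * (u + k * y) = - f.eval a₀ := by linear_combination -hk
    rw [this]
    exact I.neg_mem h₁
  exact (Ideal.mul_unit_mem_iff_mem I hunit).mp hmem

theorem HenselianRing.of_le {A : Type*} [CommRing A] {I J : Ideal A} (hIJ : I ≤ J)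
    [hJ : HenselianRing A J] : HenselianRing A I where
  jac := hIJ.trans hJ.jac
  is_henselian f hf a₀ h₁ h₂ := by
    have hu : IsUnit (f.derivative.eval a₀) := by
      have := isLocalHom_of_le_jacobson_bot I (hIJ.trans hJ.jac)
      exact IsUnit.of_map (Ideal.Quotient.mk I) _ h₂
    obtain ⟨a, ha, ha'⟩ := hJ.is_henselian f hf a₀ (hIJ h₁) (hu.map _)
    exact ⟨a, ha, sub_mem_of_isRoot_of_sub_mem_jacobson I J hJ.jac f a a₀ ha ha' h₁ hu⟩

theorem map_le_jacobson_bot {A : Type*} [CommRing A] (I J : Ideal A) (hJ : J ≤ Ideal.jacobson ⊥) :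
    Ideal.map (Ideal.Quotient.mk I) J ≤ Ideal.jacobson ⊥ := by
  intro x hx
  rw [Ideal.mem_map_iff_of_surjective _ Ideal.Quotient.mk_surjective] at hx
  obtain ⟨x, hx, rfl⟩ := hx
  rw [Ideal.mem_jacobson_bot]
  intro y
  obtain ⟨y, rfl⟩ := Ideal.Quotient.mk_surjective y
  rw [← map_mul, ← map_one (Ideal.Quotient.mk I), ← map_add]
  exact (Ideal.mem_jacobson_bot.mp (hJ hx) y).map _

theorem mem_of_mk_mem_map {A : Type*} [CommRing A] {I J : Ideal A} (hIJ : I ≤ J) {x : A}
    (hx : Ideal.Quotient.mk I x ∈ Ideal.map (Ideal.Quotient.mk I) J) : x ∈ J := by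
  rw [Ideal.mem_map_iff_of_surjective _ Ideal.Quotient.mk_surjective] at hx
  obtain ⟨y, hy, hxy⟩ := hx
  rw [Ideal.Quotient.eq] at hxy
  have : x = y - (y - x) := by ring
  rw [this]
  exact J.sub_mem hy (hIJ hxy)

theorem HenselianRing.quotient_of_le {A : Type*} [CommRing A] {I J : Ideal A} (hIJ : I ≤ J)
    [hJ : HenselianRing A J] : HenselianRing (A ⧸ I) (Ideal.map (Ideal.Quotient.mk I) J) where
  jac := map_le_jacobson_bot I J hJ.jac
  is_henselian fbar hfbar abar₀ h₁ h₂ := by
    obtain ⟨f, rfl, -, hf⟩ := Polynomial.lifts_and_natDegree_eq_and_monic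
      ((Polynomial.mem_lifts _).mpr (Polynomial.map_surjective _ Ideal.Quotient.mk_surjective fbar)) hfbar
    obtain ⟨a₀, rfl⟩ := Ideal.Quotient.mk_surjective abar₀
    rw [Polynomial.eval_map, Polynomial.eval₂_at_apply] at h₁
    rw [Polynomial.derivative_map, Polynomial.eval_map, Polynomial.eval₂_at_apply] at h₂
    have h₁' : f.eval a₀ ∈ J := mem_of_mk_mem_map hIJ h₁
    have h₂' : IsUnit (Ideal.Quotient.mk J (f.derivative.eval a₀)) := by
      rw [isUnit_quotient_mk_iff] at h₂ ⊢
      obtain ⟨b, hb⟩ := h₂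
      obtain ⟨b, rfl⟩ := Ideal.Quotient.mk_surjective b
      refine ⟨b, mem_of_mk_mem_map hIJ ?_⟩
      simpa using hb
    obtain ⟨a, ha, ha'⟩ := hJ.is_henselian f hf a₀ h₁' h₂'
    refine ⟨Ideal.Quotient.mk I a, ?_, ?_⟩
    · rw [Polynomial.IsRoot, Polynomial.eval_map, Polynomial.eval₂_at_apply, ha.eq_zero, map_zero]
    · rw [← map_sub]
      exact Ideal.mem_map_of_mem _ ha'

theorem HenselianRing.of_quotient {A : Type*} [CommRing A] {I J : Ideal A} (hIJ : I ≤ J)
    [hI : HenselianRing A I] [hJ : HenselianRing (A ⧸ I) (Ideal.map (Ideal.Quotient.mk I) J)] :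
    HenselianRing A J := by
  have hlocI := isLocalHom_of_le_jacobson_bot I hI.jac
  have hjac : J ≤ Ideal.jacobson ⊥ := by
    intro x hx
    rw [Ideal.mem_jacobson_bot]
    intro y
    have : IsUnit (Ideal.Quotient.mk I (x * y + 1)) := by
      rw [map_add, map_mul, map_one]
      exact Ideal.mem_jacobson_bot.mp (hJ.jac (Ideal.mem_map_of_mem _ hx)) _
    exact IsUnit.of_map (Ideal.Quotient.mk I) _ this
  have hlocJ := isLocalHom_of_le_jacobson_bot J hjac
  refine ⟨hjac, fun f hf a₀ h₁ h₂ => ?_⟩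
  have hu : IsUnit (f.derivative.eval a₀) := IsUnit.of_map (Ideal.Quotient.mk J) _ h₂
  obtain ⟨abar, habar, habar'⟩ := hJ.is_henselian (f.map (Ideal.Quotient.mk I)) (hf.map _)
    (Ideal.Quotient.mk I a₀)
    (by rw [Polynomial.eval_map, Polynomial.eval₂_at_apply]; exact Ideal.mem_map_of_mem _ h₁)
    (by rw [Polynomial.derivative_map, Polynomial.eval_map, Polynomial.eval₂_at_apply]
        exact (hu.map _).map _)
  rw [Ideal.mem_map_iff_of_surjective _ Ideal.Quotient.mk_surjective] at habar'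
  obtain ⟨j, hj, hj'⟩ := habar'
  have hbar : abar = Ideal.Quotient.mk I (a₀ + j) := by
    rw [map_add, hj']; ring
  subst hbar
  rw [Polynomial.IsRoot, Polynomial.eval_map, Polynomial.eval₂_at_apply,
    Ideal.Quotient.eq_zero_iff_mem] at habar
  have hu₁ : IsUnit (f.derivative.eval (a₀ + j)) := by
    apply IsUnit.of_map (Ideal.Quotient.mk J)
    have : Ideal.Quotient.mk J (f.derivative.eval (a₀ + j)) =
        Ideal.Quotient.mk J (f.derivative.eval a₀) := by
      rw [← Polynomial.eval₂_at_apply, ← Polynomial.eval₂_at_apply, map_add,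
        Ideal.Quotient.eq_zero_iff_mem.mpr hj, add_zero]
    rw [this]
    exact h₂
  obtain ⟨a, ha, ha'⟩ := hI.is_henselian f hf (a₀ + j) habar (hu₁.map _)
  refine ⟨a, ha, ?_⟩
  have : a - a₀ = (a - (a₀ + j)) + j := by ring
  rw [this]
  exact J.add_mem (hIJ ha') hj

theorem henselianRing_iff_of_le {A : Type*} [CommRing A] (I J : Ideal A) (hIJ : I ≤ J) :
    HenselianRing A J ↔
      (HenselianRing A I ∧ HenselianRing (A ⧸ I) (Ideal.map (Ideal.Quotient.mk I) J)) :=
  ⟨fun _ => ⟨HenselianRing.of_le hIJ, HenselianRing.quotient_of_le hIJ⟩,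
    fun ⟨_, _⟩ => HenselianRing.of_quotient hIJ⟩

end Groth.Agent.H1

namespace Groth.Agent.H1

theorem henselianRing_radical_iff {A : Type*} [CommRing A] (I : Ideal A) :
    HenselianRing A I.radical ↔ HenselianRing A I := by
  constructor
  · intro _
    exact HenselianRing.of_le Ideal.le_radical
  · intro _
    have : HenselianRing (A ⧸ I) (Ideal.map (Ideal.Quotient.mk I) I.radical) := by
      apply henselianRing_of_forall_isNilpotent
      intro x hx
      rw [Ideal.mem_map_iff_of_surjective _ Ideal.Quotient.mk_surjective] at hx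
      obtain ⟨x, ⟨n, hn⟩, rfl⟩ := hx
      exact ⟨n, by rw [← map_pow, Ideal.Quotient.eq_zero_iff_mem.mpr hn]⟩
    exact HenselianRing.of_quotient (I := I) Ideal.le_radical

theorem henselianRing_iff_of_radical_eq {A : Type*} [CommRing A] (I J : Ideal A)
    (h : I.radical = J.radical) : HenselianRing A I ↔ HenselianRing A J := by
  rw [← henselianRing_radical_iff I, ← henselianRing_radical_iff J, h]

end Groth.Agent.H1
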