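import Mathlib
open Submodule

/-! Helper1: adic completeness helpers. -/


namespace Groth.Agent.H1

theorem isPrecomplete_fin_pi {R : Type*} [CommRing R] (I : Ideal R) [IsPrecomplete I R] (n : ℕ) :
    IsPrecomplete I (Fin n → R) := by
  rw [← AdicCompletion.of_surjective_iff]
  intro y
  have hz : ∀ j, ∃ x : R, AdicCompletion.of I R x = AdicCompletion.piEquivFin I n y j :=
    fun j => AdicCompletion.of_surjective I R _
  choose x hx using hz
  refine ⟨x, ?_⟩
  apply (AdicCompletion.piEquivFin I n).injective
  funext j
  rw [← hx j, AdicCompletion.piEquivFin_apply]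
  simp [AdicCompletion.pi, AdicCompletion.map_of]

theorem module_finite_of_isHausdorff_of_quotient_finite {R : Type*} [CommRing R]
    (I : Ideal R) [IsPrecomplete I R] (M : Type*) [AddCommGroup M] [Module R M] [IsHausdorff I M]
    (h : Module.Finite R (M ⧸ (I • ⊤ : Submodule R M))) : Module.Finite R M := by
  obtain ⟨n, s, hs⟩ := Module.Finite.exists_fin (R := R) (M := M ⧸ (I • ⊤ : Submodule R M))
  have hm : ∀ i, ∃ m : M, (I • ⊤ : Submodule R M).mkQ m = s i := fun i => mkQ_surjective _ _
  choose m hm using hm
  let f : (Fin n → R) →ₗ[R] M := Fintype.linearCombination R m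
  have := isPrecomplete_fin_pi I n
  have hsurj : Function.Surjective ((I • ⊤ : Submodule R M).mkQ ∘ₗ f) := by
    rw [← LinearMap.range_eq_top, eq_top_iff, ← hs, span_le]
    rintro _ ⟨i, rfl⟩
    refine ⟨Pi.single i 1, ?_⟩
    simp [f, hm]
  have hf : Function.Surjective f := surjective_of_mkQ_comp_surjective (I := I) hsurj
  exact Module.Finite.of_surjective f hf

end Groth.Agent.H1
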