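import Mathlib
import Groth.Prelude.Def_Curves

set_option autoImplicit false

namespace Groth.Agent.H1.CiFields

open MvPolynomial

section coeffMap

variable {K : Type*} [CommRing K] {R : Type*} [CommRing R] [Algebra K R] {σ : Type*}

/-- Coefficientwise application of a `K`-linear functional. -/
noncomputable def coeffMap (φ : R →ₗ[K] K) (F : MvPolynomial σ R) : MvPolynomial σ K :=
  AddMonoidAlgebra.map φ.toAddMonoidHom F

lemma coeff_coeffMap (φ : R →ₗ[K] K) (F : MvPolynomial σ R) (m : σ →₀ ℕ) :
    coeff m (coeffMap φ F) = φ (coeff m F) := by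
  unfold coeffMap MvPolynomial.coeff
  rw [AddMonoidAlgebra.coeff_map]
  rfl

lemma coeffMap_add (φ : R →ₗ[K] K) (F G : MvPolynomial σ R) :
    coeffMap φ (F + G) = coeffMap φ F + coeffMap φ G :=
  AddMonoidAlgebra.map_add _ _ _

lemma coeffMap_monomial (φ : R →ₗ[K] K) (m : σ →₀ ℕ) (c : R) :
    coeffMap φ (monomial m c) = monomial m (φ c) := by
  classical
  ext m'
  rw [coeff_coeffMap, coeff_monomial, coeff_monomial]
  split_ifs <;> simp

lemma coeffMap_isHomogeneous (φ : R →ₗ[K] K) {F : MvPolynomial σ R} {d : ℕ}
    (hF : F.IsHomogeneous d) : (coeffMap φ F).IsHomogeneous d := by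
  intro m hm
  apply hF
  intro h
  apply hm
  rw [coeff_coeffMap, h, map_zero]

lemma eval_coeffMap (φ : R →ₗ[K] K) (F : MvPolynomial σ R) (y : σ → K) :
    eval y (coeffMap φ F) = φ (eval (fun s => algebraMap K R (y s)) F) := by
  induction F using MvPolynomial.induction_on' with
  | monomial m c =>
    rw [coeffMap_monomial, eval_monomial, eval_monomial]
    have : (m.prod fun n e => (algebraMap K R (y n)) ^ e) = algebraMap K R (m.prod fun n e => y n ^ e) := by
      simp [Finsupp.prod, map_prod]
    rw [this, mul_comm c, ← Algebra.smul_def, map_smul, smul_eq_mul, mul_comm]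
  | add p q hp hq =>
    rw [coeffMap_add, map_add, hp, hq, map_add, map_add]

end coeffMap

section subst

variable {R : Type*} [CommRing R] {ι κ : Type*} [Fintype κ]

/-- Substitute `x_j = ∑_k w_k X_{(j,k)}`. -/
noncomputable def subst (w : κ → R) (f : MvPolynomial ι R) : MvPolynomial (ι × κ) R :=
  bind₁ (fun j => ∑ k, C (w k) * X (j, k)) f

lemma subst_isHomogeneous (w : κ → R) {f : MvPolynomial ι R} {d : ℕ} (hf : f.IsHomogeneous d) :
    (subst w f).IsHomogeneous d := by
  have := hf.aeval (S := R) (n := 1) (fun j => ∑ k, C (w k) * X ((j, k) : ι × κ)) (by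
    intro j
    apply IsHomogeneous.sum
    intro k _
    exact isHomogeneous_C_mul_X _ _)
  unfold subst
  simpa using this

lemma eval_subst (w : κ → R) (f : MvPolynomial ι R) (y : ι × κ → R) :
    eval y (subst w f) = eval (fun j => ∑ k, w k * y (j, k)) f := by
  unfold subst
  have h := aeval_bind₁ (S := R) y (fun j => ∑ k, C (w k) * X ((j, k) : ι × κ)) f
  simp only [aeval_eq_eval] at h
  rw [h]
  congr 2
  funext j
  simp

end subst

section general

open Curves

variable {K : Type*} [Field K]

lemma IsCi.general {i : ℕ} (hK : IsCi K i) {ι σ : Type*} [Fintype ι] [Fintype σ]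
    (f : ι → MvPolynomial σ K) (d : ι → ℕ) (hf : ∀ ρ, (f ρ).IsHomogeneous (d ρ))
    (hd : ∀ ρ, 0 < d ρ) (hlt : ∑ ρ, d ρ ^ i < Fintype.card σ) :
    ∃ a : σ → K, a ≠ 0 ∧ ∀ ρ, eval a (f ρ) = 0 := by
  classical
  let eι := Fintype.equivFin ι
  let eσ := Fintype.equivFin σ
  obtain ⟨a, ha, h0⟩ := hK (Fintype.card ι) (Fintype.card σ)
    (fun ρ => rename eσ (f (eι.symm ρ))) (fun ρ => d (eι.symm ρ))
    (fun ρ => (hf _).rename_isHomogeneous) (fun ρ => hd _) (by
      rw [← Equiv.sum_comp eι]
      simpa using hlt)
  refine ⟨a ∘ eσ, ?_, ?_⟩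
  · intro h
    apply ha
    funext j
    have := congrFun h (eσ.symm j)
    simpa using this
  · intro ρ
    have := h0 (eι ρ)
    simp only [Equiv.symm_apply_apply] at this
    rw [eval_rename] at this
    exact this

lemma IsCr.general {i : ℕ} (hK : IsCr K i) {σ : Type*} [Fintype σ]
    (f : MvPolynomial σ K) (d : ℕ) (hf : f.IsHomogeneous d)
    (hd : 0 < d) (hlt : d ^ i < Fintype.card σ) :
    ∃ a : σ → K, a ≠ 0 ∧ eval a f = 0 := by
  classical
  let eσ := Fintype.equivFin σ
  obtain ⟨a, ha, h0⟩ := hK (Fintype.card σ) d (rename eσ f) hf.rename_isHomogeneous hd hlt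
  refine ⟨a ∘ eσ, ?_, ?_⟩
  · intro h
    apply ha
    funext j
    have := congrFun h (eσ.symm j)
    simpa using this
  · rw [eval_rename] at h0
    exact h0

end general

section transfer

open Curves

variable {K : Type*} [Field K] {R : Type*} [CommRing R] [Algebra K R]

/-- Transfer of the `C_i` property (systems) along a finite family of `K`-linearly independent
elements `w` of a `K`-algebra `R`, with functionals detecting vanishing of the values. -/
theorem transfer {i : ℕ} (hK : IsCi K i) {ι κ σ : Type*} [Fintype ι] [Fintype κ] [Fintype σ]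
    (f : ι → MvPolynomial σ R) (d : ι → ℕ) (hf : ∀ ρ, (f ρ).IsHomogeneous (d ρ))
    (hd : ∀ ρ, 0 < d ρ) (w : κ → R) (hw : LinearIndependent K w)
    (mm : ι → ℕ) (φ : (ρ : ι) → Fin (mm ρ) → (R →ₗ[K] K))
    (hφ : ∀ ρ (y : σ × κ → K),
      (∀ l, φ ρ l (eval (fun j => ∑ k, w k * algebraMap K R (y (j, k))) (f ρ)) = 0) →
        eval (fun j => ∑ k, w k * algebraMap K R (y (j, k))) (f ρ) = 0)
    (hlt : ∑ ρ, mm ρ * d ρ ^ i < Fintype.card σ * Fintype.card κ) :
    ∃ a : σ → R, a ≠ 0 ∧ ∀ ρ, eval a (f ρ) = 0 := by
  classical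
  obtain ⟨y, hy, h0⟩ := IsCi.general hK (ι := Σ ρ : ι, Fin (mm ρ)) (σ := σ × κ)
    (fun p => coeffMap (φ p.1 p.2) (subst w (f p.1))) (fun p => d p.1)
    (fun p => coeffMap_isHomogeneous _ (subst_isHomogeneous w (hf p.1)))
    (fun p => hd p.1) (by
      rw [Fintype.sum_sigma]
      simpa using hlt)
  refine ⟨fun j => ∑ k, w k * algebraMap K R (y (j, k)), ?_, ?_⟩
  · intro h
    apply hy
    funext ⟨j, k⟩
    have hj := congrFun h j
    simp only [Pi.zero_apply] at hj
    have hj' : ∑ k, y (j, k) • w k = 0 := by
      rw [← hj]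
      apply Finset.sum_congr rfl
      intro k _
      rw [Algebra.smul_def, mul_comm]
    exact Fintype.linearIndependent_iff.mp hw (fun k => y (j, k)) hj' k
  · intro ρ
    apply hφ
    intro l
    have := h0 ⟨ρ, l⟩
    simp only at this
    rw [eval_coeffMap, eval_subst] at this
    exact this

/-- A finite extension of a `C_i` field (systems version) is `C_i`. -/
theorem isCi_of_finite {L : Type*} [Field L] [Algebra K L] [FiniteDimensional K L] {i : ℕ}
    (hK : IsCi K i) : IsCi L i := by
  intro r n f d hf hd hlt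
  let b := Module.finBasis K L
  have he : 0 < Module.finrank K L := Module.finrank_pos
  apply transfer hK f d hf hd b b.linearIndependent (fun _ => Module.finrank K L)
    (fun _ l => b.coord l)
  · intro ρ y h
    exact (Module.Basis.forall_coord_eq_zero_iff b).mp h
  · simp only [Fintype.card_fin]
    rw [← Finset.mul_sum, mul_comm]
    exact Nat.mul_lt_mul_of_pos_right hlt he

/-- An algebraic extension of a `C_i` field (systems version) is `C_i`. -/
theorem isCi_of_algebraic {L : Type*} [Field L] [Algebra K L] [Algebra.IsAlgebraic K L] {i : ℕ}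
    (hK : IsCi K i) : IsCi L i := by
  intro r n f d hf hd hlt
  classical
  let S : Set L := ⋃ ρ, ((f ρ).coeffs : Set L)
  have hSfin : S.Finite := Set.finite_iUnion (fun ρ => Finset.finite_toSet _)
  haveI : Finite S := hSfin.to_subtype
  let L' := IntermediateField.adjoin K S
  haveI : FiniteDimensional K L' :=
    IntermediateField.finiteDimensional_adjoin (fun x _ => Algebra.IsIntegral.isIntegral x)
  have hL' : IsCi L' i := isCi_of_finite hK
  have hf' : ∀ ρ, ∃ g : MvPolynomial (Fin n) L', map (algebraMap L' L) g = f ρ := by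
    intro ρ
    have : f ρ ∈ Set.range (map (algebraMap L' L)) := by
      rw [mem_range_map_iff_coeffs_subset]
      intro c hc
      exact ⟨⟨c, IntermediateField.subset_adjoin K S (Set.mem_iUnion.mpr ⟨ρ, hc⟩)⟩, rfl⟩
    exact this
  choose g hg using hf'
  obtain ⟨a, ha, h0⟩ := hL' r n g d
    (fun ρ => IsHomogeneous.of_map (algebraMap L' L).injective (by rw [hg ρ]; exact hf ρ)) hd hlt
  refine ⟨fun j => algebraMap L' L (a j), ?_, ?_⟩
  · intro h
    apply ha
    funext j
    have := congrFun h j
    simpa using this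
  · intro ρ
    rw [← hg ρ, eval_map]
    have := eval₂_comp (f := algebraMap L' L) (g := a) (p := g ρ)
    rw [Function.comp_def] at this
    rw [← this, h0 ρ, map_zero]

lemma isHomogeneous_det {σ : Type*} {e d : ℕ}
    (M : Matrix (Fin e) (Fin e) (MvPolynomial σ K)) (hM : ∀ k l, (M k l).IsHomogeneous d) :
    M.det.IsHomogeneous (e * d) := by
  rw [Matrix.det_apply]
  apply IsHomogeneous.sum
  intro τ _
  have h1 : (∏ i, M (τ i) i).IsHomogeneous (e * d) := by
    have := IsHomogeneous.prod Finset.univ (fun i => M (τ i) i) (fun _ => d) (fun i _ => hM _ _)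
    simpa using this
  rcases Int.units_eq_one_or (Equiv.Perm.sign τ) with h | h
  · rw [h, one_smul]; exact h1
  · rw [h, Units.neg_smul, one_smul]; exact h1.neg

/-- A finite extension of a field that is `C_1` (single forms) is `C_1`. -/
theorem isCr_one_of_finite {L : Type*} [Field L] [Algebra K L] [FiniteDimensional K L]
    (hK : IsCr K 1) : IsCr L 1 := by
  intro n d f hf hd hlt
  classical
  let b := Module.finBasis K L
  have he : 0 < Module.finrank K L := Module.finrank_pos
  let F := subst b f
  let M : Matrix (Fin (Module.finrank K L)) (Fin (Module.finrank K L))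
      (MvPolynomial (Fin n × Fin (Module.finrank K L)) K) :=
    Matrix.of fun k l => coeffMap ((b.coord k).comp (LinearMap.mulRight K (b l))) F
  have hN : M.det.IsHomogeneous (Module.finrank K L * d) :=
    isHomogeneous_det M (fun k l => coeffMap_isHomogeneous _ (subst_isHomogeneous b hf))
  have hev : ∀ y : Fin n × Fin (Module.finrank K L) → K, eval y M.det =
      Algebra.norm K (eval (fun j => ∑ k, b k * algebraMap K L (y (j, k))) f) := by
    intro y
    rw [Algebra.norm_eq_matrix_det b, RingHom.map_det]
    congr 1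
    ext k l
    simp only [RingHom.mapMatrix_apply, Matrix.map_apply, M, Matrix.of_apply]
    rw [eval_coeffMap, Algebra.leftMulMatrix_eq_repr_mul, eval_subst]
    simp
  obtain ⟨y, hy, h0⟩ := IsCr.general hK M.det (Module.finrank K L * d) hN (Nat.mul_pos he hd) (by
    simp only [pow_one, Fintype.card_prod, Fintype.card_fin] at hlt ⊢
    rw [mul_comm]
    exact Nat.mul_lt_mul_of_pos_right hlt he)
  refine ⟨fun j => ∑ k, b k * algebraMap K L (y (j, k)), ?_, ?_⟩
  · intro h
    apply hy
    funext ⟨j, k⟩
    have hj := congrFun h j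
    simp only [Pi.zero_apply] at hj
    have hj' : ∑ k, y (j, k) • b k = 0 := by
      rw [← hj]
      apply Finset.sum_congr rfl
      intro k _
      rw [Algebra.smul_def, mul_comm]
    exact Fintype.linearIndependent_iff.mp b.linearIndependent (fun k => y (j, k)) hj' k
  · rw [hev y] at h0
    exact Algebra.norm_eq_zero_iff.mp h0

end transfer

section ratfunc

open Curves Polynomial

variable {K : Type*} [Field K]

lemma natDegree_eval_le {σ : Type*} (g : MvPolynomial σ K[X]) {d c s : ℕ}
    (hg : g.IsHomogeneous d) (hc : ∀ m, (MvPolynomial.coeff m g).natDegree ≤ c)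
    (x : σ → K[X]) (hx : ∀ j, (x j).natDegree ≤ s) :
    (MvPolynomial.eval x g).natDegree ≤ c + s * d := by
  rw [MvPolynomial.eval_eq]
  apply natDegree_sum_le_of_forall_le
  intro m hm
  have hdeg : m.degree = d := by
    rw [Finsupp.degree_eq_weight_one]
    exact hg (MvPolynomial.mem_support_iff.mp hm)
  refine natDegree_mul_le.trans (add_le_add (hc m) ?_)
  refine (natDegree_prod_le _ _).trans ?_
  rw [← hdeg, Finsupp.degree_apply, Finset.mul_sum]
  apply Finset.sum_le_sum
  intro j _
  refine natDegree_pow_le.trans ?_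
  rw [mul_comm]
  exact Nat.mul_le_mul_right _ (hx j)

/-- polynomial-level statement -/
theorem exists_zero_polynomial {i : ℕ} (hK : IsCi K i) {r n : ℕ}
    (f : Fin r → MvPolynomial (Fin n) K[X]) (d : Fin r → ℕ)
    (hf : ∀ ρ, (f ρ).IsHomogeneous (d ρ)) (hd : ∀ ρ, 0 < d ρ)
    (hlt : ∑ ρ, d ρ ^ (i + 1) < n) :
    ∃ a : Fin n → K[X], a ≠ 0 ∧ ∀ ρ, MvPolynomial.eval a (f ρ) = 0 := by
  classical
  -- bound on the degrees of the coefficients
  let c : ℕ := Finset.univ.sup fun ρ => (f ρ).support.sup fun m => (MvPolynomial.coeff m (f ρ)).natDegree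
  have hc : ∀ ρ m, (MvPolynomial.coeff m (f ρ)).natDegree ≤ c := by
    intro ρ m
    by_cases hm : m ∈ (f ρ).support
    · exact (Finset.le_sup (f := fun m => (MvPolynomial.coeff m (f ρ)).natDegree) hm).trans
        (Finset.le_sup (f := fun ρ => (f ρ).support.sup fun m => (MvPolynomial.coeff m (f ρ)).natDegree)
          (Finset.mem_univ ρ))
    · rw [MvPolynomial.notMem_support_iff.mp hm]; simp
  let A : ℕ := ∑ ρ, d ρ ^ i
  let s : ℕ := (c + 1) * A
  have hw : LinearIndependent K (fun k : Fin (s + 1) => (X : K[X]) ^ (k : ℕ)) := by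
    have := (Polynomial.basisMonomials K).linearIndependent.comp (fun k : Fin (s + 1) => (k : ℕ))
      Fin.val_injective
    convert this using 1
    funext k
    simp [Polynomial.X_pow_eq_monomial]
  apply transfer hK f d hf hd (fun k : Fin (s + 1) => (X : K[X]) ^ (k : ℕ)) hw
    (fun ρ => c + s * d ρ + 1) (fun ρ l => Polynomial.lcoeff K (l : ℕ))
  · intro ρ y h
    set v := MvPolynomial.eval (fun j => ∑ k : Fin (s + 1), (X : K[X]) ^ (k : ℕ) *
      algebraMap K K[X] (y (j, k))) (f ρ) with hv
    have hdeg : v.natDegree ≤ c + s * d ρ := by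
      apply natDegree_eval_le _ (hf ρ) (hc ρ)
      intro j
      apply natDegree_sum_le_of_forall_le
      intro k _
      refine natDegree_mul_le.trans ?_
      rw [← Polynomial.C_eq_algebraMap, natDegree_C, add_zero]
      exact (natDegree_X_pow_le _).trans (Nat.lt_succ_iff.mp k.2)
    by_contra hne
    have h1 := h ⟨v.natDegree, Nat.lt_succ_of_le hdeg⟩
    simp only [Polynomial.lcoeff_apply] at h1
    exact hne (Polynomial.leadingCoeff_eq_zero.mp h1)
  · simp only [Fintype.card_fin]
    have hD : ∑ ρ, d ρ ^ (i + 1) + 1 ≤ n := hlt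
    have e1 : ∑ ρ, (c + s * d ρ + 1) * d ρ ^ i = (c + 1) * A + s * ∑ ρ, d ρ ^ (i + 1) := by
      rw [Finset.mul_sum, Finset.mul_sum, ← Finset.sum_add_distrib]
      apply Finset.sum_congr rfl
      intro ρ _
      ring
    rw [e1]
    have : (c + 1) * A = s := rfl
    rw [this]
    generalize (∑ ρ, d ρ ^ (i + 1)) = D at hD
    calc s + s * D < (D + 1) * (s + 1) := by ring_nf; omega
      _ ≤ n * (s + 1) := Nat.mul_le_mul_right _ hD

/-- If `K` is `C_i` then `K(T)` is `C_{i+1}` (systems version). -/
theorem isCi_succ_ratFunc {i : ℕ} (hK : IsCi K i) : IsCi (RatFunc K) (i + 1) := by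
  intro r n f d hf hd hlt
  classical
  let S : Finset (RatFunc K) := Finset.univ.biUnion fun ρ => (f ρ).coeffs
  obtain ⟨b, hb⟩ := IsLocalization.exist_integer_multiples_of_finset (nonZeroDivisors K[X]) S
  have hb0 : algebraMap K[X] (RatFunc K) (b : K[X]) ≠ 0 := by
    intro h
    have := (IsFractionRing.injective K[X] (RatFunc K)) (h.trans (map_zero _).symm)
    exact nonZeroDivisors.coe_ne_zero b this
  have hf' : ∀ ρ, ∃ g : MvPolynomial (Fin n) K[X],
      MvPolynomial.map (algebraMap K[X] (RatFunc K)) g =
        MvPolynomial.C (algebraMap K[X] (RatFunc K) (b : K[X])) * f ρ := by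
    intro ρ
    have : MvPolynomial.C (algebraMap K[X] (RatFunc K) (b : K[X])) * f ρ ∈
        Set.range (MvPolynomial.map (algebraMap K[X] (RatFunc K))) := by
      rw [MvPolynomial.mem_range_map_iff_coeffs_subset]
      intro x hx
      rw [Finset.mem_coe, MvPolynomial.mem_coeffs_iff] at hx
      obtain ⟨m, hm, rfl⟩ := hx
      rw [MvPolynomial.coeff_C_mul]
      have hm' : MvPolynomial.coeff m (f ρ) ∈ S := by
        rw [Finset.mem_biUnion]
        refine ⟨ρ, Finset.mem_univ _, ?_⟩
        rw [MvPolynomial.mem_coeffs_iff]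
        refine ⟨m, ?_, rfl⟩
        rw [MvPolynomial.mem_support_iff] at hm ⊢
        intro h
        apply hm
        rw [MvPolynomial.coeff_C_mul, h, mul_zero]
      obtain ⟨z, hz⟩ := hb _ hm'
      exact ⟨z, by rw [hz, Algebra.smul_def]⟩
    exact this
  choose g hg using hf'
  obtain ⟨a, ha, h0⟩ := exists_zero_polynomial hK g d
    (fun ρ => MvPolynomial.IsHomogeneous.of_map (IsFractionRing.injective K[X] (RatFunc K))
      (by rw [hg ρ]; exact (hf ρ).C_mul _)) hd hlt
  refine ⟨fun j => algebraMap K[X] (RatFunc K) (a j), ?_, ?_⟩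
  · intro h
    apply ha
    funext j
    have := congrFun h j
    exact (IsFractionRing.injective K[X] (RatFunc K)) (this.trans (map_zero _).symm)
  · intro ρ
    have h1 : MvPolynomial.eval (fun j => algebraMap K[X] (RatFunc K) (a j))
        (MvPolynomial.map (algebraMap K[X] (RatFunc K)) (g ρ)) = 0 := by
      rw [MvPolynomial.eval_map]
      have := MvPolynomial.eval₂_comp (f := algebraMap K[X] (RatFunc K)) (g := a) (p := g ρ)
      rw [Function.comp_def] at this
      rw [← this, h0 ρ, map_zero]
    rw [hg ρ, map_mul, MvPolynomial.eval_C] at h1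
    exact (mul_eq_zero.mp h1).resolve_left hb0

end ratfunc

section algclosed

open MvPolynomial in
theorem height_of_isMaximal.{u} (k : Type u) [Field k] (ι : Type) [Finite ι] :
    ∀ (M : Ideal (MvPolynomial ι k)), M.IsMaximal → M.height = Nat.card ι := by
  induction ι using Finite.induction_empty_option with
  | of_equiv e H =>
    intro M hM
    let e' := (renameEquiv k e).toRingEquiv
    have h1 : (M.comap e').IsMaximal := Ideal.comap_isMaximal_of_equiv e'
    have := H _ h1
    rw [RingEquiv.height_comap] at this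
    rw [this, Nat.card_congr e]
  | h_empty =>
    intro M hM
    have : IsField (MvPolynomial PEmpty k) :=
      (MulEquiv.isField (Field.toIsField k) (isEmptyRingEquiv k PEmpty).toMulEquiv)
    letI := this.toField
    have hM0 : M = ⊥ := by
      rcases Ideal.eq_bot_or_top M with h | h
      · exact h
      · exact absurd h hM.ne_top
    subst hM0
    simp
  | h_option IH =>
    rename_i α _
    intro M hM
    let e := (MvPolynomial.optionEquivLeft k α).toRingEquiv
    let P : Ideal (Polynomial (MvPolynomial α k)) := M.comap e.symm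
    have hP : P.IsMaximal := Ideal.comap_isMaximal_of_equiv e.symm
    have hPh : P.height = M.height := RingEquiv.height_comap e.symm M
    let p : Ideal (MvPolynomial α k) := P.comap Polynomial.C
    have hp : p.IsMaximal := Polynomial.isMaximal_comap_C_of_isJacobsonRing P
    haveI : P.LiesOver p := ⟨rfl⟩
    have := Polynomial.height_eq_height_add_one p P
    rw [← hPh, this, IH p hp]
    simp


theorem isCi_zero_of_isAlgClosed.{u} (k : Type u) [Field k] [IsAlgClosed k] : Curves.IsCi k 0 := by
  intro r n f d hf hd hlt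
  simp only [pow_zero, Finset.sum_const, Finset.card_univ, Fintype.card_fin, smul_eq_mul,
    mul_one] at hlt
  by_contra hcon
  push Not at hcon
  -- the maximal ideal at the origin
  let m : Ideal (MvPolynomial (Fin n) k) := MvPolynomial.vanishingIdeal k {(0 : Fin n → k)}
  have hm : m.IsMaximal := inferInstance
  have hfm : ∀ ρ, f ρ ∈ m := by
    intro ρ
    rw [MvPolynomial.mem_vanishingIdeal_singleton_iff]
    change MvPolynomial.eval 0 (f ρ) = 0
    rw [MvPolynomial.eval_zero, MvPolynomial.constantCoeff_eq]
    apply (hf ρ).coeff_eq_zero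
    simpa using (hd ρ).ne
  have hmin : m ∈ (Ideal.span (Set.range f)).minimalPrimes := by
    refine ⟨⟨hm.isPrime, Ideal.span_le.mpr (by rintro _ ⟨ρ, rfl⟩; exact hfm ρ)⟩, ?_⟩
    rintro p ⟨hp, hIp⟩ hpm
    -- every maximal ideal above `p` is `m`
    have key : ∀ M : Ideal (MvPolynomial (Fin n) k), M.IsMaximal → p ≤ M → M = m := by
      intro M hM hpM
      obtain ⟨a, rfl⟩ := MvPolynomial.eq_vanishingIdeal_singleton_of_isMaximal k hM
      have ha : a = 0 := by
        by_contra ha
        obtain ⟨ρ, hρ⟩ := hcon a ha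
        apply hρ
        have : f ρ ∈ MvPolynomial.vanishingIdeal k {a} :=
          hpM (hIp (Ideal.subset_span ⟨ρ, rfl⟩))
        rw [MvPolynomial.mem_vanishingIdeal_singleton_iff] at this
        exact this
      rw [ha]
    have hjac : p.jacobson = p := IsJacobsonRing.out inferInstance hp.isRadical
    rw [← hjac]
    apply le_sInf
    rintro M ⟨hpM, hM⟩
    rw [key M hM hpM]
  have h1 := Ideal.height_le_card_of_mem_minimalPrimes_span (Set.finite_range f) hmin
  rw [height_of_isMaximal k (Fin n) m hm] at h1
  have h2 : (Set.range f).ncard ≤ r := by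
    have := Set.ncard_image_le (f := f) (Set.finite_univ (α := Fin r))
    simpa [Set.ncard_univ] using this
  have h3 : (n : ℕ∞) ≤ r := by
    simp only [Nat.card_eq_fintype_card, Fintype.card_fin] at h1
    exact h1.trans (by exact_mod_cast h2)
  have : n ≤ r := by exact_mod_cast h3
  omega

end algclosed

section tsenlang

open Curves

lemma IsCi.mono {K : Type*} [Field K] {i i' : ℕ} (hK : IsCi K i) (h : i ≤ i') : IsCi K i' := by
  intro r n f d hf hd hlt
  apply hK r n f d hf hd
  refine lt_of_le_of_lt ?_ hlt
  apply Finset.sum_le_sum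
  intro ρ _
  exact Nat.pow_le_pow_right (hd ρ) h

lemma IsCi.of_ringEquiv {K K' : Type*} [Field K] [Field K'] (e : K ≃+* K') {i : ℕ}
    (hK : IsCi K i) : IsCi K' i := by
  intro r n f d hf hd hlt
  obtain ⟨a, ha, h0⟩ := hK r n (fun ρ => MvPolynomial.map (e.symm : K' →+* K) (f ρ)) d
    (fun ρ => (hf ρ).map _) hd hlt
  refine ⟨fun j => e (a j), ?_, ?_⟩
  · intro h
    apply ha
    funext j
    have := congrFun h j
    exact e.injective (this.trans (map_zero e).symm)
  · intro ρ
    have h1 : f ρ = MvPolynomial.map (e : K →+* K') (MvPolynomial.map (e.symm : K' →+* K) (f ρ)) := by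
      rw [MvPolynomial.map_map]
      simp [MvPolynomial.map_id]
    rw [h1, MvPolynomial.eval_map]
    have := MvPolynomial.eval₂_comp (f := (e : K →+* K')) (g := a)
      (p := MvPolynomial.map (e.symm : K' →+* K) (f ρ))
    rw [Function.comp_def] at this
    simp only [RingHom.coe_coe] at this
    rw [← this, h0 ρ, map_zero]

/-- Inductive form of Tsen–Lang: if `F` is `C_i` and `E` is algebraic over a subfield generated
over `F` by `j` elements, then `E` is `C_{i+j}`. -/
theorem isCi_add_of_algebraic_adjoin.{u} : ∀ (j : ℕ) (F : Type u) [Field F] (i : ℕ), IsCi F i →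
    ∀ (E : Type u) [Field E] [Algebra F E] (x : Fin j → E),
      Algebra.IsAlgebraic (IntermediateField.adjoin F (Set.range x)) E → IsCi E (i + j) := by
  intro j
  induction j with
  | zero =>
    intro F _ i hF E _ _ x halg
    haveI : Algebra.IsAlgebraic F E := by
      have h0 : Set.range x = ∅ := Set.range_eq_empty x
      rw [h0] at halg
      constructor
      intro z
      have hz := halg.isAlgebraic z
      refine hz.of_ringHom_of_comp_eq (algebraMap F (IntermediateField.adjoin F (∅ : Set E)))
        (RingHom.id E) ?_ Function.injective_id rfl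
      intro ⟨y, hy⟩
      rw [IntermediateField.adjoin_empty] at hy
      obtain ⟨y', rfl⟩ := IntermediateField.mem_bot.mp hy
      exact ⟨y', rfl⟩
    simpa using isCi_of_algebraic (L := E) hF
  | succ j IH =>
    intro F _ i hF E _ _ x halg
    let t : E := x 0
    let F' : IntermediateField F E := IntermediateField.adjoin F {t}
    have hF' : IsCi F' (i + 1) := by
      by_cases ht : IsAlgebraic F t
      · haveI : Algebra.IsAlgebraic F F' :=
          IntermediateField.isAlgebraic_adjoin_simple ht.isIntegral
        exact IsCi.mono (isCi_of_algebraic (L := F') hF) (Nat.le_succ i)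
      · exact IsCi.of_ringEquiv (RatFunc.algEquivOfTranscendental t ht).toRingEquiv
          (isCi_succ_ratFunc hF)
    have hsub : (IntermediateField.adjoin F (Set.range x) : Set E) ⊆
        IntermediateField.adjoin F' (Set.range (Fin.tail x)) := by
      rw [IntermediateField.adjoin_subset_adjoin_iff]
      constructor
      · rintro _ ⟨y, rfl⟩
        have : algebraMap F E y = algebraMap F' E (algebraMap F F' y) := rfl
        rw [this]
        exact (IntermediateField.adjoin F' (Set.range (Fin.tail x))).algebraMap_mem _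
      · rintro _ ⟨l, rfl⟩
        refine Fin.cases ?_ (fun l' => ?_) l
        · have : x 0 = algebraMap F' E ⟨t, IntermediateField.mem_adjoin_simple_self F t⟩ := rfl
          rw [this]
          exact (IntermediateField.adjoin F' (Set.range (Fin.tail x))).algebraMap_mem _
        · exact IntermediateField.subset_adjoin _ _ ⟨l', rfl⟩
    haveI : Algebra.IsAlgebraic (IntermediateField.adjoin F' (Set.range (Fin.tail x))) E := by
      let f : IntermediateField.adjoin F (Set.range x) →+*
          IntermediateField.adjoin F' (Set.range (Fin.tail x)) :=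
        { toFun := fun y => ⟨y.1, hsub y.2⟩
          map_one' := rfl
          map_mul' := fun _ _ => rfl
          map_zero' := rfl
          map_add' := fun _ _ => rfl }
      exact Algebra.IsAlgebraic.ringHom_of_comp_eq
        (R := IntermediateField.adjoin F (Set.range x))
        (S := IntermediateField.adjoin F' (Set.range (Fin.tail x))) (A := E) (B := E) f
        (RingHom.id E) (fun a b h => by
          have h' := congrArg Subtype.val h
          exact Subtype.ext h')
        Function.surjective_id rfl
    have := IH F' (i + 1) hF' E (Fin.tail x) inferInstance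
    rwa [add_assoc, add_comm 1 j] at this

/-- Tsen–Lang. -/
theorem tsen_lang.{u} (k : Type u) [Field k] [IsAlgClosed k] (K : Type u) [Field K] [Algebra k K]
    (j : ℕ) (hj : Algebra.trdeg k K = j) : IsCi K j := by
  obtain ⟨ι, x, hx⟩ := exists_isTranscendenceBasis' k K
  have hcard : Cardinal.mk ι = j := by rw [hx.cardinalMk_eq_trdeg, hj]
  obtain ⟨e⟩ := Cardinal.mk_eq_nat_iff.mp hcard
  have halg := hx.isAlgebraic_field
  have hrange : Set.range (x ∘ e.symm) = Set.range x := by
    rw [Set.range_comp, e.symm.surjective.range_eq, Set.image_univ]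
  rw [← hrange] at halg
  have := isCi_add_of_algebraic_adjoin j k 0 (isCi_zero_of_isAlgClosed k) K (x ∘ e.symm) halg
  simpa using this

end tsenlang

end Groth.Agent.H1.CiFields
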