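import Mathlib
import Groth.Agent.Lib.Helper7.Reg1

/-! Helper1: cotangent space bookkeeping for (regular) systems of parameters. -/

set_option autoImplicit false

universe u

open IsLocalRing

namespace Groth.Agent.H1.Reg

section

variable {R : Type u} [CommRing R] [IsLocalRing R] [IsNoetherianRing R]

/-- A generating family of `𝔪` with `dim 𝔪/𝔪²` elements has linearly independent classes. -/
theorem linearIndependent_toCotangent {ι : Type*} [Fintype ι] (v : ι → maximalIdeal R)
    (hv : Submodule.span R (Set.range v) = ⊤)
    (hcard : Fintype.card ι = Module.finrank (ResidueField R) (CotangentSpace R)) :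
    LinearIndependent (ResidueField R) (fun i => (maximalIdeal R).toCotangent (v i)) := by
  apply linearIndependent_of_top_le_span_of_card_eq_finrank _ hcard
  rw [top_le_iff]
  have : Set.range (fun i => (maximalIdeal R).toCotangent (v i)) =
      (maximalIdeal R).toCotangent '' Set.range v := by
    rw [← Set.range_comp]
    rfl
  rw [this, CotangentSpace.span_image_eq_top_iff]
  exact hv

/-- If the classes of the `v i` in `𝔪/𝔪²` are linearly independent and `∑ aᵢ vᵢ ∈ 𝔪²`, then all
`aᵢ ∈ 𝔪`. -/
theorem mem_maximalIdeal_of_sum_mem_sq {ι : Type*} [Fintype ι] (v : ι → maximalIdeal R)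
    (hli : LinearIndependent (ResidueField R) (fun i => (maximalIdeal R).toCotangent (v i)))
    (a : ι → R) (h : ∑ i, a i * (v i : R) ∈ maximalIdeal R ^ 2) (i : ι) :
    a i ∈ maximalIdeal R := by
  have hw : (maximalIdeal R).toCotangent (∑ i, a i • v i) = 0 := by
    rw [Ideal.toCotangent_eq_zero]
    have : ((∑ i, a i • v i : maximalIdeal R) : R) = ∑ i, a i * (v i : R) := by
      rw [Submodule.coe_sum]
      rfl
    rw [this]
    exact h
  rw [map_sum] at hw
  have hw' : ∑ i, (residue R (a i)) • (maximalIdeal R).toCotangent (v i) = 0 := by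
    rw [← hw]
    refine Finset.sum_congr rfl (fun i _ => ?_)
    rw [map_smul]
    exact IsScalarTower.algebraMap_smul (ResidueField R) (a i) _
  have := Fintype.linearIndependent_iff.mp hli (fun i => residue R (a i)) hw' i
  exact (residue_eq_zero_iff _).mp this

/-- Conversion: a family in `𝔪` generating the ideal `𝔪` spans `⊤` inside `𝔪`. -/
theorem span_range_eq_top_of_span_eq {ι : Type*} (v : ι → maximalIdeal R)
    (hv : Ideal.span (Set.range fun i => (v i : R)) = maximalIdeal R) :
    Submodule.span R (Set.range v) = ⊤ := by
  apply Submodule.map_injective_of_injective (Submodule.injective_subtype (maximalIdeal R))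
  rw [Submodule.map_span, Submodule.map_top, Submodule.range_subtype, ← Set.range_comp]
  exact hv

/-- Linearly independent classes in `𝔪/𝔪²` can be completed to a minimal generating family. -/
theorem exists_extension_generators (r : ℕ) (x : Fin r → maximalIdeal R)
    (hli : LinearIndependent (ResidueField R) (fun i => (maximalIdeal R).toCotangent (x i))) :
    ∃ (e : ℕ) (y : Fin e → maximalIdeal R),
      e + r = Module.finrank (ResidueField R) (CotangentSpace R) ∧
      Ideal.span (Set.range (fun i => (x i : R)) ∪ Set.range (fun j => (y j : R))) =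
        maximalIdeal R := by
  classical
  let W : Submodule (ResidueField R) (CotangentSpace R) :=
    Submodule.span (ResidueField R) (Set.range fun i => (maximalIdeal R).toCotangent (x i))
  have hW : Module.finrank (ResidueField R) W = r := by
    have := finrank_span_eq_card hli
    rwa [Fintype.card_fin] at this
  have he : Module.finrank (ResidueField R) (CotangentSpace R ⧸ W) + r =
      Module.finrank (ResidueField R) (CotangentSpace R) := by
    rw [← hW]
    exact Submodule.finrank_quotient_add_finrank W
  let bq := Module.finBasis (ResidueField R) (CotangentSpace R ⧸ W)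
  have hlift : ∀ j, ∃ y : maximalIdeal R, W.mkQ ((maximalIdeal R).toCotangent y) = bq j := by
    intro j
    obtain ⟨v, hv⟩ := W.mkQ_surjective (bq j)
    obtain ⟨y, hy⟩ := (maximalIdeal R).toCotangent_surjective v
    exact ⟨y, by rw [hy, hv]⟩
  choose y hy using hlift
  refine ⟨_, y, he, ?_⟩
  -- spanning
  have hspan : Submodule.span (ResidueField R)
      ((maximalIdeal R).toCotangent '' (Set.range x ∪ Set.range y)) = ⊤ := by
    rw [Set.image_union, Submodule.span_union, ← Set.range_comp, ← Set.range_comp]
    change W ⊔ _ = ⊤
    rw [← Submodule.map_mkQ_eq_top, Submodule.map_span, ← Set.range_comp]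
    have : (⇑W.mkQ ∘ ⇑(maximalIdeal R).toCotangent ∘ y) = bq := by
      funext j
      exact hy j
    rw [this]
    exact bq.span_eq
  rw [CotangentSpace.span_image_eq_top_iff] at hspan
  have := congrArg (Submodule.map (maximalIdeal R).subtype) hspan
  rw [Submodule.map_span, Submodule.map_top, Submodule.range_subtype, Set.image_union,
    ← Set.range_comp, ← Set.range_comp] at this
  exact this

/-- The maximal ideal of `R/J` is generated by the images of `y`, if `J = (x)` and `𝔪 = (x, y)`. -/
theorem spanFinrank_maximalIdeal_quotient_le {ι κ : Type*} [Fintype κ] (J : Ideal R)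
    [IsLocalRing (R ⧸ J)] (x : ι → R) (y : κ → R) (hJ : J = Ideal.span (Set.range x))
    (h : Ideal.span (Set.range x ∪ Set.range y) = maximalIdeal R) :
    (maximalIdeal (R ⧸ J)).spanFinrank ≤ Fintype.card κ := by
  classical
  have hsurj : Function.Surjective (Ideal.Quotient.mk J) := Ideal.Quotient.mk_surjective
  have h1 : (maximalIdeal (R ⧸ J)).comap (Ideal.Quotient.mk J) = maximalIdeal R := by
    haveI : IsLocalHom (Ideal.Quotient.mk J) := IsLocalHom.of_surjective _ hsurj
    exact IsLocalRing.maximalIdeal_comap (Ideal.Quotient.mk J)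
  have h2 : maximalIdeal (R ⧸ J) = Ideal.span (Set.range fun j => Ideal.Quotient.mk J (y j)) := by
    rw [← Ideal.map_comap_of_surjective _ hsurj (maximalIdeal (R ⧸ J)), h1, ← h, Ideal.map_span,
      Set.image_union, Ideal.span_union, ← Set.range_comp, ← Set.range_comp]
    have : Ideal.span (Set.range (⇑(Ideal.Quotient.mk J) ∘ x)) = ⊥ := by
      rw [Ideal.span_eq_bot]
      rintro _ ⟨i, rfl⟩
      rw [Function.comp_apply, Ideal.Quotient.eq_zero_iff_mem, hJ]
      exact Ideal.subset_span ⟨i, rfl⟩
    rw [this, bot_sup_eq]
    rfl
  rw [h2]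
  refine (Submodule.spanFinrank_span_le_ncard_of_finite (Set.finite_range _)).trans ?_
  rw [← Set.image_univ]
  refine (Set.ncard_image_le Set.finite_univ).trans ?_
  rw [Set.ncard_univ, Nat.card_eq_fintype_card]

end

end Groth.Agent.H1.Reg
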