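import Mathlib
import Groth.Agent.Lib.Helper1.RegRing
import Groth.Agent.Lib.Helper1.FlatDim
import Groth.Agent.S0543

/-! Helper1: regularity of adic completions of regular rings. -/

set_option autoImplicit false

universe u

open IsLocalRing

namespace Groth.Agent.H1.Reg

/-- Flat ascent with trivial closed fibre: if `A → B` is flat, `n = m B` for a prime `n` of `B`
lying over `m` and `A_m` is regular, then `B_n` is regular. -/
theorem isRegularLocalRing_localization_of_flat_of_map_eq (A B : Type u) [CommRing A] [CommRing B]
    [IsNoetherianRing B] [Algebra A B] [Module.Flat A B] (m : Ideal A) [m.IsPrime]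
    (n : Ideal B) [n.IsPrime] [n.LiesOver m] (hn : n = m.map (algebraMap A B))
    [IsRegularLocalRing (Localization.AtPrime m)] :
    IsRegularLocalRing (Localization.AtPrime n) := by
  letI := Localization.AtPrime.algebraOfLiesOver m n
  haveI : IsLocalHom (algebraMap (Localization.AtPrime m) (Localization.AtPrime n)) := by
    rw [RingHom.algebraMap_toAlgebra]
    exact Localization.isLocalHom_localRingHom m n (algebraMap A B) Ideal.LiesOver.over
  have hmax : maximalIdeal (Localization.AtPrime n) =
      (maximalIdeal (Localization.AtPrime m)).map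
        (algebraMap (Localization.AtPrime m) (Localization.AtPrime n)) := by
    have h0 : Ideal.map (algebraMap B (Localization.AtPrime n)) n =
        Ideal.map (algebraMap B (Localization.AtPrime n)) (m.map (algebraMap A B)) :=
      congrArg (Ideal.map (algebraMap B (Localization.AtPrime n))) hn
    rw [← Localization.AtPrime.map_eq_maximalIdeal, ← Localization.AtPrime.map_eq_maximalIdeal,
      Ideal.map_map, ← IsScalarTower.algebraMap_eq, h0, Ideal.map_map,
      ← IsScalarTower.algebraMap_eq]
  apply IsRegularLocalRing.of_spanFinrank_maximalIdeal_le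
  have h1 : (maximalIdeal (Localization.AtPrime n)).spanFinrank ≤
      (maximalIdeal (Localization.AtPrime m)).spanFinrank := by
    rw [hmax]
    exact Ideal.spanFinrank_map_le_of_fg _ (IsNoetherian.noetherian _)
  have h2 := IsRegularLocalRing.spanFinrank_maximalIdeal (R := Localization.AtPrime m)
  have h3 := Groth.Agent.H1.FlatDim.ringKrullDim_le_of_flat_isLocalHom
    (Localization.AtPrime m) (Localization.AtPrime n)
  refine le_trans ?_ h3
  rw [← h2]
  exact_mod_cast h1

/-- Maximal ideals of the `J`-adic completion are extended from maximal ideals containing `J`. -/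
theorem exists_maximal_map_eq_of_adicCompletion (A : Type u) [CommRing A] [IsNoetherianRing A]
    (J : Ideal A) (n : Ideal (AdicCompletion J A)) [hn : n.IsMaximal] :
    ∃ m : Ideal A, m.IsMaximal ∧ J ≤ m ∧ n = m.map (algebraMap A (AdicCompletion J A)) := by
  have fg : J.FG := IsNoetherian.noetherian J
  haveI := AdicCompletion.isAdicComplete_self J fg
  have hJn : J.map (algebraMap A (AdicCompletion J A)) ≤ n := by
    refine (IsAdicComplete.le_jacobson_bot (J.map (algebraMap A (AdicCompletion J A)))).trans ?_
    exact sInf_le ⟨bot_le, hn⟩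
  have hsurj := AdicCompletion.evalOneₐ_surjective J
  have hker : RingHom.ker (AdicCompletion.evalOneₐ J).toRingHom ≤ n := by
    rw [AdicCompletion.ker_evalOneₐ_eq_map J fg]
    exact hJn
  have hnbar : (n.map (AdicCompletion.evalOneₐ J).toRingHom).IsMaximal :=
    Ideal.IsMaximal.map_of_surjective_of_ker_le hsurj hker
  have hncomap : (n.map (AdicCompletion.evalOneₐ J).toRingHom).comap
      (AdicCompletion.evalOneₐ J).toRingHom = n := by
    rw [Ideal.comap_map_of_surjective' (AdicCompletion.evalOneₐ J).toRingHom hsurj, sup_eq_left]
    exact hker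
  let m : Ideal A := (n.map (AdicCompletion.evalOneₐ J).toRingHom).comap (Ideal.Quotient.mk J)
  have hm : m.IsMaximal := Ideal.comap_isMaximal_of_surjective _ Ideal.Quotient.mk_surjective
  have hJm : J ≤ m := by
    intro a ha
    rw [Ideal.mem_comap, Ideal.Quotient.eq_zero_iff_mem.mpr ha]
    exact Ideal.zero_mem _
  refine ⟨m, hm, hJm, ?_⟩
  have hmap : m.map (Ideal.Quotient.mk J) = n.map (AdicCompletion.evalOneₐ J).toRingHom :=
    Ideal.map_comap_of_surjective _ Ideal.Quotient.mk_surjective _
  have mapeq : m.map (algebraMap A (AdicCompletion J A)) = (m.map (Ideal.Quotient.mk J)).comap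
      (AdicCompletion.evalOneₐ J).toRingHom := by
    rw [← AdicCompletion.evalOneₐ_comp_algebraMap_eq_mk, ← Ideal.map_map,
      Ideal.comap_map_of_surjective' (AdicCompletion.evalOneₐ J).toRingHom hsurj,
      eq_comm, sup_eq_left, AdicCompletion.ker_evalOneₐ_eq_map J fg]
    exact Ideal.map_mono hJm
  rw [mapeq, hmap, hncomap]

/-- The adic completion of a regular ring is regular. -/
theorem isRegularRing_adicCompletion (A : Type u) [CommRing A] [IsRegularRing A] (J : Ideal A) :
    IsRegularRing (AdicCompletion J A) := by
  haveI : IsNoetherianRing (AdicCompletion J A) := Groth.Agent.S0543.result A J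
  apply isRegularRing_of_maximal
  intro n hn
  obtain ⟨m, hm, hJm, hnm⟩ := exists_maximal_map_eq_of_adicCompletion A J n
  haveI : m.IsPrime := hm.isPrime
  haveI : n.IsPrime := hn.isPrime
  haveI : n.LiesOver m := by
    constructor
    have hle : m ≤ n.comap (algebraMap A (AdicCompletion J A)) := by
      rw [← Ideal.map_le_iff_le_comap, ← hnm]
    exact hm.eq_of_le (Ideal.comap_ne_top _ hn.ne_top) hle
  exact isRegularLocalRing_localization_of_flat_of_map_eq A (AdicCompletion J A) m n hnm

end Groth.Agent.H1.Reg
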