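import Mathlib
import Groth.Agent.Lib.Helper2.TorBalOne
import Groth.Agent.Lib.Helper2.TorBalLES
import Groth.Agent.Lib.Helper1.LocalCriterion
import Groth.Agent.Lib.Helper1.RegPd
import Groth.Agent.Lib.Helper1.RegSeq
import Groth.Agent.Lib.Helper6.CMKit

/-! Helper1: a sequence regular on `A` and on `M` has `Tor₁(A/(x), M) = 0`; miracle flatness. -/

set_option autoImplicit false

universe u

open CategoryTheory RingTheory.Sequence TensorProduct Pointwise
open Groth.Agent.H2.TorBal

namespace Groth.Agent.H1.Miracle

section Tor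

variable (A : Type u) [CommRing A] (M : Type u) [AddCommGroup M] [Module A M]

/-- `Tor₁(N, M) = 0`. -/
def P (N : Type u) [AddCommGroup N] [Module A N] : Prop :=
  Limits.IsZero (torObj 1 (ModuleCat.of A N) (ModuleCat.of A M))

variable {A M}

theorem P_of_linearEquiv {N N' : Type u} [AddCommGroup N] [Module A N] [AddCommGroup N']
    [Module A N'] (e : N ≃ₗ[A] N') (h : P A M N) : P A M N' :=
  h.of_iso (((Tor (ModuleCat.{u} A) 1).mapIso e.symm.toModuleIso).app (ModuleCat.of A M))

/-- The short exact sequence `0 → N → N → N/rN → 0` for `r` regular on `N`. -/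
theorem shortExact_smul {N : Type u} [AddCommGroup N] [Module A N] (r : A)
    (hr : IsSMulRegular N r) :
    (ModuleCat.shortComplexOfCompEqZero (LinearMap.lsmul A N r)
      (Submodule.mkQ (r • ⊤ : Submodule A N)) (by
        ext y
        simp only [LinearMap.comp_apply, LinearMap.lsmul_apply, Submodule.mkQ_apply,
          LinearMap.zero_apply, Submodule.Quotient.mk_eq_zero]
        exact Submodule.smul_mem_pointwise_smul y r ⊤ Submodule.mem_top)).ShortExact := by
  apply ModuleCat.shortComplex_shortExact
  · intro y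
    show Submodule.mkQ (r • ⊤ : Submodule A N) y = 0 ↔ y ∈ Set.range (LinearMap.lsmul A N r)
    rw [Submodule.mkQ_apply, Submodule.Quotient.mk_eq_zero, Submodule.mem_smul_pointwise_iff_exists]
    constructor
    · rintro ⟨z, -, rfl⟩
      exact ⟨z, rfl⟩
    · rintro ⟨z, rfl⟩
      exact ⟨z, Submodule.mem_top, rfl⟩
  · exact hr
  · exact Submodule.mkQ_surjective _

/-- If `Tor₁(N, M) = 0` and `r` is regular on `N` and on `N ⊗ M`, then `Tor₁(N/rN, M) = 0`. -/
theorem P_quotSMulTop {N : Type u} [AddCommGroup N] [Module A N] (r : A)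
    (hr : IsSMulRegular N r) (hrM : IsSMulRegular (N ⊗[A] M) r) (h : P A M N) :
    P A M (QuotSMulTop r N) := by
  obtain ⟨e⟩ := nonempty_tor_one_linearEquiv_ker _ (shortExact_smul r hr) (ModuleCat.of A M) h
  have hker : LinearMap.ker (LinearMap.rTensor M (LinearMap.lsmul A N r)) = ⊥ := by
    rw [LinearMap.ker_eq_bot]
    have : LinearMap.rTensor M (LinearMap.lsmul A N r) = LinearMap.lsmul A (N ⊗[A] M) r := by
      ext n m
      simp [TensorProduct.smul_tmul']
    rw [this]
    exact hrM
  rw [P, ModuleCat.isZero_iff_subsingleton]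
  have hsub : Subsingleton (LinearMap.ker (LinearMap.rTensor M (LinearMap.lsmul A N r))) := by
    rw [hker]; infer_instance
  exact e.toEquiv.subsingleton

/-- A sequence weakly regular on `N` and on `N ⊗ M` preserves the vanishing of `Tor₁(-, M)`. -/
theorem P_quot_ofList (xs : List A) : ∀ (N : Type u) [AddCommGroup N] [Module A N],
    P A M N → IsWeaklyRegular N xs → IsWeaklyRegular (N ⊗[A] M) xs →
      P A M (N ⧸ (Ideal.ofList xs • ⊤ : Submodule A N)) := by
  induction xs with
  | nil =>
    intro N _ _ h _ _
    have hbot : Ideal.ofList ([] : List A) • (⊤ : Submodule A N) = ⊥ := by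
      rw [Ideal.ofList_nil, Submodule.bot_smul]
    exact P_of_linearEquiv (Submodule.quotEquivOfEqBot _ hbot).symm h
  | cons r rs ih =>
    intro N _ _ h hN hNM
    rw [isWeaklyRegular_cons_iff] at hN hNM
    have h1 := P_quotSMulTop r hN.1 hNM.1 h
    have h2 : IsWeaklyRegular (QuotSMulTop r N ⊗[A] M) rs :=
      ((QuotSMulTop.quotSMulTopTensorEquivQuotSMulTop r M N).isWeaklyRegular_congr rs).mpr hNM.2
    have h3 := ih (QuotSMulTop r N) h1 hN.2 h2
    exact P_of_linearEquiv (Submodule.quotOfListConsSMulTopEquivQuotSMulTopInner N r rs).symm h3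

/-- If `xs` is weakly regular on `A` and on `M`, then `(xs) ⊗ M → M` is injective. -/
theorem rTensor_injective_of_isWeaklyRegular (M : Type u) [AddCommGroup M] [Module A M]
    (xs : List A) (hA : IsWeaklyRegular A xs) (hM : IsWeaklyRegular M xs) :
    Function.Injective ((Ideal.ofList xs).subtype.rTensor M) := by
  have hPA : P A M A := isZero_tor_succ_of_flat_left (ModuleCat.of A A) (ModuleCat.of A M) 0
  have hAM : IsWeaklyRegular (A ⊗[A] M) xs :=
    ((TensorProduct.lid A M).isWeaklyRegular_congr xs).mpr hM
  have h1 := P_quot_ofList xs A hPA hA hAM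
  have hI : (Ideal.ofList xs • ⊤ : Submodule A A) = Ideal.ofList xs := by
    rw [smul_eq_mul, Ideal.mul_top]
  have h2 : P A M (A ⧸ Ideal.ofList xs) := P_of_linearEquiv (Submodule.quotEquivOfEq _ _ hI) h1
  set I := Ideal.ofList xs
  have hS : (ModuleCat.shortComplexOfCompEqZero I.subtype I.mkQ (by
      ext y
      simp only [LinearMap.comp_apply, Submodule.subtype_apply, Submodule.mkQ_apply,
        LinearMap.zero_apply, Submodule.Quotient.mk_eq_zero]
      exact y.2)).ShortExact := by
    apply ModuleCat.shortComplex_shortExact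
    · exact LinearMap.exact_subtype_mkQ I
    · exact Submodule.injective_subtype I
    · exact Submodule.mkQ_surjective I
  obtain ⟨e⟩ := nonempty_tor_one_linearEquiv_ker _ hS (ModuleCat.of A M) hPA
  rw [P, ModuleCat.isZero_iff_subsingleton] at h2
  haveI := h2
  have hsub : Subsingleton (LinearMap.ker (LinearMap.rTensor M I.subtype)) :=
    e.symm.toEquiv.subsingleton
  rw [← LinearMap.ker_eq_bot]
  exact Submodule.eq_bot_of_subsingleton

end Tor

section Flat

open IsLocalRing

/-- If generators of the maximal ideal of the Noetherian local ring `A` form a sequence regular on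
`A` and on `M` (finite over a local Noetherian `A`-algebra `B`), then `M` is flat over `A`. -/
theorem flat_of_isWeaklyRegular {A B : Type u} [CommRing A] [CommRing B] [IsLocalRing A]
    [IsNoetherianRing A] [IsLocalRing B] [IsNoetherianRing B] [Algebra A B]
    [IsLocalHom (algebraMap A B)] (M : Type u) [AddCommGroup M] [Module A M] [Module B M]
    [IsScalarTower A B M] [Module.Finite B M] (xs : List A)
    (hxs : Ideal.ofList xs = maximalIdeal A) (hA : IsWeaklyRegular A xs)
    (hM : IsWeaklyRegular M xs) : Module.Flat A M := by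
  have h1 := rTensor_injective_of_isWeaklyRegular M xs hA hM
  rw [hxs] at h1
  letI := Ideal.Quotient.field (maximalIdeal A)
  haveI : Module.Flat (A ⧸ maximalIdeal A) ((A ⧸ maximalIdeal A) ⊗[A] M) := inferInstance
  exact Groth.Agent.H1.flat_of_isLocalHom_of_rTensor_injective (S := B) (maximalIdeal A)
    (maximalIdeal.isMaximal A).ne_top h1

/-- **Miracle flatness** for modules: `A` regular local, `A → B` local, `M` a finite
Cohen–Macaulay `B`-module with `dim M = dim A + dim M/𝔪_A M`; then `M` is flat over `A`. -/
theorem flat_of_cm {A B : Type u} [CommRing A] [CommRing B] [IsRegularLocalRing A]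
    [IsNoetherianRing B] [IsLocalRing B] [Algebra A B] [IsLocalHom (algebraMap A B)]
    (M : Type u) [AddCommGroup M] [Module B M] [Module A M] [IsScalarTower A B M]
    [Module.Finite B M] (hCM : LocCoh.IsCohenMacaulayModule B M)
    (hdim : Module.supportDim B M = ringKrullDim A + Module.supportDim B
      (M ⧸ ((maximalIdeal A).map (algebraMap A B) • ⊤ : Submodule B M))) :
    Module.Flat A M := by
  have hd : ringKrullDim A = ((maximalIdeal A).spanFinrank : ℕ) :=
    (IsRegularLocalRing.spanFinrank_maximalIdeal (R := A)).symm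
  set d := (maximalIdeal A).spanFinrank with hddef
  obtain ⟨x, hx⟩ := Groth.Agent.H1.Reg.exists_fin_span_eq_maximalIdeal A d hd
  have hreg := Groth.Agent.H1.Reg.isRegular_ofFn d hd x hx
  have hxs : Ideal.ofList (List.ofFn x) = maximalIdeal A := by
    rw [← hx]
    show Ideal.span {a | a ∈ List.ofFn x} = Ideal.span (Set.range x)
    congr 1
    ext a
    simp [List.mem_ofFn]
  set xs := List.ofFn x with hxsdef
  have hlen : xs.length = d := List.length_ofFn
  have hmap : Ideal.ofList (xs.map (algebraMap A B)) = (maximalIdeal A).map (algebraMap A B) := by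
    rw [← Ideal.map_ofList, hxs]
  have hmem : ∀ y ∈ xs.map (algebraMap A B), y ∈ maximalIdeal B := by
    intro y hy
    have h1 : y ∈ Ideal.ofList (xs.map (algebraMap A B)) := Ideal.subset_span hy
    rw [hmap] at h1
    exact ((IsLocalRing.local_hom_TFAE (algebraMap A B)).out 0 2 rfl rfl).mp inferInstance h1
  have hdim' : Module.supportDim B (M ⧸ (Ideal.ofList (xs.map (algebraMap A B)) • ⊤ :
      Submodule B M)) + ((xs.map (algebraMap A B)).length : ℕ) = Module.supportDim B M := by
    rw [hmap, List.length_map, hlen, hdim, hd, add_comm]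
  have hB := Groth.Agent.H6.CM.isWeaklyRegular_of_supportDim (xs.map (algebraMap A B)) M hCM
    hmem hdim'
  have hM : IsWeaklyRegular M xs := (isWeaklyRegular_map_algebraMap_iff B M xs).mp hB
  exact flat_of_isWeaklyRegular (B := B) M xs hxs hreg.toIsWeaklyRegular hM

end Flat

end Groth.Agent.H1.Miracle
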