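import Mathlib
import Groth.Agent.Lib.Helper5.SM.SM1
import Groth.Agent.Lib.Helper1.CMFlat
import Groth.Agent.Lib.Helper1.Depth2Coh2
import Groth.Agent.Lib.Helper6.ReflKer
import Groth.Agent.Lib.Lead.QC.Rank
import Groth.Agent.Lib.Lead.QC.LocFree
import Groth.Agent.Lib.Helper2.FibDepth

/-! Depth along closed subsets of fibrewise codimension `≥ d` for smooth morphisms; extension of
sections of finite locally free modules. -/

universe u
set_option backward.isDefEq.respectTransparency.types false
set_option linter.style.haveILetI false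
open CategoryTheory CategoryTheory.Limits AlgebraicGeometry TopologicalSpace Opposite

namespace Groth.Agent.H1.SmoothDepth

/-- the local rings of the spectrum of a field are regular. -/
theorem isRegularLocalRing_stalk_spec_field (K : Type u) [Field K]
    (y : Spec (CommRingCat.of K)) :
    IsRegularLocalRing ((Spec (CommRingCat.of K)).presheaf.stalk y) := by
  let e : K ≃ₐ[K] (Spec.structureSheaf K).presheaf.stalk y :=
    IsLocalization.atUnits _ y.asIdeal.primeCompl
      (fun a ha ↦ by aesop (add simp IsUnit.mem_submonoid_iff))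
  exact IsRegularLocalRing.of_ringEquiv e.toRingEquiv

/-- a scheme smooth over a field has regular local rings. -/
theorem isRegularLocalRing_stalk_of_smooth (K : Type u) [Field K] {Y : Scheme.{u}}
    (g : Y ⟶ Spec (CommRingCat.of K)) [Smooth g] (y : Y) :
    IsRegularLocalRing (Y.presheaf.stalk y) := by
  haveI : LocallyOfFiniteType g := inferInstance
  exact (H5.SM.stalk_package g y ⟨⊤, trivial, inferInstance⟩).2.mpr
    (isRegularLocalRing_stalk_spec_field K _)

/-- the local rings of the fibres of a smooth morphism are regular. -/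
theorem isRegularLocalRing_fiberStalk {X S : Scheme.{u}} (f : X ⟶ S) [Smooth f] (x : X) :
    IsRegularLocalRing (CInt.fiberStalk f x) := by
  haveI : Smooth (f.fiberToSpecResidueField (f.base x)) :=
    inferInstanceAs (Smooth (pullback.snd f (S.fromSpecResidueField (f.base x))))
  exact isRegularLocalRing_stalk_of_smooth (S.residueField (f.base x))
    (f.fiberToSpecResidueField (f.base x)) (f.asFiber x)

/-- for a smooth morphism to a locally Noetherian scheme, the depth of `O_X` at a point is at least
the dimension of the local ring of the fibre. -/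
theorem depth_stalk_ge_of_smooth {X S : Scheme.{u}} [IsLocallyNoetherian S]
    [IsLocallyNoetherian X] (f : X ⟶ S)
    [Smooth f] (d : ℕ) (y : X)
    (hy : (d : WithBot ℕ∞) ≤ ringKrullDim (CInt.fiberStalk f y)) :
    (d : ℕ∞) ≤ LocCoh.depth (X.presheaf.stalk y) (X.presheaf.stalk y) := by
  haveI : Flat f := inferInstance
  haveI := isRegularLocalRing_fiberStalk f y
  rw [Groth.Agent.H2.FibDepth.depth_stalk_eq f y]
  refine le_trans ?_ le_add_self
  have h1 := (Groth.Agent.H1.CMFlat.isCohenMacaulayLocalRing_of_isRegularLocalRing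
    (CInt.fiberStalk f y)).supportDim_eq_depth
  rw [Module.supportDim_self_eq_ringKrullDim] at h1
  rw [h1] at hy
  exact_mod_cast hy

/-- depth of the stalk of a finite locally free module -/
theorem depth_stalk_finLocFree_ge {X : Scheme.{u}} [IsLocallyNoetherian X] (E : X.Modules)
    (hE : FlatMod.IsFinLocFree E) (d : ℕ) (y : X)
    (hy : (d : ℕ∞) ≤ LocCoh.depth (X.presheaf.stalk y) (X.presheaf.stalk y)) :
    (d : ℕ∞) ≤ LocCoh.depth (X.presheaf.stalk y) (E.presheaf.stalk y) := by
  haveI : E.IsQuasicoherent := Groth.Agent.LD.QC.qc_of_isFinLocFree E hE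
  haveI : Module.Free (X.presheaf.stalk y) (E.presheaf.stalk y) :=
    Groth.Agent.LD.QC.free_stalk_of_isFinLocFree E hE y
  haveI : Module.Finite (X.presheaf.stalk y) (E.presheaf.stalk y) :=
    Groth.Agent.H1.CohLen.finite_stalk E
      ((Groth.Agent.LD.QC.isFinLocFree_iff_free_stalks_rank E).mp hE).1 y
  exact Groth.Agent.H6.Depth.idealDepth_free_ge (E.presheaf.stalk y) _ d hy

/-- `E → j_* j^* E` is an isomorphism for a finite locally free module `E` on a scheme smooth over
a locally Noetherian base, `j` the inclusion of the complement of a closed subset of fibrewise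
codimension at least two. -/
theorem isIso_unit_of_smooth {X S : Scheme.{u}} [IsLocallyNoetherian S] (f : X ⟶ S) [Smooth f]
    (E : X.Modules) (hE : FlatMod.IsFinLocFree E) (Z : Closeds X)
    (hZ : ∀ x : X, x ∈ Z → (2 : WithBot ℕ∞) ≤ ringKrullDim (CInt.fiberStalk f x)) :
    IsIso ((Scheme.Modules.restrictAdjunction
      (Scheme.Opens.ι (Z.compl : X.Opens))).unit.app E) := by
  haveI : IsLocallyNoetherian X := LocallyOfFiniteType.isLocallyNoetherian f
  haveI : E.IsQuasicoherent := Groth.Agent.LD.QC.qc_of_isFinLocFree E hE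
  have hcoh : Coh.IsCoh E :=
    ⟨inferInstance, ((Groth.Agent.LD.QC.isFinLocFree_iff_free_stalks_rank E).mp hE).1⟩
  apply Groth.Agent.H1.Depth2Coh.isIso_unit E hcoh (Z.compl : X.Opens)
  intro x hx
  have hxZ : x ∈ Z := by
    by_contra h
    exact hx h
  exact depth_stalk_finLocFree_ge E hE 2 x (depth_stalk_ge_of_smooth f 2 x (hZ x hxZ))

end Groth.Agent.H1.SmoothDepth
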