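import Mathlib
import Groth.Agent.Lib.Helper1.SmoothDepth
import Groth.Agent.Lib.Helper3.CA.KaehlerReg

/-! Helper1: over a perfect field, the smooth locus of a locally finite type scheme is the regular
locus. -/

set_option autoImplicit false
universe u
open CategoryTheory CategoryTheory.Limits AlgebraicGeometry

namespace Groth.Agent.H1.SmoothReg

/-- smooth points have regular local rings (any field). -/
theorem isRegularLocalRing_of_mem_smoothLocus (K : Type u) [Field K] {X : Scheme.{u}}
    (f : X ⟶ Spec (CommRingCat.of K)) [LocallyOfFinitePresentation f] (x : X)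
    (hx : x ∈ f.smoothLocus) : IsRegularLocalRing (X.presheaf.stalk x) := by
  haveI : LocallyOfFiniteType f := inferInstance
  exact (H5.SM.ringHom_package (f.stalkMap x).hom (LocallyOfFiniteType.stalkMap f x)
    (Scheme.Hom.mem_smoothLocus.mp hx)).2.mpr
    (Groth.Agent.H1.SmoothDepth.isRegularLocalRing_stalk_spec_field K _)

set_option backward.isDefEq.respectTransparency false in
/-- regular points are smooth over a perfect field. -/
theorem mem_smoothLocus_of_isRegularLocalRing (K : Type u) [Field K] [PerfectField K]
    {X : Scheme.{u}}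
    (f : X ⟶ Spec (CommRingCat.of K)) [LocallyOfFinitePresentation f] (x : X)
    (hx : IsRegularLocalRing (X.presheaf.stalk x)) : x ∈ f.smoothLocus := by
  haveI : LocallyOfFiniteType f := inferInstance
  have hft := LocallyOfFiniteType.stalkMap f x
  rw [Scheme.Hom.mem_smoothLocus]
  algebraize [(f.stalkMap x).hom]
  let K' := (Spec.structureSheaf K).presheaf.stalk (f x)
  let e : K ≃ₐ[K] K' := IsLocalization.atUnits _ (f x).asIdeal.primeCompl
      (fun x hx ↦ by aesop (add simp IsUnit.mem_submonoid_iff))
  have : Algebra.IsAlgebraic K K' :=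
    .of_injective e.symm.toAlgHom e.symm.injective
  let : Field K' := (e.toRingEquiv.symm.isField (Field.toIsField K)).toField
  let : Field ((Spec (.of K)).presheaf.stalk (f x)) := this
  have : PerfectField ((Spec (.of K)).presheaf.stalk (f x)) :=
    Algebra.IsAlgebraic.perfectField (K := K)
      (L := (Spec.structureSheaf K).presheaf.stalk (f x))
  exact Groth.Agent.H3.KReg.formallySmooth_of_isRegularLocalRing_of_perfectField
    ((Spec (.of K)).presheaf.stalk (f x)) (X.presheaf.stalk x)

/-- statement shape of S1561. -/
theorem s1561 (k : Type u) [Field k] (X : Scheme.{u}) [X.Over (Spec (CommRingCat.of k))]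
    [PerfectField k] [IsReduced X]
    [LocallyOfFinitePresentation (X ↘ (Spec (CommRingCat.of k)))] :
    (∀ x : X, x ∈ (X ↘ (Spec (CommRingCat.of k))).smoothLocus ↔
      IsRegularLocalRing (X.presheaf.stalk x)) ∧
      Dense ((X ↘ (Spec (CommRingCat.of k))).smoothLocus : Set X) :=
  ⟨fun x => ⟨isRegularLocalRing_of_mem_smoothLocus k _ x,
    mem_smoothLocus_of_isRegularLocalRing k _ x⟩,
    Scheme.Hom.dense_smoothLocus_of_perfectField _⟩

end Groth.Agent.H1.SmoothReg
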