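import Mathlib
import Groth.Prelude.Def_CurvBase
import Groth.Agent.Lib.Helper1.SmoothReg
import Groth.Agent.Lib.Helper8.Japanese.SepGR

/-! Helper1: regular points with geometrically reduced (e.g. separable) residue field are smooth. -/

set_option autoImplicit false
universe u
open CategoryTheory CategoryTheory.Limits AlgebraicGeometry IsLocalRing

namespace Groth.Agent.H1.SmoothReg

/-- a regular local ring, essentially of finite type over a field `k`, whose residue field is
geometrically reduced over `k`, is formally smooth over `k`. -/
theorem formallySmooth_of_isRegularLocalRing_of_geomRed (k B : Type u) [Field k] [CommRing B]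
    [Algebra k B] [IsLocalRing B] [Algebra.EssFiniteType k B] [IsRegularLocalRing B]
    [Algebra.IsGeometricallyReduced k (ResidueField B)] : Algebra.FormallySmooth k B := by
  set C := Algebra.EssFiniteType.subalgebra k B with hC
  set M := Algebra.EssFiniteType.submonoid k B with hM
  set p : Ideal C := (maximalIdeal B).comap (algebraMap C B) with hp
  have hloc : IsLocalization.AtPrime B p := by
    refine IsLocalization.of_le M p.primeCompl ?_ ?_
    · intro s hs
      have hu : IsUnit (algebraMap C B s) := hs
      show s ∉ p
      intro hsp
      exact (IsLocalRing.notMem_maximalIdeal.mpr hu) hsp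
    · intro r hr
      exact IsLocalRing.notMem_maximalIdeal.mp hr
  let e : Localization.AtPrime p ≃ₐ[C] B := IsLocalization.algEquiv p.primeCompl _ _
  have hreg : IsRegularLocalRing (Localization.AtPrime p) :=
    IsRegularLocalRing.of_ringEquiv e.symm.toRingEquiv
  have : IsNoetherianRing C := Algebra.FiniteType.isNoetherianRing k C
  have : IsNoetherianRing (Localization.AtPrime p) :=
    IsLocalization.isNoetherianRing p.primeCompl _ inferInstance
  let ek : Localization.AtPrime p ≃ₐ[k] B := e.restrictScalars k
  haveI : IsLocalHom ek.toAlgHom.toRingHom :=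
    ⟨fun a ha => by
      have : IsUnit (ek.symm (ek a)) := ha.map ek.symm
      simpa using this⟩
  let ρ₀ : ResidueField (Localization.AtPrime p) →ₐ[k] ResidueField B :=
    { toRingHom := ResidueField.map ek.toAlgHom.toRingHom
      commutes' := fun c => by
        show ResidueField.map ek.toAlgHom.toRingHom
          (algebraMap k (ResidueField (Localization.AtPrime p)) c) = algebraMap k _ c
        rw [IsScalarTower.algebraMap_apply k (Localization.AtPrime p)
          (ResidueField (Localization.AtPrime p)),
          IsScalarTower.algebraMap_apply k B (ResidueField B)]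
        show ResidueField.map ek.toAlgHom.toRingHom (residue _ _) = _
        rw [ResidueField.map_residue]
        congr 1
        exact ek.commutes c }
  have : Algebra.IsGeometricallyReduced k (ResidueField (Localization.AtPrime p)) :=
    Algebra.IsGeometricallyReduced.of_injective ρ₀ ρ₀.toRingHom.injective
  have hadic := ((Groth.Agent.H5.FSField.tfae k (Localization.AtPrime p)).out 0 3).mpr hreg
  have : Algebra.FormallySmooth k k := Algebra.FormallySmooth.inst
  have hfs : Algebra.FormallySmooth k (Localization.AtPrime p) :=
    ((H5.NG.tfae4578 (k₀ := k) (k := k) (C := C) p).out 0 1).mpr hadic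
  exact Algebra.FormallySmooth.of_equiv ek


/-- the structure map `K → O_{X,x}` of a scheme over a field (as in the prelude's
`Curv2.stalkMap`). -/
noncomputable def stalkMapK {K : Type u} [Field K] {X : Scheme.{u}}
    (f : X ⟶ Spec (CommRingCat.of K)) (x : X) : K →+* X.presheaf.stalk x :=
  (X.presheaf.germ ⊤ x trivial).hom.comp (Coh.toGlobal f)

/-- the structure map `K → O_{Spec K, y}`. -/
noncomputable def baseMapK (K : Type u) [Field K] (y : Spec (CommRingCat.of K)) :
    K →+* (Spec (CommRingCat.of K)).presheaf.stalk y :=
  ((Spec (CommRingCat.of K)).presheaf.germ ⊤ y trivial).hom.comp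
    (Scheme.ΓSpecIso (CommRingCat.of K)).inv.hom

theorem baseMapK_bijective (K : Type u) [Field K] (y : Spec (CommRingCat.of K)) :
    Function.Bijective (baseMapK K y) := by
  refine ⟨(baseMapK K y).injective, ?_⟩
  intro s
  obtain ⟨U, hyU, t, rfl⟩ := (Spec (CommRingCat.of K)).presheaf.exists_germ_eq s
  have hU : U = ⊤ := by
    ext z
    simp only [SetLike.mem_coe, TopologicalSpace.Opens.coe_top, Set.mem_univ, iff_true]
    have : Subsingleton (Spec (CommRingCat.of K)) :=
      inferInstanceAs (Subsingleton (PrimeSpectrum K))
    rwa [Subsingleton.elim z y]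
  subst hU
  refine ⟨(Scheme.ΓSpecIso (CommRingCat.of K)).hom.hom t, ?_⟩
  show ((Spec (CommRingCat.of K)).presheaf.germ ⊤ y trivial).hom
    ((Scheme.ΓSpecIso (CommRingCat.of K)).inv.hom ((Scheme.ΓSpecIso (CommRingCat.of K)).hom.hom t))
    = _
  rw [← CommRingCat.comp_apply (Scheme.ΓSpecIso (CommRingCat.of K)).hom, Iso.hom_inv_id]
  rfl

theorem stalkMapK_eq {K : Type u} [Field K] {X : Scheme.{u}}
    (f : X ⟶ Spec (CommRingCat.of K)) (x : X) :
    stalkMapK f x = (f.stalkMap x).hom.comp (baseMapK K (f x)) := by
  have h := Scheme.Hom.germ_stalkMap f ⊤ x trivial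
  ext a
  have h2 := congr($(h).hom ((Scheme.ΓSpecIso (CommRingCat.of K)).inv.hom a))
  exact h2.symm

/-- a point with regular local ring and geometrically reduced residue field is a smooth point. -/
theorem mem_smoothLocus_of_isRegularLocalRing_of_geomRed (K : Type u) [Field K]
    {X : Scheme.{u}} (f : X ⟶ Spec (CommRingCat.of K)) [LocallyOfFinitePresentation f] (x : X)
    (hx : IsRegularLocalRing (X.presheaf.stalk x))
    (hgr : @Algebra.IsGeometricallyReduced K (X.residueField x) _ _
      ((X.residue x).hom.comp (stalkMapK f x)).toAlgebra) : x ∈ f.smoothLocus := by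
  haveI : LocallyOfFiniteType f := inferInstance
  have hft := LocallyOfFiniteType.stalkMap f x
  rw [Scheme.Hom.mem_smoothLocus]
  have hbij := baseMapK_bijective K (f x)
  let e : K ≃+* (Spec (CommRingCat.of K)).presheaf.stalk (f x) := RingEquiv.ofBijective _ hbij
  -- the composite is formally smooth
  have hcomp : (stalkMapK f x).FormallySmooth := by
    have hft' : (stalkMapK f x).EssFiniteType := by
      rw [stalkMapK_eq]
      have h1 : (baseMapK K (f x)).EssFiniteType := by
        apply RingHom.FiniteType.essFiniteType
        exact RingHom.FiniteType.of_surjective _ hbij.2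
      exact h1.comp hft
    letI : Algebra K (X.presheaf.stalk x) := (stalkMapK f x).toAlgebra
    haveI : Algebra.EssFiniteType K (X.presheaf.stalk x) := hft'
    have halg : (IsLocalRing.ResidueField.algebra (X.presheaf.stalk x) : Algebra K
        (IsLocalRing.ResidueField (X.presheaf.stalk x))) =
        ((X.residue x).hom.comp (stalkMapK f x)).toAlgebra :=
      Algebra.algebra_ext _ _ (fun r => rfl)
    haveI : Algebra.IsGeometricallyReduced K (IsLocalRing.ResidueField (X.presheaf.stalk x)) := by
      rw [halg]; exact hgr
    exact formallySmooth_of_isRegularLocalRing_of_geomRed K (X.presheaf.stalk x)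
  have h3 : (f.stalkMap x).hom = (stalkMapK f x).comp e.symm.toRingHom := by
    rw [stalkMapK_eq]
    ext a
    show _ = (f.stalkMap x).hom (baseMapK K (f x) (e.symm a))
    congr 1
    exact (e.apply_symm_apply a).symm
  rw [h3]
  exact (RingHom.FormallySmooth.of_bijective e.symm.bijective).comp hcomp

/-- a point with regular local ring and separable residue field is a smooth point. -/
theorem mem_smoothLocus_of_isRegularLocalRing_of_isSeparable (K : Type u) [Field K]
    {X : Scheme.{u}} (f : X ⟶ Spec (CommRingCat.of K)) [LocallyOfFinitePresentation f] (x : X)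
    (hx : IsRegularLocalRing (X.presheaf.stalk x))
    (hsep : @Algebra.IsSeparable K (X.residueField x) _ _
      ((X.residue x).hom.comp (stalkMapK f x)).toAlgebra) : x ∈ f.smoothLocus := by
  refine mem_smoothLocus_of_isRegularLocalRing_of_geomRed K f x hx ?_
  letI : Algebra K (X.residueField x) := ((X.residue x).hom.comp (stalkMapK f x)).toAlgebra
  exact Groth.Agent.H8.Jap.isGeometricallyReduced_of_isSeparable K (X.residueField x)

end Groth.Agent.H1.SmoothReg
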