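import Mathlib
import Groth.Prelude.Def_Curv2
import Groth.Prelude.Def_Found
import Groth.Agent.Lib.Helper1.BCStalkApp
import Groth.Agent.Lib.Helper1.RegRing
import Groth.Agent.Lib.Helper1.SmoothReg2
import Groth.Agent.Lib.Helper5.CA.NG33
import Groth.Agent.Lib.Helper5.CA.NG19
import Groth.Agent.Lib.Helper5.CA.GR1
import Groth.Agent.Lib.Helper5.Jac.Jac3

/-! Helper1: geometric regularity at a point via the base-change stalk dictionary. -/

set_option autoImplicit false
set_option linter.style.haveILetI false
universe u
open CategoryTheory CategoryTheory.Limits AlgebraicGeometry IsLocalRing TensorProduct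

namespace Groth.Agent.H1.BCStalk

attribute [local instance] Curv2.resAlgebra Curv2.stalkAlgebra

/-- pure algebra: regularity of `K ⊗ A` for `K/k` finite can be checked at primes over the
maximal ideal. -/
theorem isRegularRing_tensor_of_forall_prime (k A K : Type u) [Field k] [CommRing A]
    [IsLocalRing A] [IsNoetherianRing A]
    [Algebra k A] [Field K] [Algebra k K] [Module.Finite k K]
    (h : ∀ q : PrimeSpectrum (A ⊗[k] K),
        q.asIdeal.comap (Algebra.TensorProduct.includeLeftRingHom
          (R := k) (A := A) (B := K)) = maximalIdeal A →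
        IsRegularLocalRing (Localization.AtPrime q.asIdeal)) : IsRegularRing (K ⊗[k] A) := by
  haveI : IsNoetherianRing (A ⊗[k] K) := Algebra.FiniteType.isNoetherianRing A _
  haveI : IsRegularRing (A ⊗[k] K) := by
    apply Groth.Agent.H1.Reg.isRegularRing_of_maximal
    intro J hJ
    haveI : Algebra.IsIntegral k K := Algebra.IsIntegral.of_finite k K
    have hmax : (J.comap (algebraMap A (A ⊗[k] K))).IsMaximal :=
      Ideal.isMaximal_comap_of_isIntegral_of_isMaximal J
    exact h ⟨J, hJ.isPrime⟩ (IsLocalRing.eq_maximalIdeal hmax)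
  exact IsRegularRing.of_ringEquiv (Algebra.TensorProduct.comm k A K).toRingEquiv

section

variable (k : Type u) [Field k] (X : Scheme.{u}) [X.Over (Spec (CommRingCat.of k))] (x : X)

theorem hPreg : ∀ (R S : Type u) [CommRing R] [CommRing S], (R ≃+* S) →
    IsRegularLocalRing R → IsRegularLocalRing S :=
  fun _ _ _ _ e _ => IsRegularLocalRing.of_ringEquiv e

/-- regular local rings over `x` after the base change `K/k`, when `K ⊗ O_x` is regular. -/
theorem isRegularLocalRing_stalk_of_isRegularRing (K : Type u) [Field K] [Algebra k K]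
    (h : IsRegularRing (K ⊗[k] X.presheaf.stalk x)) (x' : ↥(Curv2.bc k X K))
    (hx' : (Curv2.bcFst k X K) x' = x) :
    IsRegularLocalRing ((Curv2.bc k X K).presheaf.stalk x') := by
  refine (forall_point_iff k X K x (fun R _ => IsRegularLocalRing R) hPreg).mpr ?_ x' hx'
  intro q _
  haveI : IsRegularRing (X.presheaf.stalk x ⊗[k] K) :=
    IsRegularRing.of_ringEquiv (Algebra.TensorProduct.comm k K (X.presheaf.stalk x)).toRingEquiv
  infer_instance

/-- `K ⊗ O_x` is regular for `K/k` finite when all local rings over `x` are regular. -/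
theorem isRegularRing_of_isRegularLocalRing_stalk [IsNoetherianRing (X.presheaf.stalk x)]
    (K : Type u) [Field K] [Algebra k K] [Module.Finite k K]
    (h : ∀ x' : ↥(Curv2.bc k X K), (Curv2.bcFst k X K) x' = x →
      IsRegularLocalRing ((Curv2.bc k X K).presheaf.stalk x')) :
    IsRegularRing (K ⊗[k] X.presheaf.stalk x) :=
  isRegularRing_tensor_of_forall_prime k _ K
    ((forall_point_iff k X K x (fun R _ => IsRegularLocalRing R) hPreg).mp h)

/-- geometric regularity at a point in terms of the local ring. -/
theorem isGeomRegularAt_iff [IsNoetherianRing (X.presheaf.stalk x)] :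
    Curv2.IsGeomRegularAt k X x ↔ CAlg.IsGeometricallyRegular k (X.presheaf.stalk x) := by
  constructor
  · intro h k' _ _ hfin
    haveI := hfin
    exact isRegularRing_of_isRegularLocalRing_stalk k X x k'
      (h k' (IntermediateField.fg_top_iff.mpr inferInstance))
  · intro h K _ _ hfg x' hx'
    have hK : Algebra.EssFiniteType k K := IntermediateField.fg_top_iff.mp hfg
    exact isRegularLocalRing_stalk_of_isRegularRing k X x K
      ((H5.NG.isGeometricallyRegular_iff_essFiniteType k _).mp h K hK) x' hx'

/-- the purely inseparable test. -/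
theorem forall_insep_iff [IsNoetherianRing (X.presheaf.stalk x)] :
    (∀ (k' : Type u) [Field k'] [Algebra k k'] [FiniteDimensional k k']
        [IsPurelyInseparable k k'] (x' : ↥(Curv2.bc k X k')),
        Curv2.bcFst k X k' x' = x → IsRegularLocalRing ↥((Curv2.bc k X k').presheaf.stalk x')) ↔
      CAlg.IsGeometricallyRegular k ↥(X.presheaf.stalk x) := by
  constructor
  · intro h
    rw [H5.NG.isGeometricallyRegular_iff_purelyInseparable]
    intro k' _ _ hfin hpi
    haveI := hfin
    haveI := hpi
    exact isRegularRing_of_isRegularLocalRing_stalk k X x k' (h k')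
  · intro h k' _ _ hfin hpi x' hx'
    exact isRegularLocalRing_stalk_of_isRegularRing k X x k' (h k' hfin) x' hx'

theorem s7606 [IsLocallyNoetherian X] :
    (Curv2.IsGeomRegularAt k X x ↔
      ∀ (k' : Type u) [Field k'] [Algebra k k'] [FiniteDimensional k k']
        [IsPurelyInseparable k k'] (x' : ↥(Curv2.bc k X k')),
        Curv2.bcFst k X k' x' = x →
          IsRegularLocalRing ↥((Curv2.bc k X k').presheaf.stalk x')) ∧
    ((∀ (k' : Type u) [Field k'] [Algebra k k'] [FiniteDimensional k k']
        [IsPurelyInseparable k k'] (x' : ↥(Curv2.bc k X k')),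
        Curv2.bcFst k X k' x' = x →
          IsRegularLocalRing ↥((Curv2.bc k X k').presheaf.stalk x')) ↔
      CAlg.IsGeometricallyRegular k ↥(X.presheaf.stalk x)) :=
  ⟨(isGeomRegularAt_iff k X x).trans (forall_insep_iff k X x).symm, forall_insep_iff k X x⟩

theorem s1669 [IsLocallyNoetherian X]
    (h : ∀ (k' : Type u) [Field k'] [Algebra k k'] [FiniteDimensional k k']
      [IsPurelyInseparable k k']
      (x' : Curv2.bc k X k'), IsRegularLocalRing ((Curv2.bc k X k').presheaf.stalk x')) :
    Curv2.IsGeomRegularAt k X x :=
  (s7606 k X x).1.mpr (fun k' _ _ _ _ x' _ => h k' x')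

end

end Groth.Agent.H1.BCStalk
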