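import Mathlib
import Groth.Prelude.Def_Curv2

/-! Helper1: towers of base changes `X_L → X_K → X` of a scheme over a field. -/

set_option autoImplicit false
set_option linter.style.haveILetI false
universe u
open CategoryTheory CategoryTheory.Limits AlgebraicGeometry IsLocalRing TensorProduct

namespace Groth.Agent.H1.BCTower

variable (k : Type u) [Field k] (X : Scheme.{u}) [X.Over (Spec (CommRingCat.of k))]

section Tower

variable (K : Type u) [Field K] [Algebra k K] (L : Type u) [Field L] [Algebra k L] [Algebra K L]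
  [IsScalarTower k K L]

theorem specMap_comp :
    Spec.map (CommRingCat.ofHom (algebraMap K L)) ≫ Spec.map (CommRingCat.ofHom (algebraMap k K)) =
      Spec.map (CommRingCat.ofHom (algebraMap k L)) := by
  rw [← Spec.map_comp, ← CommRingCat.ofHom_comp, ← IsScalarTower.algebraMap_eq]

/-- the projection `X_L ⟶ X_K`. -/
noncomputable def towerMap : Curv2.bc k X L ⟶ Curv2.bc k X K :=
  pullback.lift (Curv2.bcFst k X L)
    (Curv2.bcSnd k X L ≫ Spec.map (CommRingCat.ofHom (algebraMap K L)))
    (by rw [Category.assoc, specMap_comp]; exact pullback.condition)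

@[reassoc]
theorem towerMap_fst : towerMap k X K L ≫ Curv2.bcFst k X K = Curv2.bcFst k X L :=
  pullback.lift_fst _ _ _

@[reassoc]
theorem towerMap_snd : towerMap k X K L ≫ Curv2.bcSnd k X K =
    Curv2.bcSnd k X L ≫ Spec.map (CommRingCat.ofHom (algebraMap K L)) :=
  pullback.lift_snd _ _ _

theorem isPullback_tower :
    IsPullback (towerMap k X K L) (Curv2.bcSnd k X L) (Curv2.bcSnd k X K)
      (Spec.map (CommRingCat.ofHom (algebraMap K L))) := by
  refine IsPullback.of_right ?_ (towerMap_snd k X K L)
    (IsPullback.of_hasPullback (X ↘ Spec (CommRingCat.of k))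
      (Spec.map (CommRingCat.ofHom (algebraMap k K))))
  rw [towerMap_fst, specMap_comp]
  exact IsPullback.of_hasPullback _ _

instance flat_specMap : Flat (Spec.map (CommRingCat.ofHom (algebraMap K L))) := by
  rw [HasRingHomProperty.Spec_iff (P := @Flat)]
  show (algebraMap K L).Flat
  rw [RingHom.flat_algebraMap_iff]
  infer_instance

instance surjective_specMap : Surjective (Spec.map (CommRingCat.ofHom (algebraMap K L))) := by
  constructor
  intro x
  haveI : Subsingleton (Spec (CommRingCat.of K)) :=
    inferInstanceAs (Subsingleton (PrimeSpectrum K))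
  haveI : Nonempty (Spec (CommRingCat.of L)) := inferInstanceAs (Nonempty (PrimeSpectrum L))
  obtain ⟨y⟩ := ‹Nonempty (Spec (CommRingCat.of L))›
  exact ⟨y, Subsingleton.elim _ _⟩

instance flat_towerMap : Flat (towerMap k X K L) :=
  MorphismProperty.of_isPullback (isPullback_tower k X K L).flip inferInstance

instance surjective_towerMap : Surjective (towerMap k X K L) :=
  MorphismProperty.of_isPullback (isPullback_tower k X K L).flip inferInstance

end Tower

section Insep

variable (K : Type u) [Field K] [Algebra k K]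

theorem universallyInjective_specMap [IsPurelyInseparable k K] :
    UniversallyInjective (Spec.map (CommRingCat.ofHom (algebraMap k K))) := by
  refine ((tfae_universallyInjective
    (Spec.map (CommRingCat.ofHom (algebraMap k K)))).out 0 1).mpr ?_
  intro F _ g₁ g₂ h
  obtain ⟨φ₁, rfl⟩ := Spec.map_surjective g₁
  obtain ⟨φ₂, rfl⟩ := Spec.map_surjective g₂
  congr 1
  simp only [← Spec.map_comp] at h
  have h' := Spec.map_injective h
  ext1
  apply IsPurelyInseparable.injective_comp_algebraMap k K F
  exact congr($(h').hom)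

theorem injective_bcFst [IsPurelyInseparable k K] : Function.Injective (Curv2.bcFst k X K) := by
  haveI := universallyInjective_specMap k K
  haveI : UniversallyInjective (Curv2.bcFst k X K) :=
    MorphismProperty.pullback_fst _ _ inferInstance
  exact Scheme.Hom.injective _

end Insep

end Groth.Agent.H1.BCTower

namespace Groth.Agent.H1.BCTower

variable (k : Type u) [Field k] (X : Scheme.{u}) [X.Over (Spec (CommRingCat.of k))]

section Iso

variable (K : Type u) [Field K] [Algebra k K] (L : Type u) [Field L] [Algebra k L] [Algebra K L]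
  [IsScalarTower k K L]

/-- `X_K` as a `K`-scheme. -/
@[reducible] noncomputable def overK : (Curv2.bc k X K).Over (Spec (CommRingCat.of K)) :=
  ⟨Curv2.bcSnd k X K⟩

/-- `(X_K)_L ≅ X_L`. -/
noncomputable def towerIso :
    @Curv2.bc K _ (Curv2.bc k X K) (overK k X K) L _ _ ≅ Curv2.bc k X L :=
  (isPullback_tower k X K L).isoPullback.symm

@[reassoc]
theorem towerIso_hom_towerMap : (towerIso k X K L).hom ≫ towerMap k X K L =
    @Curv2.bcFst K _ (Curv2.bc k X K) (overK k X K) L _ _ :=
  (isPullback_tower k X K L).isoPullback_inv_fst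

@[reassoc]
theorem towerIso_inv_fst : (towerIso k X K L).inv ≫
    @Curv2.bcFst K _ (Curv2.bc k X K) (overK k X K) L _ _ = towerMap k X K L :=
  (isPullback_tower k X K L).isoPullback_hom_fst

/-- local rings of `(X_K)_L` and `X_L` agree. -/
noncomputable def stalkEquiv (y : ↥(Curv2.bc k X L)) :
    (@Curv2.bc K _ (Curv2.bc k X K) (overK k X K) L _ _).presheaf.stalk
      ((towerIso k X K L).inv y) ≃+* (Curv2.bc k X L).presheaf.stalk y :=
  RingEquiv.ofBijective ((towerIso k X K L).inv.stalkMap y).hom
    (ConcreteCategory.bijective_of_isIso ((towerIso k X K L).inv.stalkMap y))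

noncomputable def stalkEquiv' (y' : ↥(@Curv2.bc K _ (Curv2.bc k X K) (overK k X K) L _ _)) :
    (Curv2.bc k X L).presheaf.stalk ((towerIso k X K L).hom y') ≃+*
      (@Curv2.bc K _ (Curv2.bc k X K) (overK k X K) L _ _).presheaf.stalk y' :=
  RingEquiv.ofBijective ((towerIso k X K L).hom.stalkMap y').hom
    (ConcreteCategory.bijective_of_isIso ((towerIso k X K L).hom.stalkMap y'))

theorem bcFst_towerIso_hom (y' : ↥(@Curv2.bc K _ (Curv2.bc k X K) (overK k X K) L _ _)) :
    Curv2.bcFst k X L ((towerIso k X K L).hom y') =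
      Curv2.bcFst k X K (@Curv2.bcFst K _ (Curv2.bc k X K) (overK k X K) L _ _ y') := by
  rw [← towerIso_hom_towerMap, ← towerMap_fst k X K L]
  rfl

end Iso

section Core

theorem isLocalHom_of_isIso_aux {A B : Type u} [CommRing A] [CommRing B] (e : A ≃+* B) :
    IsLocalHom e.toRingHom :=
  ⟨fun a ha => by
    have : IsUnit (e.symm (e a)) := ha.map e.symm.toRingHom
    simpa using this⟩

/-- **Core lemma**: for `K/k` purely inseparable, `x_K ∈ X_K` and `x' ∈ X_{k'}` over the same
point of `X`, there are a field extension `L/k'` (finite if `K/k` is) and a point `y'` of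
`(X_{k'})_L` over `x'` with a flat local homomorphism `O_{X_K, x_K} → O_{y'}`. -/
theorem core (K : Type u) [Field K] [Algebra k K] [IsPurelyInseparable k K]
    (k' : Type u) [Field k'] [Algebra k k'] (xK : ↥(Curv2.bc k X K)) (x' : ↥(Curv2.bc k X k'))
    (h : Curv2.bcFst k X K xK = Curv2.bcFst k X k' x') :
    ∃ (L : Type u) (_ : Field L) (_ : Algebra k' L)
      (y' : ↥(@Curv2.bc k' _ (Curv2.bc k X k') (overK k X k') L _ _)),
      @Curv2.bcFst k' _ (Curv2.bc k X k') (overK k X k') L _ _ y' = x' ∧
      (Module.Finite k K → Module.Finite k' L) ∧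
      ∃ φ : (Curv2.bc k X K).presheaf.stalk xK →+*
        (@Curv2.bc k' _ (Curv2.bc k X k') (overK k X k') L _ _).presheaf.stalk y',
        φ.Flat ∧ IsLocalHom φ := by
  obtain ⟨M, hM⟩ := Ideal.exists_maximal (k' ⊗[k] K)
  let L := (k' ⊗[k] K) ⧸ M
  letI : Field L := Ideal.Quotient.field M
  letI : Algebra K L := ((Ideal.Quotient.mk M).comp
    (Algebra.TensorProduct.includeRight : K →ₐ[k] k' ⊗[k] K).toRingHom).toAlgebra
  haveI : IsScalarTower k K L := IsScalarTower.of_algebraMap_eq fun c => by
    show Ideal.Quotient.mk M (algebraMap k (k' ⊗[k] K) c) =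
      Ideal.Quotient.mk M ((1 : k') ⊗ₜ[k] (algebraMap k K c))
    congr 1
    rw [Algebra.TensorProduct.algebraMap_apply, Algebra.algebraMap_eq_smul_one,
      Algebra.algebraMap_eq_smul_one, TensorProduct.smul_tmul]
  obtain ⟨y, hy⟩ := (surjective_towerMap k X k' L).surj x'
  have hxK : towerMap k X K L y = xK := by
    apply injective_bcFst k X K
    rw [h, ← hy]
    have h1 := congr($(towerMap_fst k X K L) y)
    have h2 := congr($(towerMap_fst k X k' L) y)
    exact h1.trans h2.symm
  subst hxK
  refine ⟨L, inferInstance, inferInstance, (towerIso k X k' L).inv y, ?_, ?_, ?_⟩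
  · rw [← hy]
    exact congr($(towerIso_inv_fst k X k' L) y)
  · intro hfin
    infer_instance
  · refine ⟨(stalkEquiv k X k' L y).symm.toRingHom.comp ((towerMap k X K L).stalkMap y).hom,
      ?_, ?_⟩
    · exact RingHom.Flat.comp (Flat.stalkMap (towerMap k X K L) y)
        (RingHom.Flat.of_bijective (stalkEquiv k X k' L y).symm.bijective)
    · haveI : IsLocalHom ((towerMap k X K L).stalkMap y).hom := inferInstance
      haveI : IsLocalHom (stalkEquiv k X k' L y).symm.toRingHom :=
        isLocalHom_of_isIso_aux _
      exact RingHom.isLocalHom_comp _ _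

end Core

end Groth.Agent.H1.BCTower
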