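import Mathlib
import Groth.Prelude.Def_Curv2
import Groth.Agent.Lib.Helper1.BCTower
import Groth.Agent.Lib.Helper1.BCStalkRed
import Groth.Agent.Lib.Helper1.BCStalkReg
import Groth.Agent.Lib.Helper1.RegLoc

/-! Helper1: geometric reducedness / regularity at a point and change of the base field. -/

set_option autoImplicit false
set_option linter.style.haveILetI false
universe u
open CategoryTheory CategoryTheory.Limits AlgebraicGeometry IsLocalRing TensorProduct

namespace Groth.Agent.H1.BCTower

/-- a flat local homomorphism of local rings is injective. -/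
theorem injective_of_flat_of_isLocalHom {A B : Type u} [CommRing A] [CommRing B] [IsLocalRing A]
    [IsLocalRing B] (φ : A →+* B) (hflat : φ.Flat) [IsLocalHom φ] : Function.Injective φ := by
  algebraize [φ]
  haveI : IsLocalHom (algebraMap A B) := inferInstanceAs (IsLocalHom φ)
  haveI : Module.FaithfullyFlat A B := Module.FaithfullyFlat.of_flat_of_isLocalHom
  exact FaithfulSMul.algebraMap_injective A B

/-- Noetherianity descends along faithfully flat maps. -/
theorem isNoetherianRing_of_faithfullyFlat (A B : Type u) [CommRing A] [CommRing B] [Algebra A B]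
    [Module.FaithfullyFlat A B] [IsNoetherianRing B] : IsNoetherianRing A := by
  have h : IsNoetherian B (B ⊗[A] A) :=
    isNoetherian_of_linearEquiv (TensorProduct.AlgebraTensorModule.rid A B B).symm
  exact Submodule.IsNoetherian.of_isNoetherian_tensorProduct_of_faithfullyFlat h

/-- regularity descends along flat local homomorphisms. -/
theorem isRegularLocalRing_of_flat_of_isLocalHom {A B : Type u} [CommRing A] [CommRing B]
    [IsLocalRing A] [IsRegularLocalRing B] (φ : A →+* B) (hflat : φ.Flat) [IsLocalHom φ] :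
    IsRegularLocalRing A := by
  algebraize [φ]
  haveI : IsLocalHom (algebraMap A B) := inferInstanceAs (IsLocalHom φ)
  haveI : Module.FaithfullyFlat A B := Module.FaithfullyFlat.of_flat_of_isLocalHom
  haveI : IsNoetherianRing A := isNoetherianRing_of_faithfullyFlat A B
  exact Groth.Agent.H1.Reg.isRegularLocalRing_of_flat A B

attribute [local instance] Curv2.resAlgebra Curv2.stalkAlgebra

variable (k : Type u) [Field k] (X : Scheme.{u}) [X.Over (Spec (CommRingCat.of k))]

instance flat_bcFst (K : Type u) [Field K] [Algebra k K] : Flat (Curv2.bcFst k X K) :=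
  MorphismProperty.pullback_fst _ _ inferInstance

instance surjective_bcFst (K : Type u) [Field K] [Algebra k K] : Surjective (Curv2.bcFst k X K) :=
  MorphismProperty.pullback_fst _ _ inferInstance

/-- the purely inseparable test for geometric reducedness at a point (any characteristic). -/
theorem isGeomReducedAt_of_insep (x : X)
    (h : ∀ (k' : Type u) [Field k'] [Algebra k k'] [FiniteDimensional k k']
        [IsPurelyInseparable k k']
        (x' : Curv2.bc k X k'), Curv2.bcFst k X k' x' = x →
          IsReduced ((Curv2.bc k X k').presheaf.stalk x')) : Curv2.IsGeomReducedAt k X x := by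
  have hP : ∀ (R S : Type u) [CommRing R] [CommRing S], (R ≃+* S) → IsReduced R → IsReduced S :=
    fun R S _ _ e h => isReduced_of_injective e.symm.toRingHom e.symm.injective
  rw [Groth.Agent.H1.BCStalk.s1541, Algebra.isGeometricallyReduced_field_iff]
  apply Groth.Agent.H1.GeomRed.red_algClosure_of_finite_insep
  intro k' _ _ _ _
  have h1 := (Groth.Agent.H1.BCStalk.forall_point_iff k X k' x (fun R _ => IsReduced R) hP).mp
    (h k')
  haveI : Algebra.IsAlgebraic k k' := Algebra.IsAlgebraic.of_finite k k'
  haveI := Groth.Agent.H1.BCStalk.isReduced_tensor_of_forall_prime k (X.presheaf.stalk x) k' h1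
  let e := Algebra.TensorProduct.comm k k' (X.presheaf.stalk x)
  exact isReduced_of_injective e.toRingEquiv.toRingHom e.injective

theorem s1545 (k' : Type u) [Field k'] [Algebra k k']
    (x : X) (x' : Curv2.bc k X k') (hx : Curv2.bcFst k X k' x' = x) :
    Curv2.IsGeomReducedAt k X x ↔
      @Curv2.IsGeomReducedAt k' _ (Curv2.bc k X k') ⟨Curv2.bcSnd k X k'⟩ x' := by
  constructor
  · intro h L _ _ y' hy'
    letI : Algebra k L := ((algebraMap k' L).comp (algebraMap k k')).toAlgebra
    haveI : IsScalarTower k k' L := IsScalarTower.of_algebraMap_eq fun _ => rfl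
    have h1 : IsReduced ((Curv2.bc k X L).presheaf.stalk ((towerIso k X k' L).hom y')) :=
      h L _ (by rw [bcFst_towerIso_hom, hy', hx])
    exact isReduced_of_injective (stalkEquiv' k X k' L y').symm.toRingHom
      (stalkEquiv' k X k' L y').symm.injective
  · intro H
    apply isGeomReducedAt_of_insep
    intro K _ _ _ _ xK hxK
    obtain ⟨L, _, _, y', hy', -, φ, hflat, hloc⟩ := core k X K k' xK x' (hxK.trans hx.symm)
    haveI := H L y' hy'
    exact isReduced_of_injective φ (injective_of_flat_of_isLocalHom φ hflat)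

/-- geometrically regular points have regular local rings. -/
theorem isRegularLocalRing_of_isGeomRegularAt (x : X) (h : Curv2.IsGeomRegularAt k X x) :
    IsRegularLocalRing (X.presheaf.stalk x) := by
  obtain ⟨x1, hx1⟩ := (surjective_bcFst k X k).surj x
  subst hx1
  haveI := h k (IntermediateField.fg_top_iff.mpr inferInstance) x1 rfl
  exact isRegularLocalRing_of_flat_of_isLocalHom ((Curv2.bcFst k X k).stalkMap x1).hom
    (Flat.stalkMap (Curv2.bcFst k X k) x1)

theorem s7607 (k' : Type u) [Field k'] [Algebra k k']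
    (x' : ↥(Curv2.bc k X k'))
    (h : @Curv2.IsGeomRegularAt k' _ (Curv2.bc k X k') ⟨Curv2.bcSnd k X k'⟩ x') :
    Curv2.IsGeomRegularAt k X (Curv2.bcFst k X k' x') := by
  haveI hreg' : IsRegularLocalRing ((Curv2.bc k X k').presheaf.stalk x') :=
    @isRegularLocalRing_of_isGeomRegularAt k' _ (Curv2.bc k X k') ⟨Curv2.bcSnd k X k'⟩ x' h
  haveI hreg : IsRegularLocalRing (X.presheaf.stalk (Curv2.bcFst k X k' x')) :=
    isRegularLocalRing_of_flat_of_isLocalHom ((Curv2.bcFst k X k').stalkMap x').hom
      (Flat.stalkMap (Curv2.bcFst k X k') x')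
  rw [Groth.Agent.H1.BCStalk.isGeomRegularAt_iff, ← Groth.Agent.H1.BCStalk.forall_insep_iff]
  intro K _ _ _ _ xK hxK
  obtain ⟨L, _, _, y', hy', hfin, φ, hflat, hloc⟩ := core k X K k' xK x' hxK
  haveI : Module.Finite k' L := hfin inferInstance
  haveI := h L (IntermediateField.fg_top_iff.mpr inferInstance) y' hy'
  exact isRegularLocalRing_of_flat_of_isLocalHom φ hflat

end Groth.Agent.H1.BCTower

namespace Groth.Agent.H1.BCTower

theorem fbase_isGeomReducedAt_iff {k : Type u} [Field k] {X : Scheme.{u}}
    (f : X ⟶ Spec (CommRingCat.of k)) (x : X) :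
    FBase.IsGeomReducedAt f x ↔ @Curv2.IsGeomReducedAt k _ X ⟨f⟩ x := Iff.rfl

theorem s2521 {k Ω : Type u} [Field k] [Field Ω] [Algebra k Ω]
    [PerfectField Ω] {X : Scheme.{u}} (f : X ⟶ Spec (CommRingCat.of k)) (x : X)
    (x' : ↥(FBase.bc f Ω)) (hx' : (FBase.bcπ f Ω).base x' = x)
    (h : FBase.IsReducedAt (FBase.bc f Ω) x') : FBase.IsGeomReducedAt f x := by
  rw [fbase_isGeomReducedAt_iff]
  letI : X.Over (Spec (CommRingCat.of k)) := ⟨f⟩
  refine (s1545 k X Ω x x' hx').mpr ?_
  haveI : IsReduced ((Curv2.bc k X Ω).presheaf.stalk x') := h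
  exact @Groth.Agent.H1.BCStalk.s1560 Ω _ (Curv2.bc k X Ω) ⟨Curv2.bcSnd k X Ω⟩ _ x' _

theorem s2535 {k Ω : Type u} [Field k] [Field Ω] [Algebra k Ω]
    [PerfectField Ω] {X : Scheme.{u}} (f : X ⟶ Spec (CommRingCat.of k))
    [AlgebraicGeometry.IsReduced (FBase.bc f Ω)] : GeometricallyReduced f := by
  letI : X.Over (Spec (CommRingCat.of k)) := ⟨f⟩
  show GeometricallyReduced (X ↘ (Spec (CommRingCat.of k)))
  rw [Groth.Agent.H1.BCStalk.geometricallyReduced_iff_forall]
  intro x
  obtain ⟨x', hx'⟩ := (surjective_bcFst k X Ω).surj x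
  refine (fbase_isGeomReducedAt_iff f x).mp (s2521 f x x' hx' ?_)
  show _root_.IsReduced ((FBase.bc f Ω).presheaf.stalk x')
  infer_instance

end Groth.Agent.H1.BCTower

namespace Groth.Agent.H1.BCTower

attribute [local instance] Curv2.resAlgebra Curv2.stalkAlgebra

/-- over an algebraically closed field, `A ⊗ K` is a domain for every domain `A`. -/
theorem isDomain_tensor_of_isAlgClosed (k A K : Type u) [Field k] [IsAlgClosed k] [CommRing A]
    [IsDomain A] [Algebra k A] [Field K] [Algebra k K] : IsDomain (A ⊗[k] K) := by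
  haveI : Algebra.IsGeometricallyReduced k A :=
    Groth.Agent.H5.isGeometricallyReduced_of_perfectField k A
  haveI : IsReduced (K ⊗[k] A) :=
    Groth.Agent.H8.RHC.isReduced_tensor_of_isGeometricallyReduced k A K
  haveI : IrreducibleSpace (PrimeSpectrum (K ⊗[k] A)) :=
    Groth.Agent.H1.GeomIrr.irreducibleSpace_tensor_of_isAlgClosed K A
  have hprime : (nilradical (K ⊗[k] A)).IsPrime :=
    PrimeSpectrum.irreducibleSpace_iff_isPrime_nilradical.mp inferInstance
  rw [nilradical_eq_bot_iff.mpr inferInstance] at hprime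
  haveI : IsDomain (K ⊗[k] A) := @IsDomain.of_bot_isPrime _ _ hprime
  exact (Algebra.TensorProduct.comm k A K).toMulEquiv.isDomain

theorem s4631 {k : Type u} [Field k] [IsAlgClosed k] {X : Scheme.{u}}
    (f : X ⟶ Spec (CommRingCat.of k)) (x : X) :
    FBase.IsGeomPtIntegralAt f x ↔ IsDomain ↑(X.presheaf.stalk x) := by
  letI : X.Over (Spec (CommRingCat.of k)) := ⟨f⟩
  have hP : ∀ (R S : Type u) [CommRing R] [CommRing S], (R ≃+* S) → IsDomain R → IsDomain S :=
    fun R S _ _ e h => e.symm.toMulEquiv.isDomain
  constructor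
  · intro h
    obtain ⟨x1, hx1⟩ := (surjective_bcFst k X k).surj x
    subst hx1
    haveI : IsDomain ((Curv2.bc k X k).presheaf.stalk x1) := h k x1 rfl
    exact (injective_of_flat_of_isLocalHom ((Curv2.bcFst k X k).stalkMap x1).hom
      (Flat.stalkMap (Curv2.bcFst k X k) x1)).isDomain _
  · intro h K _ _
    refine (Groth.Agent.H1.BCStalk.forall_point_iff k X K x (fun R _ => IsDomain R) hP).mpr ?_
    intro q _
    haveI := isDomain_tensor_of_isAlgClosed k (X.presheaf.stalk x) K
    exact IsLocalization.isDomain_localization q.asIdeal.primeCompl_le_nonZeroDivisors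

end Groth.Agent.H1.BCTower

namespace Groth.Agent.H1.BCTower

theorem s1548 (k : Type u) [Field k]
    (X : Scheme.{u}) [X.Over (Spec (CommRingCat.of k))]
    (h : ∀ (k' : Type u) [Field k'] [Algebra k k'] [FiniteDimensional k k']
      [IsPurelyInseparable k k'], IsReduced (Curv2.bc k X k')) :
    GeometricallyReduced (X ↘ (Spec (CommRingCat.of k))) := by
  rw [Groth.Agent.H1.BCStalk.geometricallyReduced_iff_forall]
  intro x
  apply isGeomReducedAt_of_insep
  intro k' _ _ _ _ x' _
  haveI := h k'
  infer_instance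

end Groth.Agent.H1.BCTower
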