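import Mathlib
import Groth.Prelude.Def_Curv2
import Groth.Agent.Lib.Helper1.BCTowerApp
import Groth.Agent.Lib.Helper1.GeomConn

/-! Helper1: geometric connectedness over fields (Stacks, Varieties §7). -/

set_option autoImplicit false
set_option linter.style.haveILetI false
universe u
open CategoryTheory CategoryTheory.Limits AlgebraicGeometry IsLocalRing TensorProduct TopologicalSpace

namespace Groth.Agent.H1.GeomConnSch

variable (k : Type u) [Field k] (X : Scheme.{u}) [X.Over (Spec (CommRingCat.of k))]

instance universallyOpen_bcFst (K : Type u) [Field K] [Algebra k K] :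
    UniversallyOpen (Curv2.bcFst k X K) :=
  MorphismProperty.pullback_fst _ _ inferInstance

instance isIntegralHom_specMap (K : Type u) [Field K] [Algebra k K] [Algebra.IsAlgebraic k K] :
    IsIntegralHom (Spec.map (CommRingCat.ofHom (algebraMap k K))) := by
  rw [IsIntegralHom.SpecMap_iff]
  haveI : Algebra.IsIntegral k K := Algebra.IsAlgebraic.isIntegral
  exact algebraMap_isIntegral_iff.mpr inferInstance

instance isIntegralHom_bcFst (K : Type u) [Field K] [Algebra k K] [Algebra.IsAlgebraic k K] :
    IsIntegralHom (Curv2.bcFst k X K) :=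
  MorphismProperty.pullback_fst _ _ inferInstance

/-- `T ×_X X_K ≅ T_K`. -/
noncomputable def pullbackIso (T : Scheme.{u}) [T.Over (Spec (CommRingCat.of k))]
    (f : T ⟶ X) [f.IsOver (Spec (CommRingCat.of k))] (K : Type u) [Field K] [Algebra k K] :
    pullback f (Curv2.bcFst k X K) ≅ Curv2.bc k T K :=
  pullbackRightPullbackFstIso (X ↘ Spec (CommRingCat.of k))
    (Spec.map (CommRingCat.ofHom (algebraMap k K))) f ≪≫
    pullback.congrHom (comp_over f (Spec (CommRingCat.of k))) rfl

/-- for an algebraic extension `K/k`: if `X` is connected and receives a `k`-morphism from `T` with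
`T_K` connected, then `X_K` is connected. -/
theorem connectedSpace_bc_of_algebraic (K : Type u) [Field K] [Algebra k K]
    [Algebra.IsAlgebraic k K] (T : Scheme.{u}) [T.Over (Spec (CommRingCat.of k))]
    (f : T ⟶ X) [f.IsOver (Spec (CommRingCat.of k))]
    [ConnectedSpace ↥(Curv2.bc k T K)] [ConnectedSpace ↥X] :
    ConnectedSpace ↥(Curv2.bc k X K) := by
  have hopen : IsOpenMap (Curv2.bcFst k X K) := (Curv2.bcFst k X K).isOpenMap
  have hclosed : IsClosedMap (Curv2.bcFst k X K) := (Curv2.bcFst k X K).isClosedMap
  have hsurj : Function.Surjective (Curv2.bcFst k X K) := (Curv2.bcFst k X K).surjective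
  haveI : ConnectedSpace ↥(pullback f (Curv2.bcFst k X K)) :=
    (pullbackIso k X T f K).hom.homeomorph.connectedSpace_iff.mpr inferInstance
  -- the image of `T_K`
  have hI : _root_.IsConnected (Set.range (pullback.snd f (Curv2.bcFst k X K))) :=
    isConnected_range (pullback.snd f (Curv2.bcFst k X K)).continuous
  have hIeq : Set.range (pullback.snd f (Curv2.bcFst k X K)) =
      (Curv2.bcFst k X K) ⁻¹' Set.range f := Scheme.Pullback.range_snd _ _
  obtain ⟨t0⟩ : Nonempty ↥T := by
    obtain ⟨w⟩ : Nonempty ↥(pullback f (Curv2.bcFst k X K)) := inferInstance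
    exact ⟨pullback.fst f (Curv2.bcFst k X K) w⟩
  -- every nonempty clopen subset surjects onto `X`
  have key : ∀ A : Set ↥(Curv2.bc k X K), IsClopen A → A.Nonempty →
      (Curv2.bcFst k X K) '' A = Set.univ := by
    intro A hA hne
    have h1 : IsClopen ((Curv2.bcFst k X K) '' A) := ⟨hclosed _ hA.1, hopen _ hA.2⟩
    rcases isClopen_iff.mp h1 with h | h
    · exact (hne.image _).ne_empty h |>.elim
    · exact h
  haveI : Nonempty ↥(Curv2.bc k X K) := by
    obtain ⟨a, -⟩ := hsurj (f t0)
    exact ⟨a⟩
  haveI : PreconnectedSpace ↥(Curv2.bc k X K) := by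
    rw [preconnectedSpace_iff_clopen]
    intro A hA
    by_contra hcon
    rw [not_or] at hcon
    obtain ⟨hA1, hA2⟩ := hcon
    have hAne : A.Nonempty := Set.nonempty_iff_ne_empty.mpr hA1
    have hAcne : Aᶜ.Nonempty := by
      rw [Set.nonempty_compl]
      exact hA2
    have hx1 : f t0 ∈ (Curv2.bcFst k X K) '' A := by rw [key A hA hAne]; trivial
    have hx2 : f t0 ∈ (Curv2.bcFst k X K) '' Aᶜ := by rw [key Aᶜ hA.compl hAcne]; trivial
    obtain ⟨a, haA, ha⟩ := hx1
    obtain ⟨b, hbA, hb⟩ := hx2
    have haI : a ∈ Set.range (pullback.snd f (Curv2.bcFst k X K)) := by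
      rw [hIeq]; exact ⟨t0, ha.symm⟩
    have hbI : b ∈ Set.range (pullback.snd f (Curv2.bcFst k X K)) := by
      rw [hIeq]; exact ⟨t0, hb.symm⟩
    have hsub := hI.isPreconnected.subset_isClopen hA ⟨a, haI, haA⟩
    exact hbA (hsub hbI)
  exact ⟨inferInstance⟩

theorem s7592 (K : Type u) [Field K] [Algebra k K] [IsGalois k K]
    (T X : Scheme.{u}) [T.Over (Spec (CommRingCat.of k))] [X.Over (Spec (CommRingCat.of k))]
    (f : T ⟶ X) [f.IsOver (Spec (CommRingCat.of k))]
    [ConnectedSpace ↥(Curv2.bc k T K)] (hX : ¬ ConnectedSpace ↥(Curv2.bc k X K)) :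
    ¬ ConnectedSpace ↥X := by
  intro hconn
  haveI : Algebra.IsAlgebraic k K := inferInstance
  exact hX (connectedSpace_bc_of_algebraic k X K T f)

end Groth.Agent.H1.GeomConnSch

namespace Groth.Agent.H1.GeomConnSch

variable (k : Type u) [Field k] (X : Scheme.{u}) [X.Over (Spec (CommRingCat.of k))]

/-- over a separably closed field every field extension is geometrically connected. -/
instance geometricallyConnected_specMap [IsSepClosed k] (K : Type u) [Field K] [Algebra k K] :
    GeometricallyConnected (Spec.map (CommRingCat.ofHom (algebraMap k K))) := by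
  rw [GeometricallyConnected.eq_geometrically,
    geometrically_iff_of_commRing_of_isClosedUnderIsomorphisms]
  intro L _ _
  haveI : ConnectedSpace (PrimeSpectrum (K ⊗[k] L)) :=
    Groth.Agent.H1.GeomConn.connectedSpace_tensor_sepClosed
  have e := pullbackSpecIso k K L
  show ConnectedSpace ↥(pullback (Spec.map (CommRingCat.ofHom (algebraMap k K)))
    (Spec.map (CommRingCat.ofHom (algebraMap k L))))
  rw [e.hom.homeomorph.connectedSpace_iff]
  show ConnectedSpace (PrimeSpectrum (K ⊗[k] L))
  infer_instance

instance geometricallyConnected_bcFst [IsSepClosed k] (K : Type u) [Field K] [Algebra k K] :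
    GeometricallyConnected (Curv2.bcFst k X K) :=
  MorphismProperty.pullback_fst _ _ inferInstance

theorem s7590 [IsSepClosed k] (K : Type u) [Field K] [Algebra k K] :
    Function.Bijective (Continuous.connectedComponentsMap (Curv2.bcFst k X K).continuous) :=
  (((Curv2.bcFst k X K).isOpenMap.isQuotientMap (Curv2.bcFst k X K).continuous
    (Curv2.bcFst k X K).surjective).isCoinducing).connectedComponentsMap_bijective
    (Curv2.bcFst k X K).isConnected_preimage_singleton

end Groth.Agent.H1.GeomConnSch
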