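import Mathlib
import Groth.Prelude.Def_Curv2
import Groth.Prelude.Def_FDesc
import Groth.Agent.Lib.Helper1.GeomConnSch

/-! Helper1: connectedness of `X_K` for algebraic `K/k` from the finite levels (Stacks 038A / 0387). -/

set_option autoImplicit false
set_option linter.style.haveILetI false
universe u
open CategoryTheory CategoryTheory.Limits AlgebraicGeometry IsLocalRing TensorProduct TopologicalSpace

namespace Groth.Agent.H1.GeomConnSch

/-- in a pushout square of commutative rings every element is a finite sum of products. -/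
theorem exists_finset_of_isPushout {R A B P : CommRingCat.{u}} {f : R ⟶ A} {g : R ⟶ B}
    {a : A ⟶ P} {b : B ⟶ P} (H : IsPushout f g a b) (x : P) :
    ∃ F : Finset (A × B), x = ∑ i ∈ F, a.hom i.1 * b.hom i.2 := by
  algebraize [f.hom, g.hom]
  let e := ((CommRingCat.isPushout_tensorProduct R A B).isoIsPushout A B H).commRingCatIsoToRingEquiv
  have h1 : ∀ u : A, e (u ⊗ₜ 1) = a.hom u := fun u =>
    congr($((CommRingCat.isPushout_tensorProduct R A B).inl_isoIsPushout_hom A B H).hom u)
  have h2 : ∀ v : B, e (1 ⊗ₜ v) = b.hom v := fun v =>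
    congr($((CommRingCat.isPushout_tensorProduct R A B).inr_isoIsPushout_hom A B H).hom v)
  obtain ⟨F, hF⟩ := TensorProduct.exists_finset (e.symm x)
  refine ⟨F, ?_⟩
  have : x = e (e.symm x) := (e.apply_symm_apply x).symm
  rw [this, hF, map_sum]
  refine Finset.sum_congr rfl fun i _ => ?_
  have : (i.1 ⊗ₜ[R] i.2 : A ⊗[R] B) = (i.1 ⊗ₜ 1) * (1 ⊗ₜ i.2) := by
    rw [Algebra.TensorProduct.tmul_mul_tmul, mul_one, one_mul]
  rw [this, map_mul, h1, h2]

variable (k : Type u) [Field k] (X : Scheme.{u}) [X.Over (Spec (CommRingCat.of k))]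

/-- the constants `K → Γ(X_K, U)`. -/
noncomputable def const (K : Type u) [Field K] [Algebra k K] (U : (Curv2.bc k X K).Opens) :
    K →+* Γ(Curv2.bc k X K, U) :=
  ((Curv2.bcSnd k X K).appLE ⊤ U le_top).hom.comp
    (Scheme.ΓSpecIso (CommRingCat.of K)).inv.hom

/-- sections of `X_K` over the preimage of an affine open of `X` are finite sums of products of
sections over `X` and constants. -/
theorem exists_finset_sections (K : Type u) [Field K] [Algebra k K] (W : X.Opens)
    (hW : IsAffineOpen W) (s : Γ(Curv2.bc k X K, (Curv2.bcFst k X K) ⁻¹ᵁ W)) :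
    ∃ F : Finset (Γ(X, W) × K), s = ∑ i ∈ F,
      ((Curv2.bcFst k X K).app W).hom i.1 * const k X K ((Curv2.bcFst k X K) ⁻¹ᵁ W) i.2 := by
  have H : IsPullback (Curv2.bcFst k X K) (Curv2.bcSnd k X K) (X ↘ Spec (CommRingCat.of k))
      (Spec.map (CommRingCat.ofHom (algebraMap k K))) := IsPullback.of_hasPullback _ _
  have hUST : (⊤ : (Spec (CommRingCat.of K)).Opens) ≤
      (Spec.map (CommRingCat.ofHom (algebraMap k K))) ⁻¹ᵁ ⊤ := le_top
  have hUSX : W ≤ (X ↘ Spec (CommRingCat.of k)) ⁻¹ᵁ ⊤ := le_top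
  have hUY : (Curv2.bcFst k X K) ⁻¹ᵁ W =
      (Curv2.bcFst k X K) ⁻¹ᵁ W ⊓ (Curv2.bcSnd k X K) ⁻¹ᵁ ⊤ := by simp
  have hiso := isIso_pushoutSection_of_isAffineOpen H hUST hUSX hUY (isAffineOpen_top _)
    (isAffineOpen_top _) hW
  have hpo := (isIso_pushoutSection_iff H hUST hUSX hUY).mp hiso
  obtain ⟨F, hF⟩ := exists_finset_of_isPushout hpo s
  classical
  refine ⟨F.image (fun i => (i.1, (Scheme.ΓSpecIso (CommRingCat.of K)).hom.hom i.2)), ?_⟩
  rw [hF, Finset.sum_image]
  · refine Finset.sum_congr rfl fun i _ => ?_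
    have h1 : (Scheme.ΓSpecIso (CommRingCat.of K)).inv.hom
        ((Scheme.ΓSpecIso (CommRingCat.of K)).hom.hom i.2) = i.2 :=
      congr($((Scheme.ΓSpecIso (CommRingCat.of K)).hom_inv_id).hom i.2)
    simp only [const, RingHom.comp_apply, h1, Scheme.Hom.app_eq_appLE]
  · intro i _ j _ hij
    simp only [Prod.mk.injEq] at hij
    refine Prod.ext hij.1 ?_
    have hinj : Function.Injective (Scheme.ΓSpecIso (CommRingCat.of K)).hom.hom :=
      (ConcreteCategory.bijective_of_isIso (Scheme.ΓSpecIso (CommRingCat.of K)).hom).injective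
    exact hinj hij.2


open Groth.Agent.H1.BCTower

theorem appLE_eq_of_eq {Y Z : Scheme.{u}} {f g : Y ⟶ Z} (h : f = g) (U : Z.Opens) (V : Y.Opens)
    (e : V ≤ f ⁻¹ᵁ U) : f.appLE U V e = g.appLE U V (h ▸ e) := by
  subst h
  rfl

section Descent

variable (E : Type u) [Field E] [Algebra k E] (K : Type u) [Field K] [Algebra k K] [Algebra E K]
  [IsScalarTower k E K]

theorem le_towerMap_preimage (W : X.Opens) :
    (Curv2.bcFst k X K) ⁻¹ᵁ W ≤ (towerMap k X E K) ⁻¹ᵁ ((Curv2.bcFst k X E) ⁻¹ᵁ W) := by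
  intro y hy
  show (Curv2.bcFst k X E) ((towerMap k X E K) y) ∈ W
  rw [← Scheme.Hom.comp_apply, towerMap_fst]
  exact hy

/-- pullback of sections from level `E` to level `K`. -/
noncomputable def pb (W : X.Opens) :
    Γ(Curv2.bc k X E, (Curv2.bcFst k X E) ⁻¹ᵁ W) ⟶ Γ(Curv2.bc k X K, (Curv2.bcFst k X K) ⁻¹ᵁ W) :=
  (towerMap k X E K).appLE _ _ (le_towerMap_preimage k X E K W)

theorem pb_app (W : X.Opens) (a : Γ(X, W)) :
    (pb k X E K W).hom (((Curv2.bcFst k X E).app W).hom a) =
      ((Curv2.bcFst k X K).app W).hom a := by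
  have h1 : (Curv2.bcFst k X E).app W ≫ pb k X E K W = (Curv2.bcFst k X K).app W := by
    rw [pb, (Curv2.bcFst k X E).app_eq_appLE, Scheme.Hom.appLE_comp_appLE,
      appLE_eq_of_eq (towerMap_fst k X E K), (Curv2.bcFst k X K).app_eq_appLE]
  exact congr($(h1).hom a)

theorem pb_const (W : X.Opens) (c : E) :
    (pb k X E K W).hom (const k X E ((Curv2.bcFst k X E) ⁻¹ᵁ W) c) =
      const k X K ((Curv2.bcFst k X K) ⁻¹ᵁ W) (algebraMap E K c) := by
  have h1 : (Scheme.ΓSpecIso (CommRingCat.of E)).inv ≫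
      (Curv2.bcSnd k X E).appLE ⊤ ((Curv2.bcFst k X E) ⁻¹ᵁ W) le_top ≫ pb k X E K W =
      CommRingCat.ofHom (algebraMap E K) ≫ (Scheme.ΓSpecIso (CommRingCat.of K)).inv ≫
        (Curv2.bcSnd k X K).appLE ⊤ ((Curv2.bcFst k X K) ⁻¹ᵁ W) le_top := by
    rw [pb, Scheme.Hom.appLE_comp_appLE, appLE_eq_of_eq (towerMap_snd k X E K),
      Scheme.ΓSpecIso_inv_naturality_assoc]
    congr 1
  exact congr($(h1).hom c)

end Descent

/-- every section of `X_K` (`K/k` algebraic) over the preimage of an affine open comes from a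
finite subextension. -/
theorem exists_descent (K : Type u) [Field K] [Algebra k K] [Algebra.IsAlgebraic k K]
    (W : X.Opens) (hW : IsAffineOpen W) (s : Γ(Curv2.bc k X K, (Curv2.bcFst k X K) ⁻¹ᵁ W)) :
    ∃ (E : IntermediateField k K), FiniteDimensional k E ∧
      ∃ s' : Γ(Curv2.bc k X E, (Curv2.bcFst k X E) ⁻¹ᵁ W), (pb k X E K W).hom s' = s := by
  classical
  obtain ⟨F, hF⟩ := exists_finset_sections k X K W hW s
  let S : Set K := ↑(F.image Prod.snd)
  have hSfin : S.Finite := Finset.finite_toSet _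
  let E : IntermediateField k K := IntermediateField.adjoin k S
  haveI : FiniteDimensional k E :=
    IntermediateField.finiteDimensional_adjoin (fun x _ => Algebra.IsIntegral.isIntegral x)
  have hmem : ∀ i ∈ F, i.2 ∈ E := fun i hi =>
    IntermediateField.subset_adjoin k S (Finset.mem_coe.mpr (Finset.mem_image_of_mem _ hi))
  refine ⟨E, inferInstance, ∑ i ∈ F.attach, ((Curv2.bcFst k X E).app W).hom i.1.1 *
    const k X E ((Curv2.bcFst k X E) ⁻¹ᵁ W) ⟨i.1.2, hmem i.1 i.2⟩, ?_⟩
  rw [map_sum, hF, ← Finset.sum_attach F]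
  refine Finset.sum_congr rfl fun i _ => ?_
  rw [map_mul, pb_app, pb_const]
  rfl

/-- a clopen subset of a scheme meets an affine open in a basic open. -/
theorem exists_basicOpen_eq_of_isClopen {Y : Scheme.{u}} {U : Y.Opens} (hU : IsAffineOpen U)
    (A : Set Y) (hA : IsClopen A) :
    ∃ e : Γ(Y, U), ((Y.basicOpen e : Y.Opens) : Set Y) = A ∩ U := by
  have hA' : IsClopen (hU.fromSpec ⁻¹' A) := hA.preimage hU.fromSpec.continuous
  obtain ⟨e, -, he⟩ := PrimeSpectrum.isClopen_iff.mp hA'
  refine ⟨e, ?_⟩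
  have h1 : ∀ z, z ∈ hU.fromSpec ⁻¹' A ↔ hU.fromSpec z ∈ Y.basicOpen e := by
    intro z
    have h2 : z ∈ hU.fromSpec ⁻¹ᵁ (Y.basicOpen e) ↔ z ∈ PrimeSpectrum.basicOpen e := by
      rw [hU.fromSpec_preimage_basicOpen]
      exact Iff.rfl
    rw [he]
    exact h2.symm
  ext y
  constructor
  · intro hy
    have hyU : y ∈ U := Y.basicOpen_le e hy
    obtain ⟨z, rfl⟩ : y ∈ Set.range hU.fromSpec := by rw [hU.range_fromSpec]; exact hyU
    exact ⟨(h1 z).mpr hy, hyU⟩
  · rintro ⟨hyA, hyU⟩
    obtain ⟨z, rfl⟩ : y ∈ Set.range hU.fromSpec := by rw [hU.range_fromSpec]; exact hyU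
    exact (h1 z).mp hyA

section Finite

variable (K : Type u) [Field K] [Algebra k K] [Algebra.IsAlgebraic k K]

instance universallyOpen_towerMap (E : Type u) [Field E] [Algebra k E] (K : Type u) [Field K]
    [Algebra k K] [Algebra E K] [IsScalarTower k E K] : UniversallyOpen (towerMap k X E K) :=
  MorphismProperty.of_isPullback (isPullback_tower k X E K).flip inferInstance

instance isIntegralHom_towerMap (E : Type u) [Field E] [Algebra k E] (K : Type u) [Field K]
    [Algebra k K] [Algebra E K] [IsScalarTower k E K] [Algebra.IsAlgebraic E K] :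
    IsIntegralHom (towerMap k X E K) :=
  MorphismProperty.of_isPullback (isPullback_tower k X E K).flip inferInstance

instance isAffineHom_bcFst (K : Type u) [Field K] [Algebra k K] :
    IsAffineHom (Curv2.bcFst k X K) :=
  MorphismProperty.pullback_fst _ _ inferInstance

/-- **Stacks 038A**, general algebraic form: `X_K` is connected as soon as `X_E` is for every
finite subextension `E` of the algebraic extension `K/k`. -/
theorem connectedSpace_bc_of_forall_finite
    (h : ∀ E : IntermediateField k K, FiniteDimensional k E → ConnectedSpace ↥(Curv2.bc k X E)) :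
    ConnectedSpace ↥(Curv2.bc k X K) := by
  haveI : Nonempty ↥(Curv2.bc k X K) := by
    haveI := h ⊥ inferInstance
    obtain ⟨z⟩ : Nonempty ↥(Curv2.bc k X (⊥ : IntermediateField k K)) := inferInstance
    obtain ⟨y, -⟩ := (towerMap k X (⊥ : IntermediateField k K) K).surjective z
    exact ⟨y⟩
  haveI : PreconnectedSpace ↥(Curv2.bc k X K) := by
    rw [preconnectedSpace_iff_clopen]
    intro A hA
    by_contra hcon
    rw [not_or] at hcon
    obtain ⟨hA1, hA2⟩ := hcon
    obtain ⟨a, ha⟩ : A.Nonempty := Set.nonempty_iff_ne_empty.mpr hA1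
    have hAcne : Aᶜ.Nonempty := by
      rw [Set.nonempty_compl]
      exact hA2
    -- an affine neighbourhood downstairs
    obtain ⟨W, hW, haW, -⟩ := exists_isAffineOpen_mem_and_subset
      (x := Curv2.bcFst k X K a) (U := ⊤) trivial
    have hUK : IsAffineOpen ((Curv2.bcFst k X K) ⁻¹ᵁ W) := hW.preimage (Curv2.bcFst k X K)
    obtain ⟨e, he⟩ := exists_basicOpen_eq_of_isClopen hUK A hA
    obtain ⟨E, hE, e', he'⟩ := exists_descent k X K W hW e
    haveI := hE
    haveI := h E hE
    haveI : Algebra.IsAlgebraic E K := Algebra.IsAlgebraic.tower_top (K := k) E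
    -- the complement surjects onto `X_E`
    have hcl : IsClopen ((towerMap k X E K) '' Aᶜ) :=
      ⟨(towerMap k X E K).isClosedMap _ hA.compl.1, (towerMap k X E K).isOpenMap _ hA.compl.2⟩
    have huniv : (towerMap k X E K) '' Aᶜ = Set.univ := by
      rcases isClopen_iff.mp hcl with h0 | h0
      · exact ((hAcne.image _).ne_empty h0).elim
      · exact h0
    obtain ⟨b, hbA, hb⟩ : (towerMap k X E K) a ∈ (towerMap k X E K) '' Aᶜ := by
      rw [huniv]; trivial
    -- `b` lies over `W`
    have hbW : b ∈ (Curv2.bcFst k X K) ⁻¹ᵁ W := by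
      show (Curv2.bcFst k X K) b ∈ W
      have : (Curv2.bcFst k X K) b = (Curv2.bcFst k X K) a := by
        rw [← towerMap_fst k X E K, Scheme.Hom.comp_apply, Scheme.Hom.comp_apply, hb]
      rw [this]
      exact haW
    -- membership in the basic open is detected at level `E`
    have hbo : (Curv2.bc k X K).basicOpen e = (Curv2.bcFst k X K) ⁻¹ᵁ W ⊓
        (towerMap k X E K) ⁻¹ᵁ ((Curv2.bc k X E).basicOpen e') := by
      rw [← he']
      exact Scheme.basicOpen_appLE _ _ _ _ _
    have haE : a ∈ (Curv2.bc k X K).basicOpen e := by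
      have : a ∈ (((Curv2.bc k X K).basicOpen e : (Curv2.bc k X K).Opens) :
          Set ↥(Curv2.bc k X K)) := by
        rw [he]; exact ⟨ha, haW⟩
      exact this
    rw [hbo] at haE
    have hbE : b ∈ (Curv2.bc k X K).basicOpen e := by
      rw [hbo]
      refine ⟨hbW, ?_⟩
      show (towerMap k X E K) b ∈ (Curv2.bc k X E).basicOpen e'
      rw [hb]
      exact haE.2
    have hbA' : b ∈ A ∩ ((Curv2.bcFst k X K) ⁻¹ᵁ W : Set ↥(Curv2.bc k X K)) := by
      rw [← he]; exact hbE
    exact hbA hbA'.1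
  exact ⟨inferInstance⟩

end Finite

/-- a common extension of two field extensions. -/
theorem exists_composite (K : Type u) [Field K] [Algebra k K] (Ω : Type u) [Field Ω]
    [Algebra k Ω] :
    ∃ (L : Type u) (_ : Field L) (_ : Algebra k L) (_ : Algebra K L) (_ : Algebra Ω L),
      IsScalarTower k K L ∧ IsScalarTower k Ω L := by
  obtain ⟨m, hm⟩ := Ideal.exists_maximal (K ⊗[k] Ω)
  letI : Field ((K ⊗[k] Ω) ⧸ m) := Ideal.Quotient.field m
  letI i1 : Algebra K ((K ⊗[k] Ω) ⧸ m) :=
    ((Ideal.Quotient.mk m).comp (Algebra.TensorProduct.includeLeftRingHom)).toAlgebra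
  letI i2 : Algebra Ω ((K ⊗[k] Ω) ⧸ m) :=
    ((Ideal.Quotient.mk m).comp
      (Algebra.TensorProduct.includeRight : Ω →ₐ[k] K ⊗[k] Ω).toRingHom).toAlgebra
  refine ⟨(K ⊗[k] Ω) ⧸ m, inferInstance, inferInstance, i1, i2, ?_, ?_⟩
  · exact IsScalarTower.of_algebraMap_eq fun c => by
      show algebraMap k ((K ⊗[k] Ω) ⧸ m) c = Ideal.Quotient.mk m ((algebraMap k K c) ⊗ₜ 1)
      rw [IsScalarTower.algebraMap_apply k (K ⊗[k] Ω) ((K ⊗[k] Ω) ⧸ m)]
      rfl
  · exact IsScalarTower.of_algebraMap_eq fun c => by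
      show algebraMap k ((K ⊗[k] Ω) ⧸ m) c = Ideal.Quotient.mk m (1 ⊗ₜ (algebraMap k Ω c))
      rw [IsScalarTower.algebraMap_apply k (K ⊗[k] Ω) ((K ⊗[k] Ω) ⧸ m),
        Algebra.TensorProduct.algebraMap_apply, Algebra.TensorProduct.tmul_one_eq_one_tmul]
      rfl

/-- **Stacks 0387**: if `X_Ω` is connected for a separably closed extension `Ω`, then `X` is
geometrically connected. -/
theorem geometricallyConnected_of_sepClosed (Ω : Type u) [Field Ω] [Algebra k Ω] [IsSepClosed Ω]
    [ConnectedSpace ↥(Curv2.bc k X Ω)] :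
    GeometricallyConnected (X ↘ Spec (CommRingCat.of k)) := by
  rw [GeometricallyConnected.eq_geometrically,
    geometrically_iff_of_commRing_of_isClosedUnderIsomorphisms]
  intro K _ _
  obtain ⟨L, _, _, _, _, _, _⟩ := exists_composite k K Ω
  letI := overK k X Ω
  haveI : ConnectedSpace ↥(Curv2.bc Ω (Curv2.bc k X Ω) L) :=
    GeometricallyConnected.connectedSpace (Curv2.bcFst Ω (Curv2.bc k X Ω) L)
      (Curv2.bcFst Ω (Curv2.bc k X Ω) L).isOpenMap
  haveI : ConnectedSpace ↥(Curv2.bc k X L) :=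
    (towerIso k X Ω L).hom.homeomorph.connectedSpace_iff.mp inferInstance
  exact (towerMap k X K L).surjective.connectedSpace (towerMap k X K L).continuous

theorem s7591 :
    GeometricallyConnected (X ↘ (Spec (CommRingCat.of k))) ↔
      ∀ (k' : Type u) [Field k'] [Algebra k k'] [FiniteDimensional k k']
        [Algebra.IsSeparable k k'], ConnectedSpace ↥(Curv2.bc k X k') := by
  constructor
  · intro h k' _ _ _ _
    rw [GeometricallyConnected.eq_geometrically,
      geometrically_iff_of_commRing_of_isClosedUnderIsomorphisms] at h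
    exact h k'
  · intro h
    haveI : ConnectedSpace ↥(Curv2.bc k X (SeparableClosure k)) := by
      apply connectedSpace_bc_of_forall_finite
      intro E hE
      haveI := hE
      haveI : Algebra.IsSeparable k E :=
        Algebra.isSeparable_tower_bot_of_isSeparable k E (SeparableClosure k)
      exact h E
    exact geometricallyConnected_of_sepClosed k X (SeparableClosure k)

end Groth.Agent.H1.GeomConnSch

namespace Groth.Agent.H1.GeomConnSch

theorem s2523 {k : Type u} [Field k] {X : Scheme.{u}}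
    (f : X ⟶ Spec (CommRingCat.of k))
    (h : ∀ (K : Type u) [Field K] [Algebra k K] [FiniteDimensional k K] [Algebra.IsSeparable k K],
      ConnectedSpace ↥(FBase.bc f K)) :
    GeometricallyConnected f := by
  letI : X.Over (Spec (CommRingCat.of k)) := ⟨f⟩
  exact (s7591 k X).mpr h

end Groth.Agent.H1.GeomConnSch
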