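import Mathlib
import Groth.Prelude.Def_Curv2
import Groth.Agent.Lib.Helper1.GeomConnSch2
import Groth.Agent.Lib.Helper1.ConnCompTop

/-! Helper1: connected components of `X_K` map onto connected components of `X`
(Stacks 04PZ / EGA IV 4.4.?). Algebraic case. -/

set_option autoImplicit false
set_option linter.style.haveILetI false
universe u
open CategoryTheory CategoryTheory.Limits AlgebraicGeometry IsLocalRing TensorProduct TopologicalSpace

namespace Groth.Agent.H1.ConnCompSch

open Groth.Agent.H1.BCTower Groth.Agent.H1.GeomConnSch Groth.Agent.H1.ConnCompTop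

variable (k : Type u) [Field k] (X : Scheme.{u}) [X.Over (Spec (CommRingCat.of k))]

section Tower3

variable (E : Type u) [Field E] [Algebra k E] (E' : Type u) [Field E'] [Algebra k E']
  (K : Type u) [Field K] [Algebra k K] [Algebra E E'] [Algebra E' K] [Algebra E K]
  [IsScalarTower k E E'] [IsScalarTower k E' K] [IsScalarTower k E K] [IsScalarTower E E' K]

theorem towerMap_comp :
    towerMap k X E' K ≫ towerMap k X E E' = towerMap k X E K := by
  apply pullback.hom_ext
  · show (towerMap k X E' K ≫ towerMap k X E E') ≫ Curv2.bcFst k X E =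
      towerMap k X E K ≫ Curv2.bcFst k X E
    rw [Category.assoc, towerMap_fst, towerMap_fst, towerMap_fst]
  · show (towerMap k X E' K ≫ towerMap k X E E') ≫ Curv2.bcSnd k X E =
      towerMap k X E K ≫ Curv2.bcSnd k X E
    rw [Category.assoc, towerMap_snd, towerMap_snd_assoc, towerMap_snd, specMap_comp E E' K]

end Tower3

section Alg

variable (K : Type u) [Field K] [Algebra k K] [Algebra.IsAlgebraic k K]

/-- descent of sections with a lower bound on the level. -/
theorem exists_descent_ge (W : X.Opens) (hW : IsAffineOpen W)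
    (s : Γ(Curv2.bc k X K, (Curv2.bcFst k X K) ⁻¹ᵁ W)) (E₀ : IntermediateField k K)
    [FiniteDimensional k E₀] :
    ∃ (E : IntermediateField k K), E₀ ≤ E ∧ FiniteDimensional k E ∧
      ∃ s' : Γ(Curv2.bc k X E, (Curv2.bcFst k X E) ⁻¹ᵁ W), (pb k X E K W).hom s' = s := by
  classical
  obtain ⟨F, hF⟩ := exists_finset_sections k X K W hW s
  let S : Set K := ↑(F.image Prod.snd)
  have hSfin : S.Finite := Finset.finite_toSet _
  let E₁ : IntermediateField k K := IntermediateField.adjoin k S
  haveI : FiniteDimensional k E₁ :=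
    IntermediateField.finiteDimensional_adjoin (fun x _ => Algebra.IsIntegral.isIntegral x)
  let E : IntermediateField k K := E₀ ⊔ E₁
  haveI : FiniteDimensional k E := IntermediateField.finiteDimensional_sup E₀ E₁
  have hmem : ∀ i ∈ F, i.2 ∈ E := fun i hi =>
    (le_sup_right : E₁ ≤ E)
      (IntermediateField.subset_adjoin k S (Finset.mem_coe.mpr (Finset.mem_image_of_mem _ hi)))
  refine ⟨E, le_sup_left, inferInstance, ∑ i ∈ F.attach, ((Curv2.bcFst k X E).app W).hom i.1.1 *
    const k X E ((Curv2.bcFst k X E) ⁻¹ᵁ W) ⟨i.1.2, hmem i.1 i.2⟩, ?_⟩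
  rw [map_sum, hF, ← Finset.sum_attach F]
  refine Finset.sum_congr rfl fun i _ => ?_
  rw [map_mul, pb_app, pb_const]
  rfl

/-- monotonicity of the levels. -/
theorem towerMap_eq_of_le {E₀ E : IntermediateField k K} (h : E₀ ≤ E)
    (a b : ↥(Curv2.bc k X K)) (hab : towerMap k X E K a = towerMap k X E K b) :
    towerMap k X E₀ K a = towerMap k X E₀ K b := by
  letI : Algebra ↥E₀ ↥E := (IntermediateField.inclusion h).toRingHom.toAlgebra
  haveI : IsScalarTower k ↥E₀ ↥E := IsScalarTower.of_algebraMap_eq fun x => rfl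
  haveI : IsScalarTower ↥E₀ ↥E K := IsScalarTower.of_algebraMap_eq fun x => rfl
  have hc := towerMap_comp k X ↥E₀ ↥E K
  rw [← hc, Scheme.Hom.comp_apply, Scheme.Hom.comp_apply, hab]

/-- the topology of `X_K` is generated by the finite levels. -/
theorem exists_level_nhd (y : ↥(Curv2.bc k X K)) (N : Set ↥(Curv2.bc k X K)) (hN : IsOpen N)
    (hy : y ∈ N) (E₀ : IntermediateField k K) [FiniteDimensional k E₀] :
    ∃ (E : IntermediateField k K), E₀ ≤ E ∧ FiniteDimensional k E ∧
      ∃ U : Set ↥(Curv2.bc k X E), IsOpen U ∧ y ∈ (towerMap k X E K).base ⁻¹' U ∧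
        (towerMap k X E K).base ⁻¹' U ⊆ N := by
  obtain ⟨W, hW, hyW, -⟩ := exists_isAffineOpen_mem_and_subset
    (x := Curv2.bcFst k X K y) (U := ⊤) trivial
  have hWK : IsAffineOpen ((Curv2.bcFst k X K) ⁻¹ᵁ W) := hW.preimage (Curv2.bcFst k X K)
  let V : (Curv2.bc k X K).Opens := ⟨N, hN⟩ ⊓ (Curv2.bcFst k X K) ⁻¹ᵁ W
  have hyV : y ∈ V := ⟨hy, hyW⟩
  obtain ⟨g, hgV, hyg⟩ := hWK.exists_basicOpen_le (V := V) ⟨y, hyV⟩ hyW
  obtain ⟨E, hE₀, hE, g', hg'⟩ := exists_descent_ge k X K W hW g E₀
  haveI := hE
  have hbo : (Curv2.bc k X K).basicOpen g = (Curv2.bcFst k X K) ⁻¹ᵁ W ⊓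
      (towerMap k X E K) ⁻¹ᵁ ((Curv2.bc k X E).basicOpen g') := by
    rw [← hg']
    exact Scheme.basicOpen_appLE _ _ _ _ _
  refine ⟨E, hE₀, hE, ((Curv2.bc k X E).basicOpen g' : Set ↥(Curv2.bc k X E)),
    ((Curv2.bc k X E).basicOpen g').isOpen, ?_, ?_⟩
  · have : y ∈ (Curv2.bc k X K).basicOpen g := hyg
    rw [hbo] at this
    exact this.2
  · intro t ht
    have htW : t ∈ (Curv2.bcFst k X K) ⁻¹ᵁ W := by
      show (Curv2.bcFst k X K) t ∈ W
      have h1 : (towerMap k X E K) t ∈ (Curv2.bcFst k X E) ⁻¹ᵁ W :=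
        (Curv2.bc k X E).basicOpen_le g' ht
      have h2 : (Curv2.bcFst k X E) ((towerMap k X E K) t) ∈ W := h1
      rw [← Scheme.Hom.comp_apply, towerMap_fst] at h2
      exact h2
    have htg : t ∈ (Curv2.bc k X K).basicOpen g := by
      rw [hbo]
      exact ⟨htW, ht⟩
    exact (hgV htg).1

end Alg

section Finite

instance isFinite_specMap (E : Type u) [Field E] [Algebra k E] [FiniteDimensional k E] :
    IsFinite (Spec.map (CommRingCat.ofHom (algebraMap k E))) := by
  rw [IsFinite.SpecMap_iff]
  show (algebraMap k E).Finite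
  rw [RingHom.finite_algebraMap]
  infer_instance

instance isFinite_bcFst (E : Type u) [Field E] [Algebra k E] [FiniteDimensional k E] :
    IsFinite (Curv2.bcFst k X E) :=
  MorphismProperty.pullback_fst _ _ inferInstance

/-- finite level: finitely many clopen subsets. -/
theorem finite_clopens_bc [ConnectedSpace X] (E : Type u) [Field E] [Algebra k E]
    [FiniteDimensional k E] : {Q : Set ↥(Curv2.bc k X E) | IsClopen Q}.Finite :=
  finite_clopens_of_map (Curv2.bcFst k X E).base (Curv2.bcFst k X E).isOpenMap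
    (Curv2.bcFst k X E).isClosedMap (fun z => (Curv2.bcFst k X E).finite_preimage_singleton z)

theorem isOpen_connectedComponent_bc [ConnectedSpace X] (E : Type u) [Field E] [Algebra k E]
    [FiniteDimensional k E] (z : ↥(Curv2.bc k X E)) : IsOpen (connectedComponent z) :=
  (isClopen_connectedComponent_of_finite (finite_clopens_bc k X E) z).2

end Finite

section Main

variable (K : Type u) [Field K] [Algebra k K] [Algebra.IsAlgebraic k K]

/-- in `X_K` (`X` connected, `K/k` algebraic) connected components are quasi-components. -/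
theorem connectedComponent_eq_quasiComp_bc [ConnectedSpace X] (y : ↥(Curv2.bc k X K)) :
    connectedComponent y = quasiComp y := by
  haveI : Nonempty {E : IntermediateField k K // FiniteDimensional k E} :=
    ⟨⟨⊥, inferInstance⟩⟩
  refine connectedComponent_eq_quasiComp
    (I := {E : IntermediateField k K // FiniteDimensional k E})
    (fun E => ↥(Curv2.bc k X E.1)) (fun E => (towerMap k X E.1 K).base) ?_ ?_ ?_ ?_ ?_ ?_ ?_ y
  · intro E
    exact (towerMap k X E.1 K).continuous
  · intro E
    haveI : Algebra.IsAlgebraic E.1 K := Algebra.IsAlgebraic.tower_top (K := k) E.1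
    exact (towerMap k X E.1 K).isClosedMap
  · intro E
    exact (towerMap k X E.1 K).isOpenMap
  · intro E z
    haveI : Algebra.IsAlgebraic E.1 K := Algebra.IsAlgebraic.tower_top (K := k) E.1
    exact (towerMap k X E.1 K).isCompact_preimage_singleton z
  · intro E z
    haveI := E.2
    exact isOpen_connectedComponent_bc k X E.1 z
  · intro E₀ E h a b hab
    exact towerMap_eq_of_le k X K h a b hab
  · intro t N hN ht E₀
    haveI := E₀.2
    obtain ⟨E, hE₀, hE, U, hU, h1, h2⟩ := exists_level_nhd k X K t N hN ht E₀.1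
    exact ⟨⟨E, hE⟩, hE₀, U, hU, h1, h2⟩

/-- **algebraic case**: connected components of `X_K` surject onto the connected `X`. -/
theorem image_connectedComponent_of_algebraic [ConnectedSpace X] (y : ↥(Curv2.bc k X K)) :
    (Curv2.bcFst k X K).base '' connectedComponent y = Set.univ := by
  rw [connectedComponent_eq_quasiComp_bc k X K y, Set.eq_univ_iff_forall]
  intro x
  have hx : x ∈ connectedComponent ((Curv2.bcFst k X K).base y) := by
    rw [PreconnectedSpace.connectedComponent_eq_univ]
    trivial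
  obtain ⟨c, hc, hcx⟩ := exists_mem_quasiComp (Curv2.bcFst k X K).base
    (Curv2.bcFst k X K).isOpenMap (Curv2.bcFst k X K).isClosedMap
    (fun z => (Curv2.bcFst k X K).isCompact_preimage_singleton z) y x hx
  exact ⟨c, hc, hcx⟩

end Main

end Groth.Agent.H1.ConnCompSch
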