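import Mathlib
import Groth.Prelude.Def_Curv2
import Groth.Agent.Lib.Helper1.ConnCompSch

/-! Helper1: connected components of `X_K` map onto connected components of `X`
(Stacks 04PZ). General case. -/

set_option autoImplicit false
set_option linter.style.haveILetI false
universe u
open CategoryTheory CategoryTheory.Limits AlgebraicGeometry IsLocalRing TensorProduct TopologicalSpace

namespace Groth.Agent.H1.ConnCompSch

open Groth.Agent.H1.BCTower Groth.Agent.H1.GeomConnSch Groth.Agent.H1.ConnCompTop

variable (k : Type u) [Field k] (X : Scheme.{u}) [X.Over (Spec (CommRingCat.of k))]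

instance geometricallyConnected_towerMap (Ω : Type u) [Field Ω] [Algebra k Ω] [IsSepClosed Ω]
    (L : Type u) [Field L] [Algebra k L] [Algebra Ω L] [IsScalarTower k Ω L] :
    GeometricallyConnected (towerMap k X Ω L) :=
  MorphismProperty.of_isPullback (isPullback_tower k X Ω L).flip inferInstance

/-- connected `X`, arbitrary `K`: connected components of `X_K` surject onto `X`. -/
theorem image_connectedComponent_of_connected [ConnectedSpace X] (K : Type u) [Field K]
    [Algebra k K] (x' : ↥(Curv2.bc k X K)) :
    (Curv2.bcFst k X K).base '' connectedComponent x' = Set.univ := by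
  haveI : IsAlgClosed ↥(algebraicClosure k (AlgebraicClosure K)) :=
    (algebraicClosure.isAlgClosure k (AlgebraicClosure K)).isAlgClosed
  obtain ⟨y, hy⟩ := (towerMap k X K (AlgebraicClosure K)).surjective x'
  obtain ⟨w, hw⟩ : ∃ w, towerMap k X (algebraicClosure k (AlgebraicClosure K))
    (AlgebraicClosure K) y = w := ⟨_, rfl⟩
  have h1 := image_connectedComponent_of_algebraic k X
    (algebraicClosure k (AlgebraicClosure K)) w
  have hpre : _root_.IsConnected
      ((towerMap k X (algebraicClosure k (AlgebraicClosure K)) (AlgebraicClosure K)).base ⁻¹'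
        connectedComponent w) :=
    (towerMap k X (algebraicClosure k (AlgebraicClosure K))
      (AlgebraicClosure K)).isConnected_preimage
      (towerMap k X (algebraicClosure k (AlgebraicClosure K)) (AlgebraicClosure K)).isOpenMap
      isConnected_connectedComponent isClosed_connectedComponent
  have hsub : (towerMap k X (algebraicClosure k (AlgebraicClosure K))
      (AlgebraicClosure K)).base ⁻¹' connectedComponent w ⊆ connectedComponent y :=
    hpre.isPreconnected.subset_connectedComponent
      (show towerMap k X (algebraicClosure k (AlgebraicClosure K)) (AlgebraicClosure K) y ∈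
        connectedComponent w by rw [hw]; exact mem_connectedComponent)
  rw [Set.eq_univ_iff_forall]
  intro x
  obtain ⟨c, hc, hcx⟩ : x ∈ (Curv2.bcFst k X (algebraicClosure k (AlgebraicClosure K))).base ''
      connectedComponent w := by rw [h1]; trivial
  obtain ⟨d, hd⟩ := (towerMap k X (algebraicClosure k (AlgebraicClosure K))
    (AlgebraicClosure K)).surjective c
  have hdy : d ∈ connectedComponent y := hsub (show _ ∈ connectedComponent w by rw [hd]; exact hc)
  have hqd : towerMap k X K (AlgebraicClosure K) d ∈ connectedComponent x' := by
    have := (towerMap k X K (AlgebraicClosure K)).continuous.image_connectedComponent_subset y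
      ⟨d, hdy, rfl⟩
    rw [← hy]
    exact this
  refine ⟨_, hqd, ?_⟩
  show (Curv2.bcFst k X K) (towerMap k X K (AlgebraicClosure K) d) = x
  rw [← Scheme.Hom.comp_apply, towerMap_fst,
    ← towerMap_fst k X (algebraicClosure k (AlgebraicClosure K)) (AlgebraicClosure K),
    Scheme.Hom.comp_apply, hd]
  exact hcx

theorem pullbackIso_hom_fst (T : Scheme.{u}) [T.Over (Spec (CommRingCat.of k))]
    (f : T ⟶ X) [f.IsOver (Spec (CommRingCat.of k))] (K : Type u) [Field K] [Algebra k K] :
    (pullbackIso k X T f K).hom ≫ Curv2.bcFst k T K = pullback.fst f (Curv2.bcFst k X K) := by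
  simp only [pullbackIso, Iso.trans_hom, pullback.congrHom_hom, Category.assoc]
  show _ ≫ pullback.map _ _ _ _ _ _ _ _ _ ≫ pullback.fst _ _ = _
  rw [pullback.lift_fst, Category.comp_id, pullbackRightPullbackFstIso_hom_fst]

/-- **Stacks 04PZ**: the image of a connected component of `X_K` is a connected component of `X`. -/
theorem s1583 (K : Type u) [Field K] [Algebra k K] (x' : Curv2.bc k X K) :
    (Curv2.bcFst k X K).base '' connectedComponent x' =
      connectedComponent (Curv2.bcFst k X K x') := by
  apply subset_antisymm
  · exact (Curv2.bcFst k X K).continuous.image_connectedComponent_subset x'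
  · intro z hz
    -- the reduced induced structure on the component
    let Tc : Closeds ↥X := ⟨connectedComponent (Curv2.bcFst k X K x'), isClosed_connectedComponent⟩
    let I := Scheme.IdealSheafData.vanishingIdeal Tc
    have hrange : Set.range I.subschemeι = connectedComponent (Curv2.bcFst k X K x') := by
      rw [I.range_subschemeι]
      exact Scheme.IdealSheafData.coe_support_vanishingIdeal Tc
    letI : I.subscheme.Over (Spec (CommRingCat.of k)) :=
      ⟨I.subschemeι ≫ (X ↘ Spec (CommRingCat.of k))⟩
    haveI : I.subschemeι.IsOver (Spec (CommRingCat.of k)) := ⟨rfl⟩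
    haveI : ConnectedSpace ↥I.subscheme := by
      have hemb : Topology.IsEmbedding I.subschemeι.base := I.subschemeι.isEmbedding
      have hpre : _root_.IsPreconnected (Set.univ : Set ↥I.subscheme) := by
        rw [← hemb.toIsInducing.isPreconnected_image, Set.image_univ, hrange]
        exact isPreconnected_connectedComponent
      haveI : PreconnectedSpace ↥I.subscheme := ⟨hpre⟩
      haveI : Nonempty ↥I.subscheme := by
        obtain ⟨z₀, -⟩ : Curv2.bcFst k X K x' ∈ Set.range I.subschemeι := by
          rw [hrange]; exact mem_connectedComponent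
        exact ⟨z₀⟩
      exact ⟨inferInstance⟩
    obtain ⟨z₀, hz₀⟩ : Curv2.bcFst k X K x' ∈ Set.range I.subschemeι := by
      rw [hrange]; exact mem_connectedComponent
    obtain ⟨z₁, hz₁⟩ : z ∈ Set.range I.subschemeι := by
      rw [hrange]; exact hz
    obtain ⟨w', hw'1, hw'2⟩ := Scheme.Pullback.exists_preimage_pullback (f := I.subschemeι)
      (g := Curv2.bcFst k X K) z₀ x' hz₀
    have hconn := image_connectedComponent_of_connected k I.subscheme K
      ((pullbackIso k X I.subscheme I.subschemeι K).hom w')
    obtain ⟨c, hc, hcz⟩ : z₁ ∈ (Curv2.bcFst k I.subscheme K).base ''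
        connectedComponent ((pullbackIso k X I.subscheme I.subschemeι K).hom w') := by
      rw [hconn]; trivial
    have hc' : (pullbackIso k X I.subscheme I.subschemeι K).inv c ∈ connectedComponent w' := by
      have := (pullbackIso k X I.subscheme I.subschemeι K).inv.continuous.image_connectedComponent_subset
        ((pullbackIso k X I.subscheme I.subschemeι K).hom w') ⟨c, hc, rfl⟩
      rw [← Scheme.Hom.comp_apply, Iso.hom_inv_id] at this
      exact this
    have hs : pullback.snd I.subschemeι (Curv2.bcFst k X K)
        ((pullbackIso k X I.subscheme I.subschemeι K).inv c) ∈ connectedComponent x' := by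
      have := (pullback.snd I.subschemeι (Curv2.bcFst k X K)).continuous.image_connectedComponent_subset
        w' ⟨_, hc', rfl⟩
      rw [hw'2] at this
      exact this
    refine ⟨_, hs, ?_⟩
    show (Curv2.bcFst k X K) (pullback.snd I.subschemeι (Curv2.bcFst k X K)
        ((pullbackIso k X I.subscheme I.subschemeι K).inv c)) = z
    rw [← Scheme.Hom.comp_apply, ← pullback.condition, Scheme.Hom.comp_apply,
      ← pullbackIso_hom_fst k X I.subscheme I.subschemeι K, Scheme.Hom.comp_apply,
      ← Scheme.Hom.comp_apply _ (pullbackIso k X I.subscheme I.subschemeι K).hom,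
      Iso.inv_hom_id]
    show I.subschemeι ((Curv2.bcFst k I.subscheme K) c) = z
    rw [← hz₁]
    exact congrArg _ hcz

end Groth.Agent.H1.ConnCompSch
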