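import Mathlib
import Groth.Agent.Lib.Helper1.DimFormula2
import Groth.Agent.Lib.Helper1.FibDimBC
import Groth.Agent.Lib.Helper5.AlgSp.ResidueFieldEtale

/-! Helper1: schemes over a field: fibre dimension = local dimension; products. -/

set_option autoImplicit false
universe u
open CategoryTheory CategoryTheory.Limits AlgebraicGeometry

namespace Groth.Agent.H1.DimFormula

theorem isIso_fromSpecResidueField_field {K : Type u} [Field K] (y : Spec (CommRingCat.of K)) :
    IsIso ((Spec (CommRingCat.of K)).fromSpecResidueField y) := by
  have hb := Groth.Agent.H5.AlgSp.bijective_preimage_fromSpecResidueField y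
  have h1 : IsIso (Spec.preimage ((Spec (CommRingCat.of K)).fromSpecResidueField y)) := by
    rw [ConcreteCategory.isIso_iff_bijective]
    exact hb
  have h2 : Spec.map (Spec.preimage ((Spec (CommRingCat.of K)).fromSpecResidueField y)) =
      (Spec (CommRingCat.of K)).fromSpecResidueField y := Spec.map_preimage _
  rw [← h2]
  infer_instance

/-- over a field, the local fibre dimension is the local dimension. -/
theorem fibreDimAt_eq_localDim_of_field {K : Type u} [Field K] {X : Scheme.{u}}
    (gk : X ⟶ Spec (CommRingCat.of K)) (x : X) :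
    FlatMor.fibreDimAt gk x = FlatMor.localDim X x := by
  haveI := isIso_fromSpecResidueField_field (gk x)
  haveI : IsIso (gk.fiberι (gk x)) :=
    (IsPullback.of_hasPullback gk ((Spec (CommRingCat.of K)).fromSpecResidueField (gk x))).isIso_fst_of_isIso
  have h := localDim_eq_of_isOpenEmbedding (gk.fiberι (gk x)).isOpenEmbedding (gk.asFiber x)
  rw [gk.fiberι_asFiber x] at h
  exact h

theorem flat_of_field {K : Type u} [Field K] {X : Scheme.{u}}
    (gk : X ⟶ Spec (CommRingCat.of K)) : Flat gk := by
  haveI : Subsingleton (Spec (CommRingCat.of K)) := inferInstanceAs (Subsingleton (PrimeSpectrum K))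
  infer_instance

/-- **local dimension of a product over a field.** -/
theorem localDim_pullback_field {K : Type u} [Field K] {X Y : Scheme.{u}}
    (gX : X ⟶ Spec (CommRingCat.of K)) (gY : Y ⟶ Spec (CommRingCat.of K))
    [LocallyOfFiniteType gX] [LocallyOfFiniteType gY] (z : ↥(pullback gX gY)) :
    FlatMor.localDim ↥(pullback gX gY) z =
      FlatMor.localDim ↥X (pullback.fst gX gY z) + FlatMor.localDim ↥Y (pullback.snd gX gY z) := by
  haveI : Flat gX := flat_of_field gX
  have h1 := (fibreDimAt_comp (pullback.snd gX gY) gY z).2 (Flat.stalkMap _ z)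
  rw [fibreDimAt_eq_localDim_of_field, fibreDimAt_eq_localDim_of_field] at h1
  rw [h1, Groth.Agent.H1.FibDimBC.fibreDimAt_eq_of_isPullback gX gY (pullback.fst gX gY)
    (pullback.snd gX gY) (IsPullback.of_hasPullback gX gY) z, fibreDimAt_eq_localDim_of_field]

end Groth.Agent.H1.DimFormula

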