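import Mathlib
import Groth.Agent.Lib.Helper1.DimFormula
import Groth.Agent.Lib.Helper1.DimFormula4
import Groth.Agent.Lib.Helper1.DimLocA

/-! The closure of a point on a scheme locally of finite type over a field has dimension the
transcendence degree of the residue field (helper1). -/

set_option autoImplicit false
set_option linter.style.haveILetI false

universe u

open CategoryTheory AlgebraicGeometry TopologicalSpace Topology

namespace Groth.Agent.H1.ClosureDim

open Groth.Agent.H1.DimFormula

variable {k : Type u} [Field k] {Z : Scheme.{u}} (gk : Z ⟶ Spec (CommRingCat.of k))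

/-- on an affine chart of a scheme locally of finite type over a field, the quotient by the prime
of a point has dimension the transcendence degree of the residue field. -/
theorem exists_trdeg_eq_dim_quotient [LocallyOfFiniteType gk] {U : Z.Opens} (hU : IsAffineOpen U)
    (z : Z) (hz : z ∈ U) :
    ∃ t : ℕ, @Algebra.trdeg k (Z.residueField z) _ _ (toResidueField gk z).hom.toAlgebra = t ∧
      ringKrullDim (Γ(Z, U) ⧸ (hU.primeIdealOf ⟨z, hz⟩).asIdeal) = (t : WithBot ℕ∞) := by
  set ψ : CommRingCat.of k ⟶ Γ(Z, U) := Spec.preimage (hU.fromSpec ≫ gk) with hψ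
  have hψ' : Spec.map ψ = hU.fromSpec ≫ gk := Spec.map_preimage _
  set ev := Z.evaluation U z hz with hev
  have hρ : toResidueField gk z = ψ ≫ ev := by
    apply Spec.map_injective
    rw [SpecMap_toResidueField, Spec.map_comp, hψ', ← Category.assoc,
      SpecMap_evaluation_fromSpec hU z hz]
  letI algB : Algebra k Γ(Z, U) := ψ.hom.toAlgebra
  letI algK : Algebra k (Z.residueField z) := (toResidueField gk z).hom.toAlgebra
  have hft : Algebra.FiniteType k Γ(Z, U) := by
    have h1 : LocallyOfFiniteType (Spec.map ψ) := by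
      rw [hψ']; infer_instance
    exact (HasRingHomProperty.Spec_iff (P := @LocallyOfFiniteType)).mp h1
  set q := hU.primeIdealOf ⟨z, hz⟩ with hq
  have hker : RingHom.ker ev.hom = q.asIdeal := Groth.Agent.H1.FibDim.ker_evaluation hU z hz
  letI algQ : Algebra (Γ(Z, U) ⧸ q.asIdeal) (Z.residueField z) :=
    (Ideal.Quotient.lift q.asIdeal ev.hom (fun a ha => by
      rw [← hker] at ha; exact ha)).toAlgebra
  have halgQ : ∀ a : Γ(Z, U), algebraMap (Γ(Z, U) ⧸ q.asIdeal) (Z.residueField z)
      (Ideal.Quotient.mk _ a) = ev.hom a := fun a => rfl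
  have htower : IsScalarTower k (Γ(Z, U) ⧸ q.asIdeal) (Z.residueField z) := by
    apply IsScalarTower.of_algebraMap_eq
    intro c
    change (toResidueField gk z).hom c = ev.hom (ψ.hom c)
    rw [hρ]
    rfl
  have hinj : ∀ a : Γ(Z, U) ⧸ q.asIdeal,
      algebraMap (Γ(Z, U) ⧸ q.asIdeal) (Z.residueField z) a = 0 → a = 0 := by
    intro a ha
    obtain ⟨a, rfl⟩ := Ideal.Quotient.mk_surjective a
    rw [halgQ] at ha
    rw [Ideal.Quotient.eq_zero_iff_mem, ← hker]
    exact ha
  have hfrac : IsFractionRing (Γ(Z, U) ⧸ q.asIdeal) (Z.residueField z) :=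
    { map_units := by
        rintro ⟨b, hb⟩
        have : b ≠ 0 := nonZeroDivisors.ne_zero hb
        exact IsUnit.mk0 _ (fun h => this (hinj b h))
      surj := by
        intro c
        obtain ⟨a, b, hb, hab⟩ := Groth.Agent.H1.GenFin.exists_frac_evaluation hU z hz c
        refine ⟨⟨Ideal.Quotient.mk _ a, ⟨Ideal.Quotient.mk _ b,
          mem_nonZeroDivisors_of_ne_zero (fun h => hb ?_)⟩⟩, ?_⟩
        · have := congrArg (algebraMap (Γ(Z, U) ⧸ q.asIdeal) (Z.residueField z)) h
          rw [halgQ, map_zero] at this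
          exact this
        · exact hab
      exists_of_eq := by
        intro a b hab
        refine ⟨1, ?_⟩
        have := hinj (a - b) (by rw [map_sub, sub_eq_zero]; exact hab)
        rw [sub_eq_zero.mp this] }
  obtain ⟨t, ht1, ht2, -⟩ := Groth.Agent.H9.FrobDegD.exists_algIndep_finite k
    (Γ(Z, U) ⧸ q.asIdeal) (Z.residueField z)
  exact ⟨t, ht2, ht1⟩

/-- **the closure of a point of a scheme locally of finite type over a field has dimension the
transcendence degree of the residue field.** -/
theorem exists_trdeg_eq_dim_closure [LocallyOfFiniteType gk] (z : Z) :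
    ∃ t : ℕ, @Algebra.trdeg k (Z.residueField z) _ _ (toResidueField gk z).hom.toAlgebra = t ∧
      topologicalKrullDim ↥(closure ({z} : Set Z)) = (t : WithBot ℕ∞) := by
  obtain ⟨U, hU, hz⟩ : ∃ U : Z.Opens, IsAffineOpen U ∧ z ∈ U := by
    obtain ⟨_, ⟨U, hU, rfl⟩, hz, -⟩ :=
      Z.isBasis_affineOpens.exists_subset_of_mem_open (Set.mem_univ z) isOpen_univ
    exact ⟨U, hU, hz⟩
  obtain ⟨t, ht1, ht2⟩ := exists_trdeg_eq_dim_quotient gk hU z hz
  refine ⟨t, ht1, ?_⟩
  rw [← ht2, ← topologicalKrullDim_zeroLocus]
  have h1 := Groth.Agent.H1.RelDim.dim_inter_eq_dim gk (closure ({z} : Set Z))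
    isIrreducible_singleton.closure isClosed_closure U ⟨z, hz, subset_closure rfl⟩
  rw [← h1]
  have hemb : IsEmbedding hU.fromSpec := hU.fromSpec.isOpenEmbedding.isEmbedding
  have h2 := Groth.Agent.H1.RelDim.dim_preimage_eq_of_isEmbedding hemb (closure ({z} : Set Z))
  rw [hU.range_fromSpec, Set.inter_comm] at h2
  rw [← h2]
  obtain ⟨P, hPdef⟩ : ∃ P : ↥(Spec Γ(Z, U)), P = hU.primeIdealOf ⟨z, hz⟩ := ⟨_, rfl⟩
  have hPz : hU.fromSpec P = z := by rw [hPdef]; exact hU.fromSpec_primeIdealOf ⟨z, hz⟩
  have h3 : hU.fromSpec ⁻¹' closure ({z} : Set Z) = closure ({P} : Set (Spec Γ(Z, U))) := by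
    rw [hemb.isInducing.closure_eq_preimage_closure_image, Set.image_singleton, hPz]
  have h4 : closure ({P} : Set (Spec Γ(Z, U))) =
      PrimeSpectrum.zeroLocus ((hU.primeIdealOf ⟨z, hz⟩).asIdeal : Set Γ(Z, U)) := by
    rw [hPdef]
    exact PrimeSpectrum.closure_singleton _
  rw [h3, h4]
  rfl

/-- the transcendence degree of `κ(z)` over `k` agrees with that over the residue field of the
point of `Spec k`. -/
theorem trdeg_toResidueField_eq (z : Z) :
    @Algebra.trdeg k (Z.residueField z) _ _ (toResidueField gk z).hom.toAlgebra =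
      @Algebra.trdeg ((Spec (CommRingCat.of k)).residueField (gk z)) (Z.residueField z) _ _
        (gk.residueFieldMap z).hom.toAlgebra := by
  set φ : CommRingCat.of k ⟶ (Spec (CommRingCat.of k)).residueField (gk z) :=
    Spec.preimage ((Spec (CommRingCat.of k)).fromSpecResidueField (gk z)) with hφ
  have hb : Function.Bijective φ.hom :=
    Groth.Agent.H5.AlgSp.bijective_preimage_fromSpecResidueField (gk z)
  have hcomp : toResidueField gk z = φ ≫ gk.residueFieldMap z := by
    apply Spec.map_injective
    rw [SpecMap_toResidueField, Spec.map_comp, hφ, Spec.map_preimage,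
      Scheme.Hom.SpecMap_residueFieldMap_fromSpecResidueField]
  letI a1 : Algebra k ((Spec (CommRingCat.of k)).residueField (gk z)) := φ.hom.toAlgebra
  letI a2 : Algebra ((Spec (CommRingCat.of k)).residueField (gk z)) (Z.residueField z) :=
    (gk.residueFieldMap z).hom.toAlgebra
  letI a3 : Algebra k (Z.residueField z) := (toResidueField gk z).hom.toAlgebra
  haveI : IsScalarTower k ((Spec (CommRingCat.of k)).residueField (gk z)) (Z.residueField z) := by
    apply IsScalarTower.of_algebraMap_eq
    intro c
    change (toResidueField gk z).hom c = (gk.residueFieldMap z).hom (φ.hom c)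
    rw [hcomp]
    rfl
  haveI : Algebra.IsIntegral k ((Spec (CommRingCat.of k)).residueField (gk z)) :=
    Algebra.isIntegral_of_surjective hb.2
  haveI : Algebra.IsAlgebraic k ((Spec (CommRingCat.of k)).residueField (gk z)) :=
    Algebra.IsIntegral.isAlgebraic
  exact Groth.Agent.H1.DimLoc.trdeg_eq_of_isAlgebraic_square k (Z.residueField z)
    ((Spec (CommRingCat.of k)).residueField (gk z)) (Z.residueField z)

end Groth.Agent.H1.ClosureDim
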