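import Mathlib
import Groth.Agent.Lib.Helper1.FibDimBC
import Groth.Agent.Lib.Helper3.FBaseDim2

/-!
# Fibrewise topological predicates and base change (EGA IV 9.5, preliminaries) — helper1

For a morphism `f : X ⟶ S` and subsets `Z Z'` of `X`, we consider the set of points `s` of `S`
such that the traces of `Z`, `Z'` on the fibre `f⁻¹(s)` satisfy a topological predicate `Q`
invariant under open continuous surjections, and show it is compatible with base change.
-/

set_option autoImplicit false

universe u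

open CategoryTheory CategoryTheory.Limits AlgebraicGeometry Topology TopologicalSpace

namespace Groth.Agent.H1.ConsFib

/-- The set of points of the base over which the traces of `Z`, `Z'` on the fibre satisfy `Q`. -/
def ESet (Q : ∀ (F : Type u) [TopologicalSpace F], Set F → Set F → Prop) {X S : Scheme.{u}}
    (f : X ⟶ S) (Z Z' : Set X) : Set S :=
  {s | Q ↥(f.base ⁻¹' {s}) (Subtype.val ⁻¹' Z) (Subtype.val ⁻¹' Z')}

/-- invariance of a fibre predicate under open continuous surjections. -/
def Inv (Q : ∀ (F : Type u) [TopologicalSpace F], Set F → Set F → Prop) : Prop :=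
  ∀ (F G : Type u) [TopologicalSpace F] [TopologicalSpace G] (q : F → G), Continuous q →
    IsOpenMap q → Function.Surjective q →
    ∀ A A' : Set G, Q F (q ⁻¹' A) (q ⁻¹' A') ↔ Q G A A'

/-- density of the first set in the second. -/
def QDense (F : Type u) [TopologicalSpace F] (A A' : Set F) : Prop := A' ⊆ closure A

/-- closedness of the first set. -/
def QClosed (F : Type u) [TopologicalSpace F] (A _A' : Set F) : Prop := IsClosed A

/-- local closedness of the first set. -/
def QLC (F : Type u) [TopologicalSpace F] (A _A' : Set F) : Prop := IsLocallyClosed A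

theorem inv_dense : Inv QDense.{u} := by
  intro F G _ _ q hc ho hs A A'
  show q ⁻¹' A' ⊆ closure (q ⁻¹' A) ↔ A' ⊆ closure A
  rw [← ho.preimage_closure_eq_closure_preimage hc A]
  exact hs.preimage_subset_preimage_iff

theorem inv_closed : Inv QClosed.{u} := by
  intro F G _ _ q hc ho hs A A'
  exact (ho.isQuotientMap hc hs).isCoinducing.isClosed_preimage

theorem inv_lc : Inv QLC.{u} := by
  intro F G _ _ q hc ho hs A A'
  show IsLocallyClosed (q ⁻¹' A) ↔ IsLocallyClosed A
  rw [isLocallyClosed_iff_isOpen_coborder, isLocallyClosed_iff_isOpen_coborder,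
    coborder_preimage ho hc]
  exact (ho.isQuotientMap hc hs).isCoinducing.isOpen_preimage

/-- closure in a subspace. -/
theorem closure_subtype_preimage {T : Type*} [TopologicalSpace T] (F A : Set T) :
    closure (Subtype.val ⁻¹' A : Set ↥F) = Subtype.val ⁻¹' closure (A ∩ F) := by
  rw [Topology.IsInducing.subtypeVal.closure_eq_preimage_closure_image]
  congr 2
  ext x
  constructor
  · rintro ⟨⟨y, hy⟩, hyA, rfl⟩
    exact ⟨hyA, hy⟩
  · rintro ⟨hA, hF⟩
    exact ⟨⟨x, hF⟩, hA, rfl⟩

theorem mem_ESet_dense_iff {X S : Scheme.{u}} (f : X ⟶ S) (Z Z' : Set X) (s : S) :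
    s ∈ ESet QDense f Z Z' ↔ Z' ∩ f.base ⁻¹' {s} ⊆ closure (Z ∩ f.base ⁻¹' {s}) := by
  show (Subtype.val ⁻¹' Z' : Set ↥(f.base ⁻¹' {s})) ⊆ closure (Subtype.val ⁻¹' Z) ↔ _
  rw [closure_subtype_preimage]
  constructor
  · rintro h x ⟨hx1, hx2⟩
    exact h (a := ⟨x, hx2⟩) hx1
  · rintro h ⟨x, hx2⟩ hx1
    exact h ⟨hx1, hx2⟩

theorem mem_ESet_closed_iff {X S : Scheme.{u}} (f : X ⟶ S) (Z Z' : Set X) (s : S) :
    s ∈ ESet QClosed f Z Z' ↔ closure (Z ∩ f.base ⁻¹' {s}) ∩ f.base ⁻¹' {s} ⊆ Z := by
  show IsClosed (Subtype.val ⁻¹' Z : Set ↥(f.base ⁻¹' {s})) ↔ _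
  rw [← closure_subset_iff_isClosed, closure_subtype_preimage]
  constructor
  · rintro h x ⟨hx1, hx2⟩
    exact h (a := ⟨x, hx2⟩) hx1
  · rintro h ⟨x, hx2⟩ hx1
    exact h ⟨hx1, hx2⟩

/-- The map on topological fibres induced by a base change is continuous, open and
surjective. -/
theorem fibreMap_props {X S X' S' : Scheme.{u}} (f : X ⟶ S) (g : S' ⟶ S) (g' : X' ⟶ X)
    (f' : X' ⟶ S') (sq : IsPullback g' f' f g) (s' : S')
    (q : ↥(f'.base ⁻¹' {s'}) → ↥(f.base ⁻¹' {g.base s'}))
    (hq : ∀ x, (q x).1 = g'.base x.1) :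
    Continuous q ∧ IsOpenMap q ∧ Function.Surjective q := by
  obtain ⟨r, hr, hrι⟩ := Groth.Agent.H1.FibDimBC.fiber_isPullback' f g f' g' sq s'
  have hUO : UniversallyOpen r := @Groth.Agent.H1.FibDimBC.universallyOpen_of_isPullback_field
    (S.residueField (g s')) (S'.residueField s') _ _ (g.residueFieldMap s') _ _
    (f.fiberToSpecResidueField (g s')) (f'.fiberToSpecResidueField s') r hr
  have hsurj : Function.Surjective r :=
    @Groth.Agent.H3.FBaseDim.surjective_of_isPullback_field
      (S.residueField (g s')) (S'.residueField s') _ _ (g.residueFieldMap s') _ _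
      (f.fiberToSpecResidueField (g s')) (f'.fiberToSpecResidueField s') r hr
  have key : ∀ p : ↥(f'.fiber s'), q (f'.fiberHomeo s' p) = f.fiberHomeo (g s') (r p) := by
    intro p
    apply Subtype.ext
    rw [hq]
    show g'.base ((f'.fiberι s').base p) = (f.fiberι (g s')).base (r.base p)
    have := congrArg (fun φ : f'.fiber s' ⟶ X => φ.base p) hrι
    exact this.symm
  have hqe : q = (fun x => f.fiberHomeo (g s') (r ((f'.fiberHomeo s').symm x))) := by
    funext x
    have := key ((f'.fiberHomeo s').symm x)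
    rwa [(f'.fiberHomeo s').apply_symm_apply] at this
  refine ⟨?_, ?_, ?_⟩
  · rw [hqe]
    exact (f.fiberHomeo (g s')).continuous.comp
      (r.continuous.comp (f'.fiberHomeo s').symm.continuous)
  · rw [hqe]
    exact (f.fiberHomeo (g s')).isOpenMap.comp
      (r.isOpenMap.comp (f'.fiberHomeo s').symm.isOpenMap)
  · rw [hqe]
    exact (f.fiberHomeo (g s')).surjective.comp
      (hsurj.comp (f'.fiberHomeo s').symm.surjective)

/-- **Base change**: the set `ESet` of a base change is the preimage of the set `ESet`. -/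
theorem ESet_of_isPullback (Q : ∀ (F : Type u) [TopologicalSpace F], Set F → Set F → Prop)
    (hQ : Inv Q) {X S X' S' : Scheme.{u}} (f : X ⟶ S) (g : S' ⟶ S)
    (g' : X' ⟶ X) (f' : X' ⟶ S') (sq : IsPullback g' f' f g) (Z Z' : Set X) :
    ESet Q f' (g'.base ⁻¹' Z) (g'.base ⁻¹' Z') = g.base ⁻¹' ESet Q f Z Z' := by
  ext s'
  have hmap : ∀ x : ↥(f'.base ⁻¹' {s'}), g'.base x.1 ∈ f.base ⁻¹' {g.base s'} := by
    rintro ⟨x, hx⟩
    have h1 : f.base (g'.base x) = g.base (f'.base x) := by
      have := congrArg (fun φ : X' ⟶ S => φ.base x) sq.w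
      exact this
    show f.base (g'.base x) = g.base s'
    rw [h1]
    exact congrArg g.base hx
  obtain ⟨hc, ho, hs⟩ := fibreMap_props f g g' f' sq s' (fun x => ⟨g'.base x.1, hmap x⟩)
    (fun _ => rfl)
  exact hQ _ _ _ hc ho hs (Subtype.val ⁻¹' Z) (Subtype.val ⁻¹' Z')

end Groth.Agent.H1.ConsFib
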