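import Mathlib
import Groth.Prelude.Def_CurvBase
import Groth.Agent.Lib.Helper1.DimFormula
import Groth.Agent.Lib.Helper3.TopDim

/-! Helper1: more on the dimension formula over a field: closed points, prelude structure maps. -/

set_option autoImplicit false
universe u
open AlgebraicGeometry CategoryTheory CategoryTheory.Limits TopologicalSpace Topology

namespace Groth.Agent.H1.DimFormula

/-- the prelude's structure map `k → κ(x)` agrees with `toResidueField`. -/
theorem resMap_eq (k : Type u) [Field k] (X : Scheme.{u}) [X.Over (Spec (CommRingCat.of k))]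
    (x : X) : Curv2.resMap k X x = (toResidueField (X ↘ Spec (CommRingCat.of k)) x).hom := by
  have : CommRingCat.ofHom (Curv2.resMap k X x) = toResidueField (X ↘ Spec (CommRingCat.of k)) x := by
    apply Spec.map_injective
    rw [SpecMap_toResidueField]
    apply ext_of_isAffine
    simp only [Scheme.Hom.comp_appTop, Scheme.fromSpecResidueField, Scheme.fromSpecStalk_appTop]
    simp [Curv2.resMap, Curv2.stalkMap, Coh.toGlobal]
    have h : Scheme.Hom.app (Spec.map (Scheme.ΓSpecIso (CommRingCat.of k)).inv) ⊤ =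
        (Scheme.ΓSpecIso Γ(Spec (CommRingCat.of k), ⊤)).inv := by
      change Scheme.Hom.appTop _ = _
      rw [← cancel_mono (Scheme.ΓSpecIso _).hom, Scheme.ΓSpecIso_naturality]
      simp
    rw [h]
  rw [← this]
  rfl

variable {k : Type u} [Field k] {Z : Scheme.{u}} (gk : Z ⟶ Spec (CommRingCat.of k))

/-- the dimension formula in the form `dim_z Z = dim O_{Z,z} + dim (B/q)` on an affine chart. -/
theorem localDim_eq_stalk_add_quotient [LocallyOfFiniteType gk] {U : Z.Opens}
    (hU : IsAffineOpen U) (z : Z) (hz : z ∈ U) :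
    FlatMor.localDim Z z = ringKrullDim (Z.presheaf.stalk z) +
      ringKrullDim (Γ(Z, U) ⧸ (hU.primeIdealOf ⟨z, hz⟩).asIdeal) := by
  set ψ : CommRingCat.of k ⟶ Γ(Z, U) := Spec.preimage (hU.fromSpec ≫ gk) with hψ
  have hψ' : Spec.map ψ = hU.fromSpec ≫ gk := Spec.map_preimage _
  letI algB : Algebra k Γ(Z, U) := ψ.hom.toAlgebra
  have hft : Algebra.FiniteType k Γ(Z, U) := by
    have h1 : LocallyOfFiniteType (Spec.map ψ) := by
      rw [hψ']; infer_instance
    exact (HasRingHomProperty.Spec_iff (P := @LocallyOfFiniteType)).mp h1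
  set q := hU.primeIdealOf ⟨z, hz⟩ with hq
  have h1 : FlatMor.localDim Z z = FlatMor.localDim ↥(Spec Γ(Z, U)) q := by
    rw [localDim_eq_of_isOpenEmbedding hU.fromSpec.isOpenEmbedding q]
    congr 1
    exact (hU.fromSpec_primeIdealOf ⟨z, hz⟩).symm
  have h2 := localDim_Spec k Γ(Z, U) q
  letI := Z.presheaf.algebra_section_stalk ⟨z, hz⟩
  haveI := hU.isLocalization_stalk ⟨z, hz⟩
  have h3 : ringKrullDim (Z.presheaf.stalk z) = q.asIdeal.height :=
    IsLocalization.AtPrime.ringKrullDim_eq_height q.asIdeal (Z.presheaf.stalk z)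
  rw [h1, h3]
  exact h2

/-- at a closed point, the local dimension is the dimension of the local ring. -/
theorem localDim_eq_stalk_of_isClosed [LocallyOfFiniteType gk] (z : Z)
    (hz : IsClosed ({z} : Set Z)) :
    FlatMor.localDim Z z = ringKrullDim (Z.presheaf.stalk z) := by
  obtain ⟨U, hU, hzU⟩ : ∃ U : Z.Opens, IsAffineOpen U ∧ z ∈ U := by
    obtain ⟨_, ⟨U, hU, rfl⟩, hz, -⟩ :=
      Z.isBasis_affineOpens.exists_subset_of_mem_open (Set.mem_univ z) isOpen_univ
    exact ⟨U, hU, hz⟩
  rw [localDim_eq_stalk_add_quotient gk hU z hzU]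
  set q := hU.primeIdealOf ⟨z, hzU⟩ with hq
  have hqz : hU.fromSpec q = z := hU.fromSpec_primeIdealOf ⟨z, hzU⟩
  have hcl : IsClosed ({q} : Set (Spec Γ(Z, U))) := by
    have : ({q} : Set (Spec Γ(Z, U))) = hU.fromSpec ⁻¹' {z} := by
      ext p
      simp only [Set.mem_singleton_iff, Set.mem_preimage]
      constructor
      · rintro rfl; exact hqz
      · intro h
        exact hU.fromSpec.isOpenEmbedding.injective (h.trans hqz.symm)
    rw [this]
    exact hz.preimage hU.fromSpec.continuous
  have hmax : q.asIdeal.IsMaximal := (PrimeSpectrum.isClosed_singleton_iff_isMaximal q).mp hcl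
  letI := Ideal.Quotient.field q.asIdeal
  rw [ringKrullDim_eq_zero_of_field, add_zero]

theorem localDim_le_of_specializes {T : Type*} [TopologicalSpace T] {x x' : T} (h : x ⤳ x') :
    FlatMor.localDim T x ≤ FlatMor.localDim T x' := by
  conv_rhs => unfold FlatMor.localDim
  apply le_iInf
  rintro ⟨U, hU⟩
  exact iInf_le (fun V : {V : TopologicalSpace.Opens T // x ∈ V} =>
    topologicalKrullDim ↥(V.1 : Set T)) ⟨U, h.mem_open U.2 hU⟩

theorem ringKrullDim_stalk_lt_of_specializes {T : Scheme.{u}} [IsLocallyNoetherian T] {x x' : T}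
    (h : x ⤳ x') (hne : x ≠ x') :
    ringKrullDim (T.presheaf.stalk x) < ringKrullDim (T.presheaf.stalk x') := by
  obtain ⟨U, hU, hx'U⟩ : ∃ U : T.Opens, IsAffineOpen U ∧ x' ∈ U := by
    obtain ⟨_, ⟨U, hU, rfl⟩, hz, -⟩ :=
      T.isBasis_affineOpens.exists_subset_of_mem_open (Set.mem_univ x') isOpen_univ
    exact ⟨U, hU, hz⟩
  have hxU : x ∈ U := h.mem_open U.2 hx'U
  haveI : IsNoetherianRing Γ(T, U) := IsLocallyNoetherian.component_noetherian ⟨U, hU⟩
  set q := hU.primeIdealOf ⟨x, hxU⟩ with hq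
  set q' := hU.primeIdealOf ⟨x', hx'U⟩ with hq'
  have e1 : hU.fromSpec q = x := hU.fromSpec_primeIdealOf ⟨x, hxU⟩
  have e2 : hU.fromSpec q' = x' := hU.fromSpec_primeIdealOf ⟨x', hx'U⟩
  have hsp : q ⤳ q' := by
    have := (hU.fromSpec.isOpenEmbedding.isInducing.specializes_iff (x := q) (y := q')).mp (by
      rw [e1, e2]; exact h)
    exact this
  have hle : q.asIdeal ≤ q'.asIdeal := (PrimeSpectrum.le_iff_specializes q q').mpr hsp
  have hlt : q.asIdeal < q'.asIdeal := by
    refine lt_of_le_of_ne hle (fun heq => hne ?_)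
    have : q = q' := PrimeSpectrum.ext heq
    rw [← e1, ← e2, this]
  have h3 : ringKrullDim (T.presheaf.stalk x) = q.asIdeal.height := by
    letI := T.presheaf.algebra_section_stalk ⟨x, hxU⟩
    haveI := hU.isLocalization_stalk ⟨x, hxU⟩
    exact IsLocalization.AtPrime.ringKrullDim_eq_height q.asIdeal (T.presheaf.stalk x)
  have h4 : ringKrullDim (T.presheaf.stalk x') = q'.asIdeal.height := by
    letI := T.presheaf.algebra_section_stalk ⟨x', hx'U⟩
    haveI := hU.isLocalization_stalk ⟨x', hx'U⟩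
    exact IsLocalization.AtPrime.ringKrullDim_eq_height q'.asIdeal (T.presheaf.stalk x')
  rw [h3, h4]
  exact_mod_cast Ideal.height_strict_mono_of_isPrime hlt

theorem localDim_primeSpectrum {k S : Type u} [Field k] [CommRing S] [Algebra k S]
    [Algebra.FiniteType k S] (p : Ideal S) [p.IsPrime] :
    ∃ r : ℕ, Algebra.trdeg k p.ResidueField = r ∧ ringKrullDim (S ⧸ p) = r ∧
    FlatMor.localDim (PrimeSpectrum S) ⟨p, inferInstance⟩ =
      ringKrullDim (Localization.AtPrime p) + (r : WithBot ℕ∞) := by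
  obtain ⟨t, ht1, ht2, -⟩ := Groth.Agent.H9.FrobDegD.exists_algIndep_finite k (S ⧸ p) p.ResidueField
  refine ⟨t, ht2, ht1, ?_⟩
  have h2 := localDim_Spec k S (⟨p, inferInstance⟩ : PrimeSpectrum S)
  have h3 : ringKrullDim (Localization.AtPrime p) = p.height :=
    IsLocalization.AtPrime.ringKrullDim_eq_height p _
  rw [h3, ← ht1]
  exact h2

theorem localDim_primeSpectrum_of_isMaximal {k S : Type u} [Field k] [CommRing S] [Algebra k S]
    [Algebra.FiniteType k S] (m : Ideal S) [hm : m.IsMaximal] :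
    FlatMor.localDim (PrimeSpectrum S) ⟨m, hm.isPrime'⟩ =
      ringKrullDim (Localization.AtPrime (hp := hm.isPrime') m) := by
  haveI := hm.isPrime'
  obtain ⟨r, -, hr, h⟩ := localDim_primeSpectrum (k := k) m
  letI := Ideal.Quotient.field m
  rw [ringKrullDim_eq_zero_of_field] at hr
  have : r = 0 := by exact_mod_cast hr.symm
  rw [h, this]
  simp

theorem localDim_primeSpectrum_eq_iInf {k S : Type u} [Field k] [CommRing S] [Algebra k S]
    [Algebra.FiniteType k S] (p : Ideal S) [p.IsPrime] :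
    FlatMor.localDim (PrimeSpectrum S) ⟨p, inferInstance⟩ =
      ⨅ m : {m : Ideal S // m.IsMaximal ∧ p ≤ m},
        ringKrullDim (Localization.AtPrime (hp := m.2.1.isPrime') m.1) := by
  haveI : IsJacobsonRing S := isJacobsonRing_of_finiteType (A := k)
  apply le_antisymm
  · apply le_iInf
    rintro ⟨m, hm, hpm⟩
    haveI := hm.isPrime'
    rw [← localDim_primeSpectrum_of_isMaximal (k := k) m]
    apply localDim_le_of_specializes
    exact (PrimeSpectrum.le_iff_specializes _ _).mp hpm
  · conv_rhs => unfold FlatMor.localDim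
    apply le_iInf
    rintro ⟨U, hU⟩
    obtain ⟨q, ⟨hqU, hqp⟩, hqc⟩ := nonempty_inter_closedPoints
      (Z := (U : Set (PrimeSpectrum S)) ∩ PrimeSpectrum.zeroLocus (p : Set S))
      ⟨⟨p, inferInstance⟩, hU, by simp⟩
      (U.2.isLocallyClosed.inter (PrimeSpectrum.isClosed_zeroLocus _).isLocallyClosed)
    have hqmax : q.asIdeal.IsMaximal :=
      (PrimeSpectrum.isClosed_singleton_iff_isMaximal q).mp hqc
    have hpq : p ≤ q.asIdeal := by
      simpa [PrimeSpectrum.mem_zeroLocus] using hqp
    refine (iInf_le _ (⟨q.asIdeal, hqmax, hpq⟩ : {m : Ideal S // m.IsMaximal ∧ p ≤ m})).trans ?_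
    change ringKrullDim (Localization.AtPrime (hp := hqmax.isPrime') q.asIdeal) ≤ _
    rw [← localDim_primeSpectrum_of_isMaximal (k := k) q.asIdeal]
    exact Groth.Agent.H3.TopDim.localDim_le_dim_of_mem U hqU

end Groth.Agent.H1.DimFormula
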