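import Mathlib
import Groth.Agent.Lib.Helper1.DimFormula3
import Groth.Agent.Lib.Helper1.DimFormula2
import Groth.Agent.Lib.Helper1.RelDim
import Groth.Agent.Lib.Helper1.Chev3
import Groth.Agent.Lib.Helper1.Chev4
import Groth.Agent.Lib.Helper3.AG.FibreDim
import Groth.Agent.Lib.Helper3.AlgSpMor.EtaleDim

/-! Helper1: dimension of the total space of a flat morphism of relative dimension `d`. -/

set_option autoImplicit false
universe u
open AlgebraicGeometry CategoryTheory TopologicalSpace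

namespace Groth.Agent.H1.FlatRelDim

/-- the infimum defining the local dimension is attained -/
theorem exists_opens_dim_eq_localDim {T : Type*} [TopologicalSpace T] (t : T) :
    ∃ V : Opens T, t ∈ V ∧ topologicalKrullDim ↥(V : Set T) = FlatMor.localDim T t := by
  haveI : Nonempty {U : Opens T // t ∈ U} := ⟨⟨⊤, trivial⟩⟩
  obtain ⟨⟨V, hV⟩, h⟩ :=
    ciInf_mem (fun U : {U : Opens T // t ∈ U} => topologicalKrullDim ↥(U.1 : Set T))
  exact ⟨V, hV, h⟩

theorem withBot_enat_cases (P : WithBot ℕ∞ → Prop) (hbot : P ⊥) (htop : P ((⊤ : ℕ∞) : WithBot ℕ∞))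
    (hnat : ∀ m : ℕ, P (m : WithBot ℕ∞)) : ∀ x, P x := by
  intro x
  induction x with
  | bot => exact hbot
  | coe x =>
    induction x with
    | top => exact htop
    | coe m => exact hnat m

theorem top_add_natCast (d : ℕ) : ((⊤ : ℕ∞) : WithBot ℕ∞) + (d : WithBot ℕ∞) = ((⊤ : ℕ∞) : WithBot ℕ∞) := rfl

theorem not_top_le_natCast (n : ℕ) : ¬ (((⊤ : ℕ∞) : WithBot ℕ∞) ≤ (n : WithBot ℕ∞)) := by
  intro h
  have h' : (⊤ : ℕ∞) ≤ (n : ℕ∞) := by exact_mod_cast h
  exact absurd (top_le_iff.mp h') (ENat.natCast_ne_top n)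

theorem iSup_add_natCast_le {ι : Sort*} (c : ι → WithBot ℕ∞) (d : ℕ) (a : WithBot ℕ∞)
    (h : ∀ i, c i + (d : WithBot ℕ∞) ≤ a) : (⨆ i, c i) + (d : WithBot ℕ∞) ≤ a := by
  revert h
  refine withBot_enat_cases (fun a => (∀ i, c i + (d : WithBot ℕ∞) ≤ a) →
    (⨆ i, c i) + (d : WithBot ℕ∞) ≤ a) ?_ ?_ ?_ a
  · intro h
    have : ∀ i, c i = ⊥ := by
      intro i
      have := h i
      rw [le_bot_iff, WithBot.add_eq_bot] at this
      rcases this with h1 | h1
      · exact h1
      · exact absurd h1 (by simp)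
    simp [this]
  · intro _; exact le_top
  · intro n h
    by_cases hdn : d ≤ n
    · obtain ⟨k, rfl⟩ : ∃ k, n = k + d := ⟨n - d, by omega⟩
      have hc : ∀ i, c i ≤ (k : WithBot ℕ∞) := by
        intro i
        have hi := h i
        revert hi
        refine withBot_enat_cases (fun ci => ci + (d : WithBot ℕ∞) ≤ ((k + d : ℕ) : WithBot ℕ∞) →
          ci ≤ (k : WithBot ℕ∞)) ?_ ?_ ?_ (c i)
        · intro _; exact bot_le
        · intro hi
          rw [top_add_natCast] at hi
          exact absurd hi (not_top_le_natCast _)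
        · intro m hi
          have : m + d ≤ k + d := by exact_mod_cast hi
          have : m ≤ k := by omega
          exact_mod_cast this
      calc (⨆ i, c i) + (d : WithBot ℕ∞) ≤ (k : WithBot ℕ∞) + (d : WithBot ℕ∞) :=
            add_le_add (iSup_le hc) le_rfl
        _ = ((k + d : ℕ) : WithBot ℕ∞) := by push_cast; rfl
    · have : ∀ i, c i = ⊥ := by
        intro i
        have hi := h i
        revert hi
        refine withBot_enat_cases (fun ci => ci + (d : WithBot ℕ∞) ≤ ((n : ℕ) : WithBot ℕ∞) →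
          ci = ⊥) ?_ ?_ ?_ (c i)
        · intro _; rfl
        · intro hi
          rw [top_add_natCast] at hi
          exact absurd hi (not_top_le_natCast _)
        · intro m hi
          have : m + d ≤ n := by exact_mod_cast hi
          omega
      simp [this]

section
attribute [local instance] specializationOrder

theorem dim_opens_eq_iSup_stalk (Z : Scheme.{u}) (W : Z.Opens) :
    topologicalKrullDim ↥(W : Set Z) =
      ⨆ w : ↥(W : Set Z), ringKrullDim (Z.presheaf.stalk (w : Z)) := by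
  rw [Groth.Agent.H3.EtaleDim.scheme_dim_opens_eq_iSup_coheight]
  congr 1
  funext w
  rw [ringKrullDim_stalk_eq_coheight]

end

theorem stalk_dim_le_dim_opens (Z : Scheme.{u}) (W : Z.Opens) (z : Z) (hz : z ∈ W) :
    ringKrullDim (Z.presheaf.stalk z) ≤ topologicalKrullDim ↥(W : Set Z) := by
  rw [dim_opens_eq_iSup_stalk]
  exact le_iSup (fun w : ↥(W : Set Z) => ringKrullDim (Z.presheaf.stalk (w : Z))) ⟨z, hz⟩

variable {X Y : Scheme.{u}}

theorem stalk_dim_eq_add_fiber_of_flat (f : X ⟶ Y) [IsLocallyNoetherian Y]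
    [LocallyOfFiniteType f] (x : X) (hfl : (f.stalkMap x).hom.Flat) :
    ringKrullDim (X.presheaf.stalk x) = ringKrullDim (Y.presheaf.stalk (f x)) +
      ringKrullDim ((f.fiber (f x)).presheaf.stalk (f.asFiber x)) := by
  have hX : IsLocallyNoetherian X := LocallyOfFiniteType.isLocallyNoetherian f
  let _ : Algebra (Y.presheaf.stalk (f x)) (X.presheaf.stalk x) := (f.stalkMap x).hom.toAlgebra
  have hloc : IsLocalHom (algebraMap (Y.presheaf.stalk (f x)) (X.presheaf.stalk x)) :=
    inferInstanceAs (IsLocalHom (f.stalkMap x).hom)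
  haveI : Module.Flat (Y.presheaf.stalk (f x)) (X.presheaf.stalk x) := hfl
  have h1 := Groth.Agent.H1.FlatDim.ringKrullDim_eq_add_fiber_of_flat (Y.presheaf.stalk (f x))
    (X.presheaf.stalk x)
  have h2 := ringKrullDim_eq_of_ringEquiv (Groth.Agent.H1.FibreStalk.fiberStalkEquiv f x)
  rw [← h2]
  exact h1

theorem ringKrullDim_fiber_stalk_congr (f : X ⟶ Y) (x : X) (s : Y) (hs : f x = s) (z : f.fiber s)
    (hz : f.fiberι s z = x) :
    ringKrullDim ((f.fiber s).presheaf.stalk z) =
      ringKrullDim ((f.fiber (f x)).presheaf.stalk (f.asFiber x)) := by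
  subst hs
  have : z = f.asFiber x := by
    apply (f.fiberι (f x)).isEmbedding.injective
    rw [hz, f.fiberι_asFiber]
  rw [this]

theorem localDim_eq_add_of_flat [IsLocallyNoetherian X] [IsLocallyNoetherian Y] (f : X ⟶ Y)
    [Flat f] [LocallyOfFiniteType f] (d : ℕ) (hd : ∀ x : X, FlatMor.fibreDimAt f x = d) (x : X) :
    FlatMor.localDim ↑X x = FlatMor.localDim ↑Y (f x) + (d : WithBot ℕ∞) := by
  apply le_antisymm
  · obtain ⟨V, hxV, hV⟩ := exists_opens_dim_eq_localDim (f x)
    rw [← hV]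
    refine (Groth.Agent.H3.TopDim.localDim_le_dim_of_mem (f ⁻¹ᵁ V) hxV).trans ?_
    rw [dim_opens_eq_iSup_stalk]
    apply iSup_le
    rintro ⟨a, ha⟩
    rw [stalk_dim_eq_add_fiber_of_flat f a (Flat.stalkMap f a)]
    apply add_le_add
    · exact stalk_dim_le_dim_opens Y V (f a) ha
    · obtain ⟨t, -, hdim⟩ := Groth.Agent.H1.DimFormula.exists_fibreDimAt_eq_stalk_add_trdeg f a
      rw [← hd a, hdim]
      exact le_add_of_nonneg_right (Nat.cast_nonneg t)
  · obtain ⟨V₀, hxV₀, hV₀⟩ := exists_opens_dim_eq_localDim (f x)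
    obtain ⟨U₀, hxU₀, hU₀⟩ := exists_opens_dim_eq_localDim x
    set U : X.Opens := U₀ ⊓ f ⁻¹ᵁ V₀ with hUdef
    have hxU : x ∈ U := ⟨hxU₀, hxV₀⟩
    have hDU : topologicalKrullDim ↥(U : Set X) = FlatMor.localDim X x :=
      le_antisymm ((Groth.Agent.H3.TopDim.dim_mono (inf_le_left : U ≤ U₀)).trans hU₀.le)
        (Groth.Agent.H3.TopDim.localDim_le_dim_of_mem U hxU)
    haveI : LocallyOfFinitePresentation f := inferInstance
    have hopen : IsOpenMap f := f.isOpenMap
    set V : Y.Opens := ⟨f '' U, hopen _ U.2⟩ with hVdef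
    have hfxV : f x ∈ V := ⟨x, hxU, rfl⟩
    have hVV₀ : V ≤ V₀ := by
      rintro _ ⟨a, ha, rfl⟩
      exact ha.2
    have hDV : topologicalKrullDim ↥(V : Set Y) = FlatMor.localDim Y (f x) :=
      le_antisymm ((Groth.Agent.H3.TopDim.dim_mono hVV₀).trans hV₀.le)
        (Groth.Agent.H3.TopDim.localDim_le_dim_of_mem V hfxV)
    rw [← hDU, ← hDV, dim_opens_eq_iSup_stalk Y V]
    apply iSup_add_natCast_le
    rintro ⟨b, a₀, ha₀U, rfl⟩
    haveI hlft : LocallyOfFiniteType (f.fiberToSpecResidueField (f a₀)) :=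
      Groth.Agent.H1.Chev.locallyOfFiniteType_fiberToSpecResidueField f (f a₀)
    haveI : JacobsonSpace (f.fiber (f a₀)) :=
      LocallyOfFiniteType.jacobsonSpace (f.fiberToSpecResidueField (f a₀))
    obtain ⟨z, hzW, hzc⟩ := nonempty_inter_closedPoints
      (Z := (f.fiberι (f a₀)) ⁻¹' (U : Set X))
      ⟨f.asFiber a₀, by rw [Set.mem_preimage, f.fiberι_asFiber]; exact ha₀U⟩
      (U.2.preimage (f.fiberι (f a₀)).continuous).isLocallyClosed
    set a := f.fiberι (f a₀) z with hadef
    have hfa : f a = f a₀ := by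
      have : a ∈ Set.range (f.fiberι (f a₀)) := ⟨z, rfl⟩
      rw [Scheme.Hom.range_fiberι] at this
      exact this
    have haU : a ∈ U := hzW
    have h1 : ringKrullDim ((f.fiber (f a₀)).presheaf.stalk z) = d := by
      rw [← @Groth.Agent.H1.DimFormula.localDim_eq_stalk_of_isClosed (Y.residueField (f a₀)) _ _
        (f.fiberToSpecResidueField (f a₀)) hlft z hzc,
        Groth.Agent.H1.Chev.localDim_fiber_eq_fibreDimAt f a (f a₀) hfa z rfl, hd]
    have h2 : ringKrullDim ((f.fiber (f a)).presheaf.stalk (f.asFiber a)) = d := by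
      rw [← ringKrullDim_fiber_stalk_congr f a (f a₀) hfa z rfl, h1]
    calc ringKrullDim (Y.presheaf.stalk (f a₀)) + (d : WithBot ℕ∞)
        = ringKrullDim (Y.presheaf.stalk (f a)) +
          ringKrullDim ((f.fiber (f a)).presheaf.stalk (f.asFiber a)) := by rw [h2, hfa]
      _ = ringKrullDim (X.presheaf.stalk a) :=
          (stalk_dim_eq_add_fiber_of_flat f a (Flat.stalkMap f a)).symm
      _ ≤ topologicalKrullDim ↥(U : Set X) := stalk_dim_le_dim_opens X U a haU

end Groth.Agent.H1.FlatRelDim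

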