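import Mathlib
import Groth.Agent.Lib.Helper1.FibDimEt
import Groth.Agent.Lib.Helper1.FibDimCons

/-! Retrocompactness of the loci `dim_x X_{f x} ≤ n` for morphisms locally of finite presentation
(helper1). -/

set_option autoImplicit false
universe u

namespace Groth.Agent.H1.FibDimFP

open TensorProduct AlgebraicGeometry CategoryTheory CategoryTheory.Limits TopologicalSpace Topology

/-- the locus `dim_x ≤ n` of a finitely presented morphism of affine schemes is quasi-compact. -/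
theorem isCompact_fibreDimAt_le_Spec (A B : Type u) [CommRing A] [CommRing B] [Algebra A B]
    [Algebra.FinitePresentation A B] (n : ℕ) :
    IsCompact {y : Spec (CommRingCat.of B) |
      FlatMor.fibreDimAt (Spec.map (CommRingCat.ofHom (algebraMap A B))) y ≤ n} := by
  classical
  obtain ⟨s, hs⟩ := Groth.Agent.H5.Lim.exists_model_of_finitePresentation A B
  let A₀ : Subalgebra ℤ A := Algebra.adjoin ℤ (s : Set A)
  obtain ⟨B₀, _, _, hfp, ⟨e⟩⟩ := hs A₀ (by
    intro x hx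
    exact ⟨⟨x, Algebra.subset_adjoin hx⟩, rfl⟩)
  haveI : Algebra.FiniteType ℤ A₀ := .adjoin_of_finite s.finite_toSet
  haveI : IsNoetherianRing A₀ := Algebra.FiniteType.isNoetherianRing ℤ A₀
  haveI : IsNoetherianRing B₀ := Algebra.FiniteType.isNoetherianRing A₀ B₀
  -- the model and its base change
  set φ₀ := Spec.map (CommRingCat.ofHom (algebraMap A₀ B₀)) with hφ₀
  have : LocallyOfFiniteType φ₀ := by
    rw [hφ₀, HasRingHomProperty.Spec_iff (P := @LocallyOfFiniteType)]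
    exact RingHom.finiteType_algebraMap.mpr (inferInstance : Algebra.FiniteType A₀ B₀)
  have sq := isPullback_SpecMap_of_isPushout _ _ _ _
    (CommRingCat.isPushout_tensorProduct A₀ A B₀)
  set ψ := Spec.map (CommRingCat.ofHom (Algebra.TensorProduct.includeLeftRingHom :
    A →+* A ⊗[A₀] B₀)) with hψ
  set pr := Spec.map (CommRingCat.ofHom ((Algebra.TensorProduct.includeRight :
    B₀ →ₐ[A₀] A ⊗[A₀] B₀).toRingHom)) with hpr
  have hbc : ∀ z : Spec (CommRingCat.of (A ⊗[A₀] B₀)),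
      FlatMor.fibreDimAt ψ z = FlatMor.fibreDimAt φ₀ (pr z) := fun z =>
    Groth.Agent.H1.FibDimBC.fibreDimAt_eq_of_isPullback φ₀ _ pr ψ sq.flip z
  -- the isomorphism
  set ε := Spec.map (CommRingCat.ofHom e.toRingEquiv.toRingHom) with hε
  have : IsIso ε := by
    rw [hε]
    have : IsIso (CommRingCat.ofHom e.toRingEquiv.toRingHom) :=
      (e.toRingEquiv.toCommRingCatIso).isIso_hom
    infer_instance
  have hεψ : ε ≫ ψ = Spec.map (CommRingCat.ofHom (algebraMap A B)) := by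
    rw [hε, hψ, ← Spec.map_comp]
    congr 1
    ext a
    change e (a ⊗ₜ[A₀] (1 : B₀)) = algebraMap A B a
    have h1 : a ⊗ₜ[A₀] (1 : B₀) = algebraMap A (A ⊗[A₀] B₀) a :=
      (Algebra.TensorProduct.algebraMap_apply a).symm
    rw [h1, e.commutes]
  have hiso : ∀ y : Spec (CommRingCat.of B),
      FlatMor.fibreDimAt (Spec.map (CommRingCat.ofHom (algebraMap A B))) y =
        FlatMor.fibreDimAt φ₀ (pr (ε y)) := by
    intro y
    rw [← hεψ, Groth.Agent.H1.FibDimEt.fibreDimAt_comp_of_etale ε ψ y, hbc]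
  -- compactness
  have hE₀ : IsOpen {x₀ : Spec (CommRingCat.of B₀) | FlatMor.fibreDimAt φ₀ x₀ ≤ n} :=
    Groth.Agent.H1.Chev.isOpen_fibreDimAt_le φ₀ n
  haveI : NoetherianSpace (Spec (CommRingCat.of B₀)) :=
    inferInstanceAs (NoetherianSpace (PrimeSpectrum B₀))
  have hc₀ : IsCompact {x₀ : Spec (CommRingCat.of B₀) | FlatMor.fibreDimAt φ₀ x₀ ≤ n} :=
    NoetherianSpace.isCompact _
  have hc₁ : IsCompact ((ε ≫ pr) ⁻¹' {x₀ : Spec (CommRingCat.of B₀) |
      FlatMor.fibreDimAt φ₀ x₀ ≤ n}) :=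
    QuasiCompact.isCompact_preimage (f := ε ≫ pr) _ hE₀ hc₀
  convert hc₁ using 1
  ext y
  simp only [Set.mem_ofPred_eq, Set.mem_preimage, Scheme.Hom.comp_apply]
  rw [hiso]

variable {X S : Scheme.{u}}

/-- the local fibre dimension can be computed on affine opens. -/
theorem fibreDimAt_fromSpec (f : X ⟶ S) {V : X.Opens} {W : S.Opens} (hV : IsAffineOpen V)
    (hW : IsAffineOpen W) (e : V ≤ f ⁻¹ᵁ W) (y : Spec Γ(X, V)) :
    FlatMor.fibreDimAt f (hV.fromSpec y) = FlatMor.fibreDimAt (Spec.map (f.appLE W V e)) y :=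
  Groth.Agent.H1.FibDimEt.fibreDimAt_eq_of_etale_square f (Spec.map (f.appLE W V e))
    hV.fromSpec hW.fromSpec (IsAffineOpen.SpecMap_appLE_fromSpec f hW hV e) y

/-- **The loci `dim_x X_{f x} ≤ n` of a morphism locally of finite presentation are
retrocompact.** -/
theorem isRetrocompact_fibreDimAt_le (f : X ⟶ S) [LocallyOfFinitePresentation f] (n : ℕ) :
    IsRetrocompact {x : X | FlatMor.fibreDimAt f x ≤ n} := by
  -- the affine case
  have key : ∀ (V : X.Opens) (W : S.Opens), IsAffineOpen V → IsAffineOpen W → V ≤ f ⁻¹ᵁ W →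
      IsCompact ({x : X | FlatMor.fibreDimAt f x ≤ n} ∩ (V : Set X)) := by
    intro V W hV hW e
    let := (f.appLE W V e).hom.toAlgebra
    have : Algebra.FinitePresentation Γ(S, W) Γ(X, V) := f.finitePresentation_appLE hW hV e
    have h1 := isCompact_fibreDimAt_le_Spec Γ(S, W) Γ(X, V) n
    have h2 := h1.image hV.fromSpec.continuous
    convert h2 using 1
    ext x
    constructor
    · rintro ⟨hx, hxV⟩
      have hxr : x ∈ Set.range hV.fromSpec := by rw [hV.range_fromSpec]; exact hxV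
      obtain ⟨y, rfl⟩ := hxr
      refine ⟨y, ?_, rfl⟩
      have := fibreDimAt_fromSpec f hV hW e y
      rw [Set.mem_ofPred_eq] at hx ⊢
      rw [this] at hx
      exact hx
    · rintro ⟨y, hy, rfl⟩
      refine ⟨?_, ?_⟩
      · have := fibreDimAt_fromSpec f hV hW e y
        rw [Set.mem_ofPred_eq] at hy ⊢
        rw [this]
        exact hy
      · rw [← hV.range_fromSpec]
        exact ⟨y, rfl⟩
  intro U hUc hUo
  -- cover `U` by good affine opens
  have hcov : ∀ x : U, ∃ V : X.Opens, IsAffineOpen V ∧ x.1 ∈ V ∧ (V : Set X) ⊆ U ∧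
      ∃ W : S.Opens, IsAffineOpen W ∧ V ≤ f ⁻¹ᵁ W := by
    rintro ⟨x, hxU⟩
    obtain ⟨W, hW, hxW⟩ : ∃ W : S.Opens, IsAffineOpen W ∧ f x ∈ W := by
      obtain ⟨_, ⟨W, hW, rfl⟩, hsW, -⟩ :=
        S.isBasis_affineOpens.exists_subset_of_mem_open (Set.mem_univ (f x)) isOpen_univ
      exact ⟨W, hW, hsW⟩
    obtain ⟨_, ⟨V, hV, rfl⟩, hxV, hVU⟩ :=
      X.isBasis_affineOpens.exists_subset_of_mem_open (a := x)
        (show x ∈ (U ∩ (f ⁻¹ᵁ W : X.Opens) : Set X) from ⟨hxU, hxW⟩)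
        (hUo.inter (f ⁻¹ᵁ W).isOpen)
    exact ⟨V, hV, hxV, fun a ha => (hVU ha).1, W, hW, fun a ha => (hVU ha).2⟩
  choose V hV hxV hVU W hW hVW using hcov
  obtain ⟨t, ht⟩ := hUc.elim_finite_subcover (fun x : U => (V x : Set X))
    (fun x => (V x).isOpen) (fun x hx => Set.mem_iUnion.mpr ⟨⟨x, hx⟩, hxV ⟨x, hx⟩⟩)
  have hEq : {x : X | FlatMor.fibreDimAt f x ≤ n} ∩ U =
      ⋃ i ∈ t, ({x : X | FlatMor.fibreDimAt f x ≤ n} ∩ (V i : Set X)) := by
    ext x
    simp only [Set.mem_inter_iff, Set.mem_iUnion, exists_prop]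
    constructor
    · rintro ⟨hx, hxU⟩
      obtain ⟨i, hi, hxi⟩ := Set.mem_iUnion₂.mp (ht hxU)
      exact ⟨i, hi, hx, hxi⟩
    · rintro ⟨i, _, hx, hxi⟩
      exact ⟨hx, hVU i hxi⟩
  rw [hEq]
  exact t.isCompact_biUnion fun i _ => key (V i) (W i) (hV i) (hW i) (hVW i)

end Groth.Agent.H1.FibDimFP
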