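import Mathlib
import Groth.Agent.Lib.Helper1.Chev4
import Groth.Agent.Lib.Helper2.DimFG
import Groth.Agent.Lib.Helper1.FibDimFP

/-! Helper1: fibres of affine maps, fibre dimension of affine space and of smooth morphisms. -/

set_option autoImplicit false
universe u
open AlgebraicGeometry CategoryTheory CategoryTheory.Limits TopologicalSpace Topology TensorProduct

namespace Groth.Agent.H1.SmoothDim

/-- the fibre of `Spec S ⟶ Spec R` over `q` is `Spec (κ(q) ⊗[R] S)` -/
noncomputable def fiberSpecIso (R S : Type u) [CommRing R] [CommRing S] [Algebra R S]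
    (q : PrimeSpectrum R) :
    (Spec.map (CommRingCat.ofHom <| algebraMap R S)).fiber q ≅
      Spec (CommRingCat.of (q.asIdeal.Fiber S)) :=
  (Arrow.leftFunc).mapIso (Spec.fiberToSpecResidueFieldIso R S q)

theorem fibreDimAt_SpecMap_of_irreducibleSpace (R S : Type u) [CommRing R] [CommRing S]
    [Algebra R S] [Algebra.FiniteType R S] (p : Spec (CommRingCat.of S))
    (q : PrimeSpectrum R) (hq : (Spec.map (CommRingCat.ofHom <| algebraMap R S)) p = q)
    [IrreducibleSpace (PrimeSpectrum (q.asIdeal.Fiber S))] :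
    FlatMor.fibreDimAt (Spec.map (CommRingCat.ofHom <| algebraMap R S)) p =
      ringKrullDim (q.asIdeal.Fiber S) := by
  subst hq
  set f := Spec.map (CommRingCat.ofHom <| algebraMap R S) with hf
  have : LocallyOfFiniteType f := by
    rw [hf, HasRingHomProperty.Spec_iff (P := @LocallyOfFiniteType)]
    exact RingHom.finiteType_algebraMap.mpr inferInstance
  let e := fiberSpecIso R S (f p)
  let h : f.fiber (f p) ≃ₜ PrimeSpectrum ((f p).asIdeal.Fiber S) := Scheme.homeoOfIso e
  haveI : IrreducibleSpace (f.fiber (f p)) := by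
    exact h.symm.surjective.irreducibleSpace h.symm.continuous
  rw [Groth.Agent.H1.Chev.fibreDimAt_eq_dim_of_irreducibleSpace f p]
  rw [← PrimeSpectrum.topologicalKrullDim_eq_ringKrullDim]
  exact IsHomeomorph.topologicalKrullDim_eq _ h.isHomeomorph

/-- the fibres of affine space have dimension `n` at every point -/
theorem fibreDimAt_SpecMap_mvPolynomial (R : Type u) [CommRing R] (n : ℕ)
    (p : Spec (CommRingCat.of (MvPolynomial (Fin n) R))) :
    FlatMor.fibreDimAt (Spec.map (CommRingCat.ofHom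
      (algebraMap R (MvPolynomial (Fin n) R)))) p = n := by
  set q : PrimeSpectrum R := (Spec.map (CommRingCat.ofHom
      (algebraMap R (MvPolynomial (Fin n) R)))) p with hq
  let e : q.asIdeal.Fiber (MvPolynomial (Fin n) R) ≃ₐ[q.asIdeal.ResidueField]
      MvPolynomial (Fin n) q.asIdeal.ResidueField :=
    MvPolynomial.algebraTensorAlgEquiv R q.asIdeal.ResidueField
  haveI : IsDomain (q.asIdeal.Fiber (MvPolynomial (Fin n) R)) :=
    e.toRingEquiv.toMulEquiv.isDomain _
  rw [fibreDimAt_SpecMap_of_irreducibleSpace R (MvPolynomial (Fin n) R) p q hq.symm,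
    ringKrullDim_eq_of_ringEquiv e.toRingEquiv,
    Groth.Agent.H2.DimFG.ringKrullDim_mvPolynomial_fin]

/-- **a morphism smooth of relative dimension `n` has fibres of local dimension `n`.** -/
theorem fibreDimAt_of_smoothOfRelativeDimension (n : ℕ) {X Y : Scheme.{u}} (f : X ⟶ Y)
    [SmoothOfRelativeDimension n f] (x : X) :
    FlatMor.fibreDimAt f x = (n : WithBot ℕ∞) := by
  obtain ⟨U, hU, V, hV, hx, e, hf⟩ :=
    SmoothOfRelativeDimension.exists_isStandardSmoothOfRelativeDimension (n := n) (f := f) x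
  obtain ⟨g, hg1, hg2⟩ := hf.exists_etale_mvPolynomial
  have hxy : hV.fromSpec (hV.primeIdealOf ⟨x, hx⟩) = x := hV.fromSpec_primeIdealOf ⟨x, hx⟩
  rw [← hxy, Groth.Agent.H1.FibDimFP.fibreDimAt_fromSpec f hV hU e]
  have hfac : Spec.map (f.appLE U V e) = Spec.map (CommRingCat.ofHom g) ≫
      Spec.map (CommRingCat.ofHom (algebraMap Γ(Y, U) (MvPolynomial (Fin n) Γ(Y, U)))) := by
    rw [← Spec.map_comp]
    congr 1
    ext1
    rw [CommRingCat.hom_comp, CommRingCat.hom_ofHom, CommRingCat.hom_ofHom,
      MvPolynomial.algebraMap_eq]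
    exact hg1.symm
  haveI : Etale (Spec.map (CommRingCat.ofHom g)) :=
    (HasRingHomProperty.Spec_iff (P := @Etale)).mpr hg2
  rw [hfac, Groth.Agent.H1.FibDimEt.fibreDimAt_comp_of_etale, fibreDimAt_SpecMap_mvPolynomial]

end Groth.Agent.H1.SmoothDim
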