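import Mathlib
import Groth.Agent.Lib.Helper1.AlgSpDim
import Groth.Agent.Lib.Helper3.AlgSpMor.EtaleDim
import Groth.Agent.Lib.Helper3.AlgSpCov.RedNoeth
import Groth.Agent.Lib.Helper1.FlatRelDim
import Groth.Agent.Lib.Helper1.SmoothDim

/-! Helper1: chart independence for pointwise properties of algebraic spaces; dimension at points. -/
set_option autoImplicit false
universe u
open CategoryTheory CategoryTheory.Limits AlgebraicGeometry MorphismProperty Topology
namespace Groth.Agent.H1.AlgSpDim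
open _root_.AlgSp Groth.Agent.H5.EtSrc Groth.Agent.H5.AlgSp

variable {S : Scheme.{u}} {F G H : Sp S}

/-- a pointwise predicate on schemes is étale-local -/
def EtLocalPt (Q : ∀ U : Scheme.{u}, ↥U → Prop) : Prop :=
  ∀ ⦃U U'' : Scheme.{u}⦄ (p : U'' ⟶ U), Etale p → ∀ r : U'', Q U'' r ↔ Q U (p r)

/-- **chart independence** for pointwise properties of a space. -/
theorem hasAt_chart {Q : ∀ U : Scheme.{u}, ↥U → Prop} (hQ : EtLocalPt Q)
    {U : Over S} (a : (yon S).obj U ⟶ F) (ha : RepWith @Etale a) (u : ↥U.left)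
    (hx : HasAt Q F (Points.ofPt a u)) : Q U.left u := by
  obtain ⟨U', a', u', ha', hu', hQ'⟩ := hx
  have sqU := ha'.rep.isPullback' a
  have hpr : Etale (ha'.rep.snd a).left := ha'.property_snd a
  have hpr' : Etale (ha'.rep.fst' a).left := ha.property a' _ _ sqU.flip
  have h12 : Points.map a' (Points.schemeHomeo U' u') = Points.ofPt a u := by
    rw [← hu', Points.ofPt_eq_map_ofScheme]
    rfl
  obtain ⟨r, hr1, hr2⟩ := exists_point_of_isPullback sqU (Points.schemeHomeo U' u') u h12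
  have hr' : (ha'.rep.fst' a).left r = u' := by
    apply (Points.schemeHomeo U').injective
    rw [← hr2]
    have := ofPt_yon_map_comp (ha'.rep.fst' a) (𝟙 ((yon S).obj U')) r
    rw [Category.comp_id] at this
    rw [this]
    rfl
  have e1 := hQ (ha'.rep.fst' a).left hpr' r
  have e2 := hQ (ha'.rep.snd a).left hpr r
  rw [hr'] at e1
  rw [hr1] at e2
  exact e2.mp (e1.mpr hQ')

theorem etLocalPt_localDim_eq (d : WithBot ℕ∞) :
    EtLocalPt (fun U u => FlatMor.localDim ↥U u = d) := by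
  intro U U'' p hp r
  beta_reduce
  rw [Groth.Agent.H3.EtaleDim.localDim_eq_of_etale p r]

/-- the image point of a chart diagram -/
theorem map_ofPt_chart {f : F ⟶ G} {U V : Over S} (a : (yon S).obj U ⟶ F)
    (b : (yon S).obj V ⟶ G) (h : U ⟶ V) (comm : a ≫ f = (yon S).map h ≫ b) (u : ↥U.left) :
    Points.map f (Points.ofPt a u) = Points.ofPt b (h.left u) := by
  rw [Points.map_ofPt, comm, ofPt_yon_map_comp]

end Groth.Agent.H1.AlgSpDim

namespace Groth.Agent.H1.SmoothDim
open TopologicalSpace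

variable {X Y : Scheme.{u}}

/-- the fibre dimension of a smooth morphism is locally constant -/
theorem exists_fibreDimAt_eq_of_smooth (f : X ⟶ Y) [Smooth f] (x : X) :
    ∃ (N : X.Opens) (n : ℕ), x ∈ N ∧ ∀ x' ∈ N, FlatMor.fibreDimAt f x' = n := by
  obtain ⟨U, hU, V, hV, hx, e, hf⟩ := Smooth.exists_isStandardSmooth f x
  obtain ⟨n, g, hg1, hg2⟩ := hf.exists_etale_mvPolynomial
  refine ⟨V, n, hx, fun x' hx' => ?_⟩
  have hxy : hV.fromSpec (hV.primeIdealOf ⟨x', hx'⟩) = x' := hV.fromSpec_primeIdealOf ⟨x', hx'⟩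
  rw [← hxy, Groth.Agent.H1.FibDimFP.fibreDimAt_fromSpec f hV hU e]
  have hfac : Spec.map (f.appLE U V e) = Spec.map (CommRingCat.ofHom g) ≫
      Spec.map (CommRingCat.ofHom (algebraMap Γ(Y, U) (MvPolynomial (Fin n) Γ(Y, U)))) := by
    rw [← Spec.map_comp]
    congr 1
    ext1
    rw [CommRingCat.hom_comp, CommRingCat.hom_ofHom, CommRingCat.hom_ofHom,
      MvPolynomial.algebraMap_eq]
    exact hg1.symm
  haveI : Etale (Spec.map (CommRingCat.ofHom g)) :=
    (HasRingHomProperty.Spec_iff (P := @Etale)).mpr hg2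
  rw [hfac, Groth.Agent.H1.FibDimEt.fibreDimAt_comp_of_etale, fibreDimAt_SpecMap_mvPolynomial]

/-- for a smooth morphism to a locally noetherian scheme,
`dim_x X = dim_{f x} Y + dim_x X_{f x}`. -/
theorem localDim_eq_add_of_smooth [IsLocallyNoetherian Y] (f : X ⟶ Y) [Smooth f] (x : X) :
    FlatMor.localDim X x = FlatMor.localDim Y (f x) + FlatMor.fibreDimAt f x := by
  obtain ⟨N, n, hxN, hN⟩ := exists_fibreDimAt_eq_of_smooth f x
  haveI : IsLocallyNoetherian X := LocallyOfFiniteType.isLocallyNoetherian f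
  haveI : IsLocallyNoetherian N := isLocallyNoetherian_of_isOpenImmersion N.ι
  have h1 := Groth.Agent.H1.FlatRelDim.localDim_eq_add_of_flat (N.ι ≫ f) n (fun w => by
    rw [Groth.Agent.H1.FibDimEt.fibreDimAt_comp_of_etale]
    exact hN _ w.2) ⟨x, hxN⟩
  have h2 := Groth.Agent.H3.EtaleDim.localDim_eq_of_etale N.ι ⟨x, hxN⟩
  rw [hN x hxN]
  rw [h2] at h1
  exact h1

end Groth.Agent.H1.SmoothDim
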