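import Mathlib
import Groth.Agent.Lib.Helper1.Chev4
import Groth.Agent.Lib.Helper1.FlatRelDim
import Groth.Agent.Lib.Helper1.DimFormula2
import Groth.Agent.Lib.Helper1.AlgSpDim2
import Groth.Agent.Lib.Helper5.AlgSp.LocPCalc

/-! Helper1: relative dimension zero = quasi-finite. -/

set_option autoImplicit false
universe u
open AlgebraicGeometry CategoryTheory CategoryTheory.Limits TopologicalSpace Topology

namespace Groth.Agent.H1.QFDim

variable {X Y : Scheme.{u}}

/-- **relative dimension zero at a point = quasi-finite at the point.** -/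
theorem fibreDimAt_eq_zero_iff (f : X ⟶ Y) [LocallyOfFiniteType f] (x : X) :
    FlatMor.fibreDimAt f x = 0 ↔ f.QuasiFiniteAt x := by
  rw [Scheme.Hom.quasiFiniteAt_iff_isOpen_singleton_asFiber]
  constructor
  · intro h
    obtain ⟨W₀, hxW, hW⟩ := Groth.Agent.H1.FlatRelDim.exists_opens_dim_eq_localDim (f.asFiber x)
    let W : (f.fiber (f x)).Opens := W₀
    have hW0 : topologicalKrullDim ↥(W : Set (f.fiber (f x))) = 0 := hW.trans h
    haveI : IsLocallyNoetherian (W : Scheme.{u}) := isLocallyNoetherian_of_isOpenImmersion W.ι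
    haveI : IsLocallyArtinian (W : Scheme.{u}) :=
      IsLocallyArtinian.of_topologicalKrullDim_le_zero hW0.le
    have hdisc : DiscreteTopology (W : Scheme.{u}) := inferInstance
    have h1 : IsOpen ({⟨f.asFiber x, hxW⟩} : Set (W : Scheme.{u})) := isOpen_discrete _
    have h2 := W.ι.isOpenEmbedding.isOpenMap _ h1
    rw [Set.image_singleton] at h2
    exact h2
  · intro h
    apply le_antisymm _ (Groth.Agent.H1.Chev.zero_le_fibreDimAt f x)
    refine (Groth.Agent.H3.TopDim.localDim_le_dim_of_mem
      (⟨{f.asFiber x}, h⟩ : (f.fiber (f x)).Opens) rfl).trans ?_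
    haveI : Subsingleton ↥(({f.asFiber x} : Set (f.fiber (f x)))) := by
      constructor
      rintro ⟨a, ha⟩ ⟨b, hb⟩
      rw [Set.mem_singleton_iff] at ha hb
      exact Subtype.ext (ha.trans hb.symm)
    exact topologicalKrullDim_zero_of_discreteTopology _

theorem locallyQuasiFinite_of_forall_quasiFiniteAt (f : X ⟶ Y) [LocallyOfFiniteType f]
    (h : ∀ x, f.QuasiFiniteAt x) : LocallyQuasiFinite f := by
  rw [locallyQuasiFinite_iff_isDiscrete_preimage_singleton]
  intro y
  rw [isDiscrete_iff_discreteTopology]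
  haveI : DiscreteTopology (f.fiber y) := by
    rw [discreteTopology_iff_isOpen_singleton]
    intro z
    obtain ⟨x, hx⟩ : ∃ x, f.fiberι y z = x := ⟨_, rfl⟩
    have hz : f x = y := by
      have : f.fiberι y z ∈ Set.range (f.fiberι y) := ⟨z, rfl⟩
      rw [Scheme.Hom.range_fiberι, hx] at this
      exact this
    subst hz
    have hz' : z = f.asFiber x := by
      apply (f.fiberι _).isEmbedding.injective
      rw [f.fiberι_asFiber, hx]
    rw [hz']
    exact Scheme.Hom.quasiFiniteAt_iff_isOpen_singleton_asFiber.mp (h _)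
  exact (f.fiberHomeo y).symm.isEmbedding.discreteTopology

theorem locallyQuasiFinite_iff_fibreDimAt (f : X ⟶ Y) [LocallyOfFiniteType f] :
    LocallyQuasiFinite f ↔ ∀ x, FlatMor.fibreDimAt f x = 0 := by
  constructor
  · intro h x
    exact (fibreDimAt_eq_zero_iff f x).mpr (f.quasiFiniteAt x)
  · intro h
    exact locallyQuasiFinite_of_forall_quasiFiniteAt f fun x => (fibreDimAt_eq_zero_iff f x).mp (h x)

end Groth.Agent.H1.QFDim
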