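import Mathlib
import Groth.Prelude.Def_Curv2
import Groth.Prelude.Def_Found
import Groth.Agent.Lib.Helper1.BCStalkReg

/-! Helper1: geometric regularity at a point = smoothness at the point (locally of finite type
over a field). -/

set_option autoImplicit false
set_option linter.style.haveILetI false
universe u
open CategoryTheory CategoryTheory.Limits AlgebraicGeometry IsLocalRing TensorProduct

namespace Groth.Agent.H1.SmoothReg

theorem essFiniteType_stalkMapK (K : Type u) [Field K]
    {X : Scheme.{u}} (f : X ⟶ Spec (CommRingCat.of K)) [LocallyOfFiniteType f] (x : X) :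
    (stalkMapK f x).EssFiniteType := by
  have hft := LocallyOfFiniteType.stalkMap f x
  have hbij := baseMapK_bijective K (f x)
  rw [stalkMapK_eq]
  have h1 : (baseMapK K (f x)).EssFiniteType := by
    apply RingHom.FiniteType.essFiniteType
    exact RingHom.FiniteType.of_surjective _ hbij.2
  exact h1.comp hft

/-- smoothness at a point = formal smoothness of the local ring over the ground field. -/
theorem mem_smoothLocus_iff_formallySmooth (K : Type u) [Field K]
    {X : Scheme.{u}} (f : X ⟶ Spec (CommRingCat.of K)) [LocallyOfFinitePresentation f] (x : X) :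
    x ∈ f.smoothLocus ↔ (stalkMapK f x).FormallySmooth := by
  rw [Scheme.Hom.mem_smoothLocus]
  have hbij := baseMapK_bijective K (f x)
  let e : K ≃+* (Spec (CommRingCat.of K)).presheaf.stalk (f x) := RingEquiv.ofBijective _ hbij
  have h3 : (f.stalkMap x).hom = (stalkMapK f x).comp e.symm.toRingHom := by
    rw [stalkMapK_eq]
    ext a
    show _ = (f.stalkMap x).hom (baseMapK K (f x) (e.symm a))
    congr 1
    exact (e.apply_symm_apply a).symm
  constructor
  · intro h
    rw [stalkMapK_eq]
    exact (RingHom.FormallySmooth.of_bijective hbij).comp h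
  · intro h
    rw [h3]
    exact (RingHom.FormallySmooth.of_bijective e.symm.bijective).comp h

attribute [local instance] Curv2.resAlgebra Curv2.stalkAlgebra

theorem s1562 (k : Type u) [Field k] (X : Scheme.{u}) [X.Over (Spec (CommRingCat.of k))]
    [LocallyOfFinitePresentation (X ↘ (Spec (CommRingCat.of k)))] (x : X) :
    Curv2.IsGeomRegularAt k X x ↔ x ∈ (X ↘ (Spec (CommRingCat.of k))).smoothLocus := by
  haveI : LocallyOfFiniteType (X ↘ (Spec (CommRingCat.of k))) := inferInstance
  haveI : IsLocallyNoetherian X :=
    LocallyOfFiniteType.isLocallyNoetherian (X ↘ (Spec (CommRingCat.of k)))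
  rw [Groth.Agent.H1.BCStalk.isGeomRegularAt_iff, mem_smoothLocus_iff_formallySmooth,
    H5.NG.isGeometricallyRegular_iff_isAdicFormallySmooth]
  haveI hess : Algebra.EssFiniteType k (X.presheaf.stalk x) :=
    essFiniteType_stalkMapK k (X ↘ (Spec (CommRingCat.of k))) x
  constructor
  · intro h
    show Algebra.FormallySmooth k (X.presheaf.stalk x)
    exact Groth.Agent.H5.Jac.formallySmooth_of_isAdicFormallySmooth_of_essFiniteType h
  · intro h
    haveI : Algebra.FormallySmooth k (X.presheaf.stalk x) := h
    exact Groth.Agent.H5.GR.isAdicFormallySmooth_of_formallySmooth k _ _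

end Groth.Agent.H1.SmoothReg
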