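import Mathlib
import Groth.Agent.Lib.Helper1.PolyModel
import Groth.Agent.Lib.Helper1.LocalCriterion2
import Groth.Agent.Lib.Helper1.FibreFree

/-!
# Fibrewise injectivity ⇒ injectivity with flat cokernel: the Noetherian polynomial core
-/

set_option autoImplicit false

universe u

open TensorProduct Function

namespace Groth.Agent.H1.FibInj

open Groth.Agent.H1.PolyModel

attribute [local instance] MvPolynomial.algebraMvPolynomial

section general

variable {A B : Type*} [CommRing A] [CommRing B] [Algebra A B]

/-- every element of `(A/I) ⊗ N` is of the form `1 ⊗ n` -/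
theorem exists_one_tmul (I : Ideal A) {N : Type*} [AddCommGroup N] [Module A N]
    (z : (A ⧸ I) ⊗[A] N) : ∃ x : N, z = (1 : A ⧸ I) ⊗ₜ[A] x := by
  induction z using TensorProduct.induction_on with
  | zero => exact ⟨0, by rw [tmul_zero]⟩
  | add a b ha hb =>
    obtain ⟨x, rfl⟩ := ha
    obtain ⟨y, rfl⟩ := hb
    exact ⟨x + y, by rw [tmul_add]⟩
  | tmul a x =>
    obtain ⟨a, rfl⟩ := Ideal.Quotient.mk_surjective a
    refine ⟨a • x, ?_⟩
    rw [← TensorProduct.smul_tmul]
    congr 1
    rw [Algebra.smul_def, mul_one]
    rfl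

variable {F : Type*} [AddCommGroup F] [Module B F] [Module A F] [IsScalarTower A B F]

/-- elements of `I • (T⁻¹F)` have a representative with numerator in `I • F` -/
theorem exists_mk_of_mem_smul_top (T : Submonoid B) (I : Ideal A) (z : LocalizedModule T F)
    (hz : z ∈ I • (⊤ : Submodule A (LocalizedModule T F))) :
    ∃ (x : F) (σ : T), x ∈ I • (⊤ : Submodule A F) ∧ z = LocalizedModule.mk x σ := by
  have hB : ∀ (b : B) (x : F), x ∈ I • (⊤ : Submodule A F) → b • x ∈ I • (⊤ : Submodule A F) := by
    intro b x hx
    refine Submodule.smul_induction_on hx ?_ ?_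
    · intro a ha y _
      rw [smul_comm]
      exact Submodule.smul_mem_smul ha Submodule.mem_top
    · intro x y hx hy
      rw [smul_add]
      exact Submodule.add_mem _ hx hy
  refine Submodule.smul_induction_on hz ?_ ?_
  · intro a ha y _
    induction y using LocalizedModule.induction_on with
    | h y σ =>
      refine ⟨a • y, σ, Submodule.smul_mem_smul ha Submodule.mem_top, ?_⟩
      rw [LocalizedModule.smul'_mk]
  · rintro _ _ ⟨x, σ, hx, rfl⟩ ⟨y, τ, hy, rfl⟩
    refine ⟨τ • x + σ • y, σ * τ, Submodule.add_mem _ (hB _ _ hx) (hB _ _ hy), ?_⟩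
    rw [LocalizedModule.mk_add_mk]

/-- a fraction lies in `I • (T⁻¹F)` iff a multiple of the numerator lies in `I • F` -/
theorem exists_smul_mem_of_mk_mem_smul_top (T : Submonoid B) (I : Ideal A) (x : F) (σ : T)
    (hz : LocalizedModule.mk x σ ∈ I • (⊤ : Submodule A (LocalizedModule T F))) :
    ∃ τ : T, (τ : B) • x ∈ I • (⊤ : Submodule A F) := by
  have hB : ∀ (b : B) (x : F), x ∈ I • (⊤ : Submodule A F) → b • x ∈ I • (⊤ : Submodule A F) := by
    intro b x hx
    refine Submodule.smul_induction_on hx ?_ ?_
    · intro a ha y _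
      rw [smul_comm]
      exact Submodule.smul_mem_smul ha Submodule.mem_top
    · intro x y hx hy
      rw [smul_add]
      exact Submodule.add_mem _ hx hy
  obtain ⟨x', σ', hx', h⟩ := exists_mk_of_mem_smul_top T I _ hz
  rw [LocalizedModule.mk_eq] at h
  obtain ⟨υ, hυ⟩ := h
  refine ⟨υ * σ', ?_⟩
  rw [Submonoid.coe_mul, mul_smul]
  change υ • σ' • x ∈ _
  rw [hυ]
  exact hB _ _ (hB _ _ hx')

theorem mk_mem_smul_top (T : Submonoid B) (I : Ideal A) (x : F) (σ : T)
    (hx : x ∈ I • (⊤ : Submodule A F)) :
    LocalizedModule.mk x σ ∈ I • (⊤ : Submodule A (LocalizedModule T F)) := by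
  refine Submodule.smul_induction_on hx ?_ ?_
  · intro a ha y _
    rw [← LocalizedModule.smul'_mk]
    exact Submodule.smul_mem_smul ha Submodule.mem_top
  · intro x y hx hy
    have : LocalizedModule.mk (x + y) σ = LocalizedModule.mk x σ + LocalizedModule.mk y σ := by
      rw [LocalizedModule.mk_add_mk, ← smul_add, LocalizedModule.mk_cancel_common_left]
    rw [this]
    exact Submodule.add_mem _ hx hy

end general

section core

variable {n : ℕ} {R : Type u} [CommRing R] (r s t : ℕ)
  (U : Fin s → (Fin r → P n R)) (l : Fin t → (Fin s → P n R))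

/-- the map induced by `U` on the quotient by the span of `l` -/
noncomputable def Ubar (hl : ∀ j, kap r s U (l j) = 0) : Mod s t l →ₗ[P n R] (Fin r → P n R) :=
  (LinearMap.range (kap s t l)).liftQ (kap r s U) (by
    rw [range_kap, Submodule.span_le]
    rintro _ ⟨j, rfl⟩
    exact hl j)

theorem Ubar_proj (hl : ∀ j, kap r s U (l j) = 0) (x : Fin s → P n R) :
    Ubar r s t U l hl (proj s t l x) = kap r s U x := rfl

theorem exact_Ubar_proj (hl : ∀ j, kap r s U (l j) = 0) :
    Exact (Ubar r s t U l hl) (proj r s U) := by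
  intro y
  rw [(exact_kap_proj r s U) y]
  constructor
  · rintro ⟨x, rfl⟩
    exact ⟨proj s t l x, rfl⟩
  · rintro ⟨x, rfl⟩
    obtain ⟨x, rfl⟩ := proj_surjective s t l x
    exact ⟨x, rfl⟩

variable [IsLocalRing R]

theorem isLocalHom_algebraMap_localization (q : Ideal (P n R)) [q.IsPrime]
    (hq : (IsLocalRing.maximalIdeal R).map (algebraMap R (P n R)) ≤ q) :
    IsLocalHom (algebraMap R (Localization.AtPrime q)) := by
  constructor
  intro a ha
  by_contra hna
  have hmem : a ∈ IsLocalRing.maximalIdeal R := (IsLocalRing.mem_maximalIdeal a).mpr hna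
  have h1 : algebraMap R (P n R) a ∈ q := hq (Ideal.mem_map_of_mem _ hmem)
  rw [IsScalarTower.algebraMap_apply R (P n R) (Localization.AtPrime q)] at ha
  have h2 := (IsLocalization.AtPrime.isUnit_to_map_iff (Localization.AtPrime q) q _).mp ha
  exact h2 h1

/-- **Noetherian core.** -/
theorem core_noeth [IsNoetherianRing R] (q : Ideal (P n R)) [q.IsPrime]
    (hq : (IsLocalRing.maximalIdeal R).map (algebraMap R (P n R)) ≤ q)
    (hl : ∀ j, kap r s U (l j) = 0) (g : P n R) (hg : g ∉ q)
    (H : ∀ y : Fin s → P n (R ⧸ IsLocalRing.maximalIdeal R),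
      kap r s (kmap (R ⧸ IsLocalRing.maximalIdeal R) r s U) y = 0 →
      MvPolynomial.map (algebraMap R (R ⧸ IsLocalRing.maximalIdeal R)) g • y ∈
        LinearMap.range (kap s t (kmap (R ⧸ IsLocalRing.maximalIdeal R) s t l))) :
    (∀ x : Fin s → P n R, kap r s U x = 0 →
      ∃ h : P n R, h ∉ q ∧ h • x ∈ LinearMap.range (kap s t l)) ∧
    Module.Flat R (LocalizedModule q.primeCompl (Mod r s U)) := by
  classical
  set m := IsLocalRing.maximalIdeal R with hm
  let κ := R ⧸ m
  let T := q.primeCompl
  let S := Localization.AtPrime q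
  haveI : IsLocalHom (algebraMap R S) := isLocalHom_algebraMap_localization q hq
  haveI : IsNoetherianRing S := IsLocalization.isNoetherianRing T S inferInstance
  let N := LocalizedModule T (Mod s t l)
  let M := LocalizedModule T (Fin r → P n R)
  haveI : Module.Flat R M := FibreFree.flat_localizedModule_of_flat (A := R) (B := P n R) T
  let u : N →ₗ[R] M := (LocalizedModule.map T (Ubar r s t U l hl)).restrictScalars R
  have hu : ∀ (x : Fin s → P n R) (σ : T), u (LocalizedModule.mk (proj s t l x) σ) =
      LocalizedModule.mk (kap r s U x) σ := by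
    intro x σ
    change LocalizedModule.map T (Ubar r s t U l hl) _ = _
    rw [LocalizedModule.map_mk, Ubar_proj]
  -- the fibre injectivity
  have hinj : Injective (u.lTensor (R ⧸ m)) := by
    rw [injective_iff_map_eq_zero]
    intro z hz
    obtain ⟨y, rfl⟩ := exists_one_tmul m z
    rw [LinearMap.lTensor_tmul, FibreFree.one_tmul_eq_zero_iff] at hz
    rw [FibreFree.one_tmul_eq_zero_iff]
    induction y using LocalizedModule.induction_on with
    | h y σ =>
      obtain ⟨x, rfl⟩ := proj_surjective s t l y
      rw [hu] at hz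
      obtain ⟨τ, hτ⟩ := exists_smul_mem_of_mk_mem_smul_top T m _ σ hz
      -- `τ x` maps to the kernel over the residue field
      have h1 : kap r s (kmap κ r s U) (vmap n s R κ ((τ : P n R) • x)) = 0 := by
        rw [← vmap_kap, map_smul]
        exact (vmap_quotient_eq_zero_iff n r R m _).mpr hτ
      obtain ⟨cb, hcb⟩ := H _ h1
      obtain ⟨c, rfl⟩ := vmap_surjective n t R κ Ideal.Quotient.mk_surjective cb
      rw [← vmap_kap, ← vmap_smul', ← sub_eq_zero, ← map_sub, vmap_quotient_eq_zero_iff] at hcb
      -- hence `g τ x ∈ range l + m F`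
      have h2 : proj s t l (g • (τ : P n R) • x) ∈ m • (⊤ : Submodule R (Mod s t l)) := by
        have h3 : proj s t l (g • (τ : P n R) • x) =
            - ((proj s t l).restrictScalars R) (kap s t l c - g • (τ : P n R) • x) := by
          rw [LinearMap.restrictScalars_apply, map_sub, neg_sub,
            (exact_kap_proj s t l).apply_apply_eq_zero, sub_zero]
        rw [h3]
        refine Submodule.neg_mem _ ?_
        have := Submodule.mem_map_of_mem (f := (proj s t l).restrictScalars R) hcb
        rw [Submodule.map_smul''] at this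
        exact (Submodule.smul_mono le_rfl le_top) this
      have hgτ : g * τ ∈ T := T.mul_mem hg τ.2
      have h4 : LocalizedModule.mk (proj s t l x) σ =
          LocalizedModule.mk (proj s t l (g • (τ : P n R) • x)) (⟨g * τ, hgτ⟩ * σ) := by
        rw [← mul_smul, map_smul]
        exact (LocalizedModule.mk_cancel_common_left (⟨g * τ, hgτ⟩ : T) σ _).symm
      rw [h4]
      exact mk_mem_smul_top T m _ _ h2
  haveI : Module.Finite S N := inferInstance
  have hmain := injective_and_flat_quotient_of_lTensor_residue_injective S u hinj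
  constructor
  · intro x hx
    have h0 : u (LocalizedModule.mk (proj s t l x) 1) = 0 := by
      rw [hu, hx, LocalizedModule.zero_mk]
    have h1 := hmain.1 (h0.trans (map_zero u).symm)
    rw [← LocalizedModule.zero_mk (1 : T), LocalizedModule.mk_eq] at h1
    obtain ⟨υ, hυ⟩ := h1
    rw [one_smul, smul_zero, smul_zero] at hυ
    refine ⟨υ, υ.2, ?_⟩
    change (υ : P n R) • proj s t l x = 0 at hυ
    rw [← map_smul, Submodule.mkQ_apply, Submodule.Quotient.mk_eq_zero] at hυ
    exact hυ
  · let π : M →ₗ[R] LocalizedModule T (Mod r s U) :=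
      (LocalizedModule.map T (proj r s U)).restrictScalars R
    refine flat_of_exact_of_lTensor_residue_injective S u hinj π ?_ ?_
    · exact LocalizedModule.map_exact T _ _ (exact_Ubar_proj r s t U l hl)
    · exact LocalizedModule.map_surjective T _ (proj_surjective r s U)

end core

end Groth.Agent.H1.FibInj
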