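import Mathlib
import Groth.Agent.Lib.Helper1.LimFlat7
import Groth.Agent.Lib.Helper1.FlatNilpotent

/-!
# Kernels of surjections onto flat finitely presented modules are finitely presented
(EGA IV 11.3.9.1, non-Noetherian, via descent of flatness)
-/

set_option autoImplicit false

universe u

open TensorProduct Function

namespace Groth.Agent.H1.FPKer

open Groth.Agent.H1.PolyModel Groth.Agent.H1.LimFlat

attribute [local instance] MvPolynomial.algebraMvPolynomial

section syz

variable {n : ℕ} {D₀ : Type u} [CommRing D₀] (D₁ : Type u) [CommRing D₁]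
  [Algebra D₀ D₁] (r t : ℕ) (k : Fin t → (Fin r → P n D₀))

/-- If the model is flat, syzygies over `D₁[X]` are combinations of syzygies over `D₀[X]`. -/
theorem mem_span_syz_of_flat [Module.Flat D₀ (Mod r t k)] (c : Fin t → P n D₁)
    (hc : kap r t (kmap D₁ r t k) c = 0) :
    c ∈ Submodule.span D₁ (vmap n t D₀ D₁ '' {σ | kap r t k σ = 0}) := by
  have hG := isBaseChange_vmap_restrictScalars n t D₀ D₁
  have hF := isBaseChange_vmap_restrictScalars n r D₀ D₁
  let κ₀ : (Fin t → P n D₀) →ₗ[D₀] (Fin r → P n D₀) := (kap r t k).restrictScalars D₀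
  let κ₁ : (Fin t → P n D₁) →ₗ[D₁] (Fin r → P n D₁) := (kap r t (kmap D₁ r t k)).restrictScalars D₁
  have nat : ∀ y : D₁ ⊗[D₀] (Fin t → P n D₀), hF.equiv (κ₀.lTensor D₁ y) = κ₁ (hG.equiv y) := by
    intro y
    induction y using TensorProduct.induction_on with
    | zero => simp
    | add a b ha hb => simp only [map_add, ha, hb]
    | tmul d g =>
      rw [LinearMap.lTensor_tmul, hF.equiv_tmul, hG.equiv_tmul, map_smul]
      congr 1
      exact vmap_kap D₁ r t k g
  let y := hG.equiv.symm c
  have hy : κ₀.lTensor D₁ y = 0 := by
    apply hF.equiv.injective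
    rw [nat, LinearEquiv.apply_symm_apply, map_zero]
    exact hc
  -- factor `κ₀` through its range
  let L₀ : Submodule D₀ (Fin r → P n D₀) := LinearMap.range κ₀
  let κ₀' : (Fin t → P n D₀) →ₗ[D₀] L₀ := κ₀.rangeRestrict
  have hfac : L₀.subtype ∘ₗ κ₀' = κ₀ := LinearMap.subtype_comp_codRestrict _ _ _
  let π₀ : (Fin r → P n D₀) →ₗ[D₀] Mod r t k := (proj r t k).restrictScalars D₀
  have hex : Exact L₀.subtype π₀ := by
    intro v
    change proj r t k v = 0 ↔ v ∈ Set.range L₀.subtype
    rw [Submodule.mkQ_apply, Submodule.Quotient.mk_eq_zero]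
    constructor
    · intro h
      exact ⟨⟨v, h⟩, rfl⟩
    · rintro ⟨w, rfl⟩
      exact w.2
  have hinj : Injective (L₀.subtype.lTensor D₁) :=
    Groth.Agent.H1.lTensor_injective_of_exact_of_flat L₀.subtype π₀ Subtype.val_injective hex
      (proj_surjective r t k) D₁
  have hy' : κ₀'.lTensor D₁ y = 0 := by
    apply hinj
    rw [map_zero, ← LinearMap.comp_apply, ← LinearMap.lTensor_comp, hfac, hy]
  have hex2 : Exact (LinearMap.ker κ₀).subtype κ₀' := by
    intro v
    change κ₀' v = 0 ↔ v ∈ Set.range (LinearMap.ker κ₀).subtype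
    constructor
    · intro h
      have h' : κ₀ v = 0 := by
        have := congrArg Subtype.val h
        simpa [κ₀'] using this
      exact ⟨⟨v, LinearMap.mem_ker.mpr h'⟩, rfl⟩
    · rintro ⟨w, rfl⟩
      apply Subtype.ext
      have := LinearMap.mem_ker.mp w.2
      simpa [κ₀'] using this
  obtain ⟨x, hx⟩ := (lTensor_exact D₁ hex2 (LinearMap.surjective_rangeRestrict κ₀) y).mp hy'
  have h1 : c = hG.equiv ((LinearMap.ker κ₀).subtype.lTensor D₁ x) := by
    rw [hx, LinearEquiv.apply_symm_apply]
  rw [h1]
  clear h1 hx
  induction x using TensorProduct.induction_on with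
  | zero => simp
  | add a b ha hb => rw [map_add, map_add]; exact Submodule.add_mem _ ha hb
  | tmul e σ =>
    rw [LinearMap.lTensor_tmul, hG.equiv_tmul]
    refine Submodule.smul_mem _ _ (Submodule.subset_span ⟨σ.1, ?_, rfl⟩)
    exact LinearMap.mem_ker.mp σ.2

end syz

section fg

variable {n : ℕ} {A : Type u} [CommRing A] (r t : ℕ)

/-- **Syzygies of a flat model are finitely generated.** -/
theorem ker_kap_fg_of_flat (k : Fin t → (Fin r → P n A)) [Module.Flat A (Mod r t k)] :
    (LinearMap.ker (kap r t k)).FG := by
  classical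
  obtain ⟨S₂, hS₂, k₂, hk₂, hflat₂⟩ := exists_fg_flat_model r t k
  haveI := isNoetherianRing_of_fg S₂ hS₂
  haveI : IsNoetherianRing (P n S₂) := inferInstance
  haveI : IsNoetherian (P n S₂) (Fin t → P n S₂) := inferInstance
  obtain ⟨s, hs⟩ : (LinearMap.ker (kap r t k₂)).FG := IsNoetherian.noetherian _
  refine ⟨s.image (vmap n t S₂ A), ?_⟩
  subst hk₂
  apply le_antisymm
  · rw [Submodule.span_le]
    intro c hc
    rw [Finset.coe_image] at hc
    obtain ⟨σ, hσ, rfl⟩ := hc
    have hσ' : σ ∈ LinearMap.ker (kap r t k₂) := hs ▸ Submodule.subset_span hσ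
    rw [SetLike.mem_coe, LinearMap.mem_ker, ← vmap_kap, LinearMap.mem_ker.mp hσ', map_zero]
  · intro c hc
    have h1 := mem_span_syz_of_flat A r t k₂ c (LinearMap.mem_ker.mp hc)
    -- `span_A` of the images of all syzygies is inside `span_{P n A}` of the images of generators
    have h2 : Submodule.span A (vmap n t S₂ A '' {σ | kap r t k₂ σ = 0}) ≤
        (Submodule.span (P n A) ((s.image (vmap n t S₂ A) : Finset _) : Set _)).restrictScalars A := by
      rw [Submodule.span_le]
      rintro _ ⟨σ, hσ, rfl⟩
      have hσ' : σ ∈ Submodule.span (P n S₂) (s : Set (Fin t → P n S₂)) := by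
        rw [hs]; exact LinearMap.mem_ker.mpr hσ
      rw [Submodule.coe_restrictScalars, SetLike.mem_coe]
      clear hσ
      induction hσ' using Submodule.span_induction with
      | mem x hx =>
        exact Submodule.subset_span (by rw [Finset.coe_image]; exact ⟨x, hx, rfl⟩)
      | zero => rw [map_zero]; exact Submodule.zero_mem _
      | add x y _ _ hx hy => rw [map_add]; exact Submodule.add_mem _ hx hy
      | smul a x _ hx =>
        rw [vmap_smul']
        exact Submodule.smul_mem _ _ hx
    exact h2 h1

end fg

section fpk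

/-- descending finite presentation along a surjective ring map -/
theorem finitePresentation_of_surjective_algebraMap {Q B M : Type*} [CommRing Q] [CommRing B]
    [Algebra Q B] (hsurj : Surjective (algebraMap Q B)) [AddCommGroup M] [Module Q M] [Module B M]
    [IsScalarTower Q B M] [Module.FinitePresentation Q M] : Module.FinitePresentation B M := by
  let μ : B ⊗[Q] M →ₗ[B] M := LinearMap.liftBaseChange B (LinearMap.id : M →ₗ[Q] M)
  have hμ : ∀ x : B ⊗[Q] M, x = (1 : B) ⊗ₜ[Q] μ x := by
    intro x
    induction x using TensorProduct.induction_on with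
    | zero => simp
    | add a b ha hb => rw [map_add, TensorProduct.tmul_add, ← ha, ← hb]
    | tmul b m =>
      obtain ⟨q, rfl⟩ := hsurj b
      rw [LinearMap.liftBaseChange_tmul, LinearMap.id_apply, algebraMap_smul,
        ← TensorProduct.smul_tmul, Algebra.smul_def, mul_one]
  refine Module.finitePresentation_of_surjective μ (fun m => ⟨1 ⊗ₜ m, by simp [μ]⟩) ?_
  have : LinearMap.ker μ = ⊥ := by
    rw [LinearMap.ker_eq_bot']
    intro x hx
    rw [hμ x, hx, TensorProduct.tmul_zero]
  rw [this]
  exact Submodule.fg_bot

variable {n : ℕ} {A : Type u} [CommRing A]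

/-- **Kernel of a surjection onto a flat finitely presented module, polynomial ring case.** -/
theorem finitePresentation_ker_poly {G H : Type u} [AddCommGroup G] [Module (P n A) G]
    [AddCommGroup H] [Module (P n A) H] [Module A H] [IsScalarTower A (P n A) H]
    [Module.FinitePresentation (P n A) G] [Module.FinitePresentation (P n A) H] [Module.Flat A H]
    (p : G →ₗ[P n A] H) (hp : Surjective p) :
    Module.FinitePresentation (P n A) (LinearMap.ker p) := by
  classical
  obtain ⟨r, π, hπ⟩ := Module.Finite.exists_fin' (P n A) G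
  let ψ : (Fin r → P n A) →ₗ[P n A] H := p ∘ₗ π
  have hψ : Surjective ψ := hp.comp hπ
  have hker : (LinearMap.ker ψ).FG := Module.FinitePresentation.fg_ker ψ hψ
  obtain ⟨t, k, hk⟩ := Submodule.fg_iff_exists_fin_generating_family.mp hker
  have hrange : LinearMap.range (kap r t k) = LinearMap.ker ψ := by rw [range_kap, hk]
  let e : Mod r t k ≃ₗ[P n A] H :=
    (Submodule.quotEquivOfEq _ _ hrange).trans (ψ.quotKerEquivOfSurjective hψ)
  haveI : Module.Flat A (Mod r t k) := Module.Flat.of_linearEquiv (e.restrictScalars A)
  have hsyz := ker_kap_fg_of_flat r t k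
  -- the range of `kap` is finitely presented
  haveI : Module.FinitePresentation (P n A) (LinearMap.range (kap r t k)) := by
    refine Module.finitePresentation_of_surjective (kap r t k).rangeRestrict
      (LinearMap.surjective_rangeRestrict _) ?_
    rw [LinearMap.ker_rangeRestrict]
    exact hsyz
  haveI : Module.FinitePresentation (P n A) (LinearMap.ker ψ) :=
    Module.FinitePresentation.of_equiv (LinearEquiv.ofEq _ _ hrange)
  -- the restriction of `π` to `ker ψ → ker p`
  let ρ : LinearMap.ker ψ →ₗ[P n A] LinearMap.ker p :=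
    π.restrict (p := LinearMap.ker ψ) (q := LinearMap.ker p) (fun x hx => by
      rw [LinearMap.mem_ker] at hx ⊢
      exact hx)
  have hρ : Surjective ρ := by
    rintro ⟨g, hg⟩
    obtain ⟨v, rfl⟩ := hπ g
    exact ⟨⟨v, by rw [LinearMap.mem_ker]; exact LinearMap.mem_ker.mp hg⟩, rfl⟩
  refine Module.finitePresentation_of_surjective ρ hρ ?_
  have hle : LinearMap.ker π ≤ LinearMap.ker ψ := by
    intro v hv
    rw [LinearMap.mem_ker] at hv ⊢
    change p (π v) = 0
    rw [hv, map_zero]
  have hkerρ : LinearMap.ker ρ = (LinearMap.ker π).comap (LinearMap.ker ψ).subtype := by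
    ext x
    rw [LinearMap.mem_ker, Submodule.mem_comap, LinearMap.mem_ker]
    constructor
    · intro h
      exact congrArg Subtype.val h
    · intro h
      exact Subtype.ext h
  rw [hkerρ]
  have h1 : (LinearMap.ker π).FG := Module.FinitePresentation.fg_ker π hπ
  haveI : Module.Finite (P n A) (LinearMap.ker π) := Module.Finite.iff_fg.mpr h1
  haveI : Module.Finite (P n A) ((LinearMap.ker π).comap (LinearMap.ker ψ).subtype) :=
    Module.Finite.equiv (Submodule.comapSubtypeEquivOfLe hle).symm
  exact Module.Finite.iff_fg.mp inferInstance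

end fpk

section general

/-- **EGA IV 11.3.9.1 (ring form).** `B` a finitely presented `A`-algebra, `G`, `H` finitely
presented `B`-modules with `H` flat over `A`, `p : G → H` surjective. Then `ker p` is a finitely
presented `B`-module. -/
theorem finitePresentation_ker {A B : Type u} [CommRing A] [CommRing B] [Algebra A B]
    [Algebra.FinitePresentation A B] {G H : Type u} [AddCommGroup G] [Module B G]
    [AddCommGroup H] [Module B H] [Module A H] [IsScalarTower A B H]
    [Module.FinitePresentation B G] [Module.FinitePresentation B H] [Module.Flat A H]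
    (p : G →ₗ[B] H) (hp : Surjective p) : Module.FinitePresentation B (LinearMap.ker p) := by
  obtain ⟨n, φ, hφ, hker⟩ := Algebra.FinitePresentation.out (R := A) (A := B)
  letI algPB : Algebra (P n A) B := φ.toRingHom.toAlgebra
  haveI : IsScalarTower A (P n A) B := IsScalarTower.of_algebraMap_eq fun x => (φ.commutes x).symm
  letI modPG : Module (P n A) G := Module.compHom G (algebraMap (P n A) B)
  letI modPH : Module (P n A) H := Module.compHom H (algebraMap (P n A) B)
  haveI : IsScalarTower (P n A) B G :=
    ⟨fun q s m => by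
      change (algebraMap (P n A) B q * s) • m = algebraMap (P n A) B q • (s • m)
      rw [mul_smul]⟩
  haveI : IsScalarTower (P n A) B H :=
    ⟨fun q s m => by
      change (algebraMap (P n A) B q * s) • m = algebraMap (P n A) B q • (s • m)
      rw [mul_smul]⟩
  haveI : IsScalarTower A (P n A) H := IsScalarTower.of_algebraMap_smul fun a m => by
    change algebraMap (P n A) B (algebraMap A (P n A) a) • m = a • m
    rw [← IsScalarTower.algebraMap_apply, algebraMap_smul]
  have hsurj : Surjective (algebraMap (P n A) B) := hφ
  haveI : Module.FinitePresentation (P n A) B := by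
    refine Module.finitePresentation_of_surjective (Algebra.linearMap (P n A) B) hsurj ?_
    exact hker
  haveI : Module.FinitePresentation (P n A) G := Module.FinitePresentation.trans (P n A) G B
  haveI : Module.FinitePresentation (P n A) H := Module.FinitePresentation.trans (P n A) H B
  have h1 := finitePresentation_ker_poly (p.restrictScalars (P n A)) hp
  have h2 : LinearMap.ker (p.restrictScalars (P n A)) =
      (LinearMap.ker p).restrictScalars (P n A) := LinearMap.ker_restrictScalars _ _
  haveI : Module.FinitePresentation (P n A) ((LinearMap.ker p).restrictScalars (P n A)) := by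
    rw [← h2]; exact h1
  haveI : Module.FinitePresentation (P n A) (LinearMap.ker p) :=
    Module.FinitePresentation.of_equiv
      ((Submodule.restrictScalarsEquiv (P n A) B G (LinearMap.ker p)).restrictScalars (P n A))
  exact finitePresentation_of_surjective_algebraMap (Q := P n A) hsurj

end general

end Groth.Agent.H1.FPKer
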