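import Mathlib
import Groth.Agent.Lib.Helper1.LimFlat7
import Groth.Agent.Lib.Helper1.FPKer

/-!
# Descent of a flat finitely presented module to a finite type `ℤ`-algebra (packaged form)
-/

set_option autoImplicit false

universe u

open TensorProduct Function

namespace Groth.Agent.H1.IntModel

open Groth.Agent.H1.PolyModel Groth.Agent.H1.LimFlat

attribute [local instance] MvPolynomial.algebraMvPolynomial

section general

/-- the identity of a module over a quotient ring is a base change along the quotient map -/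
theorem isBaseChange_id_of_surjective {Q B M : Type*} [CommRing Q] [CommRing B]
    [Algebra Q B] (hsurj : Surjective (algebraMap Q B)) [AddCommGroup M] [Module Q M] [Module B M]
    [IsScalarTower Q B M] : IsBaseChange B (LinearMap.id : M →ₗ[Q] M) := by
  let μ : B ⊗[Q] M →ₗ[B] M := LinearMap.liftBaseChange B (LinearMap.id : M →ₗ[Q] M)
  have hμ : ∀ x : B ⊗[Q] M, x = (1 : B) ⊗ₜ[Q] μ x := by
    intro x
    induction x using TensorProduct.induction_on with
    | zero => simp
    | add a b ha hb => rw [map_add, TensorProduct.tmul_add, ← ha, ← hb]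
    | tmul b m =>
      obtain ⟨q, rfl⟩ := hsurj b
      rw [LinearMap.liftBaseChange_tmul, LinearMap.id_apply, algebraMap_smul,
        ← TensorProduct.smul_tmul, Algebra.smul_def, mul_one]
  have hinj : Injective μ := by
    rw [injective_iff_map_eq_zero]
    intro x hx
    rw [hμ x, hx, TensorProduct.tmul_zero]
  have hsur : Surjective μ := fun m => ⟨1 ⊗ₜ m, by simp [μ]⟩
  refine IsBaseChange.of_equiv (LinearEquiv.ofBijective μ ⟨hinj, hsur⟩) fun x => ?_
  change μ (1 ⊗ₜ[Q] x) = x
  rw [LinearMap.liftBaseChange_tmul, one_smul, LinearMap.id_apply]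

/-- base change along `P₀ → P` descends to base change along the quotients `S₀ → S` -/
theorem isBaseChange_of_quotients {P₀ P S₀ S : Type*} [CommRing P₀] [CommRing P] [CommRing S₀]
    [CommRing S] [Algebra P₀ P] [Algebra P₀ S₀] [Algebra P S] [Algebra S₀ S] [Algebra P₀ S]
    [IsScalarTower P₀ P S] [IsScalarTower P₀ S₀ S]
    (h₀ : Surjective (algebraMap P₀ S₀)) (h : Surjective (algebraMap P S))
    {M₀ M : Type*} [AddCommGroup M₀] [Module P₀ M₀] [Module S₀ M₀] [IsScalarTower P₀ S₀ M₀]
    [AddCommGroup M] [Module P M] [Module S M] [IsScalarTower P S M] [Module S₀ M]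
    [IsScalarTower S₀ S M] [Module P₀ M] [IsScalarTower P₀ P M] [IsScalarTower P₀ S₀ M]
    [IsScalarTower P₀ S M]
    (f : M₀ →ₗ[S₀] M) (hf : IsBaseChange P (f.restrictScalars P₀)) : IsBaseChange S f := by
  have h1 : IsBaseChange S₀ (LinearMap.id : M₀ →ₗ[P₀] M₀) := isBaseChange_id_of_surjective h₀
  have h2 : IsBaseChange S (LinearMap.id : M →ₗ[P] M) := isBaseChange_id_of_surjective h
  have h3 : IsBaseChange S ((LinearMap.id : M →ₗ[P] M).restrictScalars P₀ ∘ₗ
      f.restrictScalars P₀) := IsBaseChange.comp hf h2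
  have h4 : (LinearMap.id : M →ₗ[P] M).restrictScalars P₀ ∘ₗ f.restrictScalars P₀ =
      f.restrictScalars P₀ ∘ₗ (LinearMap.id : M₀ →ₗ[P₀] M₀) := rfl
  rw [h4] at h3
  exact (IsBaseChange.comp_iff h1).mp h3

end general

section main

/-- injectivity of the transition map of a flat model along an injective ring map -/
theorem muM_injective_of_flat {n : ℕ} {R₀ : Type u} [CommRing R₀] (R : Type u) [CommRing R]
    [Algebra R₀ R] (hinj : Injective (algebraMap R₀ R)) (r t : ℕ) (k : Fin t → (Fin r → P n R₀))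
    [Module.Flat R₀ (Mod r t k)] : Injective (muM R r t k) := by
  have h := isBaseChange_muM_restrictScalars R r t k
  haveI : FaithfulSMul R₀ R := (faithfulSMul_iff_algebraMap_injective R₀ R).mpr hinj
  have h1 : Injective (TensorProduct.mk R₀ R (Mod r t k) 1) :=
    Module.Flat.tensorProduct_mk_injective (R := R₀) (S := R) (Mod r t k)
  intro x y hxy
  apply h1
  apply h.equiv.injective
  change h.equiv ((1 : R) ⊗ₜ x) = h.equiv ((1 : R) ⊗ₜ y)
  rw [h.equiv_tmul, h.equiv_tmul, one_smul, one_smul]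
  exact hxy

end main

section pack

set_option maxHeartbeats 800000 in
/-- **Packaged descent of a flat finitely presented module to a finite type `ℤ`-algebra.** -/
theorem exists_int_model (R : Type u) [CommRing R]
    (S : Type u) [CommRing S] [Algebra R S] [Algebra.FinitePresentation R S] (M : Type u)
    [AddCommGroup M] [Module S M] [Module R M] [IsScalarTower R S M]
    [Module.FinitePresentation S M] [Module.Flat R M] :
    ∃ (R₀ : Type u) (_ : CommRing R₀) (_ : Algebra R₀ R) (S₀ : Type u) (_ : CommRing S₀)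
      (_ : Algebra R₀ S₀) (_ : Algebra S₀ S) (_ : Algebra R₀ S) (_ : IsScalarTower R₀ R S)
      (_ : IsScalarTower R₀ S₀ S) (M₀ : Type u) (_ : AddCommGroup M₀) (_ : Module S₀ M₀)
      (_ : Module R₀ M₀) (_ : IsScalarTower R₀ S₀ M₀) (_ : Module S₀ M) (_ : IsScalarTower S₀ S M)
      (f : M₀ →ₗ[S₀] M),
      Algebra.FiniteType ℤ R₀ ∧ Algebra.FiniteType R₀ S₀ ∧ Module.Finite S₀ M₀ ∧
        Module.Flat R₀ M₀ ∧ Algebra.IsPushout R₀ R S₀ S ∧ IsBaseChange S f := by
  classical
  obtain ⟨n, φ, hφ, hker⟩ := Algebra.FinitePresentation.out (R := R) (A := S)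
  letI algPS : Algebra (P n R) S := φ.toRingHom.toAlgebra
  haveI towRPS : IsScalarTower R (P n R) S :=
    IsScalarTower.of_algebraMap_eq fun x => (φ.commutes x).symm
  letI modPM : Module (P n R) M := Module.compHom M (algebraMap (P n R) S)
  haveI towPSM : IsScalarTower (P n R) S M :=
    ⟨fun p s m => by
      change (algebraMap (P n R) S p * s) • m = algebraMap (P n R) S p • (s • m)
      rw [mul_smul]⟩
  haveI towRPM : IsScalarTower R (P n R) M := IsScalarTower.of_algebraMap_smul fun a m => by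
    change algebraMap (P n R) S (algebraMap R (P n R) a) • m = a • m
    rw [← IsScalarTower.algebraMap_apply, algebraMap_smul]
  have hsurj : Surjective (algebraMap (P n R) S) := hφ
  obtain ⟨r, t, k, ⟨e⟩⟩ := exists_model_equiv (R := R) (S := S) (M := M) hsurj hker
  haveI : Module.Flat R (Mod r t k) := Module.Flat.of_linearEquiv (e.restrictScalars R)
  obtain ⟨S₂, hS₂, k₂, hk₂, hflat₂⟩ := exists_fg_flat_model r t k
  -- generators of the kernel
  obtain ⟨t', s, hs⟩ := Submodule.fg_iff_exists_fin_generating_family.mp hker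
  obtain ⟨S₃, hS₂₃, hS₃, hQ⟩ := exists_fg_ge_forall_mem_range S₂ hS₂ (Finset.univ.image s)
  choose s' hs' using fun j => hQ (s j) (Finset.mem_image_of_mem _ (Finset.mem_univ j))
  letI alg23 : Algebra S₂ S₃ := (Subalgebra.inclusion hS₂₃).toAlgebra
  haveI : IsScalarTower S₂ S₃ R := IsScalarTower.of_algebraMap_eq fun x => rfl
  let k₃ : Fin t → (Fin r → P n S₃) := kmap S₃ r t k₂
  have hk₃ : kmap R r t k₃ = k := (kmap_kmap S₃ R r t k₂).trans hk₂
  haveI flat₃ : Module.Flat S₃ (Mod r t k₃) :=
    flat_model_of_ringHom r t (algebraMap S₂ S₃) k₂ k₃ (fun u a => rfl)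
  subst hk₃
  -- the descended ideal and quotient
  let I₀ : Ideal (P n S₃) := Ideal.span (Set.range s')
  have hmapker : ∀ a ∈ I₀, algebraMap (P n R) S (MvPolynomial.map (algebraMap S₃ R) a) = 0 := by
    have : I₀ ≤ RingHom.ker ((algebraMap (P n R) S).comp (MvPolynomial.map (algebraMap S₃ R))) := by
      rw [Ideal.span_le]
      rintro _ ⟨j, rfl⟩
      rw [SetLike.mem_coe, RingHom.mem_ker, RingHom.comp_apply, hs']
      have : s j ∈ RingHom.ker φ.toRingHom := by
        rw [← hs]; exact Submodule.subset_span ⟨j, rfl⟩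
      exact RingHom.mem_ker.mp this
    intro a ha
    exact RingHom.mem_ker.mp (this ha)
  let ψ : (P n S₃ ⧸ I₀) →+* S := Ideal.Quotient.lift I₀
    ((algebraMap (P n R) S).comp (MvPolynomial.map (algebraMap S₃ R))) hmapker
  letI algS₀S : Algebra (P n S₃ ⧸ I₀) S := ψ.toAlgebra
  haveI tow1 : IsScalarTower S₃ R S := inferInstance
  haveI tow2 : IsScalarTower S₃ (P n S₃ ⧸ I₀) S := IsScalarTower.of_algebraMap_eq fun x => by
    change algebraMap S₃ S x = ψ (algebraMap S₃ (P n S₃ ⧸ I₀) x)
    rw [IsScalarTower.algebraMap_apply S₃ (P n S₃) (P n S₃ ⧸ I₀), Ideal.Quotient.algebraMap_eq,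
      Ideal.Quotient.lift_mk, RingHom.comp_apply, MvPolynomial.algebraMap_eq, MvPolynomial.map_C,
      ← MvPolynomial.algebraMap_eq, ← IsScalarTower.algebraMap_apply R (P n R) S,
      ← IsScalarTower.algebraMap_apply S₃ R S]
  have hinj₃ : Injective (algebraMap S₃ R) := Subtype.val_injective
  have hmuinj : Injective (muM R r t k₃) := muM_injective_of_flat R hinj₃ r t k₃
  -- the model over `S₃` is killed by `I₀`
  have hT : Module.IsTorsionBySet (P n S₃) (Mod r t k₃) (I₀ : Set (P n S₃)) := by
    intro x a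
    apply hmuinj
    apply e.injective
    rw [map_smul, map_zero, map_zero, ← algebraMap_smul (P n R) (a : P n S₃), map_smul]
    change algebraMap (P n R) S (MvPolynomial.map (algebraMap S₃ R) (a : P n S₃)) •
      e (muM R r t k₃ x) = (0 : M)
    rw [hmapker _ a.2, zero_smul]
  letI modS₀M₀ : Module (P n S₃ ⧸ I₀) (Mod r t k₃) := hT.module
  haveI towP₀S₀M₀ : IsScalarTower (P n S₃) (P n S₃ ⧸ I₀) (Mod r t k₃) := hT.isScalarTower
  haveI towR₀S₀M₀ : IsScalarTower S₃ (P n S₃ ⧸ I₀) (Mod r t k₃) := hT.isScalarTower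
  -- module structures on `M`
  letI modS₀M : Module (P n S₃ ⧸ I₀) M := Module.compHom M (algebraMap (P n S₃ ⧸ I₀) S)
  haveI towS₀SM : IsScalarTower (P n S₃ ⧸ I₀) S M :=
    ⟨fun p s m => by
      change (algebraMap (P n S₃ ⧸ I₀) S p * s) • m = algebraMap (P n S₃ ⧸ I₀) S p • (s • m)
      rw [mul_smul]⟩
  letI modP₀M : Module (P n S₃) M := Module.compHom M (algebraMap (P n S₃) (P n R))
  haveI towP₀PM : IsScalarTower (P n S₃) (P n R) M :=
    ⟨fun p s m => by
      change (algebraMap (P n S₃) (P n R) p * s) • m = algebraMap (P n S₃) (P n R) p • (s • m)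
      rw [mul_smul]⟩
  have hψmk : ∀ a : P n S₃, algebraMap (P n S₃ ⧸ I₀) S (Ideal.Quotient.mk I₀ a) =
      algebraMap (P n R) S (algebraMap (P n S₃) (P n R) a) := fun a => rfl
  haveI towP₀S₀M : IsScalarTower (P n S₃) (P n S₃ ⧸ I₀) M :=
    IsScalarTower.of_algebraMap_smul (R := P n S₃) (A := P n S₃ ⧸ I₀) (M := M) fun a m => by
      change algebraMap (P n S₃ ⧸ I₀) S (algebraMap (P n S₃) (P n S₃ ⧸ I₀) a) • m =
        algebraMap (P n R) S (algebraMap (P n S₃) (P n R) a) • m
      rw [Ideal.Quotient.algebraMap_eq, hψmk]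
  -- the comparison map
  let f : Mod r t k₃ →ₗ[P n S₃ ⧸ I₀] M :=
    { toFun := fun x => e (muM R r t k₃ x)
      map_add' := fun x y => by rw [map_add, map_add]
      map_smul' := fun c x => by
        obtain ⟨a, rfl⟩ := Ideal.Quotient.mk_surjective c
        rw [RingHom.id_apply]
        change e (muM R r t k₃ (a • x)) = algebraMap (P n S₃ ⧸ I₀) S (Ideal.Quotient.mk I₀ a) •
          e (muM R r t k₃ x)
        rw [map_smul, ← algebraMap_smul (P n R) a, map_smul, hψmk]
        rfl }
  refine ⟨S₃, inferInstance, inferInstance, P n S₃ ⧸ I₀, inferInstance, inferInstance, algS₀S,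
    inferInstance, tow1, tow2, Mod r t k₃, inferInstance, modS₀M₀, inferInstance, towR₀S₀M₀,
    modS₀M, towS₀SM, f, ?_, ?_, ?_, ?_, ?_, ?_⟩
  · exact (Subalgebra.fg_iff_finiteType S₃).mp hS₃
  · exact Algebra.FiniteType.of_surjective (Ideal.Quotient.mkₐ S₃ I₀)
      (Ideal.Quotient.mkₐ_surjective S₃ I₀)
  · exact Module.Finite.of_restrictScalars_finite (P n S₃) (P n S₃ ⧸ I₀) (Mod r t k₃)
  · exact flat₃
  · refine ⟨?_⟩
    let F₀ : (Fin t' → P n S₃) →ₗ[S₃] P n S₃ :=
      (Fintype.linearCombination (P n S₃) s').restrictScalars S₃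
    let G₀ : P n S₃ →ₗ[S₃] (P n S₃ ⧸ I₀) := (Ideal.Quotient.mkₐ S₃ I₀).toLinearMap
    let F : (Fin t' → P n R) →ₗ[R] P n R := (Fintype.linearCombination (P n R) s).restrictScalars R
    let G : P n R →ₗ[R] S := φ.toLinearMap
    have hi₂ : IsBaseChange R (IsScalarTower.toAlgHom S₃ (P n S₃) (P n R)).toLinearMap :=
      (inferInstance : Algebra.IsPushout S₃ R (P n S₃) (P n R)).out
    refine IsBaseChange.of_right_exact R ((vmap n t' S₃ R).restrictScalars S₃)
      (IsScalarTower.toAlgHom S₃ (P n S₃) (P n R)).toLinearMap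
      (IsScalarTower.toAlgHom S₃ (P n S₃ ⧸ I₀) S).toLinearMap (f := F₀) (g := G₀) (f' := F)
      (g' := G) ?_ ?_ (isBaseChange_vmap_restrictScalars n t' S₃ R) hi₂ ?_ ?_ ?_ hφ
    · refine LinearMap.ext fun c => ?_
      change MvPolynomial.map (algebraMap S₃ R) (Fintype.linearCombination (P n S₃) s' c) =
        Fintype.linearCombination (P n R) s (vmap n t' S₃ R c)
      rw [Fintype.linearCombination_apply, Fintype.linearCombination_apply, map_sum]
      refine Finset.sum_congr rfl fun j _ => ?_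
      rw [smul_eq_mul, map_mul, hs', vmap_apply, smul_eq_mul]
    · refine LinearMap.ext fun p => ?_
      rfl
    · intro p
      change Ideal.Quotient.mk I₀ p = 0 ↔ p ∈ Set.range (Fintype.linearCombination (P n S₃) s')
      rw [Ideal.Quotient.eq_zero_iff_mem, ← LinearMap.coe_range, Fintype.range_linearCombination]
      rfl
    · exact Ideal.Quotient.mk_surjective
    · intro p
      change φ p = 0 ↔ p ∈ Set.range (Fintype.linearCombination (P n R) s)
      rw [← LinearMap.coe_range, Fintype.range_linearCombination, SetLike.mem_coe]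
      change _ ↔ p ∈ Submodule.span (P n R) (Set.range s)
      rw [hs]
      rfl
  · letI algP₀S : Algebra (P n S₃) S :=
      ((algebraMap (P n R) S).comp (algebraMap (P n S₃) (P n R))).toAlgebra
    haveI : IsScalarTower (P n S₃) (P n R) S := IsScalarTower.of_algebraMap_eq fun x => rfl
    haveI : IsScalarTower (P n S₃) (P n S₃ ⧸ I₀) S :=
      IsScalarTower.of_algebraMap_eq (R := P n S₃) (S := P n S₃ ⧸ I₀) (A := S) fun x => rfl
    haveI : IsScalarTower (P n S₃) S M :=
      IsScalarTower.of_algebraMap_smul (R := P n S₃) (A := S) (M := M) fun a m => rfl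
    refine isBaseChange_of_quotients (P₀ := P n S₃) (P := P n R) Ideal.Quotient.mk_surjective
      hsurj f ?_
    exact (isBaseChange_muM R r t k₃).comp (IsBaseChange.ofEquiv e)

end pack

end Groth.Agent.H1.IntModel
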