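import Mathlib
import Groth.Agent.Lib.Helper1.FibInj1
import Groth.Agent.Lib.Helper1.LimFlat3
import Groth.Agent.Lib.Helper1.IntModel
import Groth.Agent.Lib.Helper1.FlatBCLoc

/-!
# Fibrewise injectivity ⇒ injectivity with flat cokernel: descent to the Noetherian case
-/

set_option autoImplicit false

universe u

open TensorProduct Function

namespace Groth.Agent.H1.FibInj

open Groth.Agent.H1.PolyModel

attribute [local instance] MvPolynomial.algebraMvPolynomial

section descent

/-- finitely many polynomials over a local ring are defined over a Noetherian local ring mapping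
injectively and locally to it -/
theorem exists_noeth_local (R : Type u) [CommRing R] [IsLocalRing R] {n : ℕ} (Q : Finset (P n R)) :
    ∃ (R' : Type u) (_ : CommRing R') (_ : IsLocalRing R') (_ : IsNoetherianRing R')
      (_ : Algebra R' R), IsLocalHom (algebraMap R' R) ∧ Injective (algebraMap R' R) ∧
      ∀ p ∈ Q, p ∈ Set.range (MvPolynomial.map (algebraMap R' R) : P n R' → P n R) := by
  classical
  obtain ⟨S₁, -, hS₁, hQ⟩ := LimFlat.exists_fg_ge_forall_mem_range (A := R) ⊥ Subalgebra.fg_bot Q
  haveI : IsNoetherianRing S₁ := LimFlat.isNoetherianRing_of_fg S₁ hS₁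
  let p₀ : Ideal S₁ := (IsLocalRing.maximalIdeal R).comap (algebraMap S₁ R)
  haveI : p₀.IsPrime := Ideal.comap_isPrime _ _
  let R' := Localization.AtPrime p₀
  have hunits : ∀ y : p₀.primeCompl, IsUnit (algebraMap S₁ R y) := by
    intro y
    by_contra hy
    exact y.2 ((IsLocalRing.mem_maximalIdeal _).mpr hy)
  let φ : R' →+* R := IsLocalization.lift (M := p₀.primeCompl) hunits
  have hφ : ∀ (x : S₁) (y : p₀.primeCompl) (v : R),
      φ (IsLocalization.mk' R' x y) = v ↔ algebraMap S₁ R x = algebraMap S₁ R y * v :=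
    fun x y v => IsLocalization.lift_mk'_spec hunits x v y
  haveI : IsNoetherianRing R' := IsLocalization.isNoetherianRing p₀.primeCompl R' inferInstance
  letI : Algebra R' R := φ.toAlgebra
  refine ⟨R', inferInstance, inferInstance, inferInstance, inferInstance, ?_, ?_, ?_⟩
  · constructor
    intro a ha
    obtain ⟨x, y, rfl⟩ := IsLocalization.exists_mk'_eq p₀.primeCompl a
    have h1 : algebraMap S₁ R x = algebraMap S₁ R y * φ (IsLocalization.mk' R' x y) :=
      (hφ x y _).mp rfl
    have h2 : IsUnit (algebraMap S₁ R x) := by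
      rw [h1]
      exact (hunits y).mul ha
    have h3 : x ∈ p₀.primeCompl := fun hx => ((IsLocalRing.mem_maximalIdeal _).mp hx) h2
    exact (IsLocalization.AtPrime.isUnit_mk'_iff R' p₀ x y).mpr h3
  · rw [injective_iff_map_eq_zero]
    intro a ha
    obtain ⟨x, y, rfl⟩ := IsLocalization.exists_mk'_eq p₀.primeCompl a
    have h1 : algebraMap S₁ R x = algebraMap S₁ R y * 0 := (hφ x y 0).mp ha
    rw [mul_zero] at h1
    have h2 : x = 0 := Subtype.val_injective h1
    rw [h2]
    simp
  · intro p hp
    obtain ⟨p₁, rfl⟩ := hQ p hp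
    refine ⟨MvPolynomial.map (algebraMap S₁ R') p₁, ?_⟩
    rw [MvPolynomial.map_map]
    have h3 : (algebraMap R' R).comp (algebraMap S₁ R') = algebraMap S₁ R :=
      IsLocalization.lift_comp (S := R') hunits
    rw [h3]

/-- lifting a vector of polynomials along an algebra map -/
theorem exists_vmap_eq' {R' R : Type u} [CommRing R'] [CommRing R] [Algebra R' R] {n m : ℕ}
    (v : Fin m → P n R)
    (hv : ∀ i, v i ∈ Set.range (MvPolynomial.map (algebraMap R' R) : P n R' → P n R)) :
    ∃ v' : Fin m → P n R', vmap n m R' R v' = v := by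
  choose v' hv' using hv
  exact ⟨v', funext hv'⟩

theorem exists_kmap_eq' {R' R : Type u} [CommRing R'] [CommRing R] [Algebra R' R] {n : ℕ}
    (r t : ℕ) (k : Fin t → (Fin r → P n R))
    (hk : ∀ j i, k j i ∈ Set.range (MvPolynomial.map (algebraMap R' R) : P n R' → P n R)) :
    ∃ k' : Fin t → (Fin r → P n R'), kmap R r t k' = k := by
  choose k' hk' using fun j => exists_vmap_eq' (R' := R') (k j) (hk j)
  exact ⟨k', funext hk'⟩

end descent

section gencore

variable {n : ℕ} {R : Type u} [CommRing R] [IsLocalRing R] (r s t : ℕ)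
  (U : Fin s → (Fin r → P n R)) (l : Fin t → (Fin s → P n R))

set_option maxHeartbeats 1600000 in
theorem core_aux (q : Ideal (P n R)) [q.IsPrime]
    (hq : (IsLocalRing.maximalIdeal R).map (algebraMap R (P n R)) ≤ q)
    (hl : ∀ j, kap r s U (l j) = 0) (g : P n R) (hg : g ∉ q)
    (H : ∀ y : Fin s → P n (R ⧸ IsLocalRing.maximalIdeal R),
      kap r s (kmap (R ⧸ IsLocalRing.maximalIdeal R) r s U) y = 0 →
      MvPolynomial.map (algebraMap R (R ⧸ IsLocalRing.maximalIdeal R)) g • y ∈
        LinearMap.range (kap s t (kmap (R ⧸ IsLocalRing.maximalIdeal R) s t l)))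
    (x : Fin s → P n R) (hx : kap r s U x = 0) :
    (∃ h : P n R, h ∉ q ∧ h • x ∈ LinearMap.range (kap s t l)) ∧
    Module.Flat R (LocalizedModule q.primeCompl (Mod r s U)) := by
  classical
  let Q : Finset (P n R) := ((Finset.univ.image fun a : Fin s × Fin r => U a.1 a.2) ∪
    (Finset.univ.image fun a : Fin t × Fin s => l a.1 a.2)) ∪ ({g} ∪ Finset.univ.image x)
  obtain ⟨R', _, _, _, _, hloc, hinj, hQ⟩ := exists_noeth_local R Q
  obtain ⟨U', rfl⟩ := exists_kmap_eq' (R' := R') r s U fun j i => hQ _
    (Finset.mem_union_left _ (Finset.mem_union_left _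
      (Finset.mem_image.mpr ⟨(j, i), Finset.mem_univ _, rfl⟩)))
  obtain ⟨l', rfl⟩ := exists_kmap_eq' (R' := R') s t l fun j i => hQ _
    (Finset.mem_union_left _ (Finset.mem_union_right _
      (Finset.mem_image.mpr ⟨(j, i), Finset.mem_univ _, rfl⟩)))
  obtain ⟨g', rfl⟩ := hQ g (Finset.mem_union_right _ (Finset.mem_union_left _
    (Finset.mem_singleton_self g)))
  obtain ⟨x', rfl⟩ := exists_vmap_eq' (R' := R') x fun i => hQ _
    (Finset.mem_union_right _ (Finset.mem_union_right _
      (Finset.mem_image.mpr ⟨i, Finset.mem_univ _, rfl⟩)))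
  set m := IsLocalRing.maximalIdeal R with hm
  set m' := IsLocalRing.maximalIdeal R' with hm'
  have hmm' : ∀ a : R', a ∈ m' → algebraMap R' R a ∈ m := by
    intro a ha
    refine (IsLocalRing.mem_maximalIdeal _).mpr fun hu => ?_
    exact ((IsLocalRing.mem_maximalIdeal _).mp ha) (isUnit_of_map_unit (algebraMap R' R) a hu)
  -- residue fields
  let κ := R ⧸ m
  let κ' := R' ⧸ m'
  let ψ : κ' →+* κ := Ideal.quotientMap m (algebraMap R' R) hmm'
  letI : Algebra κ' κ := ψ.toAlgebra
  haveI : IsScalarTower R' κ' κ := IsScalarTower.of_algebraMap_eq fun a => rfl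
  letI fκ' : Field κ' := Ideal.Quotient.field m'
  have hψ : Injective (algebraMap κ' κ) := RingHom.injective _
  -- the prime
  let q' : Ideal (P n R') := q.comap (algebraMap (P n R') (P n R))
  haveI : q'.IsPrime := Ideal.comap_isPrime _ _
  have hq' : m'.map (algebraMap R' (P n R')) ≤ q' := by
    rw [Ideal.map_le_iff_le_comap]
    intro a ha
    change algebraMap (P n R') (P n R) (algebraMap R' (P n R') a) ∈ q
    rw [← IsScalarTower.algebraMap_apply, IsScalarTower.algebraMap_apply R' R (P n R)]
    exact hq (Ideal.mem_map_of_mem _ (hmm' a ha))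
  have hg' : g' ∉ q' := hg
  have hl' : ∀ j, kap r s U' (l' j) = 0 := by
    intro j
    apply vmap_injective n r R' R hinj
    rw [vmap_kap, map_zero]
    exact hl j
  have hx' : kap r s U' x' = 0 := by
    apply vmap_injective n r R' R hinj
    rw [vmap_kap, map_zero]
    exact hx
  have H' : ∀ y : Fin s → P n κ', kap r s (kmap κ' r s U') y = 0 →
      MvPolynomial.map (algebraMap R' κ') g' • y ∈ LinearMap.range (kap s t (kmap κ' s t l')) := by
    intro y hy
    have h1 : kap r s (kmap κ r s (kmap R r s U')) (vmap n s κ' κ y) = 0 := by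
      rw [kmap_kmap R κ r s U', ← kmap_kmap κ' κ r s U', ← vmap_kap, hy, map_zero]
    have h2 := H _ h1
    rw [kmap_kmap R κ s t l', ← kmap_kmap κ' κ s t l'] at h2
    have h3 : MvPolynomial.map (algebraMap R κ) (MvPolynomial.map (algebraMap R' R) g') =
        MvPolynomial.map (algebraMap κ' κ) (MvPolynomial.map (algebraMap R' κ') g') := by
      rw [MvPolynomial.map_map, MvPolynomial.map_map, ← IsScalarTower.algebraMap_eq,
        ← IsScalarTower.algebraMap_eq]
    rw [h3, ← vmap_smul'] at h2
    haveI : Module.Flat κ' (Mod s t (kmap κ' s t l')) := inferInstance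
    have hmu := IntModel.muM_injective_of_flat κ hψ s t (kmap κ' s t l')
    have h4 : proj s t (kmap κ' s t l') (MvPolynomial.map (algebraMap R' κ') g' • y) = 0 := by
      apply hmu
      rw [muM_proj, map_zero, Submodule.mkQ_apply, Submodule.Quotient.mk_eq_zero]
      exact h2
    rw [Submodule.mkQ_apply, Submodule.Quotient.mk_eq_zero] at h4
    exact h4
  obtain ⟨hker, hflat⟩ := core_noeth r s t U' l' q' hq' hl' g' hg' H'
  constructor
  · obtain ⟨h', hh', c, hc⟩ := hker x' hx'
    refine ⟨MvPolynomial.map (algebraMap R' R) h', hh', vmap n t R' R c, ?_⟩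
    rw [← vmap_kap, hc, vmap_smul']
  · haveI := hflat
    exact Groth.Agent.H1.FlatBCLoc.flat_localized_of_isBaseChange (R := R') (R' := R)
      (B := P n R') (B' := P n R) (muM R r s U') (isBaseChange_muM_restrictScalars R r s U')
      q'.primeCompl q.primeCompl (fun s hs => hs)
      (LocalizedModule.mkLinearMap q'.primeCompl (Mod r s U'))
      (LocalizedModule.mkLinearMap q.primeCompl (Mod r s (kmap R r s U')))

/-- **General core.** -/
theorem core (q : Ideal (P n R)) [q.IsPrime]
    (hq : (IsLocalRing.maximalIdeal R).map (algebraMap R (P n R)) ≤ q)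
    (hl : ∀ j, kap r s U (l j) = 0) (g : P n R) (hg : g ∉ q)
    (H : ∀ y : Fin s → P n (R ⧸ IsLocalRing.maximalIdeal R),
      kap r s (kmap (R ⧸ IsLocalRing.maximalIdeal R) r s U) y = 0 →
      MvPolynomial.map (algebraMap R (R ⧸ IsLocalRing.maximalIdeal R)) g • y ∈
        LinearMap.range (kap s t (kmap (R ⧸ IsLocalRing.maximalIdeal R) s t l))) :
    (∀ x : Fin s → P n R, kap r s U x = 0 →
      ∃ h : P n R, h ∉ q ∧ h • x ∈ LinearMap.range (kap s t l)) ∧
    Module.Flat R (LocalizedModule q.primeCompl (Mod r s U)) :=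
  ⟨fun x hx => (core_aux r s t U l q hq hl g hg H x hx).1,
    (core_aux r s t U l q hq hl g hg H 0 (map_zero _)).2⟩

end gencore

end Groth.Agent.H1.FibInj
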