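import Mathlib
import Groth.Agent.Lib.Helper1.FibInj2

/-!
# Fibrewise injectivity ⇒ injectivity with flat cokernel: over the local ring of a polynomial ring
-/

set_option autoImplicit false

universe u

open TensorProduct Function

namespace Groth.Agent.H1.FibInj

open Groth.Agent.H1.PolyModel

attribute [local instance] MvPolynomial.algebraMvPolynomial

section loclemmas

variable {A B : Type*} [CommRing A] [CommRing B] [Algebra A B] (T : Submonoid B)
  {F F' : Type*} [AddCommGroup F] [Module B F] [Module A F] [IsScalarTower A B F]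
  [AddCommGroup F'] [Module B F'] [Module A F'] [IsScalarTower A B F']
  (f : F →ₗ[B] F')

theorem map_mem_smul_top (I : Ideal A) (x : F) (hx : x ∈ I • (⊤ : Submodule A F)) :
    f x ∈ I • (⊤ : Submodule A F') := by
  refine Submodule.smul_induction_on hx ?_ ?_
  · intro a ha y _
    rw [LinearMap.map_smul_of_tower]
    exact Submodule.smul_mem_smul ha Submodule.mem_top
  · intro x y hx hy
    rw [map_add]
    exact Submodule.add_mem _ hx hy

theorem smul_mem_smul_top' {L : Type*} [CommRing L] [Module L F'] [SMulCommClass L A F']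
    (I : Ideal A) (c : L) (z : F') (hz : z ∈ I • (⊤ : Submodule A F')) :
    c • z ∈ I • (⊤ : Submodule A F') := by
  refine Submodule.smul_induction_on hz ?_ ?_
  · intro a ha y _
    rw [smul_comm]
    exact Submodule.smul_mem_smul ha Submodule.mem_top
  · intro x y hx hy
    rw [smul_add]
    exact Submodule.add_mem _ hx hy

theorem exists_smul_eq_of_mem_smul_top [IsLocalizedModule T f] (I : Ideal A) (z : F')
    (hz : z ∈ I • (⊤ : Submodule A F')) :
    ∃ x ∈ I • (⊤ : Submodule A F), ∃ σ : T, (σ : B) • z = f x := by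
  refine Submodule.smul_induction_on hz ?_ ?_
  · intro a ha y _
    obtain ⟨⟨x, σ⟩, hx⟩ := IsLocalizedModule.surj T f y
    refine ⟨a • x, Submodule.smul_mem_smul ha Submodule.mem_top, σ, ?_⟩
    rw [smul_comm, LinearMap.map_smul_of_tower, ← hx]
    rfl
  · rintro z z' ⟨x, hx, σ, h⟩ ⟨x', hx', σ', h'⟩
    refine ⟨(σ' : B) • x + (σ : B) • x', Submodule.add_mem _
      (smul_mem_smul_top' I _ _ hx) (smul_mem_smul_top' I _ _ hx'), σ' * σ, ?_⟩
    rw [map_add, map_smul, map_smul, ← h, ← h', smul_add, Submonoid.coe_mul, mul_smul,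
      mul_comm, mul_smul]

end loclemmas

section coreloc

variable {n : ℕ} {R : Type u} [CommRing R] (q : Ideal (P n R)) [q.IsPrime]

/-- the localization map on vectors -/
noncomputable def iot (m : ℕ) : (Fin m → P n R) →ₗ[P n R] (Fin m → Localization.AtPrime q) :=
  LinearMap.pi fun i => Algebra.linearMap (P n R) (Localization.AtPrime q) ∘ₗ LinearMap.proj i

instance (m : ℕ) : IsLocalizedModule q.primeCompl (iot q m) :=
  IsLocalizedModule.pi q.primeCompl
    (fun _ : Fin m => Algebra.linearMap (P n R) (Localization.AtPrime q))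

theorem iot_apply (m : ℕ) (x : Fin m → P n R) (i : Fin m) :
    iot q m x i = algebraMap (P n R) (Localization.AtPrime q) (x i) := rfl

variable (s c : ℕ) (U : Fin s → (Fin c → P n R))

/-- the localized matrix map -/
noncomputable def Uloc : (Fin s → Localization.AtPrime q) →ₗ[Localization.AtPrime q]
    (Fin c → Localization.AtPrime q) :=
  (IsLocalizedModule.map q.primeCompl (iot q s) (iot q c) (kap c s U)).extendScalarsOfIsLocalization
    q.primeCompl (Localization.AtPrime q)

theorem Uloc_iot (x : Fin s → P n R) : Uloc q s c U (iot q s x) = iot q c (kap c s U x) :=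
  IsLocalizedModule.map_apply q.primeCompl (iot q s) (iot q c) (kap c s U) x

theorem ker_Uloc : LinearMap.ker (Uloc q s c U) =
    (LinearMap.ker (kap c s U)).localized' (Localization.AtPrime q) q.primeCompl (iot q s) :=
  (LinearMap.localized'_ker_eq_ker_localizedMap (Localization.AtPrime q) q.primeCompl (iot q s)
    (iot q c) (kap c s U)).symm

theorem range_Uloc : LinearMap.range (Uloc q s c U) =
    (LinearMap.range (kap c s U)).localized' (Localization.AtPrime q) q.primeCompl (iot q c) :=
  (LinearMap.localized'_range_eq_range_localizedMap (Localization.AtPrime q) q.primeCompl (iot q s)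
    (iot q c) (kap c s U)).symm

variable [IsLocalRing R]

set_option maxHeartbeats 1600000 in
/-- **Core over the local ring of the polynomial ring**, for a localized matrix map. -/
theorem core_loc0 (hq : (IsLocalRing.maximalIdeal R).map (algebraMap R (P n R)) ≤ q)
    (W : Submodule (Localization.AtPrime q) (Fin s → Localization.AtPrime q))
    (hW : W ≤ LinearMap.ker (Uloc q s c U))
    (hfib : ∀ y : Fin s → Localization.AtPrime q,
      Uloc q s c U y ∈ (IsLocalRing.maximalIdeal R) •
        (⊤ : Submodule R (Fin c → Localization.AtPrime q)) →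
      ∃ w ∈ W, y - w ∈ (IsLocalRing.maximalIdeal R) •
        (⊤ : Submodule R (Fin s → Localization.AtPrime q))) :
    LinearMap.ker (Uloc q s c U) ≤ W ∧
      Module.Flat R ((Fin c → Localization.AtPrime q) ⧸ LinearMap.range (Uloc q s c U)) := by
  classical
  set m := IsLocalRing.maximalIdeal R with hm
  let κ := R ⧸ m
  letI : Field κ := Ideal.Quotient.field m
  -- generators of the kernel over the residue field
  let Y : Submodule (P n κ) (Fin s → P n κ) := LinearMap.ker (kap c s (kmap κ c s U))
  obtain ⟨w, yb, hyb⟩ := Submodule.fg_iff_exists_fin_generating_family.mp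
    (IsNoetherian.noetherian Y)
  have hybmem : ∀ i, kap c s (kmap κ c s U) (yb i) = 0 := fun i => by
    have : yb i ∈ Y := hyb ▸ Submodule.subset_span ⟨i, rfl⟩
    exact this
  -- for each generator, a lift
  have key : ∀ i, ∃ (l₁ : Fin s → P n R) (g₁ : P n R), g₁ ∉ q ∧ kap c s U l₁ = 0 ∧
      iot q s l₁ ∈ W ∧ vmap n s R κ l₁ = MvPolynomial.map (algebraMap R κ) g₁ • yb i := by
    intro i
    obtain ⟨y, hy⟩ := vmap_surjective n s R κ Ideal.Quotient.mk_surjective (yb i)
    have h1 : kap c s U y ∈ m • (⊤ : Submodule R (Fin c → P n R)) := by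
      rw [← vmap_quotient_eq_zero_iff, vmap_kap, hy]
      exact hybmem i
    have h2 : Uloc q s c U (iot q s y) ∈ m • (⊤ : Submodule R (Fin c → Localization.AtPrime q)) := by
      rw [Uloc_iot]
      exact map_mem_smul_top _ m _ h1
    obtain ⟨w₀, hw₀, hdiff⟩ := hfib _ h2
    obtain ⟨e, he, τ, hτ⟩ := exists_smul_eq_of_mem_smul_top q.primeCompl (iot q s) m _ hdiff
    let l₀ := (τ : P n R) • y - e
    have hl₀ : iot q s l₀ = (τ : P n R) • w₀ := by
      rw [map_sub, map_smul, ← hτ, smul_sub]
      abel
    have hl₀W : iot q s l₀ ∈ W := by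
      rw [hl₀]
      exact W.smul_of_tower_mem _ hw₀
    have h3 : iot q c (kap c s U l₀) = 0 := by
      rw [← Uloc_iot]
      exact hW hl₀W
    obtain ⟨τ', hτ'⟩ := (IsLocalizedModule.eq_zero_iff q.primeCompl (iot q c)).mp h3
    refine ⟨(τ' : P n R) • l₀, τ' * τ, q.primeCompl.mul_mem τ'.2 τ.2, ?_, ?_, ?_⟩
    · rw [map_smul]
      exact hτ'
    · rw [map_smul]
      exact W.smul_of_tower_mem _ hl₀W
    · rw [vmap_smul', map_sub, vmap_smul', hy, (vmap_quotient_eq_zero_iff n s R m e).mpr he,
        sub_zero, map_mul, mul_smul]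
  choose l₁ g₁ hg₁ hl₁ hl₁W hl₁v using key
  let G : P n R := ∏ i, g₁ i
  have hG : G ∉ q :=
    (q.primeCompl.prod_mem (fun i _ => hg₁ i) : ∏ i ∈ Finset.univ, g₁ i ∈ q.primeCompl)
  let l : Fin w → (Fin s → P n R) := fun i => (∏ j ∈ Finset.univ.erase i, g₁ j) • l₁ i
  have hl : ∀ i, kap c s U (l i) = 0 := fun i => by
    change kap c s U ((∏ j ∈ Finset.univ.erase i, g₁ j) • l₁ i) = 0
    rw [map_smul, hl₁, smul_zero]
  have hlW : ∀ i, iot q s (l i) ∈ W := fun i => by
    change iot q s ((∏ j ∈ Finset.univ.erase i, g₁ j) • l₁ i) ∈ W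
    rw [map_smul]
    exact W.smul_of_tower_mem _ (hl₁W i)
  have hlv : ∀ i, vmap n s R κ (l i) = MvPolynomial.map (algebraMap R κ) G • yb i := by
    intro i
    change vmap n s R κ ((∏ j ∈ Finset.univ.erase i, g₁ j) • l₁ i) = _
    rw [vmap_smul', hl₁v, ← mul_smul, ← map_mul, mul_comm,
      Finset.mul_prod_erase _ _ (Finset.mem_univ i)]
  have H : ∀ y : Fin s → P n κ, kap c s (kmap κ c s U) y = 0 →
      MvPolynomial.map (algebraMap R κ) G • y ∈ LinearMap.range (kap s w (kmap κ s w l)) := by
    intro y hy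
    have hyY : y ∈ Submodule.span (P n κ) (Set.range yb) := by
      rw [hyb]
      exact hy
    obtain ⟨cf, rfl⟩ := (Submodule.mem_span_range_iff_exists_fun _).mp hyY
    refine ⟨cf, ?_⟩
    rw [kap_apply, Finset.smul_sum]
    refine Finset.sum_congr rfl fun i _ => ?_
    change cf i • vmap n s R κ (l i) = _
    rw [hlv, smul_comm]
  obtain ⟨hker, hflat⟩ := core c s w U l q hq hl G hG H
  constructor
  · rw [ker_Uloc, Submodule.localized'_eq_span, Submodule.span_le]
    rintro _ ⟨x, hx, rfl⟩
    obtain ⟨h, hh, hmem⟩ := hker x hx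
    have hle : LinearMap.range (kap s w l) ≤
        (W.restrictScalars (P n R)).comap (iot q s) := by
      rw [range_kap, Submodule.span_le]
      rintro _ ⟨i, rfl⟩
      exact hlW i
    have h1 : iot q s (h • x) ∈ W := hle hmem
    rw [map_smul, ← algebraMap_smul (Localization.AtPrime q) h] at h1
    have hu : IsUnit (algebraMap (P n R) (Localization.AtPrime q) h) :=
      IsLocalization.map_units (Localization.AtPrime q) (⟨h, hh⟩ : q.primeCompl)
    exact (Submodule.smul_mem_iff_of_isUnit W hu).mp h1
  · rw [range_Uloc]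
    let fq := (LinearMap.range (kap c s U)).toLocalizedQuotient' (Localization.AtPrime q)
      q.primeCompl (iot q c)
    let e := IsLocalizedModule.iso q.primeCompl fq
    haveI := hflat
    exact Module.Flat.of_linearEquiv (e.restrictScalars R).symm

omit [IsLocalRing R] in
/-- every matrix map over the localization is a unit multiple of a localized matrix map -/
theorem exists_Uloc_eq (V : (Fin s → Localization.AtPrime q) →ₗ[Localization.AtPrime q]
    (Fin c → Localization.AtPrime q)) :
    ∃ (σ : q.primeCompl) (U : Fin s → (Fin c → P n R)),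
      algebraMap (P n R) (Localization.AtPrime q) σ • V = Uloc q s c U := by
  classical
  obtain ⟨b, hb⟩ := IsLocalization.exist_integer_multiples_of_finite q.primeCompl
    (fun ij : Fin s × Fin c => V (Pi.single ij.1 1) ij.2)
  choose p hp using hb
  refine ⟨b, fun i j => p (i, j), ?_⟩
  apply LinearMap.pi_ext'
  intro i
  apply LinearMap.ext_ring
  have h1 : (Pi.single i 1 : Fin s → Localization.AtPrime q) = iot q s (Pi.single i 1) := by
    ext j
    rw [iot_apply]
    by_cases hij : j = i
    · subst hij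
      rw [Pi.single_eq_same, Pi.single_eq_same, map_one]
    · rw [Pi.single_eq_of_ne hij, Pi.single_eq_of_ne hij, map_zero]
  change (algebraMap (P n R) (Localization.AtPrime q) b • V) (Pi.single i 1) =
    Uloc q s c _ (Pi.single i 1)
  rw [h1, Uloc_iot, ← h1]
  have h2 : kap c s (fun i j => p (i, j)) (Pi.single i 1) = fun j => p (i, j) := by
    rw [kap, Fintype.linearCombination_apply_single, one_smul]
  rw [h2]
  ext j
  rw [iot_apply, hp (i, j)]
  rw [LinearMap.smul_apply, Pi.smul_apply, smul_eq_mul]
  exact (Algebra.smul_def _ _).symm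

theorem ker_unit_smul {L X Y : Type*} [CommRing L] [AddCommGroup X] [Module L X] [AddCommGroup Y]
    [Module L Y] (a : L) (ha : IsUnit a) (V : X →ₗ[L] Y) :
    LinearMap.ker (a • V) = LinearMap.ker V := by
  ext x
  rw [LinearMap.mem_ker, LinearMap.mem_ker, LinearMap.smul_apply]
  exact ha.smul_eq_zero

theorem range_unit_smul {L X Y : Type*} [CommRing L] [AddCommGroup X] [Module L X]
    [AddCommGroup Y] [Module L Y] (a : L) (ha : IsUnit a) (V : X →ₗ[L] Y) :
    LinearMap.range (a • V) = LinearMap.range V := by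
  obtain ⟨u, rfl⟩ := ha
  ext y
  constructor
  · rintro ⟨x, rfl⟩
    exact ⟨(u : L) • x, by rw [LinearMap.smul_apply, map_smul]⟩
  · rintro ⟨x, rfl⟩
    refine ⟨((u⁻¹ : Lˣ) : L) • x, ?_⟩
    rw [LinearMap.smul_apply, map_smul, ← mul_smul, Units.mul_inv, one_smul]

/-- **Core over the local ring of the polynomial ring**, for a matrix map. -/
theorem core_loc (hq : (IsLocalRing.maximalIdeal R).map (algebraMap R (P n R)) ≤ q)
    (V : (Fin s → Localization.AtPrime q) →ₗ[Localization.AtPrime q]
      (Fin c → Localization.AtPrime q))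
    (W : Submodule (Localization.AtPrime q) (Fin s → Localization.AtPrime q))
    (hW : W ≤ LinearMap.ker V)
    (hfib : ∀ y : Fin s → Localization.AtPrime q,
      V y ∈ (IsLocalRing.maximalIdeal R) •
        (⊤ : Submodule R (Fin c → Localization.AtPrime q)) →
      ∃ w ∈ W, y - w ∈ (IsLocalRing.maximalIdeal R) •
        (⊤ : Submodule R (Fin s → Localization.AtPrime q))) :
    LinearMap.ker V ≤ W ∧
      Module.Flat R ((Fin c → Localization.AtPrime q) ⧸ LinearMap.range V) := by
  obtain ⟨σ, U, hσ⟩ := exists_Uloc_eq q s c V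
  have hu : IsUnit (algebraMap (P n R) (Localization.AtPrime q) σ) :=
    IsLocalization.map_units (Localization.AtPrime q) σ
  have hk := ker_unit_smul _ hu V
  have hr := range_unit_smul _ hu V
  rw [hσ] at hk hr
  have := core_loc0 q s c U hq W (by rw [hk]; exact hW) (by
    intro y hy
    refine hfib y ?_
    rw [← hσ, LinearMap.smul_apply] at hy
    obtain ⟨u, hu'⟩ := hu
    have := smul_mem_smul_top' (IsLocalRing.maximalIdeal R) ((u⁻¹ : (Localization.AtPrime q)ˣ) :
      Localization.AtPrime q) _ hy
    rwa [← hu', ← mul_smul, Units.inv_mul, one_smul] at this)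
  rw [hk, hr] at this
  exact this

/-- surjective linear maps are surjective on `I • ⊤` -/
theorem exists_mem_smul_top_map_eq {A F F' : Type*} [CommRing A] [AddCommGroup F] [Module A F]
    [AddCommGroup F'] [Module A F'] (f : F →ₗ[A] F') (hf : Surjective f) (I : Ideal A) (z : F')
    (hz : z ∈ I • (⊤ : Submodule A F')) : ∃ x ∈ I • (⊤ : Submodule A F), f x = z := by
  refine Submodule.smul_induction_on hz ?_ ?_
  · intro a ha y _
    obtain ⟨x, rfl⟩ := hf y
    exact ⟨a • x, Submodule.smul_mem_smul ha Submodule.mem_top, map_smul _ _ _⟩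
  · rintro _ _ ⟨x, hx, rfl⟩ ⟨y, hy, rfl⟩
    exact ⟨x + y, Submodule.add_mem _ hx hy, map_add _ _ _⟩

/-- **Core over the local ring of the polynomial ring**, for a map from a finite module. -/
theorem core_fin (hq : (IsLocalRing.maximalIdeal R).map (algebraMap R (P n R)) ≤ q)
    {X : Type*} [AddCommGroup X] [Module (Localization.AtPrime q) X] [Module R X]
    [IsScalarTower R (Localization.AtPrime q) X] [Module.Finite (Localization.AtPrime q) X]
    (V : X →ₗ[Localization.AtPrime q] (Fin c → Localization.AtPrime q))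
    (W : Submodule (Localization.AtPrime q) X) (hW : W ≤ LinearMap.ker V)
    (hfib : ∀ y : X, V y ∈ (IsLocalRing.maximalIdeal R) •
        (⊤ : Submodule R (Fin c → Localization.AtPrime q)) →
      ∃ w ∈ W, y - w ∈ (IsLocalRing.maximalIdeal R) • (⊤ : Submodule R X)) :
    LinearMap.ker V ≤ W ∧
      Module.Flat R ((Fin c → Localization.AtPrime q) ⧸ LinearMap.range V) := by
  obtain ⟨s, ρ, hρ⟩ := Module.Finite.exists_fin' (Localization.AtPrime q) X
  have hr : LinearMap.range (V ∘ₗ ρ) = LinearMap.range V :=
    LinearMap.range_comp_of_range_eq_top V (LinearMap.range_eq_top.mpr hρ)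
  have := core_loc q s c hq (V ∘ₗ ρ) (W.comap ρ) (by
    intro x hx
    exact hW hx) (by
    intro y hy
    obtain ⟨w, hw, hd⟩ := hfib (ρ y) hy
    obtain ⟨e, he, hee⟩ := exists_mem_smul_top_map_eq (ρ.restrictScalars R) hρ _ _ hd
    refine ⟨y - e, ?_, by rwa [sub_sub_cancel]⟩
    change ρ (y - e) ∈ W
    have : ρ e = ρ y - w := hee
    rw [map_sub, this, sub_sub_cancel]
    exact hw)
  rw [hr] at this
  refine ⟨?_, this.2⟩
  intro x hx
  obtain ⟨y, rfl⟩ := hρ x
  exact this.1 (show y ∈ LinearMap.ker (V ∘ₗ ρ) from hx)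

end coreloc

end Groth.Agent.H1.FibInj
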