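import Mathlib
import Groth.Agent.Lib.Helper1.GenFreeLoc

set_option autoImplicit false
set_option linter.style.haveILetI false
universe u

namespace Groth.Agent.H1.NormFlat

open Groth.Agent.H1.GenFree

section generic

/-- `IS • F ⊆ I • F` -/
theorem mem_smul_top_of_mem_map_smul_top {A S : Type*} [CommRing A] [CommRing S] [Algebra A S]
    {F : Type*} [AddCommGroup F] [Module S F] [Module A F]
    [IsScalarTower A S F] (I : Ideal A) (x : F)
    (hx : x ∈ I.map (algebraMap A S) • (⊤ : Submodule S F)) : x ∈ I • (⊤ : Submodule A F) := by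
  refine Submodule.smul_induction_on hx ?_ ?_
  · intro j hj
    suffices h : ∀ f : F, j • f ∈ I • (⊤ : Submodule A F) from fun f _ => h f
    refine Submodule.span_induction (p := fun j _ => ∀ f : F, j • f ∈ I • (⊤ : Submodule A F))
      ?_ ?_ ?_ ?_ hj
    · rintro _ ⟨a, ha, rfl⟩ f
      rw [algebraMap_smul]
      exact Submodule.smul_mem_smul ha Submodule.mem_top
    · intro f
      rw [zero_smul]
      exact Submodule.zero_mem _
    · intro j₁ j₂ _ _ h₁ h₂ f
      rw [add_smul]
      exact Submodule.add_mem _ (h₁ f) (h₂ f)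
    · intro s j _ h f
      rw [smul_eq_mul, mul_comm, mul_smul]
      exact h (s • f)
  · intro x y hx hy
    exact Submodule.add_mem _ hx hy

/-- generic freeness of the "associated graded" `ℳ/pℳ`, transported to `A`-linear retracts -/
theorem exists_flat_retracts {A : Type u} [CommRing A] (p : Ideal A) [p.IsPrime]
    (ℛ : Type u) [CommRing ℛ] [Algebra A ℛ] [Algebra.FiniteType A ℛ]
    (ℳ : Type u) [AddCommGroup ℳ] [Module ℛ ℳ] [Module A ℳ] [IsScalarTower A ℛ ℳ]
    [Module.Finite ℛ ℳ] :
    ∃ f : A, f ∉ p ∧ ∀ (N : Type u) [AddCommGroup N] [Module A N] (i : N →ₗ[A] ℳ)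
      (r : ℳ →ₗ[A] N), r ∘ₗ i = LinearMap.id →
      Module.Flat (A ⧸ p) (LocalizedModule (Submonoid.powers (Ideal.Quotient.mk p f))
        (N ⧸ p • (⊤ : Submodule A N))) := by
  classical
  set P : Ideal ℛ := p.map (algebraMap A ℛ) with hP
  let R := A ⧸ p
  let S := ℛ ⧸ P
  let G := ℳ ⧸ (P • (⊤ : Submodule ℛ ℳ))
  letI modRG : Module R G := Module.compHom G (algebraMap R S)
  haveI towRSG : IsScalarTower R S G :=
    IsScalarTower.of_algebraMap_smul (R := R) (A := S) (M := G) fun _ _ => rfl
  haveI towARS : IsScalarTower A R S := inferInstance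
  haveI towAℛS : IsScalarTower A ℛ S := inferInstance
  haveI towASG : IsScalarTower A S G := inferInstance
  haveI towARG : IsScalarTower A R G := ⟨fun a b g => by
    rw [← algebraMap_smul S (a • b) g, ← algebraMap_smul S b g, Algebra.smul_def, map_mul,
      mul_smul, ← IsScalarTower.algebraMap_apply, algebraMap_smul]⟩
  haveI : Algebra.FiniteType A S := inferInstance
  haveI : Algebra.FiniteType R S := Algebra.FiniteType.of_restrictScalars_finiteType A R S
  haveI : Module.Finite ℛ G := inferInstance
  haveI : Module.Finite S G := Module.Finite.of_restrictScalars_finite ℛ S G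
  obtain ⟨f₀, hf₀, hgood⟩ := exists_good (R := R) (S := S) (M := G) 1 one_ne_zero
  rw [one_mul] at hf₀ hgood
  obtain ⟨f, rfl⟩ := Ideal.Quotient.mk_surjective f₀
  refine ⟨f, fun hf => hf₀ (Ideal.Quotient.eq_zero_iff_mem.mpr hf), ?_⟩
  intro N _ _ i r hri
  set F : R := Ideal.Quotient.mk p f with hF
  have hfree : Module.Free (Localization.Away F) (LocalizedModule (Submonoid.powers F) G) :=
    hgood.free_localizedModule
  have hflatG : Module.Flat R (LocalizedModule (Submonoid.powers F) G) :=
    Module.Flat.trans R (Localization.Away F) _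
  -- the induced maps
  have hi : (p • (⊤ : Submodule A N)) ≤ LinearMap.ker
      (((P • (⊤ : Submodule ℛ ℳ)).mkQ.restrictScalars A) ∘ₗ i) := by
    rw [Submodule.smul_le]
    intro a ha x _
    rw [LinearMap.mem_ker, LinearMap.comp_apply, map_smul, LinearMap.restrictScalars_apply,
      Submodule.mkQ_apply, Submodule.Quotient.mk_eq_zero, ← algebraMap_smul ℛ a (i x)]
    exact Submodule.smul_mem_smul (Ideal.mem_map_of_mem _ ha) Submodule.mem_top
  let ibar : (N ⧸ p • (⊤ : Submodule A N)) →ₗ[A] G := (p • (⊤ : Submodule A N)).liftQ _ hi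
  have hr : ((P • (⊤ : Submodule ℛ ℳ)).restrictScalars A) ≤ LinearMap.ker
      ((p • (⊤ : Submodule A N)).mkQ ∘ₗ r) := by
    intro x hx
    have hx' : x ∈ p • (⊤ : Submodule A ℳ) :=
      mem_smul_top_of_mem_map_smul_top p x hx
    rw [LinearMap.mem_ker, LinearMap.comp_apply, Submodule.mkQ_apply,
      Submodule.Quotient.mk_eq_zero]
    refine Submodule.smul_induction_on hx' ?_ ?_
    · intro a ha y _
      rw [map_smul]
      exact Submodule.smul_mem_smul ha Submodule.mem_top
    · intro y z hy hz
      rw [map_add]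
      exact Submodule.add_mem _ hy hz
  let rbar : G →ₗ[A] (N ⧸ p • (⊤ : Submodule A N)) :=
    ((P • (⊤ : Submodule ℛ ℳ)).restrictScalars A).liftQ _ hr ∘ₗ
      (Submodule.Quotient.restrictScalarsEquiv A (P • (⊤ : Submodule ℛ ℳ))).symm.toLinearMap
  have hcomp : rbar ∘ₗ ibar = LinearMap.id := by
    apply Submodule.linearMap_qext
    refine LinearMap.ext fun x => ?_
    have := LinearMap.congr_fun hri x
    simp only [LinearMap.comp_apply, LinearMap.id_apply] at this
    change rbar (ibar (Submodule.Quotient.mk x)) = Submodule.Quotient.mk x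
    have h1 : ibar (Submodule.Quotient.mk x) = Submodule.Quotient.mk (i x) := rfl
    rw [h1]
    change ((P • (⊤ : Submodule ℛ ℳ)).restrictScalars A).liftQ _ hr
      ((Submodule.Quotient.restrictScalarsEquiv A (P • (⊤ : Submodule ℛ ℳ))).symm
        (Submodule.Quotient.mk (i x))) = _
    have h2 : (Submodule.Quotient.restrictScalarsEquiv A (P • (⊤ : Submodule ℛ ℳ))).symm
        (Submodule.Quotient.mk (i x)) = Submodule.Quotient.mk (i x) := by
      rw [LinearEquiv.symm_apply_eq]
      rfl
    rw [h2, Submodule.liftQ_apply, LinearMap.comp_apply, this]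
    rfl
  -- pass to `R`-linear maps
  let ibar' : (N ⧸ p • (⊤ : Submodule A N)) →ₗ[R] G :=
    LinearMap.extendScalarsOfSurjective Ideal.Quotient.mk_surjective ibar
  let rbar' : G →ₗ[R] (N ⧸ p • (⊤ : Submodule A N)) :=
    LinearMap.extendScalarsOfSurjective Ideal.Quotient.mk_surjective rbar
  have hcomp' : rbar' ∘ₗ ibar' = LinearMap.id := by
    refine LinearMap.ext fun x => ?_
    exact LinearMap.congr_fun hcomp x
  let iL := (LocalizedModule.map (Submonoid.powers F) ibar').restrictScalars R
  let rL := (LocalizedModule.map (Submonoid.powers F) rbar').restrictScalars R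
  refine Module.Flat.of_retract iL rL ?_
  refine LinearMap.ext fun x => ?_
  induction x using LocalizedModule.induction_on with
  | h m s =>
    change LocalizedModule.map (Submonoid.powers F) rbar'
      (LocalizedModule.map (Submonoid.powers F) ibar' (LocalizedModule.mk m s)) = _
    rw [LocalizedModule.map_mk, LocalizedModule.map_mk]
    have := LinearMap.congr_fun hcomp' m
    simp only [LinearMap.comp_apply, LinearMap.id_apply] at this
    rw [this]
    rfl

end generic

open Polynomial

section rees

variable (A : Type u) [CommRing A] [IsNoetherianRing A] (p : Ideal A) [p.IsPrime]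
    (M : Type u) [AddCommGroup M] [Module A M] [Module.Finite A M]

theorem exists_flat_gr :
    ∃ f : A, f ∉ p ∧ ∀ n : ℕ,
      Module.Flat (A ⧸ p) (LocalizedModule (Submonoid.powers (Ideal.Quotient.mk p f))
        (↥(p ^ n • (⊤ : Submodule A M)) ⧸ p • (⊤ : Submodule A ↥(p ^ n • (⊤ : Submodule A M))))) := by
  classical
  set Fil := p.stableFiltration (⊤ : Submodule A M) with hFil
  have hfin : Module.Finite (reesAlgebra p) ↥Fil.submodule := by
    rw [Module.Finite.iff_fg]
    rw [Fil.submodule_fg_iff_stable]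
    · exact p.stableFiltration_stable ⊤
    · intro i
      exact IsNoetherian.noetherian _
  obtain ⟨f, hf, h⟩ := exists_flat_retracts p (reesAlgebra p) ↥Fil.submodule
  refine ⟨f, hf, fun n => ?_⟩
  let i : ↥(p ^ n • (⊤ : Submodule A M)) →ₗ[A] ↥Fil.submodule :=
    { toFun := fun x => ⟨PolynomialModule.single A n x.1, by
        intro k
        rw [PolynomialModule.coeff_single, Finsupp.single_apply]
        split_ifs with hk
        · subst hk
          exact x.2
        · exact Submodule.zero_mem _⟩
      map_add' := fun x y => by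
        apply Subtype.ext
        exact PolynomialModule.single_add n x.1 y.1
      map_smul' := fun a x => by
        apply Subtype.ext
        exact PolynomialModule.single_smul n a x.1 }
  let r : ↥Fil.submodule →ₗ[A] ↥(p ^ n • (⊤ : Submodule A M)) :=
    { toFun := fun g => ⟨g.1.coeff n, g.2 n⟩
      map_add' := fun x y => rfl
      map_smul' := fun a x => by
        apply Subtype.ext
        rfl }
  refine h _ i r ?_
  refine LinearMap.ext fun x => ?_
  apply Subtype.ext
  change (PolynomialModule.single A n x.1).coeff n = x.1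
  rw [PolynomialModule.coeff_single, Finsupp.single_eq_same]

end rees

section loc

variable {A : Type*} [CommRing A] (S : Submonoid A) (A' : Type*) [CommRing A'] [Algebra A A']
  [IsLocalization S A']
  {M M' : Type*} [AddCommGroup M] [Module A M] [AddCommGroup M'] [Module A M'] [Module A' M']
  [IsScalarTower A A' M'] (ℓ : M →ₗ[A] M') [IsLocalizedModule S ℓ]

theorem localized'_pow_smul_top (p : Ideal A) (n : ℕ) :
    (p ^ n • (⊤ : Submodule A M)).localized' A' S ℓ =
      (p.map (algebraMap A A')) ^ n • (⊤ : Submodule A' M') := by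
  rw [Submodule.localized'_smul, Submodule.localized'_top, Ideal.localized'_eq_map, Ideal.map_pow]

/-- the restriction `pⁿM → (pA')ⁿM'` -/
noncomputable def restrictPow (p : Ideal A) (n : ℕ) :
    ↥(p ^ n • (⊤ : Submodule A M)) →ₗ[A]
      ↥((p.map (algebraMap A A')) ^ n • (⊤ : Submodule A' M')) :=
  ((LinearEquiv.ofEq _ _ (localized'_pow_smul_top S A' ℓ p n)).restrictScalars A).toLinearMap ∘ₗ
    (p ^ n • (⊤ : Submodule A M)).toLocalized' A' S ℓ

instance (p : Ideal A) (n : ℕ) : IsLocalizedModule S (restrictPow S A' ℓ p n) := by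
  unfold restrictPow
  exact IsLocalizedModule.of_linearEquiv S _ _

theorem localized'_smul_top (p : Ideal A) :
    (p • (⊤ : Submodule A M)).localized' A' S ℓ =
      (p.map (algebraMap A A')) • (⊤ : Submodule A' M') := by
  rw [Submodule.localized'_smul, Submodule.localized'_top, Ideal.localized'_eq_map]

/-- the induced map `M/pM → M'/pM'` -/
noncomputable def quotMap (p : Ideal A) :
    (M ⧸ p • (⊤ : Submodule A M)) →ₗ[A]
      (M' ⧸ (p.map (algebraMap A A')) • (⊤ : Submodule A' M')) :=
  ((Submodule.quotEquivOfEq _ _ (localized'_smul_top S A' ℓ p)).restrictScalars A).toLinearMap ∘ₗ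
    Submodule.toLocalizedQuotient' A' S ℓ (p • (⊤ : Submodule A M))

instance (p : Ideal A) : IsLocalizedModule S (quotMap S A' ℓ p) := by
  unfold quotMap
  exact IsLocalizedModule.of_linearEquiv S _ _

end loc


section locq

variable {A : Type*} [CommRing A] (S : Submonoid A) (A' : Type*) [CommRing A'] [Algebra A A']
  [IsLocalization S A'] (p : Ideal A)

/-- `A'/pA'` is the localization of `A/p` -/
theorem isLocalization_quotient :
    IsLocalization (Algebra.algebraMapSubmonoid (A ⧸ p) S) (A' ⧸ p.map (algebraMap A A')) := by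
  rw [isLocalization_iff]
  refine ⟨?_, ?_, ?_⟩
  · rintro ⟨_, s, hs, rfl⟩
    have h1 : IsUnit (algebraMap A A' s) := IsLocalization.map_units A' ⟨s, hs⟩
    have h2 : algebraMap (A ⧸ p) (A' ⧸ p.map (algebraMap A A')) (algebraMap A (A ⧸ p) s) =
        Ideal.Quotient.mk _ (algebraMap A A' s) := rfl
    rw [h2]
    exact h1.map _
  · intro z
    obtain ⟨z, rfl⟩ := Ideal.Quotient.mk_surjective z
    obtain ⟨⟨a, s⟩, h⟩ := IsLocalization.surj S z
    refine ⟨⟨Ideal.Quotient.mk p a, ⟨algebraMap A (A ⧸ p) s, s, s.2, rfl⟩⟩, ?_⟩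
    change Ideal.Quotient.mk _ z * Ideal.Quotient.mk _ (algebraMap A A' s) =
      Ideal.Quotient.mk _ (algebraMap A A' a)
    rw [← map_mul, h]
  · intro x y hxy
    obtain ⟨x, rfl⟩ := Ideal.Quotient.mk_surjective x
    obtain ⟨y, rfl⟩ := Ideal.Quotient.mk_surjective y
    have h1 : Ideal.Quotient.mk (p.map (algebraMap A A')) (algebraMap A A' x) =
        Ideal.Quotient.mk _ (algebraMap A A' y) := hxy
    rw [Ideal.Quotient.eq, ← map_sub, IsLocalization.algebraMap_mem_map_algebraMap_iff S] at h1
    obtain ⟨s, hs, h⟩ := h1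
    refine ⟨⟨algebraMap A (A ⧸ p) s, s, hs, rfl⟩, ?_⟩
    change Ideal.Quotient.mk p s * Ideal.Quotient.mk p x = Ideal.Quotient.mk p s * Ideal.Quotient.mk p y
    rw [← map_mul, ← map_mul, Ideal.Quotient.eq, ← mul_sub]
    exact h

/-- flatness transfer -/
theorem flat_quotient_of_isLocalizedModule
    {Y Y' : Type*} [AddCommGroup Y] [Module A Y] [Module (A ⧸ p) Y] [IsScalarTower A (A ⧸ p) Y]
    [AddCommGroup Y'] [Module A Y'] [Module A' Y'] [IsScalarTower A A' Y']
    [Module (A' ⧸ p.map (algebraMap A A')) Y'] [IsScalarTower A' (A' ⧸ p.map (algebraMap A A')) Y']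
    (θ : Y →ₗ[A] Y') [IsLocalizedModule S θ]
    [Module.Flat (A ⧸ p) (LocalizedModule (Algebra.algebraMapSubmonoid (A ⧸ p) S) Y)] :
    Module.Flat (A' ⧸ p.map (algebraMap A A')) Y' := by
  let R := A ⧸ p
  let Q := A' ⧸ p.map (algebraMap A A')
  letI modRY' : Module R Y' := Module.compHom Y' (algebraMap R Q)
  haveI towRQY' : IsScalarTower R Q Y' :=
    IsScalarTower.of_algebraMap_smul (R := R) (A := Q) (M := Y') fun _ _ => rfl
  haveI towAQY' : IsScalarTower A Q Y' := ⟨fun a b y => by
    rw [← algebraMap_smul A' a (b • y), ← algebraMap_smul Q (algebraMap A A' a) (b • y),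
      ← mul_smul, Algebra.smul_def, ← IsScalarTower.algebraMap_apply]⟩
  haveI towARY' : IsScalarTower A R Y' := ⟨fun a b y => by
    rw [← algebraMap_smul Q (a • b) y, ← algebraMap_smul Q b y, Algebra.smul_def, map_mul,
      mul_smul, ← IsScalarTower.algebraMap_apply, algebraMap_smul]⟩
  let θ' : Y →ₗ[R] Y' := LinearMap.extendScalarsOfSurjective Ideal.Quotient.mk_surjective θ
  haveI : IsLocalizedModule S (θ'.restrictScalars A) := by
    have : θ'.restrictScalars A = θ := LinearMap.ext fun _ => rfl
    rw [this]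
    infer_instance
  haveI hloc : IsLocalizedModule (Algebra.algebraMapSubmonoid R S) θ' :=
    IsLocalizedModule.of_restrictScalars S θ'
  have e : LocalizedModule (Algebra.algebraMapSubmonoid R S) Y ≃ₗ[R] Y' :=
    IsLocalizedModule.iso (Algebra.algebraMapSubmonoid R S) θ'
  haveI : Module.Flat R Y' := Module.Flat.of_linearEquiv e.symm
  haveI := isLocalization_quotient S A' p
  exact (Module.flat_iff_of_isLocalization (R := R) Q (Algebra.algebraMapSubmonoid R S) (M := Y')).mpr
    inferInstance

end locq


end Groth.Agent.H1.NormFlat
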