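import Mathlib
import Groth.Agent.Lib.Helper1.FibInj3
import Groth.Agent.Lib.Helper1.NormFlat

/-!
# Fibrewise injectivity ⇒ injectivity with flat cokernel: modules over the local ring of a
polynomial ring, and over essentially finitely presented local algebras
-/

set_option autoImplicit false

universe u

open TensorProduct Function

namespace Groth.Agent.H1.FibInj

open Groth.Agent.H1.PolyModel

attribute [local instance] MvPolynomial.algebraMvPolynomial

section general

theorem exists_of_mem_smul_top_ker {A F N Z : Type*} [CommRing A] [AddCommGroup F] [Module A F]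
    [AddCommGroup N] [Module A N] [AddCommGroup Z] [Module A Z]
    (φ : F →ₗ[A] N) (kg : Z →ₗ[A] F) (hkg : LinearMap.range kg = LinearMap.ker φ) (I : Ideal A)
    (v : F) (hv : φ v = 0)
    (h : (⟨v, hv⟩ : LinearMap.ker φ) ∈ I • (⊤ : Submodule A (LinearMap.ker φ))) :
    ∃ z ∈ I • (⊤ : Submodule A Z), kg z = v := by
  have h1 : v ∈ Submodule.map (LinearMap.ker φ).subtype (I • ⊤) := ⟨_, h, rfl⟩
  rw [Submodule.map_smul'', Submodule.map_top, Submodule.range_subtype, ← hkg,
    LinearMap.range_eq_map, ← Submodule.map_smul''] at h1
  exact h1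

end general

section modloc

variable {n : ℕ} {R : Type u} [CommRing R] [IsLocalRing R] (q : Ideal (P n R)) [q.IsPrime]

set_option maxHeartbeats 1600000 in
/-- **Fibrewise injective maps into flat modules over `R[X]_q`.** -/
theorem fibInj_loc (hq : (IsLocalRing.maximalIdeal R).map (algebraMap R (P n R)) ≤ q)
    {M N : Type*} [AddCommGroup M] [Module (Localization.AtPrime q) M] [Module R M]
    [IsScalarTower R (Localization.AtPrime q) M] [Module.Finite (Localization.AtPrime q) M]
    [AddCommGroup N] [Module (Localization.AtPrime q) N] [Module R N]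
    [IsScalarTower R (Localization.AtPrime q) N]
    [Module.FinitePresentation (Localization.AtPrime q) N] [Module.Flat R N]
    (u : M →ₗ[Localization.AtPrime q] N)
    (hu : ∀ x : M, u x ∈ (IsLocalRing.maximalIdeal R) • (⊤ : Submodule R N) →
      x ∈ (IsLocalRing.maximalIdeal R) • (⊤ : Submodule R M)) :
    Injective u ∧ Module.Flat R (N ⧸ LinearMap.range u) := by
  classical
  set m := IsLocalRing.maximalIdeal R with hm
  obtain ⟨a, πM, hπM⟩ := Module.Finite.exists_fin' (Localization.AtPrime q) M
  obtain ⟨c, πN, hπN⟩ := Module.Finite.exists_fin' (Localization.AtPrime q) N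
  have hK : (LinearMap.ker πN).FG := Module.FinitePresentation.fg_ker πN hπN
  obtain ⟨d, k, hk⟩ := Submodule.fg_iff_exists_fin_generating_family.mp hK
  obtain ⟨F, hF⟩ := Module.projective_lifting_property πN (u ∘ₗ πM) hπN
  let kg : (Fin d → Localization.AtPrime q) →ₗ[Localization.AtPrime q]
      (Fin c → Localization.AtPrime q) := Fintype.linearCombination (Localization.AtPrime q) k
  have hkg : LinearMap.range kg = LinearMap.ker πN := by
    rw [← hk]
    exact Fintype.range_linearCombination _ _
  have hkg0 : ∀ z, πN (kg z) = 0 := fun z => by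
    have : kg z ∈ LinearMap.ker πN := hkg ▸ LinearMap.mem_range_self kg z
    exact this
  let V : ((Fin a → Localization.AtPrime q) × (Fin d → Localization.AtPrime q))
      →ₗ[Localization.AtPrime q] (Fin c → Localization.AtPrime q) := F.coprod kg
  let VM : ((Fin a → Localization.AtPrime q) × (Fin d → Localization.AtPrime q))
      →ₗ[Localization.AtPrime q] M := πM ∘ₗ LinearMap.fst _ _ _
  have hVMsurj : Surjective VM := hπM.comp LinearMap.fst_surjective
  let W := LinearMap.ker V ⊓ LinearMap.ker VM
  have hπV : ∀ y, πN (V y) = u (VM y) := by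
    intro y
    change πN (F y.1 + kg y.2) = u (πM y.1)
    rw [map_add, hkg0, add_zero]
    exact LinearMap.congr_fun hF y.1
  have hfib : ∀ y, V y ∈ m • (⊤ : Submodule R (Fin c → Localization.AtPrime q)) →
      ∃ w ∈ W, y - w ∈ m • (⊤ : Submodule R
        ((Fin a → Localization.AtPrime q) × (Fin d → Localization.AtPrime q))) := by
    intro y hy
    have h1 : u (VM y) ∈ m • (⊤ : Submodule R N) := by
      rw [← hπV]
      exact map_mem_smul_top πN m _ hy
    have h2 := hu _ h1
    obtain ⟨e, he, hee⟩ := exists_mem_smul_top_map_eq (VM.restrictScalars R) hVMsurj m _ h2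
    have hee' : VM e = VM y := hee
    have hy1 : V (y - e) ∈ m • (⊤ : Submodule R (Fin c → Localization.AtPrime q)) := by
      rw [map_sub]
      exact Submodule.sub_mem _ hy (map_mem_smul_top V m e he)
    have hVM1 : VM (y - e) = 0 := by rw [map_sub, hee', sub_self]
    have hπ1 : (πN.restrictScalars R) (V (y - e)) = 0 := by
      change πN (V (y - e)) = 0
      rw [hπV, hVM1, map_zero]
    have h3 := FibreFree.mem_smul_top_ker_of_flat (πN.restrictScalars R) hπN m (V (y - e)) hπ1 hy1
    have hkgR : LinearMap.range (kg.restrictScalars R) = LinearMap.ker (πN.restrictScalars R) := by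
      ext v
      rw [LinearMap.mem_range, LinearMap.mem_ker]
      change (∃ z, kg z = v) ↔ πN v = 0
      rw [← LinearMap.mem_range, hkg, LinearMap.mem_ker]
    obtain ⟨z, hz, hzz'⟩ := exists_of_mem_smul_top_ker (πN.restrictScalars R)
      (kg.restrictScalars R) hkgR m (V (y - e)) hπ1 h3
    replace hzz' : kg z = V (y - e) := hzz'
    have hinr : ((0, z) : (Fin a → Localization.AtPrime q) × (Fin d → Localization.AtPrime q)) ∈
        m • (⊤ : Submodule R
          ((Fin a → Localization.AtPrime q) × (Fin d → Localization.AtPrime q))) :=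
      map_mem_smul_top (LinearMap.inr (Localization.AtPrime q) (Fin a → Localization.AtPrime q)
        (Fin d → Localization.AtPrime q)) m z hz
    refine ⟨y - e - (0, z), ⟨?_, ?_⟩, ?_⟩
    · change V (y - e - (0, z)) = 0
      rw [map_sub, ← hzz']
      change kg z - (F 0 + kg z) = 0
      rw [map_zero, zero_add, sub_self]
    · change VM (y - e - (0, z)) = 0
      rw [map_sub, hVM1]
      change 0 - πM 0 = 0
      rw [map_zero, sub_zero]
    · have : y - (y - e - (0, z)) = e + (0, z) := by abel
      rw [this]
      exact Submodule.add_mem _ he hinr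
  obtain ⟨hker, hflat⟩ := core_fin q c hq V W inf_le_left hfib
  constructor
  · rw [injective_iff_map_eq_zero]
    intro x hx
    obtain ⟨y', rfl⟩ := hπM x
    have h1 : F y' ∈ LinearMap.ker πN := by
      rw [LinearMap.mem_ker]
      have := LinearMap.congr_fun hF y'
      rw [LinearMap.comp_apply, LinearMap.comp_apply] at this
      rw [this, hx]
    rw [← hkg] at h1
    obtain ⟨z, hz⟩ := h1
    have h2 : ((y', -z) : (Fin a → Localization.AtPrime q) × (Fin d → Localization.AtPrime q)) ∈
        LinearMap.ker V := by
      change F y' + kg (-z) = 0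
      rw [map_neg, hz, add_neg_cancel]
    exact (hker h2).2
  · let f : (Fin c → Localization.AtPrime q) →ₗ[Localization.AtPrime q] N ⧸ LinearMap.range u :=
      (LinearMap.range u).mkQ ∘ₗ πN
    have hf : Surjective f := (Submodule.mkQ_surjective _).comp hπN
    have hkerf : LinearMap.ker f = LinearMap.range V := by
      ext v
      rw [LinearMap.mem_ker, LinearMap.comp_apply, Submodule.mkQ_apply,
        Submodule.Quotient.mk_eq_zero]
      constructor
      · rintro ⟨x, hx⟩
        obtain ⟨y', rfl⟩ := hπM x
        have h1 : v - F y' ∈ LinearMap.ker πN := by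
          rw [LinearMap.mem_ker, map_sub, ← hx]
          have := LinearMap.congr_fun hF y'
          rw [LinearMap.comp_apply, LinearMap.comp_apply] at this
          rw [this, sub_self]
        rw [← hkg] at h1
        obtain ⟨z, hz⟩ := h1
        refine ⟨(y', z), ?_⟩
        change F y' + kg z = v
        rw [hz]
        abel
      · rintro ⟨y, rfl⟩
        exact ⟨VM y, (hπV y).symm⟩
    let e : ((Fin c → Localization.AtPrime q) ⧸ LinearMap.range V) ≃ₗ[Localization.AtPrime q]
        N ⧸ LinearMap.range u :=
      Submodule.quotEquivOfEq _ _ hkerf.symm ≪≫ₗ f.quotKerEquivOfSurjective hf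
    exact Module.Flat.of_linearEquiv (e.restrictScalars R).symm

end modloc

section essfp

variable {R S₀ S : Type u} [CommRing R] [CommRing S₀] [CommRing S] [IsLocalRing R] [IsLocalRing S]
  [Algebra R S₀] [Algebra S₀ S] [Algebra R S] [IsScalarTower R S₀ S]
  [IsLocalHom (algebraMap R S)] [Algebra.FinitePresentation R S₀] (Mon : Submonoid S₀)
  [IsLocalization Mon S]

include Mon in
/-- an essentially finitely presented local algebra is a quotient of the local ring of a
polynomial ring by a finitely generated ideal -/
theorem exists_surjective_localization :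
    ∃ (n : ℕ) (q : Ideal (P n R)) (_ : q.IsPrime)
      (θ : Localization.AtPrime q →+* S),
      (IsLocalRing.maximalIdeal R).map (algebraMap R (P n R)) ≤ q ∧ Surjective θ ∧
      (RingHom.ker θ).FG ∧ ∀ a : R, θ (algebraMap R (Localization.AtPrime q) a) = algebraMap R S a := by
  classical
  obtain ⟨n, φ, hφ, hker⟩ := Algebra.FinitePresentation.out (R := R) (A := S₀)
  let θ₀ : P n R →+* S := (algebraMap S₀ S).comp φ.toRingHom
  have hθ₀C : ∀ a : R, θ₀ (algebraMap R (P n R) a) = algebraMap R S a := by
    intro a
    change algebraMap S₀ S (φ (algebraMap R (P n R) a)) = _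
    rw [φ.commutes, ← IsScalarTower.algebraMap_apply]
  let q : Ideal (P n R) := (IsLocalRing.maximalIdeal S).comap θ₀
  haveI : q.IsPrime := Ideal.comap_isPrime _ _
  have hunits : ∀ y : q.primeCompl, IsUnit (θ₀ y) := by
    intro y
    by_contra hy
    exact y.2 ((IsLocalRing.mem_maximalIdeal _).mpr hy)
  let θ : Localization.AtPrime q →+* S := IsLocalization.lift (M := q.primeCompl) hunits
  have hθ : ∀ (x : P n R) (y : q.primeCompl) (v : S),
      θ (IsLocalization.mk' (Localization.AtPrime q) x y) = v ↔ θ₀ x = θ₀ y * v :=
    fun x y v => IsLocalization.lift_mk'_spec hunits x v y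
  have hθalg : ∀ x : P n R, θ (algebraMap (P n R) (Localization.AtPrime q) x) = θ₀ x :=
    fun x => IsLocalization.lift_eq hunits x
  refine ⟨n, q, inferInstance, θ, ?_, ?_, ?_, ?_⟩
  · rw [Ideal.map_le_iff_le_comap]
    intro a ha
    change θ₀ (algebraMap R (P n R) a) ∈ IsLocalRing.maximalIdeal S
    rw [hθ₀C]
    refine (IsLocalRing.mem_maximalIdeal _).mpr fun hu => ?_
    exact ((IsLocalRing.mem_maximalIdeal _).mp ha) (isUnit_of_map_unit (algebraMap R S) a hu)
  · intro v
    obtain ⟨x₀, t, rfl⟩ := IsLocalization.exists_mk'_eq Mon v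
    obtain ⟨x, rfl⟩ := hφ x₀
    obtain ⟨y, hy⟩ := hφ t
    have hyq : y ∈ q.primeCompl := by
      intro hyq
      have h1 : θ₀ y ∈ IsLocalRing.maximalIdeal S := hyq
      have h2 : θ₀ y = algebraMap S₀ S t := by
        change algebraMap S₀ S (φ y) = _
        rw [hy]
      rw [h2] at h1
      exact ((IsLocalRing.mem_maximalIdeal _).mp h1) (IsLocalization.map_units S t)
    refine ⟨IsLocalization.mk' (Localization.AtPrime q) x ⟨y, hyq⟩, ?_⟩
    rw [hθ]
    change algebraMap S₀ S (φ x) = algebraMap S₀ S (φ y) * _
    rw [hy, IsLocalization.mk'_spec']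
  · have hkerθ : RingHom.ker θ =
        (RingHom.ker φ.toRingHom).map (algebraMap (P n R) (Localization.AtPrime q)) := by
      apply le_antisymm
      · intro z hz
        obtain ⟨x, y, rfl⟩ := IsLocalization.exists_mk'_eq q.primeCompl z
        rw [RingHom.mem_ker, hθ, mul_zero] at hz
        have hz' : algebraMap S₀ S (φ x) = 0 := hz
        rw [IsLocalization.map_eq_zero_iff Mon] at hz'
        obtain ⟨t, ht⟩ := hz'
        obtain ⟨y', hy'⟩ := hφ t
        have hyq : y' ∈ q.primeCompl := by
          intro hyq
          have h1 : θ₀ y' ∈ IsLocalRing.maximalIdeal S := hyq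
          have h2 : θ₀ y' = algebraMap S₀ S t := by
            change algebraMap S₀ S (φ y') = _
            rw [hy']
          rw [h2] at h1
          exact ((IsLocalRing.mem_maximalIdeal _).mp h1) (IsLocalization.map_units S t)
        have h3 : y' * x ∈ RingHom.ker φ.toRingHom := by
          rw [RingHom.mem_ker]
          change φ (y' * x) = 0
          rw [map_mul, hy', ht]
        have h4 : IsLocalization.mk' (Localization.AtPrime q) x y =
            IsLocalization.mk' (Localization.AtPrime q) (y' * x) (⟨y', hyq⟩ * y) := by
          rw [IsLocalization.mk'_eq_iff_eq]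
          simp only [Submonoid.coe_mul]
          ring_nf
        rw [h4, IsLocalization.mk'_eq_mul_mk'_one]
        exact Ideal.mul_mem_right _ _ (Ideal.mem_map_of_mem _ h3)
      · rw [Ideal.map_le_iff_le_comap]
        intro x hx
        rw [Ideal.mem_comap, RingHom.mem_ker, hθalg]
        change algebraMap S₀ S (φ x) = 0
        have : φ x = 0 := hx
        rw [this, map_zero]
    rw [hkerθ]
    exact Ideal.FG.map hker _
  · intro a
    rw [IsScalarTower.algebraMap_apply R (P n R) (Localization.AtPrime q), hθalg, hθ₀C]

theorem mem_map_smul_top_iff {A B F : Type*} [CommRing A] [CommRing B] [Algebra A B]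
    [AddCommGroup F] [Module B F] [Module A F] [IsScalarTower A B F] (I : Ideal A) (x : F) :
    x ∈ I.map (algebraMap A B) • (⊤ : Submodule B F) ↔ x ∈ I • (⊤ : Submodule A F) := by
  constructor
  · exact NormFlat.mem_smul_top_of_mem_map_smul_top I x
  · intro hx
    refine Submodule.smul_induction_on hx ?_ ?_
    · intro a ha y _
      rw [← algebraMap_smul B a y]
      exact Submodule.smul_mem_smul (Ideal.mem_map_of_mem _ ha) Submodule.mem_top
    · intro x y hx hy
      exact Submodule.add_mem _ hx hy

include Mon in
set_option maxHeartbeats 1600000 in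
/-- **Fibrewise injective maps into flat modules over an essentially finitely presented local
algebra** (Stacks 046Z / EGA IV 11.3.7, local form). -/
theorem fibInj_of_isLocalization {M N : Type*}
    [AddCommGroup M] [Module S M] [Module R M] [IsScalarTower R S M] [Module.Finite S M]
    [AddCommGroup N] [Module S N] [Module R N] [IsScalarTower R S N]
    [Module.FinitePresentation S N] [Module.Flat R N] (u : M →ₗ[S] N)
    (hu : ∀ x : M, u x ∈ (IsLocalRing.maximalIdeal R).map (algebraMap R S) •
        (⊤ : Submodule S N) →
      x ∈ (IsLocalRing.maximalIdeal R).map (algebraMap R S) • (⊤ : Submodule S M)) :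
    Injective u ∧ Module.Flat R (N ⧸ LinearMap.range u) := by
  classical
  obtain ⟨n, q, hqp, θ, hq, hθsurj, hθker, hθR⟩ := exists_surjective_localization (R := R) (S := S) Mon
  letI algΛS : Algebra (Localization.AtPrime q) S := θ.toAlgebra
  haveI towRΛS : IsScalarTower R (Localization.AtPrime q) S :=
    IsScalarTower.of_algebraMap_eq fun a => (hθR a).symm
  haveI fpS : Module.FinitePresentation (Localization.AtPrime q) S :=
    Module.finitePresentation_of_surjective (Algebra.linearMap (Localization.AtPrime q) S)
      hθsurj (by
        have : LinearMap.ker (Algebra.linearMap (Localization.AtPrime q) S) = RingHom.ker θ := by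
          ext z
          rfl
        rw [this]
        exact hθker)
  letI modM : Module (Localization.AtPrime q) M := Module.compHom M θ
  haveI towM : IsScalarTower (Localization.AtPrime q) S M :=
    IsScalarTower.of_algebraMap_smul fun _ _ => rfl
  haveI towRM : IsScalarTower R (Localization.AtPrime q) M :=
    IsScalarTower.of_algebraMap_smul fun a x => by
      change θ (algebraMap R (Localization.AtPrime q) a) • x = a • x
      rw [hθR, algebraMap_smul]
  letI modN : Module (Localization.AtPrime q) N := Module.compHom N θ
  haveI towN : IsScalarTower (Localization.AtPrime q) S N :=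
    IsScalarTower.of_algebraMap_smul fun _ _ => rfl
  haveI towRN : IsScalarTower R (Localization.AtPrime q) N :=
    IsScalarTower.of_algebraMap_smul fun a x => by
      change θ (algebraMap R (Localization.AtPrime q) a) • x = a • x
      rw [hθR, algebraMap_smul]
  haveI finM : Module.Finite (Localization.AtPrime q) M :=
    Module.Finite.trans S M
  haveI fpN : Module.FinitePresentation (Localization.AtPrime q) N :=
    Module.FinitePresentation.trans (Localization.AtPrime q) N S
  have hmain := fibInj_loc q hq (u.restrictScalars (Localization.AtPrime q)) (by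
    intro x hx
    rw [← mem_map_smul_top_iff (B := S)]
    apply hu
    rw [mem_map_smul_top_iff]
    exact hx)
  refine ⟨hmain.1, ?_⟩
  haveI := hmain.2
  let e1 := Submodule.Quotient.restrictScalarsEquiv R
    (LinearMap.range (u.restrictScalars (Localization.AtPrime q)))
  let e2 := Submodule.Quotient.restrictScalarsEquiv R (LinearMap.range u)
  have heq : (LinearMap.range (u.restrictScalars (Localization.AtPrime q))).restrictScalars R =
      (LinearMap.range u).restrictScalars R := by
    ext z
    rfl
  exact Module.Flat.of_linearEquiv (e2.symm ≪≫ₗ (Submodule.quotEquivOfEq _ _ heq).symm ≪≫ₗ e1)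

end essfp

end Groth.Agent.H1.FibInj
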