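import Mathlib
import Groth.Agent.Lib.Helper1.LocalCriterion2

/-!
# Local criterion of flatness, part 3 (helper1): fibrewise criterion (Stacks 00MP)
-/

universe u v w w'
open TensorProduct Function

namespace Groth.Agent.H1

section A

variable {R : Type*} {S : Type u} {M : Type v} [CommRing R] [CommRing S] [Algebra R S] (I : Ideal R)
  [AddCommGroup M] [Module S M] [Module R M] [IsScalarTower R S M]

/-- If `M` is `R`-flat then `IS ⊗_S M → M` is injective. -/
theorem rTensor_map_subtype_injective_of_flat [Module.Flat R M] :
    Injective ((I.map (algebraMap R S)).subtype.rTensor M) := by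
  rw [injective_iff_map_eq_zero]
  intro x hx
  obtain ⟨y, rfl⟩ := idealTensorMap_surjective I x
  have h1 := lid_rTensor_idealTensorMap (S := S) I y
  rw [hx, map_zero] at h1
  have h2 : I.subtype.rTensor M y = 0 := (TensorProduct.lid R M).injective (by rw [← h1, map_zero])
  have h3 : Injective (I.subtype.rTensor M) :=
    Module.Flat.rTensor_preserves_injective_linearMap _ Subtype.val_injective
  have : y = 0 := h3 (by rw [h2, map_zero])
  rw [this, map_zero]

end A

section B

/-- If `M` is a faithfully flat `S`-module which is flat over `R`, then `S` is flat over `R`. -/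
theorem flat_of_flat_of_faithfullyFlat_module (R S M : Type*) [CommRing R] [CommRing S]
    [Algebra R S] [AddCommGroup M] [Module R M] [Module S M] [IsScalarTower R S M]
    [Module.FaithfullyFlat S M] [Module.Flat R M] : Module.Flat R S := by
  rw [Module.Flat.iff_lTensor_preserves_injective_linearMap]
  intro N P _ _ _ _ f hf
  let g : S ⊗[R] N →ₗ[S] S ⊗[R] P := f.baseChange S
  have hg : (g : S ⊗[R] N → S ⊗[R] P) = f.lTensor S := by
    ext x; rfl
  rw [← hg, ← Module.FaithfullyFlat.lTensor_injective_iff_injective S M]
  have key : ∀ x : M ⊗[S] (S ⊗[R] N),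
      AlgebraTensorModule.cancelBaseChange R S S M P (g.lTensor M x) =
        f.lTensor M (AlgebraTensorModule.cancelBaseChange R S S M N x) := by
    intro x
    induction x using TensorProduct.induction_on with
    | zero => simp
    | add x y hx hy => simp only [map_add, hx, hy]
    | tmul t y =>
      induction y using TensorProduct.induction_on with
      | zero => simp
      | add y z hy hz => simp only [tmul_add, map_add, hy, hz]
      | tmul s n => simp [g]
  have hinj : Function.Injective (f.lTensor M) :=
    Module.Flat.lTensor_preserves_injective_linearMap f hf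
  intro x y hxy
  apply (AlgebraTensorModule.cancelBaseChange R S S M N).injective
  apply hinj
  rw [← key, ← key, hxy]

/-- A nonzero module, finite over a local ring `S'` and flat over a local ring `S` mapping
locally to `S'`, is faithfully flat over `S`. -/
theorem faithfullyFlat_of_flat_of_finite_of_isLocalHom (S S' M : Type*) [CommRing S] [CommRing S']
    [IsLocalRing S] [IsLocalRing S'] [Algebra S S'] [IsLocalHom (algebraMap S S')]
    [AddCommGroup M] [Module S M] [Module S' M] [IsScalarTower S S' M] [Module.Finite S' M]
    [Nontrivial M] [Module.Flat S M] : Module.FaithfullyFlat S M := by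
  refine ⟨fun m hm htop ↦ ?_⟩
  have hmeq : m = IsLocalRing.maximalIdeal S := IsLocalRing.eq_maximalIdeal hm
  subst hmeq
  have h1 : (⊤ : Submodule S' M) ≤ IsLocalRing.maximalIdeal S' • (⊤ : Submodule S' M) := by
    intro x _
    have hx : x ∈ IsLocalRing.maximalIdeal S • (⊤ : Submodule S M) := by rw [htop]; trivial
    refine Submodule.smul_induction_on hx ?_ ?_
    · intro a ha y _
      rw [← algebraMap_smul S' a y]
      refine Submodule.smul_mem_smul ?_ Submodule.mem_top
      have hle : (IsLocalRing.maximalIdeal S).map (algebraMap S S') ≤ IsLocalRing.maximalIdeal S' :=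
        ((IsLocalRing.local_hom_TFAE (algebraMap S S')).out 0 2).mp ‹_›
      exact hle (Ideal.mem_map_of_mem _ ha)
    · intro y z hy hz
      exact Submodule.add_mem _ hy hz
  have h2 := Submodule.eq_bot_of_le_smul_of_le_jacobson_bot (IsLocalRing.maximalIdeal S') ⊤
    Module.Finite.fg_top h1 (IsLocalRing.maximalIdeal_le_jacobson ⊥)
  have : Subsingleton M := (Submodule.subsingleton_iff S').mp (subsingleton_of_bot_eq_top h2.symm)
  exact not_subsingleton M this

end B

section C

/-- Critère de platitude par fibres, Noetherian local form (Stacks 00MP). -/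
theorem flat_and_flat_of_flat_fibre {R : Type u} {S : Type v} {S' : Type w} {M : Type w'}
    [CommRing R] [CommRing S] [CommRing S'] [IsLocalRing R] [IsLocalRing S] [IsLocalRing S']
    [IsNoetherianRing S] [IsNoetherianRing S'] [Algebra R S] [Algebra S S']
    [IsLocalHom (algebraMap R S)] [IsLocalHom (algebraMap S S')]
    [AddCommGroup M] [Module S' M] [Module S M] [Module R M] [IsScalarTower S S' M]
    [IsScalarTower R S M] [Module.Finite S' M] [Nontrivial M] [Module.Flat R M]
    [Module.Flat (S ⧸ ((IsLocalRing.maximalIdeal R).map (algebraMap R S)))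
      ((S ⧸ ((IsLocalRing.maximalIdeal R).map (algebraMap R S))) ⊗[S] M)] :
    Module.Flat R S ∧ Module.Flat S M := by
  have hne : (IsLocalRing.maximalIdeal R).map (algebraMap R S) ≠ ⊤ := by
    have hle : (IsLocalRing.maximalIdeal R).map (algebraMap R S) ≤ IsLocalRing.maximalIdeal S :=
      ((IsLocalRing.local_hom_TFAE (algebraMap R S)).out 0 2).mp ‹_›
    intro h
    rw [h] at hle
    exact (Ideal.IsPrime.ne_top inferInstance) (top_le_iff.mp hle)
  have hSM : Module.Flat S M :=
    flat_of_isLocalHom_of_rTensor_injective (R := S) (S := S') (M := M) _ hne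
      (rTensor_map_subtype_injective_of_flat (IsLocalRing.maximalIdeal R))
  have := faithfullyFlat_of_flat_of_finite_of_isLocalHom S S' M
  exact ⟨flat_of_flat_of_faithfullyFlat_module R S M, hSM⟩

end C

end Groth.Agent.H1
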