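import Mathlib
import Groth.Agent.Lib.Helper1.FibInj4
import Groth.Agent.Lib.Helper1.LocalCriterion3

/-!
# Critère de platitude par fibres, non-Noetherian (finitely presented) local form

Stacks 00R7 / 00R8, EGA IV 11.3.10.  The key input is `FibInj.fibInj_loc` (EGA IV 11.3.7 in the
finitely presented setting, with a merely *finite* source module).
-/

set_option autoImplicit false

universe u

open TensorProduct Function

namespace Groth.Agent.H1.CritFib

open Groth.Agent.H1.PolyModel

attribute [local instance] MvPolynomial.algebraMvPolynomial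

section tor

variable {S : Type*} [CommRing S] {M : Type*} [AddCommGroup M] [Module S M]

theorem rTensor_subtype_injective_of_le_aux (I J : Ideal S) (hIJ : I ≤ J)
    (T : Type*) [CommRing T] [Algebra S T] (hsurj : Surjective (algebraMap S T))
    (hker : RingHom.ker (algebraMap S T) = I)
    (h1 : Injective (I.subtype.rTensor M)) [Module.Flat T (T ⊗[S] M)]
    {F R : Type*} [AddCommGroup F] [Module S F] [Module.Flat S F] [AddCommGroup R] [Module S R]
    (ι : R →ₗ[S] F) (π : F →ₗ[S] M) (hι : Injective ι) (hex : Exact ι π) (hπ : Surjective π) :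
    Injective (J.subtype.rTensor M) := by
  -- the sequence `I → S → T`
  have hexI : Exact I.subtype (Algebra.linearMap S T) := by
    intro x
    constructor
    · intro hx
      have : x ∈ RingHom.ker (algebraMap S T) := hx
      rw [hker] at this
      exact ⟨⟨x, this⟩, rfl⟩
    · rintro ⟨y, rfl⟩
      have : (y : S) ∈ RingHom.ker (algebraMap S T) := hker ▸ y.2
      exact this
  have hT0 : Injective (ι.lTensor T) :=
    LocalCrit.T_of_rTensor_injective ι π hι hex hπ I.subtype (Algebra.linearMap S T) hexI hsurj h1
  -- the `T`-module `T / JT`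
  let JT : Ideal T := J.map (algebraMap S T)
  have hTJ : Injective (ι.lTensor (T ⧸ JT)) :=
    LocalCrit.T_of_module_quotient ι π hex hπ T hT0 (T ⧸ JT)
  -- the sequence `J → S → T/JT`
  let g₂ : S →ₗ[S] T ⧸ JT := (JT.mkQ.restrictScalars S) ∘ₗ Algebra.linearMap S T
  have hg₂ : Surjective g₂ := (Submodule.mkQ_surjective JT).comp hsurj
  have hexJ : Exact J.subtype g₂ := by
    intro x
    constructor
    · intro hx
      have hx' : algebraMap S T x ∈ JT := by
        have : JT.mkQ (algebraMap S T x) = 0 := hx
        rwa [Submodule.mkQ_apply, Submodule.Quotient.mk_eq_zero] at this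
      rw [Ideal.mem_map_iff_of_surjective _ hsurj] at hx'
      obtain ⟨y, hy, hyx⟩ := hx'
      have h2 : x - y ∈ RingHom.ker (algebraMap S T) := by
        rw [RingHom.mem_ker, map_sub, hyx, sub_self]
      rw [hker] at h2
      have h3 : x ∈ J := by
        have := J.add_mem (hIJ h2) hy
        rwa [sub_add_cancel] at this
      exact ⟨⟨x, h3⟩, rfl⟩
    · rintro ⟨y, rfl⟩
      change JT.mkQ (algebraMap S T y) = 0
      rw [Submodule.mkQ_apply, Submodule.Quotient.mk_eq_zero]
      exact Ideal.mem_map_of_mem _ y.2
  have hfin : Injective (J.subtype.lTensor M) :=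
    LocalCrit.lTensor_injective_of_T ι π hex hπ J.subtype g₂ Subtype.val_injective hexJ hg₂ hTJ
  exact (LinearMap.lTensor_inj_iff_rTensor_inj _ _).mp hfin

/-- If `Tor₁(S/I, M) = 0`, `T = S/I`, `T ⊗ M` is `T`-flat and `I ≤ J` then `Tor₁(S/J, M) = 0`. -/
theorem rTensor_subtype_injective_of_le (I J : Ideal S) (hIJ : I ≤ J)
    (T : Type*) [CommRing T] [Algebra S T] (hsurj : Surjective (algebraMap S T))
    (hker : RingHom.ker (algebraMap S T) = I)
    (h1 : Injective (I.subtype.rTensor M)) [Module.Flat T (T ⊗[S] M)] :
    Injective (J.subtype.rTensor M) :=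
  rTensor_subtype_injective_of_le_aux I J hIJ T hsurj hker h1 (F := M →₀ S)
    (R := LinearMap.ker (Finsupp.linearCombination S (id : M → M)))
    (LinearMap.ker (Finsupp.linearCombination S (id : M → M))).subtype
    (Finsupp.linearCombination S id) Subtype.val_injective
    (LinearMap.exact_subtype_ker_map _) (Finsupp.linearCombination_id_surjective S M)

end tor

section loc

theorem mem_smul_top_of_rTensor_injective {A : Type*} [CommRing A] (m : Ideal A)
    {K F M : Type*} [AddCommGroup K] [Module A K] [AddCommGroup F] [Module A F]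
    [AddCommGroup M] [Module A M] (ι : K →ₗ[A] F) (π : F →ₗ[A] M) (hι : Injective ι)
    (hex : Exact ι π) (hπ : Surjective π) (h : Injective (m.subtype.rTensor M))
    (x : K) (hx : ι x ∈ m • (⊤ : Submodule A F)) : x ∈ m • (⊤ : Submodule A K) := by
  have hT : Injective (ι.lTensor (A ⧸ m)) :=
    LocalCrit.T_of_rTensor_injective ι π hι hex hπ m.subtype m.mkQ
      (LinearMap.exact_subtype_mkQ m) (Submodule.mkQ_surjective m) h
  rw [← FibreFree.one_tmul_eq_zero_iff] at hx ⊢
  apply hT
  rw [map_zero, LinearMap.lTensor_tmul]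
  exact hx

variable {n : ℕ} {A : Type u} [CommRing A] [IsLocalRing A] (q : Ideal (P n A)) [q.IsPrime]

theorem flat_pi_loc (r : ℕ) : Module.Flat A (Fin r → Localization.AtPrime q) := by
  haveI : Module.Flat A (Localization.AtPrime q) := by
    haveI : Module.Flat (P n A) (Localization.AtPrime q) := inferInstance
    exact Module.Flat.trans A (P n A) (Localization.AtPrime q)
  exact Module.Flat.of_linearEquiv
      (DFinsupp.linearEquivFunOnFintype (R := A) (M := fun _ : Fin r => Localization.AtPrime q)).symm

/-- Local criterion of flatness at the maximal ideal, finitely presented setting: a finitely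
presented module over `A[X]_q` with `Tor₁(A/𝔪, M) = 0` is flat over `A`. -/
theorem flat_of_rTensor_maximalIdeal_injective_loc
    (hq : (IsLocalRing.maximalIdeal A).map (algebraMap A (P n A)) ≤ q)
    {M : Type*} [AddCommGroup M] [Module (Localization.AtPrime q) M] [Module A M]
    [IsScalarTower A (Localization.AtPrime q) M] [Module.FinitePresentation (Localization.AtPrime q) M]
    (h : Injective ((IsLocalRing.maximalIdeal A).subtype.rTensor M)) : Module.Flat A M := by
  classical
  obtain ⟨r, π, hπ⟩ := Module.Finite.exists_fin' (Localization.AtPrime q) M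
  have hK : (LinearMap.ker π).FG := Module.FinitePresentation.fg_ker π hπ
  haveI : Module.Finite (Localization.AtPrime q) (LinearMap.ker π) := Module.Finite.iff_fg.mpr hK
  haveI : Module.Flat A (Fin r → Localization.AtPrime q) := flat_pi_loc q r
  have hu : ∀ x : LinearMap.ker π, (LinearMap.ker π).subtype x ∈
      (IsLocalRing.maximalIdeal A) • (⊤ : Submodule A (Fin r → Localization.AtPrime q)) →
      x ∈ (IsLocalRing.maximalIdeal A) • (⊤ : Submodule A (LinearMap.ker π)) := by
    intro x hx
    exact mem_smul_top_of_rTensor_injective (IsLocalRing.maximalIdeal A)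
      ((LinearMap.ker π).subtype.restrictScalars A) (π.restrictScalars A)
      Subtype.val_injective (LinearMap.exact_subtype_ker_map π) hπ h x hx
  obtain ⟨-, hflat⟩ := FibInj.fibInj_loc q hq (M := LinearMap.ker π)
    (N := Fin r → Localization.AtPrime q) (LinearMap.ker π).subtype hu
  have hrange : LinearMap.range (LinearMap.ker π).subtype = LinearMap.ker π :=
    Submodule.range_subtype _
  let e : ((Fin r → Localization.AtPrime q) ⧸ LinearMap.range (LinearMap.ker π).subtype)
      ≃ₗ[Localization.AtPrime q] M :=
    Submodule.quotEquivOfEq _ _ hrange ≪≫ₗ π.quotKerEquivOfSurjective hπ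
  exact Module.Flat.of_linearEquiv (e.restrictScalars A).symm

end loc

section essfp

variable {A B₀ B : Type u} [CommRing A] [CommRing B₀] [CommRing B] [IsLocalRing A] [IsLocalRing B]
  [Algebra A B₀] [Algebra B₀ B] [Algebra A B] [IsScalarTower A B₀ B]
  [IsLocalHom (algebraMap A B)] [Algebra.FinitePresentation A B₀] (Mon : Submonoid B₀)
  [IsLocalization Mon B]

include Mon in
/-- Local criterion of flatness at the maximal ideal for finitely presented modules over an
essentially finitely presented local algebra. -/
theorem flat_of_rTensor_maximalIdeal_injective {M : Type*} [AddCommGroup M] [Module B M]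
    [Module A M] [IsScalarTower A B M] [Module.FinitePresentation B M]
    (h : Injective ((IsLocalRing.maximalIdeal A).subtype.rTensor M)) : Module.Flat A M := by
  classical
  obtain ⟨n, q, hqp, θ, hq, hθsurj, hθker, hθR⟩ :=
    FibInj.exists_surjective_localization (R := A) (S := B) Mon
  letI algΛS : Algebra (Localization.AtPrime q) B := θ.toAlgebra
  haveI towRΛS : IsScalarTower A (Localization.AtPrime q) B :=
    IsScalarTower.of_algebraMap_eq fun a => (hθR a).symm
  haveI fpS : Module.FinitePresentation (Localization.AtPrime q) B :=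
    Module.finitePresentation_of_surjective (Algebra.linearMap (Localization.AtPrime q) B)
      hθsurj (by
        have : LinearMap.ker (Algebra.linearMap (Localization.AtPrime q) B) = RingHom.ker θ := by
          ext z
          rfl
        rw [this]
        exact hθker)
  letI modM : Module (Localization.AtPrime q) M := Module.compHom M θ
  haveI towM : IsScalarTower (Localization.AtPrime q) B M :=
    IsScalarTower.of_algebraMap_smul fun _ _ => rfl
  haveI towRM : IsScalarTower A (Localization.AtPrime q) M :=
    IsScalarTower.of_algebraMap_smul fun a x => by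
      change θ (algebraMap A (Localization.AtPrime q) a) • x = a • x
      rw [hθR, algebraMap_smul]
  haveI fpM : Module.FinitePresentation (Localization.AtPrime q) M :=
    Module.FinitePresentation.trans (Localization.AtPrime q) M B
  exact flat_of_rTensor_maximalIdeal_injective_loc q hq h

end essfp

section crit

/-- **Critère de platitude par fibres** (finitely presented form): `R → S → S'` with `S → S'` a
local homomorphism of local rings, `S'` essentially of finite presentation over `S`, `M` a finitely
presented `S'`-module flat over `R`, `𝔞` an ideal of `R` with `𝔞S ≠ S` and `M/𝔞M` flat over `S/𝔞S`.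
Then `M` is flat over `S`. -/
theorem flat_of_flat_fibre {R : Type*} {S S₀' S' : Type u} [CommRing R] [CommRing S] [CommRing S₀']
    [CommRing S'] [IsLocalRing S] [IsLocalRing S'] [Algebra R S] [Algebra S S₀'] [Algebra S₀' S']
    [Algebra S S'] [IsScalarTower S S₀' S'] [IsLocalHom (algebraMap S S')]
    [Algebra.FinitePresentation S S₀'] (Mon : Submonoid S₀') [IsLocalization Mon S']
    (𝔞 : Ideal R) (h𝔞 : 𝔞.map (algebraMap R S) ≠ ⊤)
    (T : Type*) [CommRing T] [Algebra S T] (hsurj : Surjective (algebraMap S T))
    (hker : RingHom.ker (algebraMap S T) = 𝔞.map (algebraMap R S))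
    {M : Type*} [AddCommGroup M] [Module S' M] [Module S M] [Module R M] [IsScalarTower S S' M]
    [IsScalarTower R S M] [Module.FinitePresentation S' M] [Module.Flat R M]
    [Module.Flat T (T ⊗[S] M)] : Module.Flat S M := by
  have h1 : Injective ((𝔞.map (algebraMap R S)).subtype.rTensor M) :=
    rTensor_map_subtype_injective_of_flat 𝔞
  have h2 : Injective ((IsLocalRing.maximalIdeal S).subtype.rTensor M) :=
    rTensor_subtype_injective_of_le (𝔞.map (algebraMap R S)) (IsLocalRing.maximalIdeal S)
      (IsLocalRing.le_maximalIdeal h𝔞) T hsurj hker h1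
  exact flat_of_rTensor_maximalIdeal_injective (A := S) (B₀ := S₀') (B := S') Mon h2

end crit

section iff

/-- the fibre ring of `S'` as a base change -/
noncomputable def fibreEquiv {S S' T₁ T₂ : Type*} [CommRing S] [CommRing S'] [CommRing T₁]
    [CommRing T₂] [Algebra S S'] [Algebra S T₁] [Algebra T₁ T₂] [Algebra S' T₂] [Algebra S T₂]
    [IsScalarTower S T₁ T₂] [IsScalarTower S S' T₂]
    (ha : Surjective (algebraMap S T₁)) (hb : Surjective (algebraMap S' T₂))
    (hk : RingHom.ker (algebraMap S' T₂) = (RingHom.ker (algebraMap S T₁)).map (algebraMap S S')) :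
    T₁ ⊗[S] S' ≃ₗ[T₁] T₂ := by
  let I : Ideal S := RingHom.ker (algebraMap S T₁)
  let e₁ : (S ⧸ I) ≃ₗ[S] T₁ := LinearMap.quotKerEquivOfSurjective (Algebra.linearMap S T₁) ha
  let e₂ : T₁ ⊗[S] S' ≃ₗ[S] (S ⧸ I) ⊗[S] S' := TensorProduct.congr e₁.symm (LinearEquiv.refl S S')
  let e₃ : (S ⧸ I) ⊗[S] S' ≃ₗ[S] S' ⧸ (I • ⊤ : Submodule S S') :=
    TensorProduct.quotTensorEquivQuotSMul S' I
  have hk' : (I • ⊤ : Submodule S S') =
      LinearMap.ker ((Algebra.linearMap S' T₂).restrictScalars S) := by
    ext x
    rw [Ideal.smul_top_eq_map, Submodule.restrictScalars_mem, ← hk]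
    rfl
  let e₄ : (S' ⧸ (I • ⊤ : Submodule S S')) ≃ₗ[S] T₂ :=
    Submodule.quotEquivOfEq _ _ hk' ≪≫ₗ
      LinearMap.quotKerEquivOfSurjective ((Algebra.linearMap S' T₂).restrictScalars S) hb
  exact (e₂ ≪≫ₗ e₃ ≪≫ₗ e₄).extendScalarsOfSurjective ha

variable {R S S₀' S' T₁ T₂ : Type u} [CommRing R] [CommRing S] [CommRing S₀'] [CommRing S']
  [CommRing T₁] [CommRing T₂] [IsLocalRing R] [IsLocalRing S] [IsLocalRing S']
  [Algebra R S] [Algebra S S'] [Algebra R S'] [IsScalarTower R S S']
  [IsLocalHom (algebraMap R S)] [IsLocalHom (algebraMap S S')]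
  [Algebra S S₀'] [Algebra S₀' S'] [IsScalarTower S S₀' S'] [Algebra.FinitePresentation S S₀']
  (Mon : Submonoid S₀') [IsLocalization Mon S']

include Mon in
/-- **Critère de platitude par fibres** for the structure sheaf, ring form (Stacks 00R8): for local
homomorphisms `R → S → S'` with `S'` essentially of finite presentation over `S`:
`S'` is `R`-flat and `S/𝔪S → S'/𝔪S'` is flat iff `S` is `R`-flat and `S'` is `S`-flat. -/
theorem crit_iff (a : S →+* T₁) (b : S' →+* T₂) (χ : T₁ →+* T₂) (ha : Surjective a)
    (hb : Surjective b)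
    (hka : RingHom.ker a = (IsLocalRing.maximalIdeal R).map (algebraMap R S))
    (hkb : RingHom.ker b = (IsLocalRing.maximalIdeal R).map (algebraMap R S'))
    (hχ : χ.comp a = b.comp (algebraMap S S')) :
    (Module.Flat R S' ∧ χ.Flat) ↔ (Module.Flat R S ∧ Module.Flat S S') := by
  letI : Algebra S T₁ := a.toAlgebra
  letI : Algebra T₁ T₂ := χ.toAlgebra
  letI : Algebra S' T₂ := b.toAlgebra
  letI : Algebra S T₂ := (χ.comp a).toAlgebra
  haveI : IsScalarTower S T₁ T₂ := IsScalarTower.of_algebraMap_eq fun _ => rfl
  haveI : IsScalarTower S S' T₂ := IsScalarTower.of_algebraMap_eq fun x => by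
    change (χ.comp a) x = b (algebraMap S S' x)
    rw [hχ]
    rfl
  have hk : RingHom.ker (algebraMap S' T₂) =
      (RingHom.ker (algebraMap S T₁)).map (algebraMap S S') := by
    change RingHom.ker b = (RingHom.ker a).map (algebraMap S S')
    rw [hka, hkb, Ideal.map_map, ← IsScalarTower.algebraMap_eq]
  let e : T₁ ⊗[S] S' ≃ₗ[T₁] T₂ := fibreEquiv ha hb hk
  have hne : (IsLocalRing.maximalIdeal R).map (algebraMap R S) ≠ ⊤ := by
    have hle : (IsLocalRing.maximalIdeal R).map (algebraMap R S) ≤ IsLocalRing.maximalIdeal S :=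
      ((IsLocalRing.local_hom_TFAE (algebraMap R S)).out 0 2).mp ‹_›
    intro h
    rw [h] at hle
    exact (Ideal.IsPrime.ne_top inferInstance) (top_le_iff.mp hle)
  constructor
  · rintro ⟨h1, h2⟩
    haveI : Module.Flat T₁ T₂ := h2
    haveI : Module.Flat T₁ (T₁ ⊗[S] S') := Module.Flat.of_linearEquiv e
    have hSS' : Module.Flat S S' :=
      flat_of_flat_fibre (R := R) (S := S) (S₀' := S₀') (S' := S') Mon (IsLocalRing.maximalIdeal R)
        hne T₁ ha hka (M := S')
    haveI := hSS'
    haveI := faithfullyFlat_of_flat_of_finite_of_isLocalHom S S' S'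
    exact ⟨flat_of_flat_of_faithfullyFlat_module R S S', hSS'⟩
  · rintro ⟨h1, h2⟩
    refine ⟨Module.Flat.trans R S S', ?_⟩
    haveI : Module.Flat T₁ (T₁ ⊗[S] S') := inferInstance
    have : Module.Flat T₁ T₂ := Module.Flat.of_linearEquiv e.symm
    exact this

end iff

end Groth.Agent.H1.CritFib
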