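import Mathlib
import Groth.Agent.Lib.Helper1.CritFib1

/-!
# Essentially finitely presented algebras: transitivity; the critère for abstract data
-/

set_option autoImplicit false

universe u

open TensorProduct Function

namespace Groth.Agent.H1.CritFib

section trans

variable {R S₀ S S'₀ S' : Type u} [CommRing R] [CommRing S₀] [CommRing S] [CommRing S'₀]
  [CommRing S'] [Algebra R S₀] [Algebra S₀ S] [Algebra R S] [IsScalarTower R S₀ S]
  [Algebra R S'₀] [Algebra S'₀ S'] [Algebra R S'] [IsScalarTower R S'₀ S']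
  [Algebra S S'] [IsScalarTower R S S']

/-- If `S` is a localization of a finite type `R`-algebra and `S'` is essentially of finite
presentation over `R`, then `S'` is essentially of finite presentation over `S`. -/
theorem exists_essFP_of_essFP [Algebra.FiniteType R S₀] (M : Submonoid S₀) [IsLocalization M S]
    [Algebra.FinitePresentation R S'₀] (M' : Submonoid S'₀) [IsLocalization M' S'] :
    ∃ (T : Type u) (_ : CommRing T) (_ : Algebra S T) (_ : Algebra T S')
      (_ : IsScalarTower S T S') (Mon : Submonoid T),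
      Algebra.FinitePresentation S T ∧ IsLocalization Mon S' := by
  classical
  obtain ⟨s, hs⟩ := (Algebra.FiniteType.out : (⊤ : Subalgebra R S₀).FG)
  -- the big tensor product and its map to `S'`
  let Φ : S ⊗[R] S' →ₐ[S] S' :=
    Algebra.TensorProduct.lift (Algebra.ofId S S') (AlgHom.id R S') (fun _ _ => Commute.all _ _)
  let j : S ⊗[R] S'₀ →ₐ[S] S ⊗[R] S' :=
    Algebra.TensorProduct.map (AlgHom.id S S) (IsScalarTower.toAlgHom R S'₀ S')
  letI algj : Algebra (S ⊗[R] S'₀) (S ⊗[R] S') := j.toRingHom.toAlgebra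
  haveI towj : IsScalarTower S (S ⊗[R] S'₀) (S ⊗[R] S') :=
    IsScalarTower.of_algebraMap_eq fun x => (j.commutes x).symm
  have hΦ : ∀ (a : S) (b : S'), Φ (a ⊗ₜ b) = algebraMap S S' a * b := fun a b => by
    simp [Φ]
  have hj : ∀ (a : S) (b : S'₀), j (a ⊗ₜ b) = a ⊗ₜ algebraMap S'₀ S' b := fun a b => by
    simp [j]
  -- denominators
  have hden : ∀ x : S₀, ∃ yd : S'₀ × M',
      algebraMap S S' (algebraMap S₀ S x) * algebraMap S'₀ S' yd.2 = algebraMap S'₀ S' yd.1 :=
    fun x => IsLocalization.surj M' _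
  choose yd hyd using hden
  let k : S₀ → S ⊗[R] S'₀ := fun x =>
    (algebraMap S₀ S x) ⊗ₜ[R] ((yd x).2 : S'₀) - 1 ⊗ₜ[R] (yd x).1
  let K : Ideal (S ⊗[R] S'₀) := Ideal.span (k '' (s : Set S₀))
  have hKfg : K.FG := ⟨s.image k, by simp [K]⟩
  haveI : Algebra.FinitePresentation S (S ⊗[R] S'₀ ⧸ K) :=
    Algebra.FinitePresentation.quotient hKfg
  have hΦk : ∀ x, Φ (j (k x)) = 0 := by
    intro x
    simp only [k, map_sub, hj, hΦ, map_one, one_mul]
    rw [hyd x, sub_self]
  have hKΦ : ∀ a ∈ K, (Φ.comp j) a = 0 := by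
    intro a ha
    refine Submodule.span_induction ?_ ?_ ?_ ?_ ha
    · rintro _ ⟨x, -, rfl⟩
      exact hΦk x
    · exact map_zero _
    · intro a b _ _ ha hb
      rw [map_add, ha, hb, add_zero]
    · intro c a _ ha
      rw [smul_eq_mul, map_mul, ha, mul_zero]
  let Φ' : (S ⊗[R] S'₀ ⧸ K) →ₐ[S] S' := Ideal.Quotient.liftₐ K (Φ.comp j) hKΦ
  letI algT : Algebra (S ⊗[R] S'₀ ⧸ K) S' := Φ'.toRingHom.toAlgebra
  haveI towT : IsScalarTower S (S ⊗[R] S'₀ ⧸ K) S' :=
    IsScalarTower.of_algebraMap_eq fun x => (Φ'.commutes x).symm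
  -- localization of the tensor product
  haveI locT : IsLocalization
      (M'.map (Algebra.TensorProduct.includeRight (R := R) (A := S) (B := S'₀))) (S ⊗[R] S') :=
    IsLocalization.tensorProduct_tensorProduct_right R S M' S'
      (by ext; simp [RingHom.algebraMap_toAlgebra, j])
  have hΦsurj : Surjective Φ := fun b => ⟨1 ⊗ₜ b, by rw [hΦ, map_one, one_mul]⟩
  -- the extended ideal and the quotient
  let KT : Ideal (S ⊗[R] S') := K.map (algebraMap (S ⊗[R] S'₀) (S ⊗[R] S'))
  let α : S →ₐ[R] (S ⊗[R] S' ⧸ KT) :=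
    (Ideal.Quotient.mkₐ R KT).comp Algebra.TensorProduct.includeLeft
  let β : S →ₐ[R] (S ⊗[R] S' ⧸ KT) :=
    ((Ideal.Quotient.mkₐ R KT).comp Algebra.TensorProduct.includeRight).comp
      (IsScalarTower.toAlgHom R S S')
  have hαβ₀ : α.comp (IsScalarTower.toAlgHom R S₀ S) = β.comp (IsScalarTower.toAlgHom R S₀ S) := by
    refine AlgHom.ext_of_adjoin_eq_top hs ?_
    intro x hx
    change Ideal.Quotient.mk KT ((algebraMap S₀ S x) ⊗ₜ[R] (1 : S')) =
      Ideal.Quotient.mk KT ((1 : S) ⊗ₜ[R] (algebraMap S S' (algebraMap S₀ S x)))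
    rw [Ideal.Quotient.eq]
    have h1 : j (k x) ∈ KT := Ideal.mem_map_of_mem _ (Ideal.subset_span ⟨x, hx, rfl⟩)
    have h2 : j (k x) = ((1 : S) ⊗ₜ[R] algebraMap S'₀ S' ((yd x).2 : S'₀)) *
        ((algebraMap S₀ S x) ⊗ₜ[R] (1 : S') -
          (1 : S) ⊗ₜ[R] (algebraMap S S' (algebraMap S₀ S x))) := by
      simp only [k, map_sub, hj, mul_sub, Algebra.TensorProduct.tmul_mul_tmul, one_mul, mul_one]
      rw [← hyd x, mul_comm]
    have hu : IsUnit ((1 : S) ⊗ₜ[R] algebraMap S'₀ S' ((yd x).2 : S'₀)) :=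
      (IsLocalization.map_units S' (yd x).2).map
        (Algebra.TensorProduct.includeRight (R := R) (A := S) (B := S'))
    rw [h2] at h1
    exact (Ideal.unit_mul_mem_iff_mem KT hu).mp h1
  have hαβ : α = β := by
    have := IsLocalization.ringHom_ext M (j := α.toRingHom) (k := β.toRingHom)
      (by
        ext x
        exact DFunLike.congr_fun hαβ₀ x)
    exact AlgHom.coe_ringHom_injective this
  let γ : S ⊗[R] S' →ₐ[R] (S ⊗[R] S' ⧸ KT) :=
    ((Ideal.Quotient.mkₐ R KT).comp Algebra.TensorProduct.includeRight).comp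
      (Φ.restrictScalars R)
  have hγ : Ideal.Quotient.mkₐ R KT = γ := by
    refine Algebra.TensorProduct.ext ?_ ?_
    · ext a
      change α a = Ideal.Quotient.mk KT ((1 : S) ⊗ₜ[R] Φ (a ⊗ₜ 1))
      rw [hαβ, hΦ, mul_one]
      rfl
    · ext b
      change Ideal.Quotient.mk KT ((1 : S) ⊗ₜ[R] b) = Ideal.Quotient.mk KT ((1 : S) ⊗ₜ[R] Φ (1 ⊗ₜ b))
      rw [hΦ, map_one, one_mul]
  have hker : RingHom.ker Φ.toRingHom ≤
      (RingHom.ker (Ideal.Quotient.mk K)).map (algebraMap (S ⊗[R] S'₀) (S ⊗[R] S')) := by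
    rw [Ideal.mk_ker]
    intro t ht
    have h1 : Φ t = 0 := ht
    have h2 : Ideal.Quotient.mk KT t = γ t := DFunLike.congr_fun hγ t
    have h3 : γ t = 0 := by
      change Ideal.Quotient.mk KT ((1 : S) ⊗ₜ[R] Φ t) = 0
      rw [h1, tmul_zero, map_zero]
    rw [h3, Ideal.Quotient.eq_zero_iff_mem] at h2
    exact h2
  refine ⟨S ⊗[R] S'₀ ⧸ K, inferInstance, inferInstance, algT, towT,
    (M'.map (Algebra.TensorProduct.includeRight (R := R) (A := S) (B := S'₀))).map
      (Ideal.Quotient.mk K), inferInstance, ?_⟩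
  refine IsLocalization.of_surjective
    (M'.map (Algebra.TensorProduct.includeRight (R := R) (A := S) (B := S'₀))) (S ⊗[R] S')
    (Ideal.Quotient.mk K) Ideal.Quotient.mk_surjective Φ.toRingHom hΦsurj ?_ hker
  exact RingHom.ext fun a => rfl

end trans

/-- the case `S' = S` of the critère: a finitely presented module over a local ring `B`, flat over
`A` and with `M/𝔞M` flat over `B/𝔞B`, is flat over `B`. -/
theorem flat_of_flat_fibre_self {A : Type*} {B : Type u} [CommRing A] [CommRing B] [IsLocalRing B]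
    [Algebra A B] (𝔞 : Ideal A) (h𝔞 : 𝔞.map (algebraMap A B) ≠ ⊤)
    {M : Type*} [AddCommGroup M] [Module B M] [Module A M] [IsScalarTower A B M]
    [Module.FinitePresentation B M] [Module.Flat A M]
    [Module.Flat (B ⧸ 𝔞.map (algebraMap A B)) ((B ⧸ 𝔞.map (algebraMap A B)) ⊗[B] M)] :
    Module.Flat B M := by
  haveI : IsLocalHom (algebraMap B B) := ⟨fun a ha => ha⟩
  exact flat_of_flat_fibre (R := A) (S := B) (S₀' := B) (S' := B) (IsUnit.submonoid B) 𝔞 h𝔞
    (B ⧸ 𝔞.map (algebraMap A B)) Ideal.Quotient.mk_surjective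
    (by rw [Ideal.Quotient.algebraMap_eq, Ideal.mk_ker])


end Groth.Agent.H1.CritFib
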