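import Mathlib
import Groth.Agent.Lib.Helper5.Catenary

set_option autoImplicit false
universe u

namespace Groth.Agent.Lib.Helper1.Cat

open Groth.Agent.H5

theorem of_lowerSet_cover {α : Type*} [PartialOrder α]
    (h : ∀ p : α, ∃ S : Set α, p ∈ S ∧ IsLowerSet S ∧ OrderCatenary S) : OrderCatenary α := by
  have hmem : ∀ (S : Set α), IsLowerSet S → ∀ s : LTSeries α, s.last ∈ S → ∀ i, s i ∈ S := by
    intro S hS s hs i
    exact hS (s.monotone (Fin.le_last i)) hs
  refine ⟨?_, ?_⟩
  · intro p q hpq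
    obtain ⟨S, hqS, hS, hcat⟩ := h q
    obtain ⟨n, hn⟩ := hcat.1 ⟨p, hS hpq hqS⟩ ⟨q, hqS⟩ hpq
    refine ⟨n, fun s hs hl => ?_⟩
    have hsS : ∀ i, s i ∈ S := hmem S hS s (by rw [hl]; exact hqS)
    exact hn (liftSeries S s hsS) (Subtype.ext hs) (Subtype.ext hl)
  · intro s t hh hl hs ht
    obtain ⟨S, hpS, hS, hcat⟩ := h s.last
    have hsS : ∀ i, s i ∈ S := hmem S hS s hpS
    have htS : ∀ i, t i ∈ S := hmem S hS t (by rw [← hl]; exact hpS)
    have hrange : (Set.range (OrderEmbedding.subtype (· ∈ S))).OrdConnected := by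
      have : Set.range (OrderEmbedding.subtype (· ∈ S)) = S := by
        ext x; simp
      rw [this]
      exact hS.ordConnected
    refine hcat.2 (liftSeries S s hsS) (liftSeries S t htS) (Subtype.ext hh) (Subtype.ext hl) ?_ ?_
    · intro i
      exact (hrange.apply_covBy_apply_iff (OrderEmbedding.subtype (· ∈ S))).mp (hs i)
    · intro i
      exact (hrange.apply_covBy_apply_iff (OrderEmbedding.subtype (· ∈ S))).mp (ht i)

/-- catenary if covered by spectra of catenary localizations. -/
theorem isCatenary_of_localization_cover (R : Type u) [CommRing R]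
    (h : ∀ p : PrimeSpectrum R, ∃ (M : Submonoid R) (B : Type u) (_ : CommRing B) (_ : Algebra R B)
      (_ : IsLocalization M B), Disjoint (M : Set R) p.asIdeal ∧ CAlg.IsCatenary B) :
    CAlg.IsCatenary R := by
  rw [isCatenary_iff_orderCatenary]
  apply of_lowerSet_cover
  intro p
  obtain ⟨M, B, _, _, _, hd, hB⟩ := h p
  refine ⟨{q : PrimeSpectrum R | Disjoint (M : Set R) q.asIdeal}, hd, ?_, ?_⟩
  · intro a b hab ha
    exact Set.disjoint_of_subset_right hab ha
  · rw [isCatenary_iff_orderCatenary] at hB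
    exact OrderCatenary.of_orderIso (IsLocalization.primeSpectrumOrderIso M B).symm hB

end Groth.Agent.Lib.Helper1.Cat
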