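import Mathlib

set_option autoImplicit false

universe u

open Function

namespace Groth.Agent.H1.ComplFlat

section pi

variable {A : Type u} [CommRing A]

theorem mem_smul_top_pi_iff {l : ℕ} (J : Ideal A) (w : Fin l → A) :
    w ∈ J • (⊤ : Submodule A (Fin l → A)) ↔ ∀ i, w i ∈ J := by
  constructor
  · intro hw i
    have h1 : (LinearMap.proj i : (Fin l → A) →ₗ[A] A) w ∈
        Submodule.map (LinearMap.proj i : (Fin l → A) →ₗ[A] A) (J • ⊤) := ⟨w, hw, rfl⟩
    rw [Submodule.map_smul''] at h1
    have h2 : J • (Submodule.map (LinearMap.proj i : (Fin l → A) →ₗ[A] A) ⊤) ≤ J := by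
      rw [Submodule.smul_le]
      intro r hr n _
      exact J.mul_mem_right _ hr
    exact h2 h1
  · intro hw
    have : w = ∑ i, w i • (Pi.single i (1 : A) : Fin l → A) := by
      ext j
      simp [Finset.sum_apply, Pi.single_apply]
    rw [this]
    exact Submodule.sum_mem _ fun i _ => Submodule.smul_mem_smul (hw i) Submodule.mem_top

theorem linearCombination_apply' {k l : ℕ} (v : Fin k → Fin l → A) (c : Fin k → A) (i : Fin l) :
    Fintype.linearCombination A v c i = ∑ j, c j * v j i := by
  rw [Fintype.linearCombination_apply, Finset.sum_apply]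
  rfl

end pi

section approx

variable {A : Type u} [CommRing A] (I : Ideal A) {N : Type u} [AddCommGroup N] [Module A N]

theorem exists_approx (m n : ℕ) (hmn : n ≤ m)
    [Module.Flat (A ⧸ I ^ m) (N ⧸ (I ^ m • ⊤ : Submodule A N))]
    {k l : ℕ} (v : Fin k → Fin l → A)
    (hc : I ^ m • ⊤ ⊓ LinearMap.range (Fintype.linearCombination A v) ≤
      I ^ n • LinearMap.range (Fintype.linearCombination A v))
    (z : Fin k → N) (hz : ∀ i, ∑ j, v j i • z j ∈ (I ^ m • ⊤ : Submodule A N)) :
    ∃ (k₁ : ℕ) (b : Fin k₁ → Fin k → A) (y : Fin k₁ → N),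
      (∀ t, Fintype.linearCombination A v (b t) = 0) ∧
      ∀ j, z j - ∑ t, b t j • y t ∈ (I ^ n • ⊤ : Submodule A N) := by
  classical
  set Am := A ⧸ I ^ m with hAm
  set Nm := N ⧸ (I ^ m • ⊤ : Submodule A N) with hNm
  let wv : Fin l → Fin k → Am := fun i j => Ideal.Quotient.mk (I ^ m) (v j i)
  let zbar : Fin k → Nm := fun j => Submodule.Quotient.mk (z j)
  let f : (Fin l → Am) →ₗ[Am] (Fin k → Am) := Fintype.linearCombination Am wv
  let x : (Fin k → Am) →ₗ[Am] Nm := Fintype.linearCombination Am zbar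
  have hxw : ∀ i, x (wv i) = 0 := by
    intro i
    change Fintype.linearCombination Am zbar (wv i) = 0
    rw [Fintype.linearCombination_apply]
    have : ∀ j, wv i j • zbar j = Submodule.Quotient.mk (p := (I ^ m • ⊤ : Submodule A N))
        (v j i • z j) := fun j => rfl
    simp_rw [this]
    have h2 : ∑ j, Submodule.Quotient.mk (p := (I ^ m • ⊤ : Submodule A N)) (v j i • z j) =
        Submodule.mkQ (I ^ m • ⊤ : Submodule A N) (∑ j, v j i • z j) := by
      rw [map_sum]; rfl
    rw [h2, Submodule.mkQ_apply, Submodule.Quotient.mk_eq_zero]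
    exact hz i
  have h : x ∘ₗ f = 0 := by
    apply LinearMap.ext
    intro d
    change x (Fintype.linearCombination Am wv d) = 0
    have h0 : Fintype.linearCombination Am wv d = ∑ i, d i • wv i :=
      Fintype.linearCombination_apply Am wv d
    rw [h0, map_sum]
    refine Finset.sum_eq_zero fun i _ => ?_
    rw [map_smul, hxw, smul_zero]
  obtain ⟨k₁, a, y, hxy, haf⟩ := Module.Flat.exists_factorization_of_comp_eq_zero_of_free h
  let bbar : Fin k₁ → Fin k → Am := fun t j => a (Pi.single j 1) t
  let ybar : Fin k₁ → Nm := fun t => y (Finsupp.single t 1)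
  have hb0 : ∀ t j, ∃ r : A, Ideal.Quotient.mk (I ^ m) r = bbar t j := fun t j =>
    Ideal.Quotient.mk_surjective _
  choose b0 hb0 using hb0
  have hy0 : ∀ t, ∃ n' : N, (Submodule.Quotient.mk n' : Nm) = ybar t := fun t =>
    Submodule.Quotient.mk_surjective _ _
  choose y0 hy0 using hy0
  -- Fact 1
  have fact1 : ∀ j, zbar j = ∑ t, bbar t j • ybar t := by
    intro j
    have h1 : x (Pi.single j 1) = zbar j := by
      change Fintype.linearCombination Am zbar (Pi.single j 1) = zbar j
      rw [Fintype.linearCombination_apply]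
      simp [Pi.single_apply]
    have h2 : a (Pi.single j 1) = ∑ t, bbar t j • Finsupp.single t (1 : Am) := by
      ext t'
      simp [bbar]
    rw [← h1, hxy, LinearMap.comp_apply, h2, map_sum]
    refine Finset.sum_congr rfl fun t _ => ?_
    rw [map_smul]
  -- Fact 2
  have fact2 : ∀ t i, ∑ j, bbar t j * wv i j = 0 := by
    intro t i
    have h1 : f (Pi.single i 1) = wv i := by
      change Fintype.linearCombination Am wv (Pi.single i 1) = wv i
      rw [Fintype.linearCombination_apply]
      simp [Pi.single_apply]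
    have h2 : wv i = ∑ j, wv i j • (Pi.single j (1 : Am) : Fin k → Am) := by
      ext j'
      simp [Finset.sum_apply, Pi.single_apply]
    have h3 : a (wv i) = 0 := by
      rw [← h1]
      exact LinearMap.congr_fun haf _
    rw [h2, map_sum] at h3
    have h4 := DFunLike.congr_fun h3 t
    simp only [map_smul, Finsupp.coe_finsetSum, Finsupp.coe_smul, Finset.sum_apply,
      Pi.smul_apply, smul_eq_mul, Finsupp.coe_zero, Pi.zero_apply] at h4
    rw [← h4]
    exact Finset.sum_congr rfl fun j _ => mul_comm _ _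
  have hW : ∀ t, Fintype.linearCombination A v (b0 t) ∈
      I ^ m • (⊤ : Submodule A (Fin l → A)) := by
    intro t
    rw [mem_smul_top_pi_iff]
    intro i
    rw [linearCombination_apply', ← Ideal.Quotient.eq_zero_iff_mem, map_sum]
    rw [← fact2 t i]
    refine Finset.sum_congr rfl fun j _ => ?_
    rw [map_mul, hb0]
  have he : ∀ t, ∃ e : Fin k → A, e ∈ I ^ n • (⊤ : Submodule A (Fin k → A)) ∧
      Fintype.linearCombination A v e = Fintype.linearCombination A v (b0 t) := by
    intro t
    have h1 := hc ⟨hW t, ⟨b0 t, rfl⟩⟩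
    rw [← Submodule.map_top, ← Submodule.map_smul''] at h1
    obtain ⟨e, he, hee⟩ := h1
    exact ⟨e, he, hee⟩
  choose e he1 he2 using he
  refine ⟨k₁, fun t => b0 t - e t, y0, ?_, ?_⟩
  · intro t
    rw [map_sub, he2, sub_self]
  · intro j
    have h1 : z j - ∑ t, (b0 t - e t) j • y0 t =
        (z j - ∑ t, b0 t j • y0 t) + ∑ t, e t j • y0 t := by
      simp only [Pi.sub_apply, sub_smul, Finset.sum_sub_distrib]
      abel
    rw [h1]
    refine Submodule.add_mem _ ?_ ?_
    · have hle : (I ^ m • ⊤ : Submodule A N) ≤ I ^ n • ⊤ :=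
        Submodule.smul_mono_left (Ideal.pow_le_pow_right hmn)
      apply hle
      rw [← Submodule.Quotient.mk_eq_zero, Submodule.Quotient.mk_sub]
      have h3 : (Submodule.Quotient.mk (∑ t, b0 t j • y0 t) : Nm) = ∑ t, bbar t j • ybar t := by
        change Submodule.mkQ (I ^ m • ⊤ : Submodule A N) (∑ t, b0 t j • y0 t) = _
        rw [map_sum]
        refine Finset.sum_congr rfl fun t _ => ?_
        rw [← hb0, ← hy0]
        rfl
      rw [h3, sub_eq_zero]
      exact fact1 j
    · refine Submodule.sum_mem _ fun t _ => ?_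
      exact Submodule.smul_mem_smul ((mem_smul_top_pi_iff _ _).mp (he1 t) j) Submodule.mem_top

end approx


section main

variable {A : Type u} [CommRing A] [IsNoetherianRing A] (I : Ideal A)
  {N : Type u} [AddCommGroup N] [Module A N]

theorem exists_AR {l : ℕ} (K : Submodule A (Fin l → A)) :
    ∃ c : ℕ, ∀ n : ℕ, I ^ (n + c) • ⊤ ⊓ K ≤ I ^ n • K := by
  obtain ⟨c, hc⟩ := Ideal.exists_pow_inf_eq_pow_smul I K
  refine ⟨c, fun n => ?_⟩
  rw [hc (n + c) (by omega), Nat.add_sub_cancel]
  exact smul_mono_right _ inf_le_right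

/-- **Stacks 0912-type criterion**: over a Noetherian ring, an `I`-adically complete module all of
whose reductions `N/IⁿN` are flat over `A/Iⁿ` is flat. -/
theorem flat_of_flat_quotients [IsHausdorff I N] [IsPrecomplete I N]
    (hflat : ∀ m : ℕ, Module.Flat (A ⧸ I ^ m) (N ⧸ (I ^ m • ⊤ : Submodule A N))) :
    Module.Flat A N := by
  classical
  apply Module.Flat.of_forall_isTrivialRelation
  intro l f x hfx
  -- the map `j : A^l → A`
  let vj : Fin l → Fin 1 → A := fun i _ => f i
  set j : (Fin l → A) →ₗ[A] (Fin 1 → A) := Fintype.linearCombination A vj with hj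
  have hjapp : ∀ c : Fin l → A, ∀ i : Fin 1, j c i = ∑ i', c i' * f i' := fun c i =>
    linearCombination_apply' vj c i
  -- generators of its kernel
  obtain ⟨k, w, hw⟩ := Submodule.fg_iff_exists_fin_generating_family.mp
    (IsNoetherian.noetherian (LinearMap.ker j))
  set V : (Fin k → A) →ₗ[A] (Fin l → A) := Fintype.linearCombination A w with hV
  have hVrange : LinearMap.range V = LinearMap.ker j := by
    rw [hV, Fintype.range_linearCombination, hw]
  have hwker : ∀ j', ∑ i, f i * w j' i = 0 := by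
    intro j'
    have h1 : w j' ∈ LinearMap.ker j := by
      rw [← hw]
      exact Submodule.subset_span ⟨j', rfl⟩
    have h2 := congrFun (LinearMap.mem_ker.mp h1) 0
    rw [hjapp, Pi.zero_apply] at h2
    rw [← h2]
    exact Finset.sum_congr rfl fun i _ => mul_comm _ _
  obtain ⟨c₁, hc₁⟩ := exists_AR I (LinearMap.range j)
  obtain ⟨c₂, hc₂⟩ := exists_AR I (LinearMap.range V)
  -- Step A
  have stepA : ∀ n : ℕ, ∃ ζ : Fin k → N, ∀ i, x i - ∑ j', w j' i • ζ j' ∈
      (I ^ n • ⊤ : Submodule A N) := by
    intro n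
    haveI := hflat (n + c₁)
    obtain ⟨k₁, b, y, hb, hby⟩ := exists_approx I (n + c₁) n (Nat.le_add_right _ _) vj (hc₁ n) x
      (fun _ => by
        change ∑ i', f i' • x i' ∈ _
        rw [hfx]
        exact Submodule.zero_mem _)
    have hbV : ∀ t, ∃ c : Fin k → A, V c = b t := by
      intro t
      have : b t ∈ LinearMap.range V := by
        rw [hVrange]
        exact hb t
      exact this
    choose cc hcc using hbV
    refine ⟨fun j' => ∑ t, cc t j' • y t, fun i => ?_⟩
    have h1 : ∑ j', w j' i • ∑ t, cc t j' • y t = ∑ t, b t i • y t := by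
      simp_rw [Finset.smul_sum, smul_smul]
      rw [Finset.sum_comm]
      refine Finset.sum_congr rfl fun t _ => ?_
      rw [← Finset.sum_smul]
      congr 1
      rw [← hcc t, hV, linearCombination_apply']
      exact Finset.sum_congr rfl fun j' _ => mul_comm _ _
    rw [h1]
    exact hby i
  -- Step B
  have stepB : ∀ (n : ℕ) (ζ : Fin k → N),
      (∀ i, ∑ j', w j' i • ζ j' ∈ (I ^ (n + c₂) • ⊤ : Submodule A N)) →
      ∃ ζ' : Fin k → N, (∀ i, ∑ j', w j' i • ζ' j' = 0) ∧
        ∀ j', ζ j' - ζ' j' ∈ (I ^ n • ⊤ : Submodule A N) := by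
    intro n ζ hζ
    haveI := hflat (n + c₂)
    obtain ⟨k₁, b, y, hb, hby⟩ := exists_approx I (n + c₂) n (Nat.le_add_right _ _) w (hc₂ n) ζ hζ
    refine ⟨fun j' => ∑ t, b t j' • y t, fun i => ?_, hby⟩
    simp_rw [Finset.smul_sum, smul_smul]
    rw [Finset.sum_comm]
    refine Finset.sum_eq_zero fun t _ => ?_
    rw [← Finset.sum_smul]
    have h2 := congrFun (hb t) i
    rw [linearCombination_apply', Pi.zero_apply] at h2
    have h3 : ∑ j', w j' i * b t j' = 0 := by
      rw [← h2]
      exact Finset.sum_congr rfl fun j' _ => mul_comm _ _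
    rw [h3, zero_smul]
  choose ζA hζA using stepA
  -- the recursion
  let P : ℕ → (Fin k → N) → Prop := fun n ξ =>
    ∀ i, x i - ∑ j', w j' i • ξ j' ∈ (I ^ (n + c₂) • ⊤ : Submodule A N)
  have step : ∀ (n : ℕ) (ξ : {ξ : Fin k → N // P n ξ}),
      ∃ ξ' : {ξ : Fin k → N // P (n + 1) ξ},
        ∀ j', ξ'.1 j' - ξ.1 j' ∈ (I ^ n • ⊤ : Submodule A N) := by
    rintro n ⟨ξ, hξ⟩
    have h1 : ∀ i, ∑ j', w j' i • (ζA (n + 1 + c₂) j' - ξ j') ∈
        (I ^ (n + c₂) • ⊤ : Submodule A N) := by
      intro i
      have e : ∑ j', w j' i • (ζA (n + 1 + c₂) j' - ξ j') =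
          (x i - ∑ j', w j' i • ξ j') - (x i - ∑ j', w j' i • ζA (n + 1 + c₂) j') := by
        simp only [smul_sub, Finset.sum_sub_distrib]
        abel
      rw [e]
      refine Submodule.sub_mem _ (hξ i) ?_
      have hle : (I ^ (n + 1 + c₂) • ⊤ : Submodule A N) ≤ I ^ (n + c₂) • ⊤ :=
        Submodule.smul_mono_left (Ideal.pow_le_pow_right (by omega))
      exact hle (hζA (n + 1 + c₂) i)
    obtain ⟨ζ', hζ'0, hζ'⟩ := stepB n _ h1
    refine ⟨⟨fun j' => ζA (n + 1 + c₂) j' - ζ' j', ?_⟩, ?_⟩
    · intro i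
      have e : ∑ j', w j' i • (ζA (n + 1 + c₂) j' - ζ' j') =
          ∑ j', w j' i • ζA (n + 1 + c₂) j' := by
        simp only [smul_sub, Finset.sum_sub_distrib, hζ'0 i, sub_zero]
      rw [e]
      exact hζA (n + 1 + c₂) i
    · intro j'
      have e : ζA (n + 1 + c₂) j' - ζ' j' - ξ j' = ζA (n + 1 + c₂) j' - ξ j' - ζ' j' := by abel
      change ζA (n + 1 + c₂) j' - ζ' j' - ξ j' ∈ _
      rw [e]
      exact hζ' j'
  choose nxt hnxt using step
  let seq : ∀ n : ℕ, {ξ : Fin k → N // P n ξ} := fun n =>
    Nat.rec (motive := fun n => {ξ : Fin k → N // P n ξ})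
      ⟨ζA (0 + c₂), fun i => hζA (0 + c₂) i⟩ (fun n ih => nxt n ih) n
  have hseq : ∀ n j', (seq (n + 1)).1 j' - (seq n).1 j' ∈ (I ^ n • ⊤ : Submodule A N) :=
    fun n j' => hnxt n (seq n) j'
  -- Cauchy
  have hcauchy : ∀ j' (m n : ℕ), m ≤ n →
      (seq n).1 j' - (seq m).1 j' ∈ (I ^ m • ⊤ : Submodule A N) := by
    intro j' m n hmn
    induction n, hmn using Nat.le_induction with
    | base => rw [sub_self]; exact Submodule.zero_mem _
    | succ n hmn ih =>
      have e : (seq (n + 1)).1 j' - (seq m).1 j' =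
          ((seq (n + 1)).1 j' - (seq n).1 j') + ((seq n).1 j' - (seq m).1 j') := by abel
      rw [e]
      refine Submodule.add_mem _ ?_ ih
      have hle : (I ^ n • ⊤ : Submodule A N) ≤ I ^ m • ⊤ :=
        Submodule.smul_mono_left (Ideal.pow_le_pow_right hmn)
      exact hle (hseq n j')
  have hlim : ∀ j', ∃ L : N, ∀ n, (seq n).1 j' ≡ L [SMOD (I ^ n • ⊤ : Submodule A N)] := by
    intro j'
    refine IsPrecomplete.prec ‹IsPrecomplete I N› (f := fun n => (seq n).1 j') ?_
    intro m n hmn
    rw [SModEq.sub_mem]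
    have := hcauchy j' m n hmn
    rw [← Submodule.neg_mem_iff, neg_sub] at this
    exact this
  choose L hL using hlim
  have hfinal : ∀ i, x i = ∑ j', w j' i • L j' := by
    intro i
    rw [← sub_eq_zero]
    apply IsHausdorff.haus ‹IsHausdorff I N›
    intro n
    rw [SModEq.sub_mem, sub_zero]
    have e : x i - ∑ j', w j' i • L j' =
        (x i - ∑ j', w j' i • (seq n).1 j') + ∑ j', w j' i • ((seq n).1 j' - L j') := by
      simp only [smul_sub, Finset.sum_sub_distrib]
      abel
    rw [e]
    refine Submodule.add_mem _ ?_ ?_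
    · have hle : (I ^ (n + c₂) • ⊤ : Submodule A N) ≤ I ^ n • ⊤ :=
        Submodule.smul_mono_left (Ideal.pow_le_pow_right (by omega))
      exact hle ((seq n).2 i)
    · refine Submodule.sum_mem _ fun j' _ => Submodule.smul_mem _ _ ?_
      rw [← SModEq.sub_mem]
      exact hL j' n
  exact ⟨k, fun i j' => w j' i, L, hfinal, hwker⟩

end main


section completion

open TensorProduct

variable {R : Type u} [CommRing R] (I : Ideal R) (M : Type u) [AddCommGroup M] [Module R M]

/-- the reduction of a flat module modulo an ideal is flat over the quotient ring -/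
theorem flat_quotient_of_flat (J : Ideal R) [Module.Flat R M] :
    Module.Flat (R ⧸ J) (M ⧸ (J • ⊤ : Submodule R M)) := by
  have e := TensorProduct.quotTensorEquivQuotSMul M J
  haveI : Module.Flat (R ⧸ J) ((R ⧸ J) ⊗[R] M) := inferInstance
  exact Module.Flat.of_linearEquiv
    (e.symm.extendScalarsOfSurjective (S := R ⧸ J) Ideal.Quotient.mk_surjective)

/-- the reductions of the completion are the reductions of the module -/
noncomputable def quotEquiv (hI : I.FG) (m : ℕ) :
    (AdicCompletion I M ⧸ (I ^ m • ⊤ : Submodule R (AdicCompletion I M))) ≃ₗ[R]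
      M ⧸ (I ^ m • ⊤ : Submodule R M) :=
  (Submodule.quotEquivOfEq _ _ (AdicCompletion.pow_smul_top_eq_ker_eval hI)).trans
    ((AdicCompletion.eval I M m).quotKerEquivOfSurjective (AdicCompletion.eval_surjective I M m))

/-- **Completions of modules with flat reductions are flat** (Noetherian base). -/
theorem flat_adicCompletion [IsNoetherianRing R]
    (hM : ∀ m : ℕ, Module.Flat (R ⧸ I ^ m) (M ⧸ (I ^ m • ⊤ : Submodule R M))) :
    Module.Flat R (AdicCompletion I M) := by
  have hI : I.FG := IsNoetherian.noetherian I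
  haveI : IsAdicComplete I (AdicCompletion I M) := AdicCompletion.isAdicComplete hI
  refine flat_of_flat_quotients I fun m => ?_
  haveI := hM m
  exact Module.Flat.of_linearEquiv
    ((quotEquiv I M hI m).extendScalarsOfSurjective (S := R ⧸ I ^ m) Ideal.Quotient.mk_surjective)

/-- the completion of a flat module over a Noetherian ring is flat -/
theorem flat_adicCompletion_of_flat [IsNoetherianRing R] [Module.Flat R M] :
    Module.Flat R (AdicCompletion I M) :=
  flat_adicCompletion I M fun m => flat_quotient_of_flat M (I ^ m)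

end completion

end Groth.Agent.H1.ComplFlat
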