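import Mathlib
import Groth.Agent.Lib.Helper1.FlatNilpotent
import Groth.Agent.Lib.Helper1.ComplFlat

/-!
# Flatness of completions, II: non-Noetherian base with Noetherian `R/I`
-/

set_option autoImplicit false

universe u

open Function TensorProduct

namespace Groth.Agent.H1.ComplFlat

section quot

variable {R : Type u} [CommRing R] {M : Type u} [AddCommGroup M] [Module R M]
  {F Rel : Type u} [AddCommGroup F] [Module R F] [Module.Flat R F] [AddCommGroup Rel] [Module R Rel]
  (ι : Rel →ₗ[R] F) (π : F →ₗ[R] M)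

/-- if `Tor₁(N, M) = 0` for all `N` killed by `J`, then `M/JM` is flat over `R/J` -/
theorem flat_baseChange_of_T (hex : Exact ι π) (hπ : Surjective π) (J : Ideal R)
    (hT : ∀ (N : Type u) [AddCommGroup N] [Module R N], J • (⊤ : Submodule R N) = ⊥ →
      Injective (ι.lTensor N)) :
    Module.Flat (R ⧸ J) ((R ⧸ J) ⊗[R] M) := by
  rw [Module.Flat.iff_rTensor_injective']
  intro a
  let g₁ : a →ₗ[R] (R ⧸ J) := a.subtype.restrictScalars R
  let g₂ : (R ⧸ J) →ₗ[R] ((R ⧸ J) ⧸ a) := a.mkQ.restrictScalars R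
  have hg₁ : Injective g₁ := Subtype.val_injective
  have hg : Exact g₁ g₂ := by
    intro y
    change a.mkQ y = 0 ↔ y ∈ Set.range a.subtype
    rw [Submodule.mkQ_apply, Submodule.Quotient.mk_eq_zero]
    simp
  have hg₂ : Surjective g₂ := Submodule.mkQ_surjective a
  have hkill : J • (⊤ : Submodule R ((R ⧸ J) ⧸ a)) = ⊥ := by
    rw [eq_bot_iff, Submodule.smul_le]
    intro r hr n _
    obtain ⟨n, rfl⟩ := Submodule.mkQ_surjective a n
    rw [Submodule.mem_bot, ← algebraMap_smul (R ⧸ J) r, Ideal.Quotient.algebraMap_eq,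
      Ideal.Quotient.eq_zero_iff_mem.mpr hr, zero_smul]
  have h1 : Injective (g₁.lTensor M) :=
    Groth.Agent.H1.LocalCrit.lTensor_injective_of_T ι π hex hπ g₁ g₂ hg₁ hg hg₂
      (hT _ hkill)
  have h2 : Injective (g₁.rTensor M) := (LinearMap.lTensor_inj_iff_rTensor_inj _ _).mp h1
  let e₁ := AlgebraTensorModule.cancelBaseChange R (R ⧸ J) (R ⧸ J) a M
  let e₂ := AlgebraTensorModule.cancelBaseChange R (R ⧸ J) (R ⧸ J) (R ⧸ J) M
  have hsq : ∀ x, e₂ (a.subtype.rTensor _ x) = g₁.rTensor M (e₁ x) := by
    intro x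
    induction x using TensorProduct.induction_on with
    | zero => simp
    | add x y hx hy => simp only [map_add, hx, hy]
    | tmul n y =>
      induction y using TensorProduct.induction_on with
      | zero => simp
      | add x y hx hy => simp only [tmul_add, map_add, hx, hy]
      | tmul s r => simp [e₁, e₂, g₁]
  intro x y hxy
  apply e₁.injective
  apply h2
  rw [← hsq, ← hsq, hxy]

end quot

section reductions

variable {R : Type u} [CommRing R] (I : Ideal R) (M : Type u) [AddCommGroup M] [Module R M]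

theorem flat_quotient_pow_aux [Module.Flat (R ⧸ I) (M ⧸ (I • ⊤ : Submodule R M))]
    (hT : Injective (TensorProduct.lift ((LinearMap.lsmul R M).comp (Submodule.subtype I))))
    {F Rel : Type u} [AddCommGroup F] [Module R F] [Module.Flat R F] [AddCommGroup Rel]
    [Module R Rel] (ι : Rel →ₗ[R] F) (π : F →ₗ[R] M) (hι : Injective ι) (hex : Exact ι π)
    (hπ : Surjective π)
    (m : ℕ) : Module.Flat (R ⧸ I ^ m) (M ⧸ (I ^ m • ⊤ : Submodule R M)) := by
  -- `Tor₁(R/I, M) = 0`
  have h1 : Injective (I.subtype.rTensor M) := by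
    have : ∀ x, TensorProduct.lid R M (I.subtype.rTensor M x) =
        TensorProduct.lift ((LinearMap.lsmul R M).comp (Submodule.subtype I)) x := by
      intro x
      induction x using TensorProduct.induction_on with
      | zero => simp
      | add x y hx hy => simp only [map_add, hx, hy]
      | tmul i y => simp
    intro x y hxy
    apply hT
    rw [← this, ← this, hxy]
  have hT0 : Injective (ι.lTensor (R ⧸ I)) :=
    Groth.Agent.H1.LocalCrit.T_of_rTensor_injective ι π hι hex hπ I.subtype I.mkQ
      (LinearMap.exact_subtype_mkQ I) (Submodule.mkQ_surjective I) h1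
  haveI : Module.Flat (R ⧸ I) ((R ⧸ I) ⊗[R] M) :=
    Module.Flat.of_linearEquiv ((TensorProduct.quotTensorEquivQuotSMul M I).extendScalarsOfSurjective
      (S := R ⧸ I) Ideal.Quotient.mk_surjective)
  have hTm := Groth.Agent.H1.LocalCrit.T_of_isNilpotent ι π hex hπ I hT0 m
  haveI : Module.Flat (R ⧸ I ^ m) ((R ⧸ I ^ m) ⊗[R] M) :=
    flat_baseChange_of_T ι π hex hπ (I ^ m) (fun N _ _ hN => hTm N hN)
  exact Module.Flat.of_linearEquiv
    ((TensorProduct.quotTensorEquivQuotSMul M (I ^ m)).symm.extendScalarsOfSurjective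
      (S := R ⧸ I ^ m) Ideal.Quotient.mk_surjective)

/-- **Stacks 051C**: if `M/IM` is flat over `R/I` and `Tor₁(R/I, M) = 0`, all reductions `M/IⁿM`
are flat over `R/Iⁿ`. -/
theorem flat_quotient_pow [Module.Flat (R ⧸ I) (M ⧸ (I • ⊤ : Submodule R M))]
    (hT : Injective (TensorProduct.lift ((LinearMap.lsmul R M).comp (Submodule.subtype I))))
    (m : ℕ) : Module.Flat (R ⧸ I ^ m) (M ⧸ (I ^ m • ⊤ : Submodule R M)) :=
  flat_quotient_pow_aux I M hT (F := M →₀ R)
    (Rel := LinearMap.ker (Finsupp.linearCombination R (id : M → M)))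
    (LinearMap.ker (Finsupp.linearCombination R (id : M → M))).subtype
    (Finsupp.linearCombination R id) Subtype.val_injective
    (LinearMap.exact_subtype_ker_map _) (Finsupp.linearCombination_id_surjective R M) m

end reductions


section transfer

/-- flatness transfers along a ring isomorphism and a compatible additive isomorphism -/
theorem flat_of_ringEquiv_semilinear {B' B : Type u} [CommRing B'] [CommRing B] (φ : B' ≃+* B)
    {P' P : Type u} [AddCommGroup P'] [Module B' P'] [AddCommGroup P] [Module B P]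
    (ψ : P' ≃+ P) (hψ : ∀ (b : B') (p : P'), ψ (b • p) = φ b • ψ p) [Module.Flat B P] :
    Module.Flat B' P' := by
  apply Module.Flat.of_forall_isTrivialRelation
  intro l f x hfx
  have h1 : ∑ i, φ (f i) • ψ (x i) = 0 := by
    have := congrArg ψ hfx
    rw [map_sum, map_zero] at this
    simpa only [hψ] using this
  obtain ⟨k, a, y, hxy, hfa⟩ := Module.Flat.isTrivialRelation_of_sum_smul_eq_zero h1
  have hψs : ∀ (b : B) (p : P), ψ.symm (b • p) = φ.symm b • ψ.symm p := by
    intro b p
    apply ψ.injective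
    rw [hψ, AddEquiv.apply_symm_apply, RingEquiv.apply_symm_apply, AddEquiv.apply_symm_apply]
  refine ⟨k, fun i j => φ.symm (a i j), fun j => ψ.symm (y j), ?_, ?_⟩
  · intro i
    apply ψ.injective
    have h2 : ψ (x i) = ∑ j, a i j • y j := hxy i
    rw [h2, map_sum]
    refine Finset.sum_congr rfl fun j _ => ?_
    change _ = ψ (φ.symm (a i j) • ψ.symm (y j))
    rw [hψ, RingEquiv.apply_symm_apply, AddEquiv.apply_symm_apply]
  · intro j
    apply φ.injective
    have h3 : ∑ i, φ (f i) * a i j = 0 := hfa j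
    rw [map_sum, map_zero, ← h3]
    refine Finset.sum_congr rfl fun i _ => ?_
    change φ (f i * φ.symm (a i j)) = _
    rw [map_mul, RingEquiv.apply_symm_apply]

end transfer

section completion

variable {R : Type u} [CommRing R] (I : Ideal R) (M : Type u) [AddCommGroup M] [Module R M]

theorem evalₐ_eq_zero_iff (hI : I.FG) (m : ℕ) (a : AdicCompletion I R) :
    AdicCompletion.evalₐ I m a = 0 ↔
      a ∈ (I.map (algebraMap R (AdicCompletion I R))) ^ m := by
  have h1 : AdicCompletion.evalₐ I m a = 0 ↔ AdicCompletion.eval I R m a = 0 := by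
    have hle : (I ^ m • ⊤ : Ideal R) ≤ I ^ m := by simp
    rw [← AdicCompletion.factor_eval_eq_evalₐ I a hle]
    constructor
    · intro h
      obtain ⟨r, hr⟩ := Ideal.Quotient.mk_surjective (AdicCompletion.eval I R m a)
      rw [← hr] at h ⊢
      change Submodule.factor hle ((I ^ m • ⊤ : Ideal R).mkQ r) = 0 at h
      rw [Submodule.factor_mk, Submodule.mkQ_apply, Submodule.Quotient.mk_eq_zero] at h
      rw [Ideal.Quotient.eq_zero_iff_mem]
      simpa using h
    · intro h
      rw [h, map_zero]
  rw [h1, ← LinearMap.mem_ker, ← AdicCompletion.pow_smul_top_eq_ker_eval hI, ← Ideal.map_pow,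
    Ideal.smul_top_eq_map]
  rfl

/-- `R^ / (I R^)^m ≃ R / I^m` -/
noncomputable def ringQuotEquiv (hI : I.FG) (m : ℕ) :
    (AdicCompletion I R ⧸ (I.map (algebraMap R (AdicCompletion I R))) ^ m) ≃+* R ⧸ I ^ m :=
  (Ideal.quotEquivOfEq (by
    ext a
    rw [RingHom.mem_ker]
    exact (evalₐ_eq_zero_iff I hI m a).symm)).trans
  (RingHom.quotientKerEquivOfSurjective (f := (AdicCompletion.evalₐ I m).toRingHom)
    (AdicCompletion.surjective_evalₐ I m))

theorem ringQuotEquiv_mk (hI : I.FG) (m : ℕ) (a : AdicCompletion I R) :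
    ringQuotEquiv I hI m (Ideal.Quotient.mk _ a) = AdicCompletion.evalₐ I m a := rfl

theorem restrictScalars_pow_smul_top (m : ℕ) :
    (((I.map (algebraMap R (AdicCompletion I R))) ^ m •
      (⊤ : Submodule (AdicCompletion I R) (AdicCompletion I M))).restrictScalars R) =
      I ^ m • (⊤ : Submodule R (AdicCompletion I M)) := by
  rw [← Ideal.map_pow, Ideal.smul_restrictScalars, Submodule.restrictScalars_top]

/-- `M^ / (I R^)^m M^ ≃ M / I^m M` -/
noncomputable def modQuotEquiv (hI : I.FG) (m : ℕ) :
    (AdicCompletion I M ⧸ ((I.map (algebraMap R (AdicCompletion I R))) ^ m •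
      (⊤ : Submodule (AdicCompletion I R) (AdicCompletion I M)))) ≃ₗ[R]
      M ⧸ (I ^ m • ⊤ : Submodule R M) :=
  (Submodule.Quotient.restrictScalarsEquiv R _).symm ≪≫ₗ
    Submodule.quotEquivOfEq _ _ (restrictScalars_pow_smul_top I M m) ≪≫ₗ quotEquiv I M hI m

theorem modQuotEquiv_mk (hI : I.FG) (m : ℕ) (x : AdicCompletion I M) :
    modQuotEquiv I M hI m (Submodule.Quotient.mk x) = x.val m := rfl

/-- **Flatness of completions** (Stacks 0AGW-type): `I` finitely generated, `R/I` Noetherian,
`M/IM` flat over `R/I` and `Tor₁(R/I, M) = 0` imply `M^` flat over `R^`. -/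
theorem flat_adicCompletion_of_noetherian_quotient (hI : I.FG) [IsNoetherianRing (AdicCompletion I R)]
    [Module.Flat (R ⧸ I) (M ⧸ (I • ⊤ : Submodule R M))]
    (hT : Injective (TensorProduct.lift ((LinearMap.lsmul R M).comp (Submodule.subtype I)))) :
    Module.Flat (AdicCompletion I R) (AdicCompletion I M) := by
  haveI h0 : IsAdicComplete I (AdicCompletion I M) := AdicCompletion.isAdicComplete hI
  haveI : IsAdicComplete (I.map (algebraMap R (AdicCompletion I R))) (AdicCompletion I M) :=
    (IsAdicComplete.map_algebraMap_iff I (AdicCompletion I M)).mpr h0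
  refine flat_of_flat_quotients (I.map (algebraMap R (AdicCompletion I R))) fun m => ?_
  haveI := flat_quotient_pow I M hT m
  refine flat_of_ringEquiv_semilinear (ringQuotEquiv I hI m) (modQuotEquiv I M hI m).toAddEquiv ?_
  intro b p
  obtain ⟨a, rfl⟩ := Ideal.Quotient.mk_surjective b
  obtain ⟨x, rfl⟩ := Submodule.Quotient.mk_surjective _ p
  change modQuotEquiv I M hI m (Submodule.Quotient.mk (a • x)) = _
  rw [ringQuotEquiv_mk, modQuotEquiv_mk]
  change _ = _ • modQuotEquiv I M hI m (Submodule.Quotient.mk x)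
  rw [modQuotEquiv_mk, AdicCompletion.smul_eval, AdicCompletion.val_smul_eq_evalₐ_smul]

end completion

end Groth.Agent.H1.ComplFlat
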