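import Mathlib
import Groth.Prelude.Def_Curv2
import Groth.Agent.Lib.Helper1.BCStalkApp
import Groth.Agent.Lib.Helper1.BCTowerApp
import Groth.Agent.Lib.Helper1.SmoothReg3
import Groth.Agent.Lib.Helper1.CMFlat
import Groth.Agent.Lib.Helper2.TenCM4
import Groth.Agent.Lib.Helper2.FFib3
import Groth.Agent.Lib.Helper2.CMFibD
import Groth.Agent.Lib.Helper3.CA.CMDescent
import Groth.Agent.Lib.Helper6.GrCMCrit3
import Groth.Agent.Lib.Helper6.CMKit
import Groth.Agent.Lib.Helper6.Liai3

/-! Helper1: Cohen–Macaulayness of local rings under extension of the base field. -/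

set_option autoImplicit false
set_option linter.style.haveILetI false
universe u
open CategoryTheory CategoryTheory.Limits AlgebraicGeometry IsLocalRing TensorProduct

namespace Groth.Agent.H1.BCStalk

/-- a Cohen–Macaulay local ring is a Cohen–Macaulay ring. -/
theorem cmRing_of_cmLocal (R : Type u) [CommRing R] [h : LocCoh.IsCohenMacaulayLocalRing R] :
    LocCoh.IsCohenMacaulayRing R := by
  rw [Groth.Agent.H6.GrCM.cmRing_iff_module]
  intro p hp
  right
  have hM : LocCoh.IsCohenMacaulayModule R R := h.supportDim_eq_depth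
  refine (Groth.Agent.H6.CM.cm_localization_aux R hM ⟨p, hp⟩ ?_).1
  rw [Module.support_eq_zeroLocus, PrimeSpectrum.mem_zeroLocus]
  intro x hx
  have : x = 0 := by
    have := Module.mem_annihilator.mp hx 1
    simpa using this
  rw [this]
  exact Ideal.zero_mem _

/-- pure algebra: Cohen–Macaulayness of `A` and of a local ring of `A ⊗ k'` over the closed
point, when the fibres of `A → A ⊗ k'` are Cohen–Macaulay. -/
theorem cm_iff_of_fibres (k A k' : Type u) [Field k] [CommRing A] [IsLocalRing A]
    [IsNoetherianRing A] [Algebra k A] [Field k'] [Algebra k k'] [IsNoetherianRing (A ⊗[k] k')]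
    (hfib : ∀ (p : Ideal A) [p.IsPrime], LocCoh.IsCohenMacaulayRing (p.Fiber (A ⊗[k] k')))
    (q : Ideal (A ⊗[k] k')) [q.IsPrime]
    (hq : q.comap (algebraMap A (A ⊗[k] k')) = maximalIdeal A) :
    LocCoh.IsCohenMacaulayLocalRing A ↔
      LocCoh.IsCohenMacaulayLocalRing (Localization.AtPrime q) := by
  constructor
  · intro h
    haveI := cmRing_of_cmLocal A
    haveI : LocCoh.IsCohenMacaulayRing (A ⊗[k] k') :=
      Groth.Agent.H1.CMFlat.isCohenMacaulayRing_of_flat_of_fibres (R := A) (S := A ⊗[k] k') hfib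
    exact LocCoh.IsCohenMacaulayRing.isCohenMacaulayLocalRing_localization q
  · intro h
    haveI := cmRing_of_cmLocal (Localization.AtPrime q)
    haveI : Module.Flat A (Localization.AtPrime q) :=
      Module.Flat.trans A (A ⊗[k] k') (Localization.AtPrime q)
    haveI : IsLocalHom (algebraMap A (Localization.AtPrime q)) := by
      constructor
      intro a ha
      by_contra hnu
      have hmem : a ∈ maximalIdeal A := (IsLocalRing.mem_maximalIdeal a).mpr hnu
      rw [← hq, Ideal.mem_comap] at hmem
      have h1 : algebraMap (A ⊗[k] k') (Localization.AtPrime q) (algebraMap A (A ⊗[k] k') a) ∈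
          maximalIdeal (Localization.AtPrime q) :=
        (IsLocalization.AtPrime.to_map_mem_maximal_iff (Localization.AtPrime q) q _).mpr hmem
      rw [← IsScalarTower.algebraMap_apply] at h1
      exact (IsLocalRing.mem_maximalIdeal _).mp h1 ha
    haveI : Module.FaithfullyFlat A (Localization.AtPrime q) :=
      Module.FaithfullyFlat.of_flat_of_isLocalHom
    haveI := Groth.Agent.H3.CMDesc.isCohenMacaulayRing_of_faithfullyFlat A (Localization.AtPrime q)
    exact Groth.Agent.H2.CMFibD.cmLocal_of_cm A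

attribute [local instance] Curv2.resAlgebra Curv2.stalkAlgebra

/-- scheme version. -/
theorem cm_stalk_iff (k : Type u) [Field k] (X : Scheme.{u}) [X.Over (Spec (CommRingCat.of k))]
    (k' : Type u) [Field k'] [Algebra k k'] (x' : ↥(Curv2.bc k X k'))
    [IsNoetherianRing (X.presheaf.stalk (Curv2.bcFst k X k' x'))]
    [IsNoetherianRing (X.presheaf.stalk (Curv2.bcFst k X k' x') ⊗[k] k')]
    (hfib : ∀ (p : Ideal (X.presheaf.stalk (Curv2.bcFst k X k' x'))) [p.IsPrime],
      LocCoh.IsCohenMacaulayRing (p.Fiber (X.presheaf.stalk (Curv2.bcFst k X k' x') ⊗[k] k'))) :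
    LocCoh.IsCohenMacaulayLocalRing ↥(X.presheaf.stalk (Curv2.bcFst k X k' x')) ↔
      LocCoh.IsCohenMacaulayLocalRing ↥((Curv2.bc k X k').presheaf.stalk x') := by
  obtain ⟨q, hq, ⟨e⟩⟩ := exists_prime_of_point k X k' (Curv2.bcFst k X k' x') x' rfl
  rw [cm_iff_of_fibres k _ k' hfib q.asIdeal hq]
  constructor
  · intro h
    exact Groth.Agent.H6.Liai.cmLocal_of_ringEquiv e.symm
  · intro h
    exact Groth.Agent.H6.Liai.cmLocal_of_ringEquiv e

theorem s7608 (k : Type u) [Field k] (X : Scheme.{u}) [X.Over (Spec (CommRingCat.of k))]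
    [IsLocallyNoetherian X] (k' : Type u) [Field k'] [Algebra k k']
    (hfg : (⊤ : IntermediateField k k').FG) (x' : ↥(Curv2.bc k X k')) :
    LocCoh.IsCohenMacaulayLocalRing ↥(X.presheaf.stalk (Curv2.bcFst k X k' x')) ↔
      LocCoh.IsCohenMacaulayLocalRing ↥((Curv2.bc k X k').presheaf.stalk x') := by
  haveI : Algebra.EssFiniteType k k' := IntermediateField.fg_top_iff.mp hfg
  haveI : IsNoetherianRing (X.presheaf.stalk (Curv2.bcFst k X k' x') ⊗[k] k') :=
    Algebra.EssFiniteType.isNoetherianRing (X.presheaf.stalk (Curv2.bcFst k X k' x')) _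
  exact cm_stalk_iff k X k' x' fun p _ =>
    Groth.Agent.H2.TenCM.cm_fibre_baseChange_field k _ k' (Or.inr inferInstance) p

theorem s7609 (k : Type u) [Field k] (X : Scheme.{u}) [X.Over (Spec (CommRingCat.of k))]
    [LocallyOfFiniteType (X ↘ (Spec (CommRingCat.of k)))]
    (k' : Type u) [Field k'] [Algebra k k'] (x' : ↥(Curv2.bc k X k')) :
    LocCoh.IsCohenMacaulayLocalRing ↥(X.presheaf.stalk (Curv2.bcFst k X k' x')) ↔
      LocCoh.IsCohenMacaulayLocalRing ↥((Curv2.bc k X k').presheaf.stalk x') := by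
  haveI : IsLocallyNoetherian X :=
    LocallyOfFiniteType.isLocallyNoetherian (X ↘ (Spec (CommRingCat.of k)))
  haveI hess : Algebra.EssFiniteType k (X.presheaf.stalk (Curv2.bcFst k X k' x')) :=
    Groth.Agent.H1.SmoothReg.essFiniteType_stalkMapK k (X ↘ (Spec (CommRingCat.of k))) _
  haveI : IsNoetherianRing (X.presheaf.stalk (Curv2.bcFst k X k' x') ⊗[k] k') := by
    haveI : Algebra.EssFiniteType k' (k' ⊗[k] X.presheaf.stalk (Curv2.bcFst k X k' x')) :=
      inferInstance
    haveI : IsNoetherianRing (k' ⊗[k] X.presheaf.stalk (Curv2.bcFst k X k' x')) :=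
      Algebra.EssFiniteType.isNoetherianRing k' _
    exact isNoetherianRing_of_ringEquiv _ (Algebra.TensorProduct.comm k k' _).toRingEquiv
  refine cm_stalk_iff k X k' x' fun p _ => ?_
  refine Groth.Agent.H2.FFib.cm_fibre_baseChange k _ k' (fun p' _ => ?_) p
  haveI : Algebra.EssFiniteType k p'.ResidueField := by
    haveI : Algebra.EssFiniteType k (Localization.AtPrime p') := inferInstance
    exact Algebra.EssFiniteType.of_surjective
      (IsScalarTower.toAlgHom k (Localization.AtPrime p') p'.ResidueField)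
      Ideal.Quotient.mk_surjective
  exact Groth.Agent.H2.TenCM.cm_tensor_of_essFiniteType k p'.ResidueField k'

end Groth.Agent.H1.BCStalk
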