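import Mathlib
import Groth.Agent.Lib.Helper1.BCTowerApp

set_option autoImplicit false
set_option linter.style.haveILetI false
universe u
open CategoryTheory CategoryTheory.Limits AlgebraicGeometry TensorProduct

namespace Groth.Agent.H1.LocNoeth

/-- core descent step: flat, "surjective from `V` onto `U`" between affine opens. -/
theorem isNoetherianRing_of_flat_of_surjOn {Z' Z : Scheme.{u}} (h : Z' ⟶ Z) [Flat h]
    (U : Z.Opens) (hU : IsAffineOpen U) (V : Z'.Opens) (hV : IsAffineOpen V)
    (e : V ≤ h ⁻¹ᵁ U) (hsurj : ∀ u ∈ U, ∃ v ∈ V, h v = u)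
    (hN : IsNoetherianRing Γ(Z', V)) : IsNoetherianRing Γ(Z, U) := by
  have : IsAffine U.toScheme := hU
  have : IsAffine V.toScheme := hV
  have hs : Surjective (h.resLE U V e) := by
    refine ⟨fun u => ?_⟩
    obtain ⟨v, hvV, hvu⟩ := hsurj u.1 u.2
    refine ⟨⟨v, hvV⟩, ?_⟩
    apply Subtype.ext
    have := congrArg (fun φ : V.toScheme ⟶ Z => φ ⟨v, hvV⟩) (Scheme.Hom.resLE_comp_ι h e)
    simp only at this
    exact this.trans hvu
  have hff : (h.resLE U V e).appTop.hom.FaithfullyFlat :=
    (Flat.flat_and_surjective_iff_faithfullyFlat_of_isAffine (f := h.resLE U V e)).mp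
      ⟨inferInstance, hs⟩
  have hN' : IsNoetherianRing Γ(V.toScheme, ⊤) :=
    isNoetherianRing_of_ringEquiv Γ(Z', V) V.topIso.symm.commRingCatIsoToRingEquiv
  letI := (h.resLE U V e).appTop.hom.toAlgebra
  have : Module.FaithfullyFlat Γ(U.toScheme, ⊤) Γ(V.toScheme, ⊤) := hff
  have hN'' : IsNoetherianRing Γ(U.toScheme, ⊤) :=
    Groth.Agent.H1.BCTower.isNoetherianRing_of_faithfullyFlat Γ(U.toScheme, ⊤) Γ(V.toScheme, ⊤)
  exact isNoetherianRing_of_ringEquiv Γ(U.toScheme, ⊤) U.topIso.commRingCatIsoToRingEquiv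



/-- locally Noetherian descends along flat surjective affine morphisms. -/
theorem isLocallyNoetherian_of_flat_surjective_affine {Z' Z : Scheme.{u}} (h : Z' ⟶ Z) [Flat h]
    [Surjective h] [IsAffineHom h] [IsLocallyNoetherian Z'] : IsLocallyNoetherian Z := by
  refine ⟨fun U => ?_⟩
  have hV : IsAffineOpen (h ⁻¹ᵁ U.1) := U.2.preimage h
  refine isNoetherianRing_of_flat_of_surjOn h U.1 U.2 (h ⁻¹ᵁ U.1) hV le_rfl ?_
    (IsLocallyNoetherian.component_noetherian ⟨_, hV⟩)
  intro u hu
  obtain ⟨v, rfl⟩ := h.surjective u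
  exact ⟨v, hu, rfl⟩

/-- locally Noetherian descends along flat surjective open morphisms. -/
theorem isLocallyNoetherian_of_flat_surjective_isOpenMap {Z' Z : Scheme.{u}} (h : Z' ⟶ Z) [Flat h]
    [Surjective h] (hopen : IsOpenMap h) [IsLocallyNoetherian Z'] : IsLocallyNoetherian Z := by
  have key : ∀ z : Z, ∃ U : Z.affineOpens, z ∈ U.1 ∧ IsNoetherianRing Γ(Z, U.1) := by
    intro z
    obtain ⟨z', rfl⟩ := h.surjective z
    obtain ⟨_, ⟨W, hW, rfl⟩, hzW, -⟩ := Z.isBasis_affineOpens.exists_subset_of_mem_open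
      (Set.mem_univ (h z')) isOpen_univ
    obtain ⟨_, ⟨V', hV', rfl⟩, hz'V', hV'W⟩ := Z'.isBasis_affineOpens.exists_subset_of_mem_open
      (show z' ∈ ((h ⁻¹ᵁ W : Z'.Opens) : Set Z') from hzW) (h ⁻¹ᵁ W).isOpen
    have e : V' ≤ h ⁻¹ᵁ W := hV'W
    let I : Z.Opens := ⟨h '' (V' : Set Z'), hopen _ V'.isOpen⟩
    have hzI : h z' ∈ I := ⟨z', hz'V', rfl⟩
    obtain ⟨s, hsI, hzs⟩ := hW.exists_basicOpen_le (V := I) ⟨h z', hzI⟩ hzW
    refine ⟨⟨Z.basicOpen s, hW.basicOpen s⟩, hzs, ?_⟩
    have hV'' : IsAffineOpen (Z'.basicOpen (h.appLE W V' e s)) := hV'.basicOpen _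
    have heq : Z'.basicOpen (h.appLE W V' e s) = V' ⊓ h ⁻¹ᵁ (Z.basicOpen s) :=
      Scheme.basicOpen_appLE h V' W e s
    refine isNoetherianRing_of_flat_of_surjOn h (Z.basicOpen s) (hW.basicOpen s)
      (Z'.basicOpen (h.appLE W V' e s)) hV'' (by rw [heq]; exact inf_le_right) ?_
      (IsLocallyNoetherian.component_noetherian ⟨_, hV''⟩)
    intro u hu
    obtain ⟨v, hvV', rfl⟩ := hsI hu
    refine ⟨v, ?_, rfl⟩
    rw [heq]
    exact ⟨hvV', hu⟩
  choose U hzU hUN using key
  refine isLocallyNoetherian_of_affine_cover (S := U) ?_ hUN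
  rw [eq_top_iff]
  intro z _
  exact TopologicalSpace.Opens.mem_iSup.2 ⟨z, hzU z⟩



/-- the map on fibres induced by `a : X' ⟶ X`. -/
noncomputable def fiberMap {X X' Y : Scheme.{u}} (f : X ⟶ Y) (a : X' ⟶ X) (y : Y) :
    (a ≫ f).fiber y ⟶ f.fiber y :=
  pullback.lift ((a ≫ f).fiberι y ≫ a) ((a ≫ f).fiberToSpecResidueField y) (by
    rw [Category.assoc]
    exact pullback.condition)

theorem isPullback_fiberMap {X X' Y : Scheme.{u}} (f : X ⟶ Y) (a : X' ⟶ X) (y : Y) :
    IsPullback (fiberMap f a y) ((a ≫ f).fiberι y) (f.fiberι y) a := by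
  have hbig : IsPullback (fiberMap f a y ≫ f.fiberToSpecResidueField y) ((a ≫ f).fiberι y)
      (Y.fromSpecResidueField y) (a ≫ f) := by
    have : fiberMap f a y ≫ f.fiberToSpecResidueField y = (a ≫ f).fiberToSpecResidueField y :=
      pullback.lift_snd _ _ _
    rw [this]
    exact (IsPullback.of_hasPullback (a ≫ f) (Y.fromSpecResidueField y)).flip
  have hright : IsPullback (f.fiberToSpecResidueField y) (f.fiberι y)
      (Y.fromSpecResidueField y) f :=
    (IsPullback.of_hasPullback f (Y.fromSpecResidueField y)).flip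
  exact IsPullback.of_right hbig (pullback.lift_fst _ _ _) hright

theorem s1406 {X X' Y : Scheme.{u}} (f : X ⟶ Y) (a : X' ⟶ X) [Flat a]
    [LocallyOfFinitePresentation a] [Surjective a] :
    (∀ y : Y, IsLocallyNoetherian (f.fiber y)) ↔
      ∀ y : Y, IsLocallyNoetherian ((a ≫ f).fiber y) := by
  have hflat : ∀ y, Flat (fiberMap f a y) := fun y =>
    MorphismProperty.of_isPullback (P := @Flat) (isPullback_fiberMap f a y).flip inferInstance
  have hlfp : ∀ y, LocallyOfFinitePresentation (fiberMap f a y) := fun y =>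
    MorphismProperty.of_isPullback (P := @LocallyOfFinitePresentation)
      (isPullback_fiberMap f a y).flip inferInstance
  have hsurj : ∀ y, Surjective (fiberMap f a y) := fun y =>
    MorphismProperty.of_isPullback (P := @Surjective) (isPullback_fiberMap f a y).flip
      inferInstance
  constructor
  · intro h y
    haveI := h y
    haveI := hlfp y
    exact LocallyOfFiniteType.isLocallyNoetherian (fiberMap f a y)
  · intro h y
    haveI := h y
    haveI := hflat y
    haveI := hlfp y
    haveI := hsurj y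
    exact isLocallyNoetherian_of_flat_surjective_isOpenMap (fiberMap f a y)
      (fiberMap f a y).isOpenMap



theorem essFiniteType_residueFieldMap {X Y : Scheme.{u}} (g : X ⟶ Y) [LocallyOfFiniteType g]
    (x : X) : (g.residueFieldMap x).hom.EssFiniteType := by
  have h1 : (g.stalkMap x).hom.EssFiniteType := LocallyOfFiniteType.stalkMap (f := g) x
  have h2 : (X.residue x).hom.EssFiniteType :=
    RingHom.FiniteType.essFiniteType
      (RingHom.FiniteType.of_surjective _ (X.residue_surjective x))
  have h3 : ((X.residue x).hom.comp (g.stalkMap x).hom).EssFiniteType := h1.comp h2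
  have heq : (X.residue x).hom.comp (g.stalkMap x).hom =
      (g.residueFieldMap x).hom.comp (Y.residue (g x)).hom := by
    have := Scheme.residue_residueFieldMap g x
    rw [← CommRingCat.hom_comp, ← CommRingCat.hom_comp, this]
  rw [heq] at h3
  exact RingHom.EssFiniteType.of_comp _ h3

/-- base change of a Noetherian affine scheme along an essentially finite type ring map. -/
theorem isLocallyNoetherian_pullback_Spec {R R' A : CommRingCat.{u}} [IsNoetherianRing A]
    (ψ : R ⟶ A) (φ : R ⟶ R') (hφ : φ.hom.EssFiniteType) :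
    IsLocallyNoetherian (pullback (Spec.map ψ) (Spec.map φ)) := by
  letI := ψ.hom.toAlgebra
  letI := φ.hom.toAlgebra
  haveI : Algebra.EssFiniteType R R' := hφ
  haveI : IsNoetherianRing (A ⊗[R] R') := Algebra.EssFiniteType.isNoetherianRing A (A ⊗[R] R')
  let e : pullback (Spec.map ψ) (Spec.map φ) ≅ Spec (.of (A ⊗[R] R')) := pullbackSpecIso R A R'
  exact isLocallyNoetherian_of_isOpenImmersion e.hom



theorem isLocallyNoetherian_pullback_of_isAffine {R R' : CommRingCat.{u}} (V : Scheme.{u})
    [IsAffine V] [IsLocallyNoetherian V] (v : V ⟶ Spec R) (φ : R ⟶ R')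
    (hφ : φ.hom.EssFiniteType) : IsLocallyNoetherian (pullback v (Spec.map φ)) := by
  haveI : IsNoetherianRing Γ(V, ⊤) :=
    IsLocallyNoetherian.component_noetherian ⟨⊤, isAffineOpen_top V⟩
  let v' : Spec Γ(V, ⊤) ⟶ Spec R := V.isoSpec.inv ≫ v
  obtain ⟨ψ, hψ⟩ : ∃ ψ : R ⟶ Γ(V, ⊤), Spec.map ψ = v' := ⟨Spec.preimage v', Spec.map_preimage v'⟩
  haveI : IsLocallyNoetherian (pullback v' (Spec.map φ)) := by
    rw [← hψ]
    exact isLocallyNoetherian_pullback_Spec ψ φ hφ
  let m : pullback v (Spec.map φ) ⟶ pullback v' (Spec.map φ) :=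
    pullback.map v (Spec.map φ) v' (Spec.map φ) V.isoSpec.hom (𝟙 _) (𝟙 _)
      (by simp [v']) (by simp)
  haveI : IsIso m := by
    dsimp only [m]
    infer_instance
  exact isLocallyNoetherian_of_isOpenImmersion m

theorem isLocallyNoetherian_pullback_of_essFiniteType {R R' : CommRingCat.{u}} (W : Scheme.{u})
    [IsLocallyNoetherian W] (w : W ⟶ Spec R) (φ : R ⟶ R')
    (hφ : φ.hom.EssFiniteType) : IsLocallyNoetherian (pullback w (Spec.map φ)) := by
  rw [isLocallyNoetherian_iff_openCover
    (Scheme.Pullback.openCoverOfLeft W.affineCover w (Spec.map φ))]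
  intro i
  let j : W.affineCover.I₀ := i
  haveI : IsLocallyNoetherian (W.affineCover.X j) :=
    isLocallyNoetherian_of_isOpenImmersion (W.affineCover.f j)
  exact isLocallyNoetherian_pullback_of_isAffine (W.affineCover.X j) (W.affineCover.f j ≫ w) φ hφ

set_option backward.isDefEq.respectTransparency false in
theorem s1405 {X Y X' Y' : Scheme.{u}} (f : X ⟶ Y) (f' : X' ⟶ Y') (g' : X' ⟶ X) (g : Y' ⟶ Y)
    [Flat g] [LocallyOfFinitePresentation g] [Surjective g]
    (hc : IsPullback g' f' f g) :
    (∀ y : Y, IsLocallyNoetherian (f.fiber y)) ↔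
      ∀ y' : Y', IsLocallyNoetherian (f'.fiber y') := by
  constructor
  · intro h y'
    have hφ := isPullback_fiberToSpecResidueField_of_isPullback hc y'
    haveI := h (g y')
    haveI : IsLocallyNoetherian (pullback (f.fiberToSpecResidueField (g y'))
        (Spec.map (g.residueFieldMap y'))) :=
      isLocallyNoetherian_pullback_of_essFiniteType _ _ _ (essFiniteType_residueFieldMap g y')
    let e := hφ.isoPullback
    exact isLocallyNoetherian_of_isOpenImmersion e.hom
  · intro h y
    obtain ⟨y', rfl⟩ := g.surjective y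
    have hφ := isPullback_fiberToSpecResidueField_of_isPullback hc y'
    haveI : IsLocallyNoetherian (pullback f' (Y'.fromSpecResidueField y')) := h y'
    -- the map of fibres is a base change of the (affine, flat, surjective) map of residue fields
    let φ := pullback.map f' (Y'.fromSpecResidueField y') f (Y.fromSpecResidueField (g y'))
      g' (Spec.map (g.residueFieldMap y')) g hc.w.symm (by simp)
    have hsq : IsPullback φ (f'.fiberToSpecResidueField y') (f.fiberToSpecResidueField (g y'))
      (Spec.map (g.residueFieldMap y')) := hφ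
    have hff : (g.residueFieldMap y').hom.FaithfullyFlat := by
      letI := (g.residueFieldMap y').hom.toAlgebra
      show Module.FaithfullyFlat (Y.residueField (g y')) (Y'.residueField y')
      infer_instance
    have hfs := (flat_and_surjective_SpecMap_iff (g.residueFieldMap y')).mpr hff
    haveI : Flat φ := MorphismProperty.of_isPullback (P := @Flat) hsq.flip hfs.1
    haveI : Surjective φ := MorphismProperty.of_isPullback (P := @Surjective) hsq.flip hfs.2
    haveI : IsAffineHom φ := MorphismProperty.of_isPullback (P := @IsAffineHom) hsq.flip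
      inferInstance
    exact isLocallyNoetherian_of_flat_surjective_affine φ

end Groth.Agent.H1.LocNoeth
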