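import Mathlib
import Groth.Prelude.Def_MoreMor
import Groth.Agent.Lib.Helper1.BCStalkCM
import Groth.Agent.Lib.Helper1.LocNoethFib
import Groth.Agent.Lib.Lead.QC.FlatBC
import Groth.Agent.Lib.Helper9.Misc.FLH1

set_option autoImplicit false
set_option linter.style.haveILetI false
universe u
open CategoryTheory CategoryTheory.Limits AlgebraicGeometry TensorProduct

namespace Groth.Agent.H1.CMBC

/-- transport of the fibre stalk along an equality of base points. -/
theorem cm_stalk_fiber_congr {X Y : Scheme.{u}} (f : X ⟶ Y) (x : X) (y : Y) (hy : f x = y)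
    (a : f.fiber y) (ha : f.fiberι y a = x) :
    LocCoh.IsCohenMacaulayLocalRing ((f.fiber y).presheaf.stalk a) ↔
      LocCoh.IsCohenMacaulayLocalRing ((f.fiber (f x)).presheaf.stalk (f.asFiber x)) := by
  subst hy
  have : a = f.asFiber x :=
    (f.fiberι (f x)).isEmbedding.injective (ha.trans (f.fiberι_asFiber x).symm)
  rw [this]



/-- an isomorphism of schemes preserves Cohen–Macaulayness of stalks. -/
theorem cm_stalk_iff_of_iso {P Q : Scheme.{u}} (e : P ≅ Q) (p : P) :
    LocCoh.IsCohenMacaulayLocalRing (Q.presheaf.stalk (e.hom p)) ↔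
      LocCoh.IsCohenMacaulayLocalRing (P.presheaf.stalk p) := by
  have hiso : IsIso (e.hom.stalkMap p) := inferInstance
  let σ : Q.presheaf.stalk (e.hom p) ≃+* P.presheaf.stalk p :=
    (asIso (e.hom.stalkMap p)).commRingCatIsoToRingEquiv
  constructor
  · intro h
    exact Groth.Agent.H6.Liai.cmLocal_of_ringEquiv σ
  · intro h
    exact Groth.Agent.H6.Liai.cmLocal_of_ringEquiv σ.symm

set_option backward.isDefEq.respectTransparency false in
/-- Cohen–Macaulayness of the local rings of the fibres under base change (finitely generated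
residue field extension, locally Noetherian fibre). -/
theorem cm_fiber_stalk_iff_aux {X Y X' Y' : Scheme.{u}} (f : X ⟶ Y) (f' : X' ⟶ Y') (g' : X' ⟶ X)
    (g : Y' ⟶ Y) (hc : IsPullback g' f' f g) (y' : Y') (a' : f'.fiber y')
    [IsLocallyNoetherian (f.fiber (g y'))] (hfg : (g.residueFieldMap y').hom.EssFiniteType) :
    LocCoh.IsCohenMacaulayLocalRing ((f.fiber (g y')).presheaf.stalk
      ((pullback.map f' (Y'.fromSpecResidueField y') f (Y.fromSpecResidueField (g y'))
        g' (Spec.map (g.residueFieldMap y')) g hc.w.symm (by simp)) a')) ↔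
      LocCoh.IsCohenMacaulayLocalRing ((f'.fiber y').presheaf.stalk a') := by
  have hφ := isPullback_fiberToSpecResidueField_of_isPullback hc y'
  set φ : f'.fiber y' ⟶ f.fiber (g y') :=
    pullback.map f' (Y'.fromSpecResidueField y') f (Y.fromSpecResidueField (g y'))
        g' (Spec.map (g.residueFieldMap y')) g hc.w.symm (by simp) with hφdef
  letI alg : Algebra ↑(Y.residueField (g y')) ↑(Y'.residueField y') :=
    (g.residueFieldMap y').hom.toAlgebra
  letI ov : (f.fiber (g y')).Over (Spec (CommRingCat.of ↑(Y.residueField (g y')))) :=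
    ⟨f.fiberToSpecResidueField (g y')⟩
  have hfg' : (⊤ : IntermediateField ↑(Y.residueField (g y')) ↑(Y'.residueField y')).FG :=
    IntermediateField.fg_top_iff.mpr hfg
  let e := hφ.isoPullback
  have he : e.hom ≫ pullback.fst _ _ = φ := hφ.isoPullback_hom_fst
  have key := Groth.Agent.H1.BCStalk.s7608 ↑(Y.residueField (g y')) (f.fiber (g y'))
    ↑(Y'.residueField y') hfg' (e.hom a')
  have hpt : (Curv2.bcFst ↑(Y.residueField (g y')) (f.fiber (g y')) ↑(Y'.residueField y'))
      (e.hom a') = φ a' := by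
    rw [← he]; rfl
  rw [hpt] at key
  exact key.trans (cm_stalk_iff_of_iso e a')



variable {X Y X' Y' : Scheme.{u}} {f : X ⟶ Y} {f' : X' ⟶ Y'} {g' : X' ⟶ X} {g : Y' ⟶ Y}

theorem flat_stalkMap_congr {P Q : Scheme.{u}} {φ ψ : P ⟶ Q} (e : φ = ψ) (p : P) :
    (φ.stalkMap p).hom.Flat ↔ (ψ.stalkMap p).hom.Flat := by
  subst e; rfl

set_option backward.isDefEq.respectTransparency false in
theorem cm_asFiber_iff (hc : IsPullback g' f' f g) (x' : X')
    (hN : IsLocallyNoetherian (f.fiber (g (f' x'))))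
    (hfg : (g.residueFieldMap (f' x')).hom.EssFiniteType) :
    LocCoh.IsCohenMacaulayLocalRing ((f.fiber (f (g' x'))).presheaf.stalk (f.asFiber (g' x'))) ↔
      LocCoh.IsCohenMacaulayLocalRing ((f'.fiber (f' x')).presheaf.stalk (f'.asFiber x')) := by
  have haux := cm_fiber_stalk_iff_aux f f' g' g hc (f' x') (f'.asFiber x') hfg
  set φ : f'.fiber (f' x') ⟶ f.fiber (g (f' x')) :=
    pullback.map f' (Y'.fromSpecResidueField (f' x')) f (Y.fromSpecResidueField (g (f' x')))
        g' (Spec.map (g.residueFieldMap (f' x'))) g hc.w.symm (by simp) with hφdef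
  have hφι : φ ≫ f.fiberι (g (f' x')) = f'.fiberι (f' x') ≫ g' := by
    simp only [hφdef, Scheme.Hom.fiberι]
    exact pullback.lift_fst _ _ _
  have hι : f.fiberι (g (f' x')) (φ (f'.asFiber x')) = g' x' := by
    rw [← Scheme.Hom.comp_apply, hφι, Scheme.Hom.comp_apply, f'.fiberι_asFiber]
  have hy : f (g' x') = g (f' x') := by
    rw [← Scheme.Hom.comp_apply, hc.w, Scheme.Hom.comp_apply]
  exact (cm_stalk_fiber_congr f (g' x') (g (f' x')) hy (φ (f'.asFiber x')) hι).symm.trans haux

theorem flat_stalkMap_of_isPullback (hc : IsPullback g' f' f g) (x' : X')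
    (hf : (f.stalkMap (g' x')).hom.Flat) : (f'.stalkMap x').hom.Flat :=
  Groth.Agent.LD.QC.stalkMap_flat_of_isPullback hc.flip x' hf

/-- descent of flatness at a point along a base change which is flat at the image point. -/
theorem flat_stalkMap_descend (hc : IsPullback g' f' f g) (x' : X')
    (hg : (g.stalkMap (f' x')).hom.Flat) (hf' : (f'.stalkMap x').hom.Flat) :
    (f.stalkMap (g' x')).hom.Flat := by
  have hg' : (g'.stalkMap x').hom.Flat := Groth.Agent.LD.QC.stalkMap_flat_of_isPullback hc x' hg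
  have h1 : ((f' ≫ g).stalkMap x').hom.Flat := by
    have e : ((f' ≫ g).stalkMap x').hom = (f'.stalkMap x').hom.comp (g.stalkMap (f' x')).hom := by
      rw [Scheme.Hom.stalkMap_comp]; rfl
    rw [e]
    exact RingHom.Flat.comp hg hf'
  have h2 : ((g' ≫ f).stalkMap x').hom.Flat := (flat_stalkMap_congr hc.w x').mpr h1
  have e : ((g' ≫ f).stalkMap x').hom = (g'.stalkMap x').hom.comp (f.stalkMap (g' x')).hom := by
    rw [Scheme.Hom.stalkMap_comp]; rfl
  rw [e] at h2
  exact Groth.Agent.H9.FLH.ringHom_flat_of_comp _ _ hg' h2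

theorem s1345 (f : X ⟶ Y) (hN : ∀ y : Y, IsLocallyNoetherian (f.fiber y))
    (f' : X' ⟶ Y') (g' : X' ⟶ X) (g : Y' ⟶ Y) [LocallyOfFiniteType g]
    (hc : IsPullback g' f' f g) (x' : X')
    (h : MoreMor.IsCMAt f (g' x')) : MoreMor.IsCMAt f' x' :=
  ⟨flat_stalkMap_of_isPullback hc x' h.1,
    (cm_asFiber_iff hc x' (hN _)
      (Groth.Agent.H1.LocNoeth.essFiniteType_residueFieldMap g _)).mp h.2⟩

theorem s1346 (f : X ⟶ Y) (hN : ∀ y : Y, IsLocallyNoetherian (f.fiber y))
    (f' : X' ⟶ Y') (g' : X' ⟶ X) (g : Y' ⟶ Y) [LocallyOfFiniteType g]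
    (hc : IsPullback g' f' f g) (x' : X')
    (hflat : (f.stalkMap (g' x')).hom.Flat) (h : MoreMor.IsCMAt f' x') :
    MoreMor.IsCMAt f (g' x') :=
  ⟨hflat, (cm_asFiber_iff hc x' (hN _)
      (Groth.Agent.H1.LocNoeth.essFiniteType_residueFieldMap g _)).mpr h.2⟩

theorem s1347 (f : X ⟶ Y) (hN : ∀ y : Y, IsLocallyNoetherian (f.fiber y))
    (f' : X' ⟶ Y') (g' : X' ⟶ X) (g : Y' ⟶ Y) [LocallyOfFiniteType g]
    (hc : IsPullback g' f' f g) (x' : X')
    (hflat : (g.stalkMap (f' x')).hom.Flat) (h : MoreMor.IsCMAt f' x') :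
    MoreMor.IsCMAt f (g' x') :=
  ⟨flat_stalkMap_descend hc x' hflat h.1, (cm_asFiber_iff hc x' (hN _)
      (Groth.Agent.H1.LocNoeth.essFiniteType_residueFieldMap g _)).mpr h.2⟩

theorem s1407 (f : X ⟶ Y) (f' : X' ⟶ Y') (g' : X' ⟶ X) (g : Y' ⟶ Y) [Flat g]
    [LocallyOfFinitePresentation g] [Surjective g]
    (hc : IsPullback g' f' f g) :
    ((∀ y : Y, IsLocallyNoetherian (f.fiber y)) ∧ ∀ x : X, MoreMor.IsCMAt f x) ↔
      (∀ y' : Y', IsLocallyNoetherian (f'.fiber y')) ∧ ∀ x' : X', MoreMor.IsCMAt f' x' := by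
  have hLN := Groth.Agent.H1.LocNoeth.s1405 f f' g' g hc
  constructor
  · rintro ⟨h1, h2⟩
    exact ⟨hLN.mp h1, fun x' => s1345 f h1 f' g' g hc x' (h2 _)⟩
  · rintro ⟨h1, h2⟩
    have hN := hLN.mpr h1
    refine ⟨hN, fun x => ?_⟩
    haveI : Surjective g' := MorphismProperty.of_isPullback (P := @Surjective) hc.flip inferInstance
    obtain ⟨x', rfl⟩ := g'.surjective x
    exact s1347 f hN f' g' g hc x' (Flat.stalkMap g _) (h2 x')



set_option backward.isDefEq.respectTransparency false in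
/-- Cohen–Macaulayness of the local rings of the fibres under arbitrary base change, for
morphisms locally of finite type. -/
theorem cm_fiber_stalk_iff_aux' {X Y X' Y' : Scheme.{u}} (f : X ⟶ Y) (f' : X' ⟶ Y') (g' : X' ⟶ X)
    (g : Y' ⟶ Y) [LocallyOfFiniteType f] (hc : IsPullback g' f' f g) (y' : Y')
    (a' : f'.fiber y') :
    LocCoh.IsCohenMacaulayLocalRing ((f.fiber (g y')).presheaf.stalk
      ((pullback.map f' (Y'.fromSpecResidueField y') f (Y.fromSpecResidueField (g y'))
        g' (Spec.map (g.residueFieldMap y')) g hc.w.symm (by simp)) a')) ↔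
      LocCoh.IsCohenMacaulayLocalRing ((f'.fiber y').presheaf.stalk a') := by
  have hφ := isPullback_fiberToSpecResidueField_of_isPullback hc y'
  set φ : f'.fiber y' ⟶ f.fiber (g y') :=
    pullback.map f' (Y'.fromSpecResidueField y') f (Y.fromSpecResidueField (g y'))
        g' (Spec.map (g.residueFieldMap y')) g hc.w.symm (by simp) with hφdef
  letI alg : Algebra ↑(Y.residueField (g y')) ↑(Y'.residueField y') :=
    (g.residueFieldMap y').hom.toAlgebra
  letI ov : (f.fiber (g y')).Over (Spec (CommRingCat.of ↑(Y.residueField (g y')))) :=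
    ⟨f.fiberToSpecResidueField (g y')⟩
  haveI : LocallyOfFiniteType
      ((f.fiber (g y')) ↘ (Spec (CommRingCat.of ↑(Y.residueField (g y'))))) := by
    show LocallyOfFiniteType (pullback.snd f (Y.fromSpecResidueField (g y')))
    infer_instance
  let e := hφ.isoPullback
  have he : e.hom ≫ pullback.fst _ _ = φ := hφ.isoPullback_hom_fst
  have key := Groth.Agent.H1.BCStalk.s7609 ↑(Y.residueField (g y')) (f.fiber (g y'))
    ↑(Y'.residueField y') (e.hom a')
  have hpt : (Curv2.bcFst ↑(Y.residueField (g y')) (f.fiber (g y')) ↑(Y'.residueField y'))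
      (e.hom a') = φ a' := by
    rw [← he]; rfl
  rw [hpt] at key
  exact key.trans (cm_stalk_iff_of_iso e a')

variable {X Y X' Y' : Scheme.{u}} {f : X ⟶ Y} {f' : X' ⟶ Y'} {g' : X' ⟶ X} {g : Y' ⟶ Y}

set_option backward.isDefEq.respectTransparency false in
theorem cm_asFiber_iff' [LocallyOfFiniteType f] (hc : IsPullback g' f' f g) (x' : X') :
    LocCoh.IsCohenMacaulayLocalRing ((f.fiber (f (g' x'))).presheaf.stalk (f.asFiber (g' x'))) ↔
      LocCoh.IsCohenMacaulayLocalRing ((f'.fiber (f' x')).presheaf.stalk (f'.asFiber x')) := by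
  have haux := cm_fiber_stalk_iff_aux' f f' g' g hc (f' x') (f'.asFiber x')
  set φ : f'.fiber (f' x') ⟶ f.fiber (g (f' x')) :=
    pullback.map f' (Y'.fromSpecResidueField (f' x')) f (Y.fromSpecResidueField (g (f' x')))
        g' (Spec.map (g.residueFieldMap (f' x'))) g hc.w.symm (by simp) with hφdef
  have hφι : φ ≫ f.fiberι (g (f' x')) = f'.fiberι (f' x') ≫ g' := by
    simp only [hφdef, Scheme.Hom.fiberι]
    exact pullback.lift_fst _ _ _
  have hι : f.fiberι (g (f' x')) (φ (f'.asFiber x')) = g' x' := by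
    rw [← Scheme.Hom.comp_apply, hφι, Scheme.Hom.comp_apply, f'.fiberι_asFiber]
  have hy : f (g' x') = g (f' x') := by
    rw [← Scheme.Hom.comp_apply, hc.w, Scheme.Hom.comp_apply]
  exact (cm_stalk_fiber_congr f (g' x') (g (f' x')) hy (φ (f'.asFiber x')) hι).symm.trans haux

theorem s1342 {X S X' S' : Scheme.{u}} (f : X ⟶ S) [Flat f] [LocallyOfFinitePresentation f]
    (f' : X' ⟶ S') (g' : X' ⟶ X) (g : S' ⟶ S) (hc : IsPullback g' f' f g) :
    {x' : ↑X' | MoreMor.IsCMAt f' x'} = g' ⁻¹' {x : ↑X | MoreMor.IsCMAt f x} := by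
  haveI : Flat f' := MorphismProperty.of_isPullback (P := @Flat) hc inferInstance
  ext x'
  simp only [Set.mem_ofPred_eq, Set.mem_preimage]
  constructor
  · intro h
    exact ⟨Flat.stalkMap f _, (cm_asFiber_iff' hc x').mpr h.2⟩
  · intro h
    exact ⟨Flat.stalkMap f' _, (cm_asFiber_iff' hc x').mp h.2⟩

end Groth.Agent.H1.CMBC
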