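import Mathlib
import Groth.Agent.Lib.Helper1.RegCompl
import Groth.Agent.Lib.Helper1.FlatDim
import Groth.Agent.Lib.Helper6.CMKit
import Groth.Agent.S2062

/-! Helper1: the adic completion of a Noetherian local ring along a proper ideal: local,
Noetherian, faithfully flat with trivial closed fibre; depth and dimension are preserved. -/

set_option autoImplicit false

universe u

open IsLocalRing TensorProduct

namespace Groth.Agent.H1.ComplDepth

section Fiber

/-- A nonzero cyclic module `T/J` with `dim T/J = 0` has depth zero. -/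
theorem depth_fiber_eq_zero {T : Type u} [CommRing T] [IsLocalRing T] [IsNoetherianRing T]
    (J : Ideal T) (hJ : J ≠ ⊤) (hdim : ringKrullDim (T ⧸ J) = 0) :
    LocCoh.depth T (T ⧸ (J • ⊤ : Submodule T T)) = 0 := by
  have hJeq : (J • ⊤ : Submodule T T) = J := by rw [smul_eq_mul, Ideal.mul_top]
  have he : LocCoh.depth T (T ⧸ (J • ⊤ : Submodule T T)) = LocCoh.depth T (T ⧸ J) :=
    Groth.Agent.H6.CM.idealDepth_eq_of_linearEquiv _ (Submodule.quotEquivOfEq _ _ hJeq)
  rw [he]
  haveI : Nontrivial (T ⧸ J) := Ideal.Quotient.nontrivial_iff.mpr hJ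
  obtain ⟨P, hP⟩ := associatedPrimes.nonempty T (T ⧸ J)
  have h1 := Groth.Agent.H6.CM.depth_le_ringKrullDim_quotient (T ⧸ J) P hP
  have hJP : J ≤ P := by
    have := Groth.Agent.H6.CM.annihilator_le_of_mem_associatedPrimes hP
    rwa [Ideal.annihilator_quotient] at this
  have h2 : ringKrullDim (T ⧸ P) ≤ ringKrullDim (T ⧸ J) :=
    ringKrullDim_le_of_surjective (Ideal.Quotient.factor hJP) (Ideal.Quotient.factor_surjective hJP)
  rw [hdim] at h2
  have h3 := h1.trans h2
  have h4 : ((LocCoh.depth T (T ⧸ J) : ℕ∞) : WithBot ℕ∞) ≤ ((0 : ℕ∞) : WithBot ℕ∞) := by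
    exact_mod_cast h3
  have h5 : LocCoh.depth T (T ⧸ J) ≤ 0 := by exact_mod_cast h4
  exact le_antisymm h5 zero_le

/-- For a flat local homomorphism `A → B` of Noetherian local rings whose closed fibre has
dimension zero, `depth B = depth A` and `dim B = dim A`. -/
theorem depth_dim_eq_of_fiber_dim_zero (A B : Type u) [CommRing A] [CommRing B] [IsLocalRing A]
    [IsLocalRing B] [IsNoetherianRing A] [IsNoetherianRing B] [Algebra A B]
    [IsLocalHom (algebraMap A B)] [Module.Flat A B]
    (h0 : ringKrullDim (B ⧸ (maximalIdeal A).map (algebraMap A B)) = 0) :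
    LocCoh.depth B B = LocCoh.depth A A ∧ ringKrullDim B = ringKrullDim A := by
  constructor
  · have h1 := Groth.Agent.S2062.result (R := A) (S := B) (M := A) (N := B)
    rw [depth_fiber_eq_zero _ (Groth.Agent.H1.FlatDim.map_maximalIdeal_ne_top A B) h0,
      add_zero] at h1
    rw [← h1]
    exact (Groth.Agent.H6.CM.idealDepth_eq_of_linearEquiv _
      (TensorProduct.AlgebraTensorModule.rid A B B)).symm
  · rw [Groth.Agent.H1.FlatDim.ringKrullDim_eq_add_fiber_of_flat A B, h0, add_zero]

/-- Cohen–Macaulayness transfers in both directions along a flat local homomorphism with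
zero-dimensional closed fibre. -/
theorem isCohenMacaulayLocalRing_iff_of_fiber_dim_zero (A B : Type u) [CommRing A] [CommRing B]
    [IsLocalRing A] [IsLocalRing B] [IsNoetherianRing A] [IsNoetherianRing B] [Algebra A B]
    [IsLocalHom (algebraMap A B)] [Module.Flat A B]
    (h0 : ringKrullDim (B ⧸ (maximalIdeal A).map (algebraMap A B)) = 0) :
    LocCoh.IsCohenMacaulayLocalRing A ↔ LocCoh.IsCohenMacaulayLocalRing B := by
  obtain ⟨h1, h2⟩ := depth_dim_eq_of_fiber_dim_zero A B h0
  constructor
  · intro hA
    refine { supportDim_eq_depth := ?_ }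
    rw [Module.supportDim_self_eq_ringKrullDim, h2, h1, ← Module.supportDim_self_eq_ringKrullDim]
    exact hA.supportDim_eq_depth
  · intro hB
    refine { supportDim_eq_depth := ?_ }
    rw [Module.supportDim_self_eq_ringKrullDim, ← h2, ← h1,
      ← Module.supportDim_self_eq_ringKrullDim]
    exact hB.supportDim_eq_depth

end Fiber

section Compl

variable (A : Type u) [CommRing A] [IsLocalRing A] [IsNoetherianRing A] (I : Ideal A)

theorem nontrivial_adicCompletion (hI : I ≠ ⊤) : Nontrivial (AdicCompletion I A) := by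
  let f : AdicCompletion I A →+* A ⧸ I ^ 1 := (AdicCompletion.evalₐ I 1).toRingHom
  haveI : Nontrivial (A ⧸ I ^ 1) := by
    apply Ideal.Quotient.nontrivial_iff.mpr
    rw [pow_one]
    exact hI
  exact f.domain_nontrivial

theorem unique_maximal (n : Ideal (AdicCompletion I A)) [hn : n.IsMaximal] :
    n = (maximalIdeal A).map (algebraMap A (AdicCompletion I A)) := by
  obtain ⟨m, hm, -, hnm⟩ := Groth.Agent.H1.Reg.exists_maximal_map_eq_of_adicCompletion A I n
  rw [hnm, IsLocalRing.eq_maximalIdeal hm]

theorem isLocalRing_adicCompletion (hI : I ≠ ⊤) : IsLocalRing (AdicCompletion I A) := by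
  haveI := nontrivial_adicCompletion A I hI
  obtain ⟨n, hn⟩ := Ideal.exists_maximal (AdicCompletion I A)
  apply IsLocalRing.of_unique_max_ideal
  refine ⟨n, hn, ?_⟩
  intro n' hn'
  haveI := hn'
  rw [unique_maximal A I n', unique_maximal A I n]

theorem map_maximalIdeal_eq [IsLocalRing (AdicCompletion I A)] :
    (maximalIdeal A).map (algebraMap A (AdicCompletion I A)) =
      maximalIdeal (AdicCompletion I A) :=
  (unique_maximal A I (maximalIdeal (AdicCompletion I A))).symm

theorem isLocalHom_adicCompletion [IsLocalRing (AdicCompletion I A)] :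
    IsLocalHom (algebraMap A (AdicCompletion I A)) :=
  ((IsLocalRing.local_hom_TFAE (algebraMap A (AdicCompletion I A))).out 0 2 rfl rfl).mpr
    (map_maximalIdeal_eq A I).le

theorem ringKrullDim_fiber_eq_zero [IsLocalRing (AdicCompletion I A)] :
    ringKrullDim (AdicCompletion I A ⧸
      (maximalIdeal A).map (algebraMap A (AdicCompletion I A))) = 0 := by
  rw [map_maximalIdeal_eq A I]
  exact ringKrullDim_eq_zero_of_isField
    ((Ideal.Quotient.maximal_ideal_iff_isField_quotient _).mp (maximalIdeal.isMaximal _))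

end Compl

end Groth.Agent.H1.ComplDepth
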