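import Mathlib
import Groth.Prelude.Def_MoreMor
import Groth.Agent.Lib.Helper1.FibreStalk
import Groth.Agent.Lib.Helper1.CritFib1

/-!
# Critère de platitude par fibres: scheme-level translation
-/

set_option autoImplicit false

universe u

open TensorProduct Function CategoryTheory CategoryTheory.Limits AlgebraicGeometry

namespace Groth.Agent.H1.CritFib

open Groth.Agent.H1.FibreStalk

/-- The local ring of a finitely presented algebra at a prime is essentially of finite presentation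
over the local ring of the base at the contracted prime. -/
theorem exists_essFP_of_atPrime {C D S S' : Type u} [CommRing C] [CommRing D] [CommRing S]
    [CommRing S'] [Algebra C D] [Algebra.FinitePresentation C D] [Algebra C S] [Algebra D S']
    [Algebra S S'] [Algebra C S'] [IsScalarTower C S S'] [IsScalarTower C D S']
    (p : Ideal C) [p.IsPrime] [IsLocalization.AtPrime S p] (q : Ideal D) [q.IsPrime]
    [IsLocalization.AtPrime S' q] (hpq : p.primeCompl ≤ q.primeCompl.comap (algebraMap C D)) :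
    ∃ (S₀' : Type u) (_ : CommRing S₀') (_ : Algebra S S₀') (_ : Algebra S₀' S')
      (_ : IsScalarTower S S₀' S') (Mon : Submonoid S₀'),
      Algebra.FinitePresentation S S₀' ∧ IsLocalization Mon S' := by
  let Φ : S ⊗[C] D →ₐ[S] S' :=
    Algebra.TensorProduct.lift (Algebra.ofId S S') (IsScalarTower.toAlgHom C D S')
      (fun _ _ => Commute.all _ _)
  letI algT : Algebra (S ⊗[C] D) S' := Φ.toRingHom.toAlgebra
  haveI tow : IsScalarTower S (S ⊗[C] D) S' :=
    IsScalarTower.of_algebraMap_eq fun s => (Φ.commutes s).symm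
  letI algD : Algebra D (S ⊗[C] D) := Algebra.TensorProduct.rightAlgebra
  haveI towD : IsScalarTower D (S ⊗[C] D) S' := IsScalarTower.of_algebraMap_eq fun d => by
    change algebraMap D S' d = Φ ((1 : S) ⊗ₜ[C] d)
    rw [Algebra.TensorProduct.lift_tmul]
    simp
  haveI loc1 : IsLocalization (Algebra.algebraMapSubmonoid D p.primeCompl) (S ⊗[C] D) :=
    IsLocalization.tensorRight (R := C) (S := D) S p.primeCompl
  have hle : Algebra.algebraMapSubmonoid D p.primeCompl ≤ q.primeCompl := by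
    rintro _ ⟨c, hc, rfl⟩
    exact hpq hc
  have loc2 : IsLocalization (q.primeCompl.map (algebraMap D (S ⊗[C] D))) S' :=
    IsLocalization.isLocalization_of_submonoid_le (S ⊗[C] D) S'
      (Algebra.algebraMapSubmonoid D p.primeCompl) q.primeCompl hle
  exact ⟨S ⊗[C] D, inferInstance, inferInstance, algT, tow, _, inferInstance, loc2⟩


theorem exists_essFP_stalkMap {X Y : Scheme.{u}} (f : X ⟶ Y) [LocallyOfFinitePresentation f]
    (x : X) :
    letI := (f.stalkMap x).hom.toAlgebra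
    ∃ (S₀' : Type u) (_ : CommRing S₀') (_ : Algebra (Y.presheaf.stalk (f x)) S₀')
      (_ : Algebra S₀' (X.presheaf.stalk x))
      (_ : IsScalarTower (Y.presheaf.stalk (f x)) S₀' (X.presheaf.stalk x)) (Mon : Submonoid S₀'),
      Algebra.FinitePresentation (Y.presheaf.stalk (f x)) S₀' ∧
        IsLocalization Mon (X.presheaf.stalk x) := by
  letI algSS' : Algebra (Y.presheaf.stalk (f x)) (X.presheaf.stalk x) :=
    (f.stalkMap x).hom.toAlgebra
  obtain ⟨V, hV, hfxV⟩ : ∃ V : Y.Opens, IsAffineOpen V ∧ f x ∈ V := by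
    obtain ⟨_, ⟨V, hV, rfl⟩, h, -⟩ := Y.isBasis_affineOpens.exists_subset_of_mem_open
      (Set.mem_univ (f x)) isOpen_univ
    exact ⟨V, hV, h⟩
  obtain ⟨U, hU, hxU, hUV⟩ : ∃ U : X.Opens, IsAffineOpen U ∧ x ∈ U ∧ U ≤ f ⁻¹ᵁ V := by
    have h0 : x ∈ f ⁻¹ᵁ V := hfxV
    obtain ⟨_, ⟨U, hU, rfl⟩, h, h'⟩ := X.isBasis_affineOpens.exists_subset_of_mem_open
      h0 (f ⁻¹ᵁ V).2
    exact ⟨U, hU, h, h'⟩
  have hfp : (f.appLE V U hUV).hom.FinitePresentation := f.finitePresentation_appLE hV hU hUV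
  letI algCD : Algebra Γ(Y, V) Γ(X, U) := (f.appLE V U hUV).hom.toAlgebra
  haveI : Algebra.FinitePresentation Γ(Y, V) Γ(X, U) := hfp
  letI algCS : Algebra Γ(Y, V) (Y.presheaf.stalk (f x)) :=
    Y.presheaf.algebra_section_stalk ⟨f x, hfxV⟩
  letI algDS' : Algebra Γ(X, U) (X.presheaf.stalk x) := X.presheaf.algebra_section_stalk ⟨x, hxU⟩
  letI algCS' : Algebra Γ(Y, V) (X.presheaf.stalk x) :=
    ((f.stalkMap x).hom.comp (Y.presheaf.germ V (f x) hfxV).hom).toAlgebra
  haveI tow1 : IsScalarTower Γ(Y, V) (Y.presheaf.stalk (f x)) (X.presheaf.stalk x) :=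
    IsScalarTower.of_algebraMap_eq fun _ => rfl
  haveI tow2 : IsScalarTower Γ(Y, V) Γ(X, U) (X.presheaf.stalk x) :=
    IsScalarTower.of_algebraMap_eq fun c => by
      change (f.stalkMap x).hom ((Y.presheaf.germ V (f x) hfxV).hom c) =
        (X.presheaf.germ U x hxU).hom ((f.appLE V U hUV).hom c)
      simp only [Scheme.Hom.appLE, homOfLE_leOfHom, CommRingCat.hom_comp, RingHom.coe_comp,
        Function.comp_apply]
      erw [Scheme.Hom.germ_stalkMap_apply, X.presheaf.germ_res_apply]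
  haveI locS := hV.isLocalization_stalk ⟨f x, hfxV⟩
  haveI locS' := hU.isLocalization_stalk ⟨x, hxU⟩
  have hpq : (hV.primeIdealOf ⟨f x, hfxV⟩).asIdeal.primeCompl ≤
      (hU.primeIdealOf ⟨x, hxU⟩).asIdeal.primeCompl.comap (algebraMap Γ(Y, V) Γ(X, U)) := by
    intro c hc hc'
    apply hc
    have := IsAffineOpen.comap_primeIdealOf_appLE (f := f) V hV U hU hUV hxU
    rw [← this]
    exact hc'
  exact exists_essFP_of_atPrime (C := Γ(Y, V)) (D := Γ(X, U)) (S := Y.presheaf.stalk (f x))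
    (S' := X.presheaf.stalk x) (hV.primeIdealOf ⟨f x, hfxV⟩).asIdeal
    (hU.primeIdealOf ⟨x, hxU⟩).asIdeal hpq


theorem finitePresentation_stableUnderCompositionWithLocalizationAwaySource :
    RingHom.StableUnderCompositionWithLocalizationAwaySource @RingHom.FinitePresentation := by
  intro R S T _ _ _ _ r _ f hf
  refine hf.comp ?_
  rw [RingHom.finitePresentation_algebraMap]
  exact IsLocalization.Away.finitePresentation r

theorem locallyOfFinitePresentation_of_comp {X Y S : Scheme.{u}} (f : X ⟶ Y) (g : Y ⟶ S)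
    [LocallyOfFinitePresentation (f ≫ g)] [LocallyOfFiniteType g] :
    LocallyOfFinitePresentation f := by
  rw [HasRingHomProperty.iff_exists_appLE (P := @LocallyOfFinitePresentation)
    finitePresentation_stableUnderCompositionWithLocalizationAwaySource]
  intro x
  obtain ⟨W, hW, hsW⟩ : ∃ W : S.Opens, IsAffineOpen W ∧ g (f x) ∈ W := by
    obtain ⟨_, ⟨W, hW, rfl⟩, h, -⟩ := S.isBasis_affineOpens.exists_subset_of_mem_open
      (Set.mem_univ (g (f x))) isOpen_univ
    exact ⟨W, hW, h⟩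
  obtain ⟨V, hV, hyV, hVW⟩ : ∃ V : Y.Opens, IsAffineOpen V ∧ f x ∈ V ∧ V ≤ g ⁻¹ᵁ W := by
    have h0 : f x ∈ g ⁻¹ᵁ W := hsW
    obtain ⟨_, ⟨V, hV, rfl⟩, h, h'⟩ := Y.isBasis_affineOpens.exists_subset_of_mem_open
      h0 (g ⁻¹ᵁ W).2
    exact ⟨V, hV, h, h'⟩
  obtain ⟨U, hU, hxU, hUV⟩ : ∃ U : X.Opens, IsAffineOpen U ∧ x ∈ U ∧ U ≤ f ⁻¹ᵁ V := by
    have h0 : x ∈ f ⁻¹ᵁ V := hyV
    obtain ⟨_, ⟨U, hU, rfl⟩, h, h'⟩ := X.isBasis_affineOpens.exists_subset_of_mem_open
      h0 (f ⁻¹ᵁ V).2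
    exact ⟨U, hU, h, h'⟩
  refine ⟨⟨V, hV⟩, ⟨U, hU⟩, hxU, hUV, ?_⟩
  have hUW : U ≤ (f ≫ g) ⁻¹ᵁ W := fun z hz => hVW (hUV hz)
  have h1 : ((f ≫ g).appLE W U hUW).hom.FinitePresentation :=
    (f ≫ g).finitePresentation_appLE hW hU hUW
  have h2 : (g.appLE W V hVW).hom.FiniteType := g.finiteType_appLE hW hV hVW
  have h3 : (f ≫ g).appLE W U hUW = g.appLE W V hVW ≫ f.appLE V U hUV :=
    (Scheme.Hom.appLE_comp_appLE f g W V U hVW hUV).symm
  rw [h3] at h1
  exact RingHom.FinitePresentation.of_comp_finiteType _ h1 h2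


theorem fiberMap_fiberι {X Y S : Scheme.{u}} (f : X ⟶ Y) (g : Y ⟶ S) (s : S) :
    MoreMor.fiberMap f g s ≫ g.fiberι s = (f ≫ g).fiberι s ≫ f := by
  dsimp only [MoreMor.fiberMap, Scheme.Hom.fiberι]
  exact pullback.lift_fst _ _ _

theorem fiberMap_asFiber {X Y S : Scheme.{u}} (f : X ⟶ Y) (g : Y ⟶ S) (x : X) :
    (MoreMor.fiberMap f g (g (f x))) ((f ≫ g).asFiber x) = g.asFiber (f x) := by
  apply (g.fiberι (g (f x))).isEmbedding.injective
  rw [g.fiberι_asFiber, ← Scheme.Hom.comp_apply, fiberMap_fiberι, Scheme.Hom.comp_apply]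
  congr 1
  exact (f ≫ g).fiberι_asFiber x

theorem sS2 {X : Scheme.{u}} {p₁ p₂ p₃ : X} (h₁ : p₂ ⤳ p₁) (h₂ : p₃ ⤳ p₂) (h₃ : p₃ ⤳ p₁) :
    X.presheaf.stalkSpecializes h₁ ≫ X.presheaf.stalkSpecializes h₂ =
      X.presheaf.stalkSpecializes h₃ := by
  rw [TopCat.Presheaf.stalkSpecializes_comp]

theorem fibre_square {X Y S : Scheme.{u}} (f : X ⟶ Y) (g : Y ⟶ S) (x : X) :
    ((MoreMor.fiberMap f g (g (f x))).stalkMap ((f ≫ g).asFiber x)).hom.comp
      ((((g.fiber (g (f x))).presheaf.stalkCongr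
        (.of_eq (fiberMap_asFiber f g x).symm)).hom.hom).comp (toFiberStalk g (f x))) =
    (toFiberStalk (f ≫ g) x).comp (f.stalkMap x).hom := by
  set s := g (f x) with hs
  set φ := MoreMor.fiberMap f g s with hφ
  set x' := (f ≫ g).asFiber x with hx'
  set y'' := g.asFiber (f x) with hy''
  have hz : ((f ≫ g).fiberι s) x' = x := (f ≫ g).fiberι_asFiber x
  have hw : (g.fiberι s) y'' = f x := g.fiberι_asFiber (f x)
  have hyy : φ x' = y'' := fiberMap_asFiber f g x
  -- right hand side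
  have R1 := Scheme.Hom.stalkMap_congr_point f x (((f ≫ g).fiberι s) x') hz.symm
  have R2 := Scheme.Hom.stalkMap_comp ((f ≫ g).fiberι s) f x'
  have R3 := Scheme.Hom.stalkMap_congr_hom _ _ (fiberMap_fiberι f g s).symm x'
  have R4 := Scheme.Hom.stalkMap_comp φ (g.fiberι s) x'
  -- left hand side
  have L1 := Scheme.Hom.stalkMap_congr_point (g.fiberι s) y'' (φ x') hyy.symm
  have p1 : f x = f (((f ≫ g).fiberι s) x') := congrArg f hz.symm
  have p2 : ((f ≫ g).fiberι s ≫ f) x' = (φ ≫ g.fiberι s) x' := by rw [fiberMap_fiberι]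
  have p3 : f x = (g.fiberι s) y'' := hw.symm
  have p4 : (g.fiberι s) y'' = (g.fiberι s) (φ x') := congrArg (g.fiberι s) hyy.symm
  have keyR : f.stalkMap x ≫ (X.presheaf.stalkCongr (.of_eq hz.symm)).hom ≫
      ((f ≫ g).fiberι s).stalkMap x' =
      ((Y.presheaf.stalkCongr (.of_eq p1)).hom ≫ (Y.presheaf.stalkCongr (.of_eq p2)).hom) ≫
        (g.fiberι s).stalkMap (φ x') ≫ φ.stalkMap x' := by
    rw [← Category.assoc, R1, Category.assoc, ← R2, R3, R4]
    simp only [Category.assoc]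
    rfl
  have keyL : ((Y.presheaf.stalkCongr (.of_eq p3)).hom ≫ (g.fiberι s).stalkMap y'') ≫
      ((g.fiber s).presheaf.stalkCongr (.of_eq hyy.symm)).hom ≫ φ.stalkMap x' =
      ((Y.presheaf.stalkCongr (.of_eq p3)).hom ≫ (Y.presheaf.stalkCongr (.of_eq p4)).hom) ≫
        (g.fiberι s).stalkMap (φ x') ≫ φ.stalkMap x' := by
    rw [Category.assoc, ← Category.assoc ((g.fiberι s).stalkMap y''), L1]
    simp only [Category.assoc]
  have hcongr : ((Y.presheaf.stalkCongr (.of_eq p1)).hom ≫ (Y.presheaf.stalkCongr (.of_eq p2)).hom) =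
      ((Y.presheaf.stalkCongr (.of_eq p3)).hom ≫ (Y.presheaf.stalkCongr (.of_eq p4)).hom) := by
    have hsp : (g.fiberι s) (φ x') ⤳ f x := (Inseparable.of_eq (p3.trans p4).symm).specializes
    exact (sS2 (Inseparable.of_eq p1).ge (Inseparable.of_eq p2).ge hsp).trans
      (sS2 (Inseparable.of_eq p3).ge (Inseparable.of_eq p4).ge hsp).symm
  have key := keyR.trans ((congrArg (· ≫ (g.fiberι s).stalkMap (φ x') ≫ φ.stalkMap x') hcongr).trans
    keyL.symm)
  have := congrArg CommRingCat.Hom.hom key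
  exact this.symm


/-- **Critère de platitude par fibres**, pointwise scheme form for the structure sheaf. -/
theorem crit_stalk_iff {X Y S : Scheme.{u}} (f : X ⟶ Y) (g : Y ⟶ S)
    [LocallyOfFinitePresentation (f ≫ g)] [LocallyOfFiniteType g] (x : X) :
    ((f ≫ g).stalkMap x).hom.Flat ∧
      ((MoreMor.fiberMap f g (g (f x))).stalkMap ((f ≫ g).asFiber x)).hom.Flat ↔
        (g.stalkMap (f x)).hom.Flat ∧ (f.stalkMap x).hom.Flat := by
  haveI : LocallyOfFinitePresentation f := locallyOfFinitePresentation_of_comp f g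
  letI algRS : Algebra (S.presheaf.stalk (g (f x))) (Y.presheaf.stalk (f x)) :=
    (g.stalkMap (f x)).hom.toAlgebra
  letI algSS' : Algebra (Y.presheaf.stalk (f x)) (X.presheaf.stalk x) :=
    (f.stalkMap x).hom.toAlgebra
  letI algRS' : Algebra (S.presheaf.stalk (g (f x))) (X.presheaf.stalk x) :=
    ((f ≫ g).stalkMap x).hom.toAlgebra
  haveI tow : IsScalarTower (S.presheaf.stalk (g (f x))) (Y.presheaf.stalk (f x))
      (X.presheaf.stalk x) := IsScalarTower.of_algebraMap_eq fun r => by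
    change ((f ≫ g).stalkMap x).hom r = (f.stalkMap x).hom ((g.stalkMap (f x)).hom r)
    rw [Scheme.Hom.stalkMap_comp]
    rfl
  haveI loc1 : IsLocalHom (algebraMap (S.presheaf.stalk (g (f x))) (Y.presheaf.stalk (f x))) :=
    show IsLocalHom (g.stalkMap (f x)).hom from inferInstance
  haveI loc2 : IsLocalHom (algebraMap (Y.presheaf.stalk (f x)) (X.presheaf.stalk x)) :=
    show IsLocalHom (f.stalkMap x).hom from inferInstance
  obtain ⟨S₀', _, _, _, _, Mon, hfp, hloc⟩ := exists_essFP_stalkMap f x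
  have hsq := fibre_square f g x
  refine crit_iff (R := S.presheaf.stalk (g (f x))) (S := Y.presheaf.stalk (f x))
    (S₀' := S₀') (S' := X.presheaf.stalk x) Mon
    ((((g.fiber (g (f x))).presheaf.stalkCongr
        (.of_eq (fiberMap_asFiber f g x).symm)).hom.hom).comp (toFiberStalk g (f x)))
    (toFiberStalk (f ≫ g) x)
    ((MoreMor.fiberMap f g (g (f x))).stalkMap ((f ≫ g).asFiber x)).hom ?_
    (toFiberStalk_surjective (f ≫ g) x) ?_ ?_ hsq
  · rw [RingHom.coe_comp]
    refine Function.Surjective.comp ?_ (toFiberStalk_surjective g (f x))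
    exact (((g.fiber (g (f x))).presheaf.stalkCongr
      (.of_eq (fiberMap_asFiber f g x).symm)).commRingCatIsoToRingEquiv).surjective
  · have hk := ker_toFiberStalk g (f x)
    change RingHom.ker _ = Ideal.map (g.stalkMap (f x)).hom _
    rw [← hk]
    ext t
    rw [RingHom.mem_ker, RingHom.mem_ker, RingHom.comp_apply]
    exact map_eq_zero_iff _ (((g.fiber (g (f x))).presheaf.stalkCongr
      (.of_eq (fiberMap_asFiber f g x).symm)).commRingCatIsoToRingEquiv).injective
  · exact ker_toFiberStalk (f ≫ g) x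

end Groth.Agent.H1.CritFib
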