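import Mathlib
import Groth.Prelude.Def_MoreMor
import Groth.Agent.Lib.Helper1.CritFib2

/-!
# Fibrewise criteria: fibre maps as base changes
-/

set_option autoImplicit false

universe u

open TensorProduct Function CategoryTheory CategoryTheory.Limits AlgebraicGeometry

namespace Groth.Agent.H1.CritFib

theorem fiberMap_fiberToSpecResidueField {X Y S : Scheme.{u}} (f : X ⟶ Y) (g : Y ⟶ S) (s : S) :
    MoreMor.fiberMap f g s ≫ g.fiberToSpecResidueField s =
      (f ≫ g).fiberToSpecResidueField s := by
  dsimp only [MoreMor.fiberMap, Scheme.Hom.fiberToSpecResidueField]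
  exact pullback.lift_snd _ _ _

/-- the fibre of `X → S` is the base change of `X → Y` to the fibre of `Y → S` -/
theorem isPullback_fiberMap {X Y S : Scheme.{u}} (f : X ⟶ Y) (g : Y ⟶ S) (s : S) :
    IsPullback ((f ≫ g).fiberι s) (MoreMor.fiberMap f g s) f (g.fiberι s) := by
  have P1 : IsPullback ((f ≫ g).fiberι s) ((f ≫ g).fiberToSpecResidueField s) (f ≫ g)
      (S.fromSpecResidueField s) := IsPullback.of_hasPullback _ _
  have Q1 : IsPullback (g.fiberι s) (g.fiberToSpecResidueField s) g
      (S.fromSpecResidueField s) := IsPullback.of_hasPullback _ _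
  refine (IsPullback.of_right ?_ (fiberMap_fiberι f g s) Q1.flip).flip
  rw [fiberMap_fiberToSpecResidueField]
  exact P1.flip

theorem fiberMap_eq {X Y S : Scheme.{u}} (f : X ⟶ Y) (g : Y ⟶ S) (s : S) :
    MoreMor.fiberMap f g s =
      (isPullback_fiberMap f g s).isoPullback.hom ≫ pullback.snd f (g.fiberι s) :=
  ((isPullback_fiberMap f g s).isoPullback_hom_snd).symm

/-- the canonical map from the spectrum of the residue field of `y` to the fibre of `g` through
`y` -/
noncomputable def toFiberOfPoint {Y S : Scheme.{u}} (g : Y ⟶ S) (y : Y) :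
    Spec (Y.residueField y) ⟶ g.fiber (g y) :=
  pullback.lift (Y.fromSpecResidueField y) (Spec.map (g.residueFieldMap y))
    (Scheme.Hom.SpecMap_residueFieldMap_fromSpecResidueField g y).symm

theorem toFiberOfPoint_fiberι {Y S : Scheme.{u}} (g : Y ⟶ S) (y : Y) :
    toFiberOfPoint g y ≫ g.fiberι (g y) = Y.fromSpecResidueField y :=
  pullback.lift_fst _ _ _

/-- the fibre of `f` over `y` is a base change of the fibre map `X_s → Y_s`, `s = g y`. -/
theorem fiberToSpecResidueField_of_snd (P : MorphismProperty Scheme.{u}) [P.IsStableUnderBaseChange]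
    {X Y S : Scheme.{u}} (f : X ⟶ Y) (g : Y ⟶ S) (y : Y)
    (h : P (pullback.snd f (g.fiberι (g y)))) : P (f.fiberToSpecResidueField y) := by
  have P1 : IsPullback (f.fiberι y) (f.fiberToSpecResidueField y) f
      (Y.fromSpecResidueField y) := IsPullback.of_hasPullback _ _
  have P2 : IsPullback (pullback.fst f (g.fiberι (g y))) (pullback.snd f (g.fiberι (g y))) f
      (g.fiberι (g y)) := IsPullback.of_hasPullback _ _
  have P3 := IsPullback.of_bot' (h₂₁ := pullback.snd f (g.fiberι (g y)))
    (v₂₂ := g.fiberι (g y)) (v₁₂ := toFiberOfPoint g y)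
    (h₁₁ := f.fiberToSpecResidueField y) (v₃₁ := f.fiberι y) (h₃₁ := f) (v₂₁ := pullback.fst f (g.fiberι (g y)))
    (by rw [toFiberOfPoint_fiberι]; exact P1.flip) P2.flip
  exact P.of_isPullback P3.flip h


/-- if `X → S` is flat at `x` and the fibre map `X ×_Y Y_s → Y_s` is flat, then `Y → S` is flat at
`f x` and `f` is flat at `x` -/
theorem flat_stalkMap_of_flat_snd {X Y S : Scheme.{u}} (f : X ⟶ Y) (g : Y ⟶ S)
    [LocallyOfFinitePresentation (f ≫ g)] [LocallyOfFiniteType g] (x : X)
    (hflat : ((f ≫ g).stalkMap x).hom.Flat) [Flat (pullback.snd f (g.fiberι (g (f x))))] :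
    (g.stalkMap (f x)).hom.Flat ∧ (f.stalkMap x).hom.Flat := by
  refine (crit_stalk_iff f g x).mp ⟨hflat, ?_⟩
  haveI : Flat (MoreMor.fiberMap f g (g (f x))) := by
    rw [fiberMap_eq]
    infer_instance
  exact Flat.stalkMap _ _

end Groth.Agent.H1.CritFib
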