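import Mathlib
import Groth.Agent.Lib.Helper1.DimLocC

/-! # Dimension formula on irreducible schemes. -/

set_option autoImplicit false
set_option linter.style.haveILetI false
universe u
open CategoryTheory AlgebraicGeometry

namespace Groth.Agent.H1.DimLoc

open Groth.Agent.H1.DimIneq Groth.Agent.H1.DimEq

variable {X Y : Scheme.{u}}

theorem finiteHeight_primeIdealOf {U : X.Opens} (hU : IsAffineOpen U) (x : X) (hx : x ∈ U)
    (hfin : ringKrullDim (X.presheaf.stalk x) ≠ ⊤) :
    (hU.primeIdealOf ⟨x, hx⟩).asIdeal.FiniteHeight := by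
  refine ⟨Or.inr ?_⟩
  intro htop
  rw [ringKrullDim_stalk_eq_height hU x hx, htop] at hfin
  exact hfin rfl

/-- On an irreducible scheme, the height of `q_x / q_ξ` (`ξ` the generic point) is the height of
`q_x`. -/
theorem height_map_mk_genericPoint [IrreducibleSpace X] {U : X.Opens} (hU : IsAffineOpen U)
    (x : X) (hx : x ∈ U) (hξ : genericPoint X ∈ U)
    (hfin : ringKrullDim (X.presheaf.stalk x) ≠ ⊤) :
    ((hU.primeIdealOf ⟨x, hx⟩).asIdeal.map
      (Ideal.Quotient.mk (hU.primeIdealOf ⟨genericPoint X, hξ⟩).asIdeal)).height =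
      (hU.primeIdealOf ⟨x, hx⟩).asIdeal.height := by
  haveI := finiteHeight_primeIdealOf hU x hx hfin
  obtain ⟨q₀, hmin, hq, hht⟩ :=
    exists_minimalPrimes_height_map_eq (hU.primeIdealOf ⟨x, hx⟩).asIdeal
  haveI : q₀.IsPrime := hmin.1.1
  set P : Spec Γ(X, U) := ⟨q₀, inferInstance⟩ with hP
  have hξU : hU.fromSpec P ∈ U := by
    rw [← SetLike.mem_coe, ← hU.range_fromSpec]; exact ⟨P, rfl⟩
  have hprime := primeIdealOf_fromSpec hU P hξU
  have hdim : ringKrullDim (X.presheaf.stalk (hU.fromSpec P)) = 0 := by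
    rw [ringKrullDim_stalk_eq_height hU _ hξU, hprime]
    have : q₀.height = 0 := Ideal.height_eq_zero_iff.2 hmin
    change ((q₀.height : ℕ∞) : WithBot ℕ∞) = 0
    rw [this]; rfl
  have heq : genericPoint X = hU.fromSpec P :=
    eq_of_specializes_of_stalk_dim_eq_zero _ _ hdim (genericPoint_specializes _)
  have hq₀ : (hU.primeIdealOf ⟨genericPoint X, hξ⟩).asIdeal = q₀ := by
    have : hU.primeIdealOf ⟨genericPoint X, hξ⟩ = P := by
      rw [← hprime]
      congr 1
      exact Subtype.ext heq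
    rw [this]
  rw [hq₀]
  exact hht

/-- **The dimension formula** on irreducible schemes: `f : X ⟶ Y` dominant and locally of finite
type, `O_{Y, f x}` universally catenary. -/
theorem stalk_dim_add_resTrdeg_eq_of_irreducible [IrreducibleSpace X] [IrreducibleSpace Y]
    (f : X ⟶ Y) [LocallyOfFiniteType f] [IsDominant f] (x : X)
    (hcat : CAlg.IsUniversallyCatenary (Y.presheaf.stalk (f x)))
    (hfin : ringKrullDim (X.presheaf.stalk x) ≠ ⊤) :
    ringKrullDim (X.presheaf.stalk x) +
        ((Cardinal.toENat (Dual3.resTrdeg f x) : ℕ∞) : WithBot ℕ∞) =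
      ringKrullDim (Y.presheaf.stalk (f x)) +
        ((Cardinal.toENat (Dual3.resTrdeg f (genericPoint X)) : ℕ∞) : WithBot ℕ∞) := by
  obtain ⟨V, hV, hfxV⟩ : ∃ V : Y.Opens, IsAffineOpen V ∧ f x ∈ V := by
    obtain ⟨_, ⟨V, hV, rfl⟩, hz, -⟩ :=
      Y.isBasis_affineOpens.exists_subset_of_mem_open (Set.mem_univ (f x)) isOpen_univ
    exact ⟨V, hV, hz⟩
  obtain ⟨U, hU, hxU, hUV⟩ := exists_isAffineOpen_mem_and_subset (x := x) (U := f ⁻¹ᵁ V) hfxV
  have e : U ≤ f ⁻¹ᵁ V := hUV
  have hξU : genericPoint X ∈ U := (genericPoint_specializes x).mem_open U.2 hxU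
  have key := chart_relative_eq f hU hV e x (genericPoint X) hxU hξU (genericPoint_specializes x)
    hcat
  haveI := hcat.1
  have hfinY : ringKrullDim (Y.presheaf.stalk (f x)) ≠ ⊤ := ringKrullDim_ne_top
  have h1 := height_map_mk_genericPoint hU x hxU hξU hfin
  have hgen : f (genericPoint X) = genericPoint Y := Groth.Agent.H1.Chev.map_genericPoint f
  have hηV : genericPoint Y ∈ V := (genericPoint_specializes (f x)).mem_open V.2 (e hxU)
  have h2 := height_map_mk_genericPoint hV (f x) (e hxU) hηV hfinY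
  have h2' : ((hV.primeIdealOf ⟨f x, e hxU⟩).asIdeal.map
      (Ideal.Quotient.mk (hV.primeIdealOf ⟨f (genericPoint X), e hξU⟩).asIdeal)).height =
      (hV.primeIdealOf ⟨f x, e hxU⟩).asIdeal.height := by
    have : hV.primeIdealOf ⟨f (genericPoint X), e hξU⟩ = hV.primeIdealOf ⟨genericPoint Y, hηV⟩ := by
      congr 1
      exact Subtype.ext hgen
    rw [this]
    exact h2
  rw [h1, h2'] at key
  rw [ringKrullDim_stalk_eq_height hU x hxU, ringKrullDim_stalk_eq_height hV (f x) (e hxU)]
  have h3 := congrArg Cardinal.toENat key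
  rw [map_add, map_add, Cardinal.toENat_ofENat, Cardinal.toENat_ofENat] at h3
  exact_mod_cast h3

end Groth.Agent.H1.DimLoc
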