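import Mathlib
import Groth.Prelude.Def_Cyc
import Groth.Agent.Lib.Helper6.Catenary
import Groth.Agent.Lib.Helper1.DimLocC

/-! # Dimension functions and relative heights. -/

set_option autoImplicit false
set_option linter.style.haveILetI false
universe u
open CategoryTheory AlgebraicGeometry

namespace Groth.Agent.H1.DimFun

open Groth.Agent.H6

section Order

variable {α : Type*} [PartialOrder α]

/-- an integer valued function dropping by one along covering relations, along a saturated chain -/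
theorem int_fun_head_eq (d : α → ℤ) (hd : ∀ a b : α, a ⋖ b → d a = d b + 1) (s : LTSeries α)
    (hsat : ∀ i : Fin s.length, s i.castSucc ⋖ s i.succ) :
    d s.head = d s.last + s.length := by
  have hind : ∀ (i : ℕ) (hi : i < s.length + 1), d s.head = d (s ⟨i, hi⟩) + i := by
    intro i
    induction i with
    | zero =>
      intro hi
      rw [Nat.cast_zero, add_zero]
      rfl
    | succ n ih =>
      intro hi
      have hn : n < s.length := by omega
      have h1 := hd _ _ (hsat ⟨n, hn⟩)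
      have e1 : s (Fin.castSucc ⟨n, hn⟩) = s ⟨n, by omega⟩ := rfl
      have e2 : s (Fin.succ ⟨n, hn⟩) = s ⟨n + 1, hi⟩ := rfl
      rw [e1, e2] at h1
      rw [ih (by omega), h1]
      push_cast
      ring
  exact hind s.length (by omega)

theorem int_fun_bot_eq [OrderBot α] (d : α → ℤ) (hd : ∀ a b : α, a ⋖ b → d a = d b + 1) (x : α)
    (n : ℕ) (hx : Order.height x = n) : d ⊥ = d x + n := by
  obtain ⟨s, hs1, hs2, hs3, hs4⟩ := Cat.exists_saturated_height x hx
  have := int_fun_head_eq d hd s hs4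
  rw [isMin_iff_eq_bot.1 hs3, hs1, hs2] at this
  exact this

end Order

variable {S : Scheme.{u}}

/-- **Lemma DF**: a dimension function drops by the relative height along a specialization. -/
theorem dimFun_eq_add_height (δ : S → ℤ) (hδ : Cyc.IsDimFun S δ) {V : S.Opens}
    (hV : IsAffineOpen V) (s s' : S) (hs : s ∈ V) (hs' : s' ∈ V) (hsp : s' ⤳ s) (n : ℕ)
    (hn : ((hV.primeIdealOf ⟨s, hs⟩).asIdeal.map
      (Ideal.Quotient.mk (hV.primeIdealOf ⟨s', hs'⟩).asIdeal)).height = n) :
    δ s' = δ s + n := by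
  set p := (hV.primeIdealOf ⟨s, hs⟩).asIdeal with hp
  set p' := (hV.primeIdealOf ⟨s', hs'⟩).asIdeal with hp'
  have hle : p' ≤ p := Groth.Agent.H1.DimLoc.primeIdealOf_le_of_specializes hV s s' hs hs' hsp
  let D := Γ(S, V) ⧸ p'
  have hsurj : Function.Surjective (Ideal.Quotient.mk p') := Ideal.Quotient.mk_surjective
  -- the point of `S` attached to a prime of `D`
  let pt : PrimeSpectrum D → S := fun P => hV.fromSpec (PrimeSpectrum.comap (Ideal.Quotient.mk p') P)
  have hpt_mono : ∀ P Q : PrimeSpectrum D, P ≤ Q → pt P ⤳ pt Q := by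
    intro P Q hPQ
    have h1 : PrimeSpectrum.comap (Ideal.Quotient.mk p') P ≤
        PrimeSpectrum.comap (Ideal.Quotient.mk p') Q := Ideal.comap_mono hPQ
    have h2 := (PrimeSpectrum.le_iff_specializes (R := Γ(S, V)) _ _).1 h1
    exact h2.map hV.fromSpec.continuous
  have hpt_inj : Function.Injective pt := by
    intro P Q h
    have h1 := hV.fromSpec.isOpenEmbedding.injective h
    exact PrimeSpectrum.comap_injective_of_surjective _ hsurj h1
  have hpt_le : ∀ P Q : PrimeSpectrum D, pt P ⤳ pt Q → P ≤ Q := by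
    intro P Q h
    have h1 := hV.fromSpec.isOpenEmbedding.isInducing.specializes_iff.1 h
    have h2 : (PrimeSpectrum.comap (Ideal.Quotient.mk p') P).asIdeal ≤
        (PrimeSpectrum.comap (Ideal.Quotient.mk p') Q).asIdeal :=
      (PrimeSpectrum.le_iff_specializes (R := Γ(S, V)) _ _).2 h1
    exact (Ideal.comap_le_comap_iff_of_surjective _ hsurj _ _).1 h2
  have hpt_mem : ∀ P : PrimeSpectrum D, pt P ∈ V := by
    intro P
    rw [← SetLike.mem_coe, ← hV.range_fromSpec]; exact ⟨_, rfl⟩
  -- points between lie in the image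
  have hbetween : ∀ (P Q : PrimeSpectrum D) (z : S), pt P ⤳ z → z ⤳ pt Q → ∃ T, pt T = z := by
    intro P Q z h1 h2
    have hzV : z ∈ V := h2.mem_open V.2 (hpt_mem Q)
    have h3 : (PrimeSpectrum.comap (Ideal.Quotient.mk p') P).asIdeal ≤
        (hV.primeIdealOf ⟨z, hzV⟩).asIdeal := by
      have h4 : hV.fromSpec (PrimeSpectrum.comap (Ideal.Quotient.mk p') P) ⤳
          hV.fromSpec (hV.primeIdealOf ⟨z, hzV⟩) := by
        rw [hV.fromSpec_primeIdealOf]; exact h1
      have h5 := hV.fromSpec.isOpenEmbedding.isInducing.specializes_iff.1 h4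
      exact (PrimeSpectrum.le_iff_specializes (R := Γ(S, V)) _ _).2 h5
    have h6 : p' ≤ (hV.primeIdealOf ⟨z, hzV⟩).asIdeal := by
      refine le_trans ?_ h3
      intro r hr
      change Ideal.Quotient.mk p' r ∈ P.asIdeal
      rw [Ideal.Quotient.eq_zero_iff_mem.2 hr]
      exact P.asIdeal.zero_mem
    have h7 : hV.primeIdealOf ⟨z, hzV⟩ ∈ Set.range (PrimeSpectrum.comap (Ideal.Quotient.mk p')) := by
      rw [range_comap_of_surjective _ _ hsurj, Ideal.mk_ker]
      exact h6
    obtain ⟨T, hT⟩ := h7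
    refine ⟨T, ?_⟩
    change hV.fromSpec (PrimeSpectrum.comap (Ideal.Quotient.mk p') T) = z
    rw [hT, hV.fromSpec_primeIdealOf]
  haveI : p'.IsPrime := (hV.primeIdealOf ⟨s', hs'⟩).2
  haveI : p.IsPrime := (hV.primeIdealOf ⟨s, hs⟩).2
  -- the function on `Spec D`
  have hd : ∀ P Q : PrimeSpectrum D, P ⋖ Q → δ (pt P) = δ (pt Q) + 1 := by
    intro P Q hPQ
    have hne : pt P ≠ pt Q := fun h => hPQ.lt.ne (hpt_inj h)
    refine (hδ (pt P) (pt Q) (hpt_mono P Q hPQ.le) hne).2 ?_
    intro z h1 h2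
    obtain ⟨T, rfl⟩ := hbetween P Q z h1 h2
    have h3 := hpt_le P T h1
    have h4 := hpt_le T Q h2
    rcases eq_or_lt_of_le h3 with h5 | h5
    · left; rw [h5]
    · right
      rcases eq_or_lt_of_le h4 with h6 | h6
      · rw [h6]
      · exact absurd h6 (hPQ.2 h5)
  haveI hpq : (p.map (Ideal.Quotient.mk p')).IsPrime :=
    Ideal.map_isPrime_of_surjective hsurj (by rw [Ideal.mk_ker]; exact hle)
  have hn' : Order.height (⟨p.map (Ideal.Quotient.mk p'), hpq⟩ : PrimeSpectrum D) = n := by
    rw [← PrimeSpectrum.height_eq_orderHeight]; exact hn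
  have key := int_fun_bot_eq (fun P : PrimeSpectrum D => δ (pt P)) hd _ n hn'
  have e1 : pt ⊥ = s' := by
    change hV.fromSpec (PrimeSpectrum.comap (Ideal.Quotient.mk p') ⊥) = s'
    have : PrimeSpectrum.comap (Ideal.Quotient.mk p') ⊥ = hV.primeIdealOf ⟨s', hs'⟩ := by
      apply PrimeSpectrum.ext
      change Ideal.comap (Ideal.Quotient.mk p') ⊥ = p'
      rw [← RingHom.ker_eq_comap_bot, Ideal.mk_ker]
    rw [this, hV.fromSpec_primeIdealOf]
  have e2 : pt ⟨p.map (Ideal.Quotient.mk p'), hpq⟩ = s := by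
    change hV.fromSpec (PrimeSpectrum.comap (Ideal.Quotient.mk p') ⟨p.map (Ideal.Quotient.mk p'), hpq⟩) = s
    have : PrimeSpectrum.comap (Ideal.Quotient.mk p') ⟨p.map (Ideal.Quotient.mk p'), hpq⟩ =
        hV.primeIdealOf ⟨s, hs⟩ := by
      apply PrimeSpectrum.ext
      change Ideal.comap (Ideal.Quotient.mk p') (p.map (Ideal.Quotient.mk p')) = p
      rw [Ideal.comap_map_of_surjective _ hsurj, ← RingHom.ker_eq_comap_bot, Ideal.mk_ker,
        sup_eq_left.2 hle]
    rw [this, hV.fromSpec_primeIdealOf]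
  change δ (pt ⊥) = δ (pt ⟨p.map (Ideal.Quotient.mk p'), hpq⟩) + n at key
  rw [e1, e2] at key
  exact key

end Groth.Agent.H1.DimFun
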