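import Mathlib
import Groth.Agent.Lib.Helper1.DimFun
import Groth.Agent.Lib.Helper1.DimIneqF

/-! # The induced dimension function `δ_X(x) = δ(f x) + trdeg κ(x)/κ(f x)`. -/

set_option autoImplicit false
set_option linter.style.haveILetI false
universe u
open CategoryTheory AlgebraicGeometry

namespace Groth.Agent.H1.DimFun

open Groth.Agent.H1.DimLoc Groth.Agent.H1.DimIneq

variable {X S : Scheme.{u}}

/-- in a chart, `x ⤳ y`, `x ≠ y`: the relative height is at least one, and equal to one for an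
immediate specialization. -/
theorem one_le_height_map_mk {U : X.Opens} (hU : IsAffineOpen U) (x y : X) (hx : x ∈ U)
    (hy : y ∈ U) (hxy : x ⤳ y) (hne : x ≠ y) :
    1 ≤ ((hU.primeIdealOf ⟨y, hy⟩).asIdeal.map
      (Ideal.Quotient.mk (hU.primeIdealOf ⟨x, hx⟩).asIdeal)).height ∧
    ((∀ z : X, x ⤳ z → z ⤳ y → z = x ∨ z = y) →
      ((hU.primeIdealOf ⟨y, hy⟩).asIdeal.map
        (Ideal.Quotient.mk (hU.primeIdealOf ⟨x, hx⟩).asIdeal)).height = 1) := by
  set q := (hU.primeIdealOf ⟨y, hy⟩).asIdeal with hq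
  set q' := (hU.primeIdealOf ⟨x, hx⟩).asIdeal with hq'
  haveI : q'.IsPrime := (hU.primeIdealOf ⟨x, hx⟩).2
  haveI : q.IsPrime := (hU.primeIdealOf ⟨y, hy⟩).2
  have hle : q' ≤ q := primeIdealOf_le_of_specializes hU y x hy hx hxy
  have hsurj : Function.Surjective (Ideal.Quotient.mk q') := Ideal.Quotient.mk_surjective
  haveI hpq : (q.map (Ideal.Quotient.mk q')).IsPrime :=
    Ideal.map_isPrime_of_surjective hsurj (by rw [Ideal.mk_ker]; exact hle)
  have hneq : q' ≠ q := by
    intro h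
    apply hne
    have : hU.primeIdealOf ⟨x, hx⟩ = hU.primeIdealOf ⟨y, hy⟩ := PrimeSpectrum.ext h
    have h2 := congrArg hU.fromSpec this
    rwa [hU.fromSpec_primeIdealOf, hU.fromSpec_primeIdealOf] at h2
  have hnebot : q.map (Ideal.Quotient.mk q') ≠ ⊥ := by
    intro h
    apply hneq
    apply le_antisymm hle
    have h1 := congrArg (Ideal.comap (Ideal.Quotient.mk q')) h
    rw [Ideal.comap_map_of_surjective _ hsurj, ← RingHom.ker_eq_comap_bot, Ideal.mk_ker,
      sup_eq_left.2 hle] at h1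
    exact h1.le
  have h1 : 1 ≤ (q.map (Ideal.Quotient.mk q')).height := by
    rw [ENat.one_le_iff_ne_zero]
    intro h0
    have hmin := Ideal.height_eq_zero_iff.1 h0
    have : (⊥ : Ideal (Γ(X, U) ⧸ q')) ∈ minimalPrimes (Γ(X, U) ⧸ q') := by
      rw [IsDomain.minimalPrimes_eq_singleton_bot]; rfl
    rw [IsDomain.minimalPrimes_eq_singleton_bot] at hmin
    exact hnebot hmin
  refine ⟨h1, fun himm => le_antisymm ?_ h1⟩
  have : (q.map (Ideal.Quotient.mk q')).height ≤ ((1 : ℕ) : ℕ∞) := by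
    rw [Ideal.height_le_iff]
    intro Q hQ hQlt
    -- the point of `Q`
    set P : Spec Γ(X, U) := ⟨Q.comap (Ideal.Quotient.mk q'), Ideal.comap_isPrime _ Q⟩ with hP
    have hzU : hU.fromSpec P ∈ U := by
      rw [← SetLike.mem_coe, ← hU.range_fromSpec]; exact ⟨P, rfl⟩
    have hprime := primeIdealOf_fromSpec hU P hzU
    have hq'P : q' ≤ P.asIdeal := by
      intro r hr
      change Ideal.Quotient.mk q' r ∈ Q
      rw [Ideal.Quotient.eq_zero_iff_mem.2 hr]
      exact Q.zero_mem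
    have hPq : P.asIdeal ≤ q := by
      have h2 := Ideal.comap_mono (f := Ideal.Quotient.mk q') hQlt.le
      rw [Ideal.comap_map_of_surjective _ hsurj, ← RingHom.ker_eq_comap_bot, Ideal.mk_ker,
        sup_eq_left.2 hle] at h2
      exact h2
    have hxz : x ⤳ hU.fromSpec P := by
      have h3 : hU.primeIdealOf ⟨x, hx⟩ ⤳ P :=
        (PrimeSpectrum.le_iff_specializes (R := Γ(X, U)) _ P).1 hq'P
      have := h3.map hU.fromSpec.continuous
      rwa [hU.fromSpec_primeIdealOf] at this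
    have hzy : hU.fromSpec P ⤳ y := by
      have h3 : P ⤳ hU.primeIdealOf ⟨y, hy⟩ :=
        (PrimeSpectrum.le_iff_specializes (R := Γ(X, U)) P _).1 hPq
      have := h3.map hU.fromSpec.continuous
      rwa [hU.fromSpec_primeIdealOf] at this
    rcases himm _ hxz hzy with h | h
    · -- `P = q'`, so `Q = ⊥`
      have hPq' : P = hU.primeIdealOf ⟨x, hx⟩ := by
        rw [← hprime]; congr 1; exact Subtype.ext h
      have hQbot : Q = ⊥ := by
        have h4 : Q.comap (Ideal.Quotient.mk q') = q' := congrArg PrimeSpectrum.asIdeal hPq'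
        have h5 := congrArg (Ideal.map (Ideal.Quotient.mk q')) h4
        rw [Ideal.map_comap_of_surjective _ hsurj, Ideal.map_quotient_self] at h5
        exact h5
      rw [hQbot, Ideal.height_bot]
      exact Nat.cast_pos.2 one_pos
    · exfalso
      have hPq' : P = hU.primeIdealOf ⟨y, hy⟩ := by
        rw [← hprime]; congr 1; exact Subtype.ext h
      have h4 : Q.comap (Ideal.Quotient.mk q') = q := congrArg PrimeSpectrum.asIdeal hPq'
      have h5 := congrArg (Ideal.map (Ideal.Quotient.mk q')) h4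
      rw [Ideal.map_comap_of_surjective _ hsurj] at h5
      exact hQlt.ne h5
  exact_mod_cast this

/-- **The induced dimension function** (Stacks 02JW). -/
theorem isDimFun_of_deltaCompat (f : X ⟶ S) [LocallyOfFiniteType f] (δ : S → ℤ)
    (hS : Cyc.IsSetup S δ) (δX : X → ℤ) (hδ : Cyc.DeltaCompat f δX δ) : Cyc.IsDimFun X δX := by
  intro x y hxy hne
  haveI := hS.1
  obtain ⟨V, hV, hfyV⟩ : ∃ V : S.Opens, IsAffineOpen V ∧ f y ∈ V := by
    obtain ⟨_, ⟨V, hV, rfl⟩, hz, -⟩ :=
      S.isBasis_affineOpens.exists_subset_of_mem_open (Set.mem_univ (f y)) isOpen_univ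
    exact ⟨V, hV, hz⟩
  obtain ⟨U, hU, hyU, hUV⟩ := exists_isAffineOpen_mem_and_subset (x := y) (U := f ⁻¹ᵁ V) hfyV
  have e : U ≤ f ⁻¹ᵁ V := hUV
  have hxU : x ∈ U := hxy.mem_open U.2 hyU
  have key := chart_relative_eq f hU hV e y x hyU hxU hxy (hS.2.1 (f y))
  obtain ⟨nx, hnx, hδx⟩ := hδ x
  obtain ⟨ny, hny, hδy⟩ := hδ y
  have h3 := congrArg Cardinal.toENat key
  rw [map_add, map_add, Cardinal.toENat_ofENat, Cardinal.toENat_ofENat,
    toENat_resTrdeg_of_eq_natCast f x nx hnx, toENat_resTrdeg_of_eq_natCast f y ny hny] at h3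
  -- finiteness of the base relative height
  haveI : IsNoetherianRing Γ(S, V) := IsLocallyNoetherian.component_noetherian ⟨V, hV⟩
  have hple := primeIdealOf_le_of_specializes hV (f y) (f x) (e hyU) (e hxU)
    (hxy.map f.continuous)
  haveI : ((hV.primeIdealOf ⟨f y, e hyU⟩).asIdeal.map
      (Ideal.Quotient.mk (hV.primeIdealOf ⟨f x, e hxU⟩).asIdeal)).IsPrime :=
    Ideal.map_isPrime_of_surjective Ideal.Quotient.mk_surjective (by rw [Ideal.mk_ker]; exact hple)
  have hbfin : ((hV.primeIdealOf ⟨f y, e hyU⟩).asIdeal.map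
      (Ideal.Quotient.mk (hV.primeIdealOf ⟨f x, e hxU⟩).asIdeal)).height ≠ ⊤ :=
    Ideal.height_ne_top_of_isPrime
  obtain ⟨nb, hnb⟩ := ENat.ne_top_iff_exists.mp hbfin
  have hDF := dimFun_eq_add_height δ hS.2.2 hV (f y) (f x) (e hyU) (e hxU)
    (hxy.map f.continuous) nb hnb.symm
  obtain ⟨h1, h2⟩ := one_le_height_map_mk hU x y hxU hyU hxy hne
  rw [← hnb] at h3
  have hcfin : ((hU.primeIdealOf ⟨y, hyU⟩).asIdeal.map
      (Ideal.Quotient.mk (hU.primeIdealOf ⟨x, hxU⟩).asIdeal)).height ≠ ⊤ := by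
    intro htop
    rw [htop, top_add] at h3
    exact absurd h3.symm (by exact_mod_cast ENat.natCast_ne_top (nb + nx))
  obtain ⟨nc, hnc⟩ := ENat.ne_top_iff_exists.mp hcfin
  rw [← hnc] at h3 h1 h2
  have h4 : nc + ny = nb + nx := by exact_mod_cast h3
  have h5 : 1 ≤ nc := by exact_mod_cast h1
  refine ⟨?_, fun himm => ?_⟩
  · rw [hδx, hδy, hDF]
    have : (nc : ℤ) + ny = nb + nx := by exact_mod_cast h4
    have h6 : (1 : ℤ) ≤ nc := by exact_mod_cast h5
    linarith
  · have h7 := h2 himm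
    have h8 : nc = 1 := by exact_mod_cast h7
    rw [hδx, hδy, hDF]
    have : (nc : ℤ) + ny = nb + nx := by exact_mod_cast h4
    rw [h8] at this
    push_cast at this
    linarith

end Groth.Agent.H1.DimFun
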