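import Mathlib
import Groth.Agent.Lib.Helper1.DimFormula3
import Groth.Agent.Lib.Helper1.Chev4
import Groth.Agent.Lib.Helper1.Chev3

/-! # Generic points of fibre components realizing the local fibre dimension. -/

set_option autoImplicit false
set_option linter.style.haveILetI false
universe u
open AlgebraicGeometry CategoryTheory CategoryTheory.Limits TopologicalSpace Topology

namespace Groth.Agent.H1.FibGen

open Groth.Agent.H1.DimFormula

variable {k : Type u} [Field k] {Z : Scheme.{u}} (gk : Z ⟶ Spec (CommRingCat.of k))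

/-- On a scheme locally of finite type over a field, every point has a maximal generization with
the same local dimension. -/
theorem exists_generic_localDim_eq [LocallyOfFiniteType gk] (t : Z) :
    ∃ z : Z, z ⤳ t ∧ (∀ z' : Z, z' ⤳ z → z' = z) ∧
      FlatMor.localDim Z z = FlatMor.localDim Z t := by
  obtain ⟨U, hU, htU⟩ : ∃ U : Z.Opens, IsAffineOpen U ∧ t ∈ U := by
    obtain ⟨_, ⟨U, hU, rfl⟩, hz, -⟩ :=
      Z.isBasis_affineOpens.exists_subset_of_mem_open (Set.mem_univ t) isOpen_univ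
    exact ⟨U, hU, hz⟩
  set ψ : CommRingCat.of k ⟶ Γ(Z, U) := Spec.preimage (hU.fromSpec ≫ gk) with hψ
  have hψ' : Spec.map ψ = hU.fromSpec ≫ gk := Spec.map_preimage _
  letI algB : Algebra k Γ(Z, U) := ψ.hom.toAlgebra
  have hft : Algebra.FiniteType k Γ(Z, U) := by
    have h1 : LocallyOfFiniteType (Spec.map ψ) := by
      rw [hψ']; infer_instance
    exact (HasRingHomProperty.Spec_iff (P := @LocallyOfFiniteType)).mp h1
  set q := hU.primeIdealOf ⟨t, htU⟩ with hq
  have hqt : hU.fromSpec q = t := hU.fromSpec_primeIdealOf ⟨t, htU⟩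
  obtain ⟨p, hpq, hpmin, hdim⟩ := exists_minimal_ringKrullDim_quotient_eq k Γ(Z, U) q
  have hpU : hU.fromSpec p ∈ U := by
    rw [← SetLike.mem_coe, ← hU.range_fromSpec]; exact ⟨p, rfl⟩
  refine ⟨hU.fromSpec p, ?_, ?_, ?_⟩
  · have h1 : p ⤳ q := (PrimeSpectrum.le_iff_specializes (R := Γ(Z, U)) p q).1 hpq
    have := h1.map hU.fromSpec.continuous
    rwa [hqt] at this
  · intro z' hz'
    have hz'U : z' ∈ U := hz'.mem_open U.2 hpU
    obtain ⟨p', rfl⟩ : z' ∈ Set.range hU.fromSpec := by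
      rw [hU.range_fromSpec]; exact hz'U
    have h2 : p' ⤳ p := hU.fromSpec.isOpenEmbedding.isInducing.specializes_iff.1 hz'
    have h3 : (p' : PrimeSpectrum Γ(Z, U)).asIdeal ≤ (p : PrimeSpectrum Γ(Z, U)).asIdeal :=
      (PrimeSpectrum.le_iff_specializes (R := Γ(Z, U)) p' p).2 h2
    have h4 : (p : PrimeSpectrum Γ(Z, U)).asIdeal ≤ (p' : PrimeSpectrum Γ(Z, U)).asIdeal :=
      hpmin.2 ⟨p'.2, bot_le⟩ h3
    have h5 : p' = p := PrimeSpectrum.ext (le_antisymm h3 h4)
    rw [h5]
  · have h1 : FlatMor.localDim Z (hU.fromSpec p) = FlatMor.localDim ↥(Spec Γ(Z, U)) p :=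
      (localDim_eq_of_isOpenEmbedding hU.fromSpec.isOpenEmbedding p).symm
    have h2 : FlatMor.localDim Z t = FlatMor.localDim ↥(Spec Γ(Z, U)) q := by
      rw [localDim_eq_of_isOpenEmbedding hU.fromSpec.isOpenEmbedding q, hqt]
    rw [h1, h2, localDim_Spec k Γ(Z, U) p, localDim_Spec k Γ(Z, U) q, ← hdim]
    have : p.asIdeal.height = 0 := Ideal.height_eq_zero_iff.2 hpmin
    rw [this]
    simp

end Groth.Agent.H1.FibGen

namespace Groth.Agent.H1.FibGen

variable {X Y : Scheme.{u}}

/-- **Lemma Z**: every point `x` has a generization `z` in its fibre which is maximal in the fibre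
and has the same local fibre dimension. -/
theorem exists_fibre_generic_fibreDimAt_eq (f : X ⟶ Y) [LocallyOfFiniteType f] (x : X) :
    ∃ z : X, f z = f x ∧ z ⤳ x ∧ (∀ z' : X, f z' = f x → z' ⤳ z → z' = z) ∧
      FlatMor.fibreDimAt f z = FlatMor.fibreDimAt f x := by
  obtain ⟨zT, hsp, hmax, hdim⟩ := @exists_generic_localDim_eq (Y.residueField (f x)) _ _
    (f.fiberToSpecResidueField (f x))
    (Groth.Agent.H1.Chev.locallyOfFiniteType_fiberToSpecResidueField f (f x)) (f.asFiber x)
  have hfz : f (f.fiberι (f x) zT) = f x := by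
    have : f.fiberι (f x) zT ∈ Set.range (f.fiberι (f x)) := ⟨zT, rfl⟩
    rw [Scheme.Hom.range_fiberι] at this
    exact this
  refine ⟨f.fiberι (f x) zT, hfz, ?_, ?_, ?_⟩
  · have := hsp.map (f.fiberι (f x)).continuous
    rwa [f.fiberι_asFiber x] at this
  · intro z' hz' hsp'
    obtain ⟨z'T, rfl⟩ : z' ∈ Set.range (f.fiberι (f x)) := by
      rw [Scheme.Hom.range_fiberι]; exact hz'
    have h2 : z'T ⤳ zT := (f.fiberι (f x)).isEmbedding.isInducing.specializes_iff.1 hsp'
    rw [hmax z'T h2]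
  · rw [← Groth.Agent.H1.Chev.localDim_fiber_eq_fibreDimAt f _ (f x) hfz zT rfl, hdim]
    rfl

end Groth.Agent.H1.FibGen
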