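import Mathlib
import Groth.Prelude.Def_Found
import Groth.Agent.Lib.Helper2.DimFG

/-! # Fields are universally catenary. -/

set_option autoImplicit false
set_option linter.style.haveILetI false
universe u

namespace Groth.Agent.H1.FieldUC

/-- A finite type algebra over a field is catenary. -/
theorem isCatenary_of_finiteType_field (k A : Type u) [Field k] [CommRing A] [Algebra k A]
    [Algebra.FiniteType k A] : CAlg.IsCatenary A := by
  haveI : IsNoetherianRing A := Algebra.FiniteType.isNoetherianRing k A
  refine ⟨?_, ?_⟩
  · intro p q _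
    have hfin : Order.height q ≠ ⊤ := by
      rw [← PrimeSpectrum.height_eq_orderHeight]
      exact Ideal.height_ne_top_of_isPrime
    obtain ⟨n, hn⟩ := ENat.ne_top_iff_exists.mp hfin
    refine ⟨n, fun s _ hl => ?_⟩
    have h1 := Order.length_le_height_last (p := s)
    rw [hl, ← hn] at h1
    exact_mod_cast h1
  · intro s t hh hl hs ht
    have h1 := Groth.Agent.H2.DimFG.ringKrullDim_quotient_head_eq k A s hs
    have h2 := Groth.Agent.H2.DimFG.ringKrullDim_quotient_head_eq k A t ht
    rw [hh, hl, h2] at h1
    haveI : Nontrivial (A ⧸ t.last.asIdeal) :=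
      Ideal.Quotient.nontrivial_iff.2 t.last.2.ne_top
    obtain ⟨a, ha⟩ := Groth.Agent.H2.DimFG.exists_ringKrullDim_eq_nat k (A ⧸ t.last.asIdeal)
    rw [ha] at h1
    have h3 : (a + t.length : ℕ) = (a + s.length : ℕ) := by exact_mod_cast h1
    omega

/-- **Fields are universally catenary.** -/
theorem isUniversallyCatenary_of_field (k : Type u) [Field k] : CAlg.IsUniversallyCatenary k :=
  ⟨inferInstance, fun S _ _ hS => by
    haveI := hS
    exact isCatenary_of_finiteType_field k S⟩

theorem isUniversallyCatenary_of_isField (k : Type u) [CommRing k] (hk : IsField k) :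
    CAlg.IsUniversallyCatenary k := by
  letI := hk.toField
  exact isUniversallyCatenary_of_field k

end Groth.Agent.H1.FieldUC
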