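import Mathlib
import Groth.Agent.Lib.Helper1.DimLocC
import Groth.Agent.Lib.Helper1.FieldUC
import Groth.Agent.Lib.Helper1.FlatRelDim
import Groth.Agent.Lib.Helper1.FibGen

/-! # The dimension formula inside a fibre, and the fibre inequalities for local rings. -/

set_option autoImplicit false
set_option linter.style.haveILetI false
universe u
open CategoryTheory AlgebraicGeometry

namespace Groth.Agent.H1.DimLoc

open Groth.Agent.H1.DimIneq Groth.Agent.H1.DimEq

section Ring

theorem isField_localization_atPrime_of_eq_bot {D : Type*} [CommRing D] (P : Ideal D) [P.IsPrime]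
    (hP : P = ⊥) : IsField (Localization.AtPrime P) := by
  rw [IsLocalRing.isField_iff_maximalIdeal_eq, ← Localization.AtPrime.map_eq_maximalIdeal,
    eq_bot_iff, Ideal.map_le_iff_le_comap]
  exact hP.le.trans bot_le

theorem height_add_height_map_mk_le {R : Type*} [CommRing R] (p₀ p : Ideal R) [p₀.IsPrime]
    [p.IsPrime] (hp : p₀ ≤ p) : p₀.height + (p.map (Ideal.Quotient.mk p₀)).height ≤ p.height := by
  haveI : (RingHom.ker (Ideal.Quotient.mk p₀)).IsPrime := by
    rw [Ideal.mk_ker]; infer_instance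
  haveI : (p.map (Ideal.Quotient.mk p₀)).IsPrime :=
    Ideal.map_isPrime_of_surjective Ideal.Quotient.mk_surjective (by rw [Ideal.mk_ker]; exact hp)
  have h := height_ker_add_height_le (Ideal.Quotient.mk p₀)
    Ideal.Quotient.mk_surjective (p.map (Ideal.Quotient.mk p₀))
  rw [Ideal.comap_map_of_surjective _ Ideal.Quotient.mk_surjective, ← RingHom.ker_eq_comap_bot,
    Ideal.mk_ker, sup_eq_left.2 hp] at h
  exact h

variable (R S : Type u) [CommRing R] [CommRing S] [Algebra R S]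
  [Algebra.FiniteType R S]
  (p₀ p : Ideal R) [p₀.IsPrime] [p.IsPrime] (q₀ q : Ideal S) [q₀.IsPrime] [q.IsPrime]
  [q₀.LiesOver p₀] [q.LiesOver p]

omit [p.IsPrime] in
include R S p₀ p q₀ q in
/-- **The dimension formula, relative form**, with the hypothesis on the localization of
`R ⧸ p₀` at `p / p₀`. -/
theorem dimEq_relative_of_localization_quot (hq : q₀ ≤ q)
    (hp' : (p.map (Ideal.Quotient.mk p₀)).IsPrime)
    (hU' : CAlg.IsUniversallyCatenary (Localization.AtPrime (p.map (Ideal.Quotient.mk p₀)))) :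
    ((q.map (Ideal.Quotient.mk q₀)).height : Cardinal.{u}) + Algebra.trdeg (R ⧸ p) (S ⧸ q) =
      ((p.map (Ideal.Quotient.mk p₀)).height : Cardinal.{u}) +
        Algebra.trdeg (R ⧸ p₀) (S ⧸ q₀) := by
  have hp : p₀ ≤ p := by
    rw [Ideal.over_def q₀ p₀, Ideal.over_def q p]
    exact Ideal.comap_mono hq
  haveI : Algebra.FiniteType R (S ⧸ q₀) :=
    Algebra.FiniteType.of_surjective (Ideal.Quotient.mkₐ R q₀) (Ideal.Quotient.mkₐ_surjective R q₀)
  haveI : Algebra.FiniteType (R ⧸ p₀) (S ⧸ q₀) :=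
    Algebra.FiniteType.of_restrictScalars_finiteType R (R ⧸ p₀) (S ⧸ q₀)
  haveI hq' : (q.map (Ideal.Quotient.mk q₀)).IsPrime :=
    Ideal.map_isPrime_of_surjective Ideal.Quotient.mk_surjective (by rw [Ideal.mk_ker]; exact hq)
  haveI : (q.map (Ideal.Quotient.mk q₀)).LiesOver (p.map (Ideal.Quotient.mk p₀)) := by
    refine ⟨?_⟩
    ext d
    obtain ⟨r, rfl⟩ := Ideal.Quotient.mk_surjective d
    rw [Ideal.mem_quotient_iff_mem hp, Ideal.under_def, Ideal.mem_comap,
      Ideal.Quotient.algebraMap_mk_of_liesOver, Ideal.mem_quotient_iff_mem hq]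
    exact Ideal.mem_of_liesOver q p r
  have key := dimEq_of_localization (R ⧸ p₀) (S ⧸ q₀) (p.map (Ideal.Quotient.mk p₀))
    (q.map (Ideal.Quotient.mk q₀)) hU'
  have hT : Algebra.trdeg ((R ⧸ p₀) ⧸ p.map (Ideal.Quotient.mk p₀))
      ((S ⧸ q₀) ⧸ q.map (Ideal.Quotient.mk q₀)) = Algebra.trdeg (R ⧸ p) (S ⧸ q) := by
    refine trdeg_eq_of_ringEquiv (DoubleQuot.quotQuotEquivQuotOfLE hp)
      (DoubleQuot.quotQuotEquivQuotOfLE hq) ?_
    intro a
    obtain ⟨a, rfl⟩ := Ideal.Quotient.mk_surjective a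
    obtain ⟨r, rfl⟩ := Ideal.Quotient.mk_surjective a
    rfl
  rw [hT] at key
  exact key

include R S p₀ p q₀ q in
/-- **The dimension formula inside a fibre**: for primes `q₀ ≤ q` of `S` over the same prime of
`R`: `ht(q/q₀) + trdeg_{R/p}(S/q) = trdeg_{R/p}(S/q₀)`. -/
theorem dimEq_fibre (hq : q₀ ≤ q) (hpp : p₀ = p) :
    ((q.map (Ideal.Quotient.mk q₀)).height : Cardinal.{u}) + Algebra.trdeg (R ⧸ p) (S ⧸ q) =
      Algebra.trdeg (R ⧸ p₀) (S ⧸ q₀) := by
  have hbot : p.map (Ideal.Quotient.mk p₀) = ⊥ := by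
    rw [← hpp]; exact Ideal.map_quotient_self p₀
  haveI hp' : (p.map (Ideal.Quotient.mk p₀)).IsPrime := by
    rw [hbot]; exact Ideal.isPrime_bot
  have hU' := Groth.Agent.H1.FieldUC.isUniversallyCatenary_of_isField _
    (isField_localization_atPrime_of_eq_bot (p.map (Ideal.Quotient.mk p₀)) hbot)
  have key := dimEq_relative_of_localization_quot R S p₀ p q₀ q hq hp' hU'
  rw [key, hbot, Ideal.height_bot]
  simp

end Ring

end Groth.Agent.H1.DimLoc
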