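import Mathlib
import Groth.Agent.Lib.Helper1.DimLocE

/-! # Fibrewise dimension formula on schemes; the inequalities
`dim O_{X,z} + dim O_{X_y,x} ≤ dim O_{X,x} ≤ dim O_{Y,y} + dim O_{X_y,x}`. -/

set_option autoImplicit false
set_option linter.style.haveILetI false
universe u
open CategoryTheory AlgebraicGeometry

namespace Groth.Agent.H1.DimLoc

open Groth.Agent.H1.DimIneq Groth.Agent.H1.DimEq

variable {X Y : Scheme.{u}}

/-- **Dimension formula inside a fibre, in an affine chart.** -/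
theorem chart_fibre_eq (f : X ⟶ Y) [LocallyOfFiniteType f] {U : X.Opens} {V : Y.Opens}
    (hU : IsAffineOpen U) (hV : IsAffineOpen V) (e : U ≤ f ⁻¹ᵁ V) (x z : X) (hxU : x ∈ U)
    (hzU : z ∈ U) (hz : z ⤳ x) (hfz : f z = f x) :
    ((((hU.primeIdealOf ⟨x, hxU⟩).asIdeal.map
      (Ideal.Quotient.mk (hU.primeIdealOf ⟨z, hzU⟩).asIdeal)).height : ℕ∞) : Cardinal.{u}) +
        Dual3.resTrdeg f x = Dual3.resTrdeg f z := by
  letI algRS := (f.appLE V U e).hom.toAlgebra
  haveI : Algebra.FiniteType Γ(Y, V) Γ(X, U) := f.finiteType_appLE hV hU e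
  letI hlo := liesOver_primeIdealOf f hU hV e x hxU
  letI hlo' := liesOver_primeIdealOf f hU hV e z hzU
  rw [resTrdeg_eq_trdeg_quotient f hU hV e x hxU, resTrdeg_eq_trdeg_quotient f hU hV e z hzU]
  refine dimEq_fibre Γ(Y, V) Γ(X, U)
    (hV.primeIdealOf ⟨f z, e hzU⟩).asIdeal (hV.primeIdealOf ⟨f x, e hxU⟩).asIdeal
    (hU.primeIdealOf ⟨z, hzU⟩).asIdeal (hU.primeIdealOf ⟨x, hxU⟩).asIdeal
    (primeIdealOf_le_of_specializes hU x z hxU hzU hz) ?_
  congr 2
  exact Subtype.ext hfz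

/-- `dim O_{X,x} ≤ dim O_{Y,y} + dim O_{X_y,x}`. -/
theorem stalk_dim_le_add_fiber (f : X ⟶ Y) [IsLocallyNoetherian Y]
    [LocallyOfFiniteType f] (x : X) :
    ringKrullDim (X.presheaf.stalk x) ≤ ringKrullDim (Y.presheaf.stalk (f x)) +
      ringKrullDim ((f.fiber (f x)).presheaf.stalk (f.asFiber x)) := by
  have hX : IsLocallyNoetherian X := LocallyOfFiniteType.isLocallyNoetherian f
  let _ : Algebra (Y.presheaf.stalk (f x)) (X.presheaf.stalk x) := (f.stalkMap x).hom.toAlgebra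
  have hloc : IsLocalHom (algebraMap (Y.presheaf.stalk (f x)) (X.presheaf.stalk x)) :=
    inferInstanceAs (IsLocalHom (f.stalkMap x).hom)
  have h1 := Groth.Agent.H1.FlatDim.ringKrullDim_le_add_fiber (Y.presheaf.stalk (f x))
    (X.presheaf.stalk x)
  have h2 := ringKrullDim_eq_of_ringEquiv (Groth.Agent.H1.FibreStalk.fiberStalkEquiv f x)
  rw [← h2]
  exact h1

theorem withBot_add_natCast_cancel {a b : WithBot ℕ∞} (t : ℕ)
    (hab : a + (t : WithBot ℕ∞) = b + (t : WithBot ℕ∞)) : a = b := by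
  induction a with
  | bot =>
    rw [WithBot.bot_add] at hab
    induction b with
    | bot => rfl
    | coe b =>
      rcases WithBot.add_eq_bot.1 hab.symm with h | h
      · exact absurd h WithBot.coe_ne_bot
      · exact absurd h (WithBot.natCast_ne_bot t)
  | coe a =>
    induction b with
    | bot =>
      rw [WithBot.bot_add] at hab
      rcases WithBot.add_eq_bot.1 hab with h | h
      · exact absurd h WithBot.coe_ne_bot
      · exact absurd h (WithBot.natCast_ne_bot t)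
    | coe b =>
      have h' : a + (t : ℕ∞) = b + (t : ℕ∞) := by exact_mod_cast hab
      have : a = b := (ENat.add_left_injective_of_ne_top (ENat.natCast_ne_top t)) h'
      rw [this]

/-- **Lemma G**: if `z` is a generization of `x` in the fibre through `x`, maximal in the fibre,
with the same local fibre dimension, then `dim O_{X,z} + dim O_{X_y,x} ≤ dim O_{X,x}`. -/
theorem stalk_dim_add_fiber_stalk_dim_le (f : X ⟶ Y) [LocallyOfFiniteType f] (x z : X)
    (hfz : f z = f x) (hzx : z ⤳ x) (hzmax : ∀ z' : X, f z' = f x → z' ⤳ z → z' = z)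
    (hdim : FlatMor.fibreDimAt f z = FlatMor.fibreDimAt f x) :
    ringKrullDim (X.presheaf.stalk z) +
      ringKrullDim ((f.fiber (f x)).presheaf.stalk (f.asFiber x)) ≤
      ringKrullDim (X.presheaf.stalk x) := by
  obtain ⟨V, hV, hfxV⟩ : ∃ V : Y.Opens, IsAffineOpen V ∧ f x ∈ V := by
    obtain ⟨_, ⟨V, hV, rfl⟩, hz, -⟩ :=
      Y.isBasis_affineOpens.exists_subset_of_mem_open (Set.mem_univ (f x)) isOpen_univ
    exact ⟨V, hV, hz⟩
  obtain ⟨U, hU, hxU, hUV⟩ := exists_isAffineOpen_mem_and_subset (x := x) (U := f ⁻¹ᵁ V) hfxV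
  have e : U ≤ f ⁻¹ᵁ V := hUV
  have hzU : z ∈ U := hzx.mem_open U.2 hxU
  have key := chart_fibre_eq f hU hV e x z hxU hzU hzx hfz
  obtain ⟨t, ht, hdimx⟩ := Groth.Agent.H1.DimFormula.exists_fibreDimAt_eq_stalk_add_trdeg f x
  obtain ⟨tz, htz, hdimz⟩ := Groth.Agent.H1.DimFormula.fibreDimAt_eq_trdeg_of_generic f z
    (fun x' hx' hsp => hzmax x' (hx'.trans hfz) hsp)
  have h3 := congrArg Cardinal.toENat key
  rw [map_add, Cardinal.toENat_ofENat, toENat_resTrdeg_of_eq_natCast f x t ht,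
    toENat_resTrdeg_of_eq_natCast f z tz htz] at h3
  -- `ht(q_x/q_z) + t = tz`
  set c := ((hU.primeIdealOf ⟨x, hxU⟩).asIdeal.map
      (Ideal.Quotient.mk (hU.primeIdealOf ⟨z, hzU⟩).asIdeal)).height with hc
  have h4 : ((c : ℕ∞) : WithBot ℕ∞) + (t : WithBot ℕ∞) = (tz : WithBot ℕ∞) := by
    exact_mod_cast congrArg (fun a : ℕ∞ => (a : WithBot ℕ∞)) h3
  rw [hdimz, hdimx, ← h4] at hdim
  have h5 := withBot_add_natCast_cancel t hdim
  rw [← h5, ringKrullDim_stalk_eq_height hU z hzU, ringKrullDim_stalk_eq_height hU x hxU]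
  have h6 := height_add_height_map_mk_le (hU.primeIdealOf ⟨z, hzU⟩).asIdeal
    (hU.primeIdealOf ⟨x, hxU⟩).asIdeal (primeIdealOf_le_of_specializes hU x z hxU hzU hzx)
  exact_mod_cast h6

end Groth.Agent.H1.DimLoc
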