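import Mathlib
import Groth.Agent.Lib.Helper1.DimIneqD

/-! # Selecting a prime of the fibre realizing the local dimension inequality. -/

set_option autoImplicit false
set_option linter.style.haveILetI false
universe u

namespace Groth.Agent.H1.DimSel

open Groth.Agent.H1.DimIneq

/-- relative heights are preserved along surjections -/
theorem height_map_mk_of_surjective {S T : Type*} [CommRing S] [CommRing T] (φ : S →+* T)
    (hφ : Function.Surjective φ) (r Q : Ideal T) [r.IsPrime] [Q.IsPrime] (h : r ≤ Q) :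
    ((Q.comap φ).map (Ideal.Quotient.mk (r.comap φ))).height =
      (Q.map (Ideal.Quotient.mk r)).height := by
  let ψ : S ⧸ r.comap φ →+* T ⧸ r := Ideal.quotientMap r φ le_rfl
  have hψinj : Function.Injective ψ := Ideal.quotientMap_injective
  have hψsurj : Function.Surjective ψ := Ideal.quotientMap_surjective hφ
  let e : S ⧸ r.comap φ ≃+* T ⧸ r := RingEquiv.ofBijective ψ ⟨hψinj, hψsurj⟩
  have key : (Q.map (Ideal.Quotient.mk r)).comap (e : S ⧸ r.comap φ →+* T ⧸ r) =
      (Q.comap φ).map (Ideal.Quotient.mk (r.comap φ)) := by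
    ext x
    obtain ⟨s, rfl⟩ := Ideal.Quotient.mk_surjective x
    rw [Ideal.mem_comap, Ideal.mem_quotient_iff_mem (Ideal.comap_mono h)]
    change ψ (Ideal.Quotient.mk _ s) ∈ _ ↔ _
    rw [Ideal.quotientMap_mk, Ideal.mem_quotient_iff_mem h, Ideal.mem_comap]
  rw [← key]
  exact RingEquiv.height_comap e _

/-- **Lemma Sel**: for primes `q₀ ≤ q` of `S` over `p₀ ≤ p` of `R` (Noetherian rings), there is a
prime `q₀ ≤ qz ≤ q` lying over `p` with `ht(q/q₀) ≤ ht(p/p₀) + ht(q/qz)`. -/
theorem exists_fibre_prime (R S : Type u) [CommRing R] [IsNoetherianRing R] [CommRing S]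
    [IsNoetherianRing S] [Algebra R S] (p₀ p : Ideal R) [p₀.IsPrime] [p.IsPrime] (q₀ q : Ideal S)
    [q₀.IsPrime] [q.IsPrime] [q₀.LiesOver p₀] [q.LiesOver p] (hq : q₀ ≤ q) :
    ∃ qz : Ideal S, qz.IsPrime ∧ q₀ ≤ qz ∧ qz ≤ q ∧ qz.under R = p ∧
      (q.map (Ideal.Quotient.mk q₀)).height ≤
        (p.map (Ideal.Quotient.mk p₀)).height + (q.map (Ideal.Quotient.mk qz)).height := by
  have hp : p₀ ≤ p := by
    rw [Ideal.over_def q₀ p₀, Ideal.over_def q p]
    exact Ideal.comap_mono hq
  haveI hp' : (p.map (Ideal.Quotient.mk p₀)).IsPrime :=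
    Ideal.map_isPrime_of_surjective Ideal.Quotient.mk_surjective (by rw [Ideal.mk_ker]; exact hp)
  haveI hq' : (q.map (Ideal.Quotient.mk q₀)).IsPrime :=
    Ideal.map_isPrime_of_surjective Ideal.Quotient.mk_surjective (by rw [Ideal.mk_ker]; exact hq)
  haveI hlo : (q.map (Ideal.Quotient.mk q₀)).LiesOver (p.map (Ideal.Quotient.mk p₀)) := by
    refine ⟨?_⟩
    ext d
    obtain ⟨r, rfl⟩ := Ideal.Quotient.mk_surjective d
    rw [Ideal.mem_quotient_iff_mem hp, Ideal.under_def, Ideal.mem_comap,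
      Ideal.Quotient.algebraMap_mk_of_liesOver, Ideal.mem_quotient_iff_mem hq]
    exact Ideal.mem_of_liesOver q p r
  set pb := p.map (Ideal.Quotient.mk p₀) with hpb
  set qb := q.map (Ideal.Quotient.mk q₀) with hqb
  set J := pb.map (algebraMap (R ⧸ p₀) (S ⧸ q₀)) with hJ
  have hJq : J ≤ qb := by
    rw [hJ, Ideal.map_le_iff_le_comap]
    exact (Ideal.over_def qb pb).le
  have h1 := Ideal.height_le_height_add_of_liesOver pb qb
  haveI hQ : (qb.map (Ideal.Quotient.mk J)).IsPrime :=
    Ideal.map_isPrime_of_surjective Ideal.Quotient.mk_surjective (by rw [Ideal.mk_ker]; exact hJq)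
  obtain ⟨r, hrmin, hrQ, hrht⟩ := exists_minimalPrimes_height_map_eq (qb.map (Ideal.Quotient.mk J))
  haveI : r.IsPrime := hrmin.1.1
  let φ : S →+* (S ⧸ q₀) ⧸ J := (Ideal.Quotient.mk J).comp (Ideal.Quotient.mk q₀)
  have hφ : Function.Surjective φ :=
    Ideal.Quotient.mk_surjective.comp Ideal.Quotient.mk_surjective
  have hQcomap : (qb.map (Ideal.Quotient.mk J)).comap φ = q := by
    change ((qb.map (Ideal.Quotient.mk J)).comap (Ideal.Quotient.mk J)).comap
      (Ideal.Quotient.mk q₀) = q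
    rw [Ideal.comap_map_of_surjective _ Ideal.Quotient.mk_surjective, ← RingHom.ker_eq_comap_bot,
      Ideal.mk_ker, sup_eq_left.2 hJq, hqb,
      Ideal.comap_map_of_surjective _ Ideal.Quotient.mk_surjective, ← RingHom.ker_eq_comap_bot,
      Ideal.mk_ker, sup_eq_left.2 hq]
  refine ⟨r.comap φ, Ideal.comap_isPrime φ r, ?_, ?_, ?_, ?_⟩
  · intro s hs
    rw [Ideal.mem_comap]
    have : φ s = 0 := by
      change Ideal.Quotient.mk J (Ideal.Quotient.mk q₀ s) = 0
      rw [Ideal.Quotient.eq_zero_iff_mem.2 hs, map_zero]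
    rw [this]
    exact r.zero_mem
  · rw [← hQcomap]
    exact Ideal.comap_mono hrQ
  · apply le_antisymm
    · rw [Ideal.over_def q p]
      apply Ideal.comap_mono
      rw [← hQcomap]
      exact Ideal.comap_mono hrQ
    · intro a ha
      rw [Ideal.under_def, Ideal.mem_comap, Ideal.mem_comap]
      have : φ (algebraMap R S a) = 0 := by
        change Ideal.Quotient.mk J (Ideal.Quotient.mk q₀ (algebraMap R S a)) = 0
        rw [Ideal.Quotient.eq_zero_iff_mem, hJ]
        have h2 : Ideal.Quotient.mk q₀ (algebraMap R S a) =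
            algebraMap (R ⧸ p₀) (S ⧸ q₀) (Ideal.Quotient.mk p₀ a) := rfl
        rw [h2]
        apply Ideal.mem_map_of_mem
        rw [hpb]
        exact Ideal.mem_map_of_mem _ ha
      rw [this]
      exact r.zero_mem
  · have h3 := height_map_mk_of_surjective φ hφ r (qb.map (Ideal.Quotient.mk J)) hrQ
    rw [hQcomap] at h3
    rw [h3, hrht]
    exact h1

end Groth.Agent.H1.DimSel
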