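import Mathlib
import Groth.Agent.Lib.Helper1.DimLocF
import Groth.Agent.Lib.Helper1.DimSel
import Groth.Agent.Lib.Helper1.DimFun2

/-! # Existence of a good generic point of the fibre when the dimension formula holds. -/

set_option autoImplicit false
set_option linter.style.haveILetI false
universe u
open CategoryTheory AlgebraicGeometry

namespace Groth.Agent.H1.DimLoc

open Groth.Agent.H1.DimIneq Groth.Agent.H1.DimEq

variable {X Y : Scheme.{u}}

/-- the local fibre dimension increases under specialization inside a fibre. -/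
theorem fibreDimAt_le_of_specializes_fibre (f : X ⟶ Y) (x z : X) (hzx : z ⤳ x)
    (hfz : f z = f x) : FlatMor.fibreDimAt f z ≤ FlatMor.fibreDimAt f x := by
  obtain ⟨zT, hzT⟩ : z ∈ Set.range (f.fiberι (f x)) := by
    rw [Scheme.Hom.range_fiberι]; exact hfz
  have h1 : zT ⤳ f.asFiber x := by
    apply (f.fiberι (f x)).isEmbedding.isInducing.specializes_iff.1
    rw [hzT, f.fiberι_asFiber]
    exact hzx
  have h2 := Groth.Agent.H1.DimFormula.localDim_le_of_specializes h1
  rw [Groth.Agent.H1.Chev.localDim_fiber_eq_fibreDimAt f z (f x) hfz zT hzT] at h2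
  exact h2

/-- `chart_relative_eq` in `ℕ∞`. -/
theorem chart_relative_eq_enat (f : X ⟶ Y) [LocallyOfFiniteType f] {U : X.Opens} {V : Y.Opens}
    (hU : IsAffineOpen U) (hV : IsAffineOpen V) (e : U ≤ f ⁻¹ᵁ V) (x ξ : X) (hxU : x ∈ U)
    (hξU : ξ ∈ U) (hξ : ξ ⤳ x) (hN : CAlg.IsUniversallyCatenary (Y.presheaf.stalk (f x)))
    (tx tξ : ℕ)
    (htx : @Algebra.trdeg (Y.residueField (f x)) (X.residueField x) _ _
        (f.residueFieldMap x).hom.toAlgebra = tx)
    (htξ : @Algebra.trdeg (Y.residueField (f ξ)) (X.residueField ξ) _ _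
        (f.residueFieldMap ξ).hom.toAlgebra = tξ) :
    ((hU.primeIdealOf ⟨x, hxU⟩).asIdeal.map
      (Ideal.Quotient.mk (hU.primeIdealOf ⟨ξ, hξU⟩).asIdeal)).height + (tx : ℕ∞) =
    ((hV.primeIdealOf ⟨f x, e hxU⟩).asIdeal.map
      (Ideal.Quotient.mk (hV.primeIdealOf ⟨f ξ, e hξU⟩).asIdeal)).height + (tξ : ℕ∞) := by
  have key := chart_relative_eq f hU hV e x ξ hxU hξU hξ hN
  have h3 := congrArg Cardinal.toENat key
  rw [map_add, map_add, Cardinal.toENat_ofENat, Cardinal.toENat_ofENat,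
    toENat_resTrdeg_of_eq_natCast f x tx htx, toENat_resTrdeg_of_eq_natCast f ξ tξ htξ] at h3
  exact h3

/-- `chart_fibre_eq` in `ℕ∞`. -/
theorem chart_fibre_eq_enat (f : X ⟶ Y) [LocallyOfFiniteType f] {U : X.Opens} {V : Y.Opens}
    (hU : IsAffineOpen U) (hV : IsAffineOpen V) (e : U ≤ f ⁻¹ᵁ V) (x z : X) (hxU : x ∈ U)
    (hzU : z ∈ U) (hz : z ⤳ x) (hfz : f z = f x) (tx tz : ℕ)
    (htx : @Algebra.trdeg (Y.residueField (f x)) (X.residueField x) _ _
        (f.residueFieldMap x).hom.toAlgebra = tx)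
    (htz : @Algebra.trdeg (Y.residueField (f z)) (X.residueField z) _ _
        (f.residueFieldMap z).hom.toAlgebra = tz) :
    ((hU.primeIdealOf ⟨x, hxU⟩).asIdeal.map
      (Ideal.Quotient.mk (hU.primeIdealOf ⟨z, hzU⟩).asIdeal)).height + (tx : ℕ∞) = (tz : ℕ∞) := by
  have key := chart_fibre_eq f hU hV e x z hxU hzU hz hfz
  have h3 := congrArg Cardinal.toENat key
  rw [map_add, Cardinal.toENat_ofENat,
    toENat_resTrdeg_of_eq_natCast f x tx htx, toENat_resTrdeg_of_eq_natCast f z tz htz] at h3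
  exact h3

end Groth.Agent.H1.DimLoc
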