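import Mathlib
import Groth.Prelude.Def_EGA4b
import Groth.Agent.Lib.Helper1.DimIneqD

/-!
# Equidimensionality of a localization at a prime, via relative heights
-/

set_option autoImplicit false
set_option linter.style.haveILetI false

universe u

namespace Groth.Agent.H1.EquidimLoc

open Groth.Agent.H1.DimIneq

/-- equidimensionality transfers along ring isomorphisms. -/
theorem isEquidim_of_ringEquiv {R R' : Type u} [CommRing R] [CommRing R'] (e : R ≃+* R')
    (h : EGA4.IsEquidim R) : EGA4.IsEquidim R' := by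
  intro p' hp'
  haveI : p'.IsPrime := hp'.1.1
  have hmin : p'.comap (e : R →+* R') ∈ minimalPrimes R := by
    refine ⟨⟨inferInstance, bot_le⟩, ?_⟩
    rintro I ⟨hI, -⟩ hle
    haveI := hI
    have hImap : (I.map (e : R →+* R')).IsPrime :=
      Ideal.map_isPrime_of_equiv e
    have h1 : I.map (e : R →+* R') ≤ p' := by
      rw [Ideal.map_le_iff_le_comap]; exact hle
    have h2 := hp'.2 ⟨hImap, bot_le⟩ h1
    intro r hr
    have : (e : R →+* R') r ∈ I.map (e : R →+* R') := h2 hr
    rw [Ideal.mem_map_iff_of_surjective (e : R →+* R') e.surjective] at this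
    obtain ⟨s, hs, hse⟩ := this
    have : s = r := e.injective hse
    rwa [← this]
  have h1 := h _ hmin
  have e' : (R ⧸ p'.comap (e : R →+* R')) ≃+* (R' ⧸ p') :=
    Ideal.quotientEquiv _ _ e (by
      rw [Ideal.map_comap_of_surjective (e : R →+* R') e.surjective])
  rw [← ringKrullDim_eq_of_ringEquiv e', ← ringKrullDim_eq_of_ringEquiv e]
  exact h1

variable {B : Type u} [CommRing B]

/-- the quotient of `B_q` by the extension of a prime `q₀ ≤ q` has dimension `ht (q / q₀)`. -/
theorem ringKrullDim_localization_quotient (q₀ q : Ideal B) [q₀.IsPrime] [q.IsPrime]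
    (hle : q₀ ≤ q) :
    ringKrullDim (Localization.AtPrime q ⧸ q₀.map (algebraMap B (Localization.AtPrime q))) =
      ((q.map (Ideal.Quotient.mk q₀)).height : WithBot ℕ∞) := by
  haveI hp' : (q.map (Ideal.Quotient.mk q₀)).IsPrime :=
    Ideal.map_isPrime_of_surjective Ideal.Quotient.mk_surjective (by rw [Ideal.mk_ker]; exact hle)
  have hM : Algebra.algebraMapSubmonoid (B ⧸ q₀) q.primeCompl =
      (q.map (Ideal.Quotient.mk q₀)).primeCompl := by
    ext d
    obtain ⟨r', rfl⟩ := Ideal.Quotient.mk_surjective d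
    constructor
    · rintro ⟨r, hr, hrr'⟩
      change Ideal.Quotient.mk q₀ r' ∉ q.map (Ideal.Quotient.mk q₀)
      have hrr'' : Ideal.Quotient.mk q₀ r = Ideal.Quotient.mk q₀ r' := hrr'
      rw [← hrr'', Ideal.mem_quotient_iff_mem hle]
      exact hr
    · intro hr'
      change Ideal.Quotient.mk q₀ r' ∉ q.map (Ideal.Quotient.mk q₀) at hr'
      rw [Ideal.mem_quotient_iff_mem hle] at hr'
      exact ⟨r', hr', rfl⟩
  haveI : IsLocalization.AtPrime
      (Localization.AtPrime q ⧸ q₀.map (algebraMap B (Localization.AtPrime q)))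
      (q.map (Ideal.Quotient.mk q₀)) := by
    change IsLocalization (q.map (Ideal.Quotient.mk q₀)).primeCompl _
    rw [← hM]; infer_instance
  exact IsLocalization.AtPrime.ringKrullDim_eq_height (q.map (Ideal.Quotient.mk q₀)) _

/-- a minimal prime of `B` inside `q` extends to a minimal prime of `B_q`. -/
theorem map_mem_minimalPrimes (q₀ q : Ideal B) [q.IsPrime] (hq₀ : q₀ ∈ minimalPrimes B)
    (hle : q₀ ≤ q) :
    q₀.map (algebraMap B (Localization.AtPrime q)) ∈ minimalPrimes (Localization.AtPrime q) := by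
  haveI : q₀.IsPrime := hq₀.1.1
  have hdisj : Disjoint (q.primeCompl : Set B) q₀ := by
    rw [Set.disjoint_left]
    intro r hr hr0
    exact hr (hle hr0)
  have h1 := IsLocalization.minimalPrimes_map q.primeCompl (Localization.AtPrime q) (⊥ : Ideal B)
  rw [Ideal.map_bot] at h1
  change q₀.map (algebraMap B (Localization.AtPrime q)) ∈
    (⊥ : Ideal (Localization.AtPrime q)).minimalPrimes
  rw [h1, Set.mem_preimage,
    IsLocalization.under_map_of_isPrime_disjoint q.primeCompl (Localization.AtPrime q)
      inferInstance hdisj]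
  exact hq₀

/-- a minimal prime of `B_q` is the extension of a minimal prime of `B` inside `q`. -/
theorem exists_eq_map_of_mem_minimalPrimes (q : Ideal B) [q.IsPrime]
    (P : Ideal (Localization.AtPrime q)) (hP : P ∈ minimalPrimes (Localization.AtPrime q)) :
    ∃ q₀ ∈ minimalPrimes B, q₀ ≤ q ∧ P = q₀.map (algebraMap B (Localization.AtPrime q)) := by
  haveI : P.IsPrime := hP.1.1
  have h1 := IsLocalization.minimalPrimes_map q.primeCompl (Localization.AtPrime q) (⊥ : Ideal B)
  rw [Ideal.map_bot] at h1
  have hP' : P ∈ (⊥ : Ideal (Localization.AtPrime q)).minimalPrimes := hP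
  rw [h1, Set.mem_preimage] at hP'
  refine ⟨P.under B, hP', ?_, (IsLocalization.map_under q.primeCompl (Localization.AtPrime q) P).symm⟩
  have hdisj := ((IsLocalization.isPrime_iff_isPrime_disjoint q.primeCompl
    (Localization.AtPrime q) P).1 inferInstance).2
  intro r hr
  by_contra hrq
  exact Set.disjoint_left.1 hdisj hrq hr

/-- if all the relative heights `ht (q / q₀)` over the minimal primes `q₀ ≤ q` agree, then `B_q` is
equidimensional. -/
theorem isEquidim_localization_of_forall_height_eq (q : Ideal B) [q.IsPrime] [q.FiniteHeight]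
    (h : ∀ q₀ ∈ minimalPrimes B, ∀ q₀' ∈ minimalPrimes B, q₀ ≤ q → q₀' ≤ q →
      (q.map (Ideal.Quotient.mk q₀)).height = (q.map (Ideal.Quotient.mk q₀')).height) :
    EGA4.IsEquidim (Localization.AtPrime q) := by
  intro P hP
  obtain ⟨q₀, hq₀, hle, rfl⟩ := exists_eq_map_of_mem_minimalPrimes q P hP
  haveI : q₀.IsPrime := hq₀.1.1
  obtain ⟨q₁, hq₁, hle₁, hht⟩ := exists_minimalPrimes_height_map_eq q
  rw [ringKrullDim_localization_quotient q₀ q hle,
    IsLocalization.AtPrime.ringKrullDim_eq_height q (Localization.AtPrime q),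
    h q₀ hq₀ q₁ hq₁ hle hle₁, hht]

/-- if `B_q` is equidimensional then all relative heights `ht (q / q₀)` over minimal primes
`q₀ ≤ q` equal `ht q`. -/
theorem height_map_mk_eq_of_isEquidim (q : Ideal B) [q.IsPrime]
    (h : EGA4.IsEquidim (Localization.AtPrime q)) (q₀ : Ideal B) (hq₀ : q₀ ∈ minimalPrimes B)
    (hle : q₀ ≤ q) : (q.map (Ideal.Quotient.mk q₀)).height = q.height := by
  haveI : q₀.IsPrime := hq₀.1.1
  have h1 := h _ (map_mem_minimalPrimes q₀ q hq₀ hle)
  rw [ringKrullDim_localization_quotient q₀ q hle,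
    IsLocalization.AtPrime.ringKrullDim_eq_height q (Localization.AtPrime q)] at h1
  exact_mod_cast h1

end Groth.Agent.H1.EquidimLoc
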