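import Mathlib
import Groth.Agent.Lib.Helper1.DimIneqF

/-! # Maximal generizations (generic points of irreducible components) on schemes. -/

set_option autoImplicit false
set_option linter.style.haveILetI false
universe u
open AlgebraicGeometry CategoryTheory TopologicalSpace Topology

namespace Groth.Agent.H1.GenPts

variable {X : Scheme.{u}}

/-- the closure of a point without proper generizations is an irreducible component. -/
theorem closure_singleton_mem_irreducibleComponents {T : Type*} [TopologicalSpace T]
    [QuasiSober T] [T0Space T] (ξ : T) (h : ∀ z : T, z ⤳ ξ → z = ξ) :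
    closure ({ξ} : Set T) ∈ irreducibleComponents T := by
  refine ⟨isIrreducible_singleton.closure, ?_⟩
  intro s hs hle
  have hcl : IsIrreducible (closure s) := hs.closure
  obtain ⟨w, hw⟩ := QuasiSober.sober hcl isClosed_closure
  have hξ : ξ ∈ closure s := subset_closure (hle (subset_closure rfl))
  have hwξ : w ⤳ ξ := by
    rw [specializes_iff_mem_closure, hw.def]
    exact hξ
  have := h w hwξ
  rw [this] at hw
  rw [hw.def]
  exact subset_closure

/-- every point has a generization whose local ring has dimension zero. -/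
theorem exists_generization_stalk_dim_eq_zero (z : X) :
    ∃ ξ : X, ξ ⤳ z ∧ ringKrullDim (X.presheaf.stalk ξ) = 0 := by
  obtain ⟨U, hU, hzU⟩ : ∃ U : X.Opens, IsAffineOpen U ∧ z ∈ U := by
    obtain ⟨_, ⟨U, hU, rfl⟩, hz, -⟩ :=
      X.isBasis_affineOpens.exists_subset_of_mem_open (Set.mem_univ z) isOpen_univ
    exact ⟨U, hU, hz⟩
  obtain ⟨q₀, hmin, hle⟩ := Ideal.exists_minimalPrimes_le
    (bot_le : (⊥ : Ideal Γ(X, U)) ≤ (hU.primeIdealOf ⟨z, hzU⟩).asIdeal)
  haveI : q₀.IsPrime := hmin.1.1
  set P : Spec Γ(X, U) := ⟨q₀, inferInstance⟩ with hP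
  have hξU : hU.fromSpec P ∈ U := by
    rw [← SetLike.mem_coe, ← hU.range_fromSpec]; exact ⟨P, rfl⟩
  have hprime := Groth.Agent.H1.DimIneq.primeIdealOf_fromSpec hU P hξU
  refine ⟨hU.fromSpec P, ?_, ?_⟩
  · have h1 : P ⤳ hU.primeIdealOf ⟨z, hzU⟩ :=
      (PrimeSpectrum.le_iff_specializes (R := Γ(X, U)) P (hU.primeIdealOf ⟨z, hzU⟩)).1 hle
    have := h1.map hU.fromSpec.continuous
    rwa [hU.fromSpec_primeIdealOf] at this
  · rw [Groth.Agent.H1.DimIneq.ringKrullDim_stalk_eq_height hU _ hξU, hprime]
    have : q₀.height = 0 := Ideal.height_eq_zero_iff.2 hmin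
    change ((q₀.height : ℕ∞) : WithBot ℕ∞) = 0
    rw [this]; rfl

/-- a point with a proper generization has a local ring of dimension at least one. -/
theorem one_le_stalk_dim_of_specializes_ne {z ξ : X} (h : ξ ⤳ z) (hne : ξ ≠ z) :
    1 ≤ ringKrullDim (X.presheaf.stalk z) := by
  rw [ringKrullDim_stalk_eq_coheight]
  have hlt : z < ξ := by
    refine lt_of_le_not_ge h ?_
    intro h'
    exact hne (h.antisymm h').eq
  have := Order.coheight_add_one_le hlt
  have h1 : (1 : ℕ∞) ≤ Order.coheight z := le_trans le_add_self this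
  exact_mod_cast h1

/-- a point whose local ring has dimension zero is the generic point of an irreducible component. -/
theorem closure_mem_irreducibleComponents_of_stalk_dim_eq_zero (ξ : X)
    (h : ringKrullDim (X.presheaf.stalk ξ) = 0) :
    closure ({ξ} : Set X) ∈ irreducibleComponents X :=
  closure_singleton_mem_irreducibleComponents ξ
    (fun z hz => Groth.Agent.H1.DimIneq.eq_of_specializes_of_stalk_dim_eq_zero ξ z h hz)

end Groth.Agent.H1.GenPts
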