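import Mathlib
import Groth.Prelude.Def_EGA4b
import Groth.Prelude.Def_EGA43
import Groth.Agent.Lib.Helper1.EquidimLoc
import Groth.Agent.Lib.Helper1.DimLocG
import Groth.Agent.Lib.Helper1.DimLocD
import Groth.Agent.Lib.Helper1.RelDim
import Groth.Agent.Lib.Helper1.FibDimEt
import Groth.Agent.Lib.Helper1.GenPts

set_option autoImplicit false
set_option linter.style.haveILetI false

universe u

open CategoryTheory AlgebraicGeometry

namespace Groth.Agent.H1.EquidimLoc

variable {X Y : Scheme.{u}}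

/-- the fibre-dimension clause of `EGA43.IsEquidimAt` says the local fibre dimension is `e` on `U`. -/
theorem fibreDimAt_eq_of_forall_dim (f : X ⟶ Y) [LocallyOfFiniteType f] (U : X.Opens) (e : ℕ)
    (hfib : ∀ x' : (↥U : Type u),
      ∀ Z ∈ irreducibleComponents (↥((U.ι ≫ f).fiber ((U.ι ≫ f).base x')) : Type u),
      topologicalKrullDim (↥Z : Type u) = e) (x' : X) (hx' : x' ∈ U) :
    FlatMor.fibreDimAt f x' = e := by
  have hrel : Cyc.HasRelDim (U.ι ≫ f) e := by
    intro y' T hT
    obtain ⟨t, ht⟩ := hT.1.nonempty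
    have hy' : (U.ι ≫ f) ((U.ι ≫ f).fiberι y' t) = y' := by
      have : (U.ι ≫ f).fiberι y' t ∈ Set.range ((U.ι ≫ f).fiberι y') := ⟨t, rfl⟩
      rw [Scheme.Hom.range_fiberι] at this
      exact this
    have := hfib ((U.ι ≫ f).fiberι y' t)
    rw [hy'] at this
    exact this T hT
  have h1 := (Groth.Agent.H1.RelDim.hasRelDim_iff (U.ι ≫ f) e).1 hrel ⟨x', hx'⟩
  rw [Groth.Agent.H1.FibDimEt.fibreDimAt_comp_of_etale U.ι f ⟨x', hx'⟩] at h1
  exact h1

/-- a point whose closure is an irreducible component has no proper generizations. -/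
theorem eq_of_specializes_of_closure_mem_irreducibleComponents {T : Type*} [TopologicalSpace T]
    [T0Space T] (η : T) (h : closure ({η} : Set T) ∈ irreducibleComponents T) (η' : T)
    (hη' : η' ⤳ η) : η' = η := by
  have h1 : closure ({η} : Set T) ≤ closure ({η'} : Set T) := by
    apply closure_minimal _ isClosed_closure
    rw [Set.singleton_subset_iff]
    exact hη'.mem_closure
  have h2 := h.2 (isIrreducible_singleton.closure) h1
  have h3 : η ⤳ η' := by
    rw [specializes_iff_mem_closure]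
    exact h2 (subset_closure rfl)
  exact (hη'.antisymm h3).eq

/-- the component clause of `EGA43.IsEquidimAt`: generic points of `U` map to generic points of `Y`. -/
theorem closure_image_mem_irreducibleComponents (f : X ⟶ Y) (U : X.Opens)
    (hcomp : ∀ Z ∈ irreducibleComponents (↥U : Type u),
      ∃ W ∈ irreducibleComponents (Y : Type u), closure ((U.ι ≫ f).base '' Z) = W)
    (ξ : X) (hξU : ξ ∈ U) (hξ : ∀ z : X, z ⤳ ξ → z = ξ) :
    closure ({f ξ} : Set Y) ∈ irreducibleComponents (Y : Type u) := by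
  set ξ' : (U.toScheme : Type u) := ⟨ξ, hξU⟩ with hξ'
  have hZ : closure ({ξ'} : Set U.toScheme) ∈ irreducibleComponents (U.toScheme : Type u) := by
    apply Groth.Agent.H1.GenPts.closure_singleton_mem_irreducibleComponents
    intro z hz
    have h1 : U.ι z ⤳ U.ι ξ' := hz.map U.ι.continuous
    exact U.ι.isOpenEmbedding.injective (hξ _ h1)
  obtain ⟨W, hW, hWeq⟩ := hcomp _ hZ
  have : closure ((U.ι ≫ f).base '' closure ({ξ'} : Set U.toScheme)) =
      closure ({f ξ} : Set Y) := by
    apply le_antisymm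
    · apply closure_minimal _ isClosed_closure
      refine (image_closure_subset_closure_image (U.ι ≫ f).continuous).trans ?_
      rw [Set.image_singleton]
      rfl
    · apply closure_mono
      rw [Set.singleton_subset_iff]
      exact ⟨ξ', subset_closure rfl, rfl⟩
  rw [← this]
  rw [hWeq]
  exact hW

open Groth.Agent.H1.DimLoc Groth.Agent.H1.DimIneq in
/-- **EGA IV 13.3.6**: equidimensionality of `O_{X,x}` from that of `O_{Y,f x}` for a morphism
equidimensional at `x`, over a universally catenary local ring. -/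
theorem isEquidim_stalk_of_isEquidimAt [IsLocallyNoetherian Y] (f : X ⟶ Y)
    [LocallyOfFiniteType f] (x : X) (h : EGA43.IsEquidimAt f x)
    (hcat : CAlg.IsUniversallyCatenary (Y.presheaf.stalk (f x)))
    (hY : EGA4.IsEquidim (Y.presheaf.stalk (f x))) :
    EGA4.IsEquidim (X.presheaf.stalk x) := by
  obtain ⟨e, U, hxU, hcomp, hfib⟩ := h
  have hfd := fibreDimAt_eq_of_forall_dim f U e hfib
  obtain ⟨V, hV, hfxV⟩ : ∃ V : Y.Opens, IsAffineOpen V ∧ f x ∈ V := by
    obtain ⟨_, ⟨V, hV, rfl⟩, hz, -⟩ :=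
      Y.isBasis_affineOpens.exists_subset_of_mem_open (Set.mem_univ (f x)) isOpen_univ
    exact ⟨V, hV, hz⟩
  obtain ⟨U', hU', hxU', hU'le⟩ :=
    exists_isAffineOpen_mem_and_subset (x := x) (U := U ⊓ f ⁻¹ᵁ V) ⟨hxU, hfxV⟩
  have eUV : U' ≤ f ⁻¹ᵁ V := fun _ hz => (hU'le hz).2
  have eUU : U' ≤ U := fun _ hz => (hU'le hz).1
  obtain ⟨eX⟩ := nonempty_stalk_ringEquiv_localization hU' x hxU'
  obtain ⟨eY⟩ := nonempty_stalk_ringEquiv_localization hV (f x) (eUV hxU')
  have hY' := isEquidim_of_ringEquiv eY hY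
  refine isEquidim_of_ringEquiv eX.symm ?_
  letI algRS := (f.appLE V U' eUV).hom.toAlgebra
  haveI : Algebra.FiniteType Γ(Y, V) Γ(X, U') := f.finiteType_appLE hV hU' eUV
  haveI : IsNoetherianRing Γ(Y, V) := IsLocallyNoetherian.component_noetherian ⟨V, hV⟩
  haveI : IsNoetherianRing Γ(X, U') := Algebra.FiniteType.isNoetherianRing Γ(Y, V) Γ(X, U')
  obtain ⟨tx, htx, -⟩ := Groth.Agent.H1.DimFormula.exists_fibreDimAt_eq_stalk_add_trdeg f x
  have key : ∀ q₀ ∈ minimalPrimes Γ(X, U'), q₀ ≤ (hU'.primeIdealOf ⟨x, hxU'⟩).asIdeal →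
      ((hU'.primeIdealOf ⟨x, hxU'⟩).asIdeal.map (Ideal.Quotient.mk q₀)).height + (tx : ℕ∞) =
        (hV.primeIdealOf ⟨f x, eUV hxU'⟩).asIdeal.height + (e : ℕ∞) := by
    intro q₀ hq₀ hle
    haveI : q₀.IsPrime := hq₀.1.1
    set P : Spec Γ(X, U') := ⟨q₀, inferInstance⟩ with hP
    have hξU' : hU'.fromSpec P ∈ U' := by
      rw [← SetLike.mem_coe, ← hU'.range_fromSpec]; exact ⟨P, rfl⟩
    have hprime := primeIdealOf_fromSpec hU' P hξU'
    have hξx : hU'.fromSpec P ⤳ x := by
      have h1 : P ⤳ hU'.primeIdealOf ⟨x, hxU'⟩ :=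
        (PrimeSpectrum.le_iff_specializes (R := Γ(X, U')) P (hU'.primeIdealOf ⟨x, hxU'⟩)).1 hle
      have := h1.map hU'.fromSpec.continuous
      rwa [hU'.fromSpec_primeIdealOf] at this
    have hdim0 : ringKrullDim (X.presheaf.stalk (hU'.fromSpec P)) = 0 := by
      rw [ringKrullDim_stalk_eq_height hU' _ hξU', hprime]
      have : q₀.height = 0 := Ideal.height_eq_zero_iff.2 hq₀
      change ((q₀.height : ℕ∞) : WithBot ℕ∞) = 0
      rw [this]; rfl
    have hgen : ∀ z : X, z ⤳ hU'.fromSpec P → z = hU'.fromSpec P := fun z hz =>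
      eq_of_specializes_of_stalk_dim_eq_zero _ z hdim0 hz
    obtain ⟨tξ, htξ, hfdξ⟩ := Groth.Agent.H1.DimFormula.fibreDimAt_eq_trdeg_of_generic f
      (hU'.fromSpec P) (fun x' _ hx' => hgen x' hx')
    have htξe : tξ = e := by
      have := hfd _ (eUU hξU')
      rw [hfdξ] at this
      exact_mod_cast this
    have hcl := closure_image_mem_irreducibleComponents f U (fun Z hZ => by
      obtain ⟨W, hW, -, hWe⟩ := hcomp Z hZ; exact ⟨W, hW, hWe⟩) _ (eUU hξU') hgen
    have hηgen := eq_of_specializes_of_closure_mem_irreducibleComponents _ hcl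
    have hdimη : ringKrullDim (Y.presheaf.stalk (f (hU'.fromSpec P))) = 0 :=
      Groth.Agent.H1.DimFormula.ringKrullDim_stalk_eq_zero _ hηgen
    have hmin : (hV.primeIdealOf ⟨f (hU'.fromSpec P), eUV hξU'⟩).asIdeal ∈
        minimalPrimes Γ(Y, V) := by
      rw [ringKrullDim_stalk_eq_height hV _ (eUV hξU')] at hdimη
      have h0 : (hV.primeIdealOf ⟨f (hU'.fromSpec P), eUV hξU'⟩).asIdeal.height = 0 := by
        exact_mod_cast hdimη
      exact Ideal.height_eq_zero_iff.1 h0
    have hle' := primeIdealOf_le_of_specializes hV (f x) (f (hU'.fromSpec P)) (eUV hxU')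
      (eUV hξU') (hξx.map f.continuous)
    have hC := height_map_mk_eq_of_isEquidim _ hY' _ hmin hle'
    have hrel := chart_relative_eq_enat f hU' hV eUV x (hU'.fromSpec P) hxU' hξU' hξx hcat
      tx tξ htx htξ
    rw [hprime, hC, htξe] at hrel
    exact hrel
  apply isEquidim_localization_of_forall_height_eq
  intro q₀ hq₀ q₀' hq₀' hle hle'
  have h1 := key q₀ hq₀ hle
  have h2 := key q₀' hq₀' hle'
  rw [← h2] at h1
  exact ENat.add_left_injective_of_ne_top (ENat.natCast_ne_top tx) h1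

end Groth.Agent.H1.EquidimLoc
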