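import Mathlib
import Groth.Agent.Lib.Helper1.Chev2
import Groth.Agent.Lib.Helper1.FlatRelDim

set_option autoImplicit false
universe u

namespace Groth.Agent.H1.NoethPt

open TensorProduct MvPolynomial Groth.Agent.H1.Chev Groth.Agent.H1.FibDim TopologicalSpace

/-- a point of local dimension at most `n` in a prime spectrum has a basic open neighbourhood whose
ring has dimension at most `n`. -/
theorem exists_basicOpen_dim_le {F : Type u} [CommRing F] (Q : PrimeSpectrum F) (n : ℕ)
    (hdim : FlatMor.localDim (PrimeSpectrum F) Q ≤ n) :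
    ∃ h : F, h ∉ Q.asIdeal ∧ ringKrullDim (Localization.Away h) ≤ n := by
  obtain ⟨V, hQV, hV⟩ := exists_open_dim_le_of_localDim_le Q n hdim
  obtain ⟨_, ⟨_, ⟨h, rfl⟩, rfl⟩, hQh, hhV⟩ :=
    PrimeSpectrum.isBasis_basic_opens.exists_subset_of_mem_open hQV V.isOpen
  refine ⟨h, hQh, ?_⟩
  rw [← PrimeSpectrum.topologicalKrullDim_eq_ringKrullDim]
  refine le_trans ?_ hV
  have hemb := PrimeSpectrum.localization_away_isOpenEmbedding (Localization.Away h) h
  have hrange := PrimeSpectrum.localization_away_comap_range (Localization.Away h) h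
  let ψ : PrimeSpectrum (Localization.Away h) → (V : Set (PrimeSpectrum F)) :=
    fun P => ⟨PrimeSpectrum.comap (algebraMap F (Localization.Away h)) P, hhV (by
      rw [← hrange]; exact ⟨P, rfl⟩)⟩
  have hψ : Topology.IsInducing ψ := by
    refine Topology.IsInducing.of_comp ?_ continuous_subtype_val ?_
    · exact (hemb.continuous).subtype_mk _
    · exact hemb.isInducing
  exact hψ.topologicalKrullDim_le



open TensorProduct MvPolynomial Groth.Agent.H1.Chev Groth.Agent.H1.FibDim TopologicalSpace

/-- quasi-finite Noether normalisation near a prime: if the fibre of `Spec S → Spec R` through `q`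
has dimension at most `n`, then some `S_h`, `h ∉ q`, is quasi-finite over a polynomial ring in
`m ≤ n` variables over `R`. -/
theorem exists_away_quasiFinite_mvPolynomial (R S : Type u) [CommRing R] [CommRing S] [Algebra R S]
    [Algebra.FiniteType R S] (q : PrimeSpectrum S) (n : ℕ)
    (hn : fibDim R S (q.comap (algebraMap R S)) ≤ n) :
    ∃ (m : ℕ) (_ : m ≤ n) (h : S) (φ : MvPolynomial (Fin m) R →ₐ[R] Localization.Away h),
      h ∉ q.asIdeal ∧ φ.toRingHom.QuasiFinite := by
  obtain ⟨m, hmn, b, hint⟩ := exists_aeval_isIntegral R S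
    (q.asIdeal.comap (algebraMap R S)).ResidueField (hfrac_residueField _) n hn
  have hq := quasiFiniteAt_of_isIntegral R S b q hint
  letI algRB := (aeval b : MvPolynomial (Fin m) R →ₐ[R] S).toRingHom.toAlgebra
  haveI : IsScalarTower R (MvPolynomial (Fin m) R) S :=
    IsScalarTower.of_algebraMap_eq (fun r => ((aeval b).commutes r).symm)
  haveI : Algebra.FiniteType (MvPolynomial (Fin m) R) S :=
    Algebra.FiniteType.of_restrictScalars_finiteType R _ S
  haveI : Algebra.QuasiFiniteAt (MvPolynomial (Fin m) R) q.asIdeal := hq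
  obtain ⟨h, hhq, hqf⟩ := exists_away_quasiFinite (MvPolynomial (Fin m) R) S q.asIdeal
  haveI : IsScalarTower R (MvPolynomial (Fin m) R) (Localization.Away h) :=
    IsScalarTower.of_algebraMap_eq (fun r => by
      rw [IsScalarTower.algebraMap_apply R S (Localization.Away h),
        IsScalarTower.algebraMap_apply (MvPolynomial (Fin m) R) S (Localization.Away h),
        ← IsScalarTower.algebraMap_apply R (MvPolynomial (Fin m) R) S])
  refine ⟨m, hmn, h, IsScalarTower.toAlgHom R (MvPolynomial (Fin m) R) (Localization.Away h),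
    hhq, ?_⟩
  exact RingHom.quasiFinite_algebraMap.mpr hqf



open TensorProduct MvPolynomial Groth.Agent.H1.Chev Groth.Agent.H1.FibDim TopologicalSpace

/-- the projection of a polynomial ring in `n` variables onto one in `m ≤ n` variables. -/
noncomputable def truncVars (R : Type u) [CommRing R] (m n : ℕ) :
    MvPolynomial (Fin n) R →ₐ[R] MvPolynomial (Fin m) R :=
  aeval (fun i : Fin n => if h : (i : ℕ) < m then X ⟨i, h⟩ else 0)

theorem truncVars_surjective (R : Type u) [CommRing R] {m n : ℕ} (hmn : m ≤ n) :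
    Function.Surjective (truncVars R m n) := by
  intro P
  refine ⟨rename (Fin.castLE hmn) P, ?_⟩
  rw [truncVars, aeval_rename]
  have : ((fun i : Fin n => if h : (i : ℕ) < m then (X ⟨i, h⟩ : MvPolynomial (Fin m) R) else 0) ∘
      Fin.castLE hmn) = X := by
    funext i
    simp
  rw [this]
  simp

theorem s9175 (R S : Type u) [CommRing R] [CommRing S]
    [Algebra R S] [Algebra.FiniteType R S] (p : Ideal R) [p.IsPrime] (q : Ideal S) [q.IsPrime]
    [q.LiesOver p]
    (Q : PrimeSpectrum (p.Fiber S))
    (hQ : Q.asIdeal.comap (Algebra.TensorProduct.includeRight.toRingHom) = q) (n : ℕ)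
    (hdim : FlatMor.localDim (PrimeSpectrum (p.Fiber S)) Q = (n : WithBot ℕ∞)) :
    ∃ g : S, g ∉ q ∧ ∃ φ : MvPolynomial (Fin n) R →ₐ[R] Localization.Away g,
      φ.toRingHom.FiniteType ∧ φ.toRingHom.QuasiFinite := by
  obtain ⟨h, hhQ, hh⟩ := exists_basicOpen_dim_le Q n hdim.le
  obtain ⟨r, hr, s, e⟩ := Ideal.Fiber.exists_smul_eq_one_tmul p h
  -- `r` is a unit in the fibre
  have hru : IsUnit (algebraMap R (p.Fiber S) r) := by
    rw [IsScalarTower.algebraMap_apply R p.ResidueField (p.Fiber S)]
    refine IsUnit.map _ (IsUnit.mk0 _ ?_)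
    rwa [Ne, Ideal.algebraMap_residueField_eq_zero]
  have hassoc : Associated h ((1 : p.ResidueField) ⊗ₜ[R] s) := by
    rw [← e, Algebra.smul_def]
    exact associated_unit_mul_right h _ hru
  have hsQ : (1 : p.ResidueField) ⊗ₜ[R] s ∉ Q.asIdeal := fun hmem => by
    obtain ⟨c, hc⟩ := hassoc.symm.dvd
    exact hhQ (hc ▸ Q.asIdeal.mul_mem_right c hmem)
  have hsq : s ∉ q := fun hs => hsQ (by
    rw [← hQ] at hs
    exact hs)
  -- the localised fibre
  set S₀ := Localization.Away s with hS₀
  have hdim₀ : ringKrullDim (p.ResidueField ⊗[R] S₀) ≤ n := by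
    have : IsLocalization.Away ((1 : p.ResidueField) ⊗ₜ[R] s) (Localization.Away h) :=
      IsLocalization.Away.of_associated hassoc
    let e1 : p.ResidueField ⊗[R] S₀ ≃ₐ[p.ResidueField] Localization.Away ((1 : p.ResidueField) ⊗ₜ[R] s) :=
      IsLocalization.Away.tensorProductEquivTMulRight R p.ResidueField s S₀
    let e2 : Localization.Away ((1 : p.ResidueField) ⊗ₜ[R] s) ≃ₐ[p.Fiber S] Localization.Away h :=
      IsLocalization.algEquiv (Submonoid.powers ((1 : p.ResidueField) ⊗ₜ[R] s)) _ _
    rw [ringKrullDim_eq_of_ringEquiv e1.toRingEquiv, ringKrullDim_eq_of_ringEquiv e2.toRingEquiv]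
    exact hh
  -- the prime of `S₀`
  have hq_mem : (⟨q, inferInstance⟩ : PrimeSpectrum S) ∈
      Set.range (PrimeSpectrum.comap (algebraMap S S₀)) := by
    rw [PrimeSpectrum.localization_away_comap_range S₀ s]
    exact hsq
  obtain ⟨q₀, hq₀⟩ := hq_mem
  have hq₀p : q₀.comap (algebraMap R S₀) = ⟨p, inferInstance⟩ := by
    rw [IsScalarTower.algebraMap_eq R S S₀]
    ext1
    change (q₀.comap (algebraMap S S₀)).asIdeal.comap (algebraMap R S) = p
    rw [hq₀]
    exact (q.over_def p).symm
  have hn : fibDim R S₀ (q₀.comap (algebraMap R S₀)) ≤ n := by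
    rw [hq₀p]; exact hdim₀
  obtain ⟨m, hmn, t, φ, htq, hφ⟩ := exists_away_quasiFinite_mvPolynomial R S₀ q₀ n hn
  set g₁ : S := (IsLocalization.Away.sec s t).1 with hg₁
  have hass : Associated (algebraMap S S₀ g₁) t := IsLocalization.Away.associated_sec_fst s t
  have hg₁q : g₁ ∉ q := by
    intro hmem
    apply htq
    obtain ⟨c, hc⟩ := hass.dvd
    rw [hc]
    refine Ideal.mul_mem_right _ _ ?_
    have : g₁ ∈ (q₀.comap (algebraMap S S₀)).asIdeal := by rw [hq₀]; exact hmem
    exact this
  have hloc : IsLocalization.Away (s * g₁) (Localization.Away t) :=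
    IsLocalization.Away.mul_of_associated s g₁ t hass
  refine ⟨s * g₁, fun hmem => (Ideal.IsPrime.mem_or_mem inferInstance hmem).elim hsq hg₁q, ?_⟩
  let ε : Localization.Away (s * g₁) ≃ₐ[S] Localization.Away t :=
    IsLocalization.algEquiv (Submonoid.powers (s * g₁)) _ _
  let ψ : MvPolynomial (Fin n) R →ₐ[R] Localization.Away (s * g₁) :=
    ((ε.symm.restrictScalars R : Localization.Away t →ₐ[R] Localization.Away (s * g₁))).comp
      (φ.comp (truncVars R m n))
  refine ⟨ψ, ?_, ?_⟩
  · refine RingHom.FiniteType.of_comp_finiteType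
      (f := algebraMap R (MvPolynomial (Fin n) R)) (g := ψ.toRingHom) ?_
    have : ψ.toRingHom.comp (algebraMap R (MvPolynomial (Fin n) R)) =
        algebraMap R (Localization.Away (s * g₁)) := ψ.comp_algebraMap
    rw [this]
    have : Algebra.FiniteType R (Localization.Away (s * g₁)) :=
      Algebra.FiniteType.trans (S := S) inferInstance inferInstance
    exact RingHom.finiteType_algebraMap.mpr this
  · have h1 : (truncVars R m n).toRingHom.QuasiFinite :=
      RingHom.QuasiFinite.of_finite
        (RingHom.Finite.of_surjective _ (truncVars_surjective R hmn))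
    have h2 : ((ε.symm.restrictScalars R : Localization.Away t →ₐ[R]
        Localization.Away (s * g₁))).toRingHom.QuasiFinite :=
      RingHom.QuasiFinite.of_finite
        (RingHom.Finite.of_surjective _ ε.symm.surjective)
    exact h2.comp (hφ.comp h1)

end Groth.Agent.H1.NoethPt
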