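import Mathlib
import Groth.Agent.Lib.Helper1.Miracle
import Groth.Agent.Lib.Helper1.ComplDepth
import Groth.Agent.Lib.Helper1.CMFlat
import Groth.Agent.Lib.Helper1.CritFib4
import Groth.Agent.Lib.Helper1.DimFormula2
import Groth.Agent.Lib.Helper1.FibDimBC
import Groth.Agent.Lib.Helper1.SmoothDepth
import Groth.Agent.Lib.Helper1.AlgSpDim
import Groth.Agent.Lib.Helper1.FibDimEt
import Groth.Agent.Lib.Helper5.DS.DS5
import Groth.Agent.Lib.Helper6.Liai3
import Groth.Agent.Lib.Helper1.LimFlat4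
import Groth.Agent.Lib.Helper1.NoethPt
import Groth.Agent.Lib.Helper1.SmoothDim
import Groth.Agent.Lib.Helper8.Brnch.SmoothCountSch
import Groth.Agent.Lib.Helper1.AlgSpDim3
import Groth.Agent.Lib.Helper5.JacDim.A
import Groth.Agent.Lib.Helper1.FibGen
import Groth.Agent.Lib.Helper1.CMBaseChange
import Groth.Agent.Lib.Helper2.TenCM1
import Groth.Agent.Lib.Helper1.EquidimLocB
import Groth.Agent.Lib.Helper1.FlatRelDim

set_option autoImplicit false
set_option linter.style.haveILetI false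
universe u

namespace Groth.Agent.H1.CMQF

section

open IsLocalRing

/-- **local flatness criterion over a regular base with zero-dimensional closed fibre**:
`A` regular local, `φ : A → B` local with `B` Noetherian local and `dim B/𝔪_A B = 0`. Then `φ` is
flat iff `B` is Cohen–Macaulay of the same dimension as `A`. -/
theorem flat_iff_cm_of_fiber_dim_zero {A B : Type u} [CommRing A] [CommRing B]
    [IsRegularLocalRing A] [IsNoetherianRing B] [IsLocalRing B] (φ : A →+* B) [IsLocalHom φ]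
    (h0 : ringKrullDim (B ⧸ (maximalIdeal A).map φ) = 0) :
    φ.Flat ↔ LocCoh.IsCohenMacaulayLocalRing B ∧ ringKrullDim B = ringKrullDim A := by
  letI := φ.toAlgebra
  haveI : IsLocalHom (algebraMap A B) := ‹IsLocalHom φ›
  have h0' : ringKrullDim (B ⧸ (maximalIdeal A).map (algebraMap A B)) = 0 := h0
  constructor
  · intro hfl
    haveI : Module.Flat A B := hfl
    obtain ⟨-, hdim⟩ := Groth.Agent.H1.ComplDepth.depth_dim_eq_of_fiber_dim_zero A B h0'
    exact ⟨(Groth.Agent.H1.ComplDepth.isCohenMacaulayLocalRing_iff_of_fiber_dim_zero A B h0').mp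
      (Groth.Agent.H1.CMFlat.isCohenMacaulayLocalRing_of_isRegularLocalRing A), hdim⟩
  · rintro ⟨hCM, hdim⟩
    have hCM' : LocCoh.IsCohenMacaulayModule B B := hCM.supportDim_eq_depth
    have hIeq : (((maximalIdeal A).map (algebraMap A B)) • (⊤ : Submodule B B)) =
        (maximalIdeal A).map (algebraMap A B) := by
      rw [smul_eq_mul, Ideal.mul_top]
    change Module.Flat A B
    apply Groth.Agent.H1.Miracle.flat_of_cm (A := A) (B := B) B hCM'
    rw [Module.supportDim_self_eq_ringKrullDim,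
      Module.supportDim_eq_of_equiv (Submodule.quotEquivOfEq _ _ hIeq),
      Module.supportDim_quotient_eq_ringKrullDim, h0', add_zero, hdim]

end



section

open IsLocalRing AlgebraicGeometry CategoryTheory CategoryTheory.Limits
  Groth.Agent.H1.CritFib Groth.Agent.H1.DimFormula Groth.Agent.H1.FibreStalk

/-- in `WithBot ℕ∞`: `a + t = 0` with `t : ℕ` forces `a = 0` and `t = 0`. -/
theorem withBot_add_natCast_eq_zero {a : WithBot ℕ∞} {t : ℕ} (h : a + (t : WithBot ℕ∞) = 0) :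
    a = 0 ∧ t = 0 := by
  induction a with
  | bot => simp at h
  | coe a =>
    have h1 : ((a + (t : ℕ∞) : ℕ∞) : WithBot ℕ∞) = ((0 : ℕ∞) : WithBot ℕ∞) := by
      push_cast; exact h
    have h2 : a + (t : ℕ∞) = 0 := WithBot.coe_injective h1
    have h3 := add_eq_zero.mp h2
    exact ⟨by rw [h3.1]; rfl, by exact_mod_cast h3.2⟩

variable {D Y S : Scheme.{u}}

set_option backward.isDefEq.respectTransparency false in
/-- **fibrewise flatness over a smooth target** (key lemma): let `g : D ⟶ Y` be an `S`-morphism,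
`π : Y ⟶ S` smooth with fibres of dimension `d`, and `g` quasi-finite at `x`. Then `g` is flat at
`x` iff `D → S` is Cohen–Macaulay at `x` with fibre dimension `d`. -/
theorem flat_stalkMap_iff_isCMAt (g : D ⟶ Y) (π : Y ⟶ S) [LocallyOfFinitePresentation (g ≫ π)]
    [Smooth π] (d : ℕ) (hd : ∀ y : Y, FlatMor.fibreDimAt π y = d) (x : D)
    (hqf : FlatMor.fibreDimAt g x = 0) :
    (g.stalkMap x).hom.Flat ↔
      MoreMor.IsCMAt (g ≫ π) x ∧ FlatMor.fibreDimAt (g ≫ π) x = d := by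
  haveI : LocallyOfFiniteType π := inferInstance
  haveI : Flat π := inferInstance
  haveI : LocallyOfFinitePresentation g := locallyOfFinitePresentation_of_comp g π
  set s : S := π (g x) with hs
  set h := MoreMor.fiberMap g π s with hh
  set z := (g ≫ π).asFiber x with hz
  have hcrit := crit_stalk_iff g π x
  have hπflat : (π.stalkMap (g x)).hom.Flat := Flat.stalkMap π (g x)
  have hpb := isPullback_fiberMap g π s
  haveI : LocallyOfFiniteType h := MorphismProperty.of_isPullback hpb inferInstance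
  have hhz : h z = π.asFiber (g x) := fiberMap_asFiber g π x
  -- regularity of the target fibre
  haveI : Smooth (π.fiberToSpecResidueField s) :=
    inferInstanceAs (Smooth (pullback.snd π (S.fromSpecResidueField s)))
  haveI hreg : IsRegularLocalRing ((π.fiber s).presheaf.stalk (h z)) :=
    Groth.Agent.H1.SmoothDepth.isRegularLocalRing_stalk_of_smooth (S.residueField s)
      (π.fiberToSpecResidueField s) (h z)
  -- zero-dimensional closed fibre
  have hfd0 : FlatMor.fibreDimAt h z = 0 := by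
    have hx : ((g ≫ π).fiberι s) z = x := (g ≫ π).fiberι_asFiber x
    rw [Groth.Agent.H1.FibDimBC.fibreDimAt_eq_of_isPullback g (π.fiberι s) ((g ≫ π).fiberι s) h
      hpb z, hx]
    exact hqf
  have h0 : ringKrullDim (((g ≫ π).fiber s).presheaf.stalk z ⧸
      (maximalIdeal ((π.fiber s).presheaf.stalk (h z))).map (h.stalkMap z).hom) = 0 := by
    obtain ⟨t, -, hdim⟩ := exists_fibreDimAt_eq_stalk_add_trdeg h z
    rw [hfd0] at hdim
    rw [ringKrullDim_eq_of_ringEquiv (fiberStalkEquiv h z)]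
    exact (withBot_add_natCast_eq_zero hdim.symm).1
  have hLA := flat_iff_cm_of_fiber_dim_zero (h.stalkMap z).hom h0
  -- dimensions
  obtain ⟨t₁, ht₁, h₁'⟩ := exists_fibreDimAt_eq_stalk_add_trdeg (g ≫ π) x
  have h₁ : FlatMor.fibreDimAt (g ≫ π) x =
      ringKrullDim (((g ≫ π).fiber s).presheaf.stalk z) + (t₁ : WithBot ℕ∞) := h₁'
  obtain ⟨t₂, ht₂, h₂'⟩ := exists_fibreDimAt_eq_stalk_add_trdeg π (g x)
  have h₂ : FlatMor.fibreDimAt π (g x) =
      ringKrullDim ((π.fiber s).presheaf.stalk (π.asFiber (g x))) + (t₂ : WithBot ℕ∞) := h₂'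
  obtain ⟨t₃, ht₃, h₃⟩ := exists_fibreDimAt_eq_stalk_add_trdeg g x
  have ht30 : t₃ = 0 := by
    rw [hqf] at h₃
    exact (withBot_add_natCast_eq_zero h₃.symm).2
  have ht : t₁ = t₂ := by
    have := trdeg_residueField_comp g π x
    rw [ht₁, ht₂, ht₃, ht30] at this
    have h' : (t₂ : Cardinal.{u}) = t₁ := by simpa using this
    exact_mod_cast h'.symm
  rw [hd (g x), ← hhz] at h₂
  have hdimiff : ringKrullDim (((g ≫ π).fiber s).presheaf.stalk z) =
      ringKrullDim ((π.fiber s).presheaf.stalk (h z)) ↔ FlatMor.fibreDimAt (g ≫ π) x = d := by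
    rw [h₁, h₂, ht]
    constructor
    · intro e; rw [e]
    · intro e; exact Groth.Agent.H1.AlgSpDim.withBot_add_natCast_cancel e
  constructor
  · intro hfl
    obtain ⟨hf1, hf2⟩ := hcrit.mpr ⟨hπflat, hfl⟩
    obtain ⟨hCM, hdim⟩ := hLA.mp hf2
    exact ⟨⟨hf1, hCM⟩, hdimiff.mp hdim⟩
  · rintro ⟨⟨hf1, hCM⟩, hdim⟩
    have hf2 : (h.stalkMap z).hom.Flat := hLA.mpr ⟨hCM, hdimiff.mpr hdim⟩
    exact (hcrit.mp ⟨hf1, hf2⟩).2

end



section

open IsLocalRing AlgebraicGeometry CategoryTheory CategoryTheory.Limits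
  Groth.Agent.H1.CritFib Groth.Agent.H1.DimFormula Groth.Agent.H1.FibreStalk

variable {U X S : Scheme.{u}}

/-- Cohen–Macaulayness of a stalk only depends on the point. -/
theorem cm_stalk_congr {T : Scheme.{u}} {a b : T} (e : a = b) :
    LocCoh.IsCohenMacaulayLocalRing (T.presheaf.stalk a) ↔
      LocCoh.IsCohenMacaulayLocalRing (T.presheaf.stalk b) := by
  subst e; rfl

/-- an open immersion preserves and reflects Cohen–Macaulayness of stalks. -/
theorem cm_stalk_iff_of_isOpenImmersion {P Q : Scheme.{u}} (j : P ⟶ Q) [IsOpenImmersion j] (p : P) :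
    LocCoh.IsCohenMacaulayLocalRing (Q.presheaf.stalk (j p)) ↔
      LocCoh.IsCohenMacaulayLocalRing (P.presheaf.stalk p) := by
  have hiso : IsIso (j.stalkMap p) := inferInstance
  let σ : Q.presheaf.stalk (j p) ≃+* P.presheaf.stalk p :=
    (asIso (j.stalkMap p)).commRingCatIsoToRingEquiv
  constructor
  · intro h
    exact Groth.Agent.H6.Liai.cmLocal_of_ringEquiv σ
  · intro h
    exact Groth.Agent.H6.Liai.cmLocal_of_ringEquiv σ.symm

set_option backward.isDefEq.respectTransparency false in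
/-- being Cohen–Macaulay at a point is insensitive to open immersions into the source. -/
theorem isCMAt_comp_iff (j : U ⟶ X) [IsOpenImmersion j] (f : X ⟶ S) (x : U) :
    MoreMor.IsCMAt (j ≫ f) x ↔ MoreMor.IsCMAt f (j x) := by
  have hpb := isPullback_fiberMap j f (f (j x))
  haveI : IsOpenImmersion (MoreMor.fiberMap j f (f (j x))) :=
    MorphismProperty.of_isPullback hpb inferInstance
  have hz : (MoreMor.fiberMap j f (f (j x))) ((j ≫ f).asFiber x) = f.asFiber (j x) :=
    fiberMap_asFiber j f x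
  have h1 := cm_stalk_iff_of_isOpenImmersion (MoreMor.fiberMap j f (f (j x))) ((j ≫ f).asFiber x)
  have h2 := cm_stalk_congr hz
  have h3 := H5.DS.flat_stalkMap_comp j f x
  unfold MoreMor.IsCMAt
  exact and_congr h3.symm (h1.symm.trans h2)

/-- the local fibre dimension is insensitive to open immersions into the source. -/
theorem fibreDimAt_comp_isOpenImmersion (j : U ⟶ X) [IsOpenImmersion j] (f : X ⟶ S) (x : U) :
    FlatMor.fibreDimAt (j ≫ f) x = FlatMor.fibreDimAt f (j x) :=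
  Groth.Agent.H1.FibDimEt.fibreDimAt_comp_of_etale j f x

end



section

open IsLocalRing AlgebraicGeometry CategoryTheory CategoryTheory.Limits

variable {D Y : Scheme.{u}}

/-- flatness of a stalk map in an affine chart, over the ring of the chart of the target. -/
theorem flat_stalkMap_iff_chart (g : D ⟶ Y) {V : Y.Opens} (hV : IsAffineOpen V) {W : D.Opens}
    (hW : IsAffineOpen W) (e : W ≤ g ⁻¹ᵁ V) (x : D) (hx : x ∈ W) :
    letI := (g.appLE V W e).hom.toAlgebra
    (g.stalkMap x).hom.Flat ↔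
      Module.Flat Γ(Y, V) (LocalizedModule (hW.primeIdealOf ⟨x, hx⟩).asIdeal.primeCompl Γ(D, W)) := by
  letI := (g.appLE V W e).hom.toAlgebra
  haveI hlo : (hW.primeIdealOf ⟨x, hx⟩).asIdeal.LiesOver (hV.primeIdealOf ⟨g x, e hx⟩).asIdeal :=
    ⟨congr($(IsAffineOpen.comap_primeIdealOf_appLE V hV W hW e hx).1).symm⟩
  have h1 := H5.DS.flat_stalkMap_iff (f := g) (x := x) V hV W hW e hx
  rw [h1]
  letI := Localization.AtPrime.algebraOfLiesOver (hV.primeIdealOf ⟨g x, e hx⟩).asIdeal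
      (hW.primeIdealOf ⟨x, hx⟩).asIdeal
  rw [Module.flat_iff_of_isLocalization (Localization.AtPrime (hV.primeIdealOf ⟨g x, e hx⟩).asIdeal)
    (hV.primeIdealOf ⟨g x, e hx⟩).asIdeal.primeCompl]

set_option backward.isDefEq.respectTransparency false in
/-- **openness of the flat locus** of a morphism locally of finite presentation. -/
theorem exists_flat_nhd (g : D ⟶ Y) [LocallyOfFinitePresentation g] (x : D)
    (h : (g.stalkMap x).hom.Flat) : ∃ U : D.Opens, x ∈ U ∧ Flat (U.ι ≫ g) := by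
  obtain ⟨_, ⟨V, hV, rfl⟩, hgxV, -⟩ :=
    Y.isBasis_affineOpens.exists_subset_of_mem_open (Set.mem_univ (g x)) isOpen_univ
  obtain ⟨_, ⟨W, hW, rfl⟩, hxW, hWsub⟩ := D.isBasis_affineOpens.exists_subset_of_mem_open
    (show x ∈ ((g ⁻¹ᵁ V : D.Opens) : Set D) from hgxV) (g ⁻¹ᵁ V).isOpen
  have e : W ≤ g ⁻¹ᵁ V := hWsub
  letI := (g.appLE V W e).hom.toAlgebra
  haveI : Algebra.FinitePresentation Γ(Y, V) Γ(D, W) := g.finitePresentation_appLE hV hW e
  haveI hfl : Module.Flat Γ(Y, V)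
      (LocalizedModule (hW.primeIdealOf ⟨x, hxW⟩).asIdeal.primeCompl Γ(D, W)) :=
    (flat_stalkMap_iff_chart g hV hW e x hxW).mp h
  obtain ⟨b, hb, hflat⟩ := Groth.Agent.H1.LimFlat.exists_flat_nhd_of_finitePresentation
    (R := Γ(Y, V)) (S := Γ(D, W)) (M := Γ(D, W)) (hW.primeIdealOf ⟨x, hxW⟩).asIdeal
  have hxb : x ∈ D.basicOpen b := by
    have h1 : x ∈ D.basicOpen b ↔ hW.primeIdealOf ⟨x, hxW⟩ ∈ hW.fromSpec ⁻¹ᵁ D.basicOpen b := by
      change _ ↔ hW.fromSpec (hW.primeIdealOf ⟨x, hxW⟩) ∈ D.basicOpen b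
      rw [hW.fromSpec_primeIdealOf]
    rw [h1, hW.fromSpec_preimage_basicOpen]
    exact hb
  refine ⟨D.basicOpen b, hxb, Flat.of_stalkMap _ fun x' => ?_⟩
  rw [← H5.DS.flat_stalkMap_comp]
  have hx'W : (D.basicOpen b).ι x' ∈ W := D.basicOpen_le b x'.2
  rw [flat_stalkMap_iff_chart g hV hW e _ hx'W]
  apply hflat
  have h1 : (D.basicOpen b).ι x' ∈ D.basicOpen b ↔
      hW.primeIdealOf ⟨(D.basicOpen b).ι x', hx'W⟩ ∈ hW.fromSpec ⁻¹ᵁ D.basicOpen b := by
    change _ ↔ hW.fromSpec (hW.primeIdealOf ⟨_, hx'W⟩) ∈ D.basicOpen b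
    rw [hW.fromSpec_primeIdealOf]
  have h2 := h1.mp x'.2
  rw [hW.fromSpec_preimage_basicOpen] at h2
  exact h2

end



section

open IsLocalRing AlgebraicGeometry CategoryTheory CategoryTheory.Limits TensorProduct
  Groth.Agent.H1.GenFib Groth.Agent.H1.FibDim Groth.Agent.H1.Chev TopologicalSpace Topology

variable {X S : Scheme.{u}}

/-- a point where the fibre has local dimension at most `n` has an affine chart in which the fibre
ring has dimension at most `n`. -/
theorem exists_affine_fibDim_le (f : X ⟶ S) [LocallyOfFiniteType f] (x₀ : X) (n : ℕ)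
    (hx₀ : FlatMor.fibreDimAt f x₀ ≤ n) :
    ∃ (W : S.Opens) (hW : IsAffineOpen W) (U : X.Opens) (hU : IsAffineOpen U) (e : U ≤ f ⁻¹ᵁ W)
      (hxU : x₀ ∈ U),
      letI := (f.appLE W U e).hom.toAlgebra
      fibDim Γ(S, W) Γ(X, U) ((hU.primeIdealOf ⟨x₀, hxU⟩).comap (algebraMap Γ(S, W) Γ(X, U))) ≤ n := by
  obtain ⟨V₀, hzV₀, hV₀⟩ := exists_open_dim_le_of_localDim_le (f.asFiber x₀) n hx₀
  obtain ⟨U₀, hU₀, hU₀V⟩ := (f.fiberι (f x₀)).isEmbedding.isInducing.isOpen_iff.mp V₀.isOpen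
  have hx₀U₀ : x₀ ∈ U₀ := by
    have h1 : f.asFiber x₀ ∈ (f.fiberι (f x₀)) ⁻¹' U₀ := by rw [hU₀V]; exact hzV₀
    rwa [Set.mem_preimage, f.fiberι_asFiber] at h1
  obtain ⟨_, ⟨W, hW, rfl⟩, hsW, -⟩ :=
    S.isBasis_affineOpens.exists_subset_of_mem_open (Set.mem_univ (f x₀)) isOpen_univ
  obtain ⟨_, ⟨U, hU, rfl⟩, hxU, hUsub⟩ := X.isBasis_affineOpens.exists_subset_of_mem_open
    (show x₀ ∈ U₀ ∩ (f ⁻¹ᵁ W : Set X) from ⟨hx₀U₀, hsW⟩) (hU₀.inter (f ⁻¹ᵁ W).isOpen)
  have e : U ≤ f ⁻¹ᵁ W := fun x hx => (hUsub hx).2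
  refine ⟨W, hW, U, hU, e, hxU, ?_⟩
  have hdim : topologicalKrullDim ↥((f.fiberι (f x₀)) ⁻¹' (U : Set X)) ≤ n := by
    refine le_trans (Groth.Agent.H3.TopDim.dim_mono ?_) hV₀
    intro z hz
    have : z ∈ (f.fiberι (f x₀)) ⁻¹' U₀ := (hUsub hz).1
    rwa [hU₀V] at this
  letI algA := (f.appLE W U e).hom.toAlgebra
  haveI : Algebra.FiniteType Γ(S, W) Γ(X, U) := f.finiteType_appLE hW hU e
  set q₀ : PrimeSpectrum Γ(X, U) := hU.primeIdealOf ⟨x₀, hxU⟩ with hq₀
  have hcomap : q₀.comap (algebraMap Γ(S, W) Γ(X, U)) = hW.primeIdealOf ⟨f x₀, hsW⟩ :=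
    IsAffineOpen.comap_primeIdealOf_appLE W hW U hU e hxU
  letI := (S.evaluation W (f x₀) hsW).hom.toAlgebra
  rw [hcomap, ← ringKrullDim_tensor_eq_fibDim Γ(S, W) Γ(X, U) (S.residueField (f x₀))
    (hW.primeIdealOf ⟨f x₀, hsW⟩) (ker_evaluation hW (f x₀) hsW),
    ← topologicalKrullDim_fiberPiece f hU hW e (f x₀) hsW]
  exact hdim

end



section

open IsLocalRing AlgebraicGeometry CategoryTheory CategoryTheory.Limits TensorProduct
  TopologicalSpace Topology

variable {X S : Scheme.{u}}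

/-- the morphism from an affine open of `X` to affine space over `S` defined by a ring map out of a
polynomial ring over an affine open of `S`. -/
noncomputable def toAffineSpace (n : Type u) {W : S.Opens} (hW : IsAffineOpen W)
    {D : X.Opens} (hD : IsAffineOpen D) (ψ : MvPolynomial n Γ(S, W) →+* Γ(X, D)) :
    (D : Scheme.{u}) ⟶ 𝔸(n; S) :=
  hD.isoSpec.hom ≫ Spec.map (CommRingCat.ofHom ψ) ≫ (AffineSpace.SpecIso n Γ(S, W)).inv ≫
    AffineSpace.map n hW.fromSpec

theorem toAffineSpace_over (f : X ⟶ S) (n : Type u) {W : S.Opens} (hW : IsAffineOpen W)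
    {D : X.Opens} (hD : IsAffineOpen D) (e : D ≤ f ⁻¹ᵁ W)
    (ψ : MvPolynomial n Γ(S, W) →+* Γ(X, D))
    (hψ : ψ.comp MvPolynomial.C = (f.appLE W D e).hom) :
    toAffineSpace n hW hD ψ ≫ (𝔸(n; S) ↘ S) = D.ι ≫ f := by
  have h1 : CommRingCat.ofHom (MvPolynomial.C (σ := n)) ≫ CommRingCat.ofHom ψ = f.appLE W D e := by
    ext1
    exact hψ
  rw [toAffineSpace, Category.assoc, Category.assoc, Category.assoc, AffineSpace.map_over,
    AffineSpace.SpecIso_inv_over_assoc, ← Spec.map_comp_assoc, h1,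
    IsAffineOpen.SpecMap_appLE_fromSpec f hW hD e, IsAffineOpen.isoSpec_hom_fromSpec_assoc]

instance isOpenImmersion_map_fromSpec (n : Type u) {W : S.Opens} (hW : IsAffineOpen W) :
    IsOpenImmersion (AffineSpace.map n hW.fromSpec) :=
  MorphismProperty.of_isPullback (AffineSpace.isPullback_map (n := n) hW.fromSpec).flip
    inferInstance

theorem locallyQuasiFinite_toAffineSpace (n : Type u) {W : S.Opens} (hW : IsAffineOpen W)
    {D : X.Opens} (hD : IsAffineOpen D) (ψ : MvPolynomial n Γ(S, W) →+* Γ(X, D))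
    (hψ : ψ.QuasiFinite) : LocallyQuasiFinite (toAffineSpace n hW hD ψ) := by
  haveI : LocallyQuasiFinite (Spec.map (CommRingCat.ofHom ψ)) :=
    (HasRingHomProperty.Spec_iff (P := @LocallyQuasiFinite)).mpr hψ
  haveI := isOpenImmersion_map_fromSpec n hW
  unfold toAffineSpace
  infer_instance

end



section

open IsLocalRing AlgebraicGeometry CategoryTheory CategoryTheory.Limits TensorProduct
  Groth.Agent.H1.GenFib Groth.Agent.H1.FibDim Groth.Agent.H1.Chev TopologicalSpace Topology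
  Groth.Agent.H1.NoethPt

variable {X S : Scheme.{u}}

set_option backward.isDefEq.respectTransparency false in
/-- **local quasi-finite projection to affine space**: if the fibre of `f` through `x` has local
dimension at most `d` at `x`, an open neighbourhood of `x` admits a locally quasi-finite
`S`-morphism to `𝔸^d_S`. -/
theorem exists_locallyQuasiFinite_toAffineSpace (f : X ⟶ S) [LocallyOfFiniteType f] (x : X) (d : ℕ)
    (hx : FlatMor.fibreDimAt f x ≤ d) :
    ∃ (D : X.Opens) (g : (D : Scheme.{u}) ⟶ 𝔸(ULift.{u} (Fin d); S)), x ∈ D ∧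
      g ≫ (𝔸(ULift.{u} (Fin d); S) ↘ S) = D.ι ≫ f ∧ LocallyQuasiFinite g := by
  obtain ⟨W, hW, U, hU, e, hxU, hfd⟩ := exists_affine_fibDim_le f x d hx
  letI algA := (f.appLE W U e).hom.toAlgebra
  haveI : Algebra.FiniteType Γ(S, W) Γ(X, U) := f.finiteType_appLE hW hU e
  obtain ⟨m, hmd, h, φ, hhq, hφ⟩ := exists_away_quasiFinite_mvPolynomial Γ(S, W) Γ(X, U)
    (hU.primeIdealOf ⟨x, hxU⟩) d hfd
  have hxh : x ∈ X.basicOpen h := by
    have h1 : x ∈ X.basicOpen h ↔ hU.primeIdealOf ⟨x, hxU⟩ ∈ hU.fromSpec ⁻¹ᵁ X.basicOpen h := by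
      change _ ↔ hU.fromSpec (hU.primeIdealOf ⟨x, hxU⟩) ∈ X.basicOpen h
      rw [hU.fromSpec_primeIdealOf]
    rw [h1, hU.fromSpec_preimage_basicOpen]
    exact hhq
  have hD : IsAffineOpen (X.basicOpen h) := hU.basicOpen h
  have e' : X.basicOpen h ≤ f ⁻¹ᵁ W := (X.basicOpen_le h).trans e
  letI algA' := (f.appLE W (X.basicOpen h) e').hom.toAlgebra
  haveI : IsScalarTower Γ(S, W) Γ(X, U) Γ(X, X.basicOpen h) :=
    IsScalarTower.of_algebraMap_eq (fun r => by
      change (f.appLE W (X.basicOpen h) e').hom r =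
        (X.presheaf.map (homOfLE (X.basicOpen_le h)).op).hom ((f.appLE W U e).hom r)
      rw [← CommRingCat.comp_apply, Scheme.Hom.appLE_map])
  haveI : IsLocalization.Away h Γ(X, X.basicOpen h) := hU.isLocalization_basicOpen h
  let ε : Localization.Away h ≃ₐ[Γ(X, U)] Γ(X, X.basicOpen h) :=
    IsLocalization.algEquiv (Submonoid.powers h) _ _
  let ρ : MvPolynomial (ULift.{u} (Fin d)) Γ(S, W) →ₐ[Γ(S, W)] MvPolynomial (Fin d) Γ(S, W) :=
    MvPolynomial.rename Equiv.ulift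
  let ψ₀ : MvPolynomial (ULift.{u} (Fin d)) Γ(S, W) →ₐ[Γ(S, W)] Γ(X, X.basicOpen h) :=
    ((ε.restrictScalars Γ(S, W) : Localization.Away h →ₐ[Γ(S, W)] Γ(X, X.basicOpen h))).comp
      (φ.comp ((truncVars Γ(S, W) m d).comp ρ))
  have hψC : ψ₀.toRingHom.comp MvPolynomial.C = (f.appLE W (X.basicOpen h) e').hom := by
    rw [← MvPolynomial.algebraMap_eq]
    exact ψ₀.comp_algebraMap
  have hψqf : ψ₀.toRingHom.QuasiFinite := by
    have h0 : ρ.toRingHom.QuasiFinite :=
      RingHom.QuasiFinite.of_finite (RingHom.Finite.of_surjective _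
        (MvPolynomial.rename_surjective _ Equiv.ulift.surjective))
    have h1 : (truncVars Γ(S, W) m d).toRingHom.QuasiFinite :=
      RingHom.QuasiFinite.of_finite
        (RingHom.Finite.of_surjective _ (truncVars_surjective Γ(S, W) hmd))
    have h2 : ((ε.restrictScalars Γ(S, W) : Localization.Away h →ₐ[Γ(S, W)]
        Γ(X, X.basicOpen h))).toRingHom.QuasiFinite :=
      RingHom.QuasiFinite.of_finite
        (RingHom.Finite.of_surjective _ ε.surjective)
    exact h2.comp (hφ.comp (h1.comp h0))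
  exact ⟨X.basicOpen h, toAffineSpace (ULift.{u} (Fin d)) hW hD ψ₀.toRingHom, hxh,
    toAffineSpace_over f _ hW hD e' _ hψC, locallyQuasiFinite_toAffineSpace _ hW hD _ hψqf⟩

end



section

open IsLocalRing AlgebraicGeometry CategoryTheory CategoryTheory.Limits TensorProduct
  TopologicalSpace Topology

/-- post-composing with an isomorphism does not change the local fibre dimension. -/
theorem fibreDimAt_comp_iso {X T T' : Scheme.{u}} (a : X ⟶ T) [LocallyOfFiniteType a] (i : T ⟶ T')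
    [IsIso i] (p : X) : FlatMor.fibreDimAt (a ≫ i) p = FlatMor.fibreDimAt a p := by
  have hpb : IsPullback (𝟙 X) a (a ≫ i) i := IsPullback.of_horiz_isIso ⟨by simp⟩
  have := Groth.Agent.H1.FibDimBC.fibreDimAt_eq_of_isPullback (a ≫ i) i (𝟙 X) a hpb p
  simpa using this.symm

set_option backward.isDefEq.respectTransparency false in
/-- the fibres of `𝔸^d_S → S` have local dimension `d` at every point. -/
theorem fibreDimAt_affineSpace (d : ℕ) (S : Scheme.{u}) (y : 𝔸(ULift.{u} (Fin d); S)) :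
    FlatMor.fibreDimAt (𝔸(ULift.{u} (Fin d); S) ↘ S) y = d := by
  have hpb : IsPullback (pullback.snd (terminal.from S)
      (terminal.from (Spec (CommRingCat.of (MvPolynomial (ULift.{u} (Fin d)) (ULift.{u} ℤ))))))
      (𝔸(ULift.{u} (Fin d); S) ↘ S)
      (terminal.from (Spec (CommRingCat.of (MvPolynomial (ULift.{u} (Fin d)) (ULift.{u} ℤ)))))
      (terminal.from S) := (IsPullback.of_hasPullback _ _).flip
  have hiso : IsIso (terminal.from (Spec (CommRingCat.of (ULift.{u} ℤ)))) :=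
    isIso_of_isTerminal specULiftZIsTerminal.{u} terminalIsTerminal (terminal.from _)
  have hC : Spec.map (CommRingCat.ofHom (MvPolynomial.C (σ := ULift.{u} (Fin d))
      (R := ULift.{u} ℤ))) ≫ terminal.from (Spec (CommRingCat.of (ULift.{u} ℤ))) =
      terminal.from _ := terminal.comp_from _
  haveI : LocallyOfFiniteType (Spec.map (CommRingCat.ofHom (MvPolynomial.C
      (σ := ULift.{u} (Fin d)) (R := ULift.{u} ℤ)))) := by
    rw [HasRingHomProperty.Spec_iff (P := @LocallyOfFiniteType)]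
    exact RingHom.finiteType_algebraMap.mpr
      (inferInstance : Algebra.FiniteType (ULift.{u} ℤ)
        (MvPolynomial (ULift.{u} (Fin d)) (ULift.{u} ℤ)))
  haveI : LocallyOfFiniteType (terminal.from
      (Spec (CommRingCat.of (MvPolynomial (ULift.{u} (Fin d)) (ULift.{u} ℤ))))) := by
    rw [← hC]; infer_instance
  rw [Groth.Agent.H1.FibDimBC.fibreDimAt_eq_of_isPullback _ _ _ _ hpb y]
  generalize (pullback.snd (terminal.from S) (terminal.from
    (Spec (CommRingCat.of (MvPolynomial (ULift.{u} (Fin d)) (ULift.{u} ℤ)))))) y = y₁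
  have h1 : FlatMor.fibreDimAt (terminal.from
      (Spec (CommRingCat.of (MvPolynomial (ULift.{u} (Fin d)) (ULift.{u} ℤ))))) y₁ =
      FlatMor.fibreDimAt (Spec.map (CommRingCat.ofHom (MvPolynomial.C (σ := ULift.{u} (Fin d))
      (R := ULift.{u} ℤ))) ≫ terminal.from (Spec (CommRingCat.of (ULift.{u} ℤ)))) y₁ := by
    rw [hC]
  rw [h1, fibreDimAt_comp_iso]
  -- rename the variables
  let ρ : MvPolynomial (Fin d) (ULift.{u} ℤ) ≃ₐ[ULift.{u} ℤ]
      MvPolynomial (ULift.{u} (Fin d)) (ULift.{u} ℤ) :=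
    MvPolynomial.renameEquiv (ULift.{u} ℤ) Equiv.ulift.symm
  have hfac : Spec.map (CommRingCat.ofHom (MvPolynomial.C (σ := ULift.{u} (Fin d))
      (R := ULift.{u} ℤ))) = Spec.map (CommRingCat.ofHom ρ.toRingEquiv.toRingHom) ≫
      Spec.map (CommRingCat.ofHom (algebraMap (ULift.{u} ℤ) (MvPolynomial (Fin d) (ULift.{u} ℤ)))) := by
    rw [← Spec.map_comp]
    congr 1
    ext1
    apply RingHom.ext
    intro a
    simp [ρ, MvPolynomial.algebraMap_eq]
  haveI : IsIso (Spec.map (CommRingCat.ofHom ρ.toRingEquiv.toRingHom)) := by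
    have : IsIso (CommRingCat.ofHom ρ.toRingEquiv.toRingHom) :=
      (ρ.toRingEquiv.toCommRingCatIso).isIso_hom
    infer_instance
  rw [hfac, Groth.Agent.H1.FibDimEt.fibreDimAt_comp_of_etale,
    Groth.Agent.H1.SmoothDim.fibreDimAt_SpecMap_mvPolynomial]

end



section

open IsLocalRing AlgebraicGeometry CategoryTheory CategoryTheory.Limits TensorProduct
  TopologicalSpace Topology Groth.Agent.H1.CritFib

variable {X S : Scheme.{u}}

/-- an `S`-morphism from an open of `X` to `𝔸^d_S`, locally quasi-finite: it is flat at a point iff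
`f` is Cohen–Macaulay there with fibre dimension `d`. -/
theorem flat_stalkMap_iff_isCMAt_of_open (f : X ⟶ S) [LocallyOfFinitePresentation f] (d : ℕ)
    (D : X.Opens) (g : (D : Scheme.{u}) ⟶ 𝔸(ULift.{u} (Fin d); S))
    (hg : g ≫ (𝔸(ULift.{u} (Fin d); S) ↘ S) = D.ι ≫ f) [LocallyQuasiFinite g]
    (x : (D : Scheme.{u})) :
    (g.stalkMap x).hom.Flat ↔
      MoreMor.IsCMAt f (D.ι x) ∧ FlatMor.fibreDimAt f (D.ι x) = d := by
  haveI : LocallyOfFinitePresentation (g ≫ (𝔸(ULift.{u} (Fin d); S) ↘ S)) := by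
    rw [hg]; infer_instance
  haveI : LocallyOfFinitePresentation g :=
    locallyOfFinitePresentation_of_comp g (𝔸(ULift.{u} (Fin d); S) ↘ S)
  have hqf0 : FlatMor.fibreDimAt g x = 0 :=
    (Groth.Agent.H1.QFDim.locallyQuasiFinite_iff_fibreDimAt g).mp inferInstance x
  have h1 := flat_stalkMap_iff_isCMAt g (𝔸(ULift.{u} (Fin d); S) ↘ S) d
    (fibreDimAt_affineSpace d S) x hqf0
  rw [h1, hg]
  exact and_congr (isCMAt_comp_iff D.ι f x) (by rw [fibreDimAt_comp_isOpenImmersion D.ι f x])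

end



section

open IsLocalRing AlgebraicGeometry CategoryTheory CategoryTheory.Limits TensorProduct
  TopologicalSpace Topology Groth.Agent.H1.CritFib Groth.Agent.H1.DimFormula

variable {X S : Scheme.{u}}

/-- the local fibre dimension of a morphism locally of finite type is a natural number. -/
theorem exists_nat_fibreDimAt (f : X ⟶ S) [LocallyOfFiniteType f] (x : X) :
    ∃ d : ℕ, FlatMor.fibreDimAt f x = d := by
  obtain ⟨t, -, h⟩ := exists_fibreDimAt_eq_stalk_add_trdeg f x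
  obtain ⟨n, hn⟩ := Groth.Agent.H5.JacDim.exists_nat_ringKrullDim
    ((f.fiber (f x)).presheaf.stalk (f.asFiber x))
  exact ⟨n + t, by rw [h, hn]; push_cast; rfl⟩

/-- **neighbourhood form of the Cohen–Macaulay criterion**: around a point where `f` is
Cohen–Macaulay with fibre dimension `d`, an open neighbourhood admits a flat, locally quasi-finite
morphism to `𝔸^d_S`. -/
theorem exists_flat_lqf_of_isCMAt (f : X ⟶ S) [LocallyOfFinitePresentation f]
    (x : X) (d : ℕ) (hd : FlatMor.fibreDimAt f x = d) (hcm : MoreMor.IsCMAt f x) :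
    ∃ (U : X.Opens) (g : (U : Scheme.{u}) ⟶ 𝔸(ULift.{u} (Fin d); S)), x ∈ U ∧
      g ≫ (𝔸(ULift.{u} (Fin d); S) ↘ S) = U.ι ≫ f ∧ Flat g ∧ LocallyQuasiFinite g := by
  obtain ⟨D, g, hxD, hg, hqf⟩ := exists_locallyQuasiFinite_toAffineSpace f x d hd.le
  haveI : LocallyOfFinitePresentation (g ≫ (𝔸(ULift.{u} (Fin d); S) ↘ S)) := by
    rw [hg]; infer_instance
  haveI : LocallyOfFinitePresentation g :=
    locallyOfFinitePresentation_of_comp g (𝔸(ULift.{u} (Fin d); S) ↘ S)
  have hflx : (g.stalkMap ⟨x, hxD⟩).hom.Flat :=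
    (flat_stalkMap_iff_isCMAt_of_open f d D g hg ⟨x, hxD⟩).mpr ⟨hcm, hd⟩
  obtain ⟨U', hxU', hU'fl⟩ := exists_flat_nhd g ⟨x, hxD⟩ hflx
  refine ⟨D.ι ''ᵁ U', (D.ι.isoImage U').inv ≫ U'.ι ≫ g, ⟨⟨x, hxD⟩, hxU', rfl⟩, ?_, ?_, ?_⟩
  · rw [Category.assoc, Category.assoc, hg, Scheme.Hom.isoImage_inv_ι_assoc]
  · infer_instance
  · infer_instance

theorem s1343 (f : X ⟶ S) [Flat f] [LocallyOfFinitePresentation f]
    (x : X) (d : ℕ) (hd : FlatMor.fibreDimAt f x = d) :
    MoreMor.IsCMAt f x ↔ ∃ (U : X.Opens) (g : (U : Scheme.{u}) ⟶ 𝔸(ULift.{u} (Fin d); S)), x ∈ U ∧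
      g ≫ (𝔸(ULift.{u} (Fin d); S) ↘ S) = U.ι ≫ f ∧ Flat g ∧ LocallyQuasiFinite g := by
  constructor
  · exact exists_flat_lqf_of_isCMAt f x d hd
  · rintro ⟨U, g, hxU, hg, hfl, hqf⟩
    exact ((flat_stalkMap_iff_isCMAt_of_open f d U g hg ⟨x, hxU⟩).mp (Flat.stalkMap g ⟨x, hxU⟩)).1

/-- **openness of the Cohen–Macaulay locus with constancy of the fibre dimension.** -/
theorem exists_nhd_isCMAt (f : X ⟶ S) [LocallyOfFinitePresentation f]
    (x : X) (d : ℕ) (hd : FlatMor.fibreDimAt f x = d) (hcm : MoreMor.IsCMAt f x) :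
    ∃ U : X.Opens, x ∈ U ∧ ∀ x' ∈ U, MoreMor.IsCMAt f x' ∧ FlatMor.fibreDimAt f x' = d := by
  obtain ⟨U, g, hxU, hg, hfl, hqf⟩ := exists_flat_lqf_of_isCMAt f x d hd hcm
  refine ⟨U, hxU, fun x' hx' => ?_⟩
  exact (flat_stalkMap_iff_isCMAt_of_open f d U g hg ⟨x', hx'⟩).mp (Flat.stalkMap g ⟨x', hx'⟩)

theorem isOpen_isCMAt (f : X ⟶ S) [LocallyOfFinitePresentation f] :
    IsOpen {x : X | MoreMor.IsCMAt f x} := by
  rw [isOpen_iff_forall_mem_open]
  intro x hx
  obtain ⟨d, hd⟩ := exists_nat_fibreDimAt f x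
  obtain ⟨U, hxU, hU⟩ := exists_nhd_isCMAt f x d hd hx
  exact ⟨U, fun x' hx' => (hU x' hx').1, U.isOpen, hxU⟩

theorem s9374 (f : X ⟶ S) [Flat f]
    [LocallyOfFinitePresentation f] (hcm : ∀ x : X, MoreMor.IsCMAt f x) :
    IsLocallyConstant (fun x : ↑X => FlatMor.fibreDimAt f x) := by
  rw [IsLocallyConstant.iff_exists_open]
  intro x
  obtain ⟨d, hd⟩ := exists_nat_fibreDimAt f x
  obtain ⟨U, hxU, hU⟩ := exists_nhd_isCMAt f x d hd (hcm x)
  exact ⟨U, U.isOpen, hxU, fun x' hx' => by rw [(hU x' hx').2, hd]⟩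

end



section

open IsLocalRing AlgebraicGeometry CategoryTheory CategoryTheory.Limits TensorProduct
  TopologicalSpace Topology Groth.Agent.H1.CritFib Groth.Agent.H1.DimFormula

variable {X S : Scheme.{u}}

/-- a Noetherian local ring of dimension zero is Cohen–Macaulay. -/
theorem cmLocal_of_dim_zero (R : Type u) [CommRing R] [IsLocalRing R] [IsNoetherianRing R]
    (h : ringKrullDim R = 0) : LocCoh.IsCohenMacaulayLocalRing R := by
  haveI : Ring.KrullDimLE 0 R := Ring.krullDimLE_iff.mpr h.le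
  haveI : IsArtinianRing R := isArtinianRing_iff_isNoetherianRing_krullDimLE_zero.mpr ⟨‹_›, ‹_›⟩
  exact Groth.Agent.H2.TenCM.cmLocal_of_isArtinianRing R

/-- a flat morphism locally of finite type is Cohen–Macaulay at the maximal points of its
fibres. -/
theorem isCMAt_of_fibre_generic (f : X ⟶ S) [LocallyOfFiniteType f] (s : S) (η : f.fiber s)
    (hfl : (f.stalkMap (f.fiberι s η)).hom.Flat)
    (hη : ∀ z : f.fiber s, z ⤳ η → z = η) : MoreMor.IsCMAt f (f.fiberι s η) := by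
  have hs : f (f.fiberι s η) = s := by
    have : f.fiberι s η ∈ Set.range (f.fiberι s) := ⟨η, rfl⟩
    rw [Scheme.Hom.range_fiberι] at this
    exact this
  refine ⟨hfl, ?_⟩
  rw [← Groth.Agent.H1.CMBC.cm_stalk_fiber_congr f (f.fiberι s η) s hs η rfl]
  exact cmLocal_of_dim_zero _ (ringKrullDim_stalk_eq_zero η hη)

theorem dense_isCMAt (f : X ⟶ S) [Flat f] [LocallyOfFiniteType f] (s : S) :
    Dense ((f.fiberι s) ⁻¹' {x : ↑X | MoreMor.IsCMAt f x}) := by
  rw [dense_iff_inter_open]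
  intro O hO ⟨z, hz⟩
  obtain ⟨η, hsp, hmax, -⟩ := @Groth.Agent.H1.FibGen.exists_generic_localDim_eq
    (S.residueField s) _ _ (f.fiberToSpecResidueField s)
    (Groth.Agent.H1.Chev.locallyOfFiniteType_fiberToSpecResidueField f s) z
  exact ⟨η, hsp.mem_open hO hz, isCMAt_of_fibre_generic f s η (Flat.stalkMap f _) hmax⟩

theorem s1341 (f : X ⟶ S) [Flat f] [LocallyOfFinitePresentation f] :
    IsOpen {x : ↑X | MoreMor.IsCMAt f x} ∧
      ∀ s : S, Dense ((f.fiberι s) ⁻¹' {x : ↑X | MoreMor.IsCMAt f x}) :=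
  ⟨isOpen_isCMAt f, dense_isCMAt f⟩

end



section

open IsLocalRing AlgebraicGeometry CategoryTheory CategoryTheory.Limits TensorProduct
  TopologicalSpace Topology Groth.Agent.H1.CritFib Groth.Agent.H1.DimFormula

variable {X S : Scheme.{u}}

theorem s9739 (f : X ⟶ S) [Flat f] [LocallyOfFinitePresentation f]
    (x x' : X) (hsp : x' ⤳ x)
    (hgen : ∃ Z ∈ irreducibleComponents ↥(f.fiber (f x)), IsGenericPoint (f.asFiber x) Z) :
    FlatMor.fibreDimAt f x' = FlatMor.fibreDimAt f x := by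
  obtain ⟨Z, hZ, hgp⟩ := hgen
  have hcl : closure ({f.asFiber x} : Set ↥(f.fiber (f x))) ∈
      irreducibleComponents ↥(f.fiber (f x)) := by
    rw [hgp.def]; exact hZ
  have hmax : ∀ z : f.fiber (f x), z ⤳ f.asFiber x → z = f.asFiber x :=
    Groth.Agent.H1.EquidimLoc.eq_of_specializes_of_closure_mem_irreducibleComponents _ hcl
  have hcm : MoreMor.IsCMAt f x := by
    have := isCMAt_of_fibre_generic f (f x) (f.asFiber x)
      (by rw [f.fiberι_asFiber]; exact Flat.stalkMap f x) hmax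
    rwa [f.fiberι_asFiber] at this
  obtain ⟨d, hd⟩ := exists_nat_fibreDimAt f x
  obtain ⟨U, hxU, hU⟩ := exists_nhd_isCMAt f x d hd hcm
  rw [hd, (hU x' (hsp.mem_open U.isOpen hxU)).2]

theorem s9757 (f : X ⟶ S) [Flat f] [LocallyOfFinitePresentation f] :
    ∃ U : ℕ → X.Opens, (∀ s : S, Dense ((f.fiberι s) ⁻¹' ((⨆ d, U d : X.Opens) : Set ↑X))) ∧
      ∀ (d : ℕ) (x : ↑X), x ∈ U d → FlatMor.fibreDimAt f x = d := by
  have hopen : ∀ d : ℕ, IsOpen {x : X | MoreMor.IsCMAt f x ∧ FlatMor.fibreDimAt f x = d} := by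
    intro d
    rw [isOpen_iff_forall_mem_open]
    rintro x ⟨hcm, hd⟩
    obtain ⟨U, hxU, hU⟩ := exists_nhd_isCMAt f x d hd hcm
    exact ⟨U, fun x' hx' => hU x' hx', U.isOpen, hxU⟩
  refine ⟨fun d => ⟨_, hopen d⟩, fun s => ?_, fun d x hx => hx.2⟩
  refine (dense_isCMAt f s).mono ?_
  intro z hz
  obtain ⟨d, hd⟩ := exists_nat_fibreDimAt f (f.fiberι s z)
  change f.fiberι s z ∈ ((⨆ d, (⟨_, hopen d⟩ : X.Opens) : X.Opens) : Set X)
  rw [Opens.coe_iSup, Set.mem_iUnion]
  exact ⟨d, hz, hd⟩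

theorem s1344 {X Y : Scheme.{u}} (f : X ⟶ Y) [IsLocallyNoetherian X] [IsLocallyNoetherian Y]
    [LocallyOfFiniteType f]
    (hf : ∀ x : X, MoreMor.IsCMAt f x) (x : X) :
    FlatMor.localDim ↑X x = FlatMor.localDim ↑Y (f x) + FlatMor.fibreDimAt f x := by
  haveI : LocallyOfFinitePresentation f :=
    LocallyOfFinitePresentation.iff_locallyOfFiniteType.mpr inferInstance
  obtain ⟨d, hd⟩ := exists_nat_fibreDimAt f x
  obtain ⟨U, hxU, hU⟩ := exists_nhd_isCMAt f x d hd (hf x)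
  haveI : Flat (U.ι ≫ f) := Flat.of_stalkMap _ fun x' => by
    rw [← H5.DS.flat_stalkMap_comp]
    exact (hf _).1
  have h1 := Groth.Agent.H1.FlatRelDim.localDim_eq_add_of_flat (U.ι ≫ f) d (fun x' => by
    rw [fibreDimAt_comp_isOpenImmersion]
    exact (hU _ x'.2).2) ⟨x, hxU⟩
  rw [hd, Groth.Agent.H1.DimFormula.localDim_eq_of_isOpenEmbedding U.ι.isOpenEmbedding ⟨x, hxU⟩]
    at *
  exact h1

end

end Groth.Agent.H1.CMQF
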