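import Mathlib
import Groth.Prelude.Def_EGA43
import Groth.Agent.Lib.Helper3.UnivOpenAt
import Groth.Agent.Lib.Helper8.DVRSch

set_option autoImplicit false
open CategoryTheory AlgebraicGeometry CategoryTheory.Limits IsLocalRing TensorProduct
universe u

namespace Groth.Agent.H1.DVRCrit

/-- The DVR criterion at a point. -/
def DVRCond {X Y : Scheme.{u}} (f : X ⟶ Y) (x : X) : Prop :=
  ∀ (A : Type u) [CommRing A] [IsDomain A] [IsDiscreteValuationRing A]
    (g : Spec (CommRingCat.of A) ⟶ Y), g.base (closedPoint A) = f.base x →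
    ∀ x' : ↥(pullback f g), (pullback.fst f g).base x' = x →
      (pullback.snd f g).base x' = closedPoint A →
      ∃ z' : ↥(pullback f g), z' ⤳ x' ∧ (pullback.snd f g).base z' ≠ closedPoint A

theorem exists_specializes_of_mem_closure {T : Type*} [TopologicalSpace T]
    [TopologicalSpace.NoetherianSpace T] [QuasiSober T] {G : Set T} (hG : IsOpen G) {x : T}
    (hx : x ∈ closure G) : ∃ z ∈ G, z ⤳ x := by
  classical
  have hfin : (irreducibleComponents T).Finite :=
    TopologicalSpace.NoetherianSpace.finite_irreducibleComponents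
  let C : Set T := ⋃ Z ∈ {Z ∈ irreducibleComponents T | x ∉ Z}, Z
  have hC : IsClosed C := by
    apply Set.Finite.isClosed_biUnion (hfin.subset (fun Z hZ => hZ.1))
    intro Z hZ
    exact isClosed_of_mem_irreducibleComponents Z hZ.1
  have hxC : x ∉ C := by
    simp only [C, Set.mem_iUnion, not_exists]
    rintro Z ⟨hZ1, hZ2⟩ hxZ; exact hZ2 hxZ
  obtain ⟨w, hwC, hwG⟩ := mem_closure_iff.mp hx Cᶜ hC.isOpen_compl hxC
  obtain ⟨Z, hZ, hwZ⟩ : ∃ Z ∈ irreducibleComponents T, w ∈ Z :=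
    ⟨irreducibleComponent w, irreducibleComponent_mem_irreducibleComponents w,
      mem_irreducibleComponent⟩
  have hxZ : x ∈ Z := by
    by_contra hxZ
    exact hwC (Set.mem_biUnion (show Z ∈ {Z ∈ irreducibleComponents T | x ∉ Z} from ⟨hZ, hxZ⟩) hwZ)
  have hZirr : IsIrreducible Z := hZ.1
  have hZcl : IsClosed Z := isClosed_of_mem_irreducibleComponents Z hZ
  obtain ⟨ζ, hζ⟩ := QuasiSober.sober hZirr hZcl
  have h1 : ζ ⤳ w := hζ.specializes hwZ
  have h2 : ζ ⤳ x := hζ.specializes hxZ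
  exact ⟨ζ, h1.mem_open hG hwG, h2⟩

theorem dvrCond_of_isUnivOpenAt {X Y : Scheme.{u}} [IsLocallyNoetherian Y] (f : X ⟶ Y)
    [LocallyOfFiniteType f] (x : X) (h : EGA43.IsUnivOpenAt f x) : DVRCond f x := by
  intro A _ _ _ g hg x' hx1 hx2
  have hopen := h _ g x' hx1
  have : IsLocallyNoetherian (pullback f g) :=
    LocallyOfFiniteType.isLocallyNoetherian (pullback.snd f g)
  obtain ⟨W, hW, hxW⟩ : ∃ W : (pullback f g).Opens, IsAffineOpen W ∧ x' ∈ W := by
    obtain ⟨_, ⟨W, hW, rfl⟩, hx, -⟩ :=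
      (pullback f g).isBasis_affineOpens.exists_subset_of_mem_open (Set.mem_univ x') isOpen_univ
    exact ⟨W, hW, hx⟩
  have : IsNoetherianRing Γ(pullback f g, W) :=
    IsLocallyNoetherian.component_noetherian ⟨W, hW⟩
  haveI : TopologicalSpace.NoetherianSpace (W : Scheme.{u}) := noetherianSpace_of_isAffineOpen W hW
  haveI : QuasiSober (W : Scheme.{u}) := inferInstance
  obtain ⟨xW, hxW'⟩ : ∃ xW : (W : Scheme.{u}), W.ι.base xW = x' := by
    have h0 : x' ∈ Set.range W.ι.base := by rw [Scheme.Opens.range_ι]; exact hxW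
    exact h0
  let G : Set (W : Scheme.{u}) := {w | (pullback.snd f g).base (W.ι.base w) ≠ closedPoint A}
  have hG : IsOpen G :=
    (IsLocalRing.isClosed_singleton_closedPoint A).isOpen_compl.preimage
      ((pullback.snd f g).continuous.comp W.ι.continuous)
  have hbot : (⊥ : Ideal A).IsPrime := Ideal.isPrime_bot
  have hne : (⟨⊥, hbot⟩ : PrimeSpectrum A) ≠ closedPoint A := by
    intro h0
    have h1 : (⊥ : Ideal A) = maximalIdeal A := congrArg PrimeSpectrum.asIdeal h0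
    exact IsDiscreteValuationRing.not_a_field A h1.symm
  have hcl : xW ∈ closure G := by
    rw [mem_closure_iff]
    intro O hO hxO
    have hU : (⇑W.ι.base '' O) ∈ nhds x' :=
      (W.ι.isOpenEmbedding.isOpenMap O hO).mem_nhds ⟨_, hxO, hxW'⟩
    have h1 := hopen _ hU
    rw [hx2] at h1
    have h2 : (⟨⊥, hbot⟩ : PrimeSpectrum A) ∈ ⇑(pullback.snd f g).base '' (⇑W.ι.base '' O) :=
      mem_of_mem_nhds ((specializes_closedPoint (⟨⊥, hbot⟩ : PrimeSpectrum A)) h1)
    obtain ⟨_, ⟨w, hwO, rfl⟩, hw⟩ := h2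
    refine ⟨w, hwO, ?_⟩
    show (pullback.snd f g).base (W.ι.base w) ≠ closedPoint A
    rw [hw]; exact hne
  obtain ⟨z, hzG, hz⟩ := exists_specializes_of_mem_closure hG hcl
  refine ⟨W.ι.base z, ?_, hzG⟩
  rw [← hxW']
  exact hz.map W.ι.continuous



section B
variable {P X Y : Scheme.{u}} {f : X ⟶ Y}

set_option backward.isDefEq.respectTransparency false in
/-- DVRCond for an arbitrary pullback square over Spec A. -/
theorem dvrCond_isPullback {x : X} (hf : DVRCond f x) (A : Type u) [CommRing A] [IsDomain A]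
    [IsDiscreteValuationRing A] {g : Spec (CommRingCat.of A) ⟶ Y} {fst : P ⟶ X}
    {snd : P ⟶ Spec (CommRingCat.of A)} (sq : IsPullback fst snd f g)
    (hg : g.base (closedPoint A) = f.base x) (z : P) (hz1 : fst.base z = x)
    (hz2 : snd.base z = closedPoint A) :
    ∃ z' : P, z' ⤳ z ∧ snd.base z' ≠ closedPoint A := by
  let e := sq.isoPullback
  have h1 : (pullback.fst f g).base (e.hom.base z) = x := by
    rw [← Scheme.Hom.comp_apply, IsPullback.isoPullback_hom_fst]; exact hz1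
  have h2 : (pullback.snd f g).base (e.hom.base z) = closedPoint A := by
    rw [← Scheme.Hom.comp_apply, IsPullback.isoPullback_hom_snd]; exact hz2
  obtain ⟨z', hz', hz'2⟩ := hf A g hg _ h1 h2
  refine ⟨e.inv.base z', ?_, ?_⟩
  · have := hz'.map e.inv.continuous
    rwa [Scheme.hom_inv_apply] at this
  · rw [← Scheme.Hom.comp_apply, IsPullback.isoPullback_inv_snd]; exact hz'2

set_option backward.isDefEq.respectTransparency false in
theorem dvrCond_snd_of_isPullback {Y' : Scheme.{u}} {g : Y' ⟶ Y} {fst : P ⟶ X} {snd : P ⟶ Y'}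
    {x : X} (hf : DVRCond f x) (sq : IsPullback fst snd f g) (z : P) (hz : fst.base z = x) :
    DVRCond snd z := by
  intro A _ _ _ a ha w hw1 hw2
  have sq' := (IsPullback.of_hasPullback snd a).paste_horiz sq
  refine dvrCond_isPullback hf A sq' ?_ w ?_ hw2
  · rw [Scheme.Hom.comp_apply, ha, ← Scheme.Hom.comp_apply, ← sq.w, Scheme.Hom.comp_apply, hz]
  · rw [Scheme.Hom.comp_apply, hw1, hz]

set_option backward.isDefEq.respectTransparency false in
theorem dvrCond_of_openImmersion {X₀ Y₀ : Scheme.{u}} {f₀ : X₀ ⟶ Y₀} (iX : X₀ ⟶ X) (iY : Y₀ ⟶ Y)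
    [IsOpenImmersion iX] [IsOpenImmersion iY] (e : f₀ ≫ iY = iX ≫ f) {x : X} (hf : DVRCond f x)
    (x₀ : X₀) (hx₀ : iX.base x₀ = x) : DVRCond f₀ x₀ := by
  intro A _ _ _ a ha w hw1 hw2
  let m := pullback.map f₀ a f (a ≫ iY) iX (𝟙 _) iY e (by simp)
  have : IsOpenImmersion m := inferInstance
  have h1 : (pullback.fst f (a ≫ iY)).base (m.base w) = x := by
    rw [← Scheme.Hom.comp_apply, pullback.lift_fst, Scheme.Hom.comp_apply, hw1, hx₀]
  have h2 : (pullback.snd f (a ≫ iY)).base (m.base w) = closedPoint A := by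
    rw [← Scheme.Hom.comp_apply, pullback.lift_snd, Category.comp_id]; exact hw2
  have hg : (a ≫ iY).base (closedPoint A) = f.base x := by
    rw [Scheme.Hom.comp_apply, ha, ← Scheme.Hom.comp_apply, e, Scheme.Hom.comp_apply, hx₀]
  obtain ⟨z', hz', hz'2⟩ := hf A (a ≫ iY) hg _ h1 h2
  have hr : z' ∈ Set.range m.base := hz'.mem_open m.isOpenEmbedding.isOpen_range ⟨w, rfl⟩
  obtain ⟨z₀, rfl⟩ := hr
  refine ⟨z₀, m.isOpenEmbedding.isInducing.specializes_iff.mp hz', ?_⟩
  intro h0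
  apply hz'2
  rw [← Scheme.Hom.comp_apply, pullback.lift_snd, Category.comp_id]; exact h0

end B



theorem eq_bot_of_ne_closedPoint {A : Type*} [CommRing A] [IsDomain A] [IsDiscreteValuationRing A]
    (q : PrimeSpectrum A) (hq : q ≠ closedPoint A) : q = ⊥ := by
  by_contra h0
  apply hq
  have h1 : q.asIdeal ≠ ⊥ := fun h => h0 (PrimeSpectrum.ext h)
  have h2 : q.asIdeal.IsMaximal := q.isPrime.isMaximal h1
  exact PrimeSpectrum.ext (IsLocalRing.eq_maximalIdeal h2)

set_option backward.isDefEq.respectTransparency false in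
theorem exists_generization_of_dvrCond {X Y : Scheme.{u}} [IsLocallyNoetherian Y] {f : X ⟶ Y}
    {x : X} (hf : DVRCond f x) {η : Y} (hη : η ⤳ f.base x) : ∃ z : X, z ⤳ x ∧ f.base z = η := by
  by_cases hne : η = f.base x
  · exact ⟨x, specializes_rfl, hne.symm⟩
  obtain ⟨A, _, _, _, a, hcl, hgen⟩ := Groth.Agent.H8.DVRSch.exists_dvr_of_specializes hη hne
  obtain ⟨w, hw1, hw2⟩ :=
    Scheme.Pullback.exists_preimage_pullback (f := f) (g := a) x (closedPoint A) hcl.symm
  obtain ⟨z', hz', hz'2⟩ := hf A a hcl w hw1 hw2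
  refine ⟨(pullback.fst f a).base z', ?_, ?_⟩
  · rw [← hw1]; exact hz'.map (pullback.fst f a).continuous
  · have h1 : (pullback.snd f a).base z' = (⊥ : PrimeSpectrum A) :=
      eq_bot_of_ne_closedPoint _ hz'2
    rw [← Scheme.Hom.comp_apply, pullback.condition, Scheme.Hom.comp_apply, h1, hgen]

theorem mem_nhds_of_isConstructible {R : Type u} [CommRing R] {E : Set (PrimeSpectrum R)}
    (hE : Topology.IsConstructible E) (y : PrimeSpectrum R)
    (hy : ∀ η : PrimeSpectrum R, η ⤳ y → η ∈ E) : E ∈ nhds y := by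
  obtain ⟨C, _, φ, hφ⟩ := PrimeSpectrum.exists_range_eq_of_isConstructible hE.compl
  have hy' : y ∉ closure Eᶜ := by
    intro hmem
    rw [← hφ, PrimeSpectrum.closure_range_comap, PrimeSpectrum.mem_zeroLocus] at hmem
    obtain ⟨Q, -, hQ, hQle⟩ := Ideal.exists_ideal_comap_le_prime (f := φ) y.asIdeal ⊥
      (by rw [← RingHom.ker_eq_comap_bot]; exact hmem)
    have h1 : PrimeSpectrum.comap φ ⟨Q, hQ⟩ ∈ Eᶜ := by rw [← hφ]; exact ⟨_, rfl⟩
    have h2 : PrimeSpectrum.comap φ ⟨Q, hQ⟩ ⤳ y := by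
      rw [← PrimeSpectrum.le_iff_specializes]; exact hQle
    exact h1 (hy _ h2)
  have h3 : (closure Eᶜ)ᶜ ∈ nhds y := isClosed_closure.isOpen_compl.mem_nhds hy'
  refine Filter.mem_of_superset h3 ?_
  intro z hz
  by_contra h
  exact hz (subset_closure h)

set_option backward.isDefEq.respectTransparency false in
theorem isOpenAt_of_dvrCond {X Y : Scheme.{u}} [IsLocallyNoetherian Y] (f : X ⟶ Y)
    [LocallyOfFiniteType f] (x : X) (hf : DVRCond f x) : EGA43.IsOpenAt f.base x := by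
  intro U₁ hU₁
  obtain ⟨V, hV, hxV⟩ : ∃ V : Y.Opens, IsAffineOpen V ∧ f.base x ∈ V := by
    obtain ⟨_, ⟨V, hV, rfl⟩, hx, -⟩ :=
      Y.isBasis_affineOpens.exists_subset_of_mem_open (Set.mem_univ (f.base x)) isOpen_univ
    exact ⟨V, hV, hx⟩
  obtain ⟨U, hU, hxU, hUle⟩ : ∃ U : X.Opens, IsAffineOpen U ∧ x ∈ U ∧
      (U : Set X) ⊆ (f ⁻¹ᵁ V : Set X) ∩ interior U₁ := by
    obtain ⟨_, ⟨U, hU, rfl⟩, hx, hsub⟩ := X.isBasis_affineOpens.exists_subset_of_mem_open
      (⟨hxV, mem_interior_iff_mem_nhds.mpr hU₁⟩ : x ∈ (f ⁻¹ᵁ V : Set X) ∩ interior U₁)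
      ((f ⁻¹ᵁ V).isOpen.inter isOpen_interior)
    exact ⟨U, hU, hx, hsub⟩
  have hUV : U ≤ f ⁻¹ᵁ V := fun z hz => (hUle hz).1
  have hφ : (f.appLE V U hUV).hom.FiniteType :=
    HasRingHomProperty.appLE (P := @LocallyOfFiniteType) (f := f) inferInstance ⟨V, hV⟩ ⟨U, hU⟩ hUV
  have : IsNoetherianRing Γ(Y, V) := IsLocallyNoetherian.component_noetherian ⟨V, hV⟩
  have hφ' : (f.appLE V U hUV).hom.FinitePresentation :=
    RingHom.FinitePresentation.of_finiteType.mp hφ
  let E : Set (PrimeSpectrum Γ(Y, V)) := Set.range (PrimeSpectrum.comap (f.appLE V U hUV).hom)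
  have hE : Topology.IsConstructible E := PrimeSpectrum.isConstructible_range_comap hφ'
  have sqc := IsAffineOpen.SpecMap_appLE_fromSpec f hV hU hUV
  obtain ⟨x₀, hx₀⟩ : ∃ x₀, hU.fromSpec.base x₀ = x := by
    have h0 : x ∈ Set.range hU.fromSpec.base := by rw [hU.range_fromSpec]; exact hxU
    exact h0
  have hy₀ : hV.fromSpec.base ((Spec.map (f.appLE V U hUV)).base x₀) = f.base x := by
    rw [← Scheme.Hom.comp_apply, sqc, Scheme.Hom.comp_apply, hx₀]
  have hEn : E ∈ nhds ((Spec.map (f.appLE V U hUV)).base x₀) := by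
    apply mem_nhds_of_isConstructible hE
    intro η hη
    have h1 : hV.fromSpec.base η ⤳ f.base x := by
      rw [← hy₀]; exact hη.map hV.fromSpec.continuous
    obtain ⟨z, hz, hzη⟩ := exists_generization_of_dvrCond hf h1
    have hzU : z ∈ U := hz.mem_open U.isOpen hxU
    obtain ⟨z₀, rfl⟩ : ∃ z₀, hU.fromSpec.base z₀ = z := by
      have h0 : z ∈ Set.range hU.fromSpec.base := by rw [hU.range_fromSpec]; exact hzU
      exact h0
    refine ⟨z₀, ?_⟩
    apply hV.fromSpec.isOpenEmbedding.injective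
    rw [← hzη, ← Scheme.Hom.comp_apply, ← sqc, Scheme.Hom.comp_apply]
    rfl
  have h3 : ⇑hV.fromSpec.base '' E ∈ nhds (f.base x) := by
    rw [← hy₀]; exact hV.fromSpec.isOpenEmbedding.isOpenMap.image_mem_nhds hEn
  refine Filter.mem_of_superset h3 ?_
  rintro _ ⟨_, ⟨z₀, rfl⟩, rfl⟩
  refine ⟨hU.fromSpec.base z₀, ?_, ?_⟩
  · have h0 : hU.fromSpec.base z₀ ∈ (U : Set X) := by
      rw [← hU.range_fromSpec]; exact ⟨_, rfl⟩
    exact interior_subset (hUle h0).2
  · rw [← Scheme.Hom.comp_apply, ← sqc, Scheme.Hom.comp_apply]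
    rfl



section Core
variable (R B R' : Type u) [CommRing R] [CommRing B] [CommRing R'] [Algebra R B] [Algebra R R']

/-- The tensor pullback square of spectra. -/
theorem sqTensor : IsPullback
    (Spec.map (CommRingCat.ofHom (Algebra.TensorProduct.includeLeftRingHom : B →+* B ⊗[R] R')))
    (Spec.map (CommRingCat.ofHom
      (Algebra.TensorProduct.includeRight.toRingHom : R' →+* B ⊗[R] R')))
    (Spec.map (CommRingCat.ofHom (algebraMap R B)))
    (Spec.map (CommRingCat.ofHom (algebraMap R R'))) :=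
  isPullback_SpecMap_of_isPushout _ _ _ _ (CommRingCat.isPushout_tensorProduct R B R')

variable {R B R'}

/-- element trick -/
theorem exists_mvPolynomial_lift (h : B ⊗[R] R') :
    ∃ (σ : Type u) (_ : Finite σ) (θ : MvPolynomial σ R →ₐ[R] R') (h'' : B ⊗[R] MvPolynomial σ R),
      Algebra.TensorProduct.map (AlgHom.id R B) θ h'' = h := by
  classical
  obtain ⟨S, hS⟩ := TensorProduct.exists_finset h
  refine ⟨↥S, inferInstance, MvPolynomial.aeval (fun i : S => i.1.2),
    ∑ i : S, i.1.1 ⊗ₜ[R] (MvPolynomial.X i), ?_⟩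
  rw [map_sum, hS]
  simp only [Algebra.TensorProduct.map_tmul, AlgHom.coe_id, id_eq, MvPolynomial.aeval_X]
  exact Finset.sum_coe_sort S (fun i => i.1 ⊗ₜ[R] i.2)

set_option backward.isDefEq.respectTransparency false in
theorem isOpenAt_core [IsNoetherianRing R] [Algebra.FiniteType R B]
    (Q : Spec (CommRingCat.of (B ⊗[R] R')))
    (hf : DVRCond (Spec.map (CommRingCat.ofHom (algebraMap R B)))
      ((Spec.map (CommRingCat.ofHom
        (Algebra.TensorProduct.includeLeftRingHom : B →+* B ⊗[R] R'))).base Q)) :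
    EGA43.IsOpenAt (Spec.map (CommRingCat.ofHom
      (Algebra.TensorProduct.includeRight.toRingHom : R' →+* B ⊗[R] R'))).base Q := by
  intro U₁ hU₁
  obtain ⟨_, ⟨h, rfl⟩, hQh, hsub⟩ :=
    (PrimeSpectrum.isTopologicalBasis_basic_opens (R := B ⊗[R] R')).exists_subset_of_mem_open
      (mem_interior_iff_mem_nhds.mpr hU₁) isOpen_interior
  obtain ⟨σ, _, θ, h'', hh⟩ := exists_mvPolynomial_lift h
  let Θ : B ⊗[R] MvPolynomial σ R →ₐ[R] B ⊗[R] R' := Algebra.TensorProduct.map (AlgHom.id R B) θ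
  let pL := Spec.map (CommRingCat.ofHom
    (Algebra.TensorProduct.includeLeftRingHom : B →+* B ⊗[R] R'))
  let pR := Spec.map (CommRingCat.ofHom
    (Algebra.TensorProduct.includeRight.toRingHom : R' →+* B ⊗[R] R'))
  let pL'' := Spec.map (CommRingCat.ofHom
    (Algebra.TensorProduct.includeLeftRingHom : B →+* B ⊗[R] MvPolynomial σ R))
  let pR'' := Spec.map (CommRingCat.ofHom
    (Algebra.TensorProduct.includeRight.toRingHom : MvPolynomial σ R →+* B ⊗[R] MvPolynomial σ R))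
  let sΘ := Spec.map (CommRingCat.ofHom Θ.toRingHom)
  let sθ := Spec.map (CommRingCat.ofHom θ.toRingHom)
  have e1 : sΘ ≫ pL'' = pL := by
    rw [← Spec.map_comp, ← CommRingCat.ofHom_comp]
    congr 2
    ext b
    simp [Θ]
  have e2 : sΘ ≫ pR'' = pR ≫ sθ := by
    rw [← Spec.map_comp, ← Spec.map_comp, ← CommRingCat.ofHom_comp, ← CommRingCat.ofHom_comp]
    congr 2
  have e3 : sθ ≫ Spec.map (CommRingCat.ofHom (algebraMap R (MvPolynomial σ R))) =
      Spec.map (CommRingCat.ofHom (algebraMap R R')) := by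
    rw [← Spec.map_comp, ← CommRingCat.ofHom_comp]
    congr 2
    ext r
    simp
  have sq'' := sqTensor R B (MvPolynomial σ R)
  have sq₀ := sqTensor R B R'
  have sqL : IsPullback sΘ pR pR'' sθ := by
    refine IsPullback.of_right ?_ e2 sq''
    rw [e1, e3]; exact sq₀
  have hlft : LocallyOfFiniteType pR'' := by
    refine MorphismProperty.of_isPullback (P := @LocallyOfFiniteType) sq'' ?_
    rw [HasRingHomProperty.Spec_iff (P := @LocallyOfFiniteType), CommRingCat.hom_ofHom]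
    exact RingHom.finiteType_algebraMap.mpr inferInstance
  have hd : DVRCond pR'' (sΘ.base Q) :=
    dvrCond_snd_of_isPullback hf sq'' (sΘ.base Q) (by rw [← Scheme.Hom.comp_apply, e1])
  have hopen := isOpenAt_of_dvrCond pR'' (sΘ.base Q) hd
  have hW : (PrimeSpectrum.basicOpen h'' : Set (PrimeSpectrum (B ⊗[R] MvPolynomial σ R))) ∈
      nhds (sΘ.base Q) := by
    apply (PrimeSpectrum.basicOpen h'').isOpen.mem_nhds
    show Θ h'' ∉ (Q : PrimeSpectrum (B ⊗[R] R')).asIdeal
    rw [hh]; exact hQh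
  have h1 := hopen _ hW
  have h2 : pR''.base (sΘ.base Q) = sθ.base (pR.base Q) := by
    rw [← Scheme.Hom.comp_apply, e2, Scheme.Hom.comp_apply]
  rw [h2] at h1
  have h3 := sθ.continuous.continuousAt.preimage_mem_nhds h1
  refine Filter.mem_of_superset h3 ?_
  intro y' hy'
  obtain ⟨w'', hw'', hw''y⟩ := hy'
  obtain ⟨t, ht1, ht2⟩ := Groth.Agent.H3.exists_preimage_of_isPullback sqL w'' y' hw''y
  refine ⟨t, interior_subset (hsub ?_), ht2⟩
  show h ∉ (t : PrimeSpectrum (B ⊗[R] R')).asIdeal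
  rw [← hh]
  intro hmem
  apply hw''
  rw [← ht1]
  exact hmem

end Core



theorem exists_affine_nhd_le {X : Scheme.{u}} (x : X) (W : X.Opens) (hx : x ∈ W) :
    ∃ U : X.Opens, IsAffineOpen U ∧ x ∈ U ∧ U ≤ W := by
  obtain ⟨_, ⟨U, hU, rfl⟩, hxU, hsub⟩ :=
    X.isBasis_affineOpens.exists_subset_of_mem_open hx W.isOpen
  exact ⟨U, hU, hxU, hsub⟩

set_option backward.isDefEq.respectTransparency false in
theorem isUnivOpenAt_of_dvrCond {X Y : Scheme.{u}} [IsLocallyNoetherian Y] (f : X ⟶ Y)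
    [LocallyOfFiniteType f] (x : X) (hf : DVRCond f x) : EGA43.IsUnivOpenAt f x := by
  intro Y' g x' hx'
  obtain ⟨V, hV, hxV, -⟩ := exists_affine_nhd_le (f.base x) ⊤ trivial
  obtain ⟨U, hU, hxU, hUV⟩ := exists_affine_nhd_le x (f ⁻¹ᵁ V) hxV
  have hgx : g.base ((pullback.snd f g).base x') ∈ V := by
    rw [← Scheme.Hom.comp_apply, ← pullback.condition, Scheme.Hom.comp_apply, hx']; exact hxV
  obtain ⟨V', hV', hxV', hV'V⟩ := exists_affine_nhd_le ((pullback.snd f g).base x') (g ⁻¹ᵁ V) hgx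
  have hφ : (f.appLE V U hUV).hom.FiniteType :=
    HasRingHomProperty.appLE (P := @LocallyOfFiniteType) (f := f) inferInstance ⟨V, hV⟩ ⟨U, hU⟩ hUV
  have : IsNoetherianRing Γ(Y, V) := IsLocallyNoetherian.component_noetherian ⟨V, hV⟩
  letI : Algebra Γ(Y, V) Γ(X, U) := (f.appLE V U hUV).hom.toAlgebra
  letI : Algebra Γ(Y, V) Γ(Y', V') := (g.appLE V V' hV'V).hom.toAlgebra
  haveI : Algebra.FiniteType Γ(Y, V) Γ(X, U) := hφ
  have sqc₁ : Spec.map (CommRingCat.ofHom (algebraMap Γ(Y, V) Γ(X, U))) ≫ hV.fromSpec =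
      hU.fromSpec ≫ f := IsAffineOpen.SpecMap_appLE_fromSpec f hV hU hUV
  have sqc₂ : Spec.map (CommRingCat.ofHom (algebraMap Γ(Y, V) Γ(Y', V'))) ≫ hV.fromSpec =
      hV'.fromSpec ≫ g := IsAffineOpen.SpecMap_appLE_fromSpec g hV hV' hV'V
  let m := pullback.map (Spec.map (CommRingCat.ofHom (algebraMap Γ(Y, V) Γ(X, U))))
    (Spec.map (CommRingCat.ofHom (algebraMap Γ(Y, V) Γ(Y', V')))) f g hU.fromSpec hV'.fromSpec
    hV.fromSpec sqc₁ sqc₂
  have hm : IsOpenImmersion m := inferInstance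
  have hx'm : x' ∈ Set.range m.base := by
    rw [Scheme.Pullback.range_map]
    refine ⟨?_, ?_⟩
    · show (pullback.fst f g).base x' ∈ Set.range hU.fromSpec.base
      rw [hU.range_fromSpec, hx']; exact hxU
    · show (pullback.snd f g).base x' ∈ Set.range hV'.fromSpec.base
      rw [hV'.range_fromSpec]; exact hxV'
  obtain ⟨x₀, rfl⟩ := hx'm
  let sq₀ := sqTensor Γ(Y, V) Γ(X, U) Γ(Y', V')
  let e := sq₀.isoPullback
  have hfst : hU.fromSpec.base ((pullback.fst (Spec.map (CommRingCat.ofHom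
      (algebraMap Γ(Y, V) Γ(X, U)))) (Spec.map (CommRingCat.ofHom
      (algebraMap Γ(Y, V) Γ(Y', V'))))).base x₀) = x := by
    rw [← hx', ← Scheme.Hom.comp_apply m, pullback.lift_fst, Scheme.Hom.comp_apply]
    rfl
  have hd : DVRCond (Spec.map (CommRingCat.ofHom (algebraMap Γ(Y, V) Γ(X, U))))
      ((Spec.map (CommRingCat.ofHom (Algebra.TensorProduct.includeLeftRingHom :
        Γ(X, U) →+* Γ(X, U) ⊗[Γ(Y, V)] Γ(Y', V')))).base (e.inv.base x₀)) := by
    refine dvrCond_of_openImmersion hU.fromSpec hV.fromSpec sqc₁ hf _ ?_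
    rw [← Scheme.Hom.comp_apply, IsPullback.isoPullback_inv_fst]
    exact hfst
  have hcore := isOpenAt_core (e.inv.base x₀) hd
  have h1 : EGA43.IsOpenAt hV'.fromSpec.base _ :=
    Groth.Agent.H3.isOpenAt_of_isOpenMap _ hV'.fromSpec.isOpenEmbedding.isOpenMap
      ((Spec.map (CommRingCat.ofHom (Algebra.TensorProduct.includeRight.toRingHom :
        Γ(Y', V') →+* Γ(X, U) ⊗[Γ(Y, V)] Γ(Y', V')))).base (e.inv.base x₀))
  have h2 := Groth.Agent.H3.isOpenAt_comp _ _ _ hcore h1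
  have h3 : (⇑hV'.fromSpec.base ∘ ⇑(Spec.map (CommRingCat.ofHom
      (Algebra.TensorProduct.includeRight.toRingHom :
        Γ(Y', V') →+* Γ(X, U) ⊗[Γ(Y, V)] Γ(Y', V')))).base) =
      ⇑(pullback.snd f g).base ∘ ⇑(e.hom ≫ m).base := by
    have ea : (e.hom ≫ m) ≫ pullback.snd f g = Spec.map (CommRingCat.ofHom
        (Algebra.TensorProduct.includeRight.toRingHom :
          Γ(Y', V') →+* Γ(X, U) ⊗[Γ(Y, V)] Γ(Y', V'))) ≫ hV'.fromSpec := by
      rw [Category.assoc, pullback.lift_snd, ← Category.assoc, IsPullback.isoPullback_hom_snd]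
    funext w
    simp only [Function.comp_apply]
    rw [← Scheme.Hom.comp_apply (e.hom ≫ m), ea, Scheme.Hom.comp_apply]
    rfl
  rw [h3] at h2
  have h4 := Groth.Agent.H3.isOpenAt_of_comp _ _ (e.hom ≫ m).continuous _ h2
  have h5 : (e.hom ≫ m).base (e.inv.base x₀) = m.base x₀ := by
    rw [Scheme.Hom.comp_apply, Scheme.inv_hom_apply]
  rwa [h5] at h4

end Groth.Agent.H1.DVRCrit
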