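import Mathlib
set_option autoImplicit false
universe u
open CategoryTheory AlgebraicGeometry

namespace Groth.Agent.H1.EtNhd
open TensorProduct IsLocalRing

/-- Local criterion: flat + unramified + essentially of finite presentation implies formally étale,
for local homomorphisms of local rings. -/
theorem formallyEtale_of_flat_of_formallyUnramified (R S P : Type*) [CommRing R] [CommRing S]
    [Algebra R S] [Module.Flat R S] [CommRing P] [Algebra R P] [Algebra P S] [IsScalarTower R P S]
    [IsLocalRing R] [IsLocalRing S] [IsLocalHom (algebraMap R S)]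
    [Algebra.FormallyUnramified R S] [Algebra.EssFiniteType R S]
    (M : Submonoid P) [IsLocalization M S] [Algebra.FinitePresentation R P] :
    Algebra.FormallyEtale R S := by
  haveI : Algebra.FormallyEtale (ResidueField R) (ResidueField R ⊗[R] S) :=
    Algebra.FormallyEtale.of_formallyUnramified_of_field _ _
  haveI : Algebra.FormallySmooth R S :=
    Algebra.FormallySmooth.of_formallySmooth_residueField_tensor (R := R) (S := S) (P := P) M
  exact Algebra.FormallyEtale.iff_formallyUnramified_and_formallySmooth.mpr ⟨inferInstance, inferInstance⟩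


open Algebra in
/-- Ring-level: flat and unramified at `q` (finite presentation) implies étale at `q`. -/
theorem isEtaleAt_of_flat_of_formallyUnramified (A B : Type u) [CommRing A] [CommRing B]
    [Algebra A B] [Algebra.FinitePresentation A B]
    (p : Ideal A) [p.IsPrime] (q : Ideal B) [q.IsPrime] [q.LiesOver p]
    [Algebra (Localization.AtPrime p) (Localization.AtPrime q)]
    [Localization.AtPrime.IsLiesOverAlgebra p q]
    [Module.Flat (Localization.AtPrime p) (Localization.AtPrime q)]
    [Algebra.FormallyUnramified (Localization.AtPrime p) (Localization.AtPrime q)] :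
    Algebra.IsEtaleAt A q := by
  haveI : Algebra.EssFiniteType (Localization.AtPrime p) (Localization.AtPrime q) :=
    .of_comp A _ _
  haveI : IsLocalHom (algebraMap (Localization.AtPrime p) (Localization.AtPrime q)) := by
    rw [Localization.AtPrime.IsLiesOverAlgebra.algebraMap_eq]
    exact Localization.isLocalHom_localRingHom p q (algebraMap A B) Ideal.LiesOver.over
  let Rp := Localization.AtPrime p
  let Sp := Localization (algebraMapSubmonoid B p.primeCompl)
  let Sq := Localization.AtPrime q
  let f : Sp →ₐ[B] Sq := IsLocalization.liftAlgHom (M := algebraMapSubmonoid B p.primeCompl)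
        (f := Algebra.ofId _ _) (by
      rintro ⟨_, x, hx, rfl⟩
      simpa using! IsLocalization.map_units (M := q.primeCompl) Sq ⟨algebraMap _ _ x,
        by simp_all [q.over_def p]⟩)
  algebraize [f.toRingHom]
  have : IsScalarTower A Sp Sq := .to₁₃₄ _ B _ _
  have : IsScalarTower Rp Sp Sq := .of_algebraMap_eq' <| by
    apply IsLocalization.ringHom_ext p.primeCompl
    simp only [RingHom.comp_assoc, ← IsScalarTower.algebraMap_eq]
  have : IsLocalization (algebraMapSubmonoid Sp q.primeCompl) Sq :=
    .isLocalization_of_submonoid_le _ _ (algebraMapSubmonoid B p.primeCompl) _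
    (by rintro _ ⟨x, hx, rfl⟩; simp_all [q.over_def p])
  have : FinitePresentation Rp Sp := by
    have : Algebra.IsPushout A Rp B Sp :=
      .symm <| Algebra.isPushout_of_isLocalization p.primeCompl _ _ _
    exact .equiv (Algebra.IsPushout.equiv A Rp B Sp)
  haveI : Algebra.FormallyEtale Rp Sq :=
    formallyEtale_of_flat_of_formallyUnramified Rp Sq Sp (algebraMapSubmonoid _ q.primeCompl)
  exact Algebra.FormallyEtale.comp A Rp Sq

set_option backward.defeqAttrib.useBackward true in
set_option backward.isDefEq.respectTransparency false in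
/-- Étale analogue of `exists_smooth_of_formallySmooth_stalk`. -/
theorem exists_etale_of_stalk {X Y : Scheme.{u}}
    (f : X ⟶ Y) [LocallyOfFinitePresentation f]
    (x : X) (H1 : (f.stalkMap x).hom.Flat) (H2 : (f.stalkMap x).hom.FormallyUnramified) :
    ∃ (U : Y.Opens) (_ : IsAffineOpen U) (V : X.Opens) (_ : IsAffineOpen V) (hVU : V ≤ f ⁻¹ᵁ U),
      x ∈ V ∧ (f.appLE U V hVU).hom.Etale := by
  obtain ⟨_, ⟨U, hU, rfl⟩, hxU, -⟩ :=
    Y.isBasis_affineOpens.exists_subset_of_mem_open (Set.mem_univ (f x)) isOpen_univ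
  obtain ⟨_, ⟨V, hV, rfl⟩, hxV, hVU⟩ :=
    X.isBasis_affineOpens.exists_subset_of_mem_open hxU (U.2.preimage f.continuous)
  have := f.finitePresentation_appLE hU hV hVU
  algebraize [(f.appLE U V hVU).hom]
  let p := (hU.primeIdealOf ⟨f x, hVU hxV⟩).asIdeal
  let q := (hV.primeIdealOf ⟨x, hxV⟩).asIdeal
  have : q.LiesOver p :=
    ⟨congr($(IsAffineOpen.comap_primeIdealOf_appLE U hU V hV hVU hxV).1).symm⟩
  let := Localization.AtPrime.algebraOfLiesOver p q
  have hflat : Module.Flat (Localization.AtPrime p) (Localization.AtPrime q) := by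
    have := (RingHom.Flat.respectsIso.arrow_mk_iso_iff
      (IsAffineOpen.arrowStalkMapIso f U hU V hV hVU hxV)).mp H1
    exact this
  have hunr : Algebra.FormallyUnramified (Localization.AtPrime p) (Localization.AtPrime q) := by
    rw [← RingHom.formallyUnramified_algebraMap]
    exact (RingHom.FormallyUnramified.respectsIso.arrow_mk_iso_iff
      (IsAffineOpen.arrowStalkMapIso f U hU V hV hVU hxV)).mp H2
  have : Algebra.IsEtaleAt Γ(Y, U) q := isEtaleAt_of_flat_of_formallyUnramified Γ(Y, U) Γ(X, V) p q
  obtain ⟨r, hrx, hr⟩ := Algebra.exists_etale_of_isEtaleAt (R := Γ(Y, U)) q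
  refine ⟨_, hU, _, hV.basicOpen r, (X.basicOpen_le r).trans hVU, ?_, ?_⟩
  · rwa [← PrimeSpectrum.mem_basicOpen, IsAffineOpen.primeIdealOf,
      ← hV.fromSpec_preimage_basicOpen, Scheme.Hom.mem_preimage, ← Scheme.Hom.comp_apply,
      IsAffineOpen.isoSpec_hom, IsAffineOpen.toSpecΓ_fromSpec] at hrx
  · have := hV.isLocalization_basicOpen r
    rw [← RingHom.etale_algebraMap] at hr
    convert!
      RingHom.Etale.propertyIsLocal.respectsIso.1 _
        (IsLocalization.algEquiv (.powers r) _ Γ(X, X.basicOpen r)).toRingEquiv hr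
    ext
    dsimp
    simp only [IsScalarTower.algebraMap_apply Γ(Y, U) Γ(X, V) (Localization _),
      IsLocalization.map_eq]
    simp only [RingHom.algebraMap_toAlgebra, RingHomCompTriple.comp_apply, ← ConcreteCategory.comp_apply,
      Scheme.Hom.appLE_map]

/-- (A) flat + unramified stalk map gives an étale neighbourhood. -/
theorem exists_etale_nhd {X Y : Scheme.{u}} (f : X ⟶ Y) [LocallyOfFinitePresentation f]
    (x : X) (H1 : (f.stalkMap x).hom.Flat) (H2 : (f.stalkMap x).hom.FormallyUnramified) :
    ∃ U : X.Opens, x ∈ U ∧ Etale (U.ι ≫ f) := by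
  obtain ⟨U, hU, V, hV, hVU, hxV, H⟩ := exists_etale_of_stalk f x H1 H2
  refine ⟨V, hxV, ?_⟩
  have : IsAffine _ := hU
  have : IsAffine _ := hV
  have h1 : Etale (f.resLE U V hVU) := by
    rw [HasRingHomProperty.iff_of_isAffine (P := @Etale)]
    exact (RingHom.Etale.propertyIsLocal.respectsIso.arrow_mk_iso_iff
      (arrowResLEAppIso f U V hVU)).mpr H
  rw [← Scheme.Hom.resLE_comp_ι f hVU]
  infer_instance

/-- (B) stalk maps of `j ≫ f` and `f` agree up to an isomorphism, `j` an open immersion. -/
theorem stalkMap_prop_of_restrict {X Y U : Scheme.{u}} (f : X ⟶ Y) (j : U ⟶ X) [IsOpenImmersion j]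
    (u : U)
    (P : ∀ {R S : Type u} [CommRing R] [CommRing S], (R →+* S) → Prop)
    (hP : RingHom.RespectsIso @P)
    (h : P ((j ≫ f).stalkMap u).hom) : P (f.stalkMap (j u)).hom := by
  refine (hP.cancel_right_isIso _ (j.stalkMap u)).mp ?_
  rw [← CommRingCat.hom_comp, ← Scheme.Hom.stalkMap_comp]
  exact h

theorem lfp_of_lft_of_noetherian {X Y : Scheme.{u}} (f : X ⟶ Y) [LocallyOfFiniteType f]
    [IsLocallyNoetherian Y] : LocallyOfFinitePresentation f := by
  rw [HasRingHomProperty.iff_appLE (P := @LocallyOfFinitePresentation)]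
  intro U V e
  have h := f.finiteType_appLE U.2 V.2 e
  haveI : IsNoetherianRing Γ(Y, U.1) := IsLocallyNoetherian.component_noetherian U
  algebraize [(f.appLE U.1 V.1 e).hom]
  haveI : Algebra.FinitePresentation Γ(Y, U.1) Γ(X, V.1) :=
    Algebra.FinitePresentation.of_finiteType.mp inferInstance
  exact RingHom.finitePresentation_algebraMap.mpr inferInstance

/-- (C) for a local homomorphism of local rings, essentially of finite type: formally unramified iff
`m_R S = m_S` and the residue extension is finite separable. -/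
theorem formallyUnramified_iff (R S : Type u) [CommRing R] [CommRing S] [Algebra R S]
    [IsLocalRing R] [IsLocalRing S] [IsLocalHom (algebraMap R S)] [Algebra.EssFiniteType R S] :
    Algebra.FormallyUnramified R S ↔
      ((maximalIdeal R).map (algebraMap R S) = maximalIdeal S ∧
        Module.Finite (ResidueField R) (ResidueField S) ∧
        Algebra.IsSeparable (ResidueField R) (ResidueField S)) := by
  rw [Algebra.FormallyUnramified.iff_map_maximalIdeal_eq]
  constructor
  · rintro ⟨h1, h2⟩
    haveI : Algebra.FormallyUnramified R S :=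
      Algebra.FormallyUnramified.iff_map_maximalIdeal_eq.mpr ⟨h1, h2⟩
    exact ⟨h2, inferInstance, h1⟩
  · rintro ⟨h1, -, h3⟩
    exact ⟨h3, h1⟩

/-- (D) scheme form of (C). -/
theorem stalk_formallyUnramified_iff {X Y : Scheme.{u}} (f : X ⟶ Y) [LocallyOfFiniteType f] (x : X) :
    (f.stalkMap x).hom.FormallyUnramified ↔
      ((IsLocalRing.maximalIdeal (Y.presheaf.stalk (f.base x))).map (f.stalkMap x).hom =
          IsLocalRing.maximalIdeal (X.presheaf.stalk x) ∧
        letI := (f.residueFieldMap x).hom.toAlgebra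
        Module.Finite (Y.residueField (f.base x)) (X.residueField x) ∧
          Algebra.IsSeparable (Y.residueField (f.base x)) (X.residueField x)) := by
  have hess := LocallyOfFiniteType.stalkMap f x
  algebraize [(f.stalkMap x).hom]
  have : IsLocalHom (algebraMap (Y.presheaf.stalk (f x)) (X.presheaf.stalk x)) :=
    inferInstanceAs <| IsLocalHom (f.stalkMap x).hom
  have key := formallyUnramified_iff (Y.presheaf.stalk (f x)) (X.presheaf.stalk x)
  have halg : (f.residueFieldMap x).hom.toAlgebra =
      (inferInstance : Algebra (IsLocalRing.ResidueField (Y.presheaf.stalk (f x)))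
        (IsLocalRing.ResidueField (X.presheaf.stalk x))) := by
    refine Algebra.algebra_ext _ _ fun x ↦ ?_
    obtain ⟨x, rfl⟩ := IsLocalRing.residue_surjective x
    rfl
  rw [RingHom.FormallyUnramified, ← RingHom.algebraMap_toAlgebra (f.stalkMap x).hom]
  change Algebra.FormallyUnramified _ _ ↔ _
  rw [key]
  refine and_congr Iff.rfl ?_
  change (_ ∧ _) ↔ (@Module.Finite _ _ _ _ (f.residueFieldMap x).hom.toAlgebra.toModule ∧
    @Algebra.IsSeparable _ _ _ _ (f.residueFieldMap x).hom.toAlgebra)
  rw [halg]
  exact Iff.rfl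

theorem main {X Y : Scheme.{u}} (f : X ⟶ Y)
    [LocallyOfFiniteType f] [IsLocallyNoetherian Y] (x : X) :
    (∃ U : X.Opens, x ∈ U ∧ Etale (U.ι ≫ f)) ↔
      ((f.stalkMap x).hom.Flat ∧
        (IsLocalRing.maximalIdeal (Y.presheaf.stalk (f.base x))).map (f.stalkMap x).hom =
          IsLocalRing.maximalIdeal (X.presheaf.stalk x) ∧
        letI := (f.residueFieldMap x).hom.toAlgebra
        Module.Finite (Y.residueField (f.base x)) (X.residueField x) ∧
          Algebra.IsSeparable (Y.residueField (f.base x)) (X.residueField x)) := by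
  rw [← stalk_formallyUnramified_iff f x]
  constructor
  · rintro ⟨U, hxU, hU⟩
    have h1 : ((U.ι ≫ f).stalkMap ⟨x, hxU⟩).hom.Flat := Flat.stalkMap (U.ι ≫ f) ⟨x, hxU⟩
    have h2 : ((U.ι ≫ f).stalkMap ⟨x, hxU⟩).hom.FormallyUnramified :=
      FormallyUnramified.stalkMap (U.ι ≫ f) ⟨x, hxU⟩
    exact ⟨stalkMap_prop_of_restrict f U.ι ⟨x, hxU⟩ _ RingHom.Flat.respectsIso h1,
      stalkMap_prop_of_restrict f U.ι ⟨x, hxU⟩ _ RingHom.FormallyUnramified.respectsIso h2⟩
  · rintro ⟨h1, h2⟩
    haveI := lfp_of_lft_of_noetherian f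
    exact exists_etale_nhd f x h1 h2



set_option backward.defeqAttrib.useBackward true in
set_option backward.isDefEq.respectTransparency false in
/-- Unramified analogue of `exists_smooth_of_formallySmooth_stalk`. -/
theorem exists_unramified_of_stalk {X Y : Scheme.{u}}
    (f : X ⟶ Y) [LocallyOfFiniteType f]
    (x : X) (H2 : (f.stalkMap x).hom.FormallyUnramified) :
    ∃ (U : Y.Opens) (_ : IsAffineOpen U) (V : X.Opens) (_ : IsAffineOpen V) (hVU : V ≤ f ⁻¹ᵁ U),
      x ∈ V ∧ (f.appLE U V hVU).hom.FormallyUnramified := by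
  obtain ⟨_, ⟨U, hU, rfl⟩, hxU, -⟩ :=
    Y.isBasis_affineOpens.exists_subset_of_mem_open (Set.mem_univ (f x)) isOpen_univ
  obtain ⟨_, ⟨V, hV, rfl⟩, hxV, hVU⟩ :=
    X.isBasis_affineOpens.exists_subset_of_mem_open hxU (U.2.preimage f.continuous)
  have := f.finiteType_appLE hU hV hVU
  algebraize [(f.appLE U V hVU).hom]
  let p := (hU.primeIdealOf ⟨f x, hVU hxV⟩).asIdeal
  let q := (hV.primeIdealOf ⟨x, hxV⟩).asIdeal
  have : q.LiesOver p :=
    ⟨congr($(IsAffineOpen.comap_primeIdealOf_appLE U hU V hV hVU hxV).1).symm⟩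
  let := Localization.AtPrime.algebraOfLiesOver p q
  have hunr : Algebra.FormallyUnramified (Localization.AtPrime p) (Localization.AtPrime q) := by
    rw [← RingHom.formallyUnramified_algebraMap]
    exact (RingHom.FormallyUnramified.respectsIso.arrow_mk_iso_iff
      (IsAffineOpen.arrowStalkMapIso f U hU V hV hVU hxV)).mp H2
  haveI : Algebra.FormallyUnramified Γ(Y, U) (Localization.AtPrime p) :=
    Algebra.FormallyUnramified.of_isLocalization p.primeCompl
  have : Algebra.IsUnramifiedAt Γ(Y, U) q :=
    Algebra.FormallyUnramified.comp Γ(Y, U) (Localization.AtPrime p) (Localization.AtPrime q)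
  obtain ⟨r, hrx, hr⟩ := Algebra.exists_formallyUnramified_of_isUnramifiedAt (R := Γ(Y, U)) q
  refine ⟨_, hU, _, hV.basicOpen r, (X.basicOpen_le r).trans hVU, ?_, ?_⟩
  · rwa [← PrimeSpectrum.mem_basicOpen, IsAffineOpen.primeIdealOf,
      ← hV.fromSpec_preimage_basicOpen, Scheme.Hom.mem_preimage, ← Scheme.Hom.comp_apply,
      IsAffineOpen.isoSpec_hom, IsAffineOpen.toSpecΓ_fromSpec] at hrx
  · have := hV.isLocalization_basicOpen r
    rw [← RingHom.formallyUnramified_algebraMap] at hr
    convert!
      RingHom.FormallyUnramified.respectsIso.1 _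
        (IsLocalization.algEquiv (.powers r) _ Γ(X, X.basicOpen r)).toRingEquiv hr
    ext
    dsimp
    simp only [IsScalarTower.algebraMap_apply Γ(Y, U) Γ(X, V) (Localization _),
      IsLocalization.map_eq]
    simp only [RingHom.algebraMap_toAlgebra, RingHomCompTriple.comp_apply, ← ConcreteCategory.comp_apply,
      Scheme.Hom.appLE_map]

/-- unramified stalk map gives an unramified neighbourhood. -/
theorem exists_unramified_nhd {X Y : Scheme.{u}} (f : X ⟶ Y) [LocallyOfFiniteType f]
    (x : X) (H2 : (f.stalkMap x).hom.FormallyUnramified) :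
    ∃ U : X.Opens, x ∈ U ∧ FormallyUnramified (U.ι ≫ f) := by
  obtain ⟨U, hU, V, hV, hVU, hxV, H⟩ := exists_unramified_of_stalk f x H2
  refine ⟨V, hxV, ?_⟩
  have : IsAffine _ := hU
  have : IsAffine _ := hV
  have h1 : FormallyUnramified (f.resLE U V hVU) := by
    rw [HasRingHomProperty.iff_of_isAffine (P := @FormallyUnramified)]
    exact (RingHom.FormallyUnramified.respectsIso.arrow_mk_iso_iff
      (arrowResLEAppIso f U V hVU)).mpr H
  rw [← Scheme.Hom.resLE_comp_ι f hVU]
  exact MorphismProperty.comp_mem _ _ _ h1 inferInstance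

theorem main_unramified {X Y : Scheme.{u}} (f : X ⟶ Y)
    [LocallyOfFiniteType f] (x : X) :
    (∃ U : X.Opens, x ∈ U ∧ FormallyUnramified (U.ι ≫ f)) ↔
      ((IsLocalRing.maximalIdeal (Y.presheaf.stalk (f.base x))).map (f.stalkMap x).hom =
          IsLocalRing.maximalIdeal (X.presheaf.stalk x) ∧
        letI := (f.residueFieldMap x).hom.toAlgebra
        Module.Finite (Y.residueField (f.base x)) (X.residueField x) ∧
          Algebra.IsSeparable (Y.residueField (f.base x)) (X.residueField x)) := by
  rw [← stalk_formallyUnramified_iff f x]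
  constructor
  · rintro ⟨U, hxU, hU⟩
    have h2 : ((U.ι ≫ f).stalkMap ⟨x, hxU⟩).hom.FormallyUnramified :=
      FormallyUnramified.stalkMap (U.ι ≫ f) ⟨x, hxU⟩
    exact stalkMap_prop_of_restrict f U.ι ⟨x, hxU⟩ _ RingHom.FormallyUnramified.respectsIso h2
  · intro h2
    exact exists_unramified_nhd f x h2

end Groth.Agent.H1.EtNhd
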