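import Mathlib
import Groth.Prelude.Def_EGA4b
import Groth.Prelude.Def_EGA43
import Groth.Agent.Lib.Helper1.EquidimLocB
import Groth.Agent.Lib.Helper1.Chev2
import Groth.Agent.Lib.Helper1.Chev4
import Groth.Agent.Lib.Helper1.DimLocE

set_option autoImplicit false
set_option linter.style.haveILetI false

universe u

open CategoryTheory AlgebraicGeometry

namespace Groth.Agent.H1.EquidimLoc

variable {X Y : Scheme.{u}}

/-- Chevalley semicontinuity: the local fibre dimension grows under specialization. -/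
theorem fibreDimAt_le_of_specializes (f : X ⟶ Y) [LocallyOfFiniteType f] {ξ x : X} (h : ξ ⤳ x) :
    FlatMor.fibreDimAt f ξ ≤ FlatMor.fibreDimAt f x := by
  have h0 := Groth.Agent.H1.Chev.zero_le_fibreDimAt f x
  rcases hv : FlatMor.fibreDimAt f x with _ | v
  · rw [hv] at h0
    exact absurd h0 (not_le.2 (WithBot.bot_lt_coe (0 : ℕ∞)))
  · rcases v with _ | n
    · exact le_top
    · have hopen := Groth.Agent.H1.Chev.isOpen_fibreDimAt_le f n
      have hx : x ∈ {x : X | FlatMor.fibreDimAt f x ≤ n} := by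
        change FlatMor.fibreDimAt f x ≤ n
        rw [hv]; rfl
      exact h.mem_open hopen hx

open Groth.Agent.H1.DimLoc Groth.Agent.H1.DimIneq in
/-- `chart_relative_le` in `ℕ∞`. -/
theorem chart_relative_le_enat (f : X ⟶ Y) [LocallyOfFiniteType f] {U : X.Opens} {V : Y.Opens}
    (hU : IsAffineOpen U) (hV : IsAffineOpen V) (e : U ≤ f ⁻¹ᵁ V) (x ξ : X) (hxU : x ∈ U)
    (hξU : ξ ∈ U) (hξ : ξ ⤳ x) (hN : IsNoetherianRing (Y.presheaf.stalk (f x)))
    (tx tξ : ℕ)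
    (htx : @Algebra.trdeg (Y.residueField (f x)) (X.residueField x) _ _
        (f.residueFieldMap x).hom.toAlgebra = tx)
    (htξ : @Algebra.trdeg (Y.residueField (f ξ)) (X.residueField ξ) _ _
        (f.residueFieldMap ξ).hom.toAlgebra = tξ) :
    ((hU.primeIdealOf ⟨x, hxU⟩).asIdeal.map
      (Ideal.Quotient.mk (hU.primeIdealOf ⟨ξ, hξU⟩).asIdeal)).height + (tx : ℕ∞) ≤
    ((hV.primeIdealOf ⟨f x, e hxU⟩).asIdeal.map
      (Ideal.Quotient.mk (hV.primeIdealOf ⟨f ξ, e hξU⟩).asIdeal)).height + (tξ : ℕ∞) := by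
  have key := chart_relative_le f hU hV e x ξ hxU hξU hξ hN
  have h3 := OrderHomClass.mono Cardinal.toENat key
  rw [map_add, map_add, Cardinal.toENat_ofENat, Cardinal.toENat_ofENat,
    toENat_resTrdeg_of_eq_natCast f x tx htx, toENat_resTrdeg_of_eq_natCast f ξ tξ htξ] at h3
  exact h3

/-- in an affine open with finitely many minimal primes, every point has an open neighbourhood all
of whose generic points specialize to it. -/
theorem exists_open_forall_generic_specializes (x : X) (U₁ : X.Opens) (hU₁ : IsAffineOpen U₁)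
    (hx : x ∈ U₁) (hfin : (minimalPrimes Γ(X, U₁)).Finite) :
    ∃ U₀ : X.Opens, x ∈ U₀ ∧ U₀ ≤ U₁ ∧ ∀ ξ ∈ U₀, (∀ z : X, z ⤳ ξ → z = ξ) → ξ ⤳ x := by
  set S : Set (Ideal Γ(X, U₁)) :=
    {q₀ | q₀ ∈ minimalPrimes Γ(X, U₁) ∧ ¬ q₀ ≤ (hU₁.primeIdealOf ⟨x, hx⟩).asIdeal} with hS
  have hSfin : S.Finite := hfin.subset (fun q₀ hq₀ => hq₀.1)
  set G : Set (PrimeSpectrum Γ(X, U₁)) := ⋃ q₀ ∈ S, PrimeSpectrum.zeroLocus (q₀ : Set Γ(X, U₁))
    with hG
  have hGcl : IsClosed G := hSfin.isClosed_biUnion (fun q₀ _ => PrimeSpectrum.isClosed_zeroLocus _)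
  set W : (Spec Γ(X, U₁)).Opens := ⟨Gᶜ, hGcl.isOpen_compl⟩ with hW
  refine ⟨hU₁.fromSpec ''ᵁ W, ?_, ?_, ?_⟩
  · refine ⟨hU₁.primeIdealOf ⟨x, hx⟩, ?_, hU₁.fromSpec_primeIdealOf ⟨x, hx⟩⟩
    change hU₁.primeIdealOf ⟨x, hx⟩ ∉ G
    rw [hG, Set.mem_iUnion₂]
    rintro ⟨q₀, hq₀, hmem⟩
    rw [PrimeSpectrum.mem_zeroLocus, SetLike.coe_subset_coe] at hmem
    exact hq₀.2 hmem
  · rintro _ ⟨P, -, rfl⟩
    rw [← SetLike.mem_coe, ← hU₁.range_fromSpec]
    exact ⟨P, rfl⟩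
  · rintro _ ⟨P, hP, rfl⟩ hgen
    have hPmin : P.asIdeal ∈ minimalPrimes Γ(X, U₁) := by
      refine ⟨⟨P.2, bot_le⟩, ?_⟩
      rintro I ⟨hI, -⟩ hle
      set P' : Spec Γ(X, U₁) := ⟨I, hI⟩ with hP'
      have h1 : P' ⤳ P := (PrimeSpectrum.le_iff_specializes (R := Γ(X, U₁)) P' P).1 hle
      have h2 := hgen _ (h1.map hU₁.fromSpec.continuous)
      have h3 : P' = P := hU₁.fromSpec.isOpenEmbedding.injective h2
      rw [← h3]
    have hle : P.asIdeal ≤ (hU₁.primeIdealOf ⟨x, hx⟩).asIdeal := by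
      by_contra hnle
      apply hP
      exact Set.mem_iUnion₂.2 ⟨P.asIdeal, ⟨hPmin, hnle⟩,
        (PrimeSpectrum.mem_zeroLocus _ _).2 (le_refl _)⟩
    have h1 : P ⤳ hU₁.primeIdealOf ⟨x, hx⟩ :=
      (PrimeSpectrum.le_iff_specializes (R := Γ(X, U₁)) P _).1 hle
    have := h1.map hU₁.fromSpec.continuous
    rwa [hU₁.fromSpec_primeIdealOf] at this

/-- generizations of a point of an open subscheme come from the open subscheme. -/
theorem exists_generic_of_mem_irreducibleComponents (U : X.Opens) (Z : Set U.toScheme)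
    (hZ : Z ∈ irreducibleComponents (U.toScheme : Type u)) :
    ∃ ξ' : U.toScheme, Z = closure {ξ'} ∧ ∀ z : X, z ⤳ U.ι ξ' → z = U.ι ξ' := by
  have hZcl : IsClosed Z := isClosed_of_mem_irreducibleComponents Z hZ
  obtain ⟨ξ', hξ'⟩ := QuasiSober.sober hZ.1 hZcl
  refine ⟨ξ', hξ'.def.symm, ?_⟩
  intro z hz
  have hzU : z ∈ U := by
    by_contra hzU
    have h1 : U.ι ξ' ∈ closure ({z} : Set X) := hz.mem_closure
    have h2 : closure ({z} : Set X) ⊆ (U : Set X)ᶜ := by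
      apply closure_minimal _ U.isOpen.isClosed_compl
      rw [Set.singleton_subset_iff]; exact hzU
    exact h2 h1 ξ'.2
  set z' : U.toScheme := ⟨z, hzU⟩ with hz'
  have hz'ξ : z' ⤳ ξ' := by
    apply U.ι.isOpenEmbedding.isInducing.specializes_iff.1
    exact hz
  have h1 : Z ≤ closure ({z'} : Set U.toScheme) := by
    rw [← hξ'.def]
    apply closure_minimal _ isClosed_closure
    rw [Set.singleton_subset_iff]
    exact hz'ξ.mem_closure
  have h2 := hZ.2 (isIrreducible_singleton.closure) h1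
  have h3 : ξ' ⤳ z' := by
    rw [specializes_iff_mem_closure, hξ'.def]
    exact h2 (subset_closure rfl)
  have : z' = ξ' := (hz'ξ.antisymm h3).eq
  rw [← this]
  rfl

/-- **Criterion for equidimensionality at a point** in terms of the local fibre dimension and the
generic points of the neighbourhood. -/
theorem isEquidimAt_of_generic (f : X ⟶ Y) [LocallyOfFiniteType f] (x : X) (U : X.Opens)
    (hxU : x ∈ U) (e : ℕ) (hfd : ∀ x' ∈ U, FlatMor.fibreDimAt f x' = e)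
    (hgen : ∀ ξ ∈ U, (∀ z : X, z ⤳ ξ → z = ξ) →
      closure ({f ξ} : Set Y) ∈ irreducibleComponents (Y : Type u) ∧ f x ∈ closure ({f ξ} : Set Y)) :
    EGA43.IsEquidimAt f x := by
  refine ⟨e, U, hxU, ?_, ?_⟩
  · intro Z hZ
    obtain ⟨ξ', hZeq, hξ'⟩ := exists_generic_of_mem_irreducibleComponents U Z hZ
    obtain ⟨h1, h2⟩ := hgen (U.ι ξ') ξ'.2 hξ'
    refine ⟨_, h1, h2, ?_⟩
    rw [hZeq]
    apply le_antisymm
    · apply closure_minimal _ isClosed_closure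
      refine (image_closure_subset_closure_image (U.ι ≫ f).continuous).trans ?_
      rw [Set.image_singleton]
      rfl
    · apply closure_mono
      rw [Set.singleton_subset_iff]
      exact ⟨ξ', subset_closure rfl, rfl⟩
  · have hrel : Cyc.HasRelDim (U.ι ≫ f) e := by
      rw [Groth.Agent.H1.RelDim.hasRelDim_iff]
      intro x'
      rw [Groth.Agent.H1.FibDimEt.fibreDimAt_comp_of_etale U.ι f x']
      exact hfd _ x'.2
    intro x' Z hZ
    exact hrel _ Z hZ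

open Groth.Agent.H1.DimLoc Groth.Agent.H1.DimIneq in
/-- **EGA IV 13.3.6 (ii)**. -/
theorem isEquidimAt_of_isEquidim_stalk [IsLocallyNoetherian Y] (f : X ⟶ Y)
    [LocallyOfFiniteType f] (x : X) (hX : EGA4.IsEquidim (X.presheaf.stalk x))
    (h : ringKrullDim (X.presheaf.stalk x) =
      ringKrullDim (Y.presheaf.stalk (f x)) +
        ringKrullDim ((f.fiber (f x)).presheaf.stalk (f.asFiber x))) :
    EGA43.IsEquidimAt f x := by
  obtain ⟨V, hV, hfxV⟩ : ∃ V : Y.Opens, IsAffineOpen V ∧ f x ∈ V := by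
    obtain ⟨_, ⟨V, hV, rfl⟩, hz, -⟩ :=
      Y.isBasis_affineOpens.exists_subset_of_mem_open (Set.mem_univ (f x)) isOpen_univ
    exact ⟨V, hV, hz⟩
  obtain ⟨U₁, hU₁, hxU₁, eUV⟩ :=
    exists_isAffineOpen_mem_and_subset (x := x) (U := f ⁻¹ᵁ V) hfxV
  letI algRS := (f.appLE V U₁ eUV).hom.toAlgebra
  haveI : Algebra.FiniteType Γ(Y, V) Γ(X, U₁) := f.finiteType_appLE hV hU₁ eUV
  haveI : IsNoetherianRing Γ(Y, V) := IsLocallyNoetherian.component_noetherian ⟨V, hV⟩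
  haveI : IsNoetherianRing Γ(X, U₁) := Algebra.FiniteType.isNoetherianRing Γ(Y, V) Γ(X, U₁)
  obtain ⟨eX⟩ := nonempty_stalk_ringEquiv_localization hU₁ x hxU₁
  have hX' := isEquidim_of_ringEquiv eX hX
  have hNY : IsNoetherianRing (Y.presheaf.stalk (f x)) := inferInstance
  -- numerics
  obtain ⟨tx, htx, hfdx⟩ := Groth.Agent.H1.DimFormula.exists_fibreDimAt_eq_stalk_add_trdeg f x
  obtain ⟨a, ha⟩ : ∃ a : ℕ, (hU₁.primeIdealOf ⟨x, hxU₁⟩).asIdeal.height = a :=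
    ⟨_, (ENat.natCast_toNat (Ideal.height_ne_top
      (hU₁.primeIdealOf ⟨x, hxU₁⟩).isPrime.ne_top)).symm⟩
  obtain ⟨b, hb⟩ : ∃ b : ℕ, (hV.primeIdealOf ⟨f x, eUV hxU₁⟩).asIdeal.height = b :=
    ⟨_, (ENat.natCast_toNat (Ideal.height_ne_top
      (hV.primeIdealOf ⟨f x, eUV hxU₁⟩).isPrime.ne_top)).symm⟩
  rw [ringKrullDim_stalk_eq_height hU₁ x hxU₁, ringKrullDim_stalk_eq_height hV (f x) (eUV hxU₁),
    ha, hb] at h
  obtain ⟨c, hc⟩ : ∃ c : ℕ,
      ringKrullDim ((f.fiber (f x)).presheaf.stalk (f.asFiber x)) = (c : WithBot ℕ∞) := by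
    rcases hd : ringKrullDim ((f.fiber (f x)).presheaf.stalk (f.asFiber x)) with _ | d
    · rw [hd] at h
      have h' : ((a : ℕ∞) : WithBot ℕ∞) = ((b : ℕ∞) : WithBot ℕ∞) + ⊥ := h
      rw [WithBot.add_bot] at h'
      exact absurd h' WithBot.coe_ne_bot
    · rcases d with _ | c
      · rw [hd] at h
        exact absurd h (by
          intro h'
          have : ((a : ℕ∞) : WithBot ℕ∞) = ((b : ℕ∞) : WithBot ℕ∞) + ((⊤ : ℕ∞) : WithBot ℕ∞) := h'
          rw [← WithBot.coe_add, WithBot.coe_inj, add_top] at this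
          exact ENat.natCast_ne_top a this)
      · exact ⟨c, rfl⟩
  rw [hc] at h hfdx
  have habc : a = b + c := by exact_mod_cast h
  set e : ℕ := c + tx with he
  have hfdx' : FlatMor.fibreDimAt f x = (e : WithBot ℕ∞) := by
    rw [hfdx, he]; push_cast; rfl
  -- the neighbourhood
  obtain ⟨U₀, hxU₀, hU₀le, hU₀gen⟩ := exists_open_forall_generic_specializes x U₁ hU₁ hxU₁
    (minimalPrimes.finite_of_isNoetherianRing _)
  set Ue : X.Opens := ⟨{x' : X | FlatMor.fibreDimAt f x' ≤ e},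
    Groth.Agent.H1.Chev.isOpen_fibreDimAt_le f e⟩ with hUe
  -- the key claim at generic points
  have key : ∀ ξ ∈ U₀, (∀ z : X, z ⤳ ξ → z = ξ) →
      FlatMor.fibreDimAt f ξ = (e : WithBot ℕ∞) ∧ ringKrullDim (Y.presheaf.stalk (f ξ)) = 0 := by
    intro ξ hξU₀ hgen
    have hξx : ξ ⤳ x := hU₀gen ξ hξU₀ hgen
    have hξU₁ : ξ ∈ U₁ := hU₀le hξU₀
    have hdim0 : ringKrullDim (X.presheaf.stalk ξ) = 0 :=
      Groth.Agent.H1.DimFormula.ringKrullDim_stalk_eq_zero ξ hgen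
    have hmin : (hU₁.primeIdealOf ⟨ξ, hξU₁⟩).asIdeal ∈ minimalPrimes Γ(X, U₁) := by
      rw [ringKrullDim_stalk_eq_height hU₁ _ hξU₁] at hdim0
      have h0 : (hU₁.primeIdealOf ⟨ξ, hξU₁⟩).asIdeal.height = 0 := by exact_mod_cast hdim0
      exact Ideal.height_eq_zero_iff.1 h0
    have hle := primeIdealOf_le_of_specializes hU₁ x ξ hxU₁ hξU₁ hξx
    have hA := height_map_mk_eq_of_isEquidim _ hX' _ hmin hle
    obtain ⟨tξ, htξ, hfdξ⟩ := Groth.Agent.H1.DimFormula.fibreDimAt_eq_trdeg_of_generic f ξ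
      (fun x' _ hx' => hgen x' hx')
    have hChev := fibreDimAt_le_of_specializes f hξx
    rw [hfdξ, hfdx'] at hChev
    have htξe : tξ ≤ e := by exact_mod_cast hChev
    have hrel := chart_relative_le_enat f hU₁ hV eUV x ξ hxU₁ hξU₁ hξx hNY tx tξ htx htξ
    have hle' := primeIdealOf_le_of_specializes hV (f x) (f ξ) (eUV hxU₁) (eUV hξU₁)
      (hξx.map f.continuous)
    have hB := height_map_mk_le _ _ hle'
    have hC := Groth.Agent.H1.DimLoc.height_add_height_map_mk_le _ _ hle'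
    rw [hA, ha] at hrel
    rw [hb] at hB hC
    obtain ⟨m, hm⟩ : ∃ m : ℕ, ((hV.primeIdealOf ⟨f x, eUV hxU₁⟩).asIdeal.map
        (Ideal.Quotient.mk (hV.primeIdealOf ⟨f ξ, eUV hξU₁⟩).asIdeal)).height = m :=
      ⟨_, (ENat.natCast_toNat (ne_top_of_le_ne_top (ENat.natCast_ne_top b) hB)).symm⟩
    obtain ⟨n, hn⟩ : ∃ n : ℕ, (hV.primeIdealOf ⟨f ξ, eUV hξU₁⟩).asIdeal.height = n :=
      ⟨_, (ENat.natCast_toNat (Ideal.height_ne_top
        (hV.primeIdealOf ⟨f ξ, eUV hξU₁⟩).isPrime.ne_top)).symm⟩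
    rw [hm] at hrel hB hC
    rw [hn] at hC
    have hrel' : a + tx ≤ m + tξ := by exact_mod_cast hrel
    have hB' : m ≤ b := by exact_mod_cast hB
    have hC' : n + m ≤ b := by exact_mod_cast hC
    have hn0 : n = 0 := by omega
    have hte : tξ = e := by omega
    refine ⟨by rw [hfdξ, hte], ?_⟩
    rw [ringKrullDim_stalk_eq_height hV _ (eUV hξU₁), hn, hn0]
    rfl
  apply isEquidimAt_of_generic f x (U₀ ⊓ Ue) ⟨hxU₀, by
    change FlatMor.fibreDimAt f x ≤ e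
    rw [hfdx']⟩ e
  · rintro x' ⟨hx'U₀, hx'e⟩
    apply le_antisymm hx'e
    obtain ⟨ξ, hξx', hξ0⟩ := Groth.Agent.H1.GenPts.exists_generization_stalk_dim_eq_zero x'
    have hξU₀ : ξ ∈ U₀ := hξx'.mem_open U₀.isOpen hx'U₀
    have hgen : ∀ z : X, z ⤳ ξ → z = ξ := fun z hz =>
      eq_of_specializes_of_stalk_dim_eq_zero _ z hξ0 hz
    rw [← (key ξ hξU₀ hgen).1]
    exact fibreDimAt_le_of_specializes f hξx'
  · rintro ξ ⟨hξU₀, -⟩ hgen
    refine ⟨Groth.Agent.H1.GenPts.closure_mem_irreducibleComponents_of_stalk_dim_eq_zero _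
      (key ξ hξU₀ hgen).2, ?_⟩
    exact ((hU₀gen ξ hξU₀ hgen).map f.continuous).mem_closure

end Groth.Agent.H1.EquidimLoc
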