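import Mathlib
import Groth.Agent.Lib.Helper1.EquidimLocC
import Groth.Agent.Lib.Helper1.DimLocF
import Groth.Agent.Lib.Helper1.RelDim
import Groth.Agent.Lib.Helper1.GenPts
import Groth.Agent.Lib.Helper1.Chev3

/-! Irreducible components through generic points of fibres and their generic fibres
(EGA IV 13.2, helper1). -/

set_option autoImplicit false
set_option linter.style.haveILetI false

universe u

open CategoryTheory AlgebraicGeometry TopologicalSpace Topology

namespace Groth.Agent.H1.GenComp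

section Field

variable {k : Type u} [Field k] {Z : Scheme.{u}} (g : Z ⟶ Spec (CommRingCat.of k))
  [LocallyOfFiniteType g]

include g in
/-- on a scheme locally of finite type over a field, the closure of a generic point has the local
dimension at that point as its dimension. -/
theorem dim_closure_eq_localDim (ζ : Z) (hζ : ∀ z' : Z, z' ⤳ ζ → z' = ζ) :
    topologicalKrullDim ↥(closure ({ζ} : Set Z)) = FlatMor.localDim Z ζ := by
  haveI : IsLocallyNoetherian Z := LocallyOfFiniteType.isLocallyNoetherian g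
  have hT := Groth.Agent.H1.GenPts.closure_singleton_mem_irreducibleComponents ζ hζ
  have hTc : IsClosed (closure ({ζ} : Set Z)) := isClosed_closure
  obtain ⟨o, ⟨w, hw⟩, hoT⟩ := Groth.Agent.H1.RelDim.exists_open_subset_irreducibleComponent _ hT
  have hζo : ζ ∈ o := by
    have h1 : ζ ⤳ w := by
      rw [specializes_iff_mem_closure]; exact hoT hw
    exact h1.mem_open o.isOpen hw
  have hoT' : (o : Set Z) ∩ closure ({ζ} : Set Z) = o := Set.inter_eq_left.mpr hoT
  apply le_antisymm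
  · unfold FlatMor.localDim
    apply le_iInf
    rintro ⟨N, hN⟩
    rw [← Groth.Agent.H1.RelDim.dim_inter_eq_dim g _ hT.1 hTc N ⟨ζ, hN, subset_closure rfl⟩]
    exact Groth.Agent.H3.TopDim.dim_mono Set.inter_subset_left
  · refine (Groth.Agent.H3.TopDim.localDim_le_dim_of_mem o hζo).trans ?_
    rw [← Groth.Agent.H1.RelDim.dim_inter_eq_dim g _ hT.1 hTc o ⟨ζ, hζo, subset_closure rfl⟩, hoT']

end Field

variable {X Y : Scheme.{u}}

/-- the part of the closure of a generic point `ξ` of `X` lying over `f ξ` has dimension the local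
fibre dimension at `ξ`. -/
theorem dim_closure_inter_fibre (f : X ⟶ Y) [LocallyOfFiniteType f] (ξ : X)
    (hξ : ∀ z : X, z ⤳ ξ → z = ξ) (η : Y) (hη : f ξ = η) :
    topologicalKrullDim ↥(closure ({ξ} : Set X) ∩ f ⁻¹' {η}) = FlatMor.fibreDimAt f ξ := by
  subst hη
  have hemb : IsEmbedding (f.fiberι (f ξ)) := (f.fiberι (f ξ)).isEmbedding
  have h1 := Groth.Agent.H1.RelDim.dim_preimage_eq_of_isEmbedding hemb (closure ({ξ} : Set X))
  rw [Scheme.Hom.range_fiberι] at h1
  rw [← h1]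
  have h2 : (f.fiberι (f ξ)) ⁻¹' closure ({ξ} : Set X) = closure ({f.asFiber ξ} : Set _) := by
    rw [hemb.isInducing.closure_eq_preimage_closure_image, Set.image_singleton,
      f.fiberι_asFiber]
  rw [h2]
  have h3 := @dim_closure_eq_localDim (Y.residueField (f ξ)) _ _
    (f.fiberToSpecResidueField (f ξ))
    (Groth.Agent.H1.Chev.locallyOfFiniteType_fiberToSpecResidueField f (f ξ)) (f.asFiber ξ) (by
      intro z' hz'
      apply hemb.injective
      rw [f.fiberι_asFiber]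
      apply hξ
      have := hz'.map (f.fiberι (f ξ)).continuous
      rwa [f.fiberι_asFiber] at this)
  rw [h3]
  rfl

open Groth.Agent.H1.DimLoc Groth.Agent.H1.DimIneq Groth.Agent.H1.EquidimLoc in
/-- **EGA IV 13.2.x, (b) ⇒ (c)** at a generic point `z` of its fibre. -/
theorem exists_component_of_stalk_dim_eq [IrreducibleSpace Y] [IsLocallyNoetherian Y]
    (f : X ⟶ Y) [LocallyOfFiniteType f] (z : X)
    (hz0 : ringKrullDim ((f.fiber (f z)).presheaf.stalk (f.asFiber z)) = 0)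
    (hb : ringKrullDim (X.presheaf.stalk z) = ringKrullDim (Y.presheaf.stalk (f z))) :
    ∃ X' ∈ irreducibleComponents (X : Type u), z ∈ X' ∧
      topologicalKrullDim ↥(X' ∩ f ⁻¹' {genericPoint Y}) = FlatMor.fibreDimAt f z := by
  obtain ⟨V, hV, hfzV⟩ : ∃ V : Y.Opens, IsAffineOpen V ∧ f z ∈ V := by
    obtain ⟨_, ⟨V, hV, rfl⟩, hz, -⟩ :=
      Y.isBasis_affineOpens.exists_subset_of_mem_open (Set.mem_univ (f z)) isOpen_univ
    exact ⟨V, hV, hz⟩
  obtain ⟨U, hU, hzU, eUV⟩ :=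
    exists_isAffineOpen_mem_and_subset (x := z) (U := f ⁻¹ᵁ V) hfzV
  letI algRS := (f.appLE V U eUV).hom.toAlgebra
  haveI : Algebra.FiniteType Γ(Y, V) Γ(X, U) := f.finiteType_appLE hV hU eUV
  haveI : IsNoetherianRing Γ(Y, V) := IsLocallyNoetherian.component_noetherian ⟨V, hV⟩
  haveI : IsNoetherianRing Γ(X, U) := Algebra.FiniteType.isNoetherianRing Γ(Y, V) Γ(X, U)
  have hNY : IsNoetherianRing (Y.presheaf.stalk (f z)) := inferInstance
  obtain ⟨tz, htz, hfdz⟩ := Groth.Agent.H1.DimFormula.exists_fibreDimAt_eq_stalk_add_trdeg f z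
  rw [hz0, zero_add] at hfdz
  obtain ⟨a, ha⟩ : ∃ a : ℕ, (hU.primeIdealOf ⟨z, hzU⟩).asIdeal.height = a :=
    ⟨_, (ENat.natCast_toNat (Ideal.height_ne_top
      (hU.primeIdealOf ⟨z, hzU⟩).isPrime.ne_top)).symm⟩
  obtain ⟨b, hb'⟩ : ∃ b : ℕ, (hV.primeIdealOf ⟨f z, eUV hzU⟩).asIdeal.height = b :=
    ⟨_, (ENat.natCast_toNat (Ideal.height_ne_top
      (hV.primeIdealOf ⟨f z, eUV hzU⟩).isPrime.ne_top)).symm⟩
  rw [ringKrullDim_stalk_eq_height hU z hzU, ringKrullDim_stalk_eq_height hV (f z) (eUV hzU),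
    ha, hb'] at hb
  have hab : a = b := by exact_mod_cast hb
  obtain ⟨q₀, hq₀, hle, hht⟩ := exists_minimalPrimes_height_map_eq
    (hU.primeIdealOf ⟨z, hzU⟩).asIdeal
  haveI : q₀.IsPrime := hq₀.1.1
  set P : Spec Γ(X, U) := ⟨q₀, inferInstance⟩ with hP
  have hξU : hU.fromSpec P ∈ U := by
    rw [← SetLike.mem_coe, ← hU.range_fromSpec]; exact ⟨P, rfl⟩
  have hprime := primeIdealOf_fromSpec hU P hξU
  have hξz : hU.fromSpec P ⤳ z := by
    have h1 : P ⤳ hU.primeIdealOf ⟨z, hzU⟩ :=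
      (PrimeSpectrum.le_iff_specializes (R := Γ(X, U)) P (hU.primeIdealOf ⟨z, hzU⟩)).1 hle
    have := h1.map hU.fromSpec.continuous
    rwa [hU.fromSpec_primeIdealOf] at this
  have hdim0 : ringKrullDim (X.presheaf.stalk (hU.fromSpec P)) = 0 := by
    rw [ringKrullDim_stalk_eq_height hU _ hξU, hprime]
    have : q₀.height = 0 := Ideal.height_eq_zero_iff.2 hq₀
    change ((q₀.height : ℕ∞) : WithBot ℕ∞) = 0
    rw [this]; rfl
  have hgen : ∀ w : X, w ⤳ hU.fromSpec P → w = hU.fromSpec P := fun w hw =>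
    eq_of_specializes_of_stalk_dim_eq_zero _ w hdim0 hw
  obtain ⟨tξ, htξ, hfdξ⟩ := Groth.Agent.H1.DimFormula.fibreDimAt_eq_trdeg_of_generic f
    (hU.fromSpec P) (fun x' _ hx' => hgen x' hx')
  have hChev := fibreDimAt_le_of_specializes f hξz
  rw [hfdξ, hfdz] at hChev
  have htξz : tξ ≤ tz := by exact_mod_cast hChev
  have hrel := chart_relative_le_enat f hU hV eUV z (hU.fromSpec P) hzU hξU hξz hNY tz tξ htz htξ
  have hle' := primeIdealOf_le_of_specializes hV (f z) (f (hU.fromSpec P)) (eUV hzU) (eUV hξU)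
    (hξz.map f.continuous)
  have hB := height_map_mk_le _ _ hle'
  have hC := Groth.Agent.H1.DimLoc.height_add_height_map_mk_le _ _ hle'
  have hprime' : (hU.primeIdealOf ⟨hU.fromSpec P, hξU⟩).asIdeal = q₀ := by rw [hprime]
  rw [hprime', hht, ha] at hrel
  rw [hb'] at hB hC
  obtain ⟨m, hm⟩ : ∃ m : ℕ, ((hV.primeIdealOf ⟨f z, eUV hzU⟩).asIdeal.map
      (Ideal.Quotient.mk (hV.primeIdealOf ⟨f (hU.fromSpec P), eUV hξU⟩).asIdeal)).height = m :=
    ⟨_, (ENat.natCast_toNat (ne_top_of_le_ne_top (ENat.natCast_ne_top b) hB)).symm⟩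
  obtain ⟨n, hn⟩ : ∃ n : ℕ, (hV.primeIdealOf ⟨f (hU.fromSpec P), eUV hξU⟩).asIdeal.height = n :=
    ⟨_, (ENat.natCast_toNat (Ideal.height_ne_top
      (hV.primeIdealOf ⟨f (hU.fromSpec P), eUV hξU⟩).isPrime.ne_top)).symm⟩
  rw [hm] at hrel hB hC
  rw [hn] at hC
  have hrel' : a + tz ≤ m + tξ := by exact_mod_cast hrel
  have hB' : m ≤ b := by exact_mod_cast hB
  have hC' : n + m ≤ b := by exact_mod_cast hC
  have hn0 : n = 0 := by omega
  have hte : tξ = tz := by omega
  have hdimη : ringKrullDim (Y.presheaf.stalk (f (hU.fromSpec P))) = 0 := by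
    rw [ringKrullDim_stalk_eq_height hV _ (eUV hξU), hn, hn0]; rfl
  have hfξ : f (hU.fromSpec P) = genericPoint Y :=
    (eq_of_specializes_of_stalk_dim_eq_zero _ _ hdimη (genericPoint_specializes _)).symm
  refine ⟨closure {hU.fromSpec P},
    Groth.Agent.H1.GenPts.closure_mem_irreducibleComponents_of_stalk_dim_eq_zero _ hdim0,
    hξz.mem_closure, ?_⟩
  rw [dim_closure_inter_fibre f _ hgen _ hfξ, hfdξ, hfdz, hte]

/-- a space of dimension `≥ 0` is nonempty. -/
theorem nonempty_of_zero_le_dim {T : Type*} [TopologicalSpace T]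
    (h : (0 : WithBot ℕ∞) ≤ topologicalKrullDim T) : Nonempty T := by
  by_contra hne
  rw [not_nonempty_iff] at hne
  have : topologicalKrullDim T = ⊥ := by
    unfold topologicalKrullDim
    haveI : IsEmpty (TopologicalSpace.IrreducibleCloseds T) :=
      ⟨fun s => hne.elim s.isIrreducible'.nonempty.some⟩
    exact Order.krullDim_eq_bot
  rw [this] at h
  exact absurd h (not_le.2 (WithBot.bot_lt_coe (0 : ℕ∞)))

open Groth.Agent.H1.DimLoc Groth.Agent.H1.DimIneq Groth.Agent.H1.EquidimLoc in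
/-- **EGA IV 13.2.x, (c) ⇒ (b)** at a generic point `z` of its fibre, `O_{Y,f z}` universally
catenary. -/
theorem stalk_dim_eq_of_exists_component [IrreducibleSpace Y] [IsLocallyNoetherian Y]
    (f : X ⟶ Y) [LocallyOfFiniteType f] (z : X)
    (hcat : CAlg.IsUniversallyCatenary (Y.presheaf.stalk (f z)))
    (hz0 : ringKrullDim ((f.fiber (f z)).presheaf.stalk (f.asFiber z)) = 0)
    (X' : Set X) (hX' : X' ∈ irreducibleComponents (X : Type u)) (hzX' : z ∈ X')
    (hdim : topologicalKrullDim ↥(X' ∩ f ⁻¹' {genericPoint Y}) = FlatMor.fibreDimAt f z) :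
    ringKrullDim (X.presheaf.stalk z) = ringKrullDim (Y.presheaf.stalk (f z)) := by
  obtain ⟨ξ, hξ⟩ := QuasiSober.sober hX'.1 (isClosed_of_mem_irreducibleComponents _ hX')
  have hXeq : closure ({ξ} : Set X) = X' := hξ.def
  have hgen : ∀ w : X, w ⤳ ξ → w = ξ :=
    eq_of_specializes_of_closure_mem_irreducibleComponents ξ (by rw [hXeq]; exact hX')
  have hξz : ξ ⤳ z := by
    rw [specializes_iff_mem_closure, hXeq]; exact hzX'
  -- the generic fibre of `X'` is nonempty
  have hne : Nonempty ↥(X' ∩ f ⁻¹' {genericPoint Y}) := by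
    apply nonempty_of_zero_le_dim
    rw [hdim]
    exact Groth.Agent.H1.Chev.zero_le_fibreDimAt f z
  obtain ⟨⟨w, hwX', hwη⟩⟩ := hne
  have hfξ : f ξ = genericPoint Y := by
    have h1 : ξ ⤳ w := by
      rw [specializes_iff_mem_closure, hXeq]; exact hwX'
    have h2 : f ξ ⤳ genericPoint Y := by
      have := h1.map f.continuous
      rwa [show f w = genericPoint Y from hwη] at this
    exact (h2.antisymm (genericPoint_specializes _)).eq
  rw [← hXeq, dim_closure_inter_fibre f ξ hgen _ hfξ] at hdim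
  -- charts
  obtain ⟨V, hV, hfzV⟩ : ∃ V : Y.Opens, IsAffineOpen V ∧ f z ∈ V := by
    obtain ⟨_, ⟨V, hV, rfl⟩, hz, -⟩ :=
      Y.isBasis_affineOpens.exists_subset_of_mem_open (Set.mem_univ (f z)) isOpen_univ
    exact ⟨V, hV, hz⟩
  obtain ⟨U, hU, hzU, eUV⟩ :=
    exists_isAffineOpen_mem_and_subset (x := z) (U := f ⁻¹ᵁ V) hfzV
  have hξU : ξ ∈ U := hξz.mem_open U.isOpen hzU
  have hηV : genericPoint Y ∈ V := (genericPoint_specializes (f z)).mem_open V.isOpen hfzV
  letI algRS := (f.appLE V U eUV).hom.toAlgebra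
  haveI : Algebra.FiniteType Γ(Y, V) Γ(X, U) := f.finiteType_appLE hV hU eUV
  haveI : IsNoetherianRing Γ(Y, V) := IsLocallyNoetherian.component_noetherian ⟨V, hV⟩
  haveI : IsNoetherianRing Γ(X, U) := Algebra.FiniteType.isNoetherianRing Γ(Y, V) Γ(X, U)
  obtain ⟨tz, htz, hfdz⟩ := Groth.Agent.H1.DimFormula.exists_fibreDimAt_eq_stalk_add_trdeg f z
  rw [hz0, zero_add] at hfdz
  obtain ⟨tξ, htξ, hfdξ⟩ := Groth.Agent.H1.DimFormula.fibreDimAt_eq_trdeg_of_generic f
    ξ (fun x' _ hx' => hgen x' hx')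
  rw [hfdξ, hfdz] at hdim
  have hte : tξ = tz := by exact_mod_cast hdim
  have hrel := chart_relative_eq_enat f hU hV eUV z ξ hzU hξU hξz hcat tz tξ htz htξ
  have hfinY : ringKrullDim (Y.presheaf.stalk (f z)) ≠ ⊤ := by
    rw [ringKrullDim_stalk_eq_height hV (f z) (eUV hzU)]
    have := Ideal.height_ne_top (hV.primeIdealOf ⟨f z, eUV hzU⟩).isPrime.ne_top
    exact_mod_cast this
  have key : ∀ (η' : Y) (hη' : η' ∈ V), η' = genericPoint Y →
      ((hV.primeIdealOf ⟨f z, eUV hzU⟩).asIdeal.map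
        (Ideal.Quotient.mk (hV.primeIdealOf ⟨η', hη'⟩).asIdeal)).height =
        (hV.primeIdealOf ⟨f z, eUV hzU⟩).asIdeal.height := by
    rintro _ hη' rfl
    exact height_map_mk_genericPoint hV (f z) (eUV hzU) hη' hfinY
  rw [key (f ξ) (eUV hξU) hfξ, hte] at hrel
  have h1 : ((hU.primeIdealOf ⟨z, hzU⟩).asIdeal.map
      (Ideal.Quotient.mk (hU.primeIdealOf ⟨ξ, hξU⟩).asIdeal)).height =
      (hV.primeIdealOf ⟨f z, eUV hzU⟩).asIdeal.height :=
    ENat.add_left_injective_of_ne_top (ENat.natCast_ne_top tz) hrel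
  have h2 := height_map_mk_le _ _ (primeIdealOf_le_of_specializes hU z ξ hzU hξU hξz)
  rw [h1] at h2
  apply le_antisymm
  · have := stalk_dim_le_add_fiber f z
    rwa [hz0, add_zero] at this
  · rw [ringKrullDim_stalk_eq_height hU z hzU, ringKrullDim_stalk_eq_height hV (f z) (eUV hzU)]
    exact_mod_cast h2

end Groth.Agent.H1.GenComp
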