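import Mathlib
import Groth.Agent.Lib.Helper1.ClosureDim
import Groth.Agent.Lib.Helper1.DimFormula
import Groth.Agent.Lib.Helper1.Chev1
import Groth.Agent.Lib.Helper3.TopDim
import Groth.Agent.Lib.Helper3.Decent.IrrCompTop

/-! The dimension of the total space of a morphism of finite type between schemes of finite type
over a field, in terms of the dimension of the base and of the fibres (helper1). -/

set_option autoImplicit false
set_option linter.style.haveILetI false

universe u

open CategoryTheory AlgebraicGeometry TopologicalSpace Topology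

namespace Groth.Agent.H1.FibDimTot

open Groth.Agent.H1.DimFormula

section Top

variable {T : Type*} [TopologicalSpace T]

/-- the dimension of the closure of a point is at most the dimension of the space. -/
theorem dim_closure_le (x : T) :
    topologicalKrullDim ↥(closure ({x} : Set T)) ≤ topologicalKrullDim T :=
  topologicalKrullDim_subspace_le T _

/-- a maximal point: one that is not a proper specialisation of another. -/
def IsMaxPt (x : T) : Prop := ∀ y : T, y ⤳ x → y = x

/-- every irreducible component of a quasi-sober T0 space is the closure of a maximal point. -/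
theorem exists_isMaxPt_closure_eq [QuasiSober T] [T0Space T] {Z : Set T}
    (hZ : Z ∈ irreducibleComponents T) : ∃ x : T, IsMaxPt x ∧ closure ({x} : Set T) = Z := by
  obtain ⟨x, hx⟩ := QuasiSober.sober hZ.1 (isClosed_of_mem_irreducibleComponents Z hZ)
  refine ⟨x, ?_, hx.def⟩
  intro y hy
  have h1 : closure ({x} : Set T) ⊆ closure ({y} : Set T) := by
    apply closure_minimal _ isClosed_closure
    rw [Set.singleton_subset_iff]
    exact specializes_iff_mem_closure.mp hy
  have h2 : closure ({y} : Set T) ⊆ Z := by
    apply hZ.2 isIrreducible_singleton.closure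
    rw [← hx.def]
    exact h1
  have h3 : x ⤳ y := by
    rw [specializes_iff_mem_closure, hx.def]
    exact h2 (subset_closure rfl)
  exact ((h3.antisymm hy).eq).symm

/-- the dimension of a quasi-sober T0 space is the supremum of the dimensions of the closures of
its maximal points. -/
theorem dim_eq_iSup_isMaxPt [QuasiSober T] [T0Space T] :
    topologicalKrullDim T =
      ⨆ x : {x : T // IsMaxPt x}, topologicalKrullDim ↥(closure ({x.1} : Set T)) := by
  apply le_antisymm
  · rw [Groth.Agent.H3.TopDim.dim_eq_iSup_irreducibleComponents]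
    apply iSup₂_le
    intro Z hZ
    obtain ⟨x, hx, hxZ⟩ := exists_isMaxPt_closure_eq hZ
    rw [← hxZ]
    exact le_iSup (fun x : {x : T // IsMaxPt x} =>
      topologicalKrullDim ↥(closure ({x.1} : Set T))) ⟨x, hx⟩
  · exact iSup_le fun x => dim_closure_le x.1

/-- the dimension of a quasi-sober T0 space is the supremum of the dimensions of the closures of
its points. -/
theorem dim_eq_iSup_closure [QuasiSober T] [T0Space T] :
    topologicalKrullDim T = ⨆ x : T, topologicalKrullDim ↥(closure ({x} : Set T)) := by
  apply le_antisymm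
  · rw [dim_eq_iSup_isMaxPt]
    exact iSup_le fun x => le_iSup (fun x : T => topologicalKrullDim ↥(closure ({x} : Set T))) x.1
  · exact iSup_le fun x => dim_closure_le x

/-- adding a natural number commutes with bounding a supremum in `WithBot ℕ∞`. -/
theorem nat_add_iSup_le {ι : Sort*} (g : ι → WithBot ℕ∞) (r : ℕ) (c : WithBot ℕ∞)
    (h : ∀ i, (r : WithBot ℕ∞) + g i ≤ c) : (r : WithBot ℕ∞) + ⨆ i, g i ≤ c := by
  by_cases hs : (⨆ i, g i) = ⊥
  · rw [hs, WithBot.add_bot]
    exact bot_le
  obtain ⟨i₀, hi₀⟩ : ∃ i, g i ≠ ⊥ := by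
    by_contra hcon
    push Not at hcon
    apply hs
    rw [eq_bot_iff]
    exact iSup_le fun i => (hcon i).le
  induction c using WithBot.recBotCoe with
  | bot =>
    exfalso
    have := h i₀
    rw [le_bot_iff, WithBot.add_eq_bot] at this
    rcases this with h1 | h1
    · exact WithBot.coe_ne_bot h1
    · exact hi₀ h1
  | coe d =>
    have hrd : (r : ℕ∞) ≤ d := by
      have := h i₀
      obtain ⟨j, hj⟩ := WithBot.ne_bot_iff_exists.mp hi₀
      rw [← hj] at this
      have h2 : ((r : ℕ∞) : WithBot ℕ∞) + ((j : ℕ∞) : WithBot ℕ∞) ≤ ((d : ℕ∞) : WithBot ℕ∞) := this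
      rw [← WithBot.coe_add, WithBot.coe_le_coe] at h2
      exact le_trans le_self_add h2
    have hle : (⨆ i, g i) ≤ ((d - r : ℕ∞) : WithBot ℕ∞) := by
      apply iSup_le
      intro i
      have := h i
      induction hgi : g i using WithBot.recBotCoe with
      | bot => exact bot_le
      | coe j =>
        rw [hgi] at this
        have h2 : ((r : ℕ∞) : WithBot ℕ∞) + ((j : ℕ∞) : WithBot ℕ∞) ≤ ((d : ℕ∞) : WithBot ℕ∞) :=
          this
        rw [← WithBot.coe_add, WithBot.coe_le_coe] at h2
        rw [WithBot.coe_le_coe]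
        exact ENat.le_sub_of_add_le_left (ENat.coe_ne_top r) h2
    calc (r : WithBot ℕ∞) + ⨆ i, g i ≤ ((r : ℕ∞) : WithBot ℕ∞) + ((d - r : ℕ∞) : WithBot ℕ∞) :=
          add_le_add_right hle _
      _ = ((d : ℕ∞) : WithBot ℕ∞) := by
          rw [← WithBot.coe_add, add_tsub_cancel_of_le hrd]

end Top

section Sch

variable {k : Type u} [Field k] {X Y : Scheme.{u}} (q : Y ⟶ Spec (CommRingCat.of k))
  (f : X ⟶ Y)

theorem toResidueField_comp (x : X) :
    toResidueField (f ≫ q) x = toResidueField q (f x) ≫ f.residueFieldMap x := by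
  apply Spec.map_injective
  rw [SpecMap_toResidueField, Spec.map_comp, SpecMap_toResidueField,
    Scheme.Hom.SpecMap_residueFieldMap_fromSpecResidueField_assoc]

/-- additivity of transcendence degrees of residue fields along `X ⟶ Y ⟶ Spec k`. -/
theorem trdeg_residueField_add (x : X) :
    @Algebra.trdeg k (Y.residueField (f x)) _ _ (toResidueField q (f x)).hom.toAlgebra +
      @Algebra.trdeg (Y.residueField (f x)) (X.residueField x) _ _
        (f.residueFieldMap x).hom.toAlgebra =
      @Algebra.trdeg k (X.residueField x) _ _ (toResidueField (f ≫ q) x).hom.toAlgebra := by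
  letI a1 : Algebra k (Y.residueField (f x)) := (toResidueField q (f x)).hom.toAlgebra
  letI a2 : Algebra (Y.residueField (f x)) (X.residueField x) :=
    (f.residueFieldMap x).hom.toAlgebra
  letI a3 : Algebra k (X.residueField x) := (toResidueField (f ≫ q) x).hom.toAlgebra
  haveI : IsScalarTower k (Y.residueField (f x)) (X.residueField x) := by
    apply IsScalarTower.of_algebraMap_eq
    intro c
    change (toResidueField (f ≫ q) x).hom c =
      (f.residueFieldMap x).hom ((toResidueField q (f x)).hom c)
    rw [toResidueField_comp]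
    rfl
  exact trdeg_add_eq k (Y.residueField (f x))

/-- **dimension of the closure of a point of the total space**: it is the dimension of the closure
of its image plus the dimension of its closure in the fibre. -/
theorem dim_closure_eq_add [LocallyOfFiniteType q] [LocallyOfFiniteType f] (x : X) :
    topologicalKrullDim ↥(closure ({x} : Set X)) =
      topologicalKrullDim ↥(closure ({f x} : Set Y)) +
        topologicalKrullDim ↥(closure ({f.asFiber x} : Set ↥(f.fiber (f x)))) := by
  obtain ⟨t1, ht1, hd1⟩ := Groth.Agent.H1.ClosureDim.exists_trdeg_eq_dim_closure (f ≫ q) x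
  obtain ⟨t2, ht2, hd2⟩ := Groth.Agent.H1.ClosureDim.exists_trdeg_eq_dim_closure q (f x)
  obtain ⟨t3, ht3, hd3⟩ := @Groth.Agent.H1.ClosureDim.exists_trdeg_eq_dim_closure
    (Y.residueField (f x)) _ _ (f.fiberToSpecResidueField (f x))
    (Groth.Agent.H1.Chev.locallyOfFiniteType_fiberToSpecResidueField f (f x)) (f.asFiber x)
  obtain ⟨θ⟩ := exists_residueField_fiber_equiv f x
  have ht3' : @Algebra.trdeg (Y.residueField (f x)) (X.residueField x) _ _
      (f.residueFieldMap x).hom.toAlgebra = t3 := by
    rw [← ht3]
    letI a1 := (f.residueFieldMap x).hom.toAlgebra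
    letI a2 := (toResidueField (k := Y.residueField (f x))
      (f.fiberToSpecResidueField (f x)) (f.asFiber x)).hom.toAlgebra
    exact θ.trdeg_eq
  have hadd := trdeg_residueField_add q f x
  rw [ht1, ht2, ht3'] at hadd
  have h : t1 = t2 + t3 := by exact_mod_cast hadd.symm
  rw [hd1, hd2, hd3, h]
  push_cast
  rfl

/-- the set-theoretic and the scheme-theoretic fibre have the same dimension. -/
theorem dim_preimage_eq_dim_fiber (y : Y) :
    topologicalKrullDim ↥(f ⁻¹' {y}) = topologicalKrullDim ↥(f.fiber y) :=
  (IsHomeomorph.topologicalKrullDim_eq _ (f.fiberHomeo y).isHomeomorph).symm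

theorem dim_closure_asFiber_le (x : X) :
    topologicalKrullDim ↥(closure ({f.asFiber x} : Set ↥(f.fiber (f x)))) ≤
      topologicalKrullDim ↥(f ⁻¹' {f x}) := by
  rw [dim_preimage_eq_dim_fiber]
  exact dim_closure_le _

/-- a fibre of dimension at least `r` has a point whose closure in the fibre has dimension at
least `r`. -/
theorem exists_asFiber_dim_ge (y : Y) (r : ℕ)
    (h : (r : WithBot ℕ∞) ≤ topologicalKrullDim ↥(f ⁻¹' {y})) :
    ∃ x : X, f x = y ∧ (r : WithBot ℕ∞) ≤
      topologicalKrullDim ↥(closure ({f.asFiber x} : Set ↥(f.fiber (f x)))) := by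
  rw [dim_preimage_eq_dim_fiber] at h
  obtain ⟨l, hl⟩ := Order.le_krullDim_iff.mp h
  obtain ⟨x', hx'⟩ := QuasiSober.sober l.last.isIrreducible l.last.isClosed
  have h1 := Groth.Agent.H3.TopDim.length_le_dim_of_last_subset (closure ({x'} : Set ↥(f.fiber y)))
    l (by rw [hx'.def])
  rw [hl] at h1
  obtain ⟨⟨x, hx⟩, hxx'⟩ : ∃ p : ↥(f ⁻¹' {y}), (f.fiberHomeo y).symm p = x' :=
    ⟨f.fiberHomeo y x', by simp⟩
  obtain rfl : f x = y := hx
  exact ⟨x, rfl, by rw [← hxx'] at h1; exact h1⟩

/-- **lower bound for the dimension of the total space**: if the fibres over the maximal points of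
`Y` have dimension at least `r`, then `dim X ≥ r + dim Y`. -/
theorem add_dim_le [LocallyOfFiniteType q] [LocallyOfFiniteType f] (r : ℕ)
    (hfib : ∀ η : Y, IsMaxPt η → (r : WithBot ℕ∞) ≤ topologicalKrullDim ↥(f ⁻¹' {η})) :
    (r : WithBot ℕ∞) + topologicalKrullDim Y ≤ topologicalKrullDim X := by
  rw [dim_eq_iSup_isMaxPt (T := Y)]
  apply nat_add_iSup_le
  rintro ⟨η, hη⟩
  obtain ⟨x, rfl, hx⟩ := exists_asFiber_dim_ge f η r (hfib η hη)
  calc (r : WithBot ℕ∞) + topologicalKrullDim ↥(closure ({f x} : Set Y))
      ≤ topologicalKrullDim ↥(closure ({f.asFiber x} : Set ↥(f.fiber (f x)))) +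
          topologicalKrullDim ↥(closure ({f x} : Set Y)) := add_le_add_left hx _
    _ = topologicalKrullDim ↥(closure ({x} : Set X)) := by rw [dim_closure_eq_add q f x, add_comm]
    _ ≤ topologicalKrullDim X := dim_closure_le x

/-- **upper bound for the dimension of the total space**: if the fibres have dimension at most `r`,
then `dim X ≤ r + dim Y`. -/
theorem dim_le_add [LocallyOfFiniteType q] [LocallyOfFiniteType f] (r : WithBot ℕ∞)
    (hfib : ∀ x : X, topologicalKrullDim ↥(f ⁻¹' {f x}) ≤ r) :
    topologicalKrullDim X ≤ r + topologicalKrullDim Y := by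
  rw [dim_eq_iSup_closure (T := X)]
  apply iSup_le
  intro x
  rw [dim_closure_eq_add q f x, add_comm]
  exact add_le_add ((dim_closure_asFiber_le f x).trans (hfib x)) (dim_closure_le _)

/-- a dominant map from a space with finitely many irreducible components hits every maximal
point. -/
theorem exists_eq_of_isMaxPt {A B : Type*} [TopologicalSpace A] [TopologicalSpace B] {e : A → B}
    (he : Continuous e) (hd : DenseRange e) [QuasiSober A]
    (hA : (irreducibleComponents A).Finite) (η : B) (hη : IsMaxPt η) : ∃ a : A, e a = η := by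
  obtain ⟨a, -, ha⟩ := Groth.Agent.H3.Decent.exists_generic_specializes he hd hA η
  exact ⟨a, hη _ ha⟩

end Sch

end Groth.Agent.H1.FibDimTot
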