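import Mathlib
import Groth.Prelude.Def_EGA43
import Groth.Prelude.Def_Dual3
import Groth.Agent.Lib.Helper1.CMQF
import Groth.Agent.Lib.Helper1.EquidimLocC
import Groth.Agent.Lib.Helper1.GenPts
import Groth.Agent.Lib.Helper5.FibDim.Spec
import Groth.Agent.Lib.Helper5.AlgSp.AffineSpaceFlat

/-!
# Equidimensionality at a point and quasi-finite morphisms to affine space (EGA IV 13.3.1)
(helper1)
-/

set_option autoImplicit false
universe u

namespace Groth.Agent.H1.EquidimQF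

open AlgebraicGeometry CategoryTheory CategoryTheory.Limits TopologicalSpace Topology
  Groth.Agent.H1.DimFormula Groth.Agent.H1.EquidimLoc

section key

variable {D A Y : Scheme.{u}}

theorem resTrdeg_comp (g : D ⟶ A) (π : A ⟶ Y) (ξ : D) :
    Dual3.resTrdeg π (g ξ) + Dual3.resTrdeg g ξ = Dual3.resTrdeg (g ≫ π) ξ :=
  trdeg_residueField_comp g π ξ

theorem resTrdeg_of_isMaxPt (f : D ⟶ Y) [LocallyOfFiniteType f] (ξ : D)
    (hξ : ∀ z : D, z ⤳ ξ → z = ξ) :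
    ∃ t : ℕ, Dual3.resTrdeg f ξ = t ∧ FlatMor.fibreDimAt f ξ = t :=
  fibreDimAt_eq_trdeg_of_generic f ξ (fun x' _ hx' => hξ x' hx')

theorem resTrdeg_le (π : A ⟶ Y) [LocallyOfFiniteType π] (e : ℕ) (z : A)
    (hz : FlatMor.fibreDimAt π z = e) : Dual3.resTrdeg π z ≤ (e : Cardinal.{u}) := by
  obtain ⟨t₃, ht₃, hd₃⟩ := exists_fibreDimAt_eq_stalk_add_trdeg π z
  have ht₃' : Dual3.resTrdeg π z = t₃ := ht₃
  rw [ht₃']
  rw [hz] at hd₃
  have h0 : (0 : WithBot ℕ∞) ≤ ringKrullDim ((π.fiber (π z)).presheaf.stalk (π.asFiber z)) :=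
    ringKrullDim_nonneg_of_nontrivial
  have h3 : (t₃ : WithBot ℕ∞) ≤ (e : WithBot ℕ∞) := by
    rw [hd₃]
    calc (t₃ : WithBot ℕ∞) = 0 + t₃ := (zero_add _).symm
      _ ≤ _ := by gcongr
  have h3' : t₃ ≤ e := by exact_mod_cast h3
  exact_mod_cast h3'

/-- a generic point of the source at which the composite has fibre dimension `e`, over a generic
point of the base, goes to a generic point of the middle scheme when `g` is quasi-finite there and
`π` has all fibres of dimension `e`. -/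
theorem isMaxPt_of_fibreDimAt_eq (g : D ⟶ A) (π : A ⟶ Y) [LocallyOfFiniteType g]
    [LocallyOfFiniteType π] (e : ℕ) (hπ : ∀ a : A, FlatMor.fibreDimAt π a = e) (ξ : D)
    (hξ : ∀ z : D, z ⤳ ξ → z = ξ) (hg0 : FlatMor.fibreDimAt g ξ = 0)
    (hω : ∀ w : Y, w ⤳ π (g ξ) → w = π (g ξ))
    (hfd : FlatMor.fibreDimAt (g ≫ π) ξ = e) :
    ∀ z : A, z ⤳ g ξ → z = g ξ := by
  obtain ⟨t₁, ht₁, hd₁⟩ := resTrdeg_of_isMaxPt (g ≫ π) ξ hξ
  obtain ⟨t₂, ht₂, hd₂⟩ := resTrdeg_of_isMaxPt g ξ hξ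
  have hadd := resTrdeg_comp g π ξ
  have ht₁e : t₁ = e := by
    rw [hd₁] at hfd; exact_mod_cast hfd
  have ht₂0 : t₂ = 0 := by
    rw [hd₂] at hg0; exact_mod_cast hg0
  rw [ht₁, ht₂, ht₂0, ht₁e, Nat.cast_zero, add_zero] at hadd
  intro z hz
  by_contra hne
  have hπz : π z = π (g ξ) := hω _ (hz.map π.continuous)
  have hlt : Dual3.resTrdeg π (g ξ) < Dual3.resTrdeg π z :=
    H5FibDim.main9381 π z (g ξ) hz hne hπz
  have hle := resTrdeg_le π e z (hπ z)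
  rw [hadd] at hlt
  exact absurd hle (not_le.mpr hlt)

/-- conversely, a generic point going to a generic point of the middle scheme has fibre dimension
`e` for the composite. -/
theorem fibreDimAt_eq_of_isMaxPt (g : D ⟶ A) (π : A ⟶ Y) [LocallyOfFiniteType g]
    [LocallyOfFiniteType π] (e : ℕ) (hπ : ∀ a : A, FlatMor.fibreDimAt π a = e) (ξ : D)
    (hξ : ∀ z : D, z ⤳ ξ → z = ξ) (hg0 : FlatMor.fibreDimAt g ξ = 0)
    (hgξ : ∀ z : A, z ⤳ g ξ → z = g ξ) :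
    FlatMor.fibreDimAt (g ≫ π) ξ = e := by
  obtain ⟨t₁, ht₁, hd₁⟩ := resTrdeg_of_isMaxPt (g ≫ π) ξ hξ
  obtain ⟨t₂, ht₂, hd₂⟩ := resTrdeg_of_isMaxPt g ξ hξ
  obtain ⟨t₃, ht₃, hd₃⟩ := resTrdeg_of_isMaxPt π (g ξ) hgξ
  have hadd := resTrdeg_comp g π ξ
  have ht₂0 : t₂ = 0 := by
    rw [hd₂] at hg0; exact_mod_cast hg0
  have ht₃e : t₃ = e := by
    rw [hπ] at hd₃; exact_mod_cast hd₃.symm
  rw [ht₁, ht₂, ht₃, ht₂0, ht₃e, Nat.cast_zero, add_zero] at hadd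
  have : e = t₁ := by exact_mod_cast hadd
  rw [hd₁, this]

end key

section main

variable {X Y : Scheme.{u}}

theorem closure_image_closure_singleton {T T' : Type*} [TopologicalSpace T] [TopologicalSpace T']
    (g : T → T') (hg : Continuous g) (ξ : T) :
    closure (g '' closure ({ξ} : Set T)) = closure ({g ξ} : Set T') := by
  apply le_antisymm
  · apply closure_minimal _ isClosed_closure
    refine (image_closure_subset_closure_image hg).trans ?_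
    rw [Set.image_singleton]
  · apply closure_mono
    rw [Set.singleton_subset_iff]
    exact ⟨ξ, subset_closure rfl, rfl⟩

/-- **EGA IV 13.3.1, a) ⟹ b)**. -/
theorem exists_of_isEquidimAt (f : X ⟶ Y) [LocallyOfFiniteType f] (x : X)
    (h : EGA43.IsEquidimAt f x) :
    ∃ (e : ℕ) (U : X.Opens) (g : (U : Scheme.{u}) ⟶ 𝔸(ULift.{u} (Fin e); Y)),
        x ∈ U ∧ g ≫ (𝔸(ULift.{u} (Fin e); Y) ↘ Y) = U.ι ≫ f ∧ LocallyQuasiFinite g ∧
        ∀ Z ∈ irreducibleComponents (↥U : Type u),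
          closure (g.base '' Z) ∈ irreducibleComponents (↥𝔸(ULift.{u} (Fin e); Y) : Type u) := by
  obtain ⟨e, U, hxU, hcomp, hfib⟩ := h
  have hfd := fibreDimAt_eq_of_forall_dim f U e hfib
  obtain ⟨D, g, hxD, hg, hqf⟩ :=
    Groth.Agent.H1.CMQF.exists_locallyQuasiFinite_toAffineSpace f x e (hfd x hxU).le
  set U' : X.Opens := D ⊓ U with hU'
  let j : (U' : Scheme.{u}) ⟶ (D : Scheme.{u}) := X.homOfLE inf_le_left
  let g' : (U' : Scheme.{u}) ⟶ 𝔸(ULift.{u} (Fin e); Y) := j ≫ g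
  have hg' : g' ≫ (𝔸(ULift.{u} (Fin e); Y) ↘ Y) = U'.ι ≫ f := by
    change (j ≫ g) ≫ _ = _
    rw [Category.assoc, hg, ← Category.assoc, Scheme.homOfLE_ι]
  haveI : LocallyQuasiFinite g' := by
    change LocallyQuasiFinite (j ≫ g)
    infer_instance
  refine ⟨e, U', g', ⟨hxD, hxU⟩, hg', inferInstance, ?_⟩
  intro Z hZ
  obtain ⟨ξ', hZeq, hξ'⟩ := exists_generic_of_mem_irreducibleComponents U' Z hZ
  have hcl : closure (g'.base '' Z) = closure ({g' ξ'} : Set _) := by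
    rw [hZeq]
    exact closure_image_closure_singleton _ g'.continuous ξ'
  rw [hcl]
  apply Groth.Agent.H1.GenPts.closure_singleton_mem_irreducibleComponents
  haveI : LocallyOfFiniteType (g' ≫ (𝔸(ULift.{u} (Fin e); Y) ↘ Y)) := by
    rw [hg']; infer_instance
  haveI : LocallyOfFiniteType g' :=
    locallyOfFiniteType_of_comp g' (𝔸(ULift.{u} (Fin e); Y) ↘ Y)
  have hξmax : ∀ z : (U' : Scheme.{u}), z ⤳ ξ' → z = ξ' := by
    intro z hz
    apply U'.ι.isOpenEmbedding.injective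
    exact hξ' _ (hz.map U'.ι.continuous)
  have hξU : U'.ι ξ' ∈ U := ξ'.2.2
  apply isMaxPt_of_fibreDimAt_eq g' (𝔸(ULift.{u} (Fin e); Y) ↘ Y) e
    (Groth.Agent.H1.CMQF.fibreDimAt_affineSpace e Y) ξ' hξmax
  · exact (Groth.Agent.H1.QFDim.locallyQuasiFinite_iff_fibreDimAt g').mp inferInstance ξ'
  · have hcl := closure_image_mem_irreducibleComponents f U (fun Z hZ => by
      obtain ⟨W, hW, -, hWe⟩ := hcomp Z hZ; exact ⟨W, hW, hWe⟩) (U'.ι ξ') hξU hξ'
    have hmax := eq_of_specializes_of_closure_mem_irreducibleComponents _ hcl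
    have heq : (𝔸(ULift.{u} (Fin e); Y) ↘ Y) (g' ξ') = f (U'.ι ξ') := by
      have := congrArg (fun φ : (U' : Scheme.{u}) ⟶ Y => φ ξ') hg'
      exact this
    rw [heq]; exact hmax
  · rw [hg', Groth.Agent.H1.CMQF.fibreDimAt_comp_isOpenImmersion U'.ι f ξ']
    exact hfd _ hξU

/-- **EGA IV 13.3.1, b) ⟹ a)** over a locally Noetherian base. -/
theorem isEquidimAt_of_exists [IsLocallyNoetherian Y] (f : X ⟶ Y) [LocallyOfFiniteType f] (x : X)
    (e : ℕ) (U : X.Opens) (g : (U : Scheme.{u}) ⟶ 𝔸(ULift.{u} (Fin e); Y))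
    (hxU : x ∈ U) (hg : g ≫ (𝔸(ULift.{u} (Fin e); Y) ↘ Y) = U.ι ≫ f)
    (hqf : LocallyQuasiFinite g)
    (hcomp : ∀ Z ∈ irreducibleComponents (↥U : Type u),
      closure (g.base '' Z) ∈ irreducibleComponents (↥𝔸(ULift.{u} (Fin e); Y) : Type u)) :
    EGA43.IsEquidimAt f x := by
  haveI : LocallyOfFiniteType (g ≫ (𝔸(ULift.{u} (Fin e); Y) ↘ Y)) := by
    rw [hg]; infer_instance
  haveI : LocallyOfFiniteType g :=
    locallyOfFiniteType_of_comp g (𝔸(ULift.{u} (Fin e); Y) ↘ Y)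
  haveI : IsLocallyNoetherian X := LocallyOfFiniteType.isLocallyNoetherian f
  have hg0 : ∀ x' : (U : Scheme.{u}), FlatMor.fibreDimAt g x' = 0 :=
    (Groth.Agent.H1.QFDim.locallyQuasiFinite_iff_fibreDimAt g).mp hqf
  have hπe := Groth.Agent.H1.CMQF.fibreDimAt_affineSpace e Y
  have hbase : ∀ x' : (U : Scheme.{u}),
      (𝔸(ULift.{u} (Fin e); Y) ↘ Y) (g x') = f (U.ι x') := by
    intro x'
    have := congrArg (fun φ : (U : Scheme.{u}) ⟶ Y => φ x') hg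
    exact this
  have hmaxA : ∀ ξ' : (U : Scheme.{u}), (∀ z : X, z ⤳ U.ι ξ' → z = U.ι ξ') →
      ∀ z, z ⤳ g ξ' → z = g ξ' := by
    intro ξ' hξ'
    have hZ : closure ({ξ'} : Set U.toScheme) ∈ irreducibleComponents (U.toScheme : Type u) := by
      apply Groth.Agent.H1.GenPts.closure_singleton_mem_irreducibleComponents
      intro z hz
      exact U.ι.isOpenEmbedding.injective (hξ' _ (hz.map U.ι.continuous))
    have h1 := hcomp _ hZ
    rw [closure_image_closure_singleton _ g.continuous ξ'] at h1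
    exact eq_of_specializes_of_closure_mem_irreducibleComponents _ h1
  have hfdmax : ∀ ξ' : (U : Scheme.{u}), (∀ z : X, z ⤳ U.ι ξ' → z = U.ι ξ') →
      FlatMor.fibreDimAt f (U.ι ξ') = e := by
    intro ξ' hξ'
    have hξmax : ∀ z : (U : Scheme.{u}), z ⤳ ξ' → z = ξ' := fun z hz =>
      U.ι.isOpenEmbedding.injective (hξ' _ (hz.map U.ι.continuous))
    have := fibreDimAt_eq_of_isMaxPt g (𝔸(ULift.{u} (Fin e); Y) ↘ Y) e hπe ξ' hξmax (hg0 ξ')
      (hmaxA ξ' hξ')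
    rw [← Groth.Agent.H1.CMQF.fibreDimAt_comp_isOpenImmersion U.ι f ξ', ← hg]
    exact this
  have hle : ∀ x' : (U : Scheme.{u}), FlatMor.fibreDimAt f (U.ι x') ≤ e := by
    intro x'
    rw [← Groth.Agent.H1.CMQF.fibreDimAt_comp_isOpenImmersion U.ι f x', ← hg]
    refine (fibreDimAt_comp g (𝔸(ULift.{u} (Fin e); Y) ↘ Y) x').1.trans ?_
    rw [hg0 x', hπe, zero_add]
  obtain ⟨U₁, hU₁, hxU₁, hU₁U⟩ := exists_isAffineOpen_mem_and_subset (x := x) (U := U) hxU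
  haveI : IsNoetherianRing Γ(X, U₁) := IsLocallyNoetherian.component_noetherian ⟨U₁, hU₁⟩
  obtain ⟨U₀, hxU₀, hU₀U₁, hspec⟩ := exists_open_forall_generic_specializes x U₁ hU₁ hxU₁
    (minimalPrimes.finite_of_isNoetherianRing _)
  refine isEquidimAt_of_generic f x U₀ hxU₀ e ?_ ?_
  · intro x' hx'
    have hx'U : x' ∈ U := hU₁U (hU₀U₁ hx')
    apply le_antisymm (hle ⟨x', hx'U⟩)
    obtain ⟨ξ, hξx', hξ0⟩ := Groth.Agent.H1.GenPts.exists_generization_stalk_dim_eq_zero x'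
    have hξmax : ∀ z : X, z ⤳ ξ → z = ξ := fun z hz =>
      Groth.Agent.H1.DimIneq.eq_of_specializes_of_stalk_dim_eq_zero ξ z hξ0 hz
    have hξU : ξ ∈ U := hξx'.mem_open U.2 hx'U
    calc (e : WithBot ℕ∞) = FlatMor.fibreDimAt f ξ := (hfdmax ⟨ξ, hξU⟩ hξmax).symm
      _ ≤ FlatMor.fibreDimAt f x' := fibreDimAt_le_of_specializes f hξx'
  · intro ξ hξU₀ hξmax
    have hξU : ξ ∈ U := hU₁U (hU₀U₁ hξU₀)
    constructor
    · apply Groth.Agent.H1.GenPts.closure_singleton_mem_irreducibleComponents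
      intro w hw
      have heq := hbase ⟨ξ, hξU⟩
      change (𝔸(ULift.{u} (Fin e); Y) ↘ Y) (g ⟨ξ, hξU⟩) = f ξ at heq
      rw [← heq] at hw ⊢
      haveI := Groth.Agent.H5.AlgSp.flat_affineSpace_over (ULift.{u} (Fin e)) Y
      obtain ⟨a, ha, hπa⟩ := (Flat.generalizingMap (𝔸(ULift.{u} (Fin e); Y) ↘ Y)) hw
      have := hmaxA ⟨ξ, hξU⟩ hξmax a ha
      rw [← hπa, this]
    · exact ((hspec ξ hξU₀ hξmax).map f.continuous).mem_closure

/-- **EGA IV 13.3.1**. -/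
theorem s3386 (f : X ⟶ Y) [LocallyOfFiniteType f] (x : X) :
    (EGA43.IsEquidimAt f x → (∃ (e : ℕ) (U : X.Opens) (g : (U : Scheme.{u}) ⟶ 𝔸(ULift.{u} (Fin e); Y)),
        x ∈ U ∧ g ≫ (𝔸(ULift.{u} (Fin e); Y) ↘ Y) = U.ι ≫ f ∧ LocallyQuasiFinite g ∧
        ∀ Z ∈ irreducibleComponents (↥U : Type u),
          closure (g.base '' Z) ∈ irreducibleComponents (↥𝔸(ULift.{u} (Fin e); Y) : Type u))) ∧
    (IsLocallyNoetherian Y → (∃ (e : ℕ) (U : X.Opens) (g : (U : Scheme.{u}) ⟶ 𝔸(ULift.{u} (Fin e); Y)),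
        x ∈ U ∧ g ≫ (𝔸(ULift.{u} (Fin e); Y) ↘ Y) = U.ι ≫ f ∧ LocallyQuasiFinite g ∧
        ∀ Z ∈ irreducibleComponents (↥U : Type u),
          closure (g.base '' Z) ∈ irreducibleComponents (↥𝔸(ULift.{u} (Fin e); Y) : Type u)) →
      EGA43.IsEquidimAt f x) := by
  refine ⟨exists_of_isEquidimAt f x, ?_⟩
  rintro hY ⟨e, U, g, hxU, hg, hqf, hcomp⟩
  exact isEquidimAt_of_exists f x e U g hxU hg hqf hcomp

end main

end Groth.Agent.H1.EquidimQF
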