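import Mathlib

/-! Composites of regular sequences along surjections; algebra for regular immersions. -/

universe u
set_option linter.style.haveILetI false

namespace Groth.Agent.H1.RegComp

open RingTheory.Sequence

theorem ofList_smul_top {A : Type*} [CommRing A] (rs : List A) :
    (Ideal.ofList rs • (⊤ : Submodule A A)) = Ideal.ofList rs := by
  rw [smul_eq_mul, Ideal.mul_top]

theorem isRegular_iff_ne_top {A : Type*} [CommRing A] (rs : List A) :
    IsRegular A rs ↔ IsWeaklyRegular A rs ∧ Ideal.ofList rs ≠ ⊤ := by
  rw [isRegular_iff, ofList_smul_top]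
  exact and_congr_right fun _ => ⟨fun h h' => h h'.symm, fun h h' => h h'.symm⟩

/-- `φ : A → B` surjective with kernel generated by an `A`-regular sequence `rs`; if the images of
`ts` form a `B`-regular sequence then `rs ++ ts` is `A`-regular and generates the preimage. -/
theorem isRegular_append_of_surjective {A B : Type*} [CommRing A] [CommRing B] (φ : A →+* B)
    (hφ : Function.Surjective φ) (rs ts : List A) (hrs : IsRegular A rs)
    (hker : RingHom.ker φ = Ideal.ofList rs) (hts : IsRegular B (ts.map φ)) :
    IsRegular A (rs ++ ts) ∧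
      Ideal.comap φ (Ideal.ofList (ts.map φ)) = Ideal.ofList (rs ++ ts) := by
  have hcomap : Ideal.comap φ (Ideal.ofList (ts.map φ)) = Ideal.ofList (rs ++ ts) := by
    rw [← Ideal.map_ofList, Ideal.comap_map_of_surjective φ hφ, Ideal.ofList_append, ← hker,
      sup_comm]
    rfl
  refine ⟨(isRegular_iff_ne_top _).mpr ⟨?_, ?_⟩, hcomap⟩
  · letI := φ.toAlgebra
    rw [isWeaklyRegular_append_iff]
    refine ⟨hrs.toIsWeaklyRegular, ?_⟩
    have hk : (Ideal.ofList rs • (⊤ : Submodule A A)) = LinearMap.ker (Algebra.linearMap A B) := by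
      rw [ofList_smul_top, ← hker]
      ext x
      simp [RingHom.mem_ker, RingHom.algebraMap_toAlgebra]
    have e : (A ⧸ (Ideal.ofList rs • ⊤ : Submodule A A)) ≃ₗ[A] B :=
      (Submodule.quotEquivOfEq _ _ hk).trans
        (LinearMap.quotKerEquivOfSurjective (Algebra.linearMap A B) hφ)
    rw [e.isWeaklyRegular_congr, ← isWeaklyRegular_map_algebraMap_iff B B ts]
    exact hts.toIsWeaklyRegular
  · rw [← hcomap]
    intro h
    have h1 : (1 : A) ∈ Ideal.comap φ (Ideal.ofList (ts.map φ)) := h ▸ Submodule.mem_top
    rw [Ideal.mem_comap, map_one] at h1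
    exact ((isRegular_iff_ne_top _).mp hts).2 ((Ideal.eq_top_iff_one _).mpr h1)

/-- localization of a regular sequence, as long as the ideal stays proper. -/
theorem isRegular_of_isLocalization {A : Type*} [CommRing A] (M : Submonoid A) (S : Type*)
    [CommRing S] [Algebra A S] [IsLocalization M S] (rs : List A) (hrs : IsWeaklyRegular A rs)
    (hne : (Ideal.ofList rs).map (algebraMap A S) ≠ ⊤) :
    IsRegular S (rs.map (algebraMap A S)) := by
  rw [isRegular_iff_ne_top, ← Ideal.map_ofList]
  exact ⟨hrs.of_isLocalization S M, hne⟩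

end Groth.Agent.H1.RegComp
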