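import Mathlib
import Groth.Agent.Lib.Helper1.FibInj4

/-!
# Fibrewise injectivity ⇒ injectivity with flat cokernel: at a prime of a finitely presented algebra
-/

set_option autoImplicit false

universe u

open TensorProduct Function

namespace Groth.Agent.H1.FibInj

section fp

variable {A B : Type u} [CommRing A] [CommRing B] [Algebra A B] [Algebra.FinitePresentation A B]
  (q : Ideal B) [q.IsPrime]

set_option maxHeartbeats 1600000 in
/-- **EGA IV 11.3.7 at a prime of a finitely presented algebra.** -/
theorem fibInj_at_prime {M N : Type u}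
    [AddCommGroup M] [Module B M] [Module A M] [IsScalarTower A B M] [Module.Finite B M]
    [AddCommGroup N] [Module B N] [Module A N] [IsScalarTower A B N]
    [Module.FinitePresentation B N] (u : M →ₗ[B] N)
    (hflat : Module.Flat A (LocalizedModule q.primeCompl N))
    (hfib : ∀ x : M, (∃ σ ∈ q.primeCompl, σ • u x ∈
        (q.comap (algebraMap A B)) • (⊤ : Submodule A N)) →
      ∃ τ ∈ q.primeCompl, τ • x ∈ (q.comap (algebraMap A B)) • (⊤ : Submodule A M)) :
    (∀ x : M, u x = 0 → ∃ τ ∈ q.primeCompl, τ • x = 0) ∧
      Module.Flat A (LocalizedModule q.primeCompl (N ⧸ LinearMap.range u)) := by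
  classical
  set p := q.comap (algebraMap A B) with hp
  haveI : p.IsPrime := Ideal.comap_isPrime _ _
  let R := Localization.AtPrime p
  let S := Localization.AtPrime q
  let Mp : Submonoid B := Algebra.algebraMapSubmonoid B p.primeCompl
  have hMp : Mp ≤ q.primeCompl := by
    rintro _ ⟨a, ha, rfl⟩
    exact ha
  let S₀ := Localization Mp
  -- `S₀ → S`
  have hunits : ∀ y : Mp, IsUnit (algebraMap B S y) := fun y =>
    IsLocalization.map_units S (⟨y, hMp y.2⟩ : q.primeCompl)
  let ψ : S₀ →+* S := IsLocalization.lift (M := Mp) hunits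
  letI algS₀S : Algebra S₀ S := ψ.toAlgebra
  haveI towBS₀S : IsScalarTower B S₀ S := IsScalarTower.of_algebraMap_eq fun b =>
    (IsLocalization.lift_eq hunits b).symm
  letI algRS : Algebra R S := ((algebraMap S₀ S).comp (algebraMap R S₀)).toAlgebra
  haveI towRS₀S : IsScalarTower R S₀ S := IsScalarTower.of_algebraMap_eq fun r => rfl
  haveI towARS : IsScalarTower A R S := IsScalarTower.of_algebraMap_eq fun a => by
    change algebraMap A S a = algebraMap S₀ S (algebraMap R S₀ (algebraMap A R a))
    rw [← IsScalarTower.algebraMap_apply A R S₀, IsScalarTower.algebraMap_apply A B S₀,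
      ← IsScalarTower.algebraMap_apply B S₀ S, ← IsScalarTower.algebraMap_apply A B S]
  haveI locRS : IsLocalHom (algebraMap R S) := by
    constructor
    intro r hr
    obtain ⟨a, t, rfl⟩ := IsLocalization.exists_mk'_eq p.primeCompl r
    have h1 : algebraMap R S (IsLocalization.mk' R a t) * algebraMap A S t = algebraMap A S a := by
      rw [IsScalarTower.algebraMap_apply A R S, IsScalarTower.algebraMap_apply A R S, ← map_mul,
        IsLocalization.mk'_spec]
    have h2 : IsUnit (algebraMap A S a) := by
      rw [← h1]
      refine hr.mul ?_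
      rw [IsScalarTower.algebraMap_apply A R S]
      exact (IsLocalization.map_units R t).map _
    rw [IsScalarTower.algebraMap_apply A B S] at h2
    have h3 : algebraMap A B a ∉ q :=
      (IsLocalization.AtPrime.isUnit_to_map_iff S q _).mp h2
    exact (IsLocalization.AtPrime.isUnit_mk'_iff R p a t).mpr h3
  haveI fpRS₀ : Algebra.FinitePresentation R S₀ := by
    rw [← RingHom.finitePresentation_algebraMap]
    have h0 : (algebraMap A B).FinitePresentation :=
      RingHom.finitePresentation_algebraMap.mpr inferInstance
    haveI : IsLocalization (Submonoid.map (algebraMap A B) p.primeCompl) S₀ :=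
      (inferInstance : IsLocalization Mp S₀)
    exact RingHom.finitePresentation_localizationPreserves (algebraMap A B) p.primeCompl R S₀ h0
  haveI locS : IsLocalization (q.primeCompl.map (algebraMap B S₀)) S :=
    IsLocalization.isLocalization_of_submonoid_le S₀ S Mp q.primeCompl hMp
  let T := q.primeCompl
  let Mq := LocalizedModule T M
  let Nq := LocalizedModule T N
  letI modRM : Module R Mq := Module.compHom Mq (algebraMap R S)
  haveI towRSM : IsScalarTower R S Mq := IsScalarTower.of_algebraMap_smul fun _ _ => rfl
  letI modRN : Module R Nq := Module.compHom Nq (algebraMap R S)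
  haveI towRSN : IsScalarTower R S Nq := IsScalarTower.of_algebraMap_smul fun _ _ => rfl
  haveI towARM : IsScalarTower A R Mq := IsScalarTower.of_algebraMap_smul fun a z => by
    change algebraMap R S (algebraMap A R a) • z = a • z
    rw [← IsScalarTower.algebraMap_apply A R S, algebraMap_smul]
  haveI towARN : IsScalarTower A R Nq := IsScalarTower.of_algebraMap_smul fun a z => by
    change algebraMap R S (algebraMap A R a) • z = a • z
    rw [← IsScalarTower.algebraMap_apply A R S, algebraMap_smul]
  haveI flatRN : Module.Flat R Nq := (Module.flat_iff_of_isLocalization R p.primeCompl Nq).mpr hflat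
  let uq : Mq →ₗ[S] Nq := LocalizedModule.map T u
  have hmR : IsLocalRing.maximalIdeal R = p.map (algebraMap A R) :=
    (Localization.AtPrime.map_eq_maximalIdeal).symm
  have hiff : ∀ (F : Type u) [AddCommGroup F] [Module S F] [Module A F] [Module R F]
      [IsScalarTower R S F] [IsScalarTower A R F] (x : F),
      x ∈ (IsLocalRing.maximalIdeal R).map (algebraMap R S) • (⊤ : Submodule S F) ↔
        x ∈ p • (⊤ : Submodule A F) := by
    intro F _ _ _ _ _ _ x
    rw [mem_map_smul_top_iff, hmR, mem_map_smul_top_iff]
  have hmain := fibInj_of_isLocalization (R := R) (S₀ := S₀) (S := S)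
    (q.primeCompl.map (algebraMap B S₀)) uq (by
      intro z hz
      rw [hiff] at hz ⊢
      induction z using LocalizedModule.induction_on with
      | h x σ =>
        have h1 : uq (LocalizedModule.mk x σ) = LocalizedModule.mk (u x) σ :=
          LocalizedModule.map_mk T u x σ
        rw [h1] at hz
        obtain ⟨τ, hτ⟩ := exists_smul_mem_of_mk_mem_smul_top T p _ σ hz
        obtain ⟨τ', hτ', hx⟩ := hfib x ⟨τ, τ.2, hτ⟩
        have h2 : LocalizedModule.mk x σ =
            LocalizedModule.mk (τ' • x) ((⟨τ', hτ'⟩ : T) * σ) :=
          (LocalizedModule.mk_cancel_common_left (⟨τ', hτ'⟩ : T) σ x).symm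
        rw [h2]
        exact mk_mem_smul_top T p _ _ hx)
  constructor
  · intro x hx
    have h1 : uq (LocalizedModule.mk x 1) = 0 := by
      rw [show uq (LocalizedModule.mk x 1) = LocalizedModule.mk (u x) 1 from
        LocalizedModule.map_mk T u x 1, hx, LocalizedModule.zero_mk]
    have h2 := hmain.1 (h1.trans (map_zero uq).symm)
    rw [← LocalizedModule.zero_mk (1 : T), LocalizedModule.mk_eq] at h2
    obtain ⟨υ, hυ⟩ := h2
    rw [one_smul, smul_zero, smul_zero] at hυ
    exact ⟨υ, υ.2, hυ⟩
  · haveI := hmain.2
    let πq : Nq →ₗ[S] LocalizedModule T (N ⧸ LinearMap.range u) :=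
      LocalizedModule.map T (LinearMap.range u).mkQ
    have hπq : Surjective πq := LocalizedModule.map_surjective T _ (Submodule.mkQ_surjective _)
    have hex : Exact uq πq := LocalizedModule.map_exact T _ _ (LinearMap.exact_map_mkQ_range u)
    have hker : LinearMap.ker πq = LinearMap.range uq := (LinearMap.exact_iff.mp hex)
    let e : (Nq ⧸ LinearMap.range uq) ≃ₗ[S] LocalizedModule T (N ⧸ LinearMap.range u) :=
      Submodule.quotEquivOfEq _ _ hker.symm ≪≫ₗ πq.quotKerEquivOfSurjective hπq
    haveI towAR : IsScalarTower A R (Nq ⧸ LinearMap.range uq) :=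
      IsScalarTower.of_algebraMap_smul fun a z => by
        obtain ⟨z, rfl⟩ := Submodule.Quotient.mk_surjective _ z
        rw [← Submodule.Quotient.mk_smul, ← Submodule.Quotient.mk_smul, algebraMap_smul]
    have hfl : Module.Flat A (Nq ⧸ LinearMap.range uq) :=
      (Module.flat_iff_of_isLocalization R p.primeCompl _).mp inferInstance
    exact Module.Flat.of_linearEquiv (e.restrictScalars A).symm

end fp

end Groth.Agent.H1.FibInj
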