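import Mathlib
import Groth.Agent.Lib.Helper1.FibInj5

/-!
# Fibrewise injectivity: the converse, and transport along localizations
-/

set_option autoImplicit false

universe u

open TensorProduct Function

namespace Groth.Agent.H1.FibInj

section AL

variable {A B : Type*} [CommRing A] [CommRing B] [Algebra A B] (T : Submonoid B)
  {M M' N N' : Type*} [AddCommGroup M] [Module B M] [Module A M] [IsScalarTower A B M]
  [AddCommGroup M'] [Module B M'] [Module A M'] [IsScalarTower A B M']
  [AddCommGroup N] [Module B N] [Module A N] [IsScalarTower A B N]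
  [AddCommGroup N'] [Module B N'] [Module A N'] [IsScalarTower A B N']
  (gM : M →ₗ[B] M') [IsLocalizedModule T gM] (gN : N →ₗ[B] N') [IsLocalizedModule T gN]

omit [Module A M] [IsScalarTower A B M] in
include T gM in
/-- elements of `T` act invertibly, compatibly with `I • ⊤` -/
theorem mem_smul_top_of_smul_mem (I : Ideal A) (σ : T) (z : M')
    (h : (σ : B) • z ∈ I • (⊤ : Submodule A M')) : z ∈ I • (⊤ : Submodule A M') := by
  obtain ⟨e, he⟩ := IsLocalizedModule.map_units gM σ
  have h1 := map_mem_smul_top (A := A) (B := B) ((e⁻¹ : (Module.End B M')ˣ) : Module.End B M') I _ h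
  have h2 : ((e⁻¹ : (Module.End B M')ˣ) : Module.End B M') ((σ : B) • z) = z := by
    have : (σ : B) • z = (e : Module.End B M') z := by
      rw [he]
      rfl
    rw [this, ← Module.End.mul_apply, Units.inv_mul, Module.End.one_apply]
  rwa [h2] at h1

include T in
theorem map_mem_smul_top_iff (I : Ideal A) (s : M) :
    gM s ∈ I • (⊤ : Submodule A M') ↔ ∃ τ ∈ T, τ • s ∈ I • (⊤ : Submodule A M) := by
  constructor
  · intro h
    obtain ⟨x, hx, σ, hσ⟩ := exists_smul_eq_of_mem_smul_top T gM I _ h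
    have h0 : gM ((σ : B) • s - x) = 0 := by rw [map_sub, map_smul, hσ, sub_self]
    obtain ⟨τ, hτ⟩ := (IsLocalizedModule.eq_zero_iff T gM).mp h0
    refine ⟨τ * σ, T.mul_mem τ.2 σ.2, ?_⟩
    have h1 : ((τ : B) * σ) • s = (τ : B) • x := by
      have : (τ : B) • ((σ : B) • s - x) = 0 := hτ
      rw [smul_sub, sub_eq_zero] at this
      rw [mul_smul, this]
    rw [h1]
    exact smul_mem_smul_top' I _ _ hx
  · rintro ⟨τ, hτ, h⟩
    refine mem_smul_top_of_smul_mem T gM I ⟨τ, hτ⟩ _ ?_
    change τ • gM s ∈ _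
    rw [← map_smul]
    exact map_mem_smul_top gM I _ h

variable (u : M →ₗ[B] N) (u' : M' →ₗ[B] N') (hcomm : ∀ s, u' (gM s) = gN (u s))

include T gM gN hcomm in
theorem injective_iff_of_isLocalizedModule :
    Injective u' ↔ ∀ s, u s = 0 → ∃ τ ∈ T, τ • s = 0 := by
  constructor
  · intro hinj s hs
    have h0 : gM s = 0 := hinj (by rw [hcomm, hs, map_zero, map_zero])
    obtain ⟨τ, hτ⟩ := (IsLocalizedModule.eq_zero_iff T gM).mp h0
    exact ⟨τ, τ.2, hτ⟩
  · intro h
    rw [injective_iff_map_eq_zero]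
    intro m' hm'
    obtain ⟨⟨s, σ⟩, hs⟩ := IsLocalizedModule.surj T gM m'
    have hs' : (σ : B) • m' = gM s := hs
    have h1 : gN (u s) = 0 := by rw [← hcomm, ← hs', map_smul, hm', smul_zero]
    obtain ⟨τ, hτ⟩ := (IsLocalizedModule.eq_zero_iff T gN).mp h1
    have h2 : u ((τ : B) • s) = 0 := by rw [map_smul]; exact hτ
    obtain ⟨τ', hτ', h3⟩ := h _ h2
    have h4 : gM s = 0 := by
      rw [IsLocalizedModule.eq_zero_iff T gM]
      refine ⟨⟨τ', hτ'⟩ * τ, ?_⟩
      change (τ' * (τ : B)) • s = 0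
      rw [mul_smul]
      exact h3
    rw [h4] at hs'
    obtain ⟨e, he⟩ := IsLocalizedModule.map_units gM σ
    have h5 : (e : Module.End B M') m' = 0 := by
      rw [he]
      exact hs'
    have := congrArg ((e⁻¹ : (Module.End B M')ˣ) : Module.End B M') h5
    rwa [← Module.End.mul_apply, Units.inv_mul, Module.End.one_apply, map_zero] at this

include T gM gN hcomm in
theorem fibre_cond_iff_of_isLocalizedModule (I : Ideal A) :
    (∀ m', u' m' ∈ I • (⊤ : Submodule A N') → m' ∈ I • (⊤ : Submodule A M')) ↔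
      ∀ s, (∃ σ ∈ T, σ • u s ∈ I • (⊤ : Submodule A N)) →
        ∃ τ ∈ T, τ • s ∈ I • (⊤ : Submodule A M) := by
  constructor
  · intro h s hs
    rw [← map_mem_smul_top_iff T gN, ← hcomm] at hs
    exact (map_mem_smul_top_iff T gM I s).mp (h _ hs)
  · intro h m' hm'
    obtain ⟨⟨s, σ⟩, hs⟩ := IsLocalizedModule.surj T gM m'
    have hs' : (σ : B) • m' = gM s := hs
    have h1 : gN (u s) ∈ I • (⊤ : Submodule A N') := by
      rw [← hcomm, ← hs', map_smul]
      exact smul_mem_smul_top' I _ _ hm'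
    have h2 := h s ((map_mem_smul_top_iff T gN I _).mp h1)
    have h3 := (map_mem_smul_top_iff T gM I s).mpr h2
    rw [← hs'] at h3
    exact mem_smul_top_of_smul_mem T gM I σ _ h3

end AL

section conv

variable {A B : Type*} [CommRing A] [CommRing B] [Algebra A B] (T : Submonoid B)
  {M N : Type*} [AddCommGroup M] [Module B M] [Module A M] [IsScalarTower A B M]
  [AddCommGroup N] [Module B N] [Module A N] [IsScalarTower A B N]

/-- the easy direction: injective with flat cokernel (after localization) implies fibrewise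
injective -/
theorem fibre_cond_of_injective_of_flat (u : M →ₗ[B] N) (I : Ideal A)
    (hinj : ∀ x : M, u x = 0 → ∃ τ ∈ T, τ • x = 0)
    (hflat : Module.Flat A (LocalizedModule T (N ⧸ LinearMap.range u))) :
    ∀ x : M, (∃ σ ∈ T, σ • u x ∈ I • (⊤ : Submodule A N)) →
      ∃ τ ∈ T, τ • x ∈ I • (⊤ : Submodule A M) := by
  intro x ⟨σ, hσ, hx⟩
  let uq := LocalizedModule.map T u
  let πq := LocalizedModule.map T (LinearMap.range u).mkQ
  have hπq : Surjective πq := LocalizedModule.map_surjective T _ (Submodule.mkQ_surjective _)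
  have hex : Exact uq πq := LocalizedModule.map_exact T _ _ (LinearMap.exact_map_mkQ_range u)
  have hrange : LinearMap.range (uq.restrictScalars A) = LinearMap.ker (πq.restrictScalars A) := by
    ext z
    rw [LinearMap.mem_range, LinearMap.mem_ker]
    change (∃ y, uq y = z) ↔ πq z = 0
    rw [hex z]
    rfl
  have hz0 : (πq.restrictScalars A) (LocalizedModule.mk (u x) 1) = 0 := by
    change πq (LocalizedModule.mk (u x) 1) = 0
    rw [hex]
    exact ⟨LocalizedModule.mk x 1, LocalizedModule.map_mk T u x 1⟩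
  have hzI : LocalizedModule.mk (u x) (1 : T) ∈ I • (⊤ : Submodule A (LocalizedModule T N)) := by
    have h1 := mk_mem_smul_top T I _ (⟨σ, hσ⟩ : T) hx
    have h2 : LocalizedModule.mk (σ • u x) (⟨σ, hσ⟩ : T) = LocalizedModule.mk (u x) (1 : T) := by
      have := LocalizedModule.mk_cancel_common_left (⟨σ, hσ⟩ : T) (1 : T) (u x)
      rw [mul_one] at this
      exact this
    rwa [h2] at h1
  have h3 := FibreFree.mem_smul_top_ker_of_flat (πq.restrictScalars A) hπq I _ hz0 hzI
  obtain ⟨w, hw, hwz⟩ := exists_of_mem_smul_top_ker (πq.restrictScalars A)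
    (uq.restrictScalars A) hrange I _ hz0 h3
  obtain ⟨x', σ', hx', rfl⟩ := exists_mk_of_mem_smul_top T I w hw
  have h4 : LocalizedModule.mk (u x') σ' = LocalizedModule.mk (u x) (1 : T) := by
    rw [← hwz]
    exact (LocalizedModule.map_mk T u x' σ').symm
  rw [LocalizedModule.mk_eq] at h4
  obtain ⟨υ, hυ⟩ := h4
  rw [one_smul] at hυ
  have h5 : u ((υ : B) • x' - ((υ : B) * σ') • x) = 0 := by
    rw [map_sub, map_smul, map_smul, mul_smul, sub_eq_zero]
    exact hυ
  obtain ⟨τ, hτ, h6⟩ := hinj _ h5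
  refine ⟨τ * ((υ : B) * σ'), T.mul_mem hτ (T.mul_mem υ.2 σ'.2), ?_⟩
  rw [smul_sub, sub_eq_zero] at h6
  rw [mul_smul, ← h6]
  exact smul_mem_smul_top' I _ _ (smul_mem_smul_top' I _ _ hx')

end conv

section iff

variable {A B : Type u} [CommRing A] [CommRing B] [Algebra A B] [Algebra.FinitePresentation A B]
  (q : Ideal B) [q.IsPrime]

/-- **EGA IV 11.3.7 at a prime of a finitely presented algebra**, as an equivalence. -/
theorem fibInj_at_prime_iff {M N : Type u}
    [AddCommGroup M] [Module B M] [Module A M] [IsScalarTower A B M] [Module.Finite B M]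
    [AddCommGroup N] [Module B N] [Module A N] [IsScalarTower A B N]
    [Module.FinitePresentation B N] (u : M →ₗ[B] N)
    (hflat : Module.Flat A (LocalizedModule q.primeCompl N)) :
    ((∀ x : M, u x = 0 → ∃ τ ∈ q.primeCompl, τ • x = 0) ∧
      Module.Flat A (LocalizedModule q.primeCompl (N ⧸ LinearMap.range u))) ↔
    ∀ x : M, (∃ σ ∈ q.primeCompl, σ • u x ∈
        (q.comap (algebraMap A B)) • (⊤ : Submodule A N)) →
      ∃ τ ∈ q.primeCompl, τ • x ∈ (q.comap (algebraMap A B)) • (⊤ : Submodule A M) :=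
  ⟨fun h => fibre_cond_of_injective_of_flat q.primeCompl u _ h.1 h.2,
    fun h => fibInj_at_prime q u hflat h⟩

end iff

end Groth.Agent.H1.FibInj
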