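import Mathlib
import Groth.Agent.Lib.Helper1.FibInj6
import Groth.Agent.Lib.Helper1.FPKer
import Groth.Agent.Lib.Helper1.LimFlat4

/-!
# Openness of the locus where a map is injective with flat cokernel (EGA IV 11.3.7, algebra)
-/

set_option autoImplicit false

universe u

open TensorProduct Function

namespace Groth.Agent.H1.FibInj

section away

variable {A B : Type*} [CommRing A] [CommRing B] [Algebra A B]
  {Q : Type*} [AddCommGroup Q] [Module B Q] [Module A Q] [IsScalarTower A B Q]

/-- flatness at all primes of a principal open gives flatness of the localization away -/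
theorem flat_away_of_forall_flat_prime (g : B)
    (h : ∀ (q' : Ideal B) [q'.IsPrime], g ∉ q' →
      Module.Flat A (LocalizedModule q'.primeCompl Q)) :
    Module.Flat A (LocalizedModule (Submonoid.powers g) Q) := by
  refine Groth.Agent.H1.FlatLocus.flat_of_forall_exists_smul (R := A) (B := B)
    (Submonoid.powers g) (LocalizedModule.mkLinearMap (Submonoid.powers g) Q) fun I x hx => ?_
  let J : Ideal B := LinearMap.ker (LinearMap.toSpanSingleton B (Q ⊗[A] I) x)
  have hJ : ∀ b : B, b ∈ J ↔ b • x = 0 := fun b => by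
    rw [LinearMap.mem_ker, LinearMap.toSpanSingleton_apply]
  by_contra hcon
  have hdisj : Disjoint (J : Set B) (Submonoid.powers g : Set B) := by
    rw [Set.disjoint_left]
    intro b hbJ hbg
    exact hcon ⟨b, hbg, (hJ b).mp hbJ⟩
  obtain ⟨q', hq'prime, hJq', hq'disj⟩ := Ideal.exists_le_prime_disjoint J (Submonoid.powers g) hdisj
  have hgq' : g ∉ q' := fun hg =>
    (Set.disjoint_left.mp hq'disj) hg (Submonoid.mem_powers g)
  haveI := h q' hgq'
  obtain ⟨s, hs, hsx⟩ := Groth.Agent.H1.FlatLocus.exists_smul_eq_zero_of_flat q'.primeCompl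
    (LocalizedModule.mkLinearMap q'.primeCompl Q) I x hx
  exact hs (hJq' ((hJ s).mpr hsx))

end away

section open_

variable {A B : Type u} [CommRing A] [CommRing B] [Algebra A B] [Algebra.FinitePresentation A B]
  {M N : Type u} [AddCommGroup M] [Module B M] [Module A M] [IsScalarTower A B M]
  [Module.Finite B M]
  [AddCommGroup N] [Module B N] [Module A N] [IsScalarTower A B N] [Module.FinitePresentation B N]

omit [Module A M] [IsScalarTower A B M] in
set_option maxHeartbeats 1600000 in
/-- **Openness of the locus where `u` is injective with flat cokernel** -/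
theorem exists_nhd_injective_flat (u : M →ₗ[B] N) (q : Ideal B) [q.IsPrime]
    (hinj : ∀ x : M, u x = 0 → ∃ τ ∈ q.primeCompl, τ • x = 0)
    (hflat : Module.Flat A (LocalizedModule q.primeCompl (N ⧸ LinearMap.range u))) :
    ∃ g : B, g ∉ q ∧ ∀ (q' : Ideal B) [q'.IsPrime], g ∉ q' →
      (∀ x : M, u x = 0 → ∃ τ ∈ q'.primeCompl, τ • x = 0) ∧
      Module.Flat A (LocalizedModule q'.primeCompl (N ⧸ LinearMap.range u)) := by
  classical
  haveI : Module.FinitePresentation B (N ⧸ LinearMap.range u) :=
    Module.finitePresentation_of_surjective (LinearMap.range u).mkQ (Submodule.mkQ_surjective _)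
      (by
        rw [Submodule.ker_mkQ, LinearMap.range_eq_map]
        exact Submodule.FG.map _ Module.Finite.fg_top)
  obtain ⟨g₁, hg₁, hflat₁⟩ := LimFlat.exists_flat_nhd_of_finitePresentation (R := A) (S := B)
    (M := N ⧸ LinearMap.range u) q
  let T := Submonoid.powers g₁
  haveI : Algebra.FinitePresentation B (Localization.Away g₁) :=
    IsLocalization.Away.finitePresentation g₁
  haveI : Algebra.FinitePresentation A (Localization.Away g₁) :=
    Algebra.FinitePresentation.trans A B (Localization.Away g₁)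
  haveI : Module.Flat A (LocalizedModule T (N ⧸ LinearMap.range u)) :=
    flat_away_of_forall_flat_prime g₁ hflat₁
  let u₁ : LocalizedModule T M →ₗ[Localization.Away g₁] LocalizedModule T N :=
    LocalizedModule.map T u
  let p₁ : LocalizedModule T N →ₗ[Localization.Away g₁]
      LocalizedModule T (N ⧸ LinearMap.range u) := LocalizedModule.map T (LinearMap.range u).mkQ
  have hp₁ : Surjective p₁ := LocalizedModule.map_surjective T _ (Submodule.mkQ_surjective _)
  have hex : Exact u₁ p₁ := LocalizedModule.map_exact T _ _ (LinearMap.exact_map_mkQ_range u)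
  haveI := Groth.Agent.H1.FPKer.finitePresentation_ker (A := A) (B := Localization.Away g₁) p₁ hp₁
  let v : LocalizedModule T M →ₗ[Localization.Away g₁] LinearMap.ker p₁ :=
    u₁.codRestrict (LinearMap.ker p₁) (fun z => hex.apply_apply_eq_zero z)
  have hv : Surjective v := by
    rintro ⟨z, hz⟩
    obtain ⟨y, hy⟩ := (hex z).mp hz
    exact ⟨y, Subtype.ext hy⟩
  have hkerfg : (LinearMap.ker v).FG := Module.FinitePresentation.fg_ker v hv
  have hkerv : LinearMap.ker v = LinearMap.ker u₁ := LinearMap.ker_codRestrict _ _ _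
  obtain ⟨r, κ, hκ⟩ := Submodule.fg_iff_exists_fin_generating_family.mp hkerfg
  have hκmem : ∀ i, u₁ (κ i) = 0 := fun i => by
    have : κ i ∈ LinearMap.ker v := hκ ▸ Submodule.subset_span ⟨i, rfl⟩
    rw [hkerv] at this
    exact this
  -- each generator is torsion for an element outside `q`
  have key : ∀ i, ∃ τ : B, τ ∈ q.primeCompl ∧ τ • κ i = 0 := by
    intro i
    have h0 := hκmem i
    generalize κ i = z at h0
    induction z using LocalizedModule.induction_on with
    | h k σ =>
      have h1 : u₁ (LocalizedModule.mk k σ) = LocalizedModule.mk (u k) σ :=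
        LocalizedModule.map_mk T u k σ
      rw [h1, ← LocalizedModule.zero_mk σ, LocalizedModule.mk_eq] at h0
      obtain ⟨t, ht⟩ := h0
      rw [smul_zero, smul_zero] at ht
      have ht' : (t : B) • (σ : B) • u k = 0 := ht
      have h2 : u (((t : B) * (σ : B)) • k) = 0 := by
        rw [map_smul, mul_smul]
        exact ht'
      obtain ⟨τ, hτ, h3⟩ := hinj _ h2
      refine ⟨τ, hτ, ?_⟩
      rw [LocalizedModule.smul'_mk, ← LocalizedModule.zero_mk σ, LocalizedModule.mk_eq]
      refine ⟨t, ?_⟩
      rw [smul_zero, smul_zero]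
      change (t : B) • (σ : B) • τ • k = 0
      rw [smul_smul, smul_smul, mul_comm, ← smul_smul]
      exact h3
  choose τ hτ hτκ using key
  let g₂ : B := ∏ i, τ i
  have hg₂ : g₂ ∈ q.primeCompl := q.primeCompl.prod_mem fun i _ => hτ i
  have hg₂κ : ∀ i, g₂ • κ i = 0 := by
    intro i
    have : g₂ = (∏ j ∈ Finset.univ.erase i, τ j) * τ i := by
      rw [mul_comm]
      exact (Finset.mul_prod_erase _ _ (Finset.mem_univ i)).symm
    rw [this, mul_smul, hτκ, smul_zero]
  -- `g₂` kills the kernel of `u₁`
  have hg₂ker : ∀ z ∈ LinearMap.ker u₁, g₂ • z = 0 := by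
    intro z hz
    rw [← hkerv, ← hκ] at hz
    induction hz using Submodule.span_induction with
    | mem z hz =>
      obtain ⟨i, rfl⟩ := hz
      exact hg₂κ i
    | zero => exact smul_zero _
    | add y z _ _ hy hz => rw [smul_add, hy, hz, add_zero]
    | smul b z _ hz => rw [smul_comm, hz, smul_zero]
  refine ⟨g₁ * g₂, ?_, ?_⟩
  · exact (q.primeCompl.mul_mem hg₁ hg₂ : g₁ * g₂ ∈ q.primeCompl)
  · intro q' _ hgq'
    have hg₁q' : g₁ ∉ q' := fun h => hgq' (Ideal.mul_mem_right _ _ h)
    have hg₂q' : g₂ ∉ q' := fun h => hgq' (Ideal.mul_mem_left _ _ h)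
    refine ⟨?_, hflat₁ q' hg₁q'⟩
    intro x hx
    have h1 : LocalizedModule.mk x (1 : T) ∈ LinearMap.ker u₁ := by
      rw [LinearMap.mem_ker]
      change LocalizedModule.map T u (LocalizedModule.mk x 1) = 0
      rw [LocalizedModule.map_mk, hx, LocalizedModule.zero_mk]
    have h2 := hg₂ker _ h1
    rw [LocalizedModule.smul'_mk, ← LocalizedModule.zero_mk (1 : T), LocalizedModule.mk_eq] at h2
    obtain ⟨t, ht⟩ := h2
    rw [one_smul, smul_zero, smul_zero] at ht
    have ht' : (t : B) • g₂ • x = 0 := ht
    refine ⟨(t : B) * g₂, ?_, ?_⟩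
    · refine q'.primeCompl.mul_mem ?_ hg₂q'
      obtain ⟨n, hn⟩ := t.2
      rw [← hn]
      exact q'.primeCompl.pow_mem hg₁q' n
    · rw [mul_smul]
      exact ht'

end open_

end Groth.Agent.H1.FibInj
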