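import Mathlib
import Groth.Agent.Lib.Helper1.FibInj7

/-!
# Regular sequences on fibres: elementwise criteria and residue-field bridges
-/

set_option autoImplicit false

universe u

open TensorProduct Function

namespace Groth.Agent.H1.RegFib


section crit

variable {B : Type*} [CommRing B] (T : Submonoid B) (X : Type*) [AddCommGroup X] [Module B X]

/-- elementwise criterion for regularity of `r` on `X_T / I X_T` -/
theorem isSMulRegular_quot_iff (I : Ideal B) (r : B) :
    IsSMulRegular (LocalizedModule T X ⧸ (I • ⊤ : Submodule B (LocalizedModule T X))) r ↔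
      ∀ x : X, (∃ σ ∈ T, σ • r • x ∈ I • (⊤ : Submodule B X)) →
        ∃ τ ∈ T, τ • x ∈ I • (⊤ : Submodule B X) := by
  rw [isSMulRegular_quotient_iff_mem_of_smul_mem]
  constructor
  · rintro h x ⟨σ, hσ, hx⟩
    have h1 : r • LocalizedModule.mk x (1 : T) ∈
        (I • ⊤ : Submodule B (LocalizedModule T X)) := by
      have h2 := FibInj.mk_mem_smul_top T I (σ • r • x) ⟨σ, hσ⟩ hx
      have h3 : LocalizedModule.mk (σ • r • x) (⟨σ, hσ⟩ : T) =
          r • LocalizedModule.mk x (1 : T) := by
        rw [LocalizedModule.smul'_mk, LocalizedModule.mk_eq]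
        refine ⟨1, ?_⟩
        simp only [one_smul, Submonoid.smul_def]
      rwa [h3] at h2
    obtain ⟨τ, hτ⟩ := FibInj.exists_smul_mem_of_mk_mem_smul_top T I x 1 (h _ h1)
    exact ⟨τ, τ.2, hτ⟩
  · intro h z hz
    induction z using LocalizedModule.induction_on with
    | h x s =>
      rw [LocalizedModule.smul'_mk] at hz
      obtain ⟨τ, hτ⟩ := FibInj.exists_smul_mem_of_mk_mem_smul_top T I (r • x) s hz
      obtain ⟨τ', hτ', hx⟩ := h x ⟨τ, τ.2, hτ⟩
      have h2 := FibInj.mk_mem_smul_top T I (τ' • x) (⟨τ', hτ'⟩ * s) hx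
      have h3 : LocalizedModule.mk (τ' • x) ((⟨τ', hτ'⟩ : T) * s) = LocalizedModule.mk x s := by
        rw [LocalizedModule.mk_eq]
        refine ⟨1, ?_⟩
        simp only [one_smul, Submonoid.smul_def, mul_smul]
        rw [smul_comm]
      rwa [h3] at h2

theorem isWeaklyRegular_iff (g : List B) :
    RingTheory.Sequence.IsWeaklyRegular (LocalizedModule T X) g ↔
      ∀ (i : ℕ) (h : i < g.length) (x : X),
        (∃ σ ∈ T, σ • g[i] • x ∈ Ideal.ofList (g.take i) • (⊤ : Submodule B X)) →
        ∃ τ ∈ T, τ • x ∈ Ideal.ofList (g.take i) • (⊤ : Submodule B X) := by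
  rw [RingTheory.Sequence.isWeaklyRegular_iff]
  refine forall_congr' fun i => forall_congr' fun h => ?_
  exact isSMulRegular_quot_iff T X _ _

end crit



section resfield

variable {A : Type*} [CommRing A] (p : Ideal A) [p.IsPrime] (Y : Type*) [AddCommGroup Y] [Module A Y]

/-- `Y_p / m Y_p` -/
abbrev Qf : Type _ := LocalizedModule p.primeCompl Y ⧸
  (IsLocalRing.maximalIdeal (Localization.AtPrime p) • ⊤ :
    Submodule (Localization.AtPrime p) (LocalizedModule p.primeCompl Y))

noncomputable instance : Module p.ResidueField (Qf p Y) :=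
  inferInstanceAs (Module (Localization.AtPrime p ⧸
    IsLocalRing.maximalIdeal (Localization.AtPrime p)) (Qf p Y))

theorem residue_smul_mk (r : Localization.AtPrime p) (v : LocalizedModule p.primeCompl Y) :
    (IsLocalRing.residue (Localization.AtPrime p) r : p.ResidueField) •
      (Submodule.Quotient.mk v : Qf p Y) = Submodule.Quotient.mk (r • v) := rfl

instance : IsScalarTower A p.ResidueField (Qf p Y) := by
  constructor
  intro a z w
  obtain ⟨r, rfl⟩ := IsLocalRing.residue_surjective z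
  obtain ⟨v, rfl⟩ := Submodule.Quotient.mk_surjective _ w
  have h1 : a • (IsLocalRing.residue (Localization.AtPrime p) r : p.ResidueField) =
      IsLocalRing.residue (Localization.AtPrime p) (a • r) := by
    rw [Algebra.smul_def, Algebra.smul_def, map_mul]
    rfl
  rw [h1, residue_smul_mk, residue_smul_mk, smul_assoc, Submodule.Quotient.mk_smul]

/-- the comparison map `Y ⊗ κ(p) → Y_p / m Y_p` -/
noncomputable def toQf : Y ⊗[A] p.ResidueField →ₗ[A] Qf p Y :=
  TensorProduct.lift (LinearMap.mk₂ A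
    (fun y z => z • (Submodule.Quotient.mk (LocalizedModule.mk y 1) : Qf p Y))
    (by
      intro y₁ y₂ z
      rw [← smul_add, ← Submodule.Quotient.mk_add, LocalizedModule.mk_add_mk]
      congr 2
      rw [LocalizedModule.mk_eq]
      refine ⟨1, ?_⟩
      simp)
    (by
      intro a y z
      rw [smul_comm]
      congr 1
      rw [← Submodule.Quotient.mk_smul, LocalizedModule.smul'_mk])
    (by
      intro y z₁ z₂
      rw [add_smul])
    (by
      intro a y z
      rw [smul_assoc]))

theorem toQf_tmul_one (y : Y) :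
    toQf p Y (y ⊗ₜ[A] (1 : p.ResidueField)) = Submodule.Quotient.mk (LocalizedModule.mk y 1) := by
  simp [toQf]

/-- the residue-field fibre detects membership in `p Y` up to a unit at `p` -/
theorem exists_smul_mem_of_tmul_one_eq_zero (y : Y)
    (h : y ⊗ₜ[A] (1 : p.ResidueField) = 0) :
    ∃ a ∈ p.primeCompl, a • y ∈ p • (⊤ : Submodule A Y) := by
  have h1 := toQf_tmul_one p Y y
  rw [h, map_zero, eq_comm, Submodule.Quotient.mk_eq_zero] at h1
  rw [← Localization.AtPrime.map_eq_maximalIdeal] at h1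
  have h2 := FibreFree.mem_smul_top_of_mem_map_smul_top p _ h1
  obtain ⟨τ, hτ⟩ := FibInj.exists_smul_mem_of_mk_mem_smul_top p.primeCompl p y 1 h2
  exact ⟨τ, τ.2, hτ⟩

end resfield



section bridge

variable {A B : Type*} [CommRing A] [CommRing B] [Algebra A B] (M : Type*) [AddCommGroup M]
  [Module B M] [Module A M] [IsScalarTower A B M] (p : Ideal A) [p.IsPrime] (I : Ideal B)

/-- `m ↦ m ⊗ 1`, `B`-linear -/
noncomputable def mk1 (B : Type*) [CommRing B] [Algebra A B] [Module B M] [IsScalarTower A B M] :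
    M →ₗ[B] M ⊗[A] p.ResidueField where
  toFun m := m ⊗ₜ 1
  map_add' x y := add_tmul x y 1
  map_smul' _ _ := rfl

theorem mk1_apply (m : M) : mk1 M p B m = m ⊗ₜ 1 := rfl

/-- `M/IM → X/IX`, where `X = M ⊗ κ(p)` -/
noncomputable def psi : (M ⧸ (I • ⊤ : Submodule B M)) →ₗ[B]
    (M ⊗[A] p.ResidueField) ⧸ (I • ⊤ : Submodule B (M ⊗[A] p.ResidueField)) :=
  (I • ⊤ : Submodule B M).liftQ ((I • ⊤ : Submodule B (M ⊗[A] p.ResidueField)).mkQ ∘ₗ mk1 M p B) (by
    intro x hx
    rw [LinearMap.mem_ker]
    refine Submodule.smul_induction_on hx ?_ ?_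
    · intro b hb m _
      rw [map_smul, LinearMap.comp_apply, ← map_smul, Submodule.mkQ_apply,
        Submodule.Quotient.mk_eq_zero]
      exact Submodule.smul_mem_smul hb Submodule.mem_top
    · intro x y hx hy
      rw [map_add, hx, hy, add_zero])

theorem psi_mk (m : M) : psi M p I (Submodule.Quotient.mk m) =
    Submodule.Quotient.mk (m ⊗ₜ[A] (1 : p.ResidueField)) := rfl

/-- (c-a') -/
theorem tmul_one_mem_of_mk_mem (m : M)
    (h : (Submodule.Quotient.mk m : M ⧸ (I • ⊤ : Submodule B M)) ∈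
      p • (⊤ : Submodule A (M ⧸ (I • ⊤ : Submodule B M)))) :
    m ⊗ₜ[A] (1 : p.ResidueField) ∈ (I • ⊤ : Submodule B (M ⊗[A] p.ResidueField)) := by
  have key : ∀ x : M ⧸ (I • ⊤ : Submodule B M),
      x ∈ p • (⊤ : Submodule A (M ⧸ (I • ⊤ : Submodule B M))) → psi M p I x = 0 := by
    intro x hx
    refine Submodule.smul_induction_on hx ?_ ?_
    · intro a ha x' _
      obtain ⟨m', rfl⟩ := Submodule.Quotient.mk_surjective _ x'
      rw [← Submodule.Quotient.mk_smul, psi_mk, TensorProduct.smul_tmul]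
      have h0 : a • (1 : p.ResidueField) = 0 := by
        rw [Algebra.smul_def, mul_one]
        exact Ideal.algebraMap_residueField_eq_zero.mpr ha
      rw [h0, tmul_zero, Submodule.Quotient.mk_zero]
    · intro x y hx hy
      rw [map_add, hx, hy, add_zero]
  have h1 := key _ h
  rwa [psi_mk, Submodule.Quotient.mk_eq_zero] at h1

/-- `M ⊗ κ → (M/IM) ⊗ κ` -/
noncomputable def phi : M ⊗[A] p.ResidueField →ₗ[B]
    (M ⧸ (I • ⊤ : Submodule B M)) ⊗[A] p.ResidueField :=
  TensorProduct.AlgebraTensorModule.rTensor A p.ResidueField (I • ⊤ : Submodule B M).mkQ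

theorem phi_tmul (m : M) (z : p.ResidueField) :
    phi M p I (m ⊗ₜ z) = (Submodule.Quotient.mk m : M ⧸ (I • ⊤ : Submodule B M)) ⊗ₜ z := rfl

theorem phi_eq_zero (ξ : M ⊗[A] p.ResidueField)
    (h : ξ ∈ (I • ⊤ : Submodule B (M ⊗[A] p.ResidueField))) : phi M p I ξ = 0 := by
  have kill : ∀ b ∈ I, ∀ ζ : (M ⧸ (I • ⊤ : Submodule B M)) ⊗[A] p.ResidueField, b • ζ = 0 := by
    intro b hb ζ
    induction ζ using TensorProduct.induction_on with
    | zero => rw [smul_zero]
    | add x y hx hy => rw [smul_add, hx, hy, add_zero]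
    | tmul x z =>
      obtain ⟨m, rfl⟩ := Submodule.Quotient.mk_surjective _ x
      rw [TensorProduct.smul_tmul', ← Submodule.Quotient.mk_smul,
        (Submodule.Quotient.mk_eq_zero _).mpr (Submodule.smul_mem_smul hb Submodule.mem_top),
        zero_tmul]
  refine Submodule.smul_induction_on h ?_ ?_
  · intro b hb ξ' _
    rw [map_smul, kill b hb]
  · intro x y hx hy
    rw [map_add, hx, hy, add_zero]

/-- (c-b') -/
theorem exists_smul_mk_mem_of_tmul_one_mem (m : M)
    (h : m ⊗ₜ[A] (1 : p.ResidueField) ∈ (I • ⊤ : Submodule B (M ⊗[A] p.ResidueField))) :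
    ∃ a ∈ p.primeCompl, a • (Submodule.Quotient.mk m : M ⧸ (I • ⊤ : Submodule B M)) ∈
      p • (⊤ : Submodule A (M ⧸ (I • ⊤ : Submodule B M))) := by
  have h1 := phi_eq_zero M p I _ h
  rw [phi_tmul] at h1
  exact exists_smul_mem_of_tmul_one_eq_zero p _ _ h1

end bridge

end Groth.Agent.H1.RegFib
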