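import Mathlib
import Groth.Agent.Lib.Helper1.RegFib1

/-!
# Regular sequences on fibres: the inductive step (EGA IV 11.3.8) and nontriviality
-/

set_option autoImplicit false

universe u

open TensorProduct Function

namespace Groth.Agent.H1.RegFib


section step

variable {A B : Type u} [CommRing A] [CommRing B] [Algebra A B] [Algebra.FinitePresentation A B]
  (M : Type u) [AddCommGroup M] [Module B M] [Module A M] [IsScalarTower A B M]
  [Module.FinitePresentation B M] (q : Ideal B) [q.IsPrime]

theorem finitePresentation_quot_smul_top (I : Ideal B) (hI : I.FG) :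
    Module.FinitePresentation B (M ⧸ (I • ⊤ : Submodule B M)) := by
  refine Module.finitePresentation_of_surjective (I • ⊤ : Submodule B M).mkQ
    (Submodule.mkQ_surjective _) ?_
  rw [Submodule.ker_mkQ]
  exact Submodule.FG.smul hI Module.Finite.fg_top

set_option maxHeartbeats 800000 in
theorem step (I : Ideal B) (hI : I.FG) (r : B)
    (hflat : Module.Flat A (LocalizedModule q.primeCompl (M ⧸ (I • ⊤ : Submodule B M))))
    (hfib : ∀ ξ : M ⊗[A] (q.comap (algebraMap A B)).ResidueField,
      (∃ σ ∈ q.primeCompl, σ • r • ξ ∈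
        (I • ⊤ : Submodule B (M ⊗[A] (q.comap (algebraMap A B)).ResidueField))) →
      ∃ τ ∈ q.primeCompl, τ • ξ ∈
        (I • ⊤ : Submodule B (M ⊗[A] (q.comap (algebraMap A B)).ResidueField))) :
    (∀ m : M, (∃ σ ∈ q.primeCompl, σ • r • m ∈ (I • ⊤ : Submodule B M)) →
      ∃ τ ∈ q.primeCompl, τ • m ∈ (I • ⊤ : Submodule B M)) ∧
    Module.Flat A (LocalizedModule q.primeCompl
      (M ⧸ ((I ⊔ Ideal.span {r}) • ⊤ : Submodule B M))) := by
  set p := q.comap (algebraMap A B) with hp
  haveI : p.IsPrime := Ideal.comap_isPrime _ _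
  haveI := finitePresentation_quot_smul_top M I hI
  let M' := M ⧸ (I • ⊤ : Submodule B M)
  let u : M' →ₗ[B] M' := LinearMap.lsmul B M' r
  have hfib' : ∀ x : M', (∃ σ ∈ q.primeCompl, σ • u x ∈ p • (⊤ : Submodule A M')) →
      ∃ τ ∈ q.primeCompl, τ • x ∈ p • (⊤ : Submodule A M') := by
    rintro x ⟨σ, hσ, hx⟩
    obtain ⟨m, rfl⟩ := Submodule.Quotient.mk_surjective _ x
    have h1 : (Submodule.Quotient.mk (σ • r • m) : M') ∈ p • (⊤ : Submodule A M') := hx
    have h2 := tmul_one_mem_of_mk_mem M p I _ h1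
    have h3 : (σ • r • m) ⊗ₜ[A] (1 : p.ResidueField) = σ • r • (m ⊗ₜ[A] (1 : p.ResidueField)) := by
      rw [TensorProduct.smul_tmul', TensorProduct.smul_tmul']
    rw [h3] at h2
    obtain ⟨τ, hτ, h4⟩ := hfib _ ⟨σ, hσ, h2⟩
    rw [TensorProduct.smul_tmul'] at h4
    obtain ⟨a, ha, h5⟩ := exists_smul_mk_mem_of_tmul_one_mem M p I _ h4
    refine ⟨algebraMap A B a * τ, q.primeCompl.mul_mem ha hτ, ?_⟩
    rw [mul_smul, algebraMap_smul]
    exact h5
  obtain ⟨h1, h2⟩ := FibInj.fibInj_at_prime q u hflat hfib'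
  refine ⟨?_, ?_⟩
  · rintro m ⟨σ, hσ, hm⟩
    have h3 : u (Submodule.Quotient.mk (σ • m)) = 0 := by
      change r • (Submodule.Quotient.mk (σ • m) : M') = 0
      rw [← Submodule.Quotient.mk_smul, Submodule.Quotient.mk_eq_zero, smul_comm]
      exact hm
    obtain ⟨τ, hτ, h4⟩ := h1 _ h3
    refine ⟨τ * σ, q.primeCompl.mul_mem hτ hσ, ?_⟩
    rw [← Submodule.Quotient.mk_smul, Submodule.Quotient.mk_eq_zero] at h4
    rw [mul_smul]
    exact h4
  · have hr : LinearMap.range u =
        ((Ideal.span {r} • ⊤ : Submodule B M)).map (I • ⊤ : Submodule B M).mkQ := by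
      rw [Submodule.map_smul'', Submodule.map_top, Submodule.range_mkQ]
      ext x
      rw [Submodule.ideal_span_singleton_smul, Submodule.mem_smul_pointwise_iff_exists]
      constructor
      · rintro ⟨y, rfl⟩
        exact ⟨y, Submodule.mem_top, rfl⟩
      · rintro ⟨y, _, rfl⟩
        exact ⟨y, rfl⟩
    let e : (M' ⧸ LinearMap.range u) ≃ₗ[B] (M ⧸ ((I ⊔ Ideal.span {r}) • ⊤ : Submodule B M)) :=
      Submodule.quotEquivOfEq _ _ hr ≪≫ₗ
        Submodule.quotientQuotientEquivQuotientSup (I • ⊤ : Submodule B M)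
          (Ideal.span {r} • ⊤ : Submodule B M) ≪≫ₗ
        Submodule.quotEquivOfEq _ _ (by rw [Submodule.sup_smul])
    exact LimFlat.flat_localizedModule_congr q.primeCompl e

end step



section nontriv

variable {A B : Type*} [CommRing A] [CommRing B] [Algebra A B]
  (M : Type*) [AddCommGroup M] [Module B M] [Module A M] [IsScalarTower A B M]
  (q : Ideal B) [q.IsPrime]

theorem nontrivial_of_nontrivial_fibre (K : Type*) [AddCommGroup K] [Module A K]
    (h : Nontrivial (LocalizedModule q.primeCompl (M ⊗[A] K))) :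
    Nontrivial (LocalizedModule q.primeCompl M) := by
  by_contra hnt
  rw [not_nontrivial_iff_subsingleton] at hnt
  apply not_subsingleton (LocalizedModule q.primeCompl (M ⊗[A] K))
  refine ⟨fun x y => ?_⟩
  suffices h0 : ∀ z : LocalizedModule q.primeCompl (M ⊗[A] K), z = 0 by rw [h0 x, h0 y]
  intro z
  induction z using LocalizedModule.induction_on with
  | h ξ s =>
    induction ξ using TensorProduct.induction_on with
    | zero => exact LocalizedModule.zero_mk s
    | add a b ha hb =>
      have : LocalizedModule.mk (a + b) s = LocalizedModule.mk a s + LocalizedModule.mk b s := by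
        rw [LocalizedModule.mk_add_mk, LocalizedModule.mk_eq]
        refine ⟨1, ?_⟩
        simp only [one_smul, smul_add, Submonoid.smul_def, mul_smul]
      rw [this, ha, hb, add_zero]
    | tmul m k =>
      have h1 : LocalizedModule.mk m (1 : q.primeCompl) = 0 := Subsingleton.elim _ _
      rw [← LocalizedModule.zero_mk 1, LocalizedModule.mk_eq] at h1
      obtain ⟨σ, hσ⟩ := h1
      rw [← LocalizedModule.zero_mk s, LocalizedModule.mk_eq]
      refine ⟨σ, ?_⟩
      simp only [smul_zero, one_smul] at hσ ⊢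
      rw [smul_comm, Submonoid.smul_def σ, TensorProduct.smul_tmul', ← Submonoid.smul_def, hσ,
        zero_tmul, smul_zero]

theorem top_ne_ofList_smul_top [Module.Finite B M] (g : List B) (hg : ∀ b ∈ g, b ∈ q)
    [Nontrivial (LocalizedModule q.primeCompl M)] :
    (⊤ : Submodule B (LocalizedModule q.primeCompl M)) ≠ Ideal.ofList g • ⊤ := by
  intro htop
  let S := Localization.AtPrime q
  let Mq := LocalizedModule q.primeCompl M
  haveI : Module.Finite S Mq :=
    Module.Finite.of_isLocalizedModule q.primeCompl (LocalizedModule.mkLinearMap q.primeCompl M)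
  have hle : (⊤ : Submodule S Mq) ≤ IsLocalRing.maximalIdeal S • ⊤ := by
    intro x _
    have hx : x ∈ (Ideal.ofList g • ⊤ : Submodule B Mq) := htop ▸ Submodule.mem_top
    refine Submodule.smul_induction_on hx ?_ ?_
    · intro b hb y _
      rw [← algebraMap_smul S b y]
      refine Submodule.smul_mem_smul ?_ Submodule.mem_top
      have hbq : b ∈ q := (Ideal.span_le.mpr fun b hb => hg b hb) hb
      exact (IsLocalization.AtPrime.to_map_mem_maximal_iff S q b).mpr hbq
    · intro x y hx hy
      exact Submodule.add_mem _ hx hy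
  have := Submodule.eq_bot_of_le_smul_of_le_jacobson_bot (IsLocalRing.maximalIdeal S)
    (⊤ : Submodule S Mq) Module.Finite.fg_top hle (IsLocalRing.maximalIdeal_le_jacobson ⊥)
  exact top_ne_bot this

end nontriv

end Groth.Agent.H1.RegFib
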