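import Mathlib
import Groth.Agent.Lib.Helper1.RegFib2

/-!
# Weak regularity on fibres: elementwise form, equivalence with injectivity + flat quotients,
openness (EGA IV 11.3.8)
-/

set_option autoImplicit false

universe u

open TensorProduct Function

namespace Groth.Agent.H1.RegFib


section quot

variable {A B : Type*} [CommRing A] [CommRing B] [Algebra A B]
  (M : Type*) [AddCommGroup M] [Module B M] [Module A M] [IsScalarTower A B M]

/-- membership of a class in `p (M/N)` -/
theorem mk_mem_smul_top_iff (p : Ideal A) (N : Submodule B M) (m : M) :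
    (Submodule.Quotient.mk m : M ⧸ N) ∈ p • (⊤ : Submodule A (M ⧸ N)) ↔
      m ∈ p.map (algebraMap A B) • (⊤ : Submodule B M) ⊔ N := by
  rw [← FibInj.mem_map_smul_top_iff (A := A) (B := B)]
  have h1 : (p.map (algebraMap A B) • (⊤ : Submodule B (M ⧸ N))) =
      (p.map (algebraMap A B) • (⊤ : Submodule B M)).map N.mkQ := by
    rw [Submodule.map_smul'', Submodule.map_top, Submodule.range_mkQ]
  rw [h1, ← Submodule.mkQ_apply, ← Submodule.mem_comap, Submodule.comap_map_mkQ, sup_comm]

end quot

section wr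

variable {O : Type*} [CommRing O] (N : Type*) [AddCommGroup N] [Module O N]

/-- weak regularity on `N / J N`, elementwise -/
theorem isWeaklyRegular_quot_iff (J : Ideal O) (gs : List O) :
    RingTheory.Sequence.IsWeaklyRegular (N ⧸ (J • ⊤ : Submodule O N)) gs ↔
      ∀ (i : ℕ) (h : i < gs.length) (z : N),
        gs[i] • z ∈ (J ⊔ Ideal.ofList (gs.take i)) • (⊤ : Submodule O N) →
          z ∈ (J ⊔ Ideal.ofList (gs.take i)) • (⊤ : Submodule O N) := by
  rw [RingTheory.Sequence.isWeaklyRegular_iff]
  refine forall_congr' fun i => forall_congr' fun h => ?_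
  rw [isSMulRegular_quotient_iff_mem_of_smul_mem]
  have key : ∀ z : N, (Submodule.Quotient.mk z : N ⧸ (J • ⊤ : Submodule O N)) ∈
      (Ideal.ofList (gs.take i) • ⊤ : Submodule O (N ⧸ (J • ⊤ : Submodule O N))) ↔
      z ∈ (J ⊔ Ideal.ofList (gs.take i)) • (⊤ : Submodule O N) := by
    intro z
    have h1 : (Ideal.ofList (gs.take i) • ⊤ : Submodule O (N ⧸ (J • ⊤ : Submodule O N))) =
        (Ideal.ofList (gs.take i) • (⊤ : Submodule O N)).map (J • ⊤ : Submodule O N).mkQ := by
      rw [Submodule.map_smul'', Submodule.map_top, Submodule.range_mkQ]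
    rw [h1, ← Submodule.mkQ_apply, ← Submodule.mem_comap, Submodule.comap_map_mkQ,
      Submodule.sup_smul]
  constructor
  · intro H z hz
    rw [← key] at hz ⊢
    exact H _ (by rw [← Submodule.Quotient.mk_smul]; exact hz)
  · intro H y hy
    obtain ⟨z, rfl⟩ := Submodule.Quotient.mk_surjective _ y
    rw [← Submodule.Quotient.mk_smul] at hy
    rw [key] at hy ⊢
    exact H z hy

end wr



section equiv

variable {B : Type*} [CommRing B] (M : Type*) [AddCommGroup M] [Module B M]

/-- `(M/IM)/r(M/IM) ≃ M/(I + (r))M` -/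
noncomputable def quotRangeEquiv (I : Ideal B) (r : B) :
    ((M ⧸ (I • ⊤ : Submodule B M)) ⧸
      LinearMap.range (LinearMap.lsmul B (M ⧸ (I • ⊤ : Submodule B M)) r)) ≃ₗ[B]
    (M ⧸ ((I ⊔ Ideal.span {r}) • ⊤ : Submodule B M)) :=
  Submodule.quotEquivOfEq _ _ (by
      rw [Submodule.map_smul'', Submodule.map_top, Submodule.range_mkQ]
      ext x
      rw [Submodule.ideal_span_singleton_smul, Submodule.mem_smul_pointwise_iff_exists]
      constructor
      · rintro ⟨y, rfl⟩
        exact ⟨y, Submodule.mem_top, rfl⟩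
      · rintro ⟨y, _, rfl⟩
        exact ⟨y, rfl⟩ :
      LinearMap.range (LinearMap.lsmul B (M ⧸ (I • ⊤ : Submodule B M)) r) =
        ((Ideal.span {r} • ⊤ : Submodule B M)).map (I • ⊤ : Submodule B M).mkQ) ≪≫ₗ
    Submodule.quotientQuotientEquivQuotientSup (I • ⊤ : Submodule B M)
      (Ideal.span {r} • ⊤ : Submodule B M) ≪≫ₗ
    Submodule.quotEquivOfEq _ _ (by rw [Submodule.sup_smul])

end equiv

section alg

variable {A B : Type u} [CommRing A] [CommRing B] [Algebra A B] [Algebra.FinitePresentation A B]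
  (M : Type u) [AddCommGroup M] [Module B M] [Module A M] [IsScalarTower A B M]
  [Module.FinitePresentation B M]

variable (A) in
/-- the elementwise form of "`g` is weakly regular on the fibre of `M_q`" -/
def WRcond (q : Ideal B) [q.IsPrime] (g : List B) : Prop :=
  ∀ (i : ℕ) (h : i < g.length) (m : M),
    (∃ σ ∈ q.primeCompl, σ • g[i] • m ∈
      ((q.comap (algebraMap A B)).map (algebraMap A B) ⊔ Ideal.ofList (g.take i)) •
        (⊤ : Submodule B M)) →
    ∃ τ ∈ q.primeCompl, τ • m ∈
      ((q.comap (algebraMap A B)).map (algebraMap A B) ⊔ Ideal.ofList (g.take i)) •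
        (⊤ : Submodule B M)

variable (A) in
/-- `g_i` is injective on `(M/(g_1..g_{i-1})M)_q` with `A`-flat cokernel -/
def Econd (q : Ideal B) [q.IsPrime] (g : List B) (i : ℕ) (h : i < g.length) : Prop :=
  (∀ x : M ⧸ (Ideal.ofList (g.take i) • ⊤ : Submodule B M),
      LinearMap.lsmul B _ g[i] x = 0 → ∃ τ ∈ q.primeCompl, τ • x = 0) ∧
    Module.Flat A (LocalizedModule q.primeCompl
      ((M ⧸ (Ideal.ofList (g.take i) • ⊤ : Submodule B M)) ⧸
        LinearMap.range (LinearMap.lsmul B (M ⧸ (Ideal.ofList (g.take i) • ⊤ : Submodule B M))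
          g[i])))

variable {M}

theorem fg_ofList (l : List B) : (Ideal.ofList l).FG := Submodule.fg_span (List.finite_toSet l)

theorem ofList_take_succ (g : List B) (i : ℕ) (h : i < g.length) :
    Ideal.ofList (g.take (i + 1)) = Ideal.ofList (g.take i) ⊔ Ideal.span {g[i]} := by
  rw [List.take_succ_eq_append_getElem h, Ideal.ofList_append, Ideal.ofList_singleton]

omit [Algebra.FinitePresentation A B] [Module.FinitePresentation B M] in
/-- the fibre condition for `g_i` on `M/(g_1..g_{i-1})M` is the `i`-th part of `WRcond` -/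
theorem fc_iff (q : Ideal B) [q.IsPrime] (g : List B) (i : ℕ) (h : i < g.length) :
    (∀ x : M ⧸ (Ideal.ofList (g.take i) • ⊤ : Submodule B M),
      (∃ σ ∈ q.primeCompl, σ • LinearMap.lsmul B _ g[i] x ∈
        (q.comap (algebraMap A B)) •
          (⊤ : Submodule A (M ⧸ (Ideal.ofList (g.take i) • ⊤ : Submodule B M)))) →
      ∃ τ ∈ q.primeCompl, τ • x ∈ (q.comap (algebraMap A B)) •
          (⊤ : Submodule A (M ⧸ (Ideal.ofList (g.take i) • ⊤ : Submodule B M)))) ↔
    ∀ m : M, (∃ σ ∈ q.primeCompl, σ • g[i] • m ∈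
      ((q.comap (algebraMap A B)).map (algebraMap A B) ⊔ Ideal.ofList (g.take i)) •
        (⊤ : Submodule B M)) →
    ∃ τ ∈ q.primeCompl, τ • m ∈
      ((q.comap (algebraMap A B)).map (algebraMap A B) ⊔ Ideal.ofList (g.take i)) •
        (⊤ : Submodule B M) := by
  have key : ∀ m : M, (Submodule.Quotient.mk m : M ⧸ (Ideal.ofList (g.take i) • ⊤ : Submodule B M))
      ∈ (q.comap (algebraMap A B)) •
          (⊤ : Submodule A (M ⧸ (Ideal.ofList (g.take i) • ⊤ : Submodule B M))) ↔
      m ∈ ((q.comap (algebraMap A B)).map (algebraMap A B) ⊔ Ideal.ofList (g.take i)) •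
        (⊤ : Submodule B M) := by
    intro m
    rw [mk_mem_smul_top_iff (A := A), Submodule.sup_smul]
  constructor
  · rintro H m ⟨σ, hσ, hm⟩
    obtain ⟨τ, hτ, h1⟩ := H (Submodule.Quotient.mk m) ⟨σ, hσ, by
      change σ • g[i] • (Submodule.Quotient.mk m : M ⧸ _) ∈ _
      rw [← Submodule.Quotient.mk_smul, ← Submodule.Quotient.mk_smul, key]
      exact hm⟩
    rw [← Submodule.Quotient.mk_smul, key] at h1
    exact ⟨τ, hτ, h1⟩
  · rintro H x ⟨σ, hσ, hx⟩
    obtain ⟨m, rfl⟩ := Submodule.Quotient.mk_surjective _ x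
    change σ • g[i] • (Submodule.Quotient.mk m : M ⧸ _) ∈ _ at hx
    rw [← Submodule.Quotient.mk_smul, ← Submodule.Quotient.mk_smul, key] at hx
    obtain ⟨τ, hτ, h1⟩ := H m ⟨σ, hσ, hx⟩
    refine ⟨τ, hτ, ?_⟩
    rw [← Submodule.Quotient.mk_smul, key]
    exact h1

variable (q : Ideal B) [q.IsPrime]

theorem econd_iff_of_flat (g : List B) (i : ℕ) (h : i < g.length)
    (hP : Module.Flat A (LocalizedModule q.primeCompl
      (M ⧸ (Ideal.ofList (g.take i) • ⊤ : Submodule B M)))) :
    Econd A M q g i h ↔ ∀ m : M, (∃ σ ∈ q.primeCompl, σ • g[i] • m ∈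
      ((q.comap (algebraMap A B)).map (algebraMap A B) ⊔ Ideal.ofList (g.take i)) •
        (⊤ : Submodule B M)) →
    ∃ τ ∈ q.primeCompl, τ • m ∈
      ((q.comap (algebraMap A B)).map (algebraMap A B) ⊔ Ideal.ofList (g.take i)) •
        (⊤ : Submodule B M) := by
  haveI := finitePresentation_quot_smul_top M (Ideal.ofList (g.take i)) (fg_ofList _)
  rw [← fc_iff (A := A) q g i h]
  exact FibInj.fibInj_at_prime_iff q (LinearMap.lsmul B _ g[i]) hP

omit [Algebra.FinitePresentation A B] [Module.FinitePresentation B M] in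
theorem flat_succ_of_econd (g : List B) (i : ℕ) (h : i < g.length) (hE : Econd A M q g i h) :
    Module.Flat A (LocalizedModule q.primeCompl
      (M ⧸ (Ideal.ofList (g.take (i + 1)) • ⊤ : Submodule B M))) := by
  rw [ofList_take_succ g i h]
  haveI := hE.2
  exact LimFlat.flat_localizedModule_congr q.primeCompl
    (quotRangeEquiv M (Ideal.ofList (g.take i)) g[i])

omit [Algebra.FinitePresentation A B] [Module.FinitePresentation B M] in
theorem flat_zero (g : List B) (hflat : Module.Flat A (LocalizedModule q.primeCompl M)) :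
    Module.Flat A (LocalizedModule q.primeCompl
      (M ⧸ (Ideal.ofList (g.take 0) • ⊤ : Submodule B M))) := by
  have h0 : (Ideal.ofList (g.take 0) • (⊤ : Submodule B M)) = ⊥ := by
    rw [List.take_zero, Ideal.ofList_nil, Submodule.bot_smul]
  exact LimFlat.flat_localizedModule_congr q.primeCompl (Submodule.quotEquivOfEqBot _ h0).symm

/-- **EGA IV 11.3.8 (b) ⇔ (c)**, elementwise -/
theorem wrcond_iff (g : List B) (hflat : Module.Flat A (LocalizedModule q.primeCompl M)) :
    WRcond A M q g ↔ ∀ (i : ℕ) (h : i < g.length), Econd A M q g i h := by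
  constructor
  · intro H
    have hP : ∀ i ≤ g.length, Module.Flat A (LocalizedModule q.primeCompl
        (M ⧸ (Ideal.ofList (g.take i) • ⊤ : Submodule B M))) := by
      intro i
      induction i with
      | zero => exact fun _ => flat_zero q g hflat
      | succ i ih =>
        intro hi
        have hlt : i < g.length := hi
        exact flat_succ_of_econd q g i hlt
          ((econd_iff_of_flat q g i hlt (ih hlt.le)).mpr (H i hlt))
    intro i h
    exact (econd_iff_of_flat q g i h (hP i h.le)).mpr (H i h)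
  · intro H
    have hP : ∀ i ≤ g.length, Module.Flat A (LocalizedModule q.primeCompl
        (M ⧸ (Ideal.ofList (g.take i) • ⊤ : Submodule B M))) := by
      intro i
      induction i with
      | zero => exact fun _ => flat_zero q g hflat
      | succ i ih =>
        intro hi
        have hlt : i < g.length := hi
        exact flat_succ_of_econd q g i hlt (H i hlt)
    intro i h
    exact (econd_iff_of_flat q g i h (hP i h.le)).mp (H i h)

/-- **openness of the locus where `g` is weakly regular on the fibres** -/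
theorem isOpen_setOf_wrcond (g : List B)
    (hflat : ∀ (q : Ideal B) [q.IsPrime], Module.Flat A (LocalizedModule q.primeCompl M)) :
    IsOpen {q : PrimeSpectrum B | WRcond A M q.asIdeal g} := by
  have hset : {q : PrimeSpectrum B | WRcond A M q.asIdeal g} =
      ⋂ i : Fin g.length, {q : PrimeSpectrum B | Econd A M q.asIdeal g i i.2} := by
    ext q
    rw [Set.mem_ofPred_eq, wrcond_iff q.asIdeal g (hflat q.asIdeal), Set.mem_iInter]
    exact ⟨fun H i => H i i.2, fun H i h => H ⟨i, h⟩⟩
  rw [hset]
  refine isOpen_iInter_of_finite fun i => ?_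
  rw [isOpen_iff_forall_mem_open]
  intro q hq
  haveI := finitePresentation_quot_smul_top M (Ideal.ofList (g.take i)) (fg_ofList _)
  obtain ⟨t, ht, H⟩ := FibInj.exists_nhd_injective_flat (A := A)
    (LinearMap.lsmul B (M ⧸ (Ideal.ofList (g.take i) • ⊤ : Submodule B M)) g[i]) q.asIdeal hq.1 hq.2
  refine ⟨PrimeSpectrum.basicOpen t, ?_, (PrimeSpectrum.basicOpen t).2, ht⟩
  intro q' hq'
  exact H q'.asIdeal hq'

end alg



section alg2

variable {A B : Type u} [CommRing A] [CommRing B] [Algebra A B] [Algebra.FinitePresentation A B]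
  {M : Type u} [AddCommGroup M] [Module B M] [Module A M] [IsScalarTower A B M]
  [Module.FinitePresentation B M]

/-- **openness of the locus where `g` is weakly regular on the fibres**, neighbourhood form -/
theorem exists_nhd_wrcond (g : List B) (q : Ideal B) [q.IsPrime]
    (hflat : Module.Flat A (LocalizedModule q.primeCompl M)) (h : WRcond A M q g) :
    ∃ t : B, t ∉ q ∧ ∀ (q' : Ideal B) [q'.IsPrime], t ∉ q' → WRcond A M q' g := by
  classical
  have hE := (wrcond_iff q g hflat).mp h
  obtain ⟨t₀, ht₀, H₀⟩ := LimFlat.exists_flat_nhd_of_finitePresentation (R := A) (S := B)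
    (M := M) q
  have hi : ∀ i : Fin g.length, ∃ t : B, t ∉ q ∧ ∀ (q' : Ideal B) [q'.IsPrime], t ∉ q' →
      Econd A M q' g i i.2 := by
    intro i
    haveI := finitePresentation_quot_smul_top M (Ideal.ofList (g.take i)) (fg_ofList _)
    exact FibInj.exists_nhd_injective_flat (A := A)
      (LinearMap.lsmul B (M ⧸ (Ideal.ofList (g.take i) • ⊤ : Submodule B M)) g[i]) q
      (hE i i.2).1 (hE i i.2).2
  choose t ht Ht using hi
  refine ⟨t₀ * ∏ i, t i, ?_, ?_⟩
  · intro hmem
    rcases (Ideal.IsPrime.mul_mem_iff_mem_or_mem ‹q.IsPrime›).mp hmem with h1 | h1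
    · exact ht₀ h1
    · obtain ⟨i, _, hi⟩ := (Ideal.IsPrime.prod_mem_iff (hp := ‹q.IsPrime›)).mp h1
      exact ht i hi
  · intro q' _ hq'
    have h0 : t₀ ∉ q' := fun h1 => hq' (Ideal.mul_mem_right _ _ h1)
    have hti : ∀ i, t i ∉ q' := by
      intro i h1
      apply hq'
      refine Ideal.mul_mem_left _ _ ?_
      rw [← Finset.mul_prod_erase Finset.univ t (Finset.mem_univ i)]
      exact Ideal.mul_mem_right _ _ h1
    exact (wrcond_iff q' g (H₀ q' h0)).mpr fun i h => Ht ⟨i, h⟩ q' (hti ⟨i, h⟩)

end alg2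

end Groth.Agent.H1.RegFib
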