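import Mathlib
import Groth.Agent.Lib.Helper6.CMKit
import Groth.Agent.Lib.Helper5.CA.NN1
import Groth.Agent.Lib.Helper1.RegComp
import Groth.Agent.Lib.Helper1.RegFib3
import Groth.Agent.Lib.Helper1.FibInj6
import Groth.Agent.Lib.Helper1.FibInj7
import Groth.Agent.Lib.Helper1.FlatLocus
import Groth.Agent.Lib.Helper1.LimFlat4
import Groth.Agent.Lib.Helper5.FtPts.IsolatedPoint
import Groth.Agent.Lib.Helper1.Chev1

set_option autoImplicit false
set_option linter.style.haveILetI false
set_option linter.unusedSectionVars false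

universe u

open IsLocalRing RingTheory.Sequence

namespace Groth.Agent.H1.RegCut

section sop

variable {F : Type u} [CommRing F] [IsNoetherianRing F] [IsLocalRing F]

/-- an ideal with Artinian quotient contains a power of every element of the maximal ideal -/
theorem exists_pow_mem_of_isArtinianRing_quotient (I : Ideal F) [IsArtinianRing (F ⧸ I)]
    (β : F) (hβ : β ∈ maximalIdeal F) : ∃ k : ℕ, β ^ k ∈ I := by
  by_cases hI : I = ⊤
  · exact ⟨0, hI ▸ Submodule.mem_top⟩
  haveI : Nontrivial (F ⧸ I) := Ideal.Quotient.nontrivial_iff.mpr hI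
  haveI : IsLocalRing (F ⧸ I) :=
    IsLocalRing.of_surjective' (Ideal.Quotient.mk I) Ideal.Quotient.mk_surjective
  have hnil : IsNilpotent (maximalIdeal (F ⧸ I)) := by
    have := IsArtinianRing.isNilpotent_jacobson_bot (R := F ⧸ I)
    rwa [IsLocalRing.jacobson_eq_maximalIdeal ⊥ bot_ne_top] at this
  obtain ⟨k, hk⟩ := hnil
  refine ⟨k, ?_⟩
  have h1 : Ideal.Quotient.mk I β ∈ maximalIdeal (F ⧸ I) := by
    rw [IsLocalRing.mem_maximalIdeal, mem_nonunits_iff]
    intro hu
    have : IsUnit β := by
      haveI : IsLocalHom (Ideal.Quotient.mk I) :=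
        IsLocalHom.of_surjective _ Ideal.Quotient.mk_surjective
      exact isUnit_of_map_unit (Ideal.Quotient.mk I) β hu
    exact hβ this
  have h2 : (Ideal.Quotient.mk I β) ^ k ∈ (maximalIdeal (F ⧸ I)) ^ k := Ideal.pow_mem_pow h1 k
  rw [hk, Ideal.zero_eq_bot, Ideal.mem_bot, ← map_pow, Ideal.Quotient.eq_zero_iff_mem] at h2
  exact h2

end sop



section sop

variable {F : Type u} [CommRing F] [IsNoetherianRing F] [IsLocalRing F]

theorem ofList_ofFn {R : Type*} [CommRing R] {n : ℕ} (y : Fin n → R) :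
    Ideal.ofList (List.ofFn y) = Ideal.span (Set.range y) := by
  unfold Ideal.ofList
  congr 1
  ext x
  simp [List.mem_ofFn]

/-- in a Cohen–Macaulay local ring, any family of `n ≤ dim` elements of the maximal ideal with
Artinian quotient is a regular sequence -/
theorem isWeaklyRegular_of_sop (hCM : LocCoh.IsCohenMacaulayModule F F) {n : ℕ} (y : Fin n → F)
    (hn : (n : WithBot ℕ∞) ≤ ringKrullDim F) (hy : ∀ i, y i ∈ maximalIdeal F)
    [IsArtinianRing (F ⧸ Ideal.span (Set.range y))] :
    IsWeaklyRegular F (List.ofFn y) := by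
  refine Groth.Agent.H6.CM.isWeaklyRegular_of_supportDim (List.ofFn y) F hCM ?_ ?_
  · intro x hx
    obtain ⟨i, rfl⟩ := (List.mem_ofFn' _ _).mp hx
    exact hy i
  · rw [Groth.Agent.H1.RegComp.ofList_smul_top, List.length_ofFn, ofList_ofFn,
      Module.supportDim_self_eq_ringKrullDim]
    have hne : Ideal.span (Set.range y) ≠ ⊤ := by
      intro h
      have : Ideal.span (Set.range y) ≤ maximalIdeal F := by
        rw [Ideal.span_le]; rintro _ ⟨i, rfl⟩; exact hy i
      rw [h] at this
      exact (maximalIdeal.isMaximal F).ne_top (top_le_iff.mp this)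
    haveI : Nontrivial (F ⧸ Ideal.span (Set.range y)) := Ideal.Quotient.nontrivial_iff.mpr hne
    have h0 : Module.supportDim F (F ⧸ Ideal.span (Set.range y)) = 0 := by
      rw [Module.supportDim_quotient_eq_ringKrullDim]
      exact ringKrullDimZero_iff_ringKrullDim_eq_zero.mp inferInstance
    rw [h0, zero_add]
    apply le_antisymm hn
    have h1 := ringKrullDim_le_ringKrullDim_quotient_add_encard (Set.range y) (by
      rintro _ ⟨i, rfl⟩
      rw [IsLocalRing.ringJacobson_eq_maximalIdeal]
      exact hy i)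
    rw [ringKrullDimZero_iff_ringKrullDim_eq_zero.mp (inferInstance :
      Ring.KrullDimLE 0 (F ⧸ Ideal.span (Set.range y))), zero_add] at h1
    refine h1.trans ?_
    have h2 : (Set.range y).encard ≤ n := by
      calc (Set.range y).encard ≤ (Set.univ : Set (Fin n)).encard := by
            rw [← Set.image_univ]; exact Set.encard_image_le _ _
        _ = n := by simp
    exact_mod_cast h2

end sop



section lift

variable {B O : Type u} [CommRing B] [CommRing O] [Algebra B O]
  (q : Ideal B) [q.IsPrime] [IsLocalization.AtPrime O q]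

theorem exists_lift_sop (J : Ideal O) [hCM : LocCoh.IsCohenMacaulayLocalRing (O ⧸ J)] :
    ∃ gs : List B, (∀ g ∈ gs, g ∈ q) ∧
      IsWeaklyRegular (O ⧸ J) (gs.map (fun b => Ideal.Quotient.mk J (algebraMap B O b))) ∧
      ∀ β ∈ maximalIdeal (O ⧸ J), ∃ k : ℕ,
        β ^ k ∈ Ideal.ofList (gs.map (fun b => Ideal.Quotient.mk J (algebraMap B O b))) := by
  haveI : IsLocalRing O := IsLocalization.AtPrime.isLocalRing O q
  obtain ⟨n, y, hn, hy, hart⟩ := Groth.Agent.H5.NN.exists_sop (O ⧸ J)
  have hlift : ∀ i, ∃ (b : B) (s : q.primeCompl),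
      y i * Ideal.Quotient.mk J (algebraMap B O s) = Ideal.Quotient.mk J (algebraMap B O b) := by
    intro i
    obtain ⟨o, ho⟩ := Ideal.Quotient.mk_surjective (y i)
    obtain ⟨⟨b, s⟩, hbs⟩ := IsLocalization.surj q.primeCompl o
    refine ⟨b, s, ?_⟩
    rw [← ho, ← map_mul, hbs]
  choose b s hbs using hlift
  set y' : Fin n → O ⧸ J := fun i => Ideal.Quotient.mk J (algebraMap B O (b i)) with hy'
  have hu : ∀ i, IsUnit (Ideal.Quotient.mk J (algebraMap B O (s i))) := fun i =>
    (IsLocalization.map_units O (s i)).map (Ideal.Quotient.mk J)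
  have hspan : Ideal.span (Set.range y') = Ideal.span (Set.range y) := by
    apply le_antisymm
    · rw [Ideal.span_le]
      rintro _ ⟨i, rfl⟩
      simp only [hy', ← hbs i]
      exact Ideal.mul_mem_right _ _ (Ideal.subset_span ⟨i, rfl⟩)
    · rw [Ideal.span_le]
      rintro _ ⟨i, rfl⟩
      obtain ⟨v, hv⟩ := hu i
      have : y i = y' i * (v⁻¹ : (O ⧸ J)ˣ) := by
        simp only [hy', ← hbs i, ← hv, mul_assoc, Units.mul_inv, mul_one]
      rw [this]
      exact Ideal.mul_mem_right _ _ (Ideal.subset_span ⟨i, rfl⟩)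
  have hy'm : ∀ i, y' i ∈ maximalIdeal (O ⧸ J) := by
    intro i
    simp only [hy', ← hbs i]
    exact Ideal.mul_mem_right _ _ (hy i)
  have hmap : (List.ofFn b).map (fun b => Ideal.Quotient.mk J (algebraMap B O b)) =
      List.ofFn y' := by
    rw [List.map_ofFn]; rfl
  refine ⟨List.ofFn b, ?_, ?_, ?_⟩
  · intro g hg
    obtain ⟨i, rfl⟩ := (List.mem_ofFn' _ _).mp hg
    by_contra hgq
    have h1 : IsUnit (algebraMap B O (b i)) := IsLocalization.map_units O (⟨b i, hgq⟩ : q.primeCompl)
    exact hy'm i (h1.map (Ideal.Quotient.mk J))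
  · rw [hmap]
    haveI : IsArtinianRing ((O ⧸ J) ⧸ Ideal.span (Set.range y')) := by rw [hspan]; exact hart
    exact isWeaklyRegular_of_sop hCM.supportDim_eq_depth y' hn hy'm
  · rw [hmap, ofList_ofFn, hspan]
    intro β hβ
    exact exists_pow_mem_of_isArtinianRing_quotient _ β hβ

end lift



section wr

variable {A B O : Type u} [CommRing A] [CommRing B] [CommRing O] [Algebra A B] [Algebra B O]
  [Algebra.FinitePresentation A B]
  (q : Ideal B) [q.IsPrime] [IsLocalization.AtPrime O q]

/-- the fibre ideal `p O` -/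
abbrev fibId : Ideal O :=
  ((q.comap (algebraMap A B)).map (algebraMap A B)).map (algebraMap B O)

set_option maxHeartbeats 800000 in
/-- weak regularity on the fibre ring `O/pO` in terms of the elementwise condition `WRcond` -/
theorem isWeaklyRegular_fibre_iff (gs : List B) :
    IsWeaklyRegular (O ⧸ fibId (A := A) (O := O) q)
      (gs.map (fun b => Ideal.Quotient.mk (fibId (A := A) (O := O) q) (algebraMap B O b))) ↔
    RegFib.WRcond A B q gs := by
  set J : Ideal O := fibId (A := A) (O := O) q with hJ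
  have h0 : gs.map (fun b => Ideal.Quotient.mk J (algebraMap B O b)) =
      (gs.map (algebraMap B O)).map (algebraMap O (O ⧸ J)) := by
    rw [List.map_map]; rfl
  rw [h0, isWeaklyRegular_map_algebraMap_iff (O ⧸ J) (O ⧸ J) (gs.map (algebraMap B O))]
  have hJtop : (J • (⊤ : Submodule O O)) = J := by
    rw [smul_eq_mul, Ideal.mul_top]
  rw [← LinearEquiv.isWeaklyRegular_congr (Submodule.quotEquivOfEq _ _ hJtop)
    (gs.map (algebraMap B O)), RegFib.isWeaklyRegular_quot_iff]
  unfold RegFib.WRcond
  haveI locO : IsLocalizedModule q.primeCompl (Algebra.linearMap B O) :=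
    (isLocalizedModule_iff_isLocalization).mpr inferInstance
  have hlen : (gs.map (algebraMap B O)).length = gs.length := List.length_map _
  have key : ∀ (i : ℕ) (h : i < gs.length) (h' : i < (gs.map (algebraMap B O)).length),
      (∀ z : O, (gs.map (algebraMap B O))[i] • z ∈
          (J ⊔ Ideal.ofList ((gs.map (algebraMap B O)).take i)) • (⊤ : Submodule O O) →
        z ∈ (J ⊔ Ideal.ofList ((gs.map (algebraMap B O)).take i)) • (⊤ : Submodule O O)) ↔
      ∀ m : B, (∃ σ ∈ q.primeCompl, σ • gs[i] • m ∈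
        ((q.comap (algebraMap A B)).map (algebraMap A B) ⊔ Ideal.ofList (gs.take i)) •
          (⊤ : Submodule B B)) →
        ∃ τ ∈ q.primeCompl, τ • m ∈
          ((q.comap (algebraMap A B)).map (algebraMap A B) ⊔ Ideal.ofList (gs.take i)) •
            (⊤ : Submodule B B) := by
    intro i h h'
    set K : Ideal B := (q.comap (algebraMap A B)).map (algebraMap A B) ⊔
      Ideal.ofList (gs.take i) with hK
    have e1 : J ⊔ Ideal.ofList ((gs.map (algebraMap B O)).take i) =
        K.map (algebraMap B O) := by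
      rw [hK, Ideal.map_sup, ← List.map_take, ← Ideal.map_ofList]
    rw [e1]
    have e2 : ∀ z : O, z ∈ K.map (algebraMap B O) • (⊤ : Submodule O O) ↔
        z ∈ K • (⊤ : Submodule B O) := fun z =>
      Groth.Agent.H1.FibInj.mem_map_smul_top_iff (A := B) (B := O) K z
    simp only [e2]
    have e3 : (gs.map (algebraMap B O))[i] = algebraMap B O gs[i] := List.getElem_map _
    rw [e3]
    have := Groth.Agent.H1.FibInj.fibre_cond_iff_of_isLocalizedModule (A := B) (B := B)
      q.primeCompl (Algebra.linearMap B O) (Algebra.linearMap B O)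
      (LinearMap.lsmul B B gs[i]) (LinearMap.lsmul B O gs[i])
      (fun s => by
        simp only [LinearMap.lsmul_apply, Algebra.linearMap_apply, smul_eq_mul, map_mul,
          Algebra.smul_def]) K
    simp only [LinearMap.lsmul_apply] at this
    simp only [algebraMap_smul]
    exact this
  constructor
  · intro H i h
    have h' : i < (gs.map (algebraMap B O)).length := by rw [hlen]; exact h
    exact (key i h h').mp (H i h')
  · intro H i h'
    have h : i < gs.length := by rw [← hlen]; exact h'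
    exact (key i h h').mpr (H i h)

end wr



section away

variable {A B : Type u} [CommRing A] [CommRing B] [Algebra A B] [Algebra.FinitePresentation A B]

/-- flatness of all the partial quotients at a prime where the `Econd`s hold -/
theorem flat_take_of_econd (gs : List B) (q' : Ideal B) [q'.IsPrime]
    (hflat : Module.Flat A (LocalizedModule q'.primeCompl B))
    (hE : ∀ (i : ℕ) (h : i < gs.length), RegFib.Econd A B q' gs i h) :
    ∀ i ≤ gs.length, Module.Flat A (LocalizedModule q'.primeCompl
      (B ⧸ (Ideal.ofList (gs.take i) • ⊤ : Submodule B B))) := by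
  intro i
  induction i with
  | zero => exact fun _ => RegFib.flat_zero q' gs hflat
  | succ i ih =>
    intro hi
    have hlt : i < gs.length := hi
    exact RegFib.flat_succ_of_econd q' gs i hlt (hE i hlt)

set_option maxHeartbeats 800000 in
/-- local-to-global: weak regularity and flat quotient on a principal open where `Econd` holds at
all primes -/
theorem away_of_econd (t : B) (gs : List B)
    (hflat : ∀ (q' : Ideal B) [q'.IsPrime], t ∉ q' →
      Module.Flat A (LocalizedModule q'.primeCompl B))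
    (hE : ∀ (q' : Ideal B) [q'.IsPrime], t ∉ q' →
      ∀ (i : ℕ) (h : i < gs.length), RegFib.Econd A B q' gs i h)
    (R : Type u) [CommRing R] [Algebra B R] [Algebra A R] [IsScalarTower A B R]
    [IsLocalization.Away t R] :
    IsWeaklyRegular R (gs.map (algebraMap B R)) ∧
      Module.Flat A (R ⧸ Ideal.ofList (gs.map (algebraMap B R))) := by
  haveI locR : IsLocalizedModule (Submonoid.powers t) (Algebra.linearMap B R) :=
    (isLocalizedModule_iff_isLocalization).mpr inferInstance
  constructor
  · rw [isWeaklyRegular_map_algebraMap_iff R R gs,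
      ← LinearEquiv.isWeaklyRegular_congr
        (IsLocalizedModule.iso (Submonoid.powers t) (Algebra.linearMap B R)) gs,
      RegFib.isWeaklyRegular_iff]
    rintro i h x ⟨σ, hσ, hx⟩
    set N : Submodule B B := Ideal.ofList (gs.take i) • ⊤ with hN
    let 𝔞 : Ideal B := N.comap (LinearMap.toSpanSingleton B B x)
    have h𝔞 : ∀ b : B, b ∈ 𝔞 ↔ b • x ∈ N := fun b => by
      simp only [𝔞, Submodule.mem_comap, LinearMap.toSpanSingleton_apply]
    by_contra hcon
    have hdisj : Disjoint (𝔞 : Set B) (Submonoid.powers t : Set B) := by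
      rw [Set.disjoint_left]
      intro b hb hbt
      exact hcon ⟨b, hbt, (h𝔞 b).mp hb⟩
    obtain ⟨q', hq'prime, h𝔞q', hq'disj⟩ :=
      Ideal.exists_le_prime_disjoint 𝔞 (Submonoid.powers t) hdisj
    have htq' : t ∉ q' := fun ht =>
      (Set.disjoint_left.mp hq'disj) ht (Submonoid.mem_powers t)
    have hE' := (hE q' htq' i h).1 (Submodule.Quotient.mk (σ • x)) (by
      rw [LinearMap.lsmul_apply, ← Submodule.Quotient.mk_smul, Submodule.Quotient.mk_eq_zero,
        smul_comm]
      exact hx)
    obtain ⟨τ, hτ, hτx⟩ := hE'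
    rw [← Submodule.Quotient.mk_smul, Submodule.Quotient.mk_eq_zero, ← mul_smul] at hτx
    have h1 : τ * σ ∈ q' := h𝔞q' ((h𝔞 _).mpr hτx)
    rcases hq'prime.mem_or_mem h1 with h2 | h2
    · exact hτ h2
    · obtain ⟨k, rfl⟩ := hσ
      exact htq' (hq'prime.mem_of_pow_mem k h2)
  · have hP : ∀ (q' : Ideal B) [q'.IsPrime], t ∉ q' →
        Module.Flat A (LocalizedModule q'.primeCompl
          (B ⧸ (Ideal.ofList gs • ⊤ : Submodule B B))) := by
      intro q' _ htq'
      have := flat_take_of_econd gs q' (hflat q' htq') (hE q' htq') gs.length le_rfl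
      rwa [List.take_length] at this
    haveI := Groth.Agent.H1.FibInj.flat_away_of_forall_flat_prime (A := A)
      (Q := B ⧸ (Ideal.ofList gs • ⊤ : Submodule B B)) t hP
    have key := Groth.Agent.H1.FlatLocus.flat_of_isLocalizedModule_of_le (R := A) (B := B)
      (Submonoid.powers t)
      (LocalizedModule.mkLinearMap (Submonoid.powers t)
        (B ⧸ (Ideal.ofList gs • ⊤ : Submodule B B)))
      (Submonoid.powers t) le_rfl
      (Submodule.toLocalizedQuotient' R (Submonoid.powers t) (Algebra.linearMap B R)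
        (Ideal.ofList gs • ⊤ : Submodule B B))
    have heq : Submodule.localized' R (Submonoid.powers t) (Algebra.linearMap B R)
        (Ideal.ofList gs • ⊤ : Submodule B B) = Ideal.ofList (gs.map (algebraMap B R)) := by
      rw [Groth.Agent.H1.RegComp.ofList_smul_top, Ideal.localized'_eq_map, Ideal.map_ofList]
    rw [heq] at key
    exact key

end away



section stage1

variable {A B O : Type u} [CommRing A] [CommRing B] [CommRing O] [Algebra A B] [Algebra B O]
  [Algebra.FinitePresentation A B]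
  (q : Ideal B) [q.IsPrime] [IsLocalization.AtPrime O q]

set_option maxHeartbeats 800000 in
/-- **Stage 1**: cutting the fibre by a system of parameters which is a regular sequence, and
spreading out -/
theorem stage1 (hflatq : Module.Flat A (LocalizedModule q.primeCompl B))
    [hCM : LocCoh.IsCohenMacaulayLocalRing (O ⧸ fibId (A := A) (O := O) q)] :
    ∃ (t : B) (gs : List B), t ∉ q ∧ (∀ g ∈ gs, g ∈ q) ∧
      (∀ (q' : Ideal B) [q'.IsPrime], t ∉ q' →
        Module.Flat A (LocalizedModule q'.primeCompl B)) ∧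
      (∀ (q' : Ideal B) [q'.IsPrime], t ∉ q' →
        ∀ (i : ℕ) (h : i < gs.length), RegFib.Econd A B q' gs i h) ∧
      (∀ b ∈ q, ∃ (k : ℕ) (σ : B), σ ∉ q ∧
        σ * b ^ k ∈ (q.comap (algebraMap A B)).map (algebraMap A B) ⊔ Ideal.ofList gs) := by
  haveI : IsLocalRing O := IsLocalization.AtPrime.isLocalRing O q
  set J : Ideal O := fibId (A := A) (O := O) q with hJ
  obtain ⟨gs, hgq, hwr, hrad⟩ := exists_lift_sop (O := O) q J
  have hwrc : RegFib.WRcond A B q gs := (isWeaklyRegular_fibre_iff (A := A) (O := O) q gs).mp hwr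
  obtain ⟨t₀, ht₀, H₀⟩ := LimFlat.exists_flat_nhd_of_finitePresentation (R := A) (S := B)
    (M := B) q
  obtain ⟨t₁, ht₁, H₁⟩ := RegFib.exists_nhd_wrcond (A := A) (M := B) gs q hflatq hwrc
  refine ⟨t₀ * t₁, gs, ?_, hgq, ?_, ?_, ?_⟩
  · intro h
    rcases (Ideal.IsPrime.mul_mem_iff_mem_or_mem ‹q.IsPrime›).mp h with h | h
    · exact ht₀ h
    · exact ht₁ h
  · intro q' _ hq'
    exact H₀ q' fun h => hq' (Ideal.mul_mem_right _ _ h)
  · intro q' _ hq'
    have h0 : Module.Flat A (LocalizedModule q'.primeCompl B) :=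
      H₀ q' fun h => hq' (Ideal.mul_mem_right _ _ h)
    exact (RegFib.wrcond_iff q' gs h0).mp (H₁ q' fun h => hq' (Ideal.mul_mem_left _ _ h))
  · intro b hb
    set K : Ideal B := (q.comap (algebraMap A B)).map (algebraMap A B) ⊔ Ideal.ofList gs with hK
    have hβ : Ideal.Quotient.mk J (algebraMap B O b) ∈ maximalIdeal (O ⧸ J) := by
      rw [IsLocalRing.mem_maximalIdeal, mem_nonunits_iff]
      intro hu
      haveI : IsLocalHom (Ideal.Quotient.mk J) :=
        IsLocalHom.of_surjective _ Ideal.Quotient.mk_surjective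
      have h1 : IsUnit (algebraMap B O b) := isUnit_of_map_unit (Ideal.Quotient.mk J) _ hu
      exact ((IsLocalization.AtPrime.isUnit_to_map_iff O q b).mp h1) hb
    obtain ⟨k, hk⟩ := hrad _ hβ
    have hmapK : K.map (algebraMap B O) = J ⊔ Ideal.ofList (gs.map (algebraMap B O)) := by
      rw [hK, Ideal.map_sup, Ideal.map_ofList]
    have h2 : algebraMap B O (b ^ k) ∈ K.map (algebraMap B O) := by
      rw [hmapK, map_pow]
      have h3 : Ideal.ofList (gs.map (fun b => Ideal.Quotient.mk J (algebraMap B O b))) =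
          (Ideal.ofList (gs.map (algebraMap B O))).map (Ideal.Quotient.mk J) := by
        rw [Ideal.map_ofList, List.map_map]; rfl
      rw [h3, ← map_pow, Ideal.mem_quotient_iff_mem_sup] at hk
      rwa [sup_comm]
    obtain ⟨σ, hσ, hσb⟩ :=
      (IsLocalization.algebraMap_mem_map_algebraMap_iff q.primeCompl O K (b ^ k)).mp h2
    exact ⟨k, σ, hσ, hσb⟩

end stage1



section qf

/-- a prime of a finite type algebra which is both maximal and minimal among the primes with the
same contraction is quasi-finite -/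
theorem quasiFiniteAt_of_order_isolated {A C : Type u} [CommRing A] [CommRing C] [Algebra A C]
    [Algebra.FiniteType A C] (Q : Ideal C) [Q.IsPrime]
    (hmax : ∀ Q' : Ideal C, Q'.IsPrime → Q ≤ Q' →
      Q'.comap (algebraMap A C) = Q.comap (algebraMap A C) → Q' = Q)
    (hmin : ∀ Q' : Ideal C, Q'.IsPrime → Q' ≤ Q →
      Q'.comap (algebraMap A C) = Q.comap (algebraMap A C) → Q' = Q) :
    Algebra.QuasiFiniteAt A Q := by
  let x : PrimeSpectrum C := ⟨Q, inferInstance⟩
  refine Algebra.QuasiFiniteAt.of_isOpen_singleton_fiber (R := A) x ?_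
  let p := x.comap (algebraMap A C)
  let e := PrimeSpectrum.preimageHomeomorphFiber A C p
  haveI : IsNoetherianRing (p.asIdeal.Fiber C) :=
    Algebra.FiniteType.isNoetherianRing p.asIdeal.ResidueField _
  haveI : TopologicalSpace.NoetherianSpace (PrimeSpectrum.comap (algebraMap A C) ⁻¹' {p}) :=
    (TopologicalSpace.noetherianSpace_iff_of_homeomorph e).mpr inferInstance
  haveI : QuasiSober (PrimeSpectrum.comap (algebraMap A C) ⁻¹' {p}) :=
    e.isOpenEmbedding.quasiSober
  apply Groth.Agent.H5.FtPts.isOpen_singleton_of_noetherianSpace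
  · rw [← closure_subset_iff_isClosed]
    intro z hz
    rw [← specializes_iff_mem_closure] at hz
    have hz' : x ⤳ z.1 := hz.map continuous_subtype_val
    rw [← PrimeSpectrum.le_iff_specializes] at hz'
    have h1 : z.1.asIdeal = Q := hmax z.1.asIdeal z.1.2 hz'
      (congrArg PrimeSpectrum.asIdeal z.2)
    exact Subtype.ext (PrimeSpectrum.ext h1)
  · intro z hz
    have hz' : z.1 ⤳ x := hz.map continuous_subtype_val
    rw [← PrimeSpectrum.le_iff_specializes] at hz'
    have h1 : z.1.asIdeal = Q := hmin z.1.asIdeal z.1.2 hz'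
      (congrArg PrimeSpectrum.asIdeal z.2)
    exact Subtype.ext (PrimeSpectrum.ext h1)

end qf



section stage2

variable {A B : Type u} [CommRing A] [CommRing B] [Algebra A B] [Algebra.FinitePresentation A B]
  (q : Ideal B) [q.IsPrime]

set_option maxHeartbeats 1600000 in
/-- **Stage 2**: quasi-finiteness of the cut near a point which is order-isolated in its fibre -/
theorem stage2 (gs : List B) (hgq : ∀ g ∈ gs, g ∈ q)
    (hmax : ∀ Q : Ideal B, Q.IsPrime → q ≤ Q →
      Q.comap (algebraMap A B) = q.comap (algebraMap A B) → Q = q)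
    (hmin : ∀ Q : Ideal B, Q.IsPrime → Q ≤ q → (∀ g ∈ gs, g ∈ Q) →
      Q.comap (algebraMap A B) = q.comap (algebraMap A B) → Q = q) :
    ∃ t₂ : B, t₂ ∉ q ∧
      (∀ Q : Ideal B, Q.IsPrime → t₂ ∉ Q → (∀ g ∈ gs, g ∈ Q) →
        Q.comap (algebraMap A B) = q.comap (algebraMap A B) → Q = q) ∧
      ∀ (t' : B) (R : Type u) [CommRing R] [Algebra B R] [Algebra A R] [IsScalarTower A B R]
        [IsLocalization.Away (t' * t₂) R],
        Algebra.QuasiFinite A (R ⧸ Ideal.ofList (gs.map (algebraMap B R))) := by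
  set I : Ideal B := Ideal.ofList gs with hI
  have hIle : ∀ Q : Ideal B, (∀ g ∈ gs, g ∈ Q) → I ≤ Q := fun Q hQ => by
    rw [hI, Ideal.ofList, Ideal.span_le]; exact fun g hg => hQ g hg
  have hIq : I ≤ q := hIle q hgq
  let π : B →+* B ⧸ I := Ideal.Quotient.mk I
  have hπ : Function.Surjective π := Ideal.Quotient.mk_surjective
  have hker : RingHom.ker π = I := Ideal.mk_ker
  have hcm : ∀ Q : Ideal B, I ≤ Q → (Q.map π).comap π = Q := fun Q hQ => by
    rw [Ideal.comap_map_of_surjective π hπ, ← RingHom.ker_eq_comap_bot, hker, sup_eq_left.mpr hQ]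
  have hprime : ∀ Q : Ideal B, Q.IsPrime → I ≤ Q → (Q.map π).IsPrime := fun Q hQ hIQ =>
    Ideal.map_isPrime_of_surjective hπ (by rw [hker]; exact hIQ)
  have hcomapA : ∀ Q' : Ideal (B ⧸ I), Q'.comap (algebraMap A (B ⧸ I)) =
      (Q'.comap π).comap (algebraMap A B) := fun Q' => by
    rw [Ideal.comap_comap]; rfl
  set q₁ : Ideal (B ⧸ I) := q.map π with hq₁
  haveI : q₁.IsPrime := hprime q inferInstance hIq
  have hq₁c : q₁.comap π = q := hcm q hIq
  haveI : Algebra.QuasiFiniteAt A q₁ := by
    apply quasiFiniteAt_of_order_isolated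
    · intro Q' hQ' hle hc
      have h1 : Q'.comap π = q := by
        haveI := hQ'
        refine hmax _ (Ideal.comap_isPrime π Q') ?_ ?_
        · rw [← hq₁c]; exact Ideal.comap_mono hle
        · rw [← hcomapA, hc, hcomapA, hq₁c]
      rw [← Ideal.map_comap_of_surjective π hπ Q', h1]
    · intro Q' hQ' hle hc
      have h1 : Q'.comap π = q := by
        haveI := hQ'
        refine hmin _ (Ideal.comap_isPrime π Q') ?_ ?_ ?_
        · rw [← hq₁c]; exact Ideal.comap_mono hle
        · intro g hg
          have : g ∈ I := Ideal.subset_span hg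
          rw [Ideal.mem_comap, Ideal.Quotient.eq_zero_iff_mem.mpr this]
          exact Ideal.zero_mem _
        · rw [← hcomapA, hc, hcomapA, hq₁c]
      rw [← Ideal.map_comap_of_surjective π hπ Q', h1]
  obtain ⟨h', hh', hqf⟩ := Groth.Agent.H1.Chev.exists_away_quasiFinite A (B ⧸ I) q₁
  haveI : q₁.LiesOver (q₁.under A) := ⟨rfl⟩
  obtain ⟨s', hs', huniq⟩ := Ideal.exists_not_mem_forall_mem_of_ne_of_liesOver (q₁.under A) q₁
  obtain ⟨h, rfl⟩ := hπ h'
  obtain ⟨s, rfl⟩ := hπ s'
  have hhq : h ∉ q := fun hh => hh' (Ideal.mem_map_of_mem π hh)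
  have hsq : s ∉ q := fun hh => hs' (Ideal.mem_map_of_mem π hh)
  refine ⟨h * s, ?_, ?_, ?_⟩
  · intro hmem
    rcases (Ideal.IsPrime.mul_mem_iff_mem_or_mem ‹q.IsPrime›).mp hmem with h1 | h1
    · exact hhq h1
    · exact hsq h1
  · intro Q hQ htQ hgQ hc
    by_contra hne
    have hIQ : I ≤ Q := hIle Q hgQ
    haveI : (Q.map π).IsPrime := hprime Q hQ hIQ
    have h1 : Q.map π ≠ q₁ := fun h2 => hne (by rw [← hcm Q hIQ, h2, hq₁c])
    have h2 : (Q.map π).LiesOver (q₁.under A) := ⟨by
      rw [Ideal.under_def, Ideal.under_def, hcomapA, hcomapA, hcm Q hIQ, hq₁c, hc]⟩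
    have h3 : π s ∈ Q.map π := huniq (Q.map π) inferInstance h1 h2
    have h4 : s ∈ Q := by
      rw [← hcm Q hIQ]; exact h3
    exact htQ (Ideal.mul_mem_left _ _ h4)
  · intro t' R _ _ _ _ _
    set I' : Ideal R := Ideal.ofList (gs.map (algebraMap B R)) with hI'
    have hI'map : I' = I.map (algebraMap B R) := by rw [hI', hI, Ideal.map_ofList]
    have hunitT : IsUnit (algebraMap B R (t' * (h * s))) :=
      IsLocalization.Away.algebraMap_isUnit (t' * (h * s))
    have hunith : IsUnit (algebraMap B R h) := by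
      rw [map_mul, map_mul] at hunitT
      exact isUnit_of_mul_isUnit_left (isUnit_of_mul_isUnit_right hunitT)
    let g₀ : (B ⧸ I) →ₐ[A] (R ⧸ I') :=
      Ideal.quotientMapₐ I' (IsScalarTower.toAlgHom A B R) (by
        rw [hI'map]; exact Ideal.le_comap_map)
    have hg₀ : ∀ b : B, g₀ (π b) = Ideal.Quotient.mk I' (algebraMap B R b) := fun b => rfl
    let f : Localization.Away (π h) →ₐ[A] (R ⧸ I') :=
      IsLocalization.liftAlgHom (M := Submonoid.powers (π h)) (f := g₀) (by
        rintro ⟨_, n, rfl⟩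
        rw [map_pow, hg₀]
        exact ((hunith.map (Ideal.Quotient.mk I')).pow n))
    have hf : ∀ c : B ⧸ I, f (algebraMap (B ⧸ I) (Localization.Away (π h)) c) = g₀ c := fun c =>
      IsLocalization.lift_eq _ c
    refine Algebra.QuasiFinite.of_forall_exists_mul_mem_range f ?_
    intro x
    obtain ⟨r, rfl⟩ := Ideal.Quotient.mk_surjective x
    obtain ⟨n, b, hb⟩ := IsLocalization.Away.surj (t' * (h * s)) r
    refine ⟨algebraMap (B ⧸ I) _ (π ((t' * (h * s)) ^ n)), ?_, ?_⟩
    · rw [hf, hg₀, map_pow]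
      exact ((hunitT.map (Ideal.Quotient.mk I')).pow n)
    · refine ⟨algebraMap (B ⧸ I) _ (π b), ?_⟩
      change f (algebraMap (B ⧸ I) _ (π b)) = _
      rw [hf, hf, hg₀, hg₀, ← map_mul, map_pow, hb]

end stage2



section core

variable {A B O : Type u} [CommRing A] [CommRing B] [CommRing O] [Algebra A B] [Algebra B O]
  [Algebra.FinitePresentation A B]
  (q : Ideal B) [q.IsPrime] [IsLocalization.AtPrime O q]

set_option maxHeartbeats 800000 in
/-- **ring-level core of the regular cut**: at a prime `q` at which `B` is flat over `A` with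
Cohen–Macaulay fibre and which is maximal in its fibre, there are a principal open neighbourhood
`D(t)` and a sequence `gs ⊆ q` which is regular on `B_t`, with `B_t/(gs)` flat and quasi-finite
over `A` and `q` the only point of `V(gs) ∩ D(t)` in its fibre. -/
theorem core (hflatq : Module.Flat A (LocalizedModule q.primeCompl B))
    [hCM : LocCoh.IsCohenMacaulayLocalRing (O ⧸ fibId (A := A) (O := O) q)]
    (hmax : ∀ Q : Ideal B, Q.IsPrime → q ≤ Q →
      Q.comap (algebraMap A B) = q.comap (algebraMap A B) → Q = q) :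
    ∃ (t : B) (gs : List B), t ∉ q ∧ (∀ g ∈ gs, g ∈ q) ∧
      (∀ Q : Ideal B, Q.IsPrime → t ∉ Q → (∀ g ∈ gs, g ∈ Q) →
        Q.comap (algebraMap A B) = q.comap (algebraMap A B) → Q = q) ∧
      ∀ (R : Type u) [CommRing R] [Algebra B R] [Algebra A R] [IsScalarTower A B R]
        [IsLocalization.Away t R],
        IsWeaklyRegular R (gs.map (algebraMap B R)) ∧
        Module.Flat A (R ⧸ Ideal.ofList (gs.map (algebraMap B R))) ∧
        Algebra.QuasiFinite A (R ⧸ Ideal.ofList (gs.map (algebraMap B R))) := by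
  obtain ⟨t₁, gs, ht₁, hgq, hfl, hE, hrad⟩ := stage1 (A := A) (O := O) q hflatq
  have hmin : ∀ Q : Ideal B, Q.IsPrime → Q ≤ q → (∀ g ∈ gs, g ∈ Q) →
      Q.comap (algebraMap A B) = q.comap (algebraMap A B) → Q = q := by
    intro Q hQ hle hgQ hc
    refine le_antisymm hle fun b hb => ?_
    obtain ⟨k, σ, hσ, hσb⟩ := hrad b hb
    have h1 : (q.comap (algebraMap A B)).map (algebraMap A B) ⊔ Ideal.ofList gs ≤ Q := by
      refine sup_le ?_ ?_
      · rw [← hc]; exact Ideal.map_comap_le
      · rw [Ideal.ofList, Ideal.span_le]; exact fun g hg => hgQ g hg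
    rcases hQ.mem_or_mem (h1 hσb) with h2 | h2
    · exact absurd (hle h2) hσ
    · exact hQ.mem_of_pow_mem k h2
  obtain ⟨t₂, ht₂, huniq, hqf⟩ := stage2 (A := A) q gs hgq hmax hmin
  refine ⟨t₁ * t₂, gs, ?_, hgq, ?_, ?_⟩
  · intro h
    rcases (Ideal.IsPrime.mul_mem_iff_mem_or_mem ‹q.IsPrime›).mp h with h | h
    · exact ht₁ h
    · exact ht₂ h
  · intro Q hQ htQ hgQ hc
    exact huniq Q hQ (fun h => htQ (Ideal.mul_mem_left _ _ h)) hgQ hc
  · intro R _ _ _ _ _
    have h1 := away_of_econd (A := A) (t₁ * t₂) gs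
      (fun q' _ hq' => hfl q' fun h => hq' (Ideal.mul_mem_right _ _ h))
      (fun q' _ hq' => hE q' fun h => hq' (Ideal.mul_mem_right _ _ h)) R
    exact ⟨h1.1, h1.2, hqf t₁ R⟩

end core

end Groth.Agent.H1.RegCut
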