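import Groth.Agent.Lib.Helper1.SchFibInj2
import Groth.Agent.Lib.Helper1.RegFib3

/-!
# EGA IV 11.3.8 for schemes: openness of the locus of weak regularity on the fibres
-/

set_option autoImplicit false

universe u

open CategoryTheory Limits AlgebraicGeometry TopologicalSpace Opposite

namespace Groth.Agent.H1.SchFlat

open Groth.Agent.LD.QC

variable {X Y : Scheme.{u}}

/-- the ideal `m_y O_x` in terms of an affine chart -/
theorem map_maximalIdeal_stalkMap_eq (f : X ⟶ Y) {U : X.Opens} {V : Y.Opens}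
    (hU : IsAffineOpen U) (hV : IsAffineOpen V) (hUV : U ≤ f ⁻¹ᵁ V) (x : X) (hxU : x ∈ U) :
    Ideal.map (f.stalkMap x).hom (IsLocalRing.maximalIdeal (Y.presheaf.stalk (f x))) =
      (((hU.primeIdealOf ⟨x, hxU⟩).asIdeal.comap (f.appLE V U hUV).hom).map
        (f.appLE V U hUV).hom).map (X.presheaf.germ U x hxU).hom := by
  letI : Algebra Γ(Y, V) (Y.presheaf.stalk (f x)) :=
    TopCat.Presheaf.algebra_section_stalk Y.presheaf ⟨f x, hUV hxU⟩
  haveI := hV.isLocalization_stalk ⟨f x, hUV hxU⟩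
  have h1 : IsLocalRing.maximalIdeal (Y.presheaf.stalk (f x)) =
      ((hU.primeIdealOf ⟨x, hxU⟩).asIdeal.comap (f.appLE V U hUV).hom).map
        (algebraMap Γ(Y, V) (Y.presheaf.stalk (f x))) := by
    rw [← primeIdealOf_comap f hU hV hUV x hxU]
    exact (IsLocalization.AtPrime.map_eq_maximalIdeal
      (hV.primeIdealOf ⟨f x, hUV hxU⟩).asIdeal (Y.presheaf.stalk (f x))).symm
  rw [h1, Ideal.map_map, Ideal.map_map]
  congr 1
  ext a
  exact stalkMap_germ_appLE f hUV x hxU a

set_option maxHeartbeats 800000 in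
/-- weak regularity of germs on the fibre module at `x`, in terms of an affine chart -/
theorem isWeaklyRegular_stalk_iff (f : X ⟶ Y) (F : X.Modules) [hqF : F.IsQuasicoherent]
    {U : X.Opens} {V : Y.Opens}
    (hU : IsAffineOpen U) (hV : IsAffineOpen V) (hUV : U ≤ f ⁻¹ᵁ V) (x : X) (hxU : x ∈ U)
    (g : List Γ(X, U)) :
    letI := algΓ f hUV
    letI := sectionsModuleOver f F hUV
    haveI := isScalarTower_sections f F hUV
    RingTheory.Sequence.IsWeaklyRegular
      (↑(F.presheaf.stalk x) ⧸ (Ideal.map (f.stalkMap x).hom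
        (IsLocalRing.maximalIdeal ↑(Y.presheaf.stalk (f x))) •
          (⊤ : Submodule ↑(X.presheaf.stalk x) ↑(F.presheaf.stalk x))))
      (g.map (X.presheaf.germ U x hxU).hom) ↔
    RegFib.WRcond Γ(Y, V) Γ(F, U) (hU.primeIdealOf ⟨x, hxU⟩).asIdeal g := by
  letI algAB := algΓ f hUV
  letI mAN := sectionsModuleOver f F hUV
  haveI twN := isScalarTower_sections f F hUV
  set q := (hU.primeIdealOf ⟨x, hxU⟩).asIdeal with hq
  letI sN := stalkΓModule F x U hxU
  letI algBO : Algebra Γ(X, U) (X.presheaf.stalk x) := (X.presheaf.germ U x hxU).hom.toAlgebra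
  haveI twBO : IsScalarTower Γ(X, U) (X.presheaf.stalk x) (F.presheaf.stalk x) :=
    IsScalarTower.of_algebraMap_smul fun _ _ => rfl
  haveI locN := isLocalizedModule_germ F hU x hxU
  rw [RegFib.isWeaklyRegular_quot_iff]
  unfold RegFib.WRcond
  have hlen : (g.map (X.presheaf.germ U x hxU).hom).length = g.length := List.length_map _
  have key : ∀ (i : ℕ) (h : i < g.length)
      (h' : i < (g.map (X.presheaf.germ U x hxU).hom).length),
      (∀ z : F.presheaf.stalk x,
        (g.map (X.presheaf.germ U x hxU).hom)[i] • z ∈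
          (Ideal.map (f.stalkMap x).hom (IsLocalRing.maximalIdeal ↑(Y.presheaf.stalk (f x))) ⊔
            Ideal.ofList ((g.map (X.presheaf.germ U x hxU).hom).take i)) •
            (⊤ : Submodule ↑(X.presheaf.stalk x) ↑(F.presheaf.stalk x)) →
        z ∈ (Ideal.map (f.stalkMap x).hom (IsLocalRing.maximalIdeal ↑(Y.presheaf.stalk (f x))) ⊔
            Ideal.ofList ((g.map (X.presheaf.germ U x hxU).hom).take i)) •
            (⊤ : Submodule ↑(X.presheaf.stalk x) ↑(F.presheaf.stalk x))) ↔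
      ∀ m : Γ(F, U), (∃ σ ∈ q.primeCompl, σ • g[i] • m ∈
        ((q.comap (algebraMap Γ(Y, V) Γ(X, U))).map (algebraMap Γ(Y, V) Γ(X, U)) ⊔
          Ideal.ofList (g.take i)) • (⊤ : Submodule Γ(X, U) Γ(F, U))) →
        ∃ τ ∈ q.primeCompl, τ • m ∈
          ((q.comap (algebraMap Γ(Y, V) Γ(X, U))).map (algebraMap Γ(Y, V) Γ(X, U)) ⊔
            Ideal.ofList (g.take i)) • (⊤ : Submodule Γ(X, U) Γ(F, U)) := by
    intro i h h'
    set K : Ideal Γ(X, U) := (q.comap (algebraMap Γ(Y, V) Γ(X, U))).map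
      (algebraMap Γ(Y, V) Γ(X, U)) ⊔ Ideal.ofList (g.take i) with hK
    have e1 : Ideal.map (f.stalkMap x).hom (IsLocalRing.maximalIdeal ↑(Y.presheaf.stalk (f x))) ⊔
        Ideal.ofList ((g.map (X.presheaf.germ U x hxU).hom).take i) =
        K.map (algebraMap Γ(X, U) (X.presheaf.stalk x)) := by
      rw [hK, Ideal.map_sup, map_maximalIdeal_stalkMap_eq f hU hV hUV x hxU, ← List.map_take,
        ← Ideal.map_ofList]
      rfl
    rw [e1]
    have e2 : ∀ z : F.presheaf.stalk x,
        z ∈ K.map (algebraMap Γ(X, U) (X.presheaf.stalk x)) •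
          (⊤ : Submodule ↑(X.presheaf.stalk x) ↑(F.presheaf.stalk x)) ↔
        z ∈ K • (⊤ : Submodule Γ(X, U) (F.presheaf.stalk x)) := fun z =>
      Groth.Agent.H1.FibInj.mem_map_smul_top_iff (A := Γ(X, U)) (B := X.presheaf.stalk x) K z
    simp only [e2]
    have e3 : (g.map (X.presheaf.germ U x hxU).hom)[i] = (X.presheaf.germ U x hxU).hom g[i] :=
      List.getElem_map _
    rw [e3]
    exact Groth.Agent.H1.FibInj.fibre_cond_iff_of_isLocalizedModule (A := Γ(X, U)) (B := Γ(X, U))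
      q.primeCompl (germLinear F x U hxU) (germLinear F x U hxU)
      (LinearMap.lsmul Γ(X, U) Γ(F, U) g[i])
      (LinearMap.lsmul Γ(X, U) (F.presheaf.stalk x) g[i])
      (fun s => ((germLinear F x U hxU).map_smul g[i] s).symm) K
  constructor
  · intro H i h
    have h' : i < (g.map (X.presheaf.germ U x hxU).hom).length := by rw [hlen]; exact h
    exact (key i h h').mp (H i h')
  · intro H i h'
    have h : i < g.length := by rw [← hlen]; exact h'
    exact (key i h h').mpr (H i h)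

/-- **openness of the locus of weak regularity on the fibres** (EGA IV 11.3.8), general form -/
theorem isOpen_setOf_isWeaklyRegular_fibre (f : X ⟶ Y) (F : X.Modules) [hqF : F.IsQuasicoherent]
    (hfp : ∀ {U : X.Opens} {V : Y.Opens} (_ : IsAffineOpen U) (_ : IsAffineOpen V)
      (hUV : U ≤ f ⁻¹ᵁ V), (f.appLE V U hUV).hom.FinitePresentation)
    (hFfp : ∀ {U : X.Opens} (_ : IsAffineOpen U), Module.FinitePresentation Γ(X, U) Γ(F, U))
    (hflat : FlatMod.IsFlatOver f F) (n : ℕ) (g : Fin n → Γ(X, ⊤)) :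
    IsOpen {x : X |
      RingTheory.Sequence.IsWeaklyRegular
        (↑(F.presheaf.stalk x) ⧸ (Ideal.map (f.stalkMap x).hom
          (IsLocalRing.maximalIdeal ↑(Y.presheaf.stalk (f x))) •
          (⊤ : Submodule ↑(X.presheaf.stalk x) ↑(F.presheaf.stalk x))))
        (List.ofFn fun i => (X.presheaf.germ ⊤ x trivial) (g i))} := by
  rw [isOpen_iff_forall_mem_open]
  intro x hx
  obtain ⟨V, hV, hfxV, -⟩ := exists_isAffineOpen_mem_and_subset (x := f x) (U := ⊤) trivial
  obtain ⟨U, hU, hxU, hUV⟩ := exists_isAffineOpen_mem_and_subset (x := x) (U := f ⁻¹ᵁ V) hfxV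
  letI algAB := algΓ f hUV
  letI mAN := sectionsModuleOver f F hUV
  haveI twN := isScalarTower_sections f F hUV
  haveI : Algebra.FinitePresentation Γ(Y, V) Γ(X, U) :=
    RingHom.finitePresentation_algebraMap.mp (hfp hU hV hUV)
  haveI : Module.FinitePresentation Γ(X, U) Γ(F, U) := hFfp hU
  let g' : List Γ(X, U) := List.ofFn fun i => X.presheaf.map (homOfLE le_top).op (g i)
  have hg' : ∀ (x' : X) (hx'U : x' ∈ U),
      (List.ofFn fun i => (X.presheaf.germ ⊤ x' trivial) (g i)) =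
        g'.map (X.presheaf.germ U x' hx'U).hom := by
    intro x' hx'U
    rw [List.map_ofFn]
    congr 1
    funext i
    exact (sgerm_res x' le_top hx'U (g i)).symm
  have hiff : ∀ (x' : X) (hx'U : x' ∈ U),
      RingTheory.Sequence.IsWeaklyRegular
        (↑(F.presheaf.stalk x') ⧸ (Ideal.map (f.stalkMap x').hom
          (IsLocalRing.maximalIdeal ↑(Y.presheaf.stalk (f x'))) •
          (⊤ : Submodule ↑(X.presheaf.stalk x') ↑(F.presheaf.stalk x'))))
        (List.ofFn fun i => (X.presheaf.germ ⊤ x' trivial) (g i)) ↔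
      RegFib.WRcond Γ(Y, V) Γ(F, U) (hU.primeIdealOf ⟨x', hx'U⟩).asIdeal g' := by
    intro x' hx'U
    rw [hg' x' hx'U]
    exact isWeaklyRegular_stalk_iff f F hU hV hUV x' hx'U g'
  have h1 := (hiff x hxU).mp hx
  have h2 : Module.Flat Γ(Y, V)
      (LocalizedModule (hU.primeIdealOf ⟨x, hxU⟩).asIdeal.primeCompl Γ(F, U)) :=
    (isFlatOverAt_iff_flat_localizedModule f F hU hV hUV x hxU).mp (hflat x)
  obtain ⟨t, ht, Ht⟩ := RegFib.exists_nhd_wrcond g' (hU.primeIdealOf ⟨x, hxU⟩).asIdeal h2 h1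
  have hle : X.basicOpen t ≤ U := X.basicOpen_le t
  refine ⟨X.basicOpen t, ?_, (X.basicOpen t).isOpen, mem_basicOpen_of_notMem hU x hxU t ht⟩
  intro x' hx'
  have hx'U : x' ∈ U := hle hx'
  exact (hiff x' hx'U).mpr (Ht (hU.primeIdealOf ⟨x', hx'U⟩).asIdeal
    (mem_primeCompl_of_mem_basicOpen hU x' hx'U t hx'))

end Groth.Agent.H1.SchFlat
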