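import Mathlib
import Groth.Prelude.Def_Mor2
import Groth.Agent.Lib.Helper1.RegComp
import Groth.Agent.Lib.Helper1.RegCut
import Groth.Agent.Lib.Helper1.CMQF
import Groth.Agent.Lib.Helper1.SchRegFib
import Groth.Agent.Lib.Helper1.FibreStalk
import Groth.Agent.Lib.Helper5.FtPts.FiberClosed
import Groth.Agent.Lib.Helper6.Liai3

set_option autoImplicit false
set_option linter.style.haveILetI false
set_option linter.unusedSectionVars false

universe u

open CategoryTheory Limits AlgebraicGeometry TopologicalSpace Opposite RingTheory.Sequence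

namespace Groth.Agent.H1.RegCutSch

variable {X S : Scheme.{u}}

/-- membership in the prime of a point of an affine open, via basic opens -/
theorem mem_primeIdealOf_iff {U : X.Opens} (hU : IsAffineOpen U) (x : X) (hx : x ∈ U)
    (b : Γ(X, U)) : b ∈ (hU.primeIdealOf ⟨x, hx⟩).asIdeal ↔ x ∉ X.basicOpen b := by
  have h1 : x ∈ X.basicOpen b ↔
      hU.primeIdealOf ⟨x, hx⟩ ∈ hU.fromSpec ⁻¹ᵁ X.basicOpen b := by
    change _ ↔ hU.fromSpec (hU.primeIdealOf ⟨x, hx⟩) ∈ X.basicOpen b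
    rw [hU.fromSpec_primeIdealOf]
  rw [h1, hU.fromSpec_preimage_basicOpen]
  exact not_not.symm

/-- transport of regular sequences along ring isomorphisms -/
theorem isRegular_map_ringEquiv {R R' : Type*} [CommRing R] [CommRing R'] (e : R ≃+* R')
    (rs : List R) (h : IsRegular R rs) : IsRegular R' (rs.map e) := by
  refine (AddEquiv.isRegular_congr (e := e.toAddEquiv) (as := rs) (bs := rs.map e) ?_).mp h
  rw [List.forall₂_map_right_iff]
  exact List.forall₂_same.mpr fun r _ x => by simp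



variable {X S : Scheme.{u}}

set_option backward.isDefEq.respectTransparency false in
/-- the kernel on the top affine of `Spec (R/I) ⟶ V`, for an affine open `V` with `R = Γ(X, V)` -/
theorem ker_ideal_top {V : X.Opens} (hV : IsAffineOpen V) (I : Ideal Γ(X, V)) :
    haveI : IsAffine (V : Scheme.{u}) := hV
    (Spec.map (CommRingCat.ofHom (Ideal.Quotient.mk I)) ≫ hV.isoSpec.inv).ker.ideal
      ⟨⊤, isAffineOpen_top (V : Scheme.{u})⟩ = I.map V.topIso.inv.hom := by
  haveI : IsAffine (V : Scheme.{u}) := hV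
  rw [Scheme.Hom.ker_apply]
  have h1 : (Spec.map (CommRingCat.ofHom (Ideal.Quotient.mk I)) ≫ hV.isoSpec.inv).appTop ≫
      (Scheme.ΓSpecIso (CommRingCat.of (Γ(X, V) ⧸ I))).hom =
      V.topIso.hom ≫ CommRingCat.ofHom (Ideal.Quotient.mk I) := by
    rw [Scheme.Hom.comp_appTop, hV.isoSpec_inv_appTop, Category.assoc, Category.assoc,
      Scheme.ΓSpecIso_naturality]
    erw [Iso.inv_hom_id_assoc]
  ext r
  have h2 : (Spec.map (CommRingCat.ofHom (Ideal.Quotient.mk I)) ≫ hV.isoSpec.inv).appTop.hom r = 0 ↔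
      Ideal.Quotient.mk I (V.topIso.hom.hom r) = 0 := by
    have := congr($(h1).hom r)
    simp only [CommRingCat.hom_comp, RingHom.comp_apply, CommRingCat.hom_ofHom] at this
    rw [← this]
    exact (map_eq_zero_iff _ (ConcreteCategory.bijective_of_isIso
      (Scheme.ΓSpecIso (CommRingCat.of (Γ(X, V) ⧸ I))).hom).1).symm
  rw [RingHom.mem_ker]
  change (Spec.map (CommRingCat.ofHom (Ideal.Quotient.mk I)) ≫ hV.isoSpec.inv).appTop.hom r = 0 ↔ _
  rw [h2, Ideal.Quotient.eq_zero_iff_mem]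
  constructor
  · intro h
    have : r = V.topIso.inv.hom (V.topIso.hom.hom r) := by
      rw [← RingHom.comp_apply, ← CommRingCat.hom_comp, Iso.hom_inv_id]; rfl
    rw [this]
    exact Ideal.mem_map_of_mem _ h
  · intro h
    have hle : I.map V.topIso.inv.hom ≤ I.comap V.topIso.hom.hom := by
      rw [Ideal.map_le_iff_le_comap]
      intro a ha
      rw [Ideal.mem_comap, Ideal.mem_comap, ← RingHom.comp_apply, ← CommRingCat.hom_comp,
        Iso.inv_hom_id]
      exact ha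
    exact hle h



variable {X S : Scheme.{u}}

set_option backward.isDefEq.respectTransparency false in
set_option maxHeartbeats 800000 in
/-- the scheme-theoretic cut defined by a regular sequence on an affine chart -/
theorem exists_cut_of_chart (f : X ⟶ S) [LocallyOfFinitePresentation f] (x : X)
    {W : S.Opens} (hW : IsAffineOpen W) {V : X.Opens} (hV : IsAffineOpen V)
    (e : V ≤ f ⁻¹ᵁ W) (hxV : x ∈ V) (rs : List Γ(X, V))
    (hreg : IsWeaklyRegular Γ(X, V) rs)
    (hx : ∀ r ∈ rs, r ∈ (hV.primeIdealOf ⟨x, hxV⟩).asIdeal)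
    (hflat : ((Ideal.Quotient.mk (Ideal.ofList rs)).comp (f.appLE W V e).hom).Flat)
    (hqf : ((Ideal.Quotient.mk (Ideal.ofList rs)).comp (f.appLE W V e).hom).QuasiFinite)
    (huniq : ∀ y : PrimeSpectrum Γ(X, V), (∀ r ∈ rs, r ∈ y.asIdeal) →
      f (hV.fromSpec y) = f x → hV.fromSpec y = x) :
    ∃ (Z : Scheme.{u}) (i : Z ⟶ (V : Scheme.{u})), Mor2.IsRegularClosedImmersion i ∧
      x ∈ Set.range ⇑(i ≫ V.ι) ∧ Flat (i ≫ V.ι ≫ f) ∧
      LocallyOfFinitePresentation (i ≫ V.ι ≫ f) ∧ LocallyQuasiFinite (i ≫ V.ι ≫ f) ∧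
      ∀ z : Z, f (V.ι (i z)) = f x → V.ι (i z) = x := by
  haveI : IsAffine (V : Scheme.{u}) := hV
  set I : Ideal Γ(X, V) := Ideal.ofList rs with hI
  let a : Spec (CommRingCat.of (Γ(X, V) ⧸ I)) ⟶ Spec Γ(X, V) :=
    Spec.map (CommRingCat.ofHom (Ideal.Quotient.mk I))
  let i : Spec (CommRingCat.of (Γ(X, V) ⧸ I)) ⟶ (V : Scheme.{u}) := a ≫ hV.isoSpec.inv
  have hiι : i ≫ V.ι = a ≫ hV.fromSpec := by
    simp only [i, Category.assoc, IsAffineOpen.isoSpec_inv_ι]
  have hif : i ≫ V.ι ≫ f = Spec.map (f.appLE W V e ≫ CommRingCat.ofHom (Ideal.Quotient.mk I)) ≫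
      hW.fromSpec := by
    rw [← Category.assoc, hiι, Category.assoc, ← IsAffineOpen.SpecMap_appLE_fromSpec f hW hV e,
      ← Category.assoc, ← Spec.map_comp]
  have hIle : ∀ y : PrimeSpectrum Γ(X, V), (∀ r ∈ rs, r ∈ y.asIdeal) → I ≤ y.asIdeal :=
    fun y hy => by rw [hI, Ideal.ofList, Ideal.span_le]; exact fun r hr => hy r hr
  have hrange : ∀ y : PrimeSpectrum Γ(X, V), y ∈ Set.range ⇑a ↔ I ≤ y.asIdeal := by
    intro y
    have : Set.range ⇑a = PrimeSpectrum.zeroLocus (I : Set Γ(X, V)) := by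
      have h1 := _root_.range_comap_of_surjective (Γ(X, V) ⧸ I) (Ideal.Quotient.mk I)
        Ideal.Quotient.mk_surjective
      rw [Ideal.mk_ker] at h1
      exact h1
    rw [this, PrimeSpectrum.mem_zeroLocus, SetLike.coe_subset_coe]
  set y₀ := hV.primeIdealOf ⟨x, hxV⟩ with hy₀
  have hIy₀ : I ≤ y₀.asIdeal := hIle y₀ hx
  have hIne : I ≠ ⊤ := fun h => y₀.2.ne_top (top_le_iff.mp (h ▸ hIy₀))
  refine ⟨_, i, ⟨?_, ?_⟩, ?_, ?_, ?_, ?_, ?_⟩
  · haveI : IsClosedImmersion a :=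
      IsClosedImmersion.spec_of_surjective _ Ideal.Quotient.mk_surjective
    infer_instance
  · intro z
    refine ⟨⊤, isAffineOpen_top _, trivial, rs.map V.topIso.inv.hom, ?_, ?_⟩
    · have h1 : IsRegular Γ(X, V) rs :=
        (Groth.Agent.H1.RegComp.isRegular_iff_ne_top rs).mpr ⟨hreg, hIne⟩
      exact isRegular_map_ringEquiv V.topIso.symm.commRingCatIsoToRingEquiv rs h1
    · rw [ker_ideal_top hV I, hI, Ideal.map_ofList]
  · obtain ⟨z, hz⟩ := (hrange y₀).mpr hIy₀
    refine ⟨z, ?_⟩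
    rw [hiι, Scheme.Hom.comp_apply, hz, hy₀, hV.fromSpec_primeIdealOf]
  · rw [hif]
    haveI : Flat (Spec.map (f.appLE W V e ≫ CommRingCat.ofHom (Ideal.Quotient.mk I))) := by
      rw [HasRingHomProperty.Spec_iff (P := @Flat)]
      exact hflat
    infer_instance
  · rw [hif]
    haveI : LocallyOfFinitePresentation
        (Spec.map (f.appLE W V e ≫ CommRingCat.ofHom (Ideal.Quotient.mk I))) := by
      rw [HasRingHomProperty.Spec_iff (P := @LocallyOfFinitePresentation)]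
      rw [CommRingCat.hom_comp, CommRingCat.hom_ofHom]
      refine RingHom.FinitePresentation.comp ?_ (f.finitePresentation_appLE hW hV e)
      exact RingHom.FinitePresentation.of_surjective _ Ideal.Quotient.mk_surjective (by
        rw [Ideal.mk_ker]; exact Submodule.fg_span (List.finite_toSet rs))
    infer_instance
  · rw [hif]
    haveI : LocallyQuasiFinite
        (Spec.map (f.appLE W V e ≫ CommRingCat.ofHom (Ideal.Quotient.mk I))) := by
      rw [HasRingHomProperty.Spec_iff (P := @LocallyQuasiFinite)]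
      exact hqf
    infer_instance
  · intro z hz
    have h1 : V.ι (i z) = hV.fromSpec (a z) := by
      rw [← Scheme.Hom.comp_apply, hiι, Scheme.Hom.comp_apply]
    rw [h1] at hz ⊢
    have h2 : I ≤ (a z).asIdeal := (hrange (a z)).mp ⟨z, rfl⟩
    exact huniq (a z) (fun r hr => h2 (Ideal.subset_span hr)) hz



variable {X S : Scheme.{u}}

theorem primeIdealOf_fromSpec {U : X.Opens} (hU : IsAffineOpen U) (y : PrimeSpectrum Γ(X, U))
    (hy : hU.fromSpec y ∈ U) : hU.primeIdealOf ⟨hU.fromSpec y, hy⟩ = y :=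
  hU.fromSpec.isOpenEmbedding.injective (hU.fromSpec_primeIdealOf ⟨hU.fromSpec y, hy⟩)

theorem fromSpec_mem {U : X.Opens} (hU : IsAffineOpen U) (y : PrimeSpectrum Γ(X, U)) :
    hU.fromSpec y ∈ U := by
  have : hU.fromSpec y ∈ Set.range hU.fromSpec := ⟨y, rfl⟩
  rw [hU.range_fromSpec] at this
  exact this

set_option backward.isDefEq.respectTransparency false in
set_option maxHeartbeats 1600000 in
theorem s1349 (f : X ⟶ S) [LocallyOfFinitePresentation f] (x : X)
    (hcm : MoreMor.IsCMAt f x) (hcl : IsClosed ({f.asFiber x} : Set ↑(f.fiber (f x)))) :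
    ∃ (V : X.Opens) (Z : Scheme.{u}) (i : Z ⟶ (V : Scheme.{u})),
      Mor2.IsRegularClosedImmersion i ∧ x ∈ Set.range ⇑(i ≫ V.ι) ∧
      Flat (i ≫ V.ι ≫ f) ∧ LocallyOfFinitePresentation (i ≫ V.ι ≫ f) ∧
      LocallyQuasiFinite (i ≫ V.ι ≫ f) ∧
      ∀ z : Z, f (V.ι (i z)) = f x → V.ι (i z) = x := by
  obtain ⟨_, ⟨W, hW, rfl⟩, hfxW, -⟩ :=
    S.isBasis_affineOpens.exists_subset_of_mem_open (Set.mem_univ (f x)) isOpen_univ
  obtain ⟨_, ⟨U, hU, rfl⟩, hxU, hUsub⟩ := X.isBasis_affineOpens.exists_subset_of_mem_open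
    (show x ∈ ((f ⁻¹ᵁ W : X.Opens) : Set X) from hfxW) (f ⁻¹ᵁ W).isOpen
  have e : U ≤ f ⁻¹ᵁ W := hUsub
  letI algAB : Algebra Γ(S, W) Γ(X, U) := (f.appLE W U e).hom.toAlgebra
  haveI : Algebra.FinitePresentation Γ(S, W) Γ(X, U) := f.finitePresentation_appLE hW hU e
  set q : Ideal Γ(X, U) := (hU.primeIdealOf ⟨x, hxU⟩).asIdeal with hq
  letI algBO : Algebra Γ(X, U) (X.presheaf.stalk x) :=
    TopCat.Presheaf.algebra_section_stalk X.presheaf ⟨x, hxU⟩
  haveI locO : IsLocalization.AtPrime (X.presheaf.stalk x) q := hU.isLocalization_stalk ⟨x, hxU⟩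
  have hflatq : Module.Flat Γ(S, W) (LocalizedModule q.primeCompl Γ(X, U)) :=
    (Groth.Agent.H1.CMQF.flat_stalkMap_iff_chart f hW hU e x hxU).mp hcm.1
  haveI hCM : LocCoh.IsCohenMacaulayLocalRing (X.presheaf.stalk x ⧸
      Groth.Agent.H1.RegCut.fibId (A := Γ(S, W)) (O := X.presheaf.stalk x) q) := by
    haveI := hcm.2
    have h1 : LocCoh.IsCohenMacaulayLocalRing (X.presheaf.stalk x ⧸
        (IsLocalRing.maximalIdeal (S.presheaf.stalk (f x))).map (f.stalkMap x).hom) :=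
      Groth.Agent.H6.Liai.cmLocal_of_ringEquiv (Groth.Agent.H1.FibreStalk.fiberStalkEquiv f x).symm
    have h2 := Groth.Agent.H1.SchFlat.map_maximalIdeal_stalkMap_eq f hU hW e x hxU
    rw [h2] at h1
    exact h1
  have hcl' := (Groth.Agent.H5.FtPts.isClosed_singleton_asFiber_iff f x).mp hcl
  have hcomap : ∀ (x' : X) (hx' : x' ∈ U), f x' = f x →
      (hU.primeIdealOf ⟨x', hx'⟩).asIdeal.comap (algebraMap Γ(S, W) Γ(X, U)) =
        q.comap (algebraMap Γ(S, W) Γ(X, U)) := by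
    intro x' hx' hfx
    have h1 := Groth.Agent.H1.SchFlat.primeIdealOf_comap f hU hW e x' hx'
    have h2 := Groth.Agent.H1.SchFlat.primeIdealOf_comap f hU hW e x hxU
    have h3 : (hW.primeIdealOf ⟨f x', e hx'⟩).asIdeal = (hW.primeIdealOf ⟨f x, e hxU⟩).asIdeal := by
      congr 2
      exact Subtype.ext hfx
    exact h1.symm.trans (h3.trans h2)
  have hpt : ∀ Q : Ideal Γ(X, U), ∀ hQ : Q.IsPrime,
      (hU.primeIdealOf ⟨hU.fromSpec ⟨Q, hQ⟩, fromSpec_mem hU _⟩).asIdeal = Q := fun Q hQ => by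
    rw [primeIdealOf_fromSpec hU ⟨Q, hQ⟩]
  have hmax : ∀ Q : Ideal Γ(X, U), Q.IsPrime → q ≤ Q →
      Q.comap (algebraMap Γ(S, W) Γ(X, U)) = q.comap (algebraMap Γ(S, W) Γ(X, U)) → Q = q := by
    intro Q hQ hle hc
    set x' := hU.fromSpec ⟨Q, hQ⟩ with hx'
    have hx'U : x' ∈ U := fromSpec_mem hU _
    have hsp : x ⤳ x' := by
      have h1 : hU.primeIdealOf ⟨x, hxU⟩ ⤳ (⟨Q, hQ⟩ : PrimeSpectrum Γ(X, U)) :=
        (PrimeSpectrum.le_iff_specializes _ _).mp hle
      have h2 := h1.map hU.fromSpec.continuous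
      rwa [hU.fromSpec_primeIdealOf] at h2
    have hfx : f x' = f x := by
      have h1 := Groth.Agent.H1.SchFlat.primeIdealOf_comap f hU hW e x' hx'U
      have h2 := Groth.Agent.H1.SchFlat.primeIdealOf_comap f hU hW e x hxU
      rw [hpt Q hQ] at h1
      have h3 : hW.primeIdealOf ⟨f x', e hx'U⟩ = hW.primeIdealOf ⟨f x, e hxU⟩ :=
        PrimeSpectrum.ext (h1.trans (hc.trans h2.symm))
      have h4 := congrArg hW.fromSpec h3
      rwa [hW.fromSpec_primeIdealOf, hW.fromSpec_primeIdealOf] at h4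
    have h5 : x' = x := hcl' x' hsp hfx
    have h6 := hpt Q hQ
    rw [← h6]
    congr 3
  obtain ⟨t, gs, ht, hgq, huniq, H⟩ := Groth.Agent.H1.RegCut.core (A := Γ(S, W))
    (O := X.presheaf.stalk x) q hflatq hmax
  have hxV : x ∈ X.basicOpen t := by
    by_contra hcon
    exact ht ((mem_primeIdealOf_iff hU x hxU t).mpr hcon)
  have hV : IsAffineOpen (X.basicOpen t) := hU.basicOpen t
  have hVU : X.basicOpen t ≤ U := X.basicOpen_le t
  have e' : X.basicOpen t ≤ f ⁻¹ᵁ W := hVU.trans e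
  letI algAR : Algebra Γ(S, W) Γ(X, X.basicOpen t) := (f.appLE W (X.basicOpen t) e').hom.toAlgebra
  haveI tower : IsScalarTower Γ(S, W) Γ(X, U) Γ(X, X.basicOpen t) :=
    IsScalarTower.of_algebraMap_eq' (by
      simp only [RingHom.algebraMap_toAlgebra]
      rw [← CommRingCat.hom_comp, Scheme.Hom.appLE_map])
  haveI locR : IsLocalization.Away t Γ(X, X.basicOpen t) := hU.isLocalization_basicOpen t
  obtain ⟨hreg, hflat, hqf⟩ := H Γ(X, X.basicOpen t)
  have hres : ∀ (g : Γ(X, U)) (x' : X), x' ∈ X.basicOpen t →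
      (x' ∉ X.basicOpen (algebraMap Γ(X, U) Γ(X, X.basicOpen t) g) ↔ x' ∉ X.basicOpen g) := by
    intro g x' hx'
    have : X.basicOpen (algebraMap Γ(X, U) Γ(X, X.basicOpen t) g) = X.basicOpen t ⊓ X.basicOpen g :=
      Scheme.basicOpen_res _ _ _
    rw [this]
    constructor
    · intro h h'; exact h ⟨hx', h'⟩
    · intro h h'; exact h h'.2
  refine ⟨X.basicOpen t, exists_cut_of_chart f x hW hV e' hxV
    (gs.map (algebraMap Γ(X, U) Γ(X, X.basicOpen t))) hreg ?_ ?_ ?_ ?_⟩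
  · intro r hr
    obtain ⟨g, hg, rfl⟩ := List.mem_map.mp hr
    rw [mem_primeIdealOf_iff hV x hxV, hres g x hxV, ← mem_primeIdealOf_iff hU x hxU]
    exact hgq g hg
  · have := RingHom.flat_algebraMap_iff.mpr hflat
    exact this
  · have := RingHom.quasiFinite_algebraMap.mpr hqf
    exact this
  · intro y hy hfy
    set x' := hV.fromSpec y with hx'
    have hx'V : x' ∈ X.basicOpen t := fromSpec_mem hV y
    have hx'U : x' ∈ U := hVU hx'V
    have hy' : hV.primeIdealOf ⟨x', hx'V⟩ = y := primeIdealOf_fromSpec hV y hx'V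
    have hQ : (hU.primeIdealOf ⟨x', hx'U⟩).asIdeal = q := by
      refine huniq _ (hU.primeIdealOf ⟨x', hx'U⟩).2 ?_ ?_ (hcomap x' hx'U hfy)
      · intro h
        exact ((mem_primeIdealOf_iff hU x' hx'U t).mp h) hx'V
      · intro g hg
        rw [mem_primeIdealOf_iff hU x' hx'U, ← hres g x' hx'V, ← mem_primeIdealOf_iff hV x' hx'V,
          hy']
        exact hy _ (List.mem_map.mpr ⟨g, hg, rfl⟩)
    have h1 : hU.primeIdealOf ⟨x', hx'U⟩ = hU.primeIdealOf ⟨x, hxU⟩ := PrimeSpectrum.ext hQ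
    have h2 := congrArg hU.fromSpec h1
    rwa [hU.fromSpec_primeIdealOf, hU.fromSpec_primeIdealOf] at h2

end Groth.Agent.H1.RegCutSch
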