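import Mathlib
import Groth.Agent.Lib.Helper8.Hens.HenselianFinite

set_option autoImplicit false
universe u

namespace Groth.Agent.H1.ChevAlg

open IsLocalRing TensorProduct CategoryTheory AlgebraicGeometry

/-- surjectivity on prime spectra is stable under base change. -/
theorem comap_surjective_baseChange (K C B : Type u) [CommRing K] [CommRing C] [CommRing B]
    [Algebra K C] [Algebra K B]
    (h : Function.Surjective (PrimeSpectrum.comap (algebraMap K B))) :
    Function.Surjective (PrimeSpectrum.comap (algebraMap C (C ⊗[K] B))) := by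
  have sq := isPullback_SpecMap_of_isPushout _ _ _ _
    (CommRingCat.isPushout_tensorProduct K C B)
  haveI : Surjective (Spec.map (CommRingCat.ofHom (algebraMap K B))) := ⟨h⟩
  have h2 : Surjective (Spec.map (CommRingCat.ofHom
      (Algebra.TensorProduct.includeLeftRingHom : C →+* C ⊗[K] B))) :=
    MorphismProperty.of_isPullback sq.flip inferInstance
  exact h2.surj

/-- the factor cut out by an idempotent isolating a prime in the closed fibre is local. -/
theorem comap_mk_eq_of_isMaximal {R S : Type*} [CommRing R] [IsLocalRing R] [CommRing S]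
    [Algebra R S] (𝔟 : Ideal S) (e : S)
    [Module.Finite R (S ⧸ Ideal.span {1 - e})]
    (huniq : ∀ q' : Ideal S, q'.IsPrime → q'.LiesOver (maximalIdeal R) → e ∉ q' → q' = 𝔟)
    (M : Ideal (S ⧸ Ideal.span {1 - e})) [hM : M.IsMaximal] :
    M.comap (Ideal.Quotient.mk (Ideal.span {1 - e})) = 𝔟 := by
  haveI : Algebra.IsIntegral R (S ⧸ Ideal.span {1 - e}) := Algebra.IsIntegral.of_finite R _
  have h1 : M.comap (algebraMap R (S ⧸ Ideal.span {1 - e})) = maximalIdeal R :=
    Groth.Agent.H8.Hens.comap_eq_maximalIdeal_of_isMaximal M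
  apply huniq
  · exact Ideal.comap_isPrime _ _
  · refine ⟨?_⟩
    rw [Ideal.under_def, Ideal.comap_comap, ← h1]
    rfl
  · intro he
    have he' : Ideal.Quotient.mk (Ideal.span {1 - e}) e ∈ M := he
    have h0 : Ideal.Quotient.mk (Ideal.span {1 - e}) (1 - e) = 0 :=
      Ideal.Quotient.eq_zero_iff_mem.mpr (Ideal.mem_span_singleton_self _)
    rw [map_sub, map_one, sub_eq_zero] at h0
    rw [← h0] at he'
    exact hM.ne_top ((Ideal.eq_top_iff_one M).mpr he')

theorem isLocalRing_quotient_of_idempotent {R S : Type*} [CommRing R] [IsLocalRing R] [CommRing S]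
    [Algebra R S] (𝔟 : Ideal S) [h𝔟 : 𝔟.IsPrime] (e : S) (he𝔟 : e ∉ 𝔟) (hidem : IsIdempotentElem e)
    [Module.Finite R (S ⧸ Ideal.span {1 - e})]
    (huniq : ∀ q' : Ideal S, q'.IsPrime → q'.LiesOver (maximalIdeal R) → e ∉ q' → q' = 𝔟) :
    IsLocalRing (S ⧸ Ideal.span {1 - e}) := by
  have h1e : 1 - e ∈ 𝔟 := by
    have : e * (1 - e) ∈ 𝔟 := by
      rw [mul_sub, mul_one, hidem.eq, sub_self]; exact zero_mem _
    exact (h𝔟.mem_or_mem this).resolve_left he𝔟
  haveI : Nontrivial (S ⧸ Ideal.span {1 - e}) := by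
    rw [Ideal.Quotient.nontrivial_iff]
    intro htop
    have : (Ideal.span {1 - e} : Ideal S) ≤ 𝔟 := (Ideal.span_singleton_le_iff_mem _).mpr h1e
    rw [htop] at this
    exact h𝔟.ne_top (top_le_iff.mp this)
  obtain ⟨M₀, hM₀⟩ := Ideal.exists_maximal (S ⧸ Ideal.span {1 - e})
  refine IsLocalRing.of_unique_max_ideal ⟨M₀, hM₀, fun M hM => ?_⟩
  have hinj := Ideal.comap_injective_of_surjective (Ideal.Quotient.mk (Ideal.span {1 - e}))
    Ideal.Quotient.mk_surjective
  apply hinj
  rw [comap_mk_eq_of_isMaximal (R := R) 𝔟 e huniq M, comap_mk_eq_of_isMaximal (R := R) 𝔟 e huniq M₀]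

end Groth.Agent.H1.ChevAlg
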