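import Mathlib
import Groth.Prelude.Def_CAlg2
import Groth.Prelude.Def_CAlgX
import Groth.Prelude.Def_Hensel
import Groth.Agent.Lib.Helper1.ChevAlgA
import Groth.Agent.Lib.Helper8.Hens.Strict
import Groth.Agent.Lib.Helper8.Hens.StrictQuot
import Groth.Agent.Lib.Helper8.Hens.UniqueMinPrime
import Groth.Agent.Lib.Helper8.Hens.Fibre
import Groth.Agent.Lib.Helper8.Hens.LocalTensor
import Groth.Agent.Lib.Helper8.Hens.QuasiFiniteSplit
import Groth.Agent.Lib.Helper8.Hens.HenselianFinite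
import Groth.Agent.Lib.Helper8.Hens.PITensor2

set_option autoImplicit false
set_option linter.style.haveILetI false
universe u

namespace Groth.Agent.H1.ChevAlg

open IsLocalRing TensorProduct Groth.Agent.H8.Hens

set_option maxHeartbeats 1600000 in
/-- **Algebraic core of Chevalley's criterion.** -/
theorem exists_prime_le_of_strict (A₀ B₀ : Type u) [CommRing A₀] [CommRing B₀] [Algebra A₀ B₀]
    [Algebra.FiniteType A₀ B₀] [Algebra.QuasiFinite A₀ B₀]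
    (q₀ : Ideal B₀) [q₀.IsPrime] (p₀ : Ideal A₀) [p₀.IsPrime]
    (hGU : CAlg2.IsGeomUnibranch (Localization.AtPrime p₀))
    (H : ∀ 𝔮 ∈ minimalPrimes B₀, 𝔮 ≤ q₀ → 𝔮.comap (algebraMap A₀ B₀) ∈ minimalPrimes A₀)
    (Rd : Type u) [CommRing Rd] [IsDomain Rd] [HenselianLocalRing Rd]
    [IsSepClosed (ResidueField Rd)]
    [Algebra A₀ Rd] (hRd : (maximalIdeal Rd).comap (algebraMap A₀ Rd) = p₀)
    (𝔵 : Ideal (Rd ⊗[A₀] B₀)) [𝔵.IsPrime]
    (h1 : 𝔵.comap (algebraMap Rd (Rd ⊗[A₀] B₀)) = maximalIdeal Rd)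
    (h2 : 𝔵.comap (Algebra.TensorProduct.includeRight : B₀ →ₐ[A₀] Rd ⊗[A₀] B₀).toRingHom = q₀) :
    ∃ 𝔷 : Ideal (Rd ⊗[A₀] B₀), 𝔷.IsPrime ∧ 𝔷 ≤ 𝔵 ∧
      𝔷.comap (algebraMap Rd (Rd ⊗[A₀] B₀)) = ⊥ := by
  classical
  -- the local ring `A` and its strict henselization
  let A := Localization.AtPrime p₀
  let Ash := StrictHenselization A
  haveI hSH : Hensel.IsStrictHenselization A Ash := isStrictHenselization
  letI : Algebra A₀ Ash := ((algebraMap A Ash).comp (algebraMap A₀ A)).toAlgebra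
  haveI : IsScalarTower A₀ A Ash := IsScalarTower.of_algebraMap_eq (fun _ => rfl)
  -- the map `A → Rd`
  have hunit : ∀ s : p₀.primeCompl, IsUnit (algebraMap A₀ Rd s) := by
    intro s
    by_contra hns
    have h3 : algebraMap A₀ Rd s ∈ maximalIdeal Rd := (mem_maximalIdeal _).mpr hns
    have h4 : (s : A₀) ∈ (maximalIdeal Rd).comap (algebraMap A₀ Rd) := h3
    rw [hRd] at h4
    exact s.2 h4
  let ψ : A →+* Rd := IsLocalization.lift (M := p₀.primeCompl) hunit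
  have hψ : ψ.comp (algebraMap A₀ A) = algebraMap A₀ Rd := IsLocalization.lift_comp _
  haveI : IsLocalHom ψ := by
    apply ((local_hom_TFAE ψ).out 0 3).mpr
    rw [← Localization.AtPrime.map_eq_maximalIdeal, Ideal.map_le_iff_le_comap, Ideal.comap_comap,
      hψ, hRd]
  obtain ⟨lam, hlam, hlamloc⟩ := LT.exists_lift_of_isSepClosed (A := A) (S := Ash) Rd ψ
  letI : Algebra Ash Rd := lam.toAlgebra
  haveI : IsScalarTower A₀ Ash Rd := IsScalarTower.of_algebraMap_eq (fun a => by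
    show algebraMap A₀ Rd a = lam (algebraMap A Ash (algebraMap A₀ A a))
    rw [← hψ]
    exact (congrArg (fun φ : A →+* Rd => φ (algebraMap A₀ A a)) hlam).symm)
  haveI : IsLocalHom (algebraMap Ash Rd) := hlamloc
  -- the unique minimal prime
  have hnil : (nilradical Ash).IsPrime :=
    (UMP.hasUniqueMinimalPrime_iff Ash).mp (UMP.isGeomUnibranch_iff.mp hGU)
  -- flatness
  haveI : Module.Flat A Ash := flat_of_isStrictHenselization (R := A) Ash
  haveI : Module.Flat A₀ Ash := Module.Flat.trans A₀ A Ash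
  -- the rings
  let S := Ash ⊗[A₀] B₀
  let c : Rd ⊗[Ash] S ≃ₐ[Rd] Rd ⊗[A₀] B₀ := Algebra.TensorProduct.cancelBaseChange A₀ Ash Rd Rd B₀
  let X2 : Ideal (Rd ⊗[Ash] S) := 𝔵.comap (c : Rd ⊗[Ash] S →+* Rd ⊗[A₀] B₀)
  haveI hX2p : X2.IsPrime := Ideal.comap_isPrime _ _
  have hX2Rd : X2.comap (algebraMap Rd (Rd ⊗[Ash] S)) = maximalIdeal Rd := by
    rw [← h1, Ideal.comap_comap]
    congr 1
    ext r
    exact c.commutes r
  let iS : S →+* Rd ⊗[Ash] S := (Algebra.TensorProduct.includeRight : S →ₐ[Ash] Rd ⊗[Ash] S).toRingHom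
  let 𝔟 : Ideal S := X2.comap iS
  haveI h𝔟p : 𝔟.IsPrime := Ideal.comap_isPrime _ _
  have hb1 : 𝔟.comap (algebraMap Ash S) = maximalIdeal Ash := by
    have e1 : iS.comp (algebraMap Ash S) =
        (algebraMap Rd (Rd ⊗[Ash] S)).comp (algebraMap Ash Rd) := by
      ext a
      show (1 : Rd) ⊗ₜ[Ash] (algebraMap Ash S a) = algebraMap Rd (Rd ⊗[Ash] S) (algebraMap Ash Rd a)
      have hL : algebraMap Ash S a = a • (1 : S) := Algebra.algebraMap_eq_smul_one a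
      have hR : algebraMap Rd (Rd ⊗[Ash] S) (algebraMap Ash Rd a) =
          (algebraMap Ash Rd a) ⊗ₜ[Ash] (1 : S) := by
        rw [Algebra.TensorProduct.algebraMap_apply]; rfl
      rw [hL, hR, TensorProduct.tmul_smul, TensorProduct.smul_tmul',
        Algebra.algebraMap_eq_smul_one (R := Ash) (A := Rd) a]
    rw [Ideal.comap_comap, e1, ← Ideal.comap_comap, hX2Rd]
    exact ((local_hom_TFAE (algebraMap Ash Rd)).out 0 4).mp ‹IsLocalHom (algebraMap Ash Rd)›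
  let jB : B₀ →+* S := (Algebra.TensorProduct.includeRight : B₀ →ₐ[A₀] S).toRingHom
  have hb2 : 𝔟.comap jB = q₀ := by
    rw [← h2, Ideal.comap_comap, Ideal.comap_comap]
    congr 1
    ext b
    show c ((1 : Rd) ⊗ₜ[Ash] ((1 : Ash) ⊗ₜ[A₀] b)) = (1 : Rd) ⊗ₜ[A₀] b
    rw [Algebra.TensorProduct.cancelBaseChange_tmul, one_smul]
  -- going down along `B₀ → S`
  obtain ⟨𝔮₀, h𝔮₀min, h𝔮₀le⟩ := Ideal.exists_minimalPrimes_le (show (⊥ : Ideal B₀) ≤ q₀ from bot_le)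
  haveI h𝔮₀p : 𝔮₀.IsPrime := h𝔮₀min.1.1
  have hflat : jB.Flat := by
    have f1 : (algebraMap B₀ (B₀ ⊗[A₀] Ash)).Flat := RingHom.flat_algebraMap_iff.mpr inferInstance
    have f2 : ((Algebra.TensorProduct.comm A₀ B₀ Ash : B₀ ⊗[A₀] Ash ≃ₐ[A₀] Ash ⊗[A₀] B₀) :
        B₀ ⊗[A₀] Ash →+* Ash ⊗[A₀] B₀).Flat :=
      RingHom.Flat.of_bijective (AlgEquiv.bijective _)
    have f3 : jB = ((Algebra.TensorProduct.comm A₀ B₀ Ash : B₀ ⊗[A₀] Ash ≃ₐ[A₀] Ash ⊗[A₀] B₀) :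
        B₀ ⊗[A₀] Ash →+* Ash ⊗[A₀] B₀).comp (algebraMap B₀ (B₀ ⊗[A₀] Ash)) := by
      ext b
      show (1 : Ash) ⊗ₜ[A₀] b = Algebra.TensorProduct.comm A₀ B₀ Ash (algebraMap B₀ (B₀ ⊗[A₀] Ash) b)
      rw [Algebra.TensorProduct.algebraMap_apply, Algebra.algebraMap_self, RingHom.id_apply,
        Algebra.TensorProduct.comm_tmul]
    rw [f3]
    exact RingHom.Flat.comp f1 f2
  have hgen := hflat.generalizingMap_comap
  have hsp0 : (⟨𝔮₀, h𝔮₀p⟩ : PrimeSpectrum B₀) ⤳ PrimeSpectrum.comap jB ⟨𝔟, h𝔟p⟩ := by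
    rw [← PrimeSpectrum.le_iff_specializes]
    show 𝔮₀ ≤ 𝔟.comap jB
    rw [hb2]; exact h𝔮₀le
  obtain ⟨Q, hQsp, hQc⟩ := hgen hsp0
  have hQle : Q.asIdeal ≤ 𝔟 := (PrimeSpectrum.le_iff_specializes Q ⟨𝔟, h𝔟p⟩).mpr hQsp
  have hQc' : Q.asIdeal.comap jB = 𝔮₀ := congrArg PrimeSpectrum.asIdeal hQc
  -- the contraction of `Q` to `Ash` is the nilradical
  let 𝔓 : Ideal Ash := Q.asIdeal.comap (algebraMap Ash S)
  haveI h𝔓p : 𝔓.IsPrime := Ideal.comap_isPrime _ _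
  have h𝔓A₀ : 𝔓.comap (algebraMap A₀ Ash) = 𝔮₀.comap (algebraMap A₀ B₀) := by
    rw [← hQc', Ideal.comap_comap, Ideal.comap_comap]
    congr 1
    ext a
    show algebraMap Ash S (algebraMap A₀ Ash a) = (1 : Ash) ⊗ₜ[A₀] (algebraMap A₀ B₀ a)
    have hL : algebraMap Ash S (algebraMap A₀ Ash a) = (algebraMap A₀ Ash a) ⊗ₜ[A₀] (1 : B₀) := by
      rw [Algebra.TensorProduct.algebraMap_apply]; rfl
    rw [hL, Algebra.algebraMap_eq_smul_one (R := A₀) (A := B₀) a,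
      Algebra.algebraMap_eq_smul_one (R := A₀) (A := Ash) a, TensorProduct.tmul_smul,
      TensorProduct.smul_tmul']
  have hminA₀ := H 𝔮₀ h𝔮₀min h𝔮₀le
  have hnle : nilradical Ash ≤ 𝔓 := nilradical_le_prime 𝔓
  have hnA₀ : (nilradical Ash).comap (algebraMap A₀ Ash) = 𝔓.comap (algebraMap A₀ Ash) := by
    apply le_antisymm (Ideal.comap_mono hnle)
    rw [h𝔓A₀]
    haveI : ((nilradical Ash).comap (algebraMap A₀ Ash)).IsPrime := Ideal.comap_isPrime _ _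
    refine hminA₀.2 ⟨inferInstance, bot_le⟩ ?_
    rw [← h𝔓A₀]
    exact Ideal.comap_mono hnle
  have hnA : (nilradical Ash).comap (algebraMap A Ash) = 𝔓.comap (algebraMap A Ash) := by
    have key : ∀ I : Ideal Ash, (I.comap (algebraMap A Ash)).comap (algebraMap A₀ A) =
        I.comap (algebraMap A₀ Ash) := by
      intro I
      rw [Ideal.comap_comap, ← IsScalarTower.algebraMap_eq]
    have e1 := IsLocalization.map_comap p₀.primeCompl A ((nilradical Ash).comap (algebraMap A Ash))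
    have e2 := IsLocalization.map_comap p₀.primeCompl A (𝔓.comap (algebraMap A Ash))
    rw [← e1, ← e2]
    show Ideal.map _ (((nilradical Ash).comap (algebraMap A Ash)).comap (algebraMap A₀ A)) =
      Ideal.map _ ((𝔓.comap (algebraMap A Ash)).comap (algebraMap A₀ A))
    rw [key, key, hnA₀]
  have h𝔓eq : nilradical Ash = 𝔓 :=
    fibresDiscrete_of_isStrictHenselization (R := A) Ash (nilradical Ash) 𝔓 hnle hnA
  -- the idempotent
  haveI : 𝔟.LiesOver (maximalIdeal Ash) := ⟨hb1.symm⟩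
  obtain ⟨e, hidem, he𝔟, hfin, huniq⟩ := exists_idempotent_of_quasiFiniteAt Ash S 𝔟
  haveI : Module.Finite Ash (S ⧸ Ideal.span {1 - e}) := hfin
  haveI hBloc : IsLocalRing (S ⧸ Ideal.span {1 - e}) :=
    isLocalRing_quotient_of_idempotent (R := Ash) 𝔟 e he𝔟 hidem huniq
  haveI : IsLocalHom (algebraMap Ash (S ⧸ Ideal.span {1 - e})) := LT.isLocalHom_of_finite Ash _
  have h1e_of : ∀ I : Ideal S, I.IsPrime → e ∉ I → 1 - e ∈ I := by
    intro I hI heI
    have : e * (1 - e) ∈ I := by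
      rw [mul_sub, mul_one, hidem.eq, sub_self]; exact zero_mem _
    exact (hI.mem_or_mem this).resolve_left heI
  have h1eQ : 1 - e ∈ Q.asIdeal := h1e_of _ Q.isPrime (fun h => he𝔟 (hQle h))
  have h1e𝔟 : 1 - e ∈ 𝔟 := h1e_of _ h𝔟p he𝔟
  have hker : RingHom.ker (algebraMap Ash (S ⧸ Ideal.span {1 - e})) ≤ nilradical Ash := by
    intro a ha
    rw [RingHom.mem_ker] at ha
    have h3 : algebraMap Ash S a ∈ Ideal.span {1 - e} := Ideal.Quotient.eq_zero_iff_mem.mp ha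
    have h4 : algebraMap Ash S a ∈ Q.asIdeal :=
      ((Ideal.span_singleton_le_iff_mem _).mpr h1eQ) h3
    rw [h𝔓eq]; exact h4
  haveI : Algebra.IsIntegral Ash (S ⧸ Ideal.span {1 - e}) := Algebra.IsIntegral.of_finite Ash _
  have hsurjB : Function.Surjective
      (PrimeSpectrum.comap (algebraMap Ash (S ⧸ Ideal.span {1 - e}))) := by
    intro P
    obtain ⟨Q', -, hQ'p, hQ'c⟩ := Ideal.exists_ideal_over_prime_of_isIntegral
      (S := S ⧸ Ideal.span {1 - e}) P.asIdeal ⊥ (by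
        rw [← RingHom.ker_eq_comap_bot]
        exact hker.trans (nilradical_le_prime _))
    exact ⟨⟨Q', hQ'p⟩, PrimeSpectrum.ext hQ'c⟩
  -- the local ring `T₁`
  haveI : IsSepClosed (ResidueField Ash) := hSH.isSepClosure.sep_closed
  haveI : IsPurelyInseparable (ResidueField Ash) (ResidueField (S ⧸ Ideal.span {1 - e})) :=
    inferInstance
  haveI : Nontrivial (Rd ⊗[Ash] (S ⧸ Ideal.span {1 - e})) := PI.nontrivial_tensor Ash Rd _
  haveI hT1loc : IsLocalRing (Rd ⊗[Ash] (S ⧸ Ideal.span {1 - e})) := PI.isLocalRing_tensor Ash Rd _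
  have hsurjT := comap_surjective_baseChange Ash Rd (S ⧸ Ideal.span {1 - e}) hsurjB
  obtain ⟨P1, hP1⟩ := hsurjT ⟨⊥, Ideal.isPrime_bot⟩
  have hP1' : P1.asIdeal.comap (algebraMap Rd (Rd ⊗[Ash] (S ⧸ Ideal.span {1 - e}))) = ⊥ :=
    congrArg PrimeSpectrum.asIdeal hP1
  -- the projection
  let π₀ : Rd ⊗[Ash] S →ₐ[Ash] Rd ⊗[Ash] (S ⧸ Ideal.span {1 - e}) :=
    Algebra.TensorProduct.map (AlgHom.id Ash Rd) (Ideal.Quotient.mkₐ Ash (Ideal.span {1 - e}))
  have hπsurj : Function.Surjective π₀ :=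
    Algebra.TensorProduct.map_surjective _ _ Function.surjective_id
      (Ideal.Quotient.mkₐ_surjective Ash _)
  have hπker : RingHom.ker π₀ ≤ X2 := by
    have hk : RingHom.ker (Ideal.Quotient.mkₐ Ash (Ideal.span {1 - e} : Ideal S)) =
        Ideal.span {1 - e} := by
      ext x
      rw [RingHom.mem_ker, Ideal.Quotient.mkₐ_eq_mk, Ideal.Quotient.eq_zero_iff_mem]
    rw [Algebra.TensorProduct.lTensor_ker _ (Ideal.Quotient.mkₐ_surjective Ash _),
      hk, Ideal.map_le_iff_le_comap, Ideal.span_singleton_le_iff_mem]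
    exact h1e𝔟
  have hπsurj' : Function.Surjective π₀.toRingHom := hπsurj
  have hπker' : RingHom.ker π₀.toRingHom ≤ X2 := hπker
  have hπalg : π₀.toRingHom.comp (algebraMap Rd (Rd ⊗[Ash] S)) =
      algebraMap Rd (Rd ⊗[Ash] (S ⧸ Ideal.span {1 - e})) := by
    ext r
    show π₀ (algebraMap Rd (Rd ⊗[Ash] S) r) = _
    rw [Algebra.TensorProduct.algebraMap_apply, Algebra.TensorProduct.algebraMap_apply]
    simp [π₀]
  let X1 : Ideal (Rd ⊗[Ash] (S ⧸ Ideal.span {1 - e})) := X2.map π₀.toRingHom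
  haveI hX1p : X1.IsPrime := Ideal.map_isPrime_of_surjective hπsurj' hπker'
  have hX1c : X1.comap π₀.toRingHom = X2 := by
    rw [Ideal.comap_map_of_surjective _ hπsurj', sup_eq_left]
    exact hπker'
  have hX1Rd : X1.comap (algebraMap Rd (Rd ⊗[Ash] (S ⧸ Ideal.span {1 - e}))) = maximalIdeal Rd := by
    rw [← hπalg, ← Ideal.comap_comap, hX1c, hX2Rd]
  haveI : Algebra.IsIntegral Rd (Rd ⊗[Ash] (S ⧸ Ideal.span {1 - e})) :=
    Algebra.IsIntegral.of_finite Rd _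
  have hX1max : X1.IsMaximal := by
    have hm : (X1.comap (algebraMap Rd (Rd ⊗[Ash] (S ⧸ Ideal.span {1 - e})))).IsMaximal := by
      rw [hX1Rd]; exact maximalIdeal.isMaximal Rd
    exact Ideal.isMaximal_of_isIntegral_of_isMaximal_comap (R := Rd)
      (S := Rd ⊗[Ash] (S ⧸ Ideal.span {1 - e})) X1 hm
  have hX1eq : X1 = maximalIdeal (Rd ⊗[Ash] (S ⧸ Ideal.span {1 - e})) :=
    IsLocalRing.eq_maximalIdeal (R := Rd ⊗[Ash] (S ⧸ Ideal.span {1 - e})) hX1max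
  have hP1le : P1.asIdeal ≤ X1 := by
    rw [hX1eq]
    exact IsLocalRing.le_maximalIdeal (R := Rd ⊗[Ash] (S ⧸ Ideal.span {1 - e})) P1.isPrime.ne_top
  -- conclusion
  let Z2 : Ideal (Rd ⊗[Ash] S) := P1.asIdeal.comap π₀.toRingHom
  have hZ2le : Z2 ≤ X2 := by
    rw [← hX1c]; exact Ideal.comap_mono hP1le
  refine ⟨Z2.comap (c.symm : Rd ⊗[A₀] B₀ →+* Rd ⊗[Ash] S), ?_, ?_, ?_⟩
  · haveI : Z2.IsPrime := Ideal.comap_isPrime _ _
    exact Ideal.comap_isPrime _ _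
  · intro z hz
    have h3 : (c.symm z) ∈ X2 := hZ2le hz
    have h4 : c (c.symm z) ∈ 𝔵 := h3
    rwa [AlgEquiv.apply_symm_apply] at h4
  · rw [← hP1', ← hπalg, ← Ideal.comap_comap, Ideal.comap_comap]
    congr 1

end Groth.Agent.H1.ChevAlg
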