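import Mathlib

import Groth.Agent.Lib.Helper1.DVRCrit

set_option autoImplicit false
open CategoryTheory AlgebraicGeometry CategoryTheory.Limits IsLocalRing
universe u

namespace Groth.Agent.H1.DVRCrit

theorem bot_ne_closedPoint (A : Type*) [CommRing A] [IsDomain A] [IsDiscreteValuationRing A] :
    (⊥ : PrimeSpectrum A) ≠ closedPoint A := by
  intro h0
  have h1 : (⊥ : Ideal A) = maximalIdeal A := congrArg PrimeSpectrum.asIdeal h0
  exact IsDiscreteValuationRing.not_a_field A h1.symm

set_option backward.isDefEq.respectTransparency false in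
theorem s4930 {X Y : Scheme.{u}} [IsLocallyNoetherian Y] (f : X ⟶ Y)
    [LocallyOfFiniteType f] (y : Y) :
    (∀ x : X, f.base x = y → EGA43.IsUnivOpenAt f x) ↔
      ∀ (A : Type u) [CommRing A] [IsDomain A] [IsDiscreteValuationRing A]
        (g : Spec (CommRingCat.of A) ⟶ Y),
        g.base (IsLocalRing.closedPoint A) = y →
        ∀ Z ∈ irreducibleComponents (↥(pullback f g) : Type u),
          Dense ((pullback.snd f g).base '' Z) := by
  constructor
  · intro h A _ _ _ g hg Z hZ
    have hZirr : IsIrreducible Z := hZ.1
    have hZcl : IsClosed Z := isClosed_of_mem_irreducibleComponents Z hZ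
    obtain ⟨ζ, hζ⟩ := QuasiSober.sober hZirr hZcl
    have hζZ : ζ ∈ Z := hζ.mem
    have hsnd : (pullback.snd f g).base ζ = (⊥ : PrimeSpectrum A) := by
      apply eq_bot_of_ne_closedPoint
      intro hcl
      have hfx : f.base ((pullback.fst f g).base ζ) = y := by
        rw [← Scheme.Hom.comp_apply, pullback.condition, Scheme.Hom.comp_apply, hcl, hg]
      have hd := dvrCond_of_isUnivOpenAt f _ (h _ hfx)
      obtain ⟨z', hz', hz'2⟩ := hd A g (by rw [hg, hfx]) ζ rfl hcl
      -- closure {z'} ⊇ Z, so equal
      have h1 : Z ⊆ closure {z'} := by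
        rw [← hζ.def]
        exact closure_minimal (Set.singleton_subset_iff.mpr hz'.mem_closure) isClosed_closure
      have h2 : closure {z'} = Z :=
        (hZ.eq_of_subset isIrreducible_singleton.closure h1).symm
      have h3 : ζ ⤳ z' := hζ.specializes (by rw [← h2]; exact subset_closure rfl)
      have h4 := h3.map (pullback.snd f g).continuous
      rw [hcl] at h4
      have h5 : (pullback.snd f g).base z' ∈ ({closedPoint A} : Set (PrimeSpectrum A)) :=
        (IsLocalRing.isClosed_singleton_closedPoint A).closure_subset_iff.mpr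
          (Set.singleton_subset_iff.mpr rfl) h4.mem_closure
      exact hz'2 h5
    intro p
    have h1 : (⊥ : PrimeSpectrum A) ⤳ p := by
      rw [← PrimeSpectrum.le_iff_specializes]; exact bot_le
    have h2 : (⊥ : PrimeSpectrum A) ∈ (pullback.snd f g).base '' Z := ⟨ζ, hζZ, hsnd⟩
    exact closure_mono (Set.singleton_subset_iff.mpr h2) h1.mem_closure
  · intro H x hx
    apply isUnivOpenAt_of_dvrCond
    intro A _ _ _ g hg x' hx1 hx2
    have hZ := irreducibleComponent_mem_irreducibleComponents x'
    have hdense := H A g (hg.trans hx) _ hZ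
    have hZirr : IsIrreducible (irreducibleComponent x') := hZ.1
    have hZcl : IsClosed (irreducibleComponent x') := isClosed_of_mem_irreducibleComponents _ hZ
    obtain ⟨ζ, hζ⟩ := QuasiSober.sober hZirr hZcl
    refine ⟨ζ, hζ.specializes mem_irreducibleComponent, ?_⟩
    have h1 : (pullback.snd f g).base '' (irreducibleComponent x') ⊆
        closure {(pullback.snd f g).base ζ} := by
      rw [← hζ.def]
      refine (image_closure_subset_closure_image (pullback.snd f g).continuous).trans ?_
      rw [Set.image_singleton]
    have h2 : (⊥ : PrimeSpectrum A) ∈ closure {(pullback.snd f g).base ζ} := by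
      have := hdense.closure_eq
      have h3 : closure ((pullback.snd f g).base '' (irreducibleComponent x')) ⊆
          closure {(pullback.snd f g).base ζ} := closure_minimal h1 isClosed_closure
      rw [this] at h3
      exact h3 (Set.mem_univ _)
    let q : PrimeSpectrum A := (pullback.snd f g).base ζ
    have h3 : q ⤳ (⊥ : PrimeSpectrum A) := specializes_iff_mem_closure.mpr h2
    have h3' : q ≤ ⊥ := (PrimeSpectrum.le_iff_specializes q ⊥).mpr h3
    have h4 : q = ⊥ := le_bot_iff.mp h3'
    show q ≠ closedPoint A
    rw [h4]; exact bot_ne_closedPoint A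

end Groth.Agent.H1.DVRCrit
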