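import Mathlib
import Groth.Prelude.Def_EGA43
import Groth.Agent.Lib.Helper1.ChevAlgB
import Groth.Agent.Lib.Helper1.DVRCrit
import Groth.Agent.Lib.Helper1.DVRCrit2
import Groth.Agent.Lib.Helper3.UnivOpenAt
import Groth.Agent.Lib.Helper3.UO4931
import Groth.Agent.Lib.Helper8.Hens.DVR

set_option autoImplicit false
set_option linter.style.haveILetI false
universe u

namespace Groth.Agent.H1.ChevSch

open CategoryTheory AlgebraicGeometry CategoryTheory.Limits IsLocalRing TensorProduct
open Groth.Agent.H1.DVRCrit Groth.Agent.H3 Groth.Agent.H8.Hens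

section Calculus

variable {X Y Z : Scheme.{u}}

set_option backward.isDefEq.respectTransparency false in
/-- composition of pointwise universally open morphisms. -/
theorem isUnivOpenAt_comp (f : X ⟶ Y) (h : Y ⟶ Z) (x : X)
    (hf : EGA43.IsUnivOpenAt f x) (hh : EGA43.IsUnivOpenAt h (f.base x)) :
    EGA43.IsUnivOpenAt (f ≫ h) x := by
  intro Z' g x' hx'
  have sq : IsPullback (pullback.fst f (pullback.fst h g))
      (pullback.snd f (pullback.fst h g) ≫ pullback.snd h g) (f ≫ h) g :=
    (IsPullback.of_hasPullback f (pullback.fst h g)).paste_vert (IsPullback.of_hasPullback h g)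
  let e := sq.isoPullback
  let z := e.inv.base x'
  have hzx : e.hom.base z = x' := by
    show e.hom (e.inv x') = x'
    rw [← Scheme.Hom.comp_apply, Iso.inv_hom_id]; rfl
  have h1 : (pullback.fst f (pullback.fst h g)).base z = x := by
    have e0 : (pullback.fst f (pullback.fst h g)) (e.inv x') =
        (e.inv ≫ pullback.fst f (pullback.fst h g)) x' := (Scheme.Hom.comp_apply _ _ _).symm
    show (pullback.fst f (pullback.fst h g)) (e.inv x') = x
    rw [e0, IsPullback.isoPullback_inv_fst]; exact hx'
  have hA : EGA43.IsOpenAt (pullback.snd f (pullback.fst h g)).base z := hf _ _ z h1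
  have h2 : (pullback.fst h g).base ((pullback.snd f (pullback.fst h g)).base z) = f.base x := by
    show (pullback.fst h g) ((pullback.snd f (pullback.fst h g)) z) = f x
    rw [← Scheme.Hom.comp_apply, ← pullback.condition, Scheme.Hom.comp_apply]
    exact congrArg f h1
  have hB : EGA43.IsOpenAt (pullback.snd h g).base
      ((pullback.snd f (pullback.fst h g)).base z) := hh _ _ _ h2
  have hC := isOpenAt_comp (pullback.snd h g).base (pullback.snd f (pullback.fst h g)).base z hA hB
  have hD : EGA43.IsOpenAt ((pullback.snd (f ≫ h) g).base ∘ e.hom.base) z := by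
    have e1 : (⇑(pullback.snd (f ≫ h) g).base ∘ ⇑e.hom.base) =
        (⇑(pullback.snd h g).base ∘ ⇑(pullback.snd f (pullback.fst h g)).base) := by
      funext w
      show (pullback.snd (f ≫ h) g) (e.hom w) =
        (pullback.snd h g) ((pullback.snd f (pullback.fst h g)) w)
      rw [← Scheme.Hom.comp_apply, IsPullback.isoPullback_hom_snd, Scheme.Hom.comp_apply]
    rw [e1]; exact hC
  have hE := isOpenAt_of_comp (pullback.snd (f ≫ h) g).base e.hom.base e.hom.continuous z hD
  rwa [hzx] at hE

set_option backward.isDefEq.respectTransparency false in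
/-- universal openness at a point can be checked on an open subscheme of the source. -/
theorem isUnivOpenAt_of_comp_isOpenImmersion {U : Scheme.{u}} (j : U ⟶ X) [IsOpenImmersion j]
    (f : X ⟶ Y) (x₀ : U) (hjf : EGA43.IsUnivOpenAt (j ≫ f) x₀) :
    EGA43.IsUnivOpenAt f (j.base x₀) := by
  intro Y' g x' hx'
  let m : pullback (j ≫ f) g ⟶ pullback f g :=
    pullback.lift (pullback.fst (j ≫ f) g ≫ j) (pullback.snd (j ≫ f) g)
      (by rw [Category.assoc]; exact pullback.condition)
  have sqL : IsPullback m (pullback.fst (j ≫ f) g) (pullback.fst f g) j := by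
    refine IsPullback.of_right (h₁₂ := pullback.snd f g) (h₂₂ := f) (v₁₃ := g) ?_
      (pullback.lift_fst _ _ _) (IsPullback.of_hasPullback f g).flip
    rw [pullback.lift_snd]
    exact (IsPullback.of_hasPullback (j ≫ f) g).flip
  obtain ⟨w, hw1, hw2⟩ := exists_preimage_of_isPullback sqL x' x₀ hx'
  have h1 : EGA43.IsOpenAt (pullback.snd (j ≫ f) g).base w := hjf Y' g w hw2
  have e1 : (⇑(pullback.snd (j ≫ f) g).base) = (⇑(pullback.snd f g).base ∘ ⇑m.base) := by
    funext t
    show (pullback.snd (j ≫ f) g) t = (pullback.snd f g) (m t)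
    rw [← Scheme.Hom.comp_apply, pullback.lift_snd]
  rw [e1] at h1
  have h2 := isOpenAt_of_comp (pullback.snd f g).base m.base m.continuous w h1
  rwa [hw1] at h2

end Calculus

section Strict

variable {X Y : Scheme.{u}}

set_option backward.isDefEq.respectTransparency false in
/-- the DVR criterion can be checked on strictly henselian discrete valuation rings. -/
theorem dvrCond_of_strict (f : X ⟶ Y) (x : X)
    (H : ∀ (R : Type u) [CommRing R] [IsDomain R] [IsDiscreteValuationRing R]
      [HenselianLocalRing R] [IsSepClosed (ResidueField R)]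
      (a : Spec (CommRingCat.of R) ⟶ Y), a.base (closedPoint R) = f.base x →
      ∀ x' : ↥(pullback f a), (pullback.fst f a).base x' = x →
        (pullback.snd f a).base x' = closedPoint R →
        ∃ z' : ↥(pullback f a), z' ⤳ x' ∧ (pullback.snd f a).base z' ≠ closedPoint R) :
    DVRCond f x := by
  intro R _ _ _ a ha x' hx1 hx2
  let R' := StrictHenselization R
  haveI hSH : Hensel.IsStrictHenselization R R' := isStrictHenselization
  haveI : HenselianLocalRing R' := hSH.henselian
  haveI : IsSepClosed (ResidueField R') := hSH.isSepClosure.sep_closed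
  obtain ⟨hdom, hdvr⟩ := (dvr_iff_of_isStrictHenselization (R := R) R').mp ⟨inferInstance, inferInstance⟩
  let ι : Spec (CommRingCat.of R') ⟶ Spec (CommRingCat.of R) :=
    Spec.map (CommRingCat.ofHom (algebraMap R R'))
  have hι : ι.base (closedPoint R') = closedPoint R :=
    IsLocalRing.comap_closedPoint (algebraMap R R')
  let a' := ι ≫ a
  have ha' : a'.base (closedPoint R') = f.base x := by
    show a (ι (closedPoint R')) = f x
    rw [show ι (closedPoint R') = closedPoint R from hι]; exact ha
  let m : pullback f a' ⟶ pullback f a :=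
    pullback.lift (pullback.fst f a') (pullback.snd f a' ≫ ι)
      (by rw [Category.assoc]; exact pullback.condition)
  have sqL : IsPullback m (pullback.snd f a') (pullback.snd f a) ι := by
    refine IsPullback.of_right (h₁₂ := pullback.fst f a) (h₂₂ := a) (v₁₃ := f) ?_
      (pullback.lift_snd _ _ _) (IsPullback.of_hasPullback f a)
    rw [pullback.lift_fst]
    exact IsPullback.of_hasPullback f a'
  obtain ⟨x'', hx''1, hx''2⟩ := exists_preimage_of_isPullback sqL x' (closedPoint R')
    (by rw [hx2, hι])
  have hfst : (pullback.fst f a').base x'' = x := by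
    rw [← hx1, ← hx''1]
    show (pullback.fst f a') x'' = (pullback.fst f a) (m x'')
    rw [← Scheme.Hom.comp_apply, pullback.lift_fst]
  obtain ⟨z'', hz''sp, hz''ne⟩ := @H R' _ hdom hdvr _ _ a' ha' x'' hfst hx''2
  refine ⟨m.base z'', ?_, ?_⟩
  · have := hz''sp.map m.continuous
    rwa [show m x'' = x' from hx''1] at this
  · intro hcon
    apply hz''ne
    have h3 : ι.base ((pullback.snd f a').base z'') = closedPoint R := by
      rw [← hcon]
      show ι ((pullback.snd f a') z'') = (pullback.snd f a) (m z'')
      rw [← Scheme.Hom.comp_apply, ← Scheme.Hom.comp_apply, pullback.lift_snd]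
    set Q : PrimeSpectrum R' := (pullback.snd f a').base z'' with hQ
    have h4 : Q.asIdeal.comap (algebraMap R R') = maximalIdeal R :=
      congrArg PrimeSpectrum.asIdeal h3
    have h5 : maximalIdeal R' ≤ Q.asIdeal := by
      rw [← map_maximalIdeal_of_isStrictHenselization (R := R) R', Ideal.map_le_iff_le_comap, h4]
    have h6 : maximalIdeal R' = Q.asIdeal :=
      (maximalIdeal.isMaximal R').eq_of_le Q.isPrime.ne_top h5
    exact PrimeSpectrum.ext h6.symm

end Strict

end Groth.Agent.H1.ChevSch
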