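import Mathlib
import Groth.Prelude.Def_EGA43
import Groth.Agent.Lib.Helper1.ChevSchA
import Groth.Agent.Lib.Helper1.EquidimQF
import Groth.Agent.Lib.Helper8.Hens.EtaleGU
import Groth.Agent.Lib.Helper8.Brnch.SmoothCountSch

set_option autoImplicit false
set_option linter.style.haveILetI false
universe u

namespace Groth.Agent.H1.ChevSch

open CategoryTheory AlgebraicGeometry CategoryTheory.Limits IsLocalRing TensorProduct
open Groth.Agent.H1.DVRCrit Groth.Agent.H3 Groth.Agent.H8.Hens Groth.Agent.H1.ChevAlg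

set_option backward.isDefEq.respectTransparency false in
/-- the DVR criterion for an affine quasi-finite morphism at a point with geometrically unibranch
image, all maximal points above which map to maximal points. -/
theorem dvrCond_affine (A₀ B₀ : Type u) [CommRing A₀] [CommRing B₀] [Algebra A₀ B₀]
    [Algebra.FiniteType A₀ B₀] [Algebra.QuasiFinite A₀ B₀]
    (x₀ : Spec (CommRingCat.of B₀)) (p₀ : Ideal A₀) [p₀.IsPrime]
    (hp₀ : (x₀ : PrimeSpectrum B₀).asIdeal.comap (algebraMap A₀ B₀) = p₀)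
    (hGU : CAlg2.IsGeomUnibranch (Localization.AtPrime p₀))
    (H : ∀ 𝔮 ∈ minimalPrimes B₀, 𝔮 ≤ (x₀ : PrimeSpectrum B₀).asIdeal →
      𝔮.comap (algebraMap A₀ B₀) ∈ minimalPrimes A₀) :
    DVRCond (Spec.map (CommRingCat.ofHom (algebraMap A₀ B₀))) x₀ := by
  apply dvrCond_of_strict
  intro R _ _ _ _ _ a ha x' hx1 hx2
  obtain ⟨φ, rfl⟩ : ∃ φ : A₀ →+* R, a = Spec.map (CommRingCat.ofHom φ) :=
    ⟨(Spec.preimage a).hom, (Spec.map_preimage a).symm⟩
  letI : Algebra A₀ R := φ.toAlgebra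
  have sq := (isPullback_SpecMap_of_isPushout _ _ _ _
    (CommRingCat.isPushout_tensorProduct A₀ R B₀)).flip
  let e := sq.isoPullback
  let 𝔵 : PrimeSpectrum (R ⊗[A₀] B₀) := e.inv.base x'
  have hex : e.hom.base 𝔵 = x' := by
    show e.hom (e.inv x') = x'
    rw [← Scheme.Hom.comp_apply, Iso.inv_hom_id]; rfl
  have k1 : PrimeSpectrum.comap
      (Algebra.TensorProduct.includeRight : B₀ →ₐ[A₀] R ⊗[A₀] B₀).toRingHom 𝔵 = x₀ := by
    rw [← hx1]
    show (Spec.map (CommRingCat.ofHom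
      (Algebra.TensorProduct.includeRight : B₀ →ₐ[A₀] R ⊗[A₀] B₀).toRingHom)) (e.inv x') = _
    rw [← Scheme.Hom.comp_apply, IsPullback.isoPullback_inv_fst]
    rfl
  have k2 : PrimeSpectrum.comap
      (Algebra.TensorProduct.includeLeftRingHom : R →+* R ⊗[A₀] B₀) 𝔵 = closedPoint R := by
    rw [← hx2]
    show (Spec.map (CommRingCat.ofHom
      (Algebra.TensorProduct.includeLeftRingHom : R →+* R ⊗[A₀] B₀))) (e.inv x') = _
    rw [← Scheme.Hom.comp_apply, IsPullback.isoPullback_inv_snd]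
    rfl
  have hRd : (maximalIdeal R).comap (algebraMap A₀ R) = p₀ := by
    rw [← hp₀]
    exact congrArg PrimeSpectrum.asIdeal ha
  obtain ⟨𝔷, h𝔷p, h𝔷le, h𝔷c⟩ := exists_prime_le_of_strict A₀ B₀ (x₀ : PrimeSpectrum B₀).asIdeal p₀
    hGU H R hRd 𝔵.asIdeal (congrArg PrimeSpectrum.asIdeal k2) (congrArg PrimeSpectrum.asIdeal k1)
  refine ⟨e.hom.base (⟨𝔷, h𝔷p⟩ : PrimeSpectrum (R ⊗[A₀] B₀)), ?_, ?_⟩
  · rw [← hex]
    have h3 : (⟨𝔷, h𝔷p⟩ : PrimeSpectrum (R ⊗[A₀] B₀)) ⤳ 𝔵 :=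
      (PrimeSpectrum.le_iff_specializes _ _).mp h𝔷le
    exact h3.map e.hom.continuous
  · intro hcon
    have h3 : PrimeSpectrum.comap
        (Algebra.TensorProduct.includeLeftRingHom : R →+* R ⊗[A₀] B₀) ⟨𝔷, h𝔷p⟩ = closedPoint R := by
      have e0 := congrArg (fun ψ : Spec (CommRingCat.of (R ⊗[A₀] B₀)) ⟶ Spec (CommRingCat.of R) =>
        ψ (⟨𝔷, h𝔷p⟩ : PrimeSpectrum (R ⊗[A₀] B₀))) (IsPullback.isoPullback_hom_snd sq)
      exact e0.symm.trans hcon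
    have h4 : 𝔷.comap (algebraMap R (R ⊗[A₀] B₀)) = maximalIdeal R :=
      congrArg PrimeSpectrum.asIdeal h3
    rw [h𝔷c] at h4
    exact (IsDiscreteValuationRing.not_a_field R) h4.symm

theorem isGeomUnibranch_stalk_congr {Y : Scheme.{u}} {y y' : Y} (h : y = y') :
    CAlg2.IsGeomUnibranch (Y.presheaf.stalk y) ↔ CAlg2.IsGeomUnibranch (Y.presheaf.stalk y') := by
  subst h; rfl

set_option backward.isDefEq.respectTransparency false in
/-- **Quasi-finite case of Chevalley's criterion**: a locally quasi-finite morphism to a locally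
noetherian scheme is universally open at a point whose image is geometrically unibranch, provided
the maximal points above it map to maximal points. -/
theorem isUnivOpenAt_of_quasiFinite {U P : Scheme.{u}} [IsLocallyNoetherian P] (g : U ⟶ P)
    [LocallyOfFiniteType g] [LocallyQuasiFinite g] (x : U)
    (hGU : CAlg2.IsGeomUnibranch (P.presheaf.stalk (g.base x)))
    (H : ∀ ξ : U, (∀ z : U, z ⤳ ξ → z = ξ) → ξ ⤳ x → ∀ w : P, w ⤳ g.base ξ → w = g.base ξ) :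
    EGA43.IsUnivOpenAt g x := by
  obtain ⟨W, hW, hgxW, -⟩ := exists_affine_nhd_le (g.base x) ⊤ trivial
  obtain ⟨V, hV, hxV, e⟩ := exists_affine_nhd_le x (g ⁻¹ᵁ W) hgxW
  letI : Algebra Γ(P, W) Γ(U, V) := (g.appLE W V e).hom.toAlgebra
  haveI : Algebra.FiniteType Γ(P, W) Γ(U, V) := g.finiteType_appLE hW hV e
  haveI : Algebra.QuasiFinite Γ(P, W) Γ(U, V) := LocallyQuasiFinite.quasiFinite_appLE hW hV e
  haveI : IsNoetherianRing Γ(P, W) := IsLocallyNoetherian.component_noetherian ⟨W, hW⟩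
  let g₀ : Spec Γ(U, V) ⟶ Spec Γ(P, W) := Spec.map (g.appLE W V e)
  have hcomm : g₀ ≫ hW.fromSpec = hV.fromSpec ≫ g := IsAffineOpen.SpecMap_appLE_fromSpec g hW hV e
  let x₀ : Spec Γ(U, V) := hV.primeIdealOf ⟨x, hxV⟩
  have hx₀ : hV.fromSpec.base x₀ = x := hV.fromSpec_primeIdealOf ⟨x, hxV⟩
  let p₀ : Ideal Γ(P, W) := (hW.primeIdealOf ⟨g.base x, hgxW⟩).asIdeal
  have hp₀ : (x₀ : PrimeSpectrum Γ(U, V)).asIdeal.comap (algebraMap Γ(P, W) Γ(U, V)) = p₀ :=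
    congrArg PrimeSpectrum.asIdeal
      (IsAffineOpen.comap_primeIdealOf_appLE (f := g) W hW V hV e hxV)
  -- geometric unibranchness of the localization
  have hGU' : CAlg2.IsGeomUnibranch (Localization.AtPrime p₀) := by
    letI := P.presheaf.algebra_section_stalk (⟨g.base x, hgxW⟩ : W)
    haveI : IsLocalization.AtPrime (P.presheaf.stalk (g.base x)) p₀ :=
      hW.isLocalization_stalk ⟨g.base x, hgxW⟩
    exact isGeomUnibranch_of_ringEquiv
      (IsLocalization.algEquiv p₀.primeCompl (P.presheaf.stalk (g.base x))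
        (Localization.AtPrime p₀)).toRingEquiv hGU
  -- the hypothesis on maximal points
  have H₀ : ∀ 𝔮 ∈ minimalPrimes Γ(U, V), 𝔮 ≤ (x₀ : PrimeSpectrum Γ(U, V)).asIdeal →
      𝔮.comap (algebraMap Γ(P, W) Γ(U, V)) ∈ minimalPrimes Γ(P, W) := by
    intro 𝔮 h𝔮 h𝔮le
    haveI h𝔮p : 𝔮.IsPrime := h𝔮.1.1
    let ξ₀ : Spec Γ(U, V) := (⟨𝔮, h𝔮p⟩ : PrimeSpectrum Γ(U, V))
    have hξV : hV.fromSpec.base ξ₀ ∈ (V : Set U) := by
      rw [← hV.range_fromSpec]; exact ⟨ξ₀, rfl⟩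
    have hmax : ∀ z : U, z ⤳ hV.fromSpec.base ξ₀ → z = hV.fromSpec.base ξ₀ := by
      intro z hz
      have hzV : z ∈ (V : Set U) := hz.mem_open V.isOpen hξV
      let z₀ : Spec Γ(U, V) := hV.primeIdealOf ⟨z, hzV⟩
      have hz₀ : hV.fromSpec.base z₀ = z := hV.fromSpec_primeIdealOf ⟨z, hzV⟩
      have h5 : hV.fromSpec.base z₀ ⤳ hV.fromSpec.base ξ₀ := by rw [hz₀]; exact hz
      have h6 : z₀ ⤳ ξ₀ := (hV.fromSpec.isEmbedding.isInducing.specializes_iff).1 h5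
      have h7 : (z₀ : PrimeSpectrum Γ(U, V)).asIdeal ≤ 𝔮 :=
        (PrimeSpectrum.le_iff_specializes (z₀ : PrimeSpectrum Γ(U, V)) ξ₀).mpr h6
      have h8 : 𝔮 ≤ (z₀ : PrimeSpectrum Γ(U, V)).asIdeal :=
        h𝔮.2 ⟨(z₀ : PrimeSpectrum Γ(U, V)).isPrime, bot_le⟩ h7
      have h9 : z₀ = ξ₀ := PrimeSpectrum.ext (le_antisymm h7 h8)
      rw [← hz₀, h9]
    have hsp : hV.fromSpec.base ξ₀ ⤳ x := by
      rw [← hx₀]
      have h5 : ξ₀ ⤳ x₀ :=
        (PrimeSpectrum.le_iff_specializes (ξ₀ : PrimeSpectrum Γ(U, V)) x₀).mp h𝔮le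
      exact h5.map hV.fromSpec.continuous
    have hgmax := H _ hmax hsp
    have hgξ : g.base (hV.fromSpec.base ξ₀) = hW.fromSpec.base (g₀.base ξ₀) := by
      show g (hV.fromSpec ξ₀) = hW.fromSpec (g₀ ξ₀)
      rw [← Scheme.Hom.comp_apply, ← Scheme.Hom.comp_apply, hcomm]
    refine ⟨⟨Ideal.comap_isPrime _ _, bot_le⟩, ?_⟩
    rintro 𝔯 ⟨h𝔯p, -⟩ h𝔯le
    let w₀ : Spec Γ(P, W) := (⟨𝔯, h𝔯p⟩ : PrimeSpectrum Γ(P, W))
    have h5 : w₀ ⤳ g₀.base ξ₀ :=
      (PrimeSpectrum.le_iff_specializes (w₀ : PrimeSpectrum Γ(P, W)) (g₀.base ξ₀)).mp h𝔯le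
    have h6 : hW.fromSpec.base w₀ ⤳ g.base (hV.fromSpec.base ξ₀) := by
      rw [hgξ]; exact h5.map hW.fromSpec.continuous
    have h7 := hgmax _ h6
    rw [hgξ] at h7
    have h8 : w₀ = g₀.base ξ₀ := hW.fromSpec.isOpenEmbedding.injective h7
    have h9 : 𝔯 = 𝔮.comap (algebraMap Γ(P, W) Γ(U, V)) := congrArg PrimeSpectrum.asIdeal h8
    exact h9.ge
  have hd : DVRCond g₀ x₀ := dvrCond_affine Γ(P, W) Γ(U, V) x₀ p₀ hp₀ hGU' H₀
  haveI : LocallyOfFiniteType g₀ := by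
    rw [HasRingHomProperty.Spec_iff (P := @LocallyOfFiniteType)]
    exact g.finiteType_appLE hW hV e
  have h1 : EGA43.IsUnivOpenAt g₀ x₀ := isUnivOpenAt_of_dvrCond g₀ x₀ hd
  have h2 : EGA43.IsUnivOpenAt (g₀ ≫ hW.fromSpec) x₀ :=
    isUnivOpenAt_comp g₀ hW.fromSpec x₀ h1 (UO4931.isUnivOpenAt_of_universallyOpen hW.fromSpec _)
  rw [hcomm] at h2
  have h3 := isUnivOpenAt_of_comp_isOpenImmersion hV.fromSpec g x₀ h2
  rwa [hx₀] at h3

end Groth.Agent.H1.ChevSch
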