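import Mathlib
import Groth.Prelude.Def_EGA43
import Groth.Agent.Lib.Helper1.ChevSchB

set_option autoImplicit false
set_option linter.style.haveILetI false
universe u

namespace Groth.Agent.H1.ChevSch

open CategoryTheory AlgebraicGeometry CategoryTheory.Limits IsLocalRing TensorProduct
open Groth.Agent.H1.DVRCrit Groth.Agent.H3 Groth.Agent.H8.Hens Groth.Agent.H1.ChevAlg
  Groth.Agent.H1.EquidimQF Groth.Agent.H1.EquidimLoc

variable {X Y : Scheme.{u}}

set_option backward.isDefEq.respectTransparency false in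
/-- **Chevalley's criterion, pointwise**: a morphism locally of finite type to a locally noetherian
scheme which is equidimensional at `x`, with `f x` geometrically unibranch, is universally open
at `x`. -/
theorem isUnivOpenAt_of_isEquidimAt [IsLocallyNoetherian Y] (f : X ⟶ Y) [LocallyOfFiniteType f]
    (x : X) (hGU : CAlg2.IsGeomUnibranch (Y.presheaf.stalk (f.base x)))
    (h : EGA43.IsEquidimAt f x) : EGA43.IsUnivOpenAt f x := by
  obtain ⟨e, U, g, hxU, hg, hqf, hcomp⟩ := exists_of_isEquidimAt f x h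
  haveI : LocallyOfFiniteType (g ≫ (𝔸(ULift.{u} (Fin e); Y) ↘ Y)) := by
    rw [hg]; infer_instance
  haveI : LocallyOfFiniteType g :=
    locallyOfFiniteType_of_comp g (𝔸(ULift.{u} (Fin e); Y) ↘ Y)
  haveI : IsLocallyNoetherian (𝔸(ULift.{u} (Fin e); Y)) :=
    LocallyOfFiniteType.isLocallyNoetherian (𝔸(ULift.{u} (Fin e); Y) ↘ Y)
  let x₁ : (U : Scheme.{u}) := ⟨x, hxU⟩
  have hbase : (𝔸(ULift.{u} (Fin e); Y) ↘ Y).base (g.base x₁) = f.base x := by
    have := congrArg (fun φ : (U : Scheme.{u}) ⟶ Y => φ x₁) hg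
    exact this
  have hGU' : CAlg2.IsGeomUnibranch ((𝔸(ULift.{u} (Fin e); Y)).presheaf.stalk (g.base x₁)) := by
    rw [Groth.Agent.H8.Brnch.isGeomUnibranch_stalk_iff_of_smooth (𝔸(ULift.{u} (Fin e); Y) ↘ Y)
      (g.base x₁)]
    exact (isGeomUnibranch_stalk_congr hbase).mpr hGU
  have H : ∀ ξ : (U : Scheme.{u}), (∀ z : (U : Scheme.{u}), z ⤳ ξ → z = ξ) → ξ ⤳ x₁ →
      ∀ w : 𝔸(ULift.{u} (Fin e); Y), w ⤳ g.base ξ → w = g.base ξ := by
    intro ξ hξ _
    have hZ : closure ({ξ} : Set U.toScheme) ∈ irreducibleComponents (U.toScheme : Type u) :=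
      Groth.Agent.H1.GenPts.closure_singleton_mem_irreducibleComponents ξ hξ
    have h1 := hcomp _ hZ
    rw [closure_image_closure_singleton _ g.continuous ξ] at h1
    exact eq_of_specializes_of_closure_mem_irreducibleComponents _ h1
  have h1 : EGA43.IsUnivOpenAt g x₁ := isUnivOpenAt_of_quasiFinite g x₁ hGU' H
  have h2 : EGA43.IsUnivOpenAt (𝔸(ULift.{u} (Fin e); Y) ↘ Y) (g.base x₁) :=
    UO4931.isUnivOpenAt_of_universallyOpen _ _
  have h3 := isUnivOpenAt_comp g (𝔸(ULift.{u} (Fin e); Y) ↘ Y) x₁ h1 h2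
  rw [hg] at h3
  exact isUnivOpenAt_of_comp_isOpenImmersion U.ι f x₁ h3

/-- **Chevalley's criterion** (EGA IV 14.4.4). -/
theorem s2593 [IsLocallyNoetherian Y]
    (hY : ∀ y : Y, CAlg2.IsGeomUnibranch (Y.presheaf.stalk y)) (f : X ⟶ Y) [LocallyOfFiniteType f]
    (h : ∀ x : X, EGA43.IsEquidimAt f x) : UniversallyOpen f :=
  UO4931.universallyOpen_of_forall_isUnivOpenAt f
    (fun x => isUnivOpenAt_of_isEquidimAt f x (hY _) (h x))

end Groth.Agent.H1.ChevSch
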