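import Mathlib
import Groth.Prelude.Def_EGA43
import Groth.Agent.Lib.Helper8.DimFib.B
import Groth.Agent.Lib.Helper1.FibreStalk

/-!
# Openness at a point and lifting of generizations; EGA IV 14.2.1 (helper1)
-/

set_option autoImplicit false
universe u

namespace Groth.Agent.H1.OpenGen

open AlgebraicGeometry CategoryTheory IsLocalRing TopologicalSpace Topology

/-- a prime in the closure of a fibre of `Spec R → Spec S` has a generization in that fibre. -/
theorem exists_le_comap_eq {S R : Type*} [CommRing S] [CommRing R] (ψ : S →+* R)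
    (P : PrimeSpectrum R) (p' : PrimeSpectrum S)
    (h : P ∈ closure {P' : PrimeSpectrum R | PrimeSpectrum.comap ψ P' = p'}) :
    ∃ P₀ : PrimeSpectrum R, P₀ ≤ P ∧ PrimeSpectrum.comap ψ P₀ = p' := by
  set T := {P' : PrimeSpectrum R | PrimeSpectrum.comap ψ P' = p'} with hT
  have hP : (PrimeSpectrum.vanishingIdeal T : Set R) ⊆ P.asIdeal := by
    rw [← PrimeSpectrum.zeroLocus_vanishingIdeal_eq_closure] at h
    exact (PrimeSpectrum.mem_zeroLocus _ _).1 h
  let J : Ideal R := p'.asIdeal.map ψ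
  let M : Submonoid R := (p'.asIdeal.primeCompl.map ψ) ⊔ P.asIdeal.primeCompl
  have hdisj : Disjoint (J : Set R) (M : Set R) := by
    rw [Set.disjoint_left]
    intro r hrJ hrM
    obtain ⟨m, hm, s, hs, rfl⟩ := Submonoid.mem_sup.mp hrM
    obtain ⟨a, ha, rfl⟩ := Submonoid.mem_map.mp hm
    apply hs
    apply hP
    rw [SetLike.mem_coe, PrimeSpectrum.mem_vanishingIdeal]
    intro P' hP'
    have hP'' : P'.asIdeal.comap ψ = p'.asIdeal := congrArg PrimeSpectrum.asIdeal hP'
    have hJP' : J ≤ P'.asIdeal := by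
      rw [Ideal.map_le_iff_le_comap, hP'']
    have h1 : ψ a * s ∈ P'.asIdeal := hJP' hrJ
    rcases P'.isPrime.mem_or_mem h1 with h2 | h2
    · exfalso
      have : a ∈ P'.asIdeal.comap ψ := h2
      rw [hP''] at this
      exact ha this
    · exact h2
  obtain ⟨P₀, hP₀prime, hJP₀, hP₀M⟩ := Ideal.exists_le_prime_disjoint J M hdisj
  refine ⟨⟨P₀, hP₀prime⟩, ?_, ?_⟩
  · intro r hr
    by_contra hrP
    exact Set.disjoint_left.mp hP₀M hr (Submonoid.mem_sup_right hrP)
  · apply PrimeSpectrum.ext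
    change P₀.comap ψ = p'.asIdeal
    ext a
    constructor
    · intro ha
      by_contra hap
      exact Set.disjoint_left.mp hP₀M ha
        (Submonoid.mem_sup_left (Submonoid.mem_map.mpr ⟨a, hap, rfl⟩))
    · intro ha
      exact hJP₀ (Ideal.mem_map_of_mem ψ ha)

/-- **EGA IV 1.10.3**: a morphism open at a point lifts generizations of the image to
generizations of the point. -/
theorem exists_generization_of_isOpenAt {X Y : Scheme.{u}} (f : X ⟶ Y) (z : X)
    (hopen : EGA43.IsOpenAt f.base z) (y' : Y) (hy' : y' ⤳ f z) :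
    ∃ z'' : X, z'' ⤳ z ∧ f z'' = y' := by
  obtain ⟨V, hV, hfzV⟩ : ∃ V : Y.Opens, IsAffineOpen V ∧ f z ∈ V := by
    obtain ⟨_, ⟨V, hV, rfl⟩, hz, -⟩ :=
      Y.isBasis_affineOpens.exists_subset_of_mem_open (Set.mem_univ (f z)) isOpen_univ
    exact ⟨V, hV, hz⟩
  obtain ⟨W, hW, hzW, e⟩ := exists_isAffineOpen_mem_and_subset (x := z) (U := f ⁻¹ᵁ V) hfzV
  have hy'V : y' ∈ V := hy'.mem_open V.2 hfzV
  set ψ := (f.appLE V W e).hom with hψ
  set P : PrimeSpectrum Γ(X, W) := hW.primeIdealOf ⟨z, hzW⟩ with hP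
  set p' : PrimeSpectrum Γ(Y, V) := hV.primeIdealOf ⟨y', hy'V⟩ with hp'
  have hcompat : ∀ P' : PrimeSpectrum Γ(X, W),
      f (hW.fromSpec P') = hV.fromSpec (PrimeSpectrum.comap ψ P') := by
    intro P'
    have := congrArg (fun φ : Spec Γ(X, W) ⟶ Y => φ P')
      (IsAffineOpen.SpecMap_appLE_fromSpec f hV hW e)
    exact this.symm
  have hinjV : Function.Injective hV.fromSpec := hV.fromSpec.isOpenEmbedding.injective
  have hmem : P ∈ closure {P' : PrimeSpectrum Γ(X, W) | PrimeSpectrum.comap ψ P' = p'} := by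
    rw [mem_closure_iff]
    intro O hO hPO
    have hO' : IsOpen (hW.fromSpec '' O) := hW.fromSpec.isOpenEmbedding.isOpenMap O hO
    have hzO' : z ∈ hW.fromSpec '' O := ⟨P, hPO, hW.fromSpec_primeIdealOf ⟨z, hzW⟩⟩
    have hnhds : f.base '' (hW.fromSpec '' O) ∈ nhds (f z) := hopen _ (hO'.mem_nhds hzO')
    have hy'mem : y' ∈ f.base '' (hW.fromSpec '' O) := mem_of_mem_nhds (hy' hnhds)
    obtain ⟨w, ⟨P', hP'O, rfl⟩, hw⟩ := hy'mem
    refine ⟨P', hP'O, ?_⟩
    apply hinjV
    rw [← hcompat, hV.fromSpec_primeIdealOf ⟨y', hy'V⟩]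
    exact hw
  obtain ⟨P₀, hP₀le, hP₀⟩ := exists_le_comap_eq ψ P p' hmem
  refine ⟨hW.fromSpec P₀, ?_, ?_⟩
  · have h1 : P₀ ⤳ P := (PrimeSpectrum.le_iff_specializes P₀ P).1 hP₀le
    have := h1.map hW.fromSpec.continuous
    rwa [hW.fromSpec_primeIdealOf ⟨z, hzW⟩] at this
  · rw [hcompat, hP₀, hV.fromSpec_primeIdealOf ⟨y', hy'V⟩]

/-- the lifting property implies helper8's condition. -/
theorem cond_of_lift {A B : Type*} [CommRing A] [CommRing B] [IsLocalRing A] (φ : A →+* B)
    (H : ∀ Q : Ideal B, Q ∈ ((maximalIdeal A).map φ).minimalPrimes → ∀ p : Ideal A, p.IsPrime →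
      ∃ q : Ideal B, q.IsPrime ∧ q ≤ Q ∧ q.comap φ = p) : Groth.Agent.H8.DimFib.Cond φ := by
  intro p hp hpm q hq hqm
  haveI : q.IsPrime := hq.1.1
  have h1 : (maximalIdeal A).map φ ≤ q := by rw [Ideal.map_le_iff_le_comap, hqm]
  obtain ⟨Q, hQ, hQq⟩ := Ideal.exists_minimalPrimes_le h1
  obtain ⟨q'', hq''p, hq''Q, hq''c⟩ := H Q hQ p hp
  have h2 : p.map φ ≤ q'' := by rw [Ideal.map_le_iff_le_comap, hq''c]
  have h3 : q ≤ q'' := hq.2 ⟨hq''p, h2⟩ (hq''Q.trans hQq)
  have h4 : q'' = q := le_antisymm (hq''Q.trans hQq) h3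
  apply hpm
  rw [← hq''c, h4, hqm]

/-- openness at the generic points of the components of the fibre through `x` gives the lifting
property for the local homomorphism `O_{Y,f x} → O_{X,x}`. -/
theorem lift_of_isOpenAt {X Y : Scheme.{u}} (f : X ⟶ Y) (x : X)
    (h : ∀ z : ↥(f.fiber (f.base x)), f.asFiber x ∈ closure {z} →
      (∀ z' : ↥(f.fiber (f.base x)), z ∈ closure {z'} → z' = z) →
      EGA43.IsOpenAt f.base ((f.fiberι (f.base x)).base z))
    (Q : Ideal (X.presheaf.stalk x))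
    (hQ : Q ∈ ((maximalIdeal (Y.presheaf.stalk (f x))).map (f.stalkMap x).hom).minimalPrimes)
    (p : Ideal (Y.presheaf.stalk (f x))) (hp : p.IsPrime) :
    ∃ q : Ideal (X.presheaf.stalk x), q.IsPrime ∧ q ≤ Q ∧ q.comap (f.stalkMap x).hom = p := by
  set φ := (f.stalkMap x).hom with hφ
  haveI hQp : Q.IsPrime := hQ.1.1
  have hmQ : (maximalIdeal (Y.presheaf.stalk (f x))).map φ ≤ Q := hQ.1.2
  have hcompat : ∀ q : PrimeSpectrum (X.presheaf.stalk x),
      f (X.fromSpecStalk x q) = Y.fromSpecStalk (f x) (PrimeSpectrum.comap φ q) := by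
    intro q
    have := congrArg (fun ψ : Spec (X.presheaf.stalk x) ⟶ Y => ψ q)
      (Scheme.SpecMap_stalkMap_fromSpecStalk f (x := x))
    exact this.symm
  have hinjX : Function.Injective (X.fromSpecStalk x) :=
    (X.fromSpecStalk x).isEmbedding.injective
  have hinjY : Function.Injective (Y.fromSpecStalk (f x)) :=
    (Y.fromSpecStalk (f x)).isEmbedding.injective
  have hfib : ∀ q : PrimeSpectrum (X.presheaf.stalk x),
      f (X.fromSpecStalk x q) = f x ↔
        (maximalIdeal (Y.presheaf.stalk (f x))).map φ ≤ q.asIdeal := by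
    intro q
    rw [hcompat]
    constructor
    · intro hq
      have h1 : PrimeSpectrum.comap φ q = closedPoint _ :=
        hinjY (hq.trans Scheme.fromSpecStalk_closedPoint.symm)
      rw [Ideal.map_le_iff_le_comap]
      have h2 : q.asIdeal.comap φ = maximalIdeal _ := congrArg PrimeSpectrum.asIdeal h1
      exact h2.ge
    · intro hq
      have h1 : PrimeSpectrum.comap φ q = closedPoint _ := by
        apply PrimeSpectrum.ext
        change q.asIdeal.comap φ = maximalIdeal _
        exact ((IsLocalRing.maximalIdeal.isMaximal _).eq_of_le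
          (Ideal.IsPrime.ne_top inferInstance) (Ideal.map_le_iff_le_comap.mp hq)).symm
      rw [h1, Scheme.fromSpecStalk_closedPoint]
  set Qs : PrimeSpectrum (X.presheaf.stalk x) := ⟨Q, hQp⟩ with hQs
  set zX := X.fromSpecStalk x Qs with hzX
  have hzXx : zX ⤳ x := by
    have : zX ∈ Set.range (X.fromSpecStalk x) := ⟨Qs, rfl⟩
    rw [Scheme.range_fromSpecStalk] at this
    exact this
  have hfzX : f zX = f x := (hfib Qs).2 hmQ
  obtain ⟨z, hz⟩ : ∃ z : f.fiber (f x), f.fiberι (f x) z = zX := by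
    have : zX ∈ Set.range (f.fiberι (f x)) := by rw [Scheme.Hom.range_fiberι]; exact hfzX
    exact this
  have hind := (f.fiberι (f x)).isEmbedding.isInducing
  have h1 : f.asFiber x ∈ closure {z} := by
    rw [← specializes_iff_mem_closure, ← hind.specializes_iff, hz, f.fiberι_asFiber x]
    exact hzXx
  have h2 : ∀ z' : f.fiber (f x), z ∈ closure {z'} → z' = z := by
    intro z' hz'
    rw [← specializes_iff_mem_closure, ← hind.specializes_iff, hz] at hz'
    have hz'x : f.fiberι (f x) z' ⤳ x := hz'.trans hzXx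
    obtain ⟨Q', hQ'⟩ : ∃ Q' : PrimeSpectrum (X.presheaf.stalk x),
        X.fromSpecStalk x Q' = f.fiberι (f x) z' := by
      have : f.fiberι (f x) z' ∈ Set.range (X.fromSpecStalk x) := by
        rw [Scheme.range_fromSpecStalk]; exact hz'x
      exact this
    have hfz' : f (f.fiberι (f x) z') = f x := by
      have : f.fiberι (f x) z' ∈ Set.range (f.fiberι (f x)) := ⟨z', rfl⟩
      rw [Scheme.Hom.range_fiberι] at this
      exact this
    have hQ'm : (maximalIdeal (Y.presheaf.stalk (f x))).map φ ≤ Q'.asIdeal :=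
      (hfib Q').1 (by rw [hQ']; exact hfz')
    have hQ'le : Q' ≤ Qs := by
      rw [PrimeSpectrum.le_iff_specializes]
      have h5 : X.fromSpecStalk x Q' ⤳ X.fromSpecStalk x Qs := by rw [hQ']; exact hz'
      exact (X.fromSpecStalk x).isEmbedding.isInducing.specializes_iff.1 h5
    have hle : Q ≤ Q'.asIdeal := hQ.2 ⟨Q'.isPrime, hQ'm⟩ hQ'le
    have hQQ' : Q' = Qs := le_antisymm hQ'le hle
    apply (f.fiberι (f x)).isEmbedding.injective
    rw [hz, ← hQ', hQQ']
  have hopen := h z h1 h2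
  have hopen' : EGA43.IsOpenAt f.base zX := by
    rw [← hz]; exact hopen
  set ps : PrimeSpectrum (Y.presheaf.stalk (f x)) := ⟨p, hp⟩ with hps
  set y' := Y.fromSpecStalk (f x) ps with hy'def
  have hy' : y' ⤳ f zX := by
    rw [hfzX]
    have : y' ∈ Set.range (Y.fromSpecStalk (f x)) := ⟨ps, rfl⟩
    rw [Scheme.range_fromSpecStalk] at this
    exact this
  obtain ⟨z'', hz''z, hfz''⟩ := exists_generization_of_isOpenAt f zX hopen' y' hy'
  obtain ⟨q'', hq''⟩ : ∃ q'' : PrimeSpectrum (X.presheaf.stalk x),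
      X.fromSpecStalk x q'' = z'' := by
    have : z'' ∈ Set.range (X.fromSpecStalk x) := by
      rw [Scheme.range_fromSpecStalk]; exact hz''z.trans hzXx
    exact this
  refine ⟨q''.asIdeal, q''.isPrime, ?_, ?_⟩
  · have : q'' ≤ Qs := by
      rw [PrimeSpectrum.le_iff_specializes]
      have h5 : X.fromSpecStalk x q'' ⤳ X.fromSpecStalk x Qs := by rw [hq'']; exact hz''z
      exact (X.fromSpecStalk x).isEmbedding.isInducing.specializes_iff.1 h5
    exact this
  · have h3 : Y.fromSpecStalk (f x) (PrimeSpectrum.comap φ q'') = Y.fromSpecStalk (f x) ps := by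
      rw [← hcompat, hq'']; exact hfz''
    have h4 := hinjY h3
    exact congrArg PrimeSpectrum.asIdeal h4

/-- **EGA IV 14.2.1**. -/
theorem s2559 {X Y : Scheme.{u}} [IsLocallyNoetherian X] [IsLocallyNoetherian Y]
    (f : X ⟶ Y) (x : X)
    (h : ∀ z : ↥(f.fiber (f.base x)), f.asFiber x ∈ closure {z} →
      (∀ z' : ↥(f.fiber (f.base x)), z ∈ closure {z'} → z' = z) →
      EGA43.IsOpenAt f.base ((f.fiberι (f.base x)).base z)) :
    ringKrullDim (X.presheaf.stalk x) =
      ringKrullDim (Y.presheaf.stalk (f.base x)) +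
        ringKrullDim ((f.fiber (f.base x)).presheaf.stalk (f.asFiber x)) := by
  have hcond := cond_of_lift (f.stalkMap x).hom (lift_of_isOpenAt f x h)
  have hmain := Groth.Agent.H8.DimFib.main _ _ (f.stalkMap x).hom hcond
  rw [hmain, ringKrullDim_eq_of_ringEquiv (Groth.Agent.H1.FibreStalk.fiberStalkEquiv f x)]

end Groth.Agent.H1.OpenGen
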