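import Mathlib
import Groth.Prelude.Def_Flat
import Groth.Agent.Lib.Helper1.RelDim
import Groth.Agent.Lib.Helper1.DimFormula
import Groth.Agent.Lib.Helper3.TopDim

/-!
# EGA IV 14.3.13 / 14.4: preliminaries (helper1)

* `exists_prime_coheight_one`: in a noetherian ring, between two primes `q₀ < p` there is a prime
  `q'` of coheight one in `p` avoiding a given element outside `q₀`.
* local dimension of subspaces.
-/

set_option autoImplicit false
set_option linter.style.haveILetI false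
universe u

namespace Groth.Agent.H1.UO14

open TopologicalSpace Topology

section Alg

/-- **coheight one primes**: in a noetherian ring, for primes `q₀ < p` and `a ∉ q₀` there is a prime
`q₀ ≤ q' ≤ p` with `a ∉ q'` such that `p / q'` has height one. -/
theorem exists_prime_coheight_one {A : Type*} [CommRing A] [IsNoetherianRing A]
    (q₀ p : Ideal A) [hq₀ : q₀.IsPrime] [hp : p.IsPrime] (hlt : q₀ < p) (a : A) (ha : a ∉ q₀) :
    ∃ q' : Ideal A, q'.IsPrime ∧ q₀ ≤ q' ∧ q' ≤ p ∧ a ∉ q' ∧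
      (p.map (Ideal.Quotient.mk q')).height = 1 := by
  classical
  obtain ⟨t, htp, htq⟩ := SetLike.exists_of_lt hlt
  set c := a * t with hc
  have hcq₀ : c ∉ q₀ := fun h => (hq₀.mem_or_mem h).elim ha htq
  have hcp : c ∈ p := p.mul_mem_left a htp
  let S : Set (Ideal A) := {q | q.IsPrime ∧ q₀ ≤ q ∧ q ≤ p ∧ c ∉ q}
  have hSne : S.Nonempty := ⟨q₀, hq₀, le_rfl, hlt.le, hcq₀⟩
  obtain ⟨q', hq'S, hq'max⟩ := (wellFounded_gt (α := Ideal A)).has_min S hSne
  obtain ⟨hq'p, hq₀q', hq'le, hcq'⟩ := hq'S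
  haveI := hq'p
  have haq' : a ∉ q' := fun h => hcq' (q'.mul_mem_right t h)
  refine ⟨q', hq'p, hq₀q', hq'le, haq', ?_⟩
  set π := Ideal.Quotient.mk q' with hπ
  have hπs : Function.Surjective π := Ideal.Quotient.mk_surjective
  have hker : RingHom.ker π = q' := Ideal.mk_ker
  have hkerle : ∀ r : Ideal (A ⧸ q'), q' ≤ r.comap π := fun r => by
    intro z hz
    rw [Ideal.mem_comap, Ideal.Quotient.eq_zero_iff_mem.mpr hz]
    exact r.zero_mem
  set P := p.map π with hP
  haveI hPp : P.IsPrime := Ideal.map_isPrime_of_surjective hπs (by rw [hker]; exact hq'le)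
  have hcomapP : P.comap π = p := by
    rw [hP, Ideal.comap_map_of_surjective π hπs, ← RingHom.ker_eq_comap_bot, hker]
    exact sup_eq_left.mpr hq'le
  have hPbot : P ≠ ⊥ := by
    intro h
    have h1 : p ≤ q' := by
      rw [← hcomapP, h, ← RingHom.ker_eq_comap_bot, hker]
    exact hcq' (h1 hcp)
  have h1 : 1 ≤ P.height := by
    rw [Order.one_le_iff_pos, pos_iff_ne_zero, Ne, Ideal.height_eq_zero_iff_eq_bot]
    exact hPbot
  refine le_antisymm ?_ h1
  by_contra hgt
  rw [not_le] at hgt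
  -- every nonzero prime below `P` contains `π c`
  have hkey : ∀ r : Ideal (A ⧸ q'), r.IsPrime → r ≠ ⊥ → r ≤ P → π c ∈ r := by
    intro r hr hrbot hrP
    by_contra hcr
    have hr' : (r.comap π) ∈ S := by
      refine ⟨Ideal.comap_isPrime π r, hq₀q'.trans (hkerle r), ?_, hcr⟩
      rw [← hcomapP]; exact Ideal.comap_mono hrP
    have hlt' : q' < r.comap π := by
      refine lt_of_le_of_ne (hkerle r) ?_
      intro heq
      apply hrbot
      have h2 : r = (r.comap π).map π := (Ideal.map_comap_of_surjective π hπs r).symm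
      rw [h2, ← heq]
      exact Ideal.map_quotient_self q'
    exact hq'max _ hr' hlt'
  have hπc : π c ≠ 0 := by
    rw [Ne, Ideal.Quotient.eq_zero_iff_mem]; exact hcq'
  have hπcP : π c ∈ P := Ideal.mem_map_of_mem π hcp
  have hspanP : Ideal.span {π c} ≤ P := by
    rw [Ideal.span_le, Set.singleton_subset_iff]; exact hπcP
  have hfin := (Ideal.span {π c}).finite_minimalPrimes_of_isNoetherianRing (A ⧸ q')
  have hnot : ¬ ((P : Set (A ⧸ q')) ⊆
      ⋃ Q ∈ (↑hfin.toFinset : Set (Ideal (A ⧸ q'))), ((fun Q : Ideal (A ⧸ q') => Q) Q : Set (A ⧸ q'))) := by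
    intro hsub
    rw [Ideal.subset_union_prime (⊥ : Ideal (A ⧸ q')) ⊥
      (fun Q hQ _ _ => (hfin.mem_toFinset.mp hQ).1.1)] at hsub
    obtain ⟨Q, hQ, hPQ⟩ := hsub
    have hQm : Q ∈ (Ideal.span {π c}).minimalPrimes := hfin.mem_toFinset.mp hQ
    have h3 := Ideal.height_le_one_of_isPrincipal_of_mem_minimalPrimes _ Q hQm
    exact absurd ((Ideal.height_mono hPQ).trans h3) (not_le.mpr hgt)
  rw [Set.not_subset] at hnot
  obtain ⟨b, hbP, hbU⟩ := hnot
  have hbQ : ∀ Q ∈ (Ideal.span {π c}).minimalPrimes, b ∉ Q := by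
    intro Q hQ hbQ
    apply hbU
    simp only [Set.mem_iUnion]
    exact ⟨Q, by simpa using hQ, hbQ⟩
  obtain ⟨Q₀, hQ₀, -⟩ := Ideal.exists_minimalPrimes_le hspanP
  have hb0 : b ≠ 0 := by
    rintro rfl
    exact hbQ Q₀ hQ₀ Q₀.zero_mem
  have hspanb : Ideal.span {b} ≤ P := by
    rw [Ideal.span_le, Set.singleton_subset_iff]; exact hbP
  obtain ⟨r, hrmin, hrP⟩ := Ideal.exists_minimalPrimes_le hspanb
  haveI hrp : r.IsPrime := hrmin.1.1
  have hbr : b ∈ r := hrmin.1.2 (Ideal.subset_span rfl)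
  have hrbot : r ≠ ⊥ := by
    intro h; rw [h, Ideal.mem_bot] at hbr; exact hb0 hbr
  have hcr : π c ∈ r := hkey r hrp hrbot hrP
  have hspanr : Ideal.span {π c} ≤ r := by
    rw [Ideal.span_le, Set.singleton_subset_iff]; exact hcr
  obtain ⟨Q, hQmin, hQr⟩ := Ideal.exists_minimalPrimes_le hspanr
  haveI hQp : Q.IsPrime := hQmin.1.1
  have hQbot : Q ≠ ⊥ := by
    intro h
    have : π c ∈ Q := hQmin.1.2 (Ideal.subset_span rfl)
    rw [h, Ideal.mem_bot] at this; exact hπc this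
  have hr1 : r.height ≤ 1 := Ideal.height_le_one_of_isPrincipal_of_mem_minimalPrimes _ r hrmin
  have hQr' : Q = r := by
    by_contra hne
    have hlt'' : Q < r := lt_of_le_of_ne hQr hne
    have h4 := Ideal.height_strict_mono_of_isPrime_of_isPrime hlt''
    have h5 : Q.height = 0 := by
      have : Q.height < 1 := lt_of_lt_of_le h4 hr1
      exact Order.lt_one_iff_nonpos.mp this |> nonpos_iff_eq_zero.mp
    exact hQbot (Ideal.height_eq_zero_iff_eq_bot.mp h5)
  exact hbQ Q hQmin (hQr' ▸ hbr)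

end Alg

section Top

variable {T : Type*} [TopologicalSpace T]

/-- transport of the local dimension along an equality of subsets. -/
theorem localDim_congr_set {S S' : Set T} (h : S = S') (x : T) (hx : x ∈ S) :
    FlatMor.localDim ↥S ⟨x, hx⟩ = FlatMor.localDim ↥S' ⟨x, h ▸ hx⟩ := by
  subst h; rfl

/-- the local dimension of a subspace computed with the open sets of the ambient space. -/
theorem localDim_subtype (S : Set T) (x : T) (hx : x ∈ S) :
    FlatMor.localDim ↥S ⟨x, hx⟩ =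
      ⨅ N : {N : Opens T // x ∈ N}, topologicalKrullDim ↥(S ∩ (N.1 : Set T)) := by
  have hdim : ∀ N : Opens T, topologicalKrullDim ↥((Subtype.val : ↥S → T) ⁻¹' (N : Set T)) =
      topologicalKrullDim ↥(S ∩ (N : Set T)) := by
    intro N
    rw [Groth.Agent.H1.RelDim.dim_preimage_eq_of_isEmbedding IsEmbedding.subtypeVal,
      Subtype.range_coe, Set.inter_comm]
  apply le_antisymm
  · apply le_iInf
    rintro ⟨N, hN⟩
    unfold FlatMor.localDim
    refine (iInf_le _ (⟨N.comap ⟨Subtype.val, continuous_subtype_val⟩, hN⟩ :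
      {U : Opens ↥S // (⟨x, hx⟩ : ↥S) ∈ U})).trans ?_
    exact (hdim N).le
  · unfold FlatMor.localDim
    apply le_iInf
    rintro ⟨O, hO⟩
    obtain ⟨N, hNo, hNO⟩ := isOpen_induced_iff.mp O.isOpen
    have hxN : x ∈ (⟨N, hNo⟩ : Opens T) := by
      have : (⟨x, hx⟩ : ↥S) ∈ (Subtype.val : ↥S → T) ⁻¹' N := by rw [hNO]; exact hO
      exact this
    refine (iInf_le _ (⟨⟨N, hNo⟩, hxN⟩ : {N : Opens T // x ∈ N})).trans ?_
    have h1 : topologicalKrullDim ↥(S ∩ N) =
        topologicalKrullDim ↥((Subtype.val : ↥S → T) ⁻¹' N) := (hdim ⟨N, hNo⟩).symm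
    show topologicalKrullDim ↥(S ∩ N) ≤ topologicalKrullDim ↥(O : Set ↥S)
    rw [h1]
    exact Groth.Agent.H3.TopDim.dim_mono hNO.le

/-- monotonicity of the local dimension in the subspace. -/
theorem localDim_mono_set {S S' : Set T} (h : S ⊆ S') (x : T) (hx : x ∈ S) :
    FlatMor.localDim ↥S ⟨x, hx⟩ ≤ FlatMor.localDim ↥S' ⟨x, h hx⟩ := by
  rw [localDim_subtype, localDim_subtype]
  exact iInf_mono fun N =>
    Groth.Agent.H3.TopDim.dim_mono (Set.inter_subset_inter_left _ h)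

/-- the local dimension only depends on the germ of the subspace. -/
theorem localDim_eq_of_inter_eq {S S' : Set T} (N₀ : Opens T) (x : T) (hx : x ∈ S) (hx' : x ∈ S')
    (hxN : x ∈ N₀) (h : S ∩ (N₀ : Set T) = S' ∩ (N₀ : Set T)) :
    FlatMor.localDim ↥S ⟨x, hx⟩ = FlatMor.localDim ↥S' ⟨x, hx'⟩ := by
  have key : ∀ (A B : Set T) (hA : x ∈ A) (hB : x ∈ B),
      A ∩ (N₀ : Set T) = B ∩ (N₀ : Set T) →
      FlatMor.localDim ↥A ⟨x, hA⟩ ≤ FlatMor.localDim ↥B ⟨x, hB⟩ := by
    intro A B hA hB hAB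
    rw [localDim_subtype, localDim_subtype]
    apply le_iInf
    rintro ⟨N, hN⟩
    refine (iInf_le _ (⟨N ⊓ N₀, ⟨hN, hxN⟩⟩ : {N : Opens T // x ∈ N})).trans ?_
    apply Groth.Agent.H3.TopDim.dim_mono
    rintro z ⟨hzA, hzN, hzN₀⟩
    have : z ∈ B ∩ (N₀ : Set T) := hAB ▸ ⟨hzA, hzN₀⟩
    exact ⟨this.1, hzN⟩
  exact le_antisymm (key S S' hx hx' h) (key S' S hx' hx h.symm)

end Top

end Groth.Agent.H1.UO14
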