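import Mathlib
import Groth.Prelude.Def_EGA43
import Groth.Agent.Lib.Helper1.UO14A
import Groth.Agent.Lib.Helper1.EquidimLocC
import Groth.Agent.Lib.Helper1.FibGen
import Groth.Agent.Lib.Helper1.OpenGen
import Groth.Agent.Lib.Helper1.DVRCrit

/-!
# EGA IV 14.3.13, c) ⇒ b'): lifting generizations with large fibre dimension (helper1)
-/

set_option autoImplicit false
set_option linter.style.haveILetI false
universe u

namespace Groth.Agent.H1.UO14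

open AlgebraicGeometry CategoryTheory TopologicalSpace Topology
open Groth.Agent.H1.DimFormula Groth.Agent.H1.EquidimLoc Groth.Agent.H1.DimLoc
  Groth.Agent.H1.DimIneq Groth.Agent.H1.FibGen Groth.Agent.H1.OpenGen Groth.Agent.H1.DVRCrit

variable {X Y : Scheme.{u}}

theorem fromSpec_mem' {U : X.Opens} (hU : IsAffineOpen U) (P : Spec Γ(X, U)) :
    hU.fromSpec P ∈ U := by
  have : hU.fromSpec P ∈ Set.range hU.fromSpec := ⟨P, rfl⟩
  rw [hU.range_fromSpec] at this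
  exact this

set_option backward.isDefEq.respectTransparency false in
/-- **Key lemma** (EGA IV 14.3.13, c) ⇒ b')). Let `Y` be locally noetherian, `f` locally of finite
type and open at a point `x` which is maximal in its fibre. Then every generization `η` of `f x`
lifts to a generization `ξ` of `x`, maximal in its fibre, whose local fibre dimension is at least
that of `x`. -/
theorem exists_generization_fibreDimAt_ge [IsLocallyNoetherian Y] (f : X ⟶ Y)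
    [LocallyOfFiniteType f] (x : X) (hmax : ∀ x' : X, f x' = f x → x' ⤳ x → x' = x)
    (hopen : EGA43.IsOpenAt f.base x) (η : Y) (hη : η ⤳ f x) :
    ∃ ξ : X, ξ ⤳ x ∧ f ξ = η ∧ (∀ z : X, f z = f ξ → z ⤳ ξ → z = ξ) ∧
      FlatMor.fibreDimAt f x ≤ FlatMor.fibreDimAt f ξ := by
  classical
  obtain ⟨d, hdtr, hd⟩ := fibreDimAt_eq_trdeg_of_generic f x hmax
  by_contra hcon
  have hcon' : ∀ ξ : X, ξ ⤳ x → f ξ = η → (∀ z : X, f z = f ξ → z ⤳ ξ → z = ξ) →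
      ¬ (FlatMor.fibreDimAt f x ≤ FlatMor.fibreDimAt f ξ) :=
    fun ξ h1 h2 h3 h4 => hcon ⟨ξ, h1, h2, h3, h4⟩
  -- points over `η` specializing to `x` have small fibre dimension
  have hA : ∀ c : X, c ⤳ x → f c = η → ∃ t : ℕ, FlatMor.fibreDimAt f c = t ∧ t < d := by
    intro c hcx hfc
    obtain ⟨z, hfz, hzc, hzmax, hzdim⟩ := exists_fibre_generic_fibreDimAt_eq f c
    obtain ⟨t, -, ht⟩ := fibreDimAt_eq_trdeg_of_generic f z
      (fun x' hx' hsp => hzmax x' (hx'.trans hfz) hsp)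
    refine ⟨t, by rw [← hzdim, ht], ?_⟩
    have h1 := hcon' z (hzc.trans hcx) (hfz.trans hfc)
      (fun z' hz' hsp => hzmax z' (hz'.trans hfz) hsp)
    rw [hd, ht] at h1
    by_contra hlt
    apply h1
    exact_mod_cast (not_lt.mp hlt)
  obtain ⟨ξ₀, hξ₀x, hfξ₀⟩ := exists_generization_of_isOpenAt f x hopen η hη
  obtain ⟨t₀, -, ht₀d⟩ := hA ξ₀ hξ₀x hfξ₀
  have hd1 : 1 ≤ d := by omega
  -- charts
  obtain ⟨V, hV, hfxV, -⟩ := exists_affine_nhd_le (f x) ⊤ trivial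
  obtain ⟨U, hU, hxU, e⟩ := exists_affine_nhd_le x (f ⁻¹ᵁ V) hfxV
  haveI : IsNoetherianRing Γ(Y, V) := IsLocallyNoetherian.component_noetherian ⟨V, hV⟩
  letI : Algebra Γ(Y, V) Γ(X, U) := (f.appLE V U e).hom.toAlgebra
  haveI : Algebra.FiniteType Γ(Y, V) Γ(X, U) := f.finiteType_appLE hV hU e
  haveI : IsNoetherianRing Γ(X, U) := Algebra.FiniteType.isNoetherianRing Γ(Y, V) Γ(X, U)
  -- the closed set of points over `closure {η}` with large fibre dimension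
  let C : Set X :=
    {z | ¬ FlatMor.fibreDimAt f z ≤ ((d - 1 : ℕ) : WithBot ℕ∞)} ∩ f ⁻¹' closure {η}
  have hCcl : IsClosed C := by
    apply IsClosed.inter
    · exact isClosed_compl_iff.mpr (Groth.Agent.H1.Chev.isOpen_fibreDimAt_le f (d - 1))
    · exact isClosed_closure.preimage f.continuous
  let C' : Set (PrimeSpectrum Γ(X, U)) := hU.fromSpec ⁻¹' C
  have hC'cl : IsClosed C' := hCcl.preimage hU.fromSpec.continuous
  let J : Ideal Γ(X, U) := PrimeSpectrum.vanishingIdeal C'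
  have hJz : PrimeSpectrum.zeroLocus (J : Set Γ(X, U)) = C' := by
    rw [PrimeSpectrum.zeroLocus_vanishingIdeal_eq_closure, hC'cl.closure_eq]
  have hηV : η ∈ V := hη.mem_open V.isOpen hfxV
  have hq₀p₀ : (hV.primeIdealOf ⟨η, hηV⟩).asIdeal ≤ (hV.primeIdealOf ⟨f x, hfxV⟩).asIdeal :=
    primeIdealOf_le_of_specializes hV (f x) η hfxV hηV hη
  have hηne : η ≠ f x := by
    intro h
    obtain ⟨t, ht, htd⟩ := hA x specializes_rfl h.symm
    rw [hd] at ht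
    have : d = t := by exact_mod_cast ht
    omega
  have hq₀ne : (hV.primeIdealOf ⟨η, hηV⟩).asIdeal ≠ (hV.primeIdealOf ⟨f x, hfxV⟩).asIdeal := by
    intro h
    apply hηne
    have h1 : hV.primeIdealOf ⟨η, hηV⟩ = hV.primeIdealOf ⟨f x, hfxV⟩ := PrimeSpectrum.ext h
    have h2 : hV.fromSpec (hV.primeIdealOf ⟨η, hηV⟩) =
        hV.fromSpec (hV.primeIdealOf ⟨f x, hfxV⟩) := by rw [h1]
    rwa [hV.fromSpec_primeIdealOf, hV.fromSpec_primeIdealOf] at h2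
  have hfin := J.finite_minimalPrimes_of_isNoetherianRing Γ(X, U)
  let ψ : Γ(Y, V) →+* Γ(X, U) := (f.appLE V U e).hom
  let s : Finset (Ideal Γ(X, U)) :=
    hfin.toFinset.filter (fun 𝔠 => 𝔠 ≤ (hU.primeIdealOf ⟨x, hxU⟩).asIdeal)
  have hs : ¬ (s.inf (fun 𝔠 => 𝔠.comap ψ) ≤ (hV.primeIdealOf ⟨η, hηV⟩).asIdeal) := by
    intro hle
    rw [Ideal.IsPrime.inf_le' (hV.primeIdealOf ⟨η, hηV⟩).isPrime] at hle
    obtain ⟨𝔠, h𝔠s, h𝔠le⟩ := hle
    rw [Finset.mem_filter, Set.Finite.mem_toFinset] at h𝔠s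
    obtain ⟨h𝔠min, h𝔠px⟩ := h𝔠s
    haveI h𝔠p : 𝔠.IsPrime := h𝔠min.1.1
    let c₀ : Spec Γ(X, U) := (⟨𝔠, h𝔠p⟩ : PrimeSpectrum Γ(X, U))
    have hc₀C' : (⟨𝔠, h𝔠p⟩ : PrimeSpectrum Γ(X, U)) ∈ C' := by
      rw [← hJz, PrimeSpectrum.mem_zeroLocus]; exact h𝔠min.1.2
    have hcC : hU.fromSpec c₀ ∈ C := hc₀C'
    have hcU : hU.fromSpec c₀ ∈ U := fromSpec_mem' hU c₀
    have hcx : hU.fromSpec c₀ ⤳ x := by
      have h1 : c₀ ⤳ hU.primeIdealOf ⟨x, hxU⟩ :=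
        (PrimeSpectrum.le_iff_specializes (R := Γ(X, U)) c₀ (hU.primeIdealOf ⟨x, hxU⟩)).1 h𝔠px
      have h2 := h1.map hU.fromSpec.continuous
      rwa [hU.fromSpec_primeIdealOf] at h2
    have hcomap : (hU.primeIdealOf ⟨hU.fromSpec c₀, hcU⟩).asIdeal.comap ψ =
        (hV.primeIdealOf ⟨f (hU.fromSpec c₀), e hcU⟩).asIdeal :=
      congrArg PrimeSpectrum.asIdeal
        (IsAffineOpen.comap_primeIdealOf_appLE (f := f) V hV U hU e hcU)
    rw [primeIdealOf_fromSpec hU c₀ hcU] at hcomap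
    have hfc : η ⤳ f (hU.fromSpec c₀) := specializes_iff_mem_closure.mpr hcC.2
    have hge : (hV.primeIdealOf ⟨η, hηV⟩).asIdeal ≤
        (hV.primeIdealOf ⟨f (hU.fromSpec c₀), e hcU⟩).asIdeal :=
      primeIdealOf_le_of_specializes hV _ η (e hcU) hηV hfc
    have heq : (hV.primeIdealOf ⟨f (hU.fromSpec c₀), e hcU⟩).asIdeal =
        (hV.primeIdealOf ⟨η, hηV⟩).asIdeal := le_antisymm (hcomap ▸ h𝔠le) hge
    have hfceq : f (hU.fromSpec c₀) = η := by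
      have h1 : hV.primeIdealOf ⟨f (hU.fromSpec c₀), e hcU⟩ = hV.primeIdealOf ⟨η, hηV⟩ :=
        PrimeSpectrum.ext heq
      have h2 : hV.fromSpec (hV.primeIdealOf ⟨f (hU.fromSpec c₀), e hcU⟩) =
          hV.fromSpec (hV.primeIdealOf ⟨η, hηV⟩) := by rw [h1]
      rwa [hV.fromSpec_primeIdealOf, hV.fromSpec_primeIdealOf] at h2
    obtain ⟨t, ht, htd⟩ := hA _ hcx hfceq
    apply hcC.1
    rw [ht]
    exact_mod_cast (by omega : t ≤ d - 1)
  obtain ⟨a, has, haq₀⟩ := SetLike.not_le_iff_exists.mp hs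
  obtain ⟨q', hq'p, hq₀q', hq'p₀, haq', hht⟩ := exists_prime_coheight_one
    (hV.primeIdealOf ⟨η, hηV⟩).asIdeal (hV.primeIdealOf ⟨f x, hfxV⟩).asIdeal
    (lt_of_le_of_ne hq₀p₀ hq₀ne) a haq₀
  let y₁₀ : Spec Γ(Y, V) := (⟨q', hq'p⟩ : PrimeSpectrum Γ(Y, V))
  have hy₁x : hV.fromSpec y₁₀ ⤳ f x := by
    have h1 : y₁₀ ⤳ hV.primeIdealOf ⟨f x, hfxV⟩ :=
      (PrimeSpectrum.le_iff_specializes (R := Γ(Y, V)) y₁₀ (hV.primeIdealOf ⟨f x, hfxV⟩)).1 hq'p₀
    have h2 := h1.map hV.fromSpec.continuous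
    rwa [hV.fromSpec_primeIdealOf] at h2
  have hηy₁ : η ⤳ hV.fromSpec y₁₀ := by
    have h1 : hV.primeIdealOf ⟨η, hηV⟩ ⤳ y₁₀ :=
      (PrimeSpectrum.le_iff_specializes (R := Γ(Y, V)) (hV.primeIdealOf ⟨η, hηV⟩) y₁₀).1 hq₀q'
    have h2 := h1.map hV.fromSpec.continuous
    rwa [hV.fromSpec_primeIdealOf] at h2
  obtain ⟨z'', hz''x, hfz''⟩ := exists_generization_of_isOpenAt f x hopen (hV.fromSpec y₁₀) hy₁x
  obtain ⟨z, hfz, hzz'', hzmax, -⟩ := exists_fibre_generic_fibreDimAt_eq f z''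
  have hfz' : f z = hV.fromSpec y₁₀ := hfz.trans hfz''
  have hzx : z ⤳ x := hzz''.trans hz''x
  have hzU : z ∈ U := hzx.mem_open U.isOpen hxU
  obtain ⟨tz, htztr, htz⟩ := fibreDimAt_eq_trdeg_of_generic f z
    (fun x' hx' hsp => hzmax x' (hx'.trans hfz) hsp)
  have hpz : (hV.primeIdealOf ⟨f z, e hzU⟩).asIdeal = q' := by
    have h1 : hV.primeIdealOf ⟨f z, e hzU⟩ = y₁₀ := by
      apply hV.fromSpec.isOpenEmbedding.injective
      rw [hV.fromSpec_primeIdealOf]; exact hfz'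
    rw [h1]
  have hrel := chart_relative_le_enat f hU hV e x z hxU hzU hzx inferInstance d tz hdtr htztr
  rw [hpz, hht] at hrel
  have hzne : z ≠ x := by
    intro h
    have h1 : hV.fromSpec y₁₀ = f x := by rw [← hfz', h]
    have h2 : (hV.primeIdealOf ⟨f x, hfxV⟩).asIdeal = q' := by
      have h3 : hV.primeIdealOf ⟨f x, hfxV⟩ = y₁₀ := by
        apply hV.fromSpec.isOpenEmbedding.injective
        rw [hV.fromSpec_primeIdealOf]; exact h1.symm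
      rw [h3]
    rw [h2, Ideal.map_quotient_self, Ideal.height_bot] at hht
    exact zero_ne_one hht
  have hpzx : (hU.primeIdealOf ⟨z, hzU⟩).asIdeal ≤ (hU.primeIdealOf ⟨x, hxU⟩).asIdeal :=
    primeIdealOf_le_of_specializes hU x z hxU hzU hzx
  have hLHS : 1 ≤ ((hU.primeIdealOf ⟨x, hxU⟩).asIdeal.map
      (Ideal.Quotient.mk (hU.primeIdealOf ⟨z, hzU⟩).asIdeal)).height := by
    rw [Order.one_le_iff_pos, pos_iff_ne_zero, Ne, Ideal.height_eq_zero_iff_eq_bot,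
      Ideal.map_eq_bot_iff_le_ker, Ideal.mk_ker]
    intro hle
    apply hzne
    have h1 : hU.primeIdealOf ⟨z, hzU⟩ = hU.primeIdealOf ⟨x, hxU⟩ :=
      PrimeSpectrum.ext (le_antisymm hpzx hle)
    have h2 : hU.fromSpec (hU.primeIdealOf ⟨z, hzU⟩) =
        hU.fromSpec (hU.primeIdealOf ⟨x, hxU⟩) := by rw [h1]
    rwa [hU.fromSpec_primeIdealOf, hU.fromSpec_primeIdealOf] at h2
  have hdtz : d ≤ tz := by
    have h1 : (1 : ℕ∞) + d ≤ 1 + tz := (add_le_add hLHS le_rfl).trans hrel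
    have h2 : ((1 + d : ℕ) : ℕ∞) ≤ ((1 + tz : ℕ) : ℕ∞) := by push_cast; exact h1
    have h3 : 1 + d ≤ 1 + tz := by exact_mod_cast h2
    omega
  have hzC : z ∈ C := by
    refine ⟨?_, ?_⟩
    · show ¬ FlatMor.fibreDimAt f z ≤ ((d - 1 : ℕ) : WithBot ℕ∞)
      rw [htz]
      intro h
      have : tz ≤ d - 1 := by exact_mod_cast h
      omega
    · show f z ∈ closure {η}
      rw [hfz']; exact specializes_iff_mem_closure.mp hηy₁
  have hJz' : J ≤ (hU.primeIdealOf ⟨z, hzU⟩).asIdeal := by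
    have h1 : hU.primeIdealOf ⟨z, hzU⟩ ∈ C' := by
      show hU.fromSpec (hU.primeIdealOf ⟨z, hzU⟩) ∈ C
      rw [hU.fromSpec_primeIdealOf]; exact hzC
    rw [← hJz, PrimeSpectrum.mem_zeroLocus] at h1
    exact h1
  obtain ⟨𝔠, h𝔠min, h𝔠le⟩ := Ideal.exists_minimalPrimes_le hJz'
  have h𝔠s : 𝔠 ∈ s := by
    rw [Finset.mem_filter, Set.Finite.mem_toFinset]
    exact ⟨h𝔠min, h𝔠le.trans hpzx⟩
  have ha𝔠 : a ∈ 𝔠.comap ψ := (Finset.inf_le h𝔠s : s.inf (fun 𝔠 => 𝔠.comap ψ) ≤ _) has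
  have haz : a ∈ (hU.primeIdealOf ⟨z, hzU⟩).asIdeal.comap ψ := Ideal.comap_mono h𝔠le ha𝔠
  have hcomap : (hU.primeIdealOf ⟨z, hzU⟩).asIdeal.comap ψ =
      (hV.primeIdealOf ⟨f z, e hzU⟩).asIdeal :=
    congrArg PrimeSpectrum.asIdeal
      (IsAffineOpen.comap_primeIdealOf_appLE (f := f) V hV U hU e hzU)
  rw [hcomap, hpz] at haz
  exact haq' haz

end Groth.Agent.H1.UO14
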