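import Mathlib
import Groth.Prelude.Def_EGA43
import Groth.Agent.Lib.Helper1.UO14A
import Groth.Agent.Lib.Helper1.DimFormula3
import Groth.Agent.Lib.Helper1.GenPts
import Groth.Agent.Lib.Helper1.RelDim
import Groth.Agent.Lib.Helper3.UnivOpenAt

/-!
# EGA IV 14.3.13 / 14.4: fibre dimensions as local dimensions of subspaces (helper1)
-/

set_option autoImplicit false
set_option linter.style.haveILetI false
universe u

namespace Groth.Agent.H1.UO14

open AlgebraicGeometry CategoryTheory CategoryTheory.Limits TopologicalSpace Topology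
open Groth.Agent.H1.DimFormula Groth.Agent.H3

variable {X Y : Scheme.{u}}

/-- the local fibre dimension as the local dimension of the set-theoretic fibre. -/
theorem fibreDimAt_eq_localDim_preimage (f : X ⟶ Y) (x : X) (y : Y) (hy : f.base x = y) :
    FlatMor.fibreDimAt f x = FlatMor.localDim ↥(f.base ⁻¹' {y}) ⟨x, hy⟩ := by
  subst hy
  unfold FlatMor.fibreDimAt
  rw [localDim_eq_of_isOpenEmbedding (f.fiberHomeo (f.base x)).isOpenEmbedding (f.asFiber x)]
  congr 1
  exact Subtype.ext (f.fiberι_asFiber x)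

/-- the local fibre dimension of a composite `i ≫ f` with `i` a topological embedding. -/
theorem fibreDimAt_comp_of_isEmbedding {T : Scheme.{u}} (i : T ⟶ X) (hi : IsEmbedding i.base)
    (f : X ⟶ Y) (t : T) :
    FlatMor.fibreDimAt (i ≫ f) t =
      FlatMor.localDim ↥(Set.range i.base ∩ f.base ⁻¹' {f.base (i.base t)})
        ⟨i.base t, ⟨⟨t, rfl⟩, rfl⟩⟩ := by
  rw [fibreDimAt_eq_localDim_preimage (i ≫ f) t (f.base (i.base t)) rfl]
  let e : ↥((i ≫ f).base ⁻¹' {f.base (i.base t)}) → X := fun a => i.base a.1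
  have he : IsEmbedding e := hi.comp IsEmbedding.subtypeVal
  have hr : Set.range e = Set.range i.base ∩ f.base ⁻¹' {f.base (i.base t)} := by
    ext b
    constructor
    · rintro ⟨⟨a, ha⟩, rfl⟩
      exact ⟨⟨a, rfl⟩, ha⟩
    · rintro ⟨⟨a, rfl⟩, hb⟩
      exact ⟨⟨a, hb⟩, rfl⟩
  have h1 := localDim_eq_of_isOpenEmbedding he.toHomeomorph.isOpenEmbedding
    (⟨t, rfl⟩ : ↥((i ≫ f).base ⁻¹' {f.base (i.base t)}))
  rw [h1]
  exact localDim_congr_set hr (i.base t) ⟨⟨t, rfl⟩, rfl⟩

/-- at a maximal point `z` of its fibre, a closed subset through `z` has the full local fibre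
dimension. -/
theorem localDim_inter_fibre_of_isMaxPt (f : X ⟶ Y) [LocallyOfFiniteType f] (z : X) (y : Y)
    (hy : f.base z = y) (hmax : ∀ z' : X, f z' = f z → z' ⤳ z → z' = z) (Z : Set X)
    (hZ : IsClosed Z) (hz : z ∈ Z) :
    FlatMor.localDim ↥(Z ∩ f.base ⁻¹' {y}) ⟨z, ⟨hz, hy⟩⟩ = FlatMor.fibreDimAt f z := by
  subst hy
  rw [fibreDimAt_eq_localDim_preimage f z (f.base z) rfl]
  have hp : ∀ w : ↥(f.fiber (f.base z)), w ⤳ f.asFiber z → w = f.asFiber z := by
    intro w hw
    apply (f.fiberι (f.base z)).isEmbedding.injective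
    rw [f.fiberι_asFiber]
    apply hmax
    · have : f.fiberι (f.base z) w ∈ Set.range (f.fiberι (f.base z)) := ⟨w, rfl⟩
      rw [Scheme.Hom.range_fiberι] at this
      exact this
    · have := hw.map (f.fiberι (f.base z)).continuous
      rwa [f.fiberι_asFiber] at this
  have hT := Groth.Agent.H1.GenPts.closure_singleton_mem_irreducibleComponents (f.asFiber z) hp
  obtain ⟨o, ⟨w, hw⟩, hoT⟩ := Groth.Agent.H1.RelDim.exists_open_subset_irreducibleComponent _ hT
  have hpo : f.asFiber z ∈ o := by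
    have h1 : f.asFiber z ⤳ w := by rw [specializes_iff_mem_closure]; exact hoT hw
    exact h1.mem_open o.isOpen hw
  obtain ⟨N, hNo, hNeq⟩ := (f.fiberι (f.base z)).isEmbedding.isInducing.isOpen_iff.mp o.isOpen
  have hzN : z ∈ N := by
    have h1 : f.asFiber z ∈ (f.fiberι (f.base z)) ⁻¹' N := by rw [hNeq]; exact hpo
    rwa [Set.mem_preimage, f.fiberι_asFiber] at h1
  refine localDim_eq_of_inter_eq (S := Z ∩ f.base ⁻¹' {f.base z}) (S' := f.base ⁻¹' {f.base z})
    (⟨N, hNo⟩ : Opens X) z ⟨hz, rfl⟩ rfl hzN ?_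
  ext w'
  constructor
  · rintro ⟨⟨-, hF⟩, hN⟩
    exact ⟨hF, hN⟩
  · rintro ⟨hF, hN⟩
    refine ⟨⟨?_, hF⟩, hN⟩
    have hw'r : w' ∈ Set.range (f.fiberι (f.base z)) := by
      rw [Scheme.Hom.range_fiberι]; exact hF
    obtain ⟨w'', rfl⟩ := hw'r
    have h1 : w'' ∈ (o : Set ↥(f.fiber (f.base z))) := by rw [← hNeq]; exact hN
    have h2 : f.asFiber z ⤳ w'' := specializes_iff_mem_closure.mpr (hoT h1)
    have h3 := h2.map (f.fiberι (f.base z)).continuous
    rw [f.fiberι_asFiber] at h3
    exact (hZ.closure_subset_iff.mpr (Set.singleton_subset_iff.mpr hz))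
      (specializes_iff_mem_closure.mp h3)

/-- sandwich: if `x` has a generization `z` in its fibre, maximal there and of the same local
fibre dimension, then every closed subset through `z` has the full local fibre dimension at `x`. -/
theorem localDim_inter_fibre_eq (f : X ⟶ Y) [LocallyOfFiniteType f] (x z : X) (hzx : z ⤳ x)
    (hfz : f.base z = f.base x) (hmax : ∀ z' : X, f z' = f z → z' ⤳ z → z' = z)
    (hdim : FlatMor.fibreDimAt f z = FlatMor.fibreDimAt f x) (Z : Set X) (hZ : IsClosed Z)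
    (hz : z ∈ Z) (hx : x ∈ Z) :
    FlatMor.localDim ↥(Z ∩ f.base ⁻¹' {f.base x}) ⟨x, ⟨hx, rfl⟩⟩ = FlatMor.fibreDimAt f x := by
  apply le_antisymm
  · rw [fibreDimAt_eq_localDim_preimage f x (f.base x) rfl]
    exact localDim_mono_set (S := Z ∩ f.base ⁻¹' {f.base x}) (S' := f.base ⁻¹' {f.base x})
      Set.inter_subset_right x ⟨hx, rfl⟩
  · rw [← hdim, ← localDim_inter_fibre_of_isMaxPt f z (f.base x) hfz hmax Z hZ hz]
    apply localDim_le_of_specializes
    exact (subtype_specializes_iff _ _).mpr hzx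

set_option backward.isDefEq.respectTransparency false in
/-- universal openness at a point can be checked after composing with any morphism into the
source. -/
theorem isUnivOpenAt_of_comp {T : Scheme.{u}} (j : T ⟶ X) (f : X ⟶ Y) (x₀ : T)
    (hjf : EGA43.IsUnivOpenAt (j ≫ f) x₀) : EGA43.IsUnivOpenAt f (j.base x₀) := by
  intro Y' g x' hx'
  let m : pullback (j ≫ f) g ⟶ pullback f g :=
    pullback.lift (pullback.fst (j ≫ f) g ≫ j) (pullback.snd (j ≫ f) g)
      (by rw [Category.assoc]; exact pullback.condition)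
  have sqL : IsPullback m (pullback.fst (j ≫ f) g) (pullback.fst f g) j := by
    refine IsPullback.of_right (h₁₂ := pullback.snd f g) (h₂₂ := f) (v₁₃ := g) ?_
      (pullback.lift_fst _ _ _) (IsPullback.of_hasPullback f g).flip
    rw [pullback.lift_snd]
    exact (IsPullback.of_hasPullback (j ≫ f) g).flip
  obtain ⟨w, hw1, hw2⟩ := exists_preimage_of_isPullback sqL x' x₀ hx'
  have h1 : EGA43.IsOpenAt (pullback.snd (j ≫ f) g).base w := hjf Y' g w hw2
  have e1 : (⇑(pullback.snd (j ≫ f) g).base) = (⇑(pullback.snd f g).base ∘ ⇑m.base) := by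
    funext t
    show (pullback.snd (j ≫ f) g) t = (pullback.snd f g) (m t)
    rw [← Scheme.Hom.comp_apply, pullback.lift_snd]
  rw [e1] at h1
  have h2 := isOpenAt_of_comp (pullback.snd f g).base m.base m.continuous w h1
  rwa [hw1] at h2

/-- a natural number below a supremum in `WithBot ℕ∞` is below one of the terms. -/
theorem exists_le_of_le_iSup {ι : Sort*} (v : ι → WithBot ℕ∞) (d : ℕ)
    (h : (d : WithBot ℕ∞) ≤ ⨆ i, v i) : ∃ i, (d : WithBot ℕ∞) ≤ v i := by
  by_contra hne
  push Not at hne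
  rcases d with _ | k
  · have h1 : ∀ i, v i = ⊥ := by
      intro i
      have h2 := hne i
      rcases hv : v i with _ | a
      · rfl
      · rw [hv] at h2
        have h4 : a < ((0 : ℕ) : ℕ∞) := WithBot.coe_lt_coe.mp h2
        simp at h4
    have h3 : ⨆ i, v i ≤ ⊥ := iSup_le fun i => (h1 i).le
    exact absurd (h.trans h3) (by simp)
  · have h1 : ∀ i, v i ≤ ((k : ℕ) : WithBot ℕ∞) := by
      intro i
      have h2 := hne i
      rcases hv : v i with _ | a
      · exact bot_le
      · rw [hv] at h2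
        have h4 : a < ((k + 1 : ℕ) : ℕ∞) := WithBot.coe_lt_coe.mp h2
        have h5 : a ≤ (k : ℕ∞) := by
          rw [Nat.cast_add, Nat.cast_one] at h4
          exact (ENat.lt_add_one_iff (ENat.natCast_ne_top k)).mp h4
        exact WithBot.coe_le_coe.mpr h5
    have h3 : ⨆ i, v i ≤ ((k : ℕ) : WithBot ℕ∞) := iSup_le h1
    have h6 := h.trans h3
    have h7 : k + 1 ≤ k := by exact_mod_cast h6
    omega

end Groth.Agent.H1.UO14
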