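import Mathlib
import Groth.Prelude.Def_EGA43
import Groth.Agent.Lib.Helper1.UO14B
import Groth.Agent.Lib.Helper1.UO14C
import Groth.Agent.Lib.Helper1.ChevSchC
import Groth.Agent.Lib.Helper1.EquidimQF
import Groth.Agent.Lib.Helper3.TopDim

/-!
# EGA IV 14.3.13 / 14.4: the key lemmas (helper1)

* `exists_maxPt_of_dim_ge`: a lower bound for the dimensions of the traces of the generic fibre on
  the neighbourhoods of `x` produces a maximal point of `X` above the generic point, specializing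
  to `x`, with large fibre dimension.
* `isUnivOpenAt_of_maxPt`: the converse direction, via the reduced closed subscheme on the
  closure of the maximal point and Chevalley's criterion.
* `fibreDimAt_le_dim_inter_of_isOpenAt`.
-/

set_option autoImplicit false
set_option linter.style.haveILetI false
universe u

namespace Groth.Agent.H1.UO14

open AlgebraicGeometry CategoryTheory CategoryTheory.Limits TopologicalSpace Topology
open Groth.Agent.H1.DimFormula Groth.Agent.H3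

variable {X Y : Scheme.{u}}

/-- (b′ ⇒ ζ) -/
theorem exists_maxPt_of_dim_ge [IsLocallyNoetherian Y] (f : X ⟶ Y) [LocallyOfFiniteType f]
    (x : X) (d : ℕ) (η : Y) (hη : ∀ η' : Y, η' ⤳ η → η' = η)
    (h : ∀ U : X.Opens, x ∈ U →
      (d : WithBot ℕ∞) ≤ topologicalKrullDim ↥((U : Set X) ∩ f.base ⁻¹' {η})) :
    ∃ ζ : X, (∀ z : X, z ⤳ ζ → z = ζ) ∧ ζ ⤳ x ∧ f.base ζ = η ∧
      (d : WithBot ℕ∞) ≤ FlatMor.fibreDimAt f ζ := by
  haveI : IsLocallyNoetherian X := LocallyOfFiniteType.isLocallyNoetherian f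
  obtain ⟨_, ⟨U₁, hU₁, rfl⟩, hxU₁, -⟩ :=
    X.isBasis_affineOpens.exists_subset_of_mem_open (Set.mem_univ x) isOpen_univ
  haveI : IsNoetherianRing Γ(X, U₁) := IsLocallyNoetherian.component_noetherian ⟨U₁, hU₁⟩
  have hfin : (minimalPrimes Γ(X, U₁)).Finite := minimalPrimes.finite_of_isNoetherianRing _
  obtain ⟨U₀, hxU₀, -, hgen⟩ :=
    Groth.Agent.H1.EquidimLoc.exists_open_forall_generic_specializes x U₁ hU₁ hxU₁ hfin
  have h1 := h U₀ hxU₀
  rw [Groth.Agent.H3.TopDim.dim_eq_iSup_localDim] at h1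
  obtain ⟨⟨u, huU, huF⟩, hu⟩ := exists_le_of_le_iSup
    (fun p : ↥((U₀ : Set X) ∩ f.base ⁻¹' {η}) =>
      FlatMor.localDim ↥((U₀ : Set X) ∩ f.base ⁻¹' {η}) p) d h1
  have hu' : (d : WithBot ℕ∞) ≤
      FlatMor.localDim ↥((U₀ : Set X) ∩ f.base ⁻¹' {η}) ⟨u, ⟨huU, huF⟩⟩ := hu
  have h2 : FlatMor.localDim ↥((U₀ : Set X) ∩ f.base ⁻¹' {η}) ⟨u, ⟨huU, huF⟩⟩ =
      FlatMor.localDim ↥(f.base ⁻¹' {η}) ⟨u, huF⟩ := by
    refine localDim_eq_of_inter_eq (S := (U₀ : Set X) ∩ f.base ⁻¹' {η}) (S' := f.base ⁻¹' {η})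
      U₀ u ⟨huU, huF⟩ huF huU ?_
    ext w
    constructor
    · rintro ⟨⟨-, hF⟩, hN⟩
      exact ⟨hF, hN⟩
    · rintro ⟨hF, hN⟩
      exact ⟨⟨hN, hF⟩, hN⟩
  rw [h2, ← fibreDimAt_eq_localDim_preimage f u η huF] at hu'
  obtain ⟨ζ, hζ1, hζu, hζmax, hζdim⟩ :=
    Groth.Agent.H1.FibGen.exists_fibre_generic_fibreDimAt_eq f u
  have hfζ : f.base ζ = η := hζ1.trans huF
  have hmaxX : ∀ z : X, z ⤳ ζ → z = ζ := by
    intro z hz
    apply hζmax z _ hz
    have h3 : f.base z ⤳ f.base ζ := hz.map f.continuous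
    rw [hfζ] at h3
    exact (hη _ h3).trans huF.symm
  refine ⟨ζ, hmaxX, ?_, hfζ, ?_⟩
  · exact hgen ζ (hζu.mem_open U₀.isOpen huU) hmaxX
  · rw [hζdim]; exact hu'

/-- (BA): universal openness at `x` from a maximal point `ζ` of `X` specializing to `x`, lying
above the generic point of an irreducible component of `Y`, with large fibre dimension. -/
theorem isUnivOpenAt_of_maxPt [IsLocallyNoetherian Y] (f : X ⟶ Y) [LocallyOfFiniteType f]
    (x ζ : X) (hGU : CAlg2.IsGeomUnibranch (Y.presheaf.stalk (f.base x)))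
    (hζ : ∀ z : X, z ⤳ ζ → z = ζ) (hζx : ζ ⤳ x)
    (hcomp : closure ({f.base ζ} : Set Y) ∈ irreducibleComponents (Y : Type u))
    (hdim : FlatMor.fibreDimAt f x ≤ FlatMor.fibreDimAt f ζ) : EGA43.IsUnivOpenAt f x := by
  obtain ⟨T, i, hi, hr⟩ : ∃ (T : Scheme.{u}) (i : T ⟶ X), IsClosedImmersion i ∧
      Set.range i.base = closure ({ζ} : Set X) := by
    refine ⟨_, (Scheme.IdealSheafData.vanishingIdeal
      (⟨closure {ζ}, isClosed_closure⟩ : Closeds X)).subschemeι, inferInstance, ?_⟩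
    exact (Scheme.IdealSheafData.range_subschemeι _).trans
      (Scheme.IdealSheafData.coe_support_vanishingIdeal _)
  haveI := hi
  have hemb : IsEmbedding i.base := i.isEmbedding
  have hcl : IsClosed (Set.range i.base) := by rw [hr]; exact isClosed_closure
  obtain ⟨xT, rfl⟩ : x ∈ Set.range i.base := by
    rw [hr]; exact specializes_iff_mem_closure.mp hζx
  obtain ⟨ζT, hζT⟩ : ζ ∈ Set.range i.base := by rw [hr]; exact subset_closure rfl
  have hcomp_apply : ∀ t : T, (i ≫ f) t = f.base (i.base t) := fun t =>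
    Scheme.Hom.comp_apply i f t
  -- all points of `T` are specializations of `ζT`
  have hspec : ∀ t : T, ζT ⤳ t := by
    intro t
    refine hemb.isInducing.specializes_iff.mp ?_
    show i.base ζT ⤳ i.base t
    rw [hζT, specializes_iff_mem_closure, ← hr]
    exact ⟨t, rfl⟩
  have hζ' : ∀ z' : X, f z' = f (i.base ζT) → z' ⤳ i.base ζT → z' = i.base ζT := by
    intro z' _ hz'
    rw [hζT] at hz' ⊢
    exact hζ z' hz'
  have e1 : FlatMor.fibreDimAt (i ≫ f) ζT = FlatMor.fibreDimAt f ζ :=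
    (fibreDimAt_comp_of_isEmbedding i hemb f ζT).trans
      ((localDim_inter_fibre_of_isMaxPt f (i.base ζT) (f.base (i.base ζT)) rfl hζ'
        (Set.range i.base) hcl ⟨ζT, rfl⟩).trans (by rw [hζT]))
  obtain ⟨e, -, he⟩ := Groth.Agent.H1.EquidimQF.resTrdeg_of_isMaxPt f ζ hζ
  have e2 : FlatMor.fibreDimAt (i ≫ f) xT ≤ FlatMor.fibreDimAt f (i.base xT) := by
    rw [fibreDimAt_comp_of_isEmbedding i hemb f xT,
      fibreDimAt_eq_localDim_preimage f (i.base xT) (f.base (i.base xT)) rfl]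
    exact localDim_mono_set (S := Set.range i.base ∩ f.base ⁻¹' {f.base (i.base xT)})
      (S' := f.base ⁻¹' {f.base (i.base xT)}) Set.inter_subset_right (i.base xT)
      ⟨⟨xT, rfl⟩, rfl⟩
  have hge : ∀ t : T, (e : WithBot ℕ∞) ≤ FlatMor.fibreDimAt (i ≫ f) t := by
    intro t
    rw [← he, ← e1]
    exact Groth.Agent.H1.EquidimLoc.fibreDimAt_le_of_specializes (i ≫ f) (hspec t)
  let U' : T.Opens := ⟨{t | FlatMor.fibreDimAt (i ≫ f) t ≤ e},
    Groth.Agent.H1.Chev.isOpen_fibreDimAt_le (i ≫ f) e⟩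
  have hxU' : xT ∈ U' := by
    show FlatMor.fibreDimAt (i ≫ f) xT ≤ e
    rw [← he]; exact e2.trans hdim
  have hequi : EGA43.IsEquidimAt (i ≫ f) xT := by
    refine Groth.Agent.H1.EquidimLoc.isEquidimAt_of_generic (i ≫ f) xT U' hxU' e ?_ ?_
    · intro t ht
      exact le_antisymm ht (hge t)
    · intro ξ _ hξ
      have hξζ : ζT = ξ := hξ ζT (hspec ξ)
      have hgζ : closure ({(i ≫ f) ξ} : Set Y) = closure ({f.base ζ} : Set Y) := by
        have h3 : (i ≫ f) ξ = f.base ζ := by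
          rw [hcomp_apply, ← hξζ, hζT]
        rw [h3]
      constructor
      · rw [hgζ]; exact hcomp
      · rw [hgζ, hcomp_apply]
        exact specializes_iff_mem_closure.mp (hζx.map f.continuous)
  have hGU' : CAlg2.IsGeomUnibranch (Y.presheaf.stalk ((i ≫ f).base xT)) :=
    (Groth.Agent.H1.ChevSch.isGeomUnibranch_stalk_congr (hcomp_apply xT)).mpr hGU
  have h3 := Groth.Agent.H1.ChevSch.isUnivOpenAt_of_isEquidimAt (i ≫ f) xT hGU' hequi
  exact isUnivOpenAt_of_comp i f xT h3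

/-- (c ⇒ b′) -/
theorem fibreDimAt_le_dim_inter_of_isOpenAt [IsLocallyNoetherian Y] (f : X ⟶ Y)
    [LocallyOfFiniteType f] (x : X) (hmax : ∀ x' : X, f x' = f x → x' ⤳ x → x' = x)
    (hopen : EGA43.IsOpenAt f.base x) (U : X.Opens) (hxU : x ∈ U) (y' : Y)
    (hy' : y' ⤳ f.base x) :
    FlatMor.fibreDimAt f x ≤ topologicalKrullDim ↥((U : Set X) ∩ f.base ⁻¹' {y'}) := by
  obtain ⟨ξ, hξx, hfξ, -, hle⟩ := exists_generization_fibreDimAt_ge f x hmax hopen y' hy'
  refine hle.trans ?_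
  have hfξ' : ξ ∈ f.base ⁻¹' {y'} := hfξ
  have h5 : FlatMor.fibreDimAt f ξ = ⨅ N : {N : Opens X // ξ ∈ N},
      topologicalKrullDim ↥(f.base ⁻¹' {y'} ∩ (N.1 : Set X)) :=
    (fibreDimAt_eq_localDim_preimage f ξ y' hfξ).trans
      (localDim_subtype (f.base ⁻¹' {y'}) ξ hfξ')
  rw [h5]
  have hξU : ξ ∈ U := hξx.mem_open U.isOpen hxU
  refine (iInf_le _ (⟨U, hξU⟩ : {N : Opens X // ξ ∈ N})).trans ?_
  exact Groth.Agent.H3.TopDim.dim_mono (Set.inter_comm _ _).le

end Groth.Agent.H1.UO14
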