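import Mathlib
import Groth.Prelude.Def_EGA43
import Groth.Agent.Lib.Helper1.UO14D
import Groth.Agent.Lib.Helper1.GenComp

/-!
# EGA IV 14.3.13 / 14.4: assembling the implications (helper1)
-/

set_option autoImplicit false
set_option linter.style.haveILetI false
universe u

namespace Groth.Agent.H1.UO14

open AlgebraicGeometry CategoryTheory CategoryTheory.Limits TopologicalSpace Topology
open Groth.Agent.H1.DimFormula Groth.Agent.H3

variable {X Y : Scheme.{u}}

/-- the local dimension of the trace of a subspace on an open set. -/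
theorem localDim_open_inter {T : Type*} [TopologicalSpace T] (U : Opens T) (S : Set T) (u : T)
    (huU : u ∈ U) (huS : u ∈ S) :
    FlatMor.localDim ↥((U : Set T) ∩ S) ⟨u, ⟨huU, huS⟩⟩ = FlatMor.localDim ↥S ⟨u, huS⟩ := by
  refine localDim_eq_of_inter_eq (S := (U : Set T) ∩ S) (S' := S) U u ⟨huU, huS⟩ huS huU ?_
  ext w
  constructor
  · rintro ⟨⟨-, hF⟩, hN⟩
    exact ⟨hF, hN⟩
  · rintro ⟨hF, hN⟩
    exact ⟨⟨hN, hF⟩, hN⟩

/-- the local fibre dimension is at most the dimension of the trace of the fibre on any open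
neighbourhood. -/
theorem fibreDimAt_le_dim_inter (f : X ⟶ Y) (z : X) (y : Y) (hy : f.base z = y) (U : X.Opens)
    (hzU : z ∈ U) :
    FlatMor.fibreDimAt f z ≤ topologicalKrullDim ↥((U : Set X) ∩ f.base ⁻¹' {y}) := by
  have hz' : z ∈ f.base ⁻¹' {y} := hy
  have h5 : FlatMor.fibreDimAt f z = ⨅ N : {N : Opens X // z ∈ N},
      topologicalKrullDim ↥(f.base ⁻¹' {y} ∩ (N.1 : Set X)) :=
    (fibreDimAt_eq_localDim_preimage f z y hy).trans (localDim_subtype (f.base ⁻¹' {y}) z hz')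
  rw [h5]
  refine (iInf_le _ (⟨U, hzU⟩ : {N : Opens X // z ∈ N})).trans ?_
  exact Groth.Agent.H3.TopDim.dim_mono (Set.inter_comm _ _).le

/-- (CA): openness at a generization of `x` in its fibre, maximal there and of the same local
fibre dimension, gives universal openness at `x` over a geometrically unibranch point. -/
theorem isUnivOpenAt_of_isOpenAt_generization [IsLocallyNoetherian Y] (f : X ⟶ Y)
    [LocallyOfFiniteType f] (x z : X)
    (hGU : CAlg2.IsGeomUnibranch (Y.presheaf.stalk (f.base x)))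
    (hfz : f.base z = f.base x) (hzx : z ⤳ x)
    (hmax : ∀ z' : X, f z' = f z → z' ⤳ z → z' = z)
    (hdim : FlatMor.fibreDimAt f x ≤ FlatMor.fibreDimAt f z)
    (hopen : EGA43.IsOpenAt f.base z) : EGA43.IsUnivOpenAt f x := by
  have hY₀ := irreducibleComponent_mem_irreducibleComponents (f.base x)
  obtain ⟨η, hη⟩ := QuasiSober.sober hY₀.1 (isClosed_of_mem_irreducibleComponents _ hY₀)
  have hηd : closure ({η} : Set Y) = irreducibleComponent (f.base x) := hη.def
  have hηcomp : closure ({η} : Set Y) ∈ irreducibleComponents (Y : Type u) := by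
    rw [hηd]; exact hY₀
  have hηfz : η ⤳ f z := by
    show η ⤳ f.base z
    rw [hfz, specializes_iff_mem_closure, hηd]
    exact mem_irreducibleComponent
  have hηmax : ∀ η' : Y, η' ⤳ η → η' = η :=
    Groth.Agent.H1.EquidimLoc.eq_of_specializes_of_closure_mem_irreducibleComponents η hηcomp
  obtain ⟨ξ, hξz, hfξ, hξmax, hle⟩ := exists_generization_fibreDimAt_ge f z hmax hopen η hηfz
  have hξX : ∀ w : X, w ⤳ ξ → w = ξ := by
    intro w hw
    apply hξmax w _ hw
    have h3 : f.base w ⤳ f.base ξ := hw.map f.continuous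
    have h4 : f.base ξ = η := hfξ
    rw [h4] at h3
    exact (hηmax _ h3).trans h4.symm
  refine isUnivOpenAt_of_maxPt f x ξ hGU hξX (hξz.trans hzx) ?_ (hdim.trans hle)
  have h4 : f.base ξ = η := hfξ
  rw [h4]; exact hηcomp

/-- (b′ ⇒ b) -/
theorem exists_component_of_dim_ge [IsLocallyNoetherian Y] (f : X ⟶ Y) [LocallyOfFiniteType f]
    (x z : X) (hfz : f.base z = f.base x) (hzx : z ⤳ x)
    (hmax : ∀ z' : X, f z' = f z → z' ⤳ z → z' = z)
    (hdim : FlatMor.fibreDimAt f z = FlatMor.fibreDimAt f x)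
    (Y₀ : Set Y) (hY₀ : Y₀ ∈ irreducibleComponents (Y : Type u))
    (h : ∀ η : Y, closure ({η} : Set Y) = Y₀ → ∀ U : X.Opens, z ∈ U →
      FlatMor.fibreDimAt f z ≤ topologicalKrullDim ↥((U : Set X) ∩ f.base ⁻¹' {η})) :
    ∃ Z ∈ irreducibleComponents (X : Type u), ∃ hx : x ∈ Z, closure (f.base '' Z) = Y₀ ∧
      ∀ η : Y, closure ({η} : Set Y) = Y₀ →
        FlatMor.localDim ↥(Z ∩ f.base ⁻¹' {f.base x}) ⟨x, ⟨hx, rfl⟩⟩ =
          topologicalKrullDim ↥(Z ∩ f.base ⁻¹' {η}) := by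
  obtain ⟨η, hη⟩ := QuasiSober.sober hY₀.1 (isClosed_of_mem_irreducibleComponents _ hY₀)
  have hηd : closure ({η} : Set Y) = Y₀ := hη.def
  have hηcomp : closure ({η} : Set Y) ∈ irreducibleComponents (Y : Type u) := by
    rw [hηd]; exact hY₀
  have hηmax : ∀ η' : Y, η' ⤳ η → η' = η :=
    Groth.Agent.H1.EquidimLoc.eq_of_specializes_of_closure_mem_irreducibleComponents η hηcomp
  obtain ⟨d, -, hd⟩ := fibreDimAt_eq_trdeg_of_generic f z hmax
  obtain ⟨ζ, hζmax, hζz, hfζ, hdle⟩ := exists_maxPt_of_dim_ge f z d η hηmax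
    (fun U hU => by rw [← hd]; exact h η hηd U hU)
  have hZ := Groth.Agent.H1.GenPts.closure_singleton_mem_irreducibleComponents ζ hζmax
  have hzZ : z ∈ closure ({ζ} : Set X) := specializes_iff_mem_closure.mp hζz
  have hxZ : x ∈ closure ({ζ} : Set X) := specializes_iff_mem_closure.mp (hζz.trans hzx)
  refine ⟨closure {ζ}, hZ, hxZ, ?_, ?_⟩
  · rw [Groth.Agent.H1.EquidimQF.closure_image_closure_singleton f.base f.continuous ζ, hfζ]
    exact hηd
  · intro η' hη'
    have hηη : η' = η := IsGenericPoint.eq (show IsGenericPoint η' Y₀ from hη') hη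
    subst hηη
    have h1 := localDim_inter_fibre_eq f x z hzx hfz hmax hdim (closure {ζ}) isClosed_closure
      hzZ hxZ
    have h2 : topologicalKrullDim ↥(closure ({ζ} : Set X) ∩ f.base ⁻¹' {η'}) =
        FlatMor.fibreDimAt f ζ :=
      Groth.Agent.H1.GenComp.dim_closure_inter_fibre f ζ hζmax η' hfζ
    have h3 : FlatMor.fibreDimAt f ζ = FlatMor.fibreDimAt f x := by
      apply le_antisymm
      · exact Groth.Agent.H1.EquidimLoc.fibreDimAt_le_of_specializes f (hζz.trans hzx)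
      · rw [← hdim, hd]; exact hdle
    exact h1.trans (h3.symm.trans h2.symm)

/-- (b ⇒ a) -/
theorem isUnivOpenAt_of_component [IsLocallyNoetherian Y] (f : X ⟶ Y) [LocallyOfFiniteType f]
    (x z : X) (hGU : CAlg2.IsGeomUnibranch (Y.presheaf.stalk (f.base x)))
    (hfz : f.base z = f.base x) (hzx : z ⤳ x)
    (hmax : ∀ z' : X, f z' = f z → z' ⤳ z → z' = z)
    (hdim : FlatMor.fibreDimAt f x ≤ FlatMor.fibreDimAt f z)
    (Y₀ : Set Y) (hY₀ : Y₀ ∈ irreducibleComponents (Y : Type u))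
    (hb : ∃ Z ∈ irreducibleComponents (X : Type u), ∃ hz : z ∈ Z, closure (f.base '' Z) = Y₀ ∧
      ∀ η : Y, closure ({η} : Set Y) = Y₀ →
        FlatMor.localDim ↥(Z ∩ f.base ⁻¹' {f.base z}) ⟨z, ⟨hz, rfl⟩⟩ =
          topologicalKrullDim ↥(Z ∩ f.base ⁻¹' {η})) : EGA43.IsUnivOpenAt f x := by
  obtain ⟨Z, hZ, hzZ, hcl, hdimeq⟩ := hb
  obtain ⟨ζ, hζ⟩ := QuasiSober.sober hZ.1 (isClosed_of_mem_irreducibleComponents Z hZ)
  have hζd : closure ({ζ} : Set X) = Z := hζ.def
  subst hζd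
  have hζmax : ∀ w : X, w ⤳ ζ → w = ζ :=
    Groth.Agent.H1.EquidimLoc.eq_of_specializes_of_closure_mem_irreducibleComponents ζ hZ
  obtain ⟨η, hη⟩ := QuasiSober.sober hY₀.1 (isClosed_of_mem_irreducibleComponents _ hY₀)
  have hfζgen : closure ({f.base ζ} : Set Y) = Y₀ :=
    (Groth.Agent.H1.EquidimQF.closure_image_closure_singleton f.base f.continuous ζ).symm.trans hcl
  have hfζ : f.base ζ = η := IsGenericPoint.eq (show IsGenericPoint (f.base ζ) Y₀ from hfζgen) hη
  have h1 := hdimeq η hη.def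
  have h2 := localDim_inter_fibre_of_isMaxPt f z (f.base z) rfl hmax (closure {ζ})
    isClosed_closure hzZ
  have h3 : topologicalKrullDim ↥(closure ({ζ} : Set X) ∩ f.base ⁻¹' {η}) =
      FlatMor.fibreDimAt f ζ :=
    Groth.Agent.H1.GenComp.dim_closure_inter_fibre f ζ hζmax η hfζ
  have heq : FlatMor.fibreDimAt f z = FlatMor.fibreDimAt f ζ := h2.symm.trans (h1.trans h3)
  refine isUnivOpenAt_of_maxPt f x ζ hGU hζmax
    ((specializes_iff_mem_closure.mpr hzZ).trans hzx) ?_ (hdim.trans heq.le)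
  rw [hfζgen]; exact hY₀

/-- (c ⇒ b″) -/
theorem dim_inter_fibre_le_of_isOpenAt [IsLocallyNoetherian Y] (f : X ⟶ Y)
    [LocallyOfFiniteType f] (y : Y)
    (hopen : ∀ x : X, f.base x = y → EGA43.IsOpenAt f.base x) (U : X.Opens) (η : Y)
    (hη : η ⤳ y) :
    topologicalKrullDim ↥((U : Set X) ∩ f.base ⁻¹' {y}) ≤
      topologicalKrullDim ↥((U : Set X) ∩ f.base ⁻¹' {η}) := by
  rw [Groth.Agent.H3.TopDim.dim_eq_iSup_localDim]
  refine iSup_le ?_
  rintro ⟨u, huU, huF⟩
  have huy : f.base u = y := huF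
  show FlatMor.localDim ↥((U : Set X) ∩ f.base ⁻¹' {y}) ⟨u, ⟨huU, huF⟩⟩ ≤ _
  rw [localDim_open_inter U (f.base ⁻¹' {y}) u huU huF,
    ← fibreDimAt_eq_localDim_preimage f u y huy]
  obtain ⟨z, hfz, hzu, hzmax, hzdim⟩ :=
    Groth.Agent.H1.FibGen.exists_fibre_generic_fibreDimAt_eq f u
  have hfz' : f.base z = y := hfz.trans huy
  rw [← hzdim]
  refine fibreDimAt_le_dim_inter_of_isOpenAt f z (fun z' h1 h2 => hzmax z' (h1.trans hfz) h2)
    (hopen z hfz') U (hzu.mem_open U.isOpen huU) η ?_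
  rw [hfz']; exact hη

end Groth.Agent.H1.UO14
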