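import Mathlib
import Groth.Prelude.Def_EGA43
import Groth.Prelude.Def_Dual3
import Groth.Agent.Lib.Helper1.UO14E
import Groth.Agent.Lib.Helper1.DimLocG
import Groth.Agent.Lib.Helper1.DimFun2
import Groth.Agent.Lib.Helper1.RegCutSch
import Groth.Agent.Lib.Helper1.DimIneqE
import Groth.Agent.Lib.Helper1.DVRCrit

/-!
# Hypersurface sections and fibre dimensions (EGA IV 13.3.x), chart lemmas (helper1)
-/

set_option autoImplicit false
set_option linter.style.haveILetI false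
universe u

namespace Groth.Agent.H1.HypSec

open AlgebraicGeometry CategoryTheory CategoryTheory.Limits TopologicalSpace Topology
open Groth.Agent.H1.DimFormula Groth.Agent.H1.DimLoc Groth.Agent.H1.DimIneq

variable {X Y : Scheme.{u}}

/-- a prime below the prime of `x` in an affine chart is the prime of a generization of `x`. -/
theorem exists_point_of_le {W : X.Opens} (hW : IsAffineOpen W) (x : X) (hx : x ∈ W)
    (Q : Ideal Γ(X, W)) [hQ : Q.IsPrime] (hle : Q ≤ (hW.primeIdealOf ⟨x, hx⟩).asIdeal) :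
    ∃ (q : X) (hq : q ∈ W), (hW.primeIdealOf ⟨q, hq⟩).asIdeal = Q ∧ q ⤳ x := by
  let P : Spec Γ(X, W) := (⟨Q, hQ⟩ : PrimeSpectrum Γ(X, W))
  have hqW : hW.fromSpec P ∈ W := by
    have h0 : hW.fromSpec P ∈ Set.range hW.fromSpec := ⟨P, rfl⟩
    rw [hW.range_fromSpec] at h0; exact h0
  refine ⟨hW.fromSpec P, hqW, ?_, ?_⟩
  · rw [Groth.Agent.H1.DimIneq.primeIdealOf_fromSpec hW P hqW]
  · have h1 : (⟨Q, hQ⟩ : PrimeSpectrum Γ(X, W)) ⤳ hW.primeIdealOf ⟨x, hx⟩ :=
      (PrimeSpectrum.le_iff_specializes _ _).mp hle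
    have h2 := h1.map hW.fromSpec.continuous
    rwa [hW.fromSpec_primeIdealOf] at h2

/-- specialization from inclusion of primes in a chart. -/
theorem specializes_of_primeIdealOf_le' {W : X.Opens} (hW : IsAffineOpen W) {x z : X}
    (hx : x ∈ W) (hz : z ∈ W)
    (h : (hW.primeIdealOf ⟨z, hz⟩).asIdeal ≤ (hW.primeIdealOf ⟨x, hx⟩).asIdeal) : z ⤳ x := by
  have h1 : hW.primeIdealOf ⟨z, hz⟩ ⤳ hW.primeIdealOf ⟨x, hx⟩ :=
    (PrimeSpectrum.le_iff_specializes _ _).mp h
  have h2 := h1.map hW.fromSpec.continuous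
  rwa [hW.fromSpec_primeIdealOf, hW.fromSpec_primeIdealOf] at h2

/-- membership in the zero locus of a global section, read in a chart. -/
theorem res_mem_primeIdealOf_iff {W : X.Opens} (hW : IsAffineOpen W) (g : Γ(X, ⊤)) (q : X)
    (hq : q ∈ W) :
    X.presheaf.map (homOfLE (le_top : W ≤ ⊤)).op g ∈ (hW.primeIdealOf ⟨q, hq⟩).asIdeal ↔
      q ∈ X.zeroLocus ({g} : Set Γ(X, ⊤)) := by
  rw [Groth.Agent.H1.RegCutSch.mem_primeIdealOf_iff hW q hq, Scheme.zeroLocus_singleton,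
    Scheme.basicOpen_res]
  constructor
  · intro h hq'
    exact h ⟨hq, hq'⟩
  · intro h hq'
    exact h hq'.2

/-- the chart lemma: a point of the zero locus of `g` which is maximal there among the points
whose primes contain `I` is minimal over `I + (g)`. -/
theorem primeIdealOf_mem_minimalPrimes_sup {W : X.Opens} (hW : IsAffineOpen W) (x : X)
    (hx : x ∈ W) (g : Γ(X, ⊤)) (hgx : x ∈ X.zeroLocus ({g} : Set Γ(X, ⊤)))
    (I : Ideal Γ(X, W)) (hI : I ≤ (hW.primeIdealOf ⟨x, hx⟩).asIdeal)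
    (hmin : ∀ (q : X) (hq : q ∈ W), I ≤ (hW.primeIdealOf ⟨q, hq⟩).asIdeal → q ⤳ x →
      q ∈ X.zeroLocus ({g} : Set Γ(X, ⊤)) → q = x) :
    (hW.primeIdealOf ⟨x, hx⟩).asIdeal ∈
      (I ⊔ Ideal.span {X.presheaf.map (homOfLE (le_top : W ≤ ⊤)).op g}).minimalPrimes := by
  haveI hp : (hW.primeIdealOf ⟨x, hx⟩).asIdeal.IsPrime := (hW.primeIdealOf ⟨x, hx⟩).2
  refine ⟨⟨hp, sup_le hI ?_⟩, ?_⟩
  · rw [Ideal.span_le, Set.singleton_subset_iff]
    exact (res_mem_primeIdealOf_iff hW g x hx).mpr hgx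
  · rintro Q ⟨hQ, hQle⟩ hQp
    haveI := hQ
    obtain ⟨q, hq, hqQ, hqx⟩ := exists_point_of_le hW x hx Q hQp
    have hIq : I ≤ (hW.primeIdealOf ⟨q, hq⟩).asIdeal := by
      rw [hqQ]; exact le_sup_left.trans hQle
    have hbq : X.presheaf.map (homOfLE (le_top : W ≤ ⊤)).op g ∈
        (hW.primeIdealOf ⟨q, hq⟩).asIdeal := by
      rw [hqQ]; exact hQle (Ideal.mem_sup_right (Ideal.subset_span rfl))
    have hqx' : q = x := hmin q hq hIq hqx ((res_mem_primeIdealOf_iff hW g q hq).mp hbq)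
    subst hqx'
    exact le_of_eq hqQ

/-- **Krull's principal ideal theorem** at a maximal point of the zero locus of a section. -/
theorem ringKrullDim_stalk_le_one [IsLocallyNoetherian X] (g : Γ(X, ⊤)) (x : X)
    (hgx : x ∈ X.zeroLocus ({g} : Set Γ(X, ⊤)))
    (hmin : ∀ q : X, q ⤳ x → q ∈ X.zeroLocus ({g} : Set Γ(X, ⊤)) → q = x) :
    ringKrullDim (X.presheaf.stalk x) ≤ 1 := by
  obtain ⟨W, hW, hxW, -⟩ := Groth.Agent.H1.DVRCrit.exists_affine_nhd_le x ⊤ trivial
  haveI : IsNoetherianRing Γ(X, W) := IsLocallyNoetherian.component_noetherian ⟨W, hW⟩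
  have h1 := primeIdealOf_mem_minimalPrimes_sup hW x hxW g hgx ⊥ bot_le
    (fun q _ _ hqx hqg => hmin q hqx hqg)
  rw [bot_sup_eq] at h1
  have h2 := Ideal.height_le_one_of_isPrincipal_of_mem_minimalPrimes _ _ h1
  rw [Groth.Agent.H1.DimIneq.ringKrullDim_stalk_eq_height hW x hxW]
  exact_mod_cast h2

/-- the relative form: heights between a point of the zero locus, maximal there in its fibre,
and a generization in the fibre. -/
theorem height_map_mk_le_one [IsLocallyNoetherian X] (f : X ⟶ Y) (g : Γ(X, ⊤)) (x z : X)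
    (hgx : x ∈ X.zeroLocus ({g} : Set Γ(X, ⊤))) (hzx : z ⤳ x) (hfz : f.base z = f.base x)
    (hmin : ∀ q : X, f.base q = f.base x → q ⤳ x → q ∈ X.zeroLocus ({g} : Set Γ(X, ⊤)) →
      q = x)
    {W : X.Opens} (hW : IsAffineOpen W) (hxW : x ∈ W) (hzW : z ∈ W) :
    ((hW.primeIdealOf ⟨x, hxW⟩).asIdeal.map
      (Ideal.Quotient.mk (hW.primeIdealOf ⟨z, hzW⟩).asIdeal)).height ≤ 1 := by
  haveI : IsNoetherianRing Γ(X, W) := IsLocallyNoetherian.component_noetherian ⟨W, hW⟩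
  have hI := primeIdealOf_le_of_specializes hW x z hxW hzW hzx
  have h1 := primeIdealOf_mem_minimalPrimes_sup hW x hxW g hgx
    (hW.primeIdealOf ⟨z, hzW⟩).asIdeal hI (by
      intro q hq hzq hqx hqg
      have hzq' : z ⤳ q := specializes_of_primeIdealOf_le' hW hq hzW hzq
      apply hmin q _ hqx hqg
      have h1 : f.base z ⤳ f.base q := hzq'.map f.continuous
      have h2 : f.base q ⤳ f.base x := hqx.map f.continuous
      rw [hfz] at h1
      exact (h2.antisymm h1).eq)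
  exact Ideal.map_height_le_one_of_mem_minimalPrimes h1

/-- (F1′): the local fibre dimension at a point of the zero locus of `g`, maximal in the trace
of the zero locus on its fibre, is the transcendence degree of its residue field, or one more. -/
theorem fibreDimAt_of_isMaxPt_zeroLocus_fibre [IsLocallyNoetherian Y] (f : X ⟶ Y)
    [LocallyOfFiniteType f] (g : Γ(X, ⊤)) (x : X)
    (hgx : x ∈ X.zeroLocus ({g} : Set Γ(X, ⊤)))
    (hmin : ∀ q : X, f.base q = f.base x → q ⤳ x → q ∈ X.zeroLocus ({g} : Set Γ(X, ⊤)) →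
      q = x) :
    ∃ t : ℕ, Dual3.resTrdeg f x = t ∧
      FlatMor.fibreDimAt f x ≤ ((t + 1 : ℕ) : WithBot ℕ∞) ∧
      ((∃ z : X, f.base z = f.base x ∧ z ⤳ x ∧ z ≠ x) →
        FlatMor.fibreDimAt f x = ((t + 1 : ℕ) : WithBot ℕ∞)) ∧
      ((∀ z : X, f.base z = f.base x → z ⤳ x → z = x) →
        FlatMor.fibreDimAt f x = ((t : ℕ) : WithBot ℕ∞)) := by
  haveI : IsLocallyNoetherian X := LocallyOfFiniteType.isLocallyNoetherian f
  obtain ⟨z, hfz, hzx, hzmax, hzdim⟩ :=
    Groth.Agent.H1.FibGen.exists_fibre_generic_fibreDimAt_eq f x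
  obtain ⟨tz, htz, hdz⟩ := fibreDimAt_eq_trdeg_of_generic f z
    (fun x' h1 h2 => hzmax x' (h1.trans hfz) h2)
  obtain ⟨tx, htx, -⟩ := exists_fibreDimAt_eq_stalk_add_trdeg f x
  obtain ⟨V, hV, hxV, -⟩ := Groth.Agent.H1.DVRCrit.exists_affine_nhd_le (f.base x) ⊤ trivial
  obtain ⟨W, hW, hxW, hWV⟩ := Groth.Agent.H1.DVRCrit.exists_affine_nhd_le x (f ⁻¹ᵁ V) hxV
  have hzW : z ∈ W := hzx.mem_open W.isOpen hxW
  have key := chart_fibre_eq_enat f hW hV hWV x z hxW hzW hzx hfz tx tz htx htz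
  have hle := height_map_mk_le_one f g x z hgx hzx hfz hmin hW hxW hzW
  have hfx : FlatMor.fibreDimAt f x = ((tz : ℕ) : WithBot ℕ∞) := by rw [← hzdim, hdz]
  generalize hh : ((hW.primeIdealOf ⟨x, hxW⟩).asIdeal.map
    (Ideal.Quotient.mk (hW.primeIdealOf ⟨z, hzW⟩).asIdeal)).height = h at key hle
  have hne : h ≠ ⊤ := ne_top_of_le_ne_top ENat.one_ne_top hle
  lift h to ℕ using hne
  have key' : h + tx = tz := by exact_mod_cast key
  have hle' : h ≤ 1 := by exact_mod_cast hle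
  refine ⟨tx, htx, ?_, ?_, ?_⟩
  · rw [hfx]
    have : tz ≤ tx + 1 := by omega
    exact_mod_cast this
  · rintro ⟨z', hfz', hz'x, hne'⟩
    have hzne : z ≠ x := by
      intro hzx'
      subst hzx'
      exact hne' (hzmax z' hfz' hz'x)
    have h1 := (Groth.Agent.H1.DimFun.one_le_height_map_mk hW z x hzW hxW hzx hzne).1
    rw [hh] at h1
    have h1' : 1 ≤ h := by exact_mod_cast h1
    rw [hfx]
    have : tz = tx + 1 := by omega
    exact_mod_cast this
  · intro hmaxx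
    have hzx' : z = x := hmaxx z hfz hzx
    subst hzx'
    have h2 : ((tx : ℕ) : Cardinal.{u}) = tz := htx.symm.trans htz
    have h3 : tx = tz := by exact_mod_cast h2
    rw [hfx, h3]

end Groth.Agent.H1.HypSec
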