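import Mathlib
import Groth.Prelude.Def_EGA43
import Groth.Prelude.Def_Dual3
import Groth.Agent.Lib.Helper1.HypSecA
import Groth.Agent.Lib.Helper1.AlgSpDim3
import Groth.Agent.Lib.Helper1.EquidimQF

/-!
# Hypersurface sections of equidimensional morphisms (EGA IV 13.3.x) (helper1)
-/

set_option autoImplicit false
set_option linter.style.haveILetI false
universe u

namespace Groth.Agent.H1.HypSec

open AlgebraicGeometry CategoryTheory CategoryTheory.Limits TopologicalSpace Topology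
open Groth.Agent.H1.DimFormula Groth.Agent.H1.DimLoc Groth.Agent.H1.DimIneq
open Groth.Agent.H1.UO14

variable {X Y : Scheme.{u}}

theorem withBot_aux_eq_one (a b : WithBot ℕ∞) (h0 : 0 ≤ a) (hab : a < b) (hb : b ≤ 1) :
    b = 1 ∧ a = 0 := by
  induction a using WithBot.recBotCoe with
  | bot => exact absurd h0 (by simp)
  | coe a =>
    induction b using WithBot.recBotCoe with
    | bot => exact absurd hab (by simp)
    | coe b =>
      have hab' : a < b := WithBot.coe_lt_coe.mp hab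
      have hb' : b ≤ 1 := by exact_mod_cast hb
      have hb1 : b = 1 :=
        le_antisymm hb' (ENat.one_le_iff_ne_zero.mpr (ne_of_gt (lt_of_le_of_lt zero_le hab')))
      have ha0 : a = 0 := by
        rw [hb1] at hab'
        exact nonpos_iff_eq_zero.mp (Order.lt_one_iff_nonpos.mp hab')
      exact ⟨by rw [hb1]; rfl, by rw [ha0]; rfl⟩

/-- the fibre dimension of `ι ≫ f`, for a closed immersion `ι`, at a maximal point of its fibre
is the transcendence degree of the residue field of its image. -/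
theorem fibreDimAt_comp_eq_resTrdeg {T : Scheme.{u}} (ι : T ⟶ X) [IsClosedImmersion ι]
    (f : X ⟶ Y) [LocallyOfFiniteType f] (t : T)
    (hmax : ∀ t' : T, (ι ≫ f) t' = (ι ≫ f) t → t' ⤳ t → t' = t) :
    ∃ tx : ℕ, Dual3.resTrdeg f (ι.base t) = tx ∧ FlatMor.fibreDimAt (ι ≫ f) t = tx := by
  obtain ⟨t₀, ht₀, hd₀⟩ := fibreDimAt_eq_trdeg_of_generic (ι ≫ f) t hmax
  have h1 : Dual3.resTrdeg (ι ≫ f) t = t₀ := ht₀
  have h2 := Groth.Agent.H1.EquidimQF.resTrdeg_comp ι f t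
  have h3 : FlatMor.fibreDimAt ι t = 0 :=
    (Groth.Agent.H1.QFDim.locallyQuasiFinite_iff_fibreDimAt ι).mp inferInstance t
  have h4 : Dual3.resTrdeg ι t ≤ ((0 : ℕ) : Cardinal.{u}) :=
    Groth.Agent.H1.EquidimQF.resTrdeg_le ι 0 t (by rw [h3, Nat.cast_zero])
  have h5 : Dual3.resTrdeg ι t = 0 := by simpa using h4
  rw [h5, add_zero, h1] at h2
  exact ⟨t₀, h2, hd₀⟩

/-- **EGA IV 13.3.x**: hypersurface sections avoiding the maximal points of the fibre, in the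
"generic" form of equidimensionality. -/
theorem hypSec [IsLocallyNoetherian Y] (f : X ⟶ Y) [LocallyOfFiniteType f] (x : X) (e : ℕ)
    (U : X.Opens) (hxU : x ∈ U) (hfd : ∀ x' ∈ U, FlatMor.fibreDimAt f x' = e)
    (hgen : ∀ ξ ∈ U, (∀ z : X, z ⤳ ξ → z = ξ) →
      closure ({f.base ξ} : Set Y) ∈ irreducibleComponents (Y : Type u) ∧
        f.base x ∈ closure ({f.base ξ} : Set Y))
    (g : Γ(X, ⊤)) (hgx : x ∈ X.zeroLocus ({g} : Set Γ(X, ⊤)))
    (hmax : ∀ z : X, f.base z = f.base x →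
      (∀ z' : X, f.base z' = f.base x → z' ⤳ z → z' = z) →
      z ∉ X.zeroLocus ({g} : Set Γ(X, ⊤)))
    {T : Scheme.{u}} (ι : T ⟶ X) [IsClosedImmersion ι]
    (hr : Set.range ι.base = X.zeroLocus ({g} : Set Γ(X, ⊤))) (w : T) (hw : ι.base w = x) :
    1 ≤ e ∧ ∃ U' : T.Opens, w ∈ U' ∧
      (∀ t ∈ U', FlatMor.fibreDimAt (ι ≫ f) t = ((e - 1 : ℕ) : WithBot ℕ∞)) ∧
      (∀ ξ ∈ U', (∀ z : T, z ⤳ ξ → z = ξ) →
        (closure ({(ι ≫ f).base ξ} : Set Y) ∈ irreducibleComponents (Y : Type u) ∧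
          (ι ≫ f).base w ∈ closure ({(ι ≫ f).base ξ} : Set Y)) ∧
        ringKrullDim (X.presheaf.stalk (ι.base ξ)) = 1) := by
  haveI : IsLocallyNoetherian X := LocallyOfFiniteType.isLocallyNoetherian f
  have hemb : IsEmbedding ι.base := ι.isEmbedding
  have hmemV : ∀ t : T, ι.base t ∈ X.zeroLocus ({g} : Set Γ(X, ⊤)) := fun t => by
    rw [← hr]; exact ⟨t, rfl⟩
  have hspec : ∀ t t' : T, ι.base t ⤳ ι.base t' → t ⤳ t' := fun t t' h =>
    hemb.isInducing.specializes_iff.mp h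
  have hca : ∀ t : T, (ι ≫ f) t = f.base (ι.base t) := fun t => Scheme.Hom.comp_apply ι f t
  have hlift : ∀ q : X, q ∈ X.zeroLocus ({g} : Set Γ(X, ⊤)) → ∃ qT : T, ι.base qT = q := by
    intro q hq; rw [← hr] at hq; exact hq
  have key : ∀ t : T, ι.base t ∈ U → ∃ (z : T) (tx : ℕ), z ⤳ t ∧ (ι ≫ f) z = (ι ≫ f) t ∧
      FlatMor.fibreDimAt (ι ≫ f) t = tx ∧ e ≤ tx + 1 ∧
      ((∃ z' : X, f.base z' = f.base (ι.base z) ∧ z' ⤳ ι.base z ∧ z' ≠ ι.base z) →
        e = tx + 1) := by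
    intro t htU
    obtain ⟨z, hfz, hzt, hzmax, hzdim⟩ :=
      Groth.Agent.H1.FibGen.exists_fibre_generic_fibreDimAt_eq (ι ≫ f) t
    have hzU : ι.base z ∈ U := (hzt.map ι.continuous).mem_open U.isOpen htU
    obtain ⟨tx, htx, hdx⟩ := fibreDimAt_comp_eq_resTrdeg ι f z
      (fun t' h1 h2 => hzmax t' (h1.trans hfz) h2)
    have hmin'' : ∀ q : X, f.base q = f.base (ι.base z) → q ⤳ ι.base z →
        q ∈ X.zeroLocus ({g} : Set Γ(X, ⊤)) → q = ι.base z := by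
      intro q hfq hqz hqg
      obtain ⟨qT, rfl⟩ := hlift q hqg
      have h1 : qT ⤳ z := hspec qT z hqz
      have h2 : (ι ≫ f) qT = (ι ≫ f) t := by
        rw [hca, hfq, ← hca]; exact hfz
      rw [hzmax qT h2 h1]
    obtain ⟨t', ht', hle, hne, -⟩ :=
      fibreDimAt_of_isMaxPt_zeroLocus_fibre f g (ι.base z) (hmemV z) hmin''
    have htt : tx = t' := by
      have : ((tx : ℕ) : Cardinal.{u}) = t' := htx.symm.trans ht'
      exact_mod_cast this
    subst htt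
    rw [hfd _ hzU] at hle hne
    refine ⟨z, tx, hzt, hfz, by rw [← hzdim, hdx], by exact_mod_cast hle, ?_⟩
    intro h
    have := hne h
    exact_mod_cast this
  -- at `w`
  obtain ⟨zw, tw, hzw, hfzw, hdw, hlew, hnew⟩ := key w (by rw [hw]; exact hxU)
  have hfzw' : f.base (ι.base zw) = f.base x := by
    rw [← hca, hfzw, hca, hw]
  have hnotmax : ∃ z' : X, f.base z' = f.base (ι.base zw) ∧ z' ⤳ ι.base zw ∧
      z' ≠ ι.base zw := by
    by_contra hcon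
    push Not at hcon
    exact hmax (ι.base zw) hfzw' (fun z' h1 h2 => hcon z' (h1.trans hfzw'.symm) h2) (hmemV zw)
  have hew : e = tw + 1 := hnew hnotmax
  have h1e : 1 ≤ e := by omega
  have hdw' : FlatMor.fibreDimAt (ι ≫ f) w = ((e - 1 : ℕ) : WithBot ℕ∞) := by
    have : tw = e - 1 := by omega
    rw [hdw, this]
  let O : T.Opens := ⟨{t | FlatMor.fibreDimAt (ι ≫ f) t ≤ ((e - 1 : ℕ) : WithBot ℕ∞)},
    Groth.Agent.H1.Chev.isOpen_fibreDimAt_le (ι ≫ f) (e - 1)⟩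
  have hfdU' : ∀ t ∈ (ι ⁻¹ᵁ U) ⊓ O,
      FlatMor.fibreDimAt (ι ≫ f) t = ((e - 1 : ℕ) : WithBot ℕ∞) := by
    intro t ht
    obtain ⟨htU, htO⟩ := Opens.mem_inf.mp ht
    obtain ⟨z, tx, -, -, hd, hle, -⟩ := key t htU
    have htO' : FlatMor.fibreDimAt (ι ≫ f) t ≤ ((e - 1 : ℕ) : WithBot ℕ∞) := htO
    rw [hd] at htO' ⊢
    have h1 : tx ≤ e - 1 := by exact_mod_cast htO'
    have : tx = e - 1 := by omega
    rw [this]
  refine ⟨h1e, (ι ⁻¹ᵁ U) ⊓ O, Opens.mem_inf.mpr ⟨by show ι.base w ∈ U; rw [hw]; exact hxU,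
    hdw'.le⟩, hfdU', ?_⟩
  intro ξ hξ hξmax
  obtain ⟨hξU, -⟩ := Opens.mem_inf.mp hξ
  have hξU' : ι.base ξ ∈ U := hξU
  have hdξ := hfdU' ξ hξ
  obtain ⟨tx, htx, hdx⟩ := fibreDimAt_comp_eq_resTrdeg ι f ξ (fun t' _ h2 => hξmax t' h2)
  have hminX : ∀ q : X, q ⤳ ι.base ξ → q ∈ X.zeroLocus ({g} : Set Γ(X, ⊤)) →
      q = ι.base ξ := by
    intro q hqξ hqg
    obtain ⟨qT, rfl⟩ := hlift q hqg
    rw [hξmax qT (hspec qT ξ hqξ)]
  obtain ⟨t', ht', -, -, hmaxcase⟩ :=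
    fibreDimAt_of_isMaxPt_zeroLocus_fibre f g (ι.base ξ) (hmemV ξ)
      (fun q _ h2 h3 => hminX q h2 h3)
  have htt : tx = t' := by
    have : ((tx : ℕ) : Cardinal.{u}) = t' := htx.symm.trans ht'
    exact_mod_cast this
  subst htt
  have htxe : tx = e - 1 := by
    have : ((tx : ℕ) : WithBot ℕ∞) = ((e - 1 : ℕ) : WithBot ℕ∞) := hdx.symm.trans hdξ
    exact_mod_cast this
  have hnotmaxξ : ∃ z' : X, f.base z' = f.base (ι.base ξ) ∧ z' ⤳ ι.base ξ ∧
      z' ≠ ι.base ξ := by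
    by_contra hcon
    push Not at hcon
    have h1 := hmaxcase hcon
    rw [hfd _ hξU'] at h1
    have : e = tx := by exact_mod_cast h1
    omega
  obtain ⟨t'', hft'', ht''ξ, hne''⟩ := hnotmaxξ
  have hK := ringKrullDim_stalk_le_one g (ι.base ξ) (hmemV ξ) hminX
  have hlt := ringKrullDim_stalk_lt_of_specializes ht''ξ hne''
  have h0 : (0 : WithBot ℕ∞) ≤ ringKrullDim (X.presheaf.stalk t'') :=
    ringKrullDim_nonneg_of_nontrivial
  obtain ⟨hd1, hd0⟩ := withBot_aux_eq_one _ _ h0 hlt hK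
  have ht''max : ∀ ζ : X, ζ ⤳ t'' → ζ = t'' := by
    intro ζ hζ
    by_contra hneζ
    have hlt' := ringKrullDim_stalk_lt_of_specializes hζ hneζ
    rw [hd0] at hlt'
    have h0' : (0 : WithBot ℕ∞) ≤ ringKrullDim (X.presheaf.stalk ζ) :=
      ringKrullDim_nonneg_of_nontrivial
    exact absurd (lt_of_le_of_lt h0' hlt') (lt_irrefl _)
  have ht''U : t'' ∈ U := ht''ξ.mem_open U.isOpen hξU'
  obtain ⟨hc1, hc2⟩ := hgen t'' ht''U ht''max
  have hgξ : (ι ≫ f).base ξ = f.base t'' := by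
    show (ι ≫ f) ξ = f.base t''
    rw [hca, hft'']
  have hgw : (ι ≫ f).base w = f.base x := by
    show (ι ≫ f) w = f.base x
    rw [hca, hw]
  refine ⟨⟨?_, ?_⟩, hd1⟩
  · rw [hgξ]; exact hc1
  · rw [hgξ, hgw]; exact hc2

end Groth.Agent.H1.HypSec
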