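import Mathlib
import Groth.Prelude.Def_EGA43
import Groth.Agent.Lib.Helper1.HypSecB
import Groth.Agent.Lib.Helper1.EquidimLocC

/-!
# EGA IV 13.3.x: the zero locus of a section avoiding the maximal points of the fibre (helper1)
-/

set_option autoImplicit false
set_option linter.style.haveILetI false
universe u

namespace Groth.Agent.H1.HypSec

open AlgebraicGeometry CategoryTheory CategoryTheory.Limits TopologicalSpace Topology
open Groth.Agent.H1.DimFormula Groth.Agent.H1.UO14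

variable {X Y : Scheme.{u}}

/-- the "generic" form of equidimensionality at a point. -/
theorem exists_generic_of_isEquidimAt (f : X ⟶ Y) [LocallyOfFiniteType f] (x : X)
    (hf : EGA43.IsEquidimAt f x) :
    ∃ (e : ℕ) (U : X.Opens), x ∈ U ∧ (∀ x' ∈ U, FlatMor.fibreDimAt f x' = e) ∧
      ∀ ξ ∈ U, (∀ z : X, z ⤳ ξ → z = ξ) →
        closure ({f.base ξ} : Set Y) ∈ irreducibleComponents (Y : Type u) := by
  obtain ⟨e, U, hxU, hcomp, hfib⟩ := hf
  refine ⟨e, U, hxU,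
    fun x' hx' => Groth.Agent.H1.EquidimLoc.fibreDimAt_eq_of_forall_dim f U e hfib x' hx', ?_⟩
  intro ξ hξU hξ
  exact Groth.Agent.H1.EquidimLoc.closure_image_mem_irreducibleComponents f U
    (fun Z hZ => by
      obtain ⟨W, hW, -, hWe⟩ := hcomp Z hZ
      exact ⟨W, hW, hWe⟩) ξ hξU hξ

theorem mem_closure_of_mem_irreducibleComponents [IrreducibleSpace Y] (S : Set Y)
    (hS : S ∈ irreducibleComponents (Y : Type u)) (y : Y) : y ∈ S := by
  rw [irreducibleComponents_eq_singleton] at hS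
  rw [Set.mem_singleton_iff.mp hS]; trivial

theorem s5925_aux [IrreducibleSpace Y] [IsLocallyNoetherian Y] (f : X ⟶ Y)
    [LocallyOfFiniteType f] (x : X) (hf : EGA43.IsEquidimAt f x)
    (g : Γ(X, ⊤)) (hgx : x ∈ X.zeroLocus ({g} : Set Γ(X, ⊤)))
    (hmax : ∀ z : X, f.base z = f.base x →
      (∀ z' : X, f.base z' = f.base x → z ∈ closure ({z'} : Set X) → z' = z) →
      z ∉ X.zeroLocus ({g} : Set Γ(X, ⊤)))
    {T : Scheme.{u}} (ι : T ⟶ X) [IsClosedImmersion ι]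
    (hr : Set.range ι.base = X.zeroLocus ({g} : Set Γ(X, ⊤))) :
    (∀ w : T, ι.base w = x → EGA43.IsEquidimAt (ι ≫ f) w) ∧
      FlatMor.localDim ↥(X.zeroLocus ({g} : Set Γ(X, ⊤)) ∩ f.base ⁻¹' {f.base x})
        ⟨x, ⟨hgx, rfl⟩⟩ + 1 = FlatMor.fibreDimAt f x ∧
      ∀ Z ∈ irreducibleComponents ↥(X.zeroLocus ({g} : Set Γ(X, ⊤))),
        (⟨x, hgx⟩ : ↥(X.zeroLocus ({g} : Set Γ(X, ⊤)))) ∈ Z →
        ∀ ξ : ↥(X.zeroLocus ({g} : Set Γ(X, ⊤))),
          closure ({ξ} : Set ↥(X.zeroLocus ({g} : Set Γ(X, ⊤)))) = Z →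
          ringKrullDim (X.presheaf.stalk (ξ : X)) = 1 := by
  obtain ⟨e, U, hxU, hfd, hgen0⟩ := exists_generic_of_isEquidimAt f x hf
  have hgen : ∀ ξ ∈ U, (∀ z : X, z ⤳ ξ → z = ξ) →
      closure ({f.base ξ} : Set Y) ∈ irreducibleComponents (Y : Type u) ∧
        f.base x ∈ closure ({f.base ξ} : Set Y) := fun ξ hξU hξ =>
    ⟨hgen0 ξ hξU hξ, mem_closure_of_mem_irreducibleComponents _ (hgen0 ξ hξU hξ) _⟩
  have hmax' : ∀ z : X, f.base z = f.base x →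
      (∀ z' : X, f.base z' = f.base x → z' ⤳ z → z' = z) →
      z ∉ X.zeroLocus ({g} : Set Γ(X, ⊤)) := fun z hz hzmax =>
    hmax z hz (fun z' hz' hcl => hzmax z' hz' (specializes_iff_mem_closure.mpr hcl))
  have hemb : IsEmbedding ι.base := ι.isEmbedding
  have hmemV : ∀ t : T, ι.base t ∈ X.zeroLocus ({g} : Set Γ(X, ⊤)) := fun t => by
    rw [← hr]; exact ⟨t, rfl⟩
  have main := fun (w : T) (hw : ι.base w = x) =>
    hypSec f x e U hxU hfd hgen g hgx hmax' ι hr w hw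
  obtain ⟨w, hw⟩ : ∃ w : T, ι.base w = x := (Set.ext_iff.mp hr x).mpr hgx
  refine ⟨?_, ?_, ?_⟩
  · intro w' hw'
    obtain ⟨-, U', hwU', hfd', hgen'⟩ := main w' hw'
    exact Groth.Agent.H1.EquidimLoc.isEquidimAt_of_generic (ι ≫ f) w' U' hwU' (e - 1) hfd'
      (fun ξ hξ hξmax => (hgen' ξ hξ hξmax).1)
  · obtain ⟨h1e, U', hwU', hfd', -⟩ := main w hw
    subst hw
    have hE := fibreDimAt_comp_of_isEmbedding ι hemb f w
    have hS : Set.range ι.base ∩ f.base ⁻¹' {f.base (ι.base w)} =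
        X.zeroLocus ({g} : Set Γ(X, ⊤)) ∩ f.base ⁻¹' {f.base (ι.base w)} := by rw [hr]
    have hC := localDim_congr_set hS (ι.base w) ⟨⟨w, rfl⟩, rfl⟩
    have h3 : FlatMor.localDim ↥(X.zeroLocus ({g} : Set Γ(X, ⊤)) ∩
        f.base ⁻¹' {f.base (ι.base w)}) ⟨ι.base w, ⟨hgx, rfl⟩⟩ = ((e - 1 : ℕ) : WithBot ℕ∞) :=
      hC.symm.trans (hE.symm.trans (hfd' w hwU'))
    rw [h3, hfd _ hxU]
    have : e - 1 + 1 = e := by omega
    exact_mod_cast this
  · intro Z hZ hxZ ξ hξZ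
    obtain ⟨ξT, hξT⟩ : ∃ ξT : T, ι.base ξT = ξ.1 := (Set.ext_iff.mp hr ξ.1).mpr ξ.2
    have hξcomp : closure ({ξ} : Set ↥(X.zeroLocus ({g} : Set Γ(X, ⊤)))) ∈
        irreducibleComponents ↥(X.zeroLocus ({g} : Set Γ(X, ⊤))) := by rw [hξZ]; exact hZ
    have hξTmax : ∀ z : T, z ⤳ ξT → z = ξT := by
      intro z hz
      have h1 : ι.base z ⤳ ι.base ξT := hz.map ι.continuous
      have h2 : (⟨ι.base z, hmemV z⟩ : ↥(X.zeroLocus ({g} : Set Γ(X, ⊤)))) ⤳ ξ := by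
        rw [subtype_specializes_iff, ← hξT]; exact h1
      have h3 := Groth.Agent.H1.EquidimLoc.eq_of_specializes_of_closure_mem_irreducibleComponents
        ξ hξcomp _ h2
      apply hemb.injective
      rw [hξT, ← h3]
    have hξTw : ξT ⤳ w := by
      apply hemb.isInducing.specializes_iff.mp
      show ι.base ξT ⤳ ι.base w
      rw [hξT, hw]
      have h4 : ξ ⤳ (⟨x, hgx⟩ : ↥(X.zeroLocus ({g} : Set Γ(X, ⊤)))) := by
        rw [specializes_iff_mem_closure, hξZ]; exact hxZ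
      exact (subtype_specializes_iff _ _).mp h4
    obtain ⟨-, U', hwU', -, hgen'⟩ := main w hw
    have h5 := (hgen' ξT (hξTw.mem_open U'.isOpen hwU') hξTmax).2
    rw [hξT] at h5
    exact h5

theorem s5925 [IrreducibleSpace Y] [IsLocallyNoetherian Y] (f : X ⟶ Y)
    [LocallyOfFiniteType f] (x : X) (hf : EGA43.IsEquidimAt f x)
    (g : Γ(X, ⊤)) (hgx : x ∈ X.zeroLocus ({g} : Set Γ(X, ⊤)))
    (hmax : ∀ z : X, f.base z = f.base x →
      (∀ z' : X, f.base z' = f.base x → z ∈ closure ({z'} : Set X) → z' = z) →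
      z ∉ X.zeroLocus ({g} : Set Γ(X, ⊤))) :
    (∀ w : ↥(Scheme.IdealSheafData.vanishingIdeal ⟨X.zeroLocus ({g} : Set Γ(X, ⊤)), X.zeroLocus_isClosed _⟩).subscheme,
        (Scheme.IdealSheafData.vanishingIdeal ⟨X.zeroLocus ({g} : Set Γ(X, ⊤)), X.zeroLocus_isClosed _⟩).subschemeι.base w = x →
        EGA43.IsEquidimAt ((Scheme.IdealSheafData.vanishingIdeal ⟨X.zeroLocus ({g} : Set Γ(X, ⊤)), X.zeroLocus_isClosed _⟩).subschemeι ≫ f) w) ∧
      FlatMor.localDim ↥(X.zeroLocus ({g} : Set Γ(X, ⊤)) ∩ f.base ⁻¹' {f.base x}) ⟨x, ⟨hgx, rfl⟩⟩ + 1 = FlatMor.fibreDimAt f x ∧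
      ∀ Z ∈ irreducibleComponents ↥(X.zeroLocus ({g} : Set Γ(X, ⊤))), (⟨x, hgx⟩ : ↥(X.zeroLocus ({g} : Set Γ(X, ⊤)))) ∈ Z →
        ∀ ξ : ↥(X.zeroLocus ({g} : Set Γ(X, ⊤))), closure ({ξ} : Set ↥(X.zeroLocus ({g} : Set Γ(X, ⊤)))) = Z →
          ringKrullDim (X.presheaf.stalk (ξ : X)) = 1 :=
  s5925_aux f x hf g hgx hmax
    (Scheme.IdealSheafData.vanishingIdeal ⟨X.zeroLocus ({g} : Set Γ(X, ⊤)),
      X.zeroLocus_isClosed _⟩).subschemeι
    ((Scheme.IdealSheafData.range_subschemeι _).trans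
      (Scheme.IdealSheafData.coe_support_vanishingIdeal _))

end Groth.Agent.H1.HypSec
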