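import Mathlib
import Groth.Prelude.Def_EGA43
import Groth.Agent.Lib.Helper1.HypSecC
import Groth.Agent.Lib.Helper1.FibDimTot
import Groth.Agent.Lib.Helper1.Chev4

/-!
# Quasi-sections (EGA IV 14.5.x): choice of a hypersurface section (helper1)
-/

set_option autoImplicit false
set_option linter.style.haveILetI false
universe u

namespace Groth.Agent.H1.QSec

open AlgebraicGeometry CategoryTheory CategoryTheory.Limits TopologicalSpace Topology
open Groth.Agent.H1.DimFormula Groth.Agent.H1.UO14 Groth.Agent.H1.HypSec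

variable {X Y : Scheme.{u}}

/-- a point of the fibre which is both closed and maximal there has local fibre dimension `0`. -/
theorem fibreDimAt_eq_zero_of_closed_of_maxPt (f : X ⟶ Y) [LocallyOfFiniteType f] (x : X)
    (hcl : ∀ x' : X, f.base x' = f.base x → x ⤳ x' → x' = x)
    (hmax : ∀ x' : X, f.base x' = f.base x → x' ⤳ x → x' = x) :
    FlatMor.fibreDimAt f x = 0 := by
  have hemb : IsEmbedding (f.fiberι (f.base x)) := (f.fiberι (f.base x)).isEmbedding
  have hfib : ∀ c : ↥(f.fiber (f.base x)), f.base ((f.fiberι (f.base x)) c) = f.base x := by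
    intro c
    have : (f.fiberι (f.base x)) c ∈ Set.range (f.fiberι (f.base x)) := ⟨c, rfl⟩
    rw [Scheme.Hom.range_fiberι] at this
    exact this
  have hclosed : IsClosed ({f.asFiber x} : Set ↥(f.fiber (f.base x))) := by
    apply isClosed_of_closure_subset
    intro c hc
    have h1 : f.asFiber x ⤳ c := specializes_iff_mem_closure.mpr hc
    have h2 := h1.map (f.fiberι (f.base x)).continuous
    rw [f.fiberι_asFiber] at h2
    have h3 := hcl _ (hfib c) h2
    rw [Set.mem_singleton_iff]
    apply hemb.injective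
    rw [f.fiberι_asFiber]; exact h3
  have hmax' : ∀ c : ↥(f.fiber (f.base x)), c ⤳ f.asFiber x → c = f.asFiber x := by
    intro c hc
    have h2 := hc.map (f.fiberι (f.base x)).continuous
    rw [f.fiberι_asFiber] at h2
    have h3 := hmax _ (hfib c) h2
    apply hemb.injective
    rw [f.fiberι_asFiber]; exact h3
  unfold FlatMor.fibreDimAt
  have h5 := @localDim_eq_stalk_of_isClosed (Y.residueField (f.base x)) _ _
    (f.fiberToSpecResidueField (f.base x))
    (Groth.Agent.H1.Chev.locallyOfFiniteType_fiberToSpecResidueField f (f.base x))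
    (f.asFiber x) hclosed
  rw [h5]
  exact ringKrullDim_stalk_eq_zero (f.asFiber x) hmax'

/-- the maximal points of a fibre of a morphism locally of finite type from a Noetherian scheme
are finite in number. -/
theorem finite_maxPts_fibre [NoetherianSpace X] (f : X ⟶ Y) (y : Y) :
    {z : X | f.base z = y ∧ ∀ z' : X, f.base z' = y → z' ⤳ z → z' = z}.Finite := by
  have hemb : IsEmbedding (f.fiberι y) := (f.fiberι y).isEmbedding
  haveI : NoetherianSpace ↥(f.fiber y) := hemb.isInducing.noetherianSpace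
  have hfin : (irreducibleComponents ↥(f.fiber y)).Finite :=
    NoetherianSpace.finite_irreducibleComponents
  haveI : Finite {C : Set ↥(f.fiber y) // C ∈ irreducibleComponents ↥(f.fiber y)} := hfin.to_subtype
  let φ : {C : Set ↥(f.fiber y) // C ∈ irreducibleComponents ↥(f.fiber y)} → X := fun C =>
    (f.fiberι y) (Classical.choose (Groth.Agent.H1.FibDimTot.exists_isMaxPt_closure_eq C.2))
  refine (Set.finite_range φ).subset ?_
  rintro z ⟨hz, hzmax⟩
  have hzr : z ∈ Set.range (f.fiberι y) := by rw [Scheme.Hom.range_fiberι]; exact hz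
  obtain ⟨c, rfl⟩ := hzr
  have hfib : ∀ c' : ↥(f.fiber y), f.base ((f.fiberι y) c') = y := by
    intro c'
    have : (f.fiberι y) c' ∈ Set.range (f.fiberι y) := ⟨c', rfl⟩
    rw [Scheme.Hom.range_fiberι] at this
    exact this
  have hcmax : ∀ c' : ↥(f.fiber y), c' ⤳ c → c' = c := by
    intro c' hc'
    exact hemb.injective (hzmax _ (hfib c') (hc'.map (f.fiberι y).continuous))
  have hC := Groth.Agent.H1.GenPts.closure_singleton_mem_irreducibleComponents c hcmax
  refine ⟨⟨closure {c}, hC⟩, ?_⟩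
  have hspec := Classical.choose_spec (Groth.Agent.H1.FibDimTot.exists_isMaxPt_closure_eq hC)
  show (f.fiberι y) (Classical.choose
    (Groth.Agent.H1.FibDimTot.exists_isMaxPt_closure_eq hC)) = (f.fiberι y) c
  congr 1
  have h1 : IsGenericPoint (Classical.choose
    (Groth.Agent.H1.FibDimTot.exists_isMaxPt_closure_eq hC)) (closure {c}) := hspec.2
  exact IsGenericPoint.eq h1 (isGenericPoint_closure)

/-- **choice of the hypersurface**: on an affine scheme over a locally Noetherian base, at a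
point closed in its fibre where the fibre has positive dimension, there is a global section
vanishing at the point and at no maximal point of the fibre. -/
theorem exists_section_avoiding [IsLocallyNoetherian Y] {X₁ : Scheme.{u}} [IsAffine X₁]
    (f₁ : X₁ ⟶ Y) [LocallyOfFiniteType f₁] (x₁ : X₁)
    (hpos : FlatMor.fibreDimAt f₁ x₁ ≠ 0)
    (hcl : ∀ x' : X₁, f₁.base x' = f₁.base x₁ → x₁ ⤳ x' → x' = x₁) :
    ∃ g : Γ(X₁, ⊤), x₁ ∈ X₁.zeroLocus ({g} : Set Γ(X₁, ⊤)) ∧
      ∀ z : X₁, f₁.base z = f₁.base x₁ →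
        (∀ z' : X₁, f₁.base z' = f₁.base x₁ → z' ⤳ z → z' = z) →
        z ∉ X₁.zeroLocus ({g} : Set Γ(X₁, ⊤)) := by
  classical
  haveI : IsLocallyNoetherian X₁ := LocallyOfFiniteType.isLocallyNoetherian f₁
  haveI : IsNoetherian X₁ := { __ := LocallyOfFiniteType.isLocallyNoetherian f₁ }
  have hA : IsAffineOpen (⊤ : X₁.Opens) := isAffineOpen_top X₁
  have hMfin := finite_maxPts_fibre f₁ (f₁.base x₁)
  set M : Set X₁ := {z : X₁ | f₁.base z = f₁.base x₁ ∧
    ∀ z' : X₁, f₁.base z' = f₁.base x₁ → z' ⤳ z → z' = z} with hM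
  let p : X₁ → Ideal Γ(X₁, ⊤) := fun z => (hA.primeIdealOf ⟨z, trivial⟩).asIdeal
  have hmem : ∀ (z : X₁) (b : Γ(X₁, ⊤)), b ∈ p z ↔ z ∈ X₁.zeroLocus ({b} : Set Γ(X₁, ⊤)) := by
    intro z b
    rw [Scheme.zeroLocus_singleton]
    exact Groth.Agent.H1.RegCutSch.mem_primeIdealOf_iff hA z trivial b
  have hnot : ¬ ((p x₁ : Set Γ(X₁, ⊤)) ⊆ ⋃ z ∈ (↑hMfin.toFinset : Set X₁), (p z : Set Γ(X₁, ⊤))) := by
    intro hsub
    rw [Ideal.subset_union_prime x₁ x₁
      (fun z _ _ _ => (hA.primeIdealOf ⟨z, trivial⟩).2)] at hsub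
    obtain ⟨z, hz, hle⟩ := hsub
    have hzM : z ∈ M := hMfin.mem_toFinset.mp hz
    have h1 : x₁ ⤳ z := specializes_of_primeIdealOf_le' hA trivial trivial hle
    have h2 : z = x₁ := hcl z hzM.1 h1
    subst h2
    exact hpos (fibreDimAt_eq_zero_of_closed_of_maxPt f₁ z hcl hzM.2)
  rw [Set.not_subset] at hnot
  obtain ⟨b, hbx, hbM⟩ := hnot
  refine ⟨b, (hmem x₁ b).mp hbx, ?_⟩
  intro z hz hzmax hzb
  apply hbM
  have hzM : z ∈ M := ⟨hz, hzmax⟩
  refine Set.mem_biUnion (show z ∈ (↑hMfin.toFinset : Set X₁) from hMfin.mem_toFinset.mpr hzM) ?_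
  exact (hmem z b).mpr hzb

end Groth.Agent.H1.QSec
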