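import Mathlib

set_option autoImplicit false

namespace Groth.Agent.Lib.Helper1.ValChain

open IsLocalRing

universe u v

section Comp

variable {K : Type v} [Field K] (V₁ : ValuationSubring K)
  (V₂ : ValuationSubring (IsLocalRing.ResidueField V₁))

/-- the subring underlying the composite valuation ring -/
def compSubring : Subring K :=
  (V₂.toSubring.comap (IsLocalRing.residue V₁)).map V₁.subtype

theorem mem_compSubring {x : K} :
    x ∈ compSubring V₁ V₂ ↔ ∃ h : x ∈ V₁, IsLocalRing.residue V₁ ⟨x, h⟩ ∈ V₂ := by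
  constructor
  · rintro ⟨y, hy, rfl⟩
    exact ⟨y.2, hy⟩
  · rintro ⟨h, hx⟩
    exact ⟨⟨x, h⟩, hx, rfl⟩

theorem mem_or_inv_mem_aux {x : K} (h : x ∈ V₁) :
    x ∈ compSubring V₁ V₂ ∨ x⁻¹ ∈ compSubring V₁ V₂ := by
  by_cases hx : IsLocalRing.residue V₁ ⟨x, h⟩ ∈ V₂
  · exact Or.inl ((mem_compSubring V₁ V₂).2 ⟨h, hx⟩)
  · right
    have hne : IsLocalRing.residue V₁ ⟨x, h⟩ ≠ 0 := by
      intro h0
      apply hx
      rw [h0]
      exact V₂.zero_mem
    have hu : IsUnit (⟨x, h⟩ : V₁) := by
      by_contra hnu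
      exact hne ((IsLocalRing.residue_eq_zero_iff _).2 ((IsLocalRing.mem_maximalIdeal _).2 hnu))
    obtain ⟨w, hw⟩ := hu
    have hx0 : x ≠ 0 := by
      intro h0
      apply hne
      have : (⟨x, h⟩ : V₁) = 0 := Subtype.ext h0
      rw [this, map_zero]
    have hinv : ((w⁻¹ : V₁ˣ) : V₁).1 = x⁻¹ := by
      have h1 : ((w⁻¹ : V₁ˣ) : V₁) * (w : V₁) = 1 := w.inv_mul
      have h2 : ((w⁻¹ : V₁ˣ) : V₁).1 * x = 1 := by
        have := congrArg Subtype.val h1
        rw [hw] at this
        exact this
      exact eq_inv_of_mul_eq_one_left h2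
    have hmem : x⁻¹ ∈ V₁ := hinv ▸ ((w⁻¹ : V₁ˣ) : V₁).2
    refine (mem_compSubring V₁ V₂).2 ⟨hmem, ?_⟩
    have h3 : IsLocalRing.residue V₁ ⟨x⁻¹, hmem⟩ * IsLocalRing.residue V₁ ⟨x, h⟩ = 1 := by
      rw [← map_mul]
      have : (⟨x⁻¹, hmem⟩ : V₁) * ⟨x, h⟩ = 1 := Subtype.ext (inv_mul_cancel₀ hx0)
      rw [this, map_one]
    rw [eq_inv_of_mul_eq_one_left h3]
    rcases V₂.mem_or_inv_mem (IsLocalRing.residue V₁ ⟨x, h⟩) with h4 | h4
    · exact absurd h4 hx
    · exact h4

/-- The composite of a valuation ring `V₁` of `K` and a valuation ring `V₂` of the residue field of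
`V₁`. -/
def comp : ValuationSubring K where
  toSubring := compSubring V₁ V₂
  mem_or_inv_mem' x := by
    rcases V₁.mem_or_inv_mem x with h | h
    · exact mem_or_inv_mem_aux V₁ V₂ h
    · have := mem_or_inv_mem_aux V₁ V₂ h
      rw [inv_inv] at this
      exact this.symm

theorem mem_comp {x : K} :
    x ∈ comp V₁ V₂ ↔ ∃ h : x ∈ V₁, IsLocalRing.residue V₁ ⟨x, h⟩ ∈ V₂ :=
  mem_compSubring V₁ V₂

theorem comp_le : comp V₁ V₂ ≤ V₁ := fun _ hx => ((mem_comp V₁ V₂).1 hx).1

/-- the projection from the composite to the second valuation ring -/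
noncomputable def compToSnd : comp V₁ V₂ →+* V₂ :=
  ((IsLocalRing.residue V₁).comp (Subring.inclusion (comp_le V₁ V₂))).codRestrict V₂.toSubring
    (fun x => by
      obtain ⟨h, hx⟩ := (mem_comp V₁ V₂).1 x.2
      exact hx)

theorem compToSnd_apply (x : comp V₁ V₂) :
    ((compToSnd V₁ V₂ x : V₂) : IsLocalRing.ResidueField V₁) =
      IsLocalRing.residue V₁ ⟨x.1, comp_le V₁ V₂ x.2⟩ := rfl

end Comp

section Chain

variable {A : Type u} [CommRing A]

/-- For a ring map to a field and a prime containing the kernel, there is a valuation ring of the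
field containing the image whose maximal ideal contracts to the prime. -/
theorem exists_valuationSubring_comap_eq {L : Type v} [Field L] (ψ : A →+* L) (P : Ideal A)
    [hP : P.IsPrime] (hle : RingHom.ker ψ ≤ P) :
    ∃ (V : ValuationSubring L) (hV : ∀ a, ψ a ∈ V),
      (maximalIdeal V).comap (ψ.codRestrict V.toSubring hV) = P := by
  have hu : ∀ y : P.primeCompl, IsUnit (ψ y) := by
    intro y
    rw [isUnit_iff_ne_zero]
    intro h0
    exact y.2 (hle ((RingHom.mem_ker).2 h0))
  let f : Localization.AtPrime P →+* L := IsLocalization.lift (M := P.primeCompl) hu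
  obtain ⟨V, hV, hloc⟩ := IsLocalRing.exists_factor_valuationRing f
  have hf : ∀ a, f (algebraMap A _ a) = ψ a := fun a => IsLocalization.lift_eq hu a
  have hV' : ∀ a, ψ a ∈ V := fun a => hf a ▸ hV _
  refine ⟨V, hV', ?_⟩
  have hVl : IsLocalRing V.toSubring := V.isLocalRing
  have h1 : (maximalIdeal V).comap (f.codRestrict V.toSubring hV) =
      maximalIdeal (Localization.AtPrime P) :=
    ((IsLocalRing.local_hom_TFAE _).out 0 4).1 hloc
  have h2 : ψ.codRestrict V.toSubring hV' =
      (f.codRestrict V.toSubring hV).comp (algebraMap A (Localization.AtPrime P)) := by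
    ext a
    simp only [RingHom.codRestrict_apply, RingHom.comp_apply, hf]
  rw [h2, ← Ideal.comap_comap, h1]
  exact Localization.AtPrime.under_maximalIdeal

/-- **Chain domination.**  A finite chain of primes of `A` starting at the kernel of a map to a
field `L` is the contraction of a chain of primes of a valuation ring of `L`. -/
theorem exists_valuationSubring_chain : ∀ (n : ℕ) {L : Type v} [Field L] (ψ : A →+* L)
    (p : Fin (n + 1) → PrimeSpectrum A), Monotone p → RingHom.ker ψ = (p 0).asIdeal →
    ∃ (V : ValuationSubring L) (hV : ∀ a, ψ a ∈ V) (q : Fin (n + 1) → PrimeSpectrum V),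
      Monotone q ∧ ∀ i, PrimeSpectrum.comap (ψ.codRestrict V.toSubring hV) (q i) = p i := by
  intro n
  induction n with
  | zero =>
    intro L _ ψ p hp hker
    refine ⟨⊤, fun _ => trivial, fun _ => ⟨⊥, Ideal.isPrime_bot⟩, fun _ _ _ => le_rfl, ?_⟩
    intro i
    have hi : i = 0 := Fin.fin_one_eq_zero i
    subst hi
    apply PrimeSpectrum.ext
    rw [← hker]
    ext a
    change (ψ.codRestrict _ _ a) ∈ (⊥ : Ideal _) ↔ _
    rw [Ideal.mem_bot, RingHom.mem_ker, Subtype.ext_iff]
    rfl
  | succ n ih =>
    intro L _ ψ p hp hker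
    have hle : RingHom.ker ψ ≤ (p 1).asIdeal := by
      rw [hker]
      exact hp (Fin.zero_le _)
    obtain ⟨V₁, hV₁, hcomap⟩ := exists_valuationSubring_comap_eq ψ (p 1).asIdeal hle
    let ψ₁ : A →+* IsLocalRing.ResidueField V₁ :=
      (IsLocalRing.residue V₁).comp (ψ.codRestrict V₁.toSubring hV₁)
    have hker₁ : RingHom.ker ψ₁ = (p 1).asIdeal := by
      rw [← hcomap]
      ext a
      rw [RingHom.mem_ker, Ideal.mem_comap]
      exact IsLocalRing.residue_eq_zero_iff _
    let p' : Fin (n + 1) → PrimeSpectrum A := fun i => p i.succ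
    have hp' : Monotone p' := fun i j hij => hp (Fin.succ_le_succ_iff.2 hij)
    obtain ⟨V₂, hV₂, q', hq', hq'c⟩ := ih ψ₁ p' hp' hker₁
    let V := comp V₁ V₂
    have hV : ∀ a, ψ a ∈ V := fun a => (mem_comp V₁ V₂).2 ⟨hV₁ a, hV₂ a⟩
    let ρ : V →+* V₂ := compToSnd V₁ V₂
    have hρ : ρ.comp (ψ.codRestrict V.toSubring hV) = ψ₁.codRestrict V₂.toSubring hV₂ := by
      ext a
      rfl
    let q : Fin (n + 2) → PrimeSpectrum V :=
      Fin.cons (⟨⊥, Ideal.isPrime_bot⟩ : PrimeSpectrum V) (fun i => PrimeSpectrum.comap ρ (q' i))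
    refine ⟨V, hV, q, ?_, ?_⟩
    · intro i j hij
      induction i using Fin.cases with
      | zero =>
        change (⊥ : Ideal V) ≤ _
        exact bot_le
      | succ i =>
        induction j using Fin.cases with
        | zero => exact absurd hij (by simp)
        | succ j =>
          simp only [q, Fin.cons_succ]
          have := hq' (Fin.succ_le_succ_iff.1 hij)
          exact Ideal.comap_mono this
    · intro i
      induction i using Fin.cases with
      | zero =>
        apply PrimeSpectrum.ext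
        rw [← hker]
        ext a
        change (ψ.codRestrict _ _ a) ∈ (⊥ : Ideal _) ↔ _
        rw [Ideal.mem_bot, RingHom.mem_ker, Subtype.ext_iff]
        rfl
      | succ i =>
        simp only [q, Fin.cons_succ]
        have := hq'c i
        simp only [p'] at this
        rw [← this]
        apply PrimeSpectrum.ext
        change Ideal.comap _ (Ideal.comap ρ _) = Ideal.comap _ _
        rw [Ideal.comap_comap, hρ]

end Chain

section GoingDown

variable {V W : Type u} [CommRing V] [CommRing W] [IsDomain W] [ValuationRing W]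

/-- going down along a map into a valuation ring which is surjective on spectra -/
theorem exists_le_comap_eq (φ : V →+* W) (hφ : Function.Surjective (PrimeSpectrum.comap φ))
    (P : PrimeSpectrum W) (q : PrimeSpectrum V) (hq : q ≤ PrimeSpectrum.comap φ P) :
    ∃ Q : PrimeSpectrum W, Q ≤ P ∧ PrimeSpectrum.comap φ Q = q := by
  obtain ⟨Q₀, hQ₀⟩ := hφ q
  rcases (ValuationRing.le_total_ideal (A := W)).total Q₀.asIdeal P.asIdeal with h | h
  · exact ⟨Q₀, h, hQ₀⟩
  · refine ⟨P, le_rfl, le_antisymm ?_ hq⟩
    rw [← hQ₀]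
    exact Ideal.comap_mono h

/-- chains lift along a map into a valuation ring which is surjective on spectra -/
theorem exists_chain_lift (φ : V →+* W) (hφ : Function.Surjective (PrimeSpectrum.comap φ)) :
    ∀ (n : ℕ) (q : Fin (n + 1) → PrimeSpectrum V), Monotone q →
      ∃ r : Fin (n + 1) → PrimeSpectrum W, Monotone r ∧ ∀ i, PrimeSpectrum.comap φ (r i) = q i := by
  intro n
  induction n with
  | zero =>
    intro q _
    obtain ⟨Q, hQ⟩ := hφ (q 0)
    refine ⟨fun _ => Q, fun _ _ _ => le_rfl, fun i => ?_⟩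
    have hi : i = 0 := Fin.fin_one_eq_zero i
    rw [hi, hQ]
  | succ n ih =>
    intro q hq
    obtain ⟨r', hr', hr'c⟩ := ih (fun i => q i.succ) (fun i j hij => hq (Fin.succ_le_succ_iff.2 hij))
    obtain ⟨Q, hQ, hQc⟩ := exists_le_comap_eq φ hφ (r' 0) (q 0) (by
      rw [hr'c 0]
      exact hq (Fin.zero_le _))
    refine ⟨Fin.cons Q r', ?_, ?_⟩
    · intro i j hij
      induction i using Fin.cases with
      | zero =>
        induction j using Fin.cases with
        | zero => exact le_rfl
        | succ j =>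
          simp only [Fin.cons_zero, Fin.cons_succ]
          exact hQ.trans (hr' (Fin.zero_le _))
      | succ i =>
        induction j using Fin.cases with
        | zero => exact absurd hij (by simp)
        | succ j =>
          simp only [Fin.cons_succ]
          exact hr' (Fin.succ_le_succ_iff.1 hij)
    · intro i
      induction i using Fin.cases with
      | zero => simpa using hQc
      | succ i => simpa using hr'c i

end GoingDown

end Groth.Agent.Lib.Helper1.ValChain
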