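import Mathlib
import Groth.Prelude.Def_W4c2submetdescSubtr
import Groth.Prelude.Def_HTop
import Groth.Agent.Lib.Helper1.VCov
import Groth.Agent.Lib.Helper1.ValChain

set_option autoImplicit false

namespace Groth.Agent.Lib.Helper1.Subtr1

open CategoryTheory CategoryTheory.Limits AlgebraicGeometry HTop Subtr IsLocalRing
open Groth.Agent.Lib.Helper1.ValLift Groth.Agent.Lib.Helper1.ValChain

universe u

/-- the valuative lifting property for a single morphism -/
def ValLift {X Y : Scheme.{u}} (f : X ⟶ Y) : Prop :=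
  ∀ (V : CommRingCat.{u}) [IsDomain V] [ValuationRing V] (g : Spec V ⟶ Y),
    ∃ (W : CommRingCat.{u}) (_ : IsDomain W) (_ : ValuationRing W) (φ : V ⟶ W),
      IsExtVal V W φ ∧ ∃ g' : Spec W ⟶ X, g' ≫ f = Spec.map φ ≫ g

theorem valLift_iff_hasValLift {X Y : Scheme.{u}} (f : X ⟶ Y) :
    ValLift f ↔ HasValLift (PreZeroHypercover.singleton.{0} f) := by
  constructor
  · intro h V _ _ g
    obtain ⟨W, hd, hv, φ, hφ, g', hg'⟩ := h V g
    exact ⟨W, hd, hv, φ, hφ, PUnit.unit, g', hg'⟩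
  · intro h V _ _ g
    obtain ⟨W, hd, hv, φ, hφ, j, g', hg'⟩ := h V g
    exact ⟨W, hd, hv, φ, hφ, g', hg'⟩

variable {X Y : Scheme.{u}}

theorem IsSSubtrusive.surjective {f : X ⟶ Y} (hf : IsSSubtrusive f) : Function.Surjective f := by
  intro y
  obtain ⟨x, x', -, hx, -⟩ := hf (specializes_rfl (x := y))
  exact ⟨x, hx⟩

theorem IsSSubtrusive.comp {Z : Scheme.{u}} {f : X ⟶ Y} {g : Y ⟶ Z} (hf : IsSSubtrusive f)
    (hg : IsSSubtrusive g) : IsSSubtrusive (f ≫ g) := by
  intro z z' hz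
  obtain ⟨y, y', hy, h1, h2⟩ := hg hz
  obtain ⟨x, x', hx, h3, h4⟩ := hf hy
  refine ⟨x, x', hx, ?_, ?_⟩
  · rw [Scheme.Hom.comp_apply, h3, h1]
  · rw [Scheme.Hom.comp_apply, h4, h2]

theorem isSSubtrusive_of_isIso (f : X ⟶ Y) [IsIso f] : IsSSubtrusive f := by
  intro y y' hy
  refine ⟨(inv f) y, (inv f) y', hy.map (inv f).continuous, ?_, ?_⟩
  · rw [← Scheme.Hom.comp_apply, IsIso.inv_hom_id]; rfl
  · rw [← Scheme.Hom.comp_apply, IsIso.inv_hom_id]; rfl

/-- a universally S-subtrusive morphism has the valuative lifting property -/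
theorem valLift_of_univSSubtrusive {f : X ⟶ Y} (hf : UnivSSubtrusive f) : ValLift f := by
  rw [valLift_iff_hasValLift]
  apply hasValLift_of_exists_specializes
  intro V _ _ g
  have hsq : IsPullback (pullback.fst g f) (pullback.snd g f) g f := IsPullback.of_hasPullback g f
  have h1 : IsSSubtrusive (pullback.fst g f) := hf _ _ _ hsq
  obtain ⟨x, x', hx, hx1, hx2⟩ := h1 (bot_specializes (closedPoint V))
  refine ⟨PUnit.unit, x', x, hx, ?_, hx1⟩
  change (pullback.fst g f x').asIdeal = ⊥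
  rw [hx2]

/-- the valuative lifting property implies universal S-subtrusiveness -/
theorem univSSubtrusive_of_valLift {f : X ⟶ Y} (hf : ValLift f) : UnivSSubtrusive f := by
  rw [valLift_iff_hasValLift] at hf
  intro X' Y' i₁ i₂ f' hsq y y' hy
  obtain ⟨j, w', w, hw, hw1, hw2⟩ := exists_specializes_of_hasValLift _ hf i₂ hy
  let e : X' ≅ pullback i₂ f := hsq.isoPullback
  have he : e.hom ≫ pullback.fst i₂ f = f' := hsq.isoPullback_hom_fst
  have he' : e.inv ≫ f' = pullback.fst i₂ f := by rw [← he, Iso.inv_hom_id_assoc]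
  let w₀ : ↑(pullback i₂ f) := w
  let w₀' : ↑(pullback i₂ f) := w'
  refine ⟨e.inv w₀, e.inv w₀', (show w₀' ⤳ w₀ from hw).map e.inv.continuous, ?_, ?_⟩
  · rw [← Scheme.Hom.comp_apply, he']
    exact hw2
  · rw [← Scheme.Hom.comp_apply, he']
    exact hw1

theorem univSSubtrusive_iff_valLift {f : X ⟶ Y} : UnivSSubtrusive f ↔ ValLift f :=
  ⟨valLift_of_univSSubtrusive, univSSubtrusive_of_valLift⟩

theorem UnivSSubtrusive.isSSubtrusive {f : X ⟶ Y} (hf : UnivSSubtrusive f) : IsSSubtrusive f :=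
  hf (𝟙 X) (𝟙 Y) f (IsPullback.of_id_snd)

theorem ValLift.comp {Z : Scheme.{u}} {f : X ⟶ Y} {g : Y ⟶ Z} (hf : ValLift f)
    (hg : ValLift g) : ValLift (f ≫ g) := by
  intro V _ _ h
  obtain ⟨W, hd, hv, φ, ⟨hφ1, hφ2⟩, g', hg'⟩ := hg V h
  obtain ⟨W', hd', hv', φ', ⟨hφ'1, hφ'2⟩, g'', hg''⟩ := hf W g'
  refine ⟨W', hd', hv', φ ≫ φ', ⟨?_, ?_⟩, g'', ?_⟩
  · rw [CommRingCat.hom_comp]
    exact hφ'1.comp hφ1
  · rw [CommRingCat.hom_comp]
    exact RingHom.isLocalHom_comp _ _
  · rw [← Category.assoc, hg'', Category.assoc, hg', Spec.map_comp, Category.assoc]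

/-- if a composite has the valuative lifting property, so does its second factor -/
theorem ValLift.of_comp {Z : Scheme.{u}} {f : X ⟶ Y} {g : Y ⟶ Z} (h : ValLift (f ≫ g)) :
    ValLift g := by
  intro V _ _ k
  obtain ⟨W, hd, hv, φ, hφ, g', hg'⟩ := h V k
  exact ⟨W, hd, hv, φ, hφ, g' ≫ f, by rw [Category.assoc, hg']⟩

theorem valLift_of_isPullback {X' Y' : Scheme.{u}} {f : X ⟶ Y} {f' : X' ⟶ Y'} {i₁ : X' ⟶ X}
    {i₂ : Y' ⟶ Y} (hsq : IsPullback f' i₁ i₂ f) (hf : ValLift f) : ValLift f' := by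
  rw [← univSSubtrusive_iff_valLift] at hf ⊢
  exact (MorphismProperty.universally_isStableUnderBaseChange _).of_isPullback hsq.flip hf

/-- An extension of valuation rings is surjective on spectra. -/
theorem comap_surjective_of_isExtVal {V W : CommRingCat.{u}} [IsDomain V] [ValuationRing V]
    [IsDomain W] [ValuationRing W] (φ : V ⟶ W) (hφ : IsExtVal V W φ) :
    Function.Surjective (PrimeSpectrum.comap φ.hom) := by
  obtain ⟨hinj, hloc⟩ := hφ
  letI : Algebra V W := φ.hom.toAlgebra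
  haveI : Module.Flat V W := by
    rw [Module.Flat.flat_iff_torsion_eq_bot_of_isBezout, Submodule.eq_bot_iff]
    intro x hx
    rw [Submodule.mem_torsion_iff] at hx
    obtain ⟨⟨v, hv⟩, hvx⟩ := hx
    have hv0 : v ≠ 0 := nonZeroDivisors.ne_zero hv
    have : φ.hom v * x = 0 := by
      have : v • x = 0 := hvx
      rwa [Algebra.smul_def] at this
    rcases mul_eq_zero.mp this with h | h
    · exact absurd ((map_eq_zero_iff φ.hom hinj).mp h) hv0
    · exact h
  haveI : IsLocalHom (algebraMap V W) := hloc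
  haveI : Module.FaithfullyFlat V W := Module.FaithfullyFlat.of_flat_of_isLocalHom
  exact PrimeSpectrum.comap_surjective_of_faithfullyFlat (A := V) (B := W)

/-- **Chain lifting.**  A morphism with the valuative lifting property lifts finite chains of
specializations. -/
theorem exists_chain_lift {f : X ⟶ Y} (hf : ValLift f) (n : ℕ) (y : Fin (n + 1) → Y)
    (hy : ∀ i j : Fin (n + 1), i ≤ j → y i ⤳ y j) :
    ∃ x : Fin (n + 1) → X, (∀ i j : Fin (n + 1), i ≤ j → x i ⤳ x j) ∧ ∀ i, f (x i) = y i := by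
  obtain ⟨U, hU, hyU, -⟩ := TopologicalSpace.Opens.isBasis_iff_nbhd.mp Y.isBasis_affineOpens
    (show y (Fin.last n) ∈ (⊤ : Y.Opens) from trivial)
  have hmem : ∀ i, y i ∈ U := fun i => (hy i (Fin.last n) (Fin.le_last i)).mem_open U.2 hyU
  let A := Γ(Y, U)
  let p : Fin (n + 1) → PrimeSpectrum A := fun i => hU.primeIdealOf ⟨y i, hmem i⟩
  have hp : ∀ i, hU.fromSpec (p i) = y i := fun i => hU.fromSpec_primeIdealOf ⟨y i, hmem i⟩
  have hpmono : Monotone p := by
    intro i j hij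
    rw [PrimeSpectrum.le_iff_specializes]
    have hemb : Topology.IsEmbedding hU.fromSpec := hU.fromSpec.isOpenEmbedding.isEmbedding
    have h2 : hU.fromSpec (p i) ⤳ hU.fromSpec (p j) := by
      rw [hp, hp]
      exact hy i j hij
    exact hemb.specializes_iff.1 h2
  let L := (p 0).asIdeal.ResidueField
  let ψ : A →+* L := algebraMap A L
  have hker : RingHom.ker ψ = (p 0).asIdeal := Ideal.ker_algebraMap_residueField _
  obtain ⟨V, hV, q, hq, hqc⟩ := exists_valuationSubring_chain n ψ p hpmono hker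
  let φ₀ : A →+* V := ψ.codRestrict V.toSubring hV
  let g : Spec (.of V) ⟶ Y := Spec.map (CommRingCat.ofHom φ₀) ≫ hU.fromSpec
  have hd : IsDomain (CommRingCat.of V) := inferInstanceAs (IsDomain V)
  have hv : ValuationRing (CommRingCat.of V) := inferInstanceAs (ValuationRing V)
  obtain ⟨W, hdW, hvW, φ, hφ, g', hg'⟩ := hf (.of V) g
  obtain ⟨r, hr, hrc⟩ := ValChain.exists_chain_lift (V := V) (W := W) φ.hom
    (comap_surjective_of_isExtVal φ hφ) n q hq
  refine ⟨fun i => g' (r i), ?_, ?_⟩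
  · intro i j hij
    have : r i ⤳ r j := (PrimeSpectrum.le_iff_specializes _ _).1 (hr hij)
    exact this.map g'.continuous
  · intro i
    rw [← Scheme.Hom.comp_apply, hg']
    simp only [Scheme.Hom.comp_base, TopCat.coe_comp, Function.comp_apply, g]
    have h1 : Spec.map φ (r i) = q i := hrc i
    rw [h1]
    have h2 : Spec.map (CommRingCat.ofHom φ₀) (q i) = p i := hqc i
    rw [h2, hp]

end Groth.Agent.Lib.Helper1.Subtr1
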