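import Mathlib
import Groth.Agent.Lib.Helper1.Subtr1
import Groth.Agent.Lib.Helper2.ProConsLib

set_option autoImplicit false

namespace Groth.Agent.Lib.Helper1.Subtr2

open CategoryTheory CategoryTheory.Limits AlgebraicGeometry HTop Subtr IsLocalRing
open Groth.Agent.Lib.Helper1.ValLift Groth.Agent.Lib.Helper1.ValChain
open Groth.Agent.Lib.Helper1.Subtr1 Groth.Agent.H2.ProConsLib

universe u

variable {X Y : Scheme.{u}}

/-- flat surjective morphisms have the valuative lifting property -/
theorem valLift_of_flat_of_surjective (f : X ⟶ Y) [Flat f] (hs : Function.Surjective f) :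
    ValLift f := by
  intro V _ _ g
  obtain ⟨x, hx⟩ := hs (g (closedPoint V))
  exact exists_lift_of_flat g f x hx

/-- an injective ring map from a valuation ring to a domain is flat -/
theorem flat_of_injective_of_isDomain {V B : Type u} [CommRing V] [IsDomain V] [ValuationRing V]
    [CommRing B] [IsDomain B] (φ : V →+* B) (hinj : Function.Injective φ) : φ.Flat := by
  letI : Algebra V B := φ.toAlgebra
  change Module.Flat V B
  rw [Module.Flat.flat_iff_torsion_eq_bot_of_isBezout, Submodule.eq_bot_iff]
  intro x hx
  rw [Submodule.mem_torsion_iff] at hx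
  obtain ⟨⟨v, hv⟩, hvx⟩ := hx
  have hv0 : v ≠ 0 := nonZeroDivisors.ne_zero hv
  have : φ v * x = 0 := by
    have : v • x = 0 := hvx
    rwa [Algebra.smul_def] at this
  rcases mul_eq_zero.mp this with h | h
  · exact absurd ((map_eq_zero_iff φ hinj).mp h) hv0
  · exact h

/-- A dominant morphism from an integral scheme to the spectrum of a valuation ring is flat. -/
theorem flat_of_isIntegral {V : CommRingCat.{u}} [IsDomain V] [ValuationRing V] {Z : Scheme.{u}}
    [IsIntegral Z] (h : Z ⟶ Spec V) (hgen : (h (genericPoint Z)).asIdeal = ⊥) : Flat h := by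
  refine HasRingHomProperty.of_iSup_eq_top (P := @Flat)
    (ι := {U : Z.affineOpens // ((U : Z.Opens) : Set Z).Nonempty}) (fun U => U.1) ?_ ?_
  · rw [eq_top_iff]
    intro z _
    obtain ⟨U, hU, hzU, -⟩ := TopologicalSpace.Opens.isBasis_iff_nbhd.mp Z.isBasis_affineOpens
      (show z ∈ (⊤ : Z.Opens) from trivial)
    simp only [TopologicalSpace.Opens.mem_iSup]
    exact ⟨⟨⟨U, hU⟩, ⟨z, hzU⟩⟩, hzU⟩
  · rintro ⟨⟨U, hU⟩, hne⟩
    have hU' : IsAffineOpen U := hU
    have hneU : Nonempty U := hne.to_subtype
    have hdom : IsDomain Γ(Z, U) := inferInstance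
    let ψ : Γ(Spec V, ⊤) ⟶ Γ(Z, U) := h.appLE ⊤ U le_top
    let ψ' : V ⟶ Γ(Z, U) := (Scheme.ΓSpecIso V).inv ≫ ψ
    have key : Spec.map ψ' = hU'.fromSpec ≫ h := by
      have := IsAffineOpen.SpecMap_appLE_fromSpec h (isAffineOpen_top (Spec V)) hU' le_top
      rw [IsAffineOpen.fromSpec_top, Scheme.isoSpec_Spec_inv] at this
      rw [← this, Spec.map_comp]
    have hξ : genericPoint Z ∈ U := by
      have := ((genericPoint_spec Z).mem_open_set_iff U.2).2 (by
        obtain ⟨z, hz⟩ := hne
        exact ⟨z, trivial, hz⟩)
      exact this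
    let q : PrimeSpectrum Γ(Z, U) := hU'.primeIdealOf ⟨genericPoint Z, hξ⟩
    have hq : hU'.fromSpec q = genericPoint Z := hU'.fromSpec_primeIdealOf ⟨genericPoint Z, hξ⟩
    have hcomap : Ideal.comap ψ'.hom q.asIdeal = ⊥ := by
      have h1 : Spec.map ψ' q = h (genericPoint Z) := by
        rw [key, Scheme.Hom.comp_apply, hq]
      rw [← hgen, ← h1]
      rfl
    have hinj : Function.Injective ψ'.hom := by
      rw [RingHom.injective_iff_ker_eq_bot, eq_bot_iff, ← hcomap]
      intro a ha
      rw [RingHom.mem_ker] at ha
      rw [Ideal.mem_comap, ha]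
      exact Ideal.zero_mem _
    have hflat : ψ'.hom.Flat := flat_of_injective_of_isDomain ψ'.hom hinj
    exact (RingHom.Flat.respectsIso.cancel_left_isIso (Scheme.ΓSpecIso V).inv ψ).1 hflat

/-- the reduced induced closed subscheme structure is reduced -/
theorem isReduced_subscheme_vanishingIdeal (C : TopologicalSpace.Closeds X) :
    IsReduced (Scheme.IdealSheafData.vanishingIdeal C).subscheme := by
  let I := Scheme.IdealSheafData.vanishingIdeal C
  have : ∀ U, IsReduced (I.subschemeCover.openCover.X U) := fun U => by
    have hrad : (I.ideal U).IsRadical := by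
      rw [Scheme.IdealSheafData.vanishingIdeal_ideal]
      exact PrimeSpectrum.isRadical_vanishingIdeal _
    have := (Ideal.isRadical_iff_quotient_reduced _).mp hrad
    exact (affine_isReduced_iff (.of (Γ(X, (U : X.affineOpens).1) ⧸ I.ideal U))).mpr this
  exact IsReduced.of_openCover (X := I.subscheme) I.subschemeCover.openCover

/-- The reduced induced structure on the closure of a point: an integral closed subscheme whose
generic point maps to the point. -/
theorem exists_integral_closure (x' : X) :
    ∃ (Z : Scheme.{u}) (i : Z ⟶ X) (_ : IsClosedImmersion i) (_ : IsIntegral Z),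
      Set.range i = closure {x'} ∧ i (genericPoint Z) = x' := by
  let C : TopologicalSpace.Closeds X := ⟨closure {x'}, isClosed_closure⟩
  let I := Scheme.IdealSheafData.vanishingIdeal C
  let i : I.subscheme ⟶ X := I.subschemeι
  have hrange : Set.range i = closure {x'} := by
    rw [Scheme.IdealSheafData.range_subschemeι, Scheme.IdealSheafData.coe_support_vanishingIdeal]
    rfl
  have hred : IsReduced I.subscheme := isReduced_subscheme_vanishingIdeal C
  have hirr : IrreducibleSpace I.subscheme := by
    have e : I.subscheme ≃ₜ Set.range i := i.isEmbedding.toHomeomorph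
    rw [e.irreducibleSpace_iff, ← isIrreducible_iff_irreducibleSpace, hrange]
    exact isIrreducible_singleton.closure
  have hint : IsIntegral I.subscheme := isIntegral_of_irreducibleSpace_of_isReduced _
  refine ⟨I.subscheme, i, inferInstance, hint, hrange, ?_⟩
  have h1 : IsGenericPoint (i (genericPoint I.subscheme)) (closure (i '' Set.univ)) :=
    (genericPoint_spec I.subscheme).image i.continuous
  rw [Set.image_univ, hrange, closure_closure] at h1
  exact h1.eq isGenericPoint_closure

end Groth.Agent.Lib.Helper1.Subtr2
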