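import Mathlib
import Groth.Prelude.Def_EGA43
import Groth.Agent.Lib.Helper1.QSecA
import Groth.Agent.Lib.Helper1.Subtr2
import Groth.Agent.Lib.Helper1.CMQF

/-!
# Quasi-sections of equidimensional morphisms (EGA IV 14.5.x) (helper1)
-/

set_option autoImplicit false
set_option linter.style.haveILetI false
universe u

namespace Groth.Agent.H1.QSec

open AlgebraicGeometry CategoryTheory CategoryTheory.Limits TopologicalSpace Topology
open Groth.Agent.H1.DimFormula Groth.Agent.H1.UO14 Groth.Agent.H1.HypSec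

variable {X Y : Scheme.{u}}

/-- there is a quasi-section of `f` through `x`: an irreducible reduced subscheme through `x`
which is quasi-finite and dominant over the base. -/
def HasQuasiSection (f : X ⟶ Y) (x : X) : Prop :=
  ∃ (T : Scheme.{u}) (i : T ⟶ X), IsImmersion i ∧ IrreducibleSpace ↥T ∧ IsReduced T ∧
    x ∈ Set.range i.base ∧ LocallyOfFiniteType (i ≫ f) ∧ LocallyQuasiFinite (i ≫ f) ∧
    QuasiCompact (i ≫ f) ∧ IsDominant (i ≫ f)

theorem HasQuasiSection.comp {X₁ : Scheme.{u}} (j : X₁ ⟶ X) [IsImmersion j] (f : X ⟶ Y)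
    (x₁ : X₁) (h : HasQuasiSection (j ≫ f) x₁) : HasQuasiSection f (j.base x₁) := by
  obtain ⟨T, i, hi, hirr, hred, ⟨t, ht⟩, h1, h2, h3, h4⟩ := h
  haveI := hi
  refine ⟨T, i ≫ j, inferInstance, hirr, hred, ⟨t, ?_⟩, ?_, ?_, ?_, ?_⟩
  · rw [← ht]; exact Scheme.Hom.comp_apply i j t
  · rw [Category.assoc]; exact h1
  · rw [Category.assoc]; exact h2
  · rw [Category.assoc]; exact h3
  · rw [Category.assoc]; exact h4

/-- the local fibre dimension does not increase on a subspace. -/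
theorem fibreDimAt_comp_le {T : Scheme.{u}} (i : T ⟶ X) (hi : IsEmbedding i.base) (f : X ⟶ Y)
    (t : T) : FlatMor.fibreDimAt (i ≫ f) t ≤ FlatMor.fibreDimAt f (i.base t) := by
  rw [fibreDimAt_comp_of_isEmbedding i hi f t,
    fibreDimAt_eq_localDim_preimage f (i.base t) (f.base (i.base t)) rfl]
  exact localDim_mono_set (S := Set.range i.base ∩ f.base ⁻¹' {f.base (i.base t)})
    (S' := f.base ⁻¹' {f.base (i.base t)}) Set.inter_subset_right (i.base t) ⟨⟨t, rfl⟩, rfl⟩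

theorem hasQuasiSection_affine_zero [IrreducibleSpace Y] [IsLocallyNoetherian Y]
    {X₁ : Scheme.{u}} [IsAffine X₁] (f₁ : X₁ ⟶ Y) [LocallyOfFiniteType f₁] (x₁ : X₁)
    (hfd : ∀ x' : X₁, FlatMor.fibreDimAt f₁ x' = ((0 : ℕ) : WithBot ℕ∞))
    (hgen : ∀ ξ : X₁, (∀ z : X₁, z ⤳ ξ → z = ξ) →
      closure ({f₁.base ξ} : Set Y) ∈ irreducibleComponents (Y : Type u)) :
    HasQuasiSection f₁ x₁ := by
  haveI : IsLocallyNoetherian X₁ := LocallyOfFiniteType.isLocallyNoetherian f₁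
  haveI : IsNoetherian X₁ := { __ := LocallyOfFiniteType.isLocallyNoetherian f₁ }
  have hC := irreducibleComponent_mem_irreducibleComponents x₁
  obtain ⟨ξ, hξmax, hξC⟩ := Groth.Agent.H1.FibDimTot.exists_isMaxPt_closure_eq hC
  have hξx : ξ ⤳ x₁ := by
    rw [specializes_iff_mem_closure, hξC]; exact mem_irreducibleComponent
  obtain ⟨T, ι, hι, hint, hr, hgp⟩ := Groth.Agent.Lib.Helper1.Subtr2.exists_integral_closure ξ
  haveI := hι
  haveI := hint
  have hr' : Set.range ι.base = closure ({ξ} : Set X₁) := hr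
  have hgp' : ι.base (genericPoint T) = ξ := hgp
  have hemb : IsEmbedding ι.base := ι.isEmbedding
  haveI : NoetherianSpace ↥T := hemb.isInducing.noetherianSpace
  obtain ⟨t, ht⟩ : x₁ ∈ Set.range ι.base := by
    rw [hr']; exact specializes_iff_mem_closure.mp hξx
  refine ⟨T, ι, inferInstance, inferInstance, inferInstance, ⟨t, ht⟩, inferInstance, ?_,
    inferInstance, ?_⟩
  · rw [Groth.Agent.H1.QFDim.locallyQuasiFinite_iff_fibreDimAt]
    intro t'
    apply le_antisymm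
    · have h1 := fibreDimAt_comp_le ι hemb f₁ t'
      rw [hfd] at h1
      simpa using h1
    · exact Groth.Agent.H1.Chev.zero_le_fibreDimAt _ _
  · constructor
    have h1 := hgen ξ hξmax
    rw [irreducibleComponents_eq_singleton, Set.mem_singleton_iff] at h1
    rw [DenseRange, dense_iff_closure_eq, ← Set.univ_subset_iff, ← h1]
    apply closure_mono
    rw [Set.singleton_subset_iff]
    refine ⟨genericPoint T, ?_⟩
    rw [← hgp']
    exact Scheme.Hom.comp_apply ι f₁ (genericPoint T)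

theorem hasQuasiSection_affine_succ [IrreducibleSpace Y] [IsLocallyNoetherian Y] (e : ℕ)
    (IH : ∀ (X : Scheme.{u}) (f : X ⟶ Y) [LocallyOfFiniteType f] (x : X) (U : X.Opens), x ∈ U →
      (∀ x' ∈ U, FlatMor.fibreDimAt f x' = ((e : ℕ) : WithBot ℕ∞)) →
      (∀ ξ ∈ U, (∀ z : X, z ⤳ ξ → z = ξ) →
        closure ({f.base ξ} : Set Y) ∈ irreducibleComponents (Y : Type u)) →
      (∀ x' : X, f.base x' = f.base x → x ⤳ x' → x' = x) → HasQuasiSection f x)
    {X₁ : Scheme.{u}} [IsAffine X₁] (f₁ : X₁ ⟶ Y) [LocallyOfFiniteType f₁] (x₁ : X₁)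
    (hfd : ∀ x' : X₁, FlatMor.fibreDimAt f₁ x' = ((e + 1 : ℕ) : WithBot ℕ∞))
    (hgen : ∀ ξ : X₁, (∀ z : X₁, z ⤳ ξ → z = ξ) →
      closure ({f₁.base ξ} : Set Y) ∈ irreducibleComponents (Y : Type u))
    (hcl : ∀ x' : X₁, f₁.base x' = f₁.base x₁ → x₁ ⤳ x' → x' = x₁) :
    HasQuasiSection f₁ x₁ := by
  have hpos : FlatMor.fibreDimAt f₁ x₁ ≠ 0 := by
    rw [hfd]
    exact_mod_cast Nat.succ_ne_zero e
  obtain ⟨g, hgx, hgmax⟩ := exists_section_avoiding f₁ x₁ hpos hcl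
  obtain ⟨T₁, ι, hι, hr⟩ : ∃ (T₁ : Scheme.{u}) (ι : T₁ ⟶ X₁), IsClosedImmersion ι ∧
      Set.range ι.base = X₁.zeroLocus ({g} : Set Γ(X₁, ⊤)) :=
    ⟨_, (Scheme.IdealSheafData.vanishingIdeal ⟨X₁.zeroLocus ({g} : Set Γ(X₁, ⊤)),
      X₁.zeroLocus_isClosed _⟩).subschemeι, inferInstance,
      (Scheme.IdealSheafData.range_subschemeι _).trans
        (Scheme.IdealSheafData.coe_support_vanishingIdeal _)⟩
  haveI := hι
  obtain ⟨w, hw⟩ : ∃ w : T₁, ι.base w = x₁ := (Set.ext_iff.mp hr x₁).mpr hgx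
  obtain ⟨-, U', hwU', hfd', hgen'⟩ := hypSec f₁ x₁ (e + 1) ⊤ trivial (fun x' _ => hfd x')
    (fun ξ _ hξ => ⟨hgen ξ hξ, mem_closure_of_mem_irreducibleComponents _ (hgen ξ hξ) _⟩)
    g hgx hgmax ι hr w hw
  have hclw : ∀ t : T₁, (ι ≫ f₁).base t = (ι ≫ f₁).base w → w ⤳ t → t = w := by
    intro t h1 h2
    apply ι.isEmbedding.injective
    show ι.base t = ι.base w
    have h3 : ι.base w ⤳ ι.base t := h2.map ι.continuous
    rw [hw] at h3 ⊢
    apply hcl _ _ h3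
    have h4 : f₁.base (ι.base t) = f₁.base (ι.base w) := h1
    rw [h4, hw]
  have h := IH T₁ (ι ≫ f₁) w U' hwU' (fun t ht => by simpa using hfd' t ht)
    (fun ξ hξ hmax => (hgen' ξ hξ hmax).1.1) hclw
  have h5 := HasQuasiSection.comp ι f₁ w h
  rwa [hw] at h5

theorem hasQuasiSection_of_affine [IrreducibleSpace Y] [IsLocallyNoetherian Y] (e : ℕ)
    (haff : ∀ (X₁ : Scheme.{u}) [IsAffine X₁] (f₁ : X₁ ⟶ Y) [LocallyOfFiniteType f₁] (x₁ : X₁),
      (∀ x' : X₁, FlatMor.fibreDimAt f₁ x' = ((e : ℕ) : WithBot ℕ∞)) →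
      (∀ ξ : X₁, (∀ z : X₁, z ⤳ ξ → z = ξ) →
        closure ({f₁.base ξ} : Set Y) ∈ irreducibleComponents (Y : Type u)) →
      (∀ x' : X₁, f₁.base x' = f₁.base x₁ → x₁ ⤳ x' → x' = x₁) → HasQuasiSection f₁ x₁)
    (X : Scheme.{u}) (f : X ⟶ Y) [LocallyOfFiniteType f] (x : X) (U : X.Opens) (hxU : x ∈ U)
    (hfd : ∀ x' ∈ U, FlatMor.fibreDimAt f x' = ((e : ℕ) : WithBot ℕ∞))
    (hgen : ∀ ξ ∈ U, (∀ z : X, z ⤳ ξ → z = ξ) →
      closure ({f.base ξ} : Set Y) ∈ irreducibleComponents (Y : Type u))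
    (hcl : ∀ x' : X, f.base x' = f.base x → x ⤳ x' → x' = x) : HasQuasiSection f x := by
  obtain ⟨U₁, hU₁, hxU₁, hU₁U⟩ := Groth.Agent.H1.DVRCrit.exists_affine_nhd_le x U hxU
  haveI : IsAffine (U₁ : Scheme.{u}) := hU₁
  have h := haff U₁ (U₁.ι ≫ f) ⟨x, hxU₁⟩ ?_ ?_ ?_
  · exact HasQuasiSection.comp U₁.ι f ⟨x, hxU₁⟩ h
  · intro x'
    rw [Groth.Agent.H1.CMQF.fibreDimAt_comp_isOpenImmersion U₁.ι f x']
    exact hfd _ (hU₁U x'.2)
  · intro ξ hξ
    have hξX : ∀ z : X, z ⤳ U₁.ι.base ξ → z = U₁.ι.base ξ := by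
      intro z hz
      have hzU : z ∈ U₁ := hz.mem_open U₁.isOpen ξ.2
      have h1 : (⟨z, hzU⟩ : (U₁ : Scheme.{u})) ⤳ ξ :=
        U₁.ι.isEmbedding.isInducing.specializes_iff.mp hz
      rw [← hξ _ h1]
      rfl
    exact hgen _ (hU₁U ξ.2) hξX
  · intro x' h1 h2
    have h3 : x ⤳ x'.1 := h2.map U₁.ι.continuous
    have h4 := hcl x'.1 h1 h3
    exact Subtype.ext h4

theorem hasQuasiSection [IrreducibleSpace Y] [IsLocallyNoetherian Y] :
    ∀ (e : ℕ) (X : Scheme.{u}) (f : X ⟶ Y) [LocallyOfFiniteType f] (x : X) (U : X.Opens),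
      x ∈ U → (∀ x' ∈ U, FlatMor.fibreDimAt f x' = ((e : ℕ) : WithBot ℕ∞)) →
      (∀ ξ ∈ U, (∀ z : X, z ⤳ ξ → z = ξ) →
        closure ({f.base ξ} : Set Y) ∈ irreducibleComponents (Y : Type u)) →
      (∀ x' : X, f.base x' = f.base x → x ⤳ x' → x' = x) → HasQuasiSection f x := by
  intro e
  induction e with
  | zero =>
    intro X f _ x U hxU hfd hgen hcl
    exact hasQuasiSection_of_affine 0
      (fun X₁ _ f₁ _ x₁ h1 h2 _ => hasQuasiSection_affine_zero f₁ x₁ h1 h2) X f x U hxU hfd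
      hgen hcl
  | succ e IH =>
    intro X f _ x U hxU hfd hgen hcl
    exact hasQuasiSection_of_affine (e + 1)
      (fun X₁ _ f₁ _ x₁ h1 h2 h3 => hasQuasiSection_affine_succ e IH f₁ x₁ h1 h2 h3) X f x U
      hxU hfd hgen hcl

/-- **EGA IV 14.5.x**: existence of quasi-sections for an equidimensional morphism at a point
closed in its fibre. -/
theorem s4944 [IrreducibleSpace Y] [IsLocallyNoetherian Y] (f : X ⟶ Y)
    [LocallyOfFiniteType f] (x : X) (hf : EGA43.IsEquidimAt f x)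
    (hcl : ∀ x' : X, f.base x' = f.base x → x ⤳ x' → x' = x) : HasQuasiSection f x := by
  obtain ⟨e, U, hxU, hfd, hgen0⟩ := exists_generic_of_isEquidimAt f x hf
  exact hasQuasiSection e X f x U hxU hfd hgen0 hcl

end Groth.Agent.H1.QSec
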