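import Mathlib
import Groth.Prelude.Def_EGA43
import Groth.Prelude.Def_Dual3
import Groth.Agent.Lib.Helper1.QSecB
import Groth.Agent.Lib.Helper1.GenComp
import Groth.Agent.Lib.Helper1.DimIneqF
import Groth.Agent.Lib.Helper1.DimLocF
import Groth.Agent.Lib.Helper5.ImmD.A

/-!
# EGA IV 13.3.6–13.3.7 (dimension of the local ring of an irreducible closed subscheme versus
base and fibre) (helper1)
-/

set_option autoImplicit false
set_option linter.style.haveILetI false
universe u

namespace Groth.Agent.H1.DimSub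

open AlgebraicGeometry CategoryTheory CategoryTheory.Limits TopologicalSpace Topology
open Groth.Agent.H1.DimFormula Groth.Agent.H1.UO14 Groth.Agent.H1.DimLoc Groth.Agent.H1.DimIneq

variable {X Y : Scheme.{u}}

theorem irreducibleSpace_of_isEmbedding {T W : Type*} [TopologicalSpace T] [TopologicalSpace W]
    (i : T → W) (hi : Topology.IsEmbedding i) (h : IsIrreducible (Set.range i)) :
    IrreducibleSpace T := by
  haveI : IrreducibleSpace (Set.range i) := Subtype.irreducibleSpace h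
  exact (hi.toHomeomorph.irreducibleSpace_iff).mpr inferInstance

theorem exists_nat_of_add_le {c : WithBot ℕ∞} {t d : ℕ} (h0 : 0 ≤ c)
    (h : c + (t : WithBot ℕ∞) ≤ d) : ∃ n : ℕ, c = n := by
  induction c using WithBot.recBotCoe with
  | bot => exact absurd h0 (by simp)
  | coe l =>
    induction l using ENat.recTopCoe with
    | top =>
      exfalso
      have h4 : ((⊤ : ℕ∞) : WithBot ℕ∞) + (t : WithBot ℕ∞) = ((⊤ : ℕ∞) : WithBot ℕ∞) := by
        rw [show (t : WithBot ℕ∞) = ((t : ℕ∞) : WithBot ℕ∞) from rfl, ← WithBot.coe_add, top_add]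
      rw [h4] at h
      have h5 : (⊤ : ℕ∞) ≤ (d : ℕ∞) := by exact_mod_cast h
      exact absurd h5 (by simp)
    | coe m => exact ⟨m, rfl⟩

theorem exists_nat_of_le {c : WithBot ℕ∞} {d : ℕ} (h0 : 0 ≤ c)
    (h : c ≤ d) : ∃ n : ℕ, c = n :=
  exists_nat_of_add_le (t := 0) (d := d) h0 (by rw [Nat.cast_zero, add_zero]; exact h)

theorem exists_nat_of_ne_top {c : WithBot ℕ∞} (h0 : 0 ≤ c) (h : c ≠ ⊤) : ∃ n : ℕ, c = n := by
  induction c using WithBot.recBotCoe with
  | bot => exact absurd h0 (by simp)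
  | coe l =>
    induction l using ENat.recTopCoe with
    | top => exact absurd rfl h
    | coe m => exact ⟨m, rfl⟩

theorem arith {a a' b' c c' : WithBot ℕ∞} {t e0 na d : ℕ}
    (ha : a = na) (hcd : c + (t : WithBot ℕ∞) = d) (hc0 : 0 ≤ c) (ha'0 : 0 ≤ a')
    (hb'0 : 0 ≤ b') (hc'0 : 0 ≤ c')
    (F1 : b' + (t : WithBot ℕ∞) ≤ a' + (e0 : WithBot ℕ∞))
    (F2 : (e0 : WithBot ℕ∞) ≤ c' + (t : WithBot ℕ∞)) (F3 : a' ≤ a)
    (F4 : c' + (t : WithBot ℕ∞) ≤ c + (t : WithBot ℕ∞))
    (H : b' = a + c) : a' = a ∧ c' = c ∧ c' + (t : WithBot ℕ∞) = e0 ∧ b' = a' + c' := by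
  subst ha
  obtain ⟨nc, rfl⟩ := exists_nat_of_add_le hc0 hcd.le
  obtain ⟨na', rfl⟩ := exists_nat_of_le ha'0 F3
  obtain ⟨nc', rfl⟩ := exists_nat_of_add_le hc'0 (F4.trans hcd.le)
  obtain ⟨nb', rfl⟩ := exists_nat_of_le (d := na + nc) hb'0
    (by rw [H]; exact_mod_cast le_refl (na + nc))
  have F1' : nb' + t ≤ na' + e0 := by exact_mod_cast F1
  have F2' : e0 ≤ nc' + t := by exact_mod_cast F2
  have F3' : na' ≤ na := by exact_mod_cast F3
  have F4' : nc' + t ≤ nc + t := by exact_mod_cast F4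
  have H' : nb' = na + nc := by exact_mod_cast H
  have h1 : na' = na := by omega
  have h2 : nc' = nc := by omega
  have h3 : nc' + t = e0 := by omega
  have h4 : nb' = na' + nc' := by omega
  exact ⟨by exact_mod_cast h1, by exact_mod_cast h2, by exact_mod_cast h3, by exact_mod_cast h4⟩

/-- residue field extensions of closed immersions are algebraic (in fact trivial). -/
theorem resTrdeg_eq_zero_of_isClosedImmersion {A B : Scheme.{u}} (k : A ⟶ B)
    [IsClosedImmersion k] (z : A) : Dual3.resTrdeg k z = 0 := by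
  have h3 : FlatMor.fibreDimAt k z = 0 :=
    (Groth.Agent.H1.QFDim.locallyQuasiFinite_iff_fibreDimAt k).mp inferInstance z
  have h4 : Dual3.resTrdeg k z ≤ ((0 : ℕ) : Cardinal.{u}) :=
    Groth.Agent.H1.EquidimQF.resTrdeg_le k 0 z (by rw [h3, Nat.cast_zero])
  simpa using h4

theorem stalk_dim_le_of_isClosedImmersion {S W : Scheme.{u}} (j : S ⟶ W) [IsClosedImmersion j]
    (v : S) (y : W) (hy : j.base v = y) :
    ringKrullDim (S.presheaf.stalk v) ≤ ringKrullDim (W.presheaf.stalk y) := by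
  subst hy
  exact ringKrullDim_le_of_surjective (j.stalkMap v).hom (j.stalkMap_surjective v)

/-- a morphism from the reduced induced subscheme on `X'` factors through the reduced induced
subscheme on the closure of the image. -/
theorem exists_lift_reduced (f : X ⟶ Y) (X' : Closeds X) :
    ∃ g' : (Scheme.IdealSheafData.vanishingIdeal X').subscheme ⟶
        (Scheme.IdealSheafData.vanishingIdeal
          (⟨closure (f.base '' (X' : Set X)), isClosed_closure⟩ : Closeds Y)).subscheme,
      g' ≫ (Scheme.IdealSheafData.vanishingIdeal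
          (⟨closure (f.base '' (X' : Set X)), isClosed_closure⟩ : Closeds Y)).subschemeι =
        (Scheme.IdealSheafData.vanishingIdeal X').subschemeι ≫ f := by
  haveI : IsReduced (Scheme.IdealSheafData.vanishingIdeal X').subscheme :=
    Groth.Agent.Lib.Helper1.Subtr2.isReduced_subscheme_vanishingIdeal X'
  have hr : Set.range (Scheme.IdealSheafData.vanishingIdeal X').subschemeι.base = (X' : Set X) :=
    (Scheme.IdealSheafData.range_subschemeι _).trans
      (Scheme.IdealSheafData.coe_support_vanishingIdeal _)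
  have hr2 : Set.range ((Scheme.IdealSheafData.vanishingIdeal X').subschemeι ≫ f).base =
      f.base '' (X' : Set X) := by
    rw [← hr]
    ext y
    constructor
    · rintro ⟨z, rfl⟩
      exact ⟨_, ⟨z, rfl⟩, (Scheme.Hom.comp_apply _ f z).symm⟩
    · rintro ⟨_, ⟨z, rfl⟩, rfl⟩
      exact ⟨z, Scheme.Hom.comp_apply _ f z⟩
  have hYc : (⟨closure (f.base '' (X' : Set X)), isClosed_closure⟩ : Closeds Y) =
      ⟨closure (Set.range ((Scheme.IdealSheafData.vanishingIdeal X').subschemeι ≫ f).base),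
        isClosed_closure⟩ :=
    Closeds.ext (by show closure _ = closure _; rw [hr2])
  have hle : (Scheme.IdealSheafData.vanishingIdeal
      (⟨closure (f.base '' (X' : Set X)), isClosed_closure⟩ : Closeds Y)).subschemeι.ker ≤
      ((Scheme.IdealSheafData.vanishingIdeal X').subschemeι ≫ f).ker := by
    rw [Scheme.IdealSheafData.ker_subschemeι, hYc]
    exact Groth.Agent.H5.ImmD.vanishingIdeal_closure_range_le_ker _
  exact ⟨IsClosedImmersion.lift _ _ hle, IsClosedImmersion.lift_fac _ _ hle⟩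

/-- all the dimension data for an integral closed subscheme `T` of `X` over a closed subscheme
`S` of `Y`. -/
theorem data [IsLocallyNoetherian Y] (f : X ⟶ Y) [LocallyOfFiniteType f]
    {T S : Scheme.{u}} (i : T ⟶ X) [IsClosedImmersion i] (j : S ⟶ Y) [IsClosedImmersion j]
    (g' : T ⟶ S) (hg' : g' ≫ j = i ≫ f) [IrreducibleSpace T] (w : T) (v : S)
    (hv : j.base v = f.base (i.base w)) (Z : Set X) (hZ : Set.range i.base = Z)
    (η' : Y) (hη' : closure ({η'} : Set Y) = closure (f.base '' Z)) :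
    ∃ t e0 na d : ℕ,
      ringKrullDim (Y.presheaf.stalk (f.base (i.base w))) = na ∧
      ringKrullDim ((f.fiber (f.base (i.base w))).presheaf.stalk (f.asFiber (i.base w))) +
        (t : WithBot ℕ∞) = d ∧
      FlatMor.fibreDimAt f (i.base w) = d ∧
      FlatMor.fibreDimAt (i ≫ f) w =
        ringKrullDim (((i ≫ f).fiber ((i ≫ f).base w)).presheaf.stalk ((i ≫ f).asFiber w)) +
          (t : WithBot ℕ∞) ∧
      topologicalKrullDim ↥(Z ∩ f.base ⁻¹' {η'}) = e0 ∧
      ringKrullDim (T.presheaf.stalk w) + (t : WithBot ℕ∞) ≤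
        ringKrullDim (S.presheaf.stalk v) + (e0 : WithBot ℕ∞) ∧
      (e0 : WithBot ℕ∞) ≤ FlatMor.fibreDimAt (i ≫ f) w ∧
      ringKrullDim (S.presheaf.stalk v) ≤ ringKrullDim (Y.presheaf.stalk (f.base (i.base w))) ∧
      FlatMor.fibreDimAt (i ≫ f) w ≤ FlatMor.fibreDimAt f (i.base w) := by
  haveI : IsLocallyNoetherian X := LocallyOfFiniteType.isLocallyNoetherian f
  haveI : IsLocallyNoetherian S := LocallyOfFiniteType.isLocallyNoetherian j
  haveI : LocallyOfFiniteType (g' ≫ j) := by rw [hg']; infer_instance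
  haveI : LocallyOfFiniteType g' := locallyOfFiniteType_of_comp g' j
  have hemb : IsEmbedding i.base := i.isEmbedding
  have hembj : IsEmbedding j.base := j.isEmbedding
  subst hZ
  have hca : ∀ z : T, (i ≫ f).base z = f.base (i.base z) := fun z => Scheme.Hom.comp_apply i f z
  -- `g' w = v`
  have hgw : g'.base w = v := by
    apply hembj.injective
    have h1 : j.base (g'.base w) = (g' ≫ j).base w := (Scheme.Hom.comp_apply g' j w).symm
    rw [h1, hv, ← hca w, hg']
  -- residue transcendence degrees of `g'` and `i ≫ f` agree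
  have hres : ∀ z : T, Dual3.resTrdeg g' z = Dual3.resTrdeg (i ≫ f) z := by
    intro z
    have h2 : Dual3.resTrdeg j (g'.base z) + Dual3.resTrdeg g' z = Dual3.resTrdeg (g' ≫ j) z :=
      Groth.Agent.H1.EquidimQF.resTrdeg_comp g' j z
    rw [resTrdeg_eq_zero_of_isClosedImmersion j, zero_add] at h2
    rw [h2, hg']
  -- the generic point
  obtain ⟨ξ', hξc, hξs⟩ : ∃ ξ' : T, closure ({ξ'} : Set T) = Set.univ ∧ ∀ z : T, ξ' ⤳ z :=
    ⟨genericPoint T, genericPoint_closure T, genericPoint_specializes⟩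
  have hmaxξ : ∀ z : T, z ⤳ ξ' → z = ξ' := fun z hz => (hz.antisymm (hξs z)).eq
  obtain ⟨e0, he0, hfde0⟩ := fibreDimAt_eq_trdeg_of_generic (i ≫ f) ξ' (fun z _ hz => hmaxξ z hz)
  have he0' : Dual3.resTrdeg (i ≫ f) ξ' = e0 := he0
  have hr2 : Set.range (i ≫ f).base = f.base '' Set.range i.base := by
    ext y
    constructor
    · rintro ⟨z, rfl⟩
      exact ⟨_, ⟨z, rfl⟩, (hca z).symm⟩
    · rintro ⟨_, ⟨z, rfl⟩, rfl⟩
      exact ⟨z, hca z⟩
  have hηξ : (i ≫ f).base ξ' = η' := by
    have h1 : closure ({(i ≫ f).base ξ'} : Set Y) = closure (f.base '' Set.range i.base) := by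
      have h2 : closure ((i ≫ f).base '' closure ({ξ'} : Set T)) =
          closure ((i ≫ f).base '' {ξ'}) := closure_image_closure (i ≫ f).continuous
      rw [Set.image_singleton, hξc, Set.image_univ, hr2] at h2
      exact h2.symm
    exact IsGenericPoint.eq (isGenericPoint_def.mpr (h1.trans hη'.symm)) (isGenericPoint_def.mpr rfl)
  have hdim : topologicalKrullDim ↥(Set.range i.base ∩ f.base ⁻¹' {η'}) = (e0 : WithBot ℕ∞) := by
    have h1 := Groth.Agent.H1.GenComp.dim_closure_inter_fibre (i ≫ f) ξ' hmaxξ η' hηξ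
    have h2 := Groth.Agent.H1.RelDim.dim_preimage_eq_of_isEmbedding hemb (f.base ⁻¹' {η'})
    have h3 : (closure ({ξ'} : Set T) ∩ (i ≫ f).base ⁻¹' {η'}) =
        i.base ⁻¹' (f.base ⁻¹' {η'}) := by
      rw [hξc, Set.univ_inter]
      ext z
      show (i ≫ f).base z = η' ↔ f.base (i.base z) = η'
      rw [hca]
    have e1 : topologicalKrullDim ↥(closure ({ξ'} : Set T) ∩ (i ≫ f).base ⁻¹' {η'}) =
        topologicalKrullDim ↥(i.base ⁻¹' (f.base ⁻¹' {η'})) :=
      congrArg (fun A : Set T => topologicalKrullDim ↥A) h3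
    have e2 : topologicalKrullDim ↥(Set.range i.base ∩ f.base ⁻¹' {η'}) =
        topologicalKrullDim ↥(f.base ⁻¹' {η'} ∩ Set.range i.base) :=
      congrArg (fun A : Set X => topologicalKrullDim ↥A) (Set.inter_comm _ _)
    exact e2.trans (h2.symm.trans (e1.symm.trans (h1.trans hfde0)))
  -- the local data at `w`
  obtain ⟨t, ht, hfd⟩ := exists_fibreDimAt_eq_stalk_add_trdeg (i ≫ f) w
  obtain ⟨t2, ht2, hfd2⟩ := exists_fibreDimAt_eq_stalk_add_trdeg f (i.base w)
  have ht' : Dual3.resTrdeg (i ≫ f) w = t := ht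
  have htt : t2 = t := by
    have h2 : Dual3.resTrdeg f (i.base w) = t2 := ht2
    have h3 : Dual3.resTrdeg f (i.base w) + Dual3.resTrdeg i w = Dual3.resTrdeg (i ≫ f) w :=
      Groth.Agent.H1.EquidimQF.resTrdeg_comp i f w
    rw [resTrdeg_eq_zero_of_isClosedImmersion i, add_zero, ht', h2] at h3
    exact_mod_cast h3
  subst htt
  obtain ⟨d, hd⟩ := Groth.Agent.H1.CMQF.exists_nat_fibreDimAt f (i.base w)
  obtain ⟨na, hna⟩ := exists_nat_of_ne_top
    (ringKrullDim_nonneg_of_nontrivial (R := Y.presheaf.stalk (f.base (i.base w))))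
    ringKrullDim_ne_top
  -- the key inequality
  have hkey : ringKrullDim (T.presheaf.stalk w) + (t2 : WithBot ℕ∞) ≤
      ringKrullDim (S.presheaf.stalk v) + (e0 : WithBot ℕ∞) := by
    have hmain := stalk_dim_add_resTrdeg_le g' w (e0 : Cardinal.{u}) (by
      intro ξ _ hdim0
      have h1 : ξ' = ξ := eq_of_specializes_of_stalk_dim_eq_zero ξ ξ' hdim0 (hξs ξ)
      rw [← h1, hres, he0'])
    have h1 : Cardinal.toENat (Dual3.resTrdeg g' w) = t2 := by
      rw [hres, ht']; simp
    have h2 : Cardinal.toENat ((e0 : ℕ) : Cardinal.{u}) = e0 := by simp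
    rw [h1, h2] at hmain
    have hgw' : (g' w : S) = v := hgw
    rw [hgw'] at hmain
    exact_mod_cast hmain
  refine ⟨t2, e0, na, d, hna, ?_, hd, hfd, hdim, hkey, ?_,
    stalk_dim_le_of_isClosedImmersion j v _ hv,
    Groth.Agent.H1.QSec.fibreDimAt_comp_le i hemb f w⟩
  · rw [← hd, hfd2]
  · rw [← hfde0]
    exact Groth.Agent.H1.EquidimLoc.fibreDimAt_le_of_specializes (i ≫ f) (hξs w)

end Groth.Agent.H1.DimSub
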