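import Mathlib
import Groth.Prelude.Def_EGA43
import Groth.Agent.Lib.Helper1.DimSubA
import Groth.Agent.Lib.Helper1.HypSecC
import Groth.Agent.Lib.Helper1.FibGen
import Groth.Agent.Lib.Helper1.Chev2

/-!
# Condition (T): points lying on an irreducible component equidimensional over the base
(helper1)
-/

set_option autoImplicit false
set_option linter.style.haveILetI false
universe u

namespace Groth.Agent.H1.CondT

open AlgebraicGeometry CategoryTheory CategoryTheory.Limits TopologicalSpace Topology

variable {X S : Scheme.{u}}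

/-- for an irreducible source, equidimensionality at `w` follows from the generic point mapping to
a generic point and the fibre dimension at `w` not exceeding the generic one. -/
theorem isEquidimAt_of_irreducible {T : Scheme.{u}} [IrreducibleSpace T] (g : T ⟶ S)
    [LocallyOfFiniteType g] (w : T) (e : ℕ)
    (h1 : closure ({g.base (genericPoint T)} : Set S) ∈ irreducibleComponents (S : Type u))
    (h2 : FlatMor.fibreDimAt g (genericPoint T) = e)
    (h3 : FlatMor.fibreDimAt g w ≤ e) : EGA43.IsEquidimAt g w := by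
  have hop : IsOpen {t : T | FlatMor.fibreDimAt g t ≤ (e : WithBot ℕ∞)} :=
    Groth.Agent.H1.Chev.isOpen_fibreDimAt_le g e
  refine Groth.Agent.H1.EquidimLoc.isEquidimAt_of_generic g w ⟨_, hop⟩ h3 e ?_ ?_
  · intro t ht
    have ht' : FlatMor.fibreDimAt g t ≤ (e : WithBot ℕ∞) := ht
    refine le_antisymm ht' ?_
    rw [← h2]
    exact Groth.Agent.H1.EquidimLoc.fibreDimAt_le_of_specializes g (genericPoint_specializes t)
  · intro ξ _ hξ
    have hξe : genericPoint T = ξ := hξ _ (genericPoint_specializes ξ)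
    subst hξe
    refine ⟨h1, ?_⟩
    have h4 := (genericPoint_specializes w).map g.continuous
    exact specializes_iff_mem_closure.mp h4

/-- for a closed immersion `ι`, the fibre dimension of `ι ≫ f` at a point whose image is a
maximal point of its fibre in `X` agrees with that of `f`. -/
theorem fibreDimAt_comp_eq_of_fibreMax {T : Scheme.{u}} (ι : T ⟶ X) [IsClosedImmersion ι]
    (f : X ⟶ S) [LocallyOfFiniteType f] (t : T)
    (hmax : ∀ z : X, f.base z = f.base (ι.base t) → z ⤳ ι.base t → z = ι.base t) :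
    FlatMor.fibreDimAt (ι ≫ f) t = FlatMor.fibreDimAt f (ι.base t) := by
  have hemb : IsEmbedding ι.base := ι.isEmbedding
  have hca : ∀ z : T, (ι ≫ f).base z = f.base (ι.base z) := fun z => Scheme.Hom.comp_apply ι f z
  have hmaxT : ∀ t' : T, (ι ≫ f) t' = (ι ≫ f) t → t' ⤳ t → t' = t := by
    intro t' h1 h2
    apply hemb.injective
    apply hmax
    · have h1' : (ι ≫ f).base t' = (ι ≫ f).base t := h1
      rw [hca, hca] at h1'
      exact h1'
    · exact h2.map ι.continuous
  obtain ⟨tx, htx, hdx⟩ := Groth.Agent.H1.HypSec.fibreDimAt_comp_eq_resTrdeg ι f t hmaxT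
  obtain ⟨t0, ht0, hd0⟩ := Groth.Agent.H1.DimFormula.fibreDimAt_eq_trdeg_of_generic f (ι.base t)
    (fun z hz1 hz2 => hmax z hz1 hz2)
  have ht0' : Dual3.resTrdeg f (ι.base t) = t0 := ht0
  have htt : tx = t0 := by
    have h : ((tx : ℕ) : Cardinal.{u}) = t0 := htx.symm.trans ht0'
    exact_mod_cast h
  rw [hdx, hd0, htt]

theorem closure_map_genericPoint {T : Scheme.{u}} (ι : T ⟶ X) [IrreducibleSpace T]
    (hcl : IsClosed (Set.range ι.base)) :
    closure ({ι.base (genericPoint T)} : Set X) = Set.range ι.base := by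
  have h2 : closure (ι.base '' closure ({genericPoint T} : Set T)) =
      closure (ι.base '' {genericPoint T}) := closure_image_closure ι.continuous
  rw [Set.image_singleton, genericPoint_closure, Set.image_univ, hcl.closure_eq] at h2
  exact h2.symm

theorem condT_aux {T : Scheme.{u}} (ι : T ⟶ X) [IsClosedImmersion ι] (f : X ⟶ S)
    [LocallyOfFiniteType f] (x : X) (W : Set X) (hW : W ∈ irreducibleComponents (X : Type u))
    (hr : Set.range ι.base = W) (hxW : x ∈ W) (e : ℕ)
    (h1 : ∀ ξ : X, closure ({ξ} : Set X) = W →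
      closure ({f.base ξ} : Set S) ∈ irreducibleComponents (S : Type u) ∧
        FlatMor.fibreDimAt f ξ = e)
    (h3 : FlatMor.fibreDimAt f x ≤ e) :
    ∃ w : T, ι.base w = x ∧ EGA43.IsEquidimAt (ι ≫ f) w := by
  subst hr
  obtain ⟨w, rfl⟩ := hxW
  haveI : IrreducibleSpace T :=
    Groth.Agent.H1.DimSub.irreducibleSpace_of_isEmbedding _ ι.isEmbedding hW.1
  have hcl : IsClosed (Set.range ι.base) := isClosed_of_mem_irreducibleComponents _ hW
  have hξ := closure_map_genericPoint ι hcl
  obtain ⟨hc, hd⟩ := h1 _ hξ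
  have hξmax : ∀ z : X, z ⤳ ι.base (genericPoint T) → z = ι.base (genericPoint T) :=
    fun z hz => Groth.Agent.H1.EquidimLoc.eq_of_specializes_of_closure_mem_irreducibleComponents _
      (by rw [hξ]; exact hW) z hz
  have hca : ∀ z : T, (ι ≫ f).base z = f.base (ι.base z) := fun z => Scheme.Hom.comp_apply ι f z
  refine ⟨w, rfl, isEquidimAt_of_irreducible (ι ≫ f) w e ?_ ?_ ?_⟩
  · rw [hca]; exact hc
  · rw [fibreDimAt_comp_eq_of_fibreMax ι f (genericPoint T) (fun z _ hz => hξmax z hz)]
    exact hd
  · exact (Groth.Agent.H1.QSec.fibreDimAt_comp_le ι ι.isEmbedding f w).trans h3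

theorem s14076 (f : X ⟶ S) [LocallyOfFiniteType f]
    (h : ∀ x : X, EGA43.IsEquidimAt f x) (x : X) :
    ∃ W : TopologicalSpace.Closeds X, (W : Set X) ∈ irreducibleComponents (X : Type u) ∧
      ∃ w : ↥((Scheme.IdealSheafData.vanishingIdeal W).subscheme),
        (Scheme.IdealSheafData.vanishingIdeal W).subschemeι.base w = x ∧
        EGA43.IsEquidimAt ((Scheme.IdealSheafData.vanishingIdeal W).subschemeι ≫ f) w := by
  obtain ⟨e, U, hxU, hfd, hgen⟩ := Groth.Agent.H1.HypSec.exists_generic_of_isEquidimAt f x (h x)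
  have hW := irreducibleComponent_mem_irreducibleComponents x
  refine ⟨⟨irreducibleComponent x, isClosed_irreducibleComponent⟩, hW, ?_⟩
  have hr : Set.range (Scheme.IdealSheafData.vanishingIdeal
      (⟨irreducibleComponent x, isClosed_irreducibleComponent⟩ :
        TopologicalSpace.Closeds X)).subschemeι.base = irreducibleComponent x :=
    (Scheme.IdealSheafData.range_subschemeι _).trans
      (Scheme.IdealSheafData.coe_support_vanishingIdeal _)
  refine condT_aux _ f x (irreducibleComponent x) hW hr mem_irreducibleComponent e ?_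
    (hfd x hxU).le
  intro ξ hξ
  have hξx : ξ ⤳ x := by
    rw [specializes_iff_mem_closure, hξ]; exact mem_irreducibleComponent
  have hξU : ξ ∈ U := hξx.mem_open U.isOpen hxU
  have hξmax : ∀ z : X, z ⤳ ξ → z = ξ := fun z hz =>
    Groth.Agent.H1.EquidimLoc.eq_of_specializes_of_closure_mem_irreducibleComponents _
      (by rw [hξ]; exact hW) z hz
  exact ⟨hgen ξ hξU hξmax, hfd ξ hξU⟩

theorem s14079 (f : X ⟶ S) [LocallyOfFiniteType f]
    (h : ∀ x : X, (∀ x' : X, f.base x' = f.base x → x ∈ closure ({x'} : Set X) → x' = x) →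
      ∃ W : TopologicalSpace.Closeds X, (W : Set X) ∈ irreducibleComponents (X : Type u) ∧
      ∃ w : ↥((Scheme.IdealSheafData.vanishingIdeal W).subscheme),
        (Scheme.IdealSheafData.vanishingIdeal W).subschemeι.base w = x ∧
        EGA43.IsEquidimAt ((Scheme.IdealSheafData.vanishingIdeal W).subschemeι ≫ f) w)
    (x : X) :
    ∃ W : TopologicalSpace.Closeds X, (W : Set X) ∈ irreducibleComponents (X : Type u) ∧
      ∃ w : ↥((Scheme.IdealSheafData.vanishingIdeal W).subscheme),
        (Scheme.IdealSheafData.vanishingIdeal W).subschemeι.base w = x ∧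
        EGA43.IsEquidimAt ((Scheme.IdealSheafData.vanishingIdeal W).subschemeι ≫ f) w := by
  obtain ⟨z, hfz, hzx, hmaxz, hdz⟩ := Groth.Agent.H1.FibGen.exists_fibre_generic_fibreDimAt_eq f x
  obtain ⟨W, hW, wz, hwz, heq⟩ := h z (fun x' h1 h2 =>
    hmaxz x' (h1.trans hfz) (specializes_iff_mem_closure.mpr h2))
  refine ⟨W, hW, ?_⟩
  have hr : Set.range (Scheme.IdealSheafData.vanishingIdeal W).subschemeι.base = (W : Set X) :=
    (Scheme.IdealSheafData.range_subschemeι _).trans
      (Scheme.IdealSheafData.coe_support_vanishingIdeal _)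
  have hzW : z ∈ (W : Set X) := by rw [← hr]; exact ⟨wz, hwz⟩
  have hxW : x ∈ (W : Set X) :=
    (W.isClosed.closure_subset_iff.mpr (Set.singleton_subset_iff.mpr hzW))
      (specializes_iff_mem_closure.mp hzx)
  obtain ⟨e', U', hwU', hfd', hgen'⟩ := Groth.Agent.H1.HypSec.exists_generic_of_isEquidimAt
    ((Scheme.IdealSheafData.vanishingIdeal W).subschemeι ≫ f) wz heq
  haveI : IrreducibleSpace ↥(Scheme.IdealSheafData.vanishingIdeal W).subscheme :=
    Groth.Agent.H1.DimSub.irreducibleSpace_of_isEmbedding _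
      (Scheme.IdealSheafData.vanishingIdeal W).subschemeι.isEmbedding (by rw [hr]; exact hW.1)
  have hcl : IsClosed (Set.range (Scheme.IdealSheafData.vanishingIdeal W).subschemeι.base) := by
    rw [hr]; exact W.isClosed
  have hca : ∀ t : ↥(Scheme.IdealSheafData.vanishingIdeal W).subscheme,
      ((Scheme.IdealSheafData.vanishingIdeal W).subschemeι ≫ f).base t =
        f.base ((Scheme.IdealSheafData.vanishingIdeal W).subschemeι.base t) :=
    fun t => Scheme.Hom.comp_apply _ f t
  have hξTU : genericPoint ↥(Scheme.IdealSheafData.vanishingIdeal W).subscheme ∈ U' :=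
    (genericPoint_specializes wz).mem_open U'.isOpen hwU'
  have hξTmax : ∀ t : ↥(Scheme.IdealSheafData.vanishingIdeal W).subscheme,
      t ⤳ genericPoint ↥(Scheme.IdealSheafData.vanishingIdeal W).subscheme →
        t = genericPoint ↥(Scheme.IdealSheafData.vanishingIdeal W).subscheme :=
    fun t ht => (ht.antisymm (genericPoint_specializes t)).eq
  refine condT_aux _ f x (W : Set X) hW hr hxW e' ?_ ?_
  · intro ξ hξ
    have hξeq : (Scheme.IdealSheafData.vanishingIdeal W).subschemeι.base
        (genericPoint ↥(Scheme.IdealSheafData.vanishingIdeal W).subscheme) = ξ :=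
      IsGenericPoint.eq (isGenericPoint_def.mpr
        ((closure_map_genericPoint _ hcl).trans hr)) (isGenericPoint_def.mpr hξ)
    have hξmax : ∀ z' : X, z' ⤳ ξ → z' = ξ := fun z' hz' =>
      Groth.Agent.H1.EquidimLoc.eq_of_specializes_of_closure_mem_irreducibleComponents _
        (by rw [hξ]; exact hW) z' hz'
    have hg1 := hgen' _ hξTU hξTmax
    rw [hca, hξeq] at hg1
    refine ⟨hg1, ?_⟩
    have h5 := fibreDimAt_comp_eq_of_fibreMax (Scheme.IdealSheafData.vanishingIdeal W).subschemeι f
      (genericPoint ↥(Scheme.IdealSheafData.vanishingIdeal W).subscheme)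
      (by rw [hξeq]; exact fun z' _ hz' => hξmax z' hz')
    rw [hξeq] at h5
    rw [← h5]
    exact hfd' _ hξTU
  · have h5 := fibreDimAt_comp_eq_of_fibreMax (Scheme.IdealSheafData.vanishingIdeal W).subschemeι f
      wz (by rw [hwz]; exact fun z' h1 h2 => hmaxz z' (h1.trans hfz) h2)
    rw [hwz] at h5
    rw [← hdz, ← h5, hfd' wz hwU']

end Groth.Agent.H1.CondT
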