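import Mathlib
import Groth.Prelude.Def_EGA43
import Groth.Prelude.Def_FDesc
import Groth.Agent.Lib.Helper1.GenComp
import Groth.Agent.Lib.Helper1.FibGen
import Groth.Agent.Lib.Helper1.DimLocG
import Groth.Agent.Lib.Helper1.Chev2
import Groth.Agent.Lib.Helper1.CMQF
import Groth.Agent.Lib.Helper3.FBaseDim

/-!
# Irreducible components of fibres as subsets of the source, and section components
(EGA IV 14.3, 15.6) (helper1)
-/

set_option autoImplicit false
set_option linter.style.haveILetI false
universe u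

namespace Groth.Agent.H1.FibComp

open AlgebraicGeometry CategoryTheory CategoryTheory.Limits TopologicalSpace Topology

variable {X Y : Scheme.{u}}

/-- a set squeezed between an irreducible set and its closure is irreducible. -/
theorem isIrreducible_of_subset_closure {T : Type*} [TopologicalSpace T] {A B : Set T}
    (hA : IsIrreducible A) (h1 : A ⊆ B) (h2 : B ⊆ closure A) : IsIrreducible B := by
  have hcl : closure B = closure A :=
    subset_antisymm (closure_minimal h2 isClosed_closure) (closure_mono h1)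
  exact isIrreducible_iff_closure.mp (by rw [hcl]; exact hA.closure)

/-- variant of `dim_closure_inter_fibre` at a maximal point of a fibre. -/
theorem dim_closure_inter_fibre' (f : X ⟶ Y) [LocallyOfFiniteType f] (ξ : X)
    (hξ : ∀ z : X, f z = f ξ → z ⤳ ξ → z = ξ) :
    topologicalKrullDim ↥(closure ({ξ} : Set X) ∩ f ⁻¹' {f ξ}) = FlatMor.fibreDimAt f ξ := by
  have hemb : IsEmbedding (f.fiberι (f ξ)) := (f.fiberι (f ξ)).isEmbedding
  have h1 := Groth.Agent.H1.RelDim.dim_preimage_eq_of_isEmbedding hemb (closure ({ξ} : Set X))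
  rw [Scheme.Hom.range_fiberι] at h1
  rw [← h1]
  have h2 : (f.fiberι (f ξ)) ⁻¹' closure ({ξ} : Set X) = closure ({f.asFiber ξ} : Set _) := by
    rw [hemb.isInducing.closure_eq_preimage_closure_image, Set.image_singleton,
      f.fiberι_asFiber]
  rw [h2]
  have h3 := @Groth.Agent.H1.GenComp.dim_closure_eq_localDim (Y.residueField (f ξ)) _ _
    (f.fiberToSpecResidueField (f ξ))
    (Groth.Agent.H1.Chev.locallyOfFiniteType_fiberToSpecResidueField f (f ξ)) (f.asFiber ξ) (by
      intro z' hz'
      apply hemb.injective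
      rw [f.fiberι_asFiber]
      apply hξ
      · have h4 : (f.fiberι (f ξ)) z' ∈ Set.range (f.fiberι (f ξ)) := ⟨z', rfl⟩
        rw [Scheme.Hom.range_fiberι] at h4
        exact h4
      · have h5 := hz'.map (f.fiberι (f ξ)).continuous
        rwa [f.fiberι_asFiber] at h5)
  rw [h3]
  rfl

/-- an irreducible component of a (topological) fibre has a generic point, maximal in the fibre,
and its dimension is the fibre dimension there. -/
theorem exists_generic_of_fibre_component (f : X ⟶ Y) [LocallyOfFiniteType f] (y : Y) (Z : Set X)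
    (hZy : Z ⊆ f.base ⁻¹' {y}) (hZ : IsIrreducible Z)
    (hZmax : ∀ Z' : Set X, IsIrreducible Z' → Z' ⊆ f.base ⁻¹' {y} → Z ⊆ Z' → Z' = Z) :
    ∃ ζ : X, ζ ∈ Z ∧ f.base ζ = y ∧ Z = closure {ζ} ∩ f.base ⁻¹' {y} ∧
      (∀ z : X, f.base z = f.base ζ → z ⤳ ζ → z = ζ) ∧
      topologicalKrullDim ↥Z = FlatMor.fibreDimAt f ζ := by
  obtain ⟨ζ, hζ⟩ := QuasiSober.sober hZ.closure isClosed_closure
  have hζc : closure ({ζ} : Set X) = closure Z := hζ
  obtain ⟨z₀, hz₀⟩ := hZ.nonempty
  have hfz₀ : f.base z₀ = y := hZy hz₀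
  have hζmem : ζ ∈ closure Z := by rw [← hζc]; exact subset_closure rfl
  have hfζ : f.base ζ = y := by
    have h1 : ζ ⤳ z₀ := by
      rw [specializes_iff_mem_closure, hζc]; exact subset_closure hz₀
    have h2 : f.base ζ ⤳ y := by
      have h := h1.map f.continuous
      rwa [hfz₀] at h
    have h4 : closure Z ⊆ f.base ⁻¹' closure {y} := by
      apply closure_minimal
      · intro z hz
        have hfz : f.base z = y := hZy hz
        rw [Set.mem_preimage, hfz]
        exact subset_closure rfl
      · exact isClosed_closure.preimage f.continuous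
    have h5 : y ⤳ f.base ζ := specializes_iff_mem_closure.mpr (h4 hζmem)
    exact (h2.antisymm h5).eq
  have hB : closure Z ∩ f.base ⁻¹' {y} = Z :=
    hZmax _ (isIrreducible_of_subset_closure hZ (Set.subset_inter subset_closure hZy)
      Set.inter_subset_left) Set.inter_subset_right (Set.subset_inter subset_closure hZy)
  have hζZ : ζ ∈ Z := by rw [← hB]; exact ⟨hζmem, hfζ⟩
  have hZeq : Z = closure {ζ} ∩ f.base ⁻¹' {y} := by rw [hζc, hB]
  have hmax : ∀ z : X, f.base z = f.base ζ → z ⤳ ζ → z = ζ := by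
    intro z hfz hzζ
    have hfz' : f.base z = y := hfz.trans hfζ
    have hsub : closure ({ζ} : Set X) ⊆ closure {z} := specializes_iff_closure_subset.mp hzζ
    have hB' : closure ({z} : Set X) ∩ f.base ⁻¹' {y} = Z :=
      hZmax _ (isIrreducible_of_subset_closure isIrreducible_singleton
        (Set.subset_inter subset_closure (Set.singleton_subset_iff.mpr hfz'))
        Set.inter_subset_left) Set.inter_subset_right
        (by rw [hZeq]; exact Set.inter_subset_inter_left _ hsub)
    have hzZ : z ∈ Z := by rw [← hB']; exact ⟨subset_closure rfl, hfz'⟩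
    have hζz : ζ ⤳ z := by
      rw [specializes_iff_mem_closure]
      rw [hZeq] at hzZ
      exact hzZ.1
    exact (hzζ.antisymm hζz).eq
  refine ⟨ζ, hζZ, hfζ, hZeq, hmax, ?_⟩
  have h6 := dim_closure_inter_fibre' f ζ (fun z h1 h2 => hmax z h1 h2)
  have h7 : Z = closure ({ζ} : Set X) ∩ f ⁻¹' {f ζ} := by
    rw [hZeq]
    have : (f ζ : Y) = y := hfζ
    rw [this]
  exact (congrArg (fun A : Set X => topologicalKrullDim ↥A) h7).trans h6

/-- if the connected component of `x₀` in its fibre is irreducible, its dimension is the local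
fibre dimension at `x₀`. -/
theorem dim_connectedComponentIn_eq (f : X ⟶ Y) [LocallyOfFiniteType f] (x₀ : X) (y : Y)
    (hx₀ : f.base x₀ = y)
    (hirr : IsIrreducible (connectedComponentIn (f.base ⁻¹' {y}) x₀)) :
    topologicalKrullDim ↥(connectedComponentIn (f.base ⁻¹' {y}) x₀) =
      FlatMor.fibreDimAt f x₀ := by
  have hx₀F : x₀ ∈ f.base ⁻¹' {y} := hx₀
  have hCF : connectedComponentIn (f.base ⁻¹' {y}) x₀ ⊆ f.base ⁻¹' {y} :=
    connectedComponentIn_subset _ _
  have hx₀C : x₀ ∈ connectedComponentIn (f.base ⁻¹' {y}) x₀ := mem_connectedComponentIn hx₀F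
  have hmaxC : ∀ Z' : Set X, IsIrreducible Z' → Z' ⊆ f.base ⁻¹' {y} →
      connectedComponentIn (f.base ⁻¹' {y}) x₀ ⊆ Z' →
      Z' = connectedComponentIn (f.base ⁻¹' {y}) x₀ := by
    intro Z' hZ' hZ'F hCZ'
    exact subset_antisymm
      (hZ'.isConnected.isPreconnected.subset_connectedComponentIn (hCZ' hx₀C) hZ'F) hCZ'
  obtain ⟨ζ, hζC, hfζ, hCeq, hmax, hdim⟩ :=
    exists_generic_of_fibre_component f y _ hCF hirr hmaxC
  rw [hdim]
  have hζx₀ : ζ ⤳ x₀ := by
    rw [specializes_iff_mem_closure]
    rw [hCeq] at hx₀C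
    exact hx₀C.1
  apply le_antisymm
  · exact Groth.Agent.H1.DimLoc.fibreDimAt_le_of_specializes_fibre f x₀ ζ hζx₀
      (hfζ.trans hx₀.symm)
  · obtain ⟨z, hfz, hzx, hmaxz, hdz⟩ :=
      Groth.Agent.H1.FibGen.exists_fibre_generic_fibreDimAt_eq f x₀
    have hfz' : f.base z = y := hfz.trans hx₀
    have hirrB : IsIrreducible (closure ({z} : Set X) ∩ f.base ⁻¹' {y}) :=
      isIrreducible_of_subset_closure (A := {z}) isIrreducible_singleton
        (Set.subset_inter subset_closure (Set.singleton_subset_iff.mpr hfz'))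
        Set.inter_subset_left
    have hB' : closure ({z} : Set X) ∩ f.base ⁻¹' {y} ⊆
        connectedComponentIn (f.base ⁻¹' {y}) x₀ :=
      hirrB.isConnected.isPreconnected.subset_connectedComponentIn (x := x₀)
        (show x₀ ∈ closure ({z} : Set X) ∩ f.base ⁻¹' {y} from
          ⟨specializes_iff_mem_closure.mp hzx, hx₀F⟩) Set.inter_subset_right
    have hzC : z ∈ connectedComponentIn (f.base ⁻¹' {y}) x₀ :=
      hB' ⟨subset_closure rfl, hfz'⟩
    have hζz : ζ ⤳ z := by
      rw [specializes_iff_mem_closure]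
      rw [hCeq] at hzC
      exact hzC.1
    have hζeq : ζ = z := hmaxz ζ (hfζ.trans hx₀.symm) hζz
    rw [← hdz, hζeq]

/-- upper semicontinuity of the dimension of the section components when these are
irreducible. -/
theorem upperSemicontinuous_dim_sectionComponent (f : X ⟶ Y) [LocallyOfFiniteType f]
    (g : Y ⟶ X) (hg : g ≫ f = 𝟙 Y)
    (hirr : ∀ y : Y, IsIrreducible (connectedComponentIn (f.base ⁻¹' {y}) (g.base y))) :
    UpperSemicontinuous (fun y : Y =>
      topologicalKrullDim ↥(connectedComponentIn (f.base ⁻¹' {y}) (g.base y))) := by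
  have hfg : ∀ y : Y, f.base (g.base y) = y := fun y => by
    have h := Scheme.Hom.comp_apply g f y
    rw [hg] at h
    simpa using h.symm
  have hfun : (fun y : Y =>
      topologicalKrullDim ↥(connectedComponentIn (f.base ⁻¹' {y}) (g.base y))) =
      fun y : Y => FlatMor.fibreDimAt f (g.base y) := by
    funext y
    exact dim_connectedComponentIn_eq f (g.base y) y (hfg y) (hirr y)
  rw [hfun, upperSemicontinuous_iff_isOpen_preimage]
  intro c
  rw [isOpen_iff_mem_nhds]
  intro y₀ hy₀
  obtain ⟨n, hn⟩ := Groth.Agent.H1.CMQF.exists_nat_fibreDimAt f (g.base y₀)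
  have hop : IsOpen {x : X | FlatMor.fibreDimAt f x ≤ (n : WithBot ℕ∞)} :=
    Groth.Agent.H1.Chev.isOpen_fibreDimAt_le f n
  have hop' := hop.preimage g.continuous
  refine Filter.mem_of_superset (hop'.mem_nhds
    (show y₀ ∈ g.base ⁻¹' {x : X | FlatMor.fibreDimAt f x ≤ (n : WithBot ℕ∞)} from hn.le)) ?_
  intro y hy
  have hy' : FlatMor.fibreDimAt f (g.base y) ≤ (n : WithBot ℕ∞) := hy
  have hy₀' : FlatMor.fibreDimAt f (g.base y₀) < c := hy₀
  rw [hn] at hy₀'
  exact lt_of_le_of_lt hy' hy₀'

/-- geometric irreducibility of the section component (in the form of the statements) implies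
its irreducibility. -/
theorem isIrreducible_of_geom (f : X ⟶ Y) (y : Y) (C : Set X) (hC : C ⊆ f.base ⁻¹' {y})
    (h : ∀ (K : Type u) [Field K] [Algebra (IsLocalRing.ResidueField (Y.presheaf.stalk y)) K],
      IsIrreducible ((FBase.bcπ (f.fiberToSpecResidueField y) K ≫ f.fiberι y).base ⁻¹' C)) :
    IsIrreducible C := by
  have h1 := h (IsLocalRing.ResidueField (Y.presheaf.stalk y))
  have h2 := h1.image
    (FBase.bcπ (f.fiberToSpecResidueField y) (IsLocalRing.ResidueField (Y.presheaf.stalk y)) ≫
      f.fiberι y).base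
    (FBase.bcπ (f.fiberToSpecResidueField y) (IsLocalRing.ResidueField (Y.presheaf.stalk y)) ≫
      f.fiberι y).continuous.continuousOn
  rwa [Set.image_preimage_eq_of_subset] at h2
  intro x hx
  have hx' : x ∈ Set.range (f.fiberι y) := by
    rw [Scheme.Hom.range_fiberι]; exact hC hx
  obtain ⟨t, rfl⟩ := hx'
  obtain ⟨s, rfl⟩ := Groth.Agent.H3.FBaseDim.surjective_bcπ (f.fiberToSpecResidueField y)
    (IsLocalRing.ResidueField (Y.presheaf.stalk y)) t
  exact ⟨s, Scheme.Hom.comp_apply _ _ s⟩

theorem s4954 (f : X ⟶ Y) [LocallyOfFiniteType f] (g : Y ⟶ X) (hg : g ≫ f = 𝟙 Y)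
    (hirr : ∀ y : Y, (∀ (K : Type u) [Field K]
        [Algebra (IsLocalRing.ResidueField (Y.presheaf.stalk y)) K],
        IsIrreducible ((FBase.bcπ (f.fiberToSpecResidueField y) K ≫ f.fiberι y).base ⁻¹'
          connectedComponentIn (f.base ⁻¹' {y}) (g.base y)))) :
    UpperSemicontinuous (fun y : Y =>
      topologicalKrullDim ↥(connectedComponentIn (f.base ⁻¹' {y}) (g.base y))) :=
  upperSemicontinuous_dim_sectionComponent f g hg (fun y =>
    isIrreducible_of_geom f y _ (connectedComponentIn_subset _ _) (hirr y))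

end Groth.Agent.H1.FibComp
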