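import Mathlib
import Groth.Prelude.Def_EGA43
import Groth.Agent.Lib.Helper1.FibCompA
import Groth.Agent.Lib.Helper1.CondT
import Groth.Agent.Lib.Helper1.UO14B
import Groth.Agent.Lib.Helper1.UO14C
import Groth.Agent.Lib.Helper1.Chev3
import Groth.Agent.Lib.Helper1.GenPts

/-!
# EGA IV 14.3.3–14.3.5 and 15.x: irreducible components of fibres at points where the morphism is
open; sets of dimensions of fibre components (helper1)
-/

set_option autoImplicit false
set_option linter.style.haveILetI false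
universe u

namespace Groth.Agent.H1.FibComp

open AlgebraicGeometry CategoryTheory CategoryTheory.Limits TopologicalSpace Topology

variable {X Y : Scheme.{u}}

/-- **EGA IV 14.3.3** (core): at a maximal point `ζ` of its fibre where `f` is open, there is a
maximal point `ξ` of `X` over the generic point of `Y` specializing to `ζ` whose closure has the
same fibre dimension, generically and at `ζ`. -/
theorem exists_component_of_isOpenAt [IrreducibleSpace Y] [IsLocallyNoetherian Y] (f : X ⟶ Y)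
    [LocallyOfFiniteType f] (ζ : X)
    (hmax : ∀ z : X, f.base z = f.base ζ → z ⤳ ζ → z = ζ) (hopen : EGA43.IsOpenAt f.base ζ) :
    ∃ ξ : X, (∀ z : X, z ⤳ ξ → z = ξ) ∧ ξ ⤳ ζ ∧ f.base ξ = genericPoint Y ∧
      FlatMor.fibreDimAt f ξ = FlatMor.fibreDimAt f ζ ∧
      ∀ hζ : ζ ∈ closure ({ξ} : Set X) ∩ f.base ⁻¹' {f.base ζ},
        FlatMor.localDim ↥(closure ({ξ} : Set X) ∩ f.base ⁻¹' {f.base ζ}) ⟨ζ, hζ⟩ =
          FlatMor.fibreDimAt f ζ := by
  obtain ⟨ξ, hξζ, hfξ, hξfm, hge⟩ := Groth.Agent.H1.UO14.exists_generization_fibreDimAt_ge f ζ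
    (fun z h1 h2 => hmax z h1 h2) hopen (genericPoint Y) (genericPoint_specializes _)
  have hfξ' : f.base ξ = genericPoint Y := hfξ
  have hξmax : ∀ z : X, z ⤳ ξ → z = ξ := by
    intro z hz
    have h1 : f.base z ⤳ f.base ξ := hz.map f.continuous
    rw [hfξ'] at h1
    have h2 : f.base z = genericPoint Y := (h1.antisymm (genericPoint_specializes _)).eq
    exact hξfm z (h2.trans hfξ'.symm) hz
  obtain ⟨T, ι, hι, hr⟩ : ∃ (T : Scheme.{u}) (ι : T ⟶ X), IsClosedImmersion ι ∧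
      Set.range ι.base = closure ({ξ} : Set X) :=
    ⟨_, (Scheme.IdealSheafData.vanishingIdeal
      (⟨closure {ξ}, isClosed_closure⟩ : TopologicalSpace.Closeds X)).subschemeι, inferInstance,
      (Scheme.IdealSheafData.range_subschemeι _).trans
        (Scheme.IdealSheafData.coe_support_vanishingIdeal _)⟩
  haveI := hι
  have hemb : IsEmbedding ι.base := ι.isEmbedding
  obtain ⟨wξ, hwξ⟩ : ∃ w : T, ι.base w = ξ := by
    have h : ξ ∈ Set.range ι.base := by rw [hr]; exact subset_closure rfl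
    exact h
  obtain ⟨wζ, hwζ⟩ : ∃ w : T, ι.base w = ζ := by
    have h : ζ ∈ Set.range ι.base := by rw [hr]; exact specializes_iff_mem_closure.mp hξζ
    exact h
  subst hwζ
  have hspec : wξ ⤳ wζ := hemb.isInducing.specializes_iff.mp (by
    show ι.base wξ ⤳ ι.base wζ
    rw [hwξ]; exact hξζ)
  have h1 : FlatMor.fibreDimAt (ι ≫ f) wξ ≤ FlatMor.fibreDimAt (ι ≫ f) wζ :=
    Groth.Agent.H1.EquidimLoc.fibreDimAt_le_of_specializes (ι ≫ f) hspec
  have h2 : FlatMor.fibreDimAt (ι ≫ f) wξ = FlatMor.fibreDimAt f ξ := by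
    have h := Groth.Agent.H1.CondT.fibreDimAt_comp_eq_of_fibreMax ι f wξ
      (by rw [hwξ]; exact fun z h1 h2 => hξfm z h1 h2)
    rw [hwξ] at h
    exact h
  have h3 : FlatMor.fibreDimAt (ι ≫ f) wζ ≤ FlatMor.fibreDimAt f (ι.base wζ) :=
    Groth.Agent.H1.QSec.fibreDimAt_comp_le ι hemb f wζ
  have h4 : FlatMor.fibreDimAt f ξ = FlatMor.fibreDimAt f (ι.base wζ) :=
    le_antisymm (by rw [← h2]; exact h1.trans h3) hge
  have h5 : FlatMor.fibreDimAt (ι ≫ f) wζ = FlatMor.fibreDimAt f (ι.base wζ) :=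
    le_antisymm h3 (by rw [← h4, ← h2]; exact h1)
  refine ⟨ξ, hξmax, hξζ, hfξ', h4, ?_⟩
  intro hζ
  have hE := Groth.Agent.H1.UO14.fibreDimAt_comp_of_isEmbedding ι hemb f wζ
  have hc := Groth.Agent.H1.UO14.localDim_congr_set (T := X)
    (S := Set.range ι.base ∩ f.base ⁻¹' {f.base (ι.base wζ)})
    (S' := closure ({ξ} : Set X) ∩ f.base ⁻¹' {f.base (ι.base wζ)}) (by rw [hr])
    (ι.base wζ) ⟨⟨wζ, rfl⟩, rfl⟩
  exact hc.symm.trans (hE.symm.trans h5)

theorem s4919 [IrreducibleSpace Y] [IsLocallyNoetherian Y] (f : X ⟶ Y)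
    [LocallyOfFiniteType f] (y : Y) (Z : Set X)
    (hZy : Z ⊆ f.base ⁻¹' {y}) (hZ : IsIrreducible Z)
    (hZmax : ∀ Z' : Set X, IsIrreducible Z' → Z' ⊆ f.base ⁻¹' {y} → Z ⊆ Z' → Z' = Z)
    (hopen : ∀ ζ ∈ Z, Z ⊆ closure {ζ} → EGA43.IsOpenAt f.base ζ) :
    ∃ X' ∈ irreducibleComponents (X : Type u), Z ⊆ X' ∧ Dense (f.base '' X') ∧
      (∀ ζ ∈ Z, Z ⊆ closure {ζ} → ∀ hζ : ζ ∈ X' ∩ f.base ⁻¹' {y},
        FlatMor.localDim ↥(X' ∩ f.base ⁻¹' {y}) ⟨ζ, hζ⟩ = topologicalKrullDim ↥Z) ∧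
      topologicalKrullDim ↥Z = topologicalKrullDim ↥(X' ∩ f.base ⁻¹' {genericPoint Y}) := by
  obtain ⟨ζ₀, hζ₀Z, hfζ₀, hZeq, hmax₀, hdimZ⟩ :=
    exists_generic_of_fibre_component f y Z hZy hZ hZmax
  subst hfζ₀
  have hZsub : Z ⊆ closure ({ζ₀} : Set X) := fun z hz => by
    rw [hZeq] at hz; exact hz.1
  obtain ⟨ξ, hξmax, hξζ, hfξ, hdeq, hloc⟩ :=
    exists_component_of_isOpenAt f ζ₀ hmax₀ (hopen ζ₀ hζ₀Z hZsub)
  refine ⟨closure {ξ},
    Groth.Agent.H1.GenPts.closure_singleton_mem_irreducibleComponents ξ hξmax,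
    hZsub.trans (specializes_iff_closure_subset.mp hξζ), ?_, ?_, ?_⟩
  · intro y'
    have h1 : f.base ξ ∈ f.base '' closure ({ξ} : Set X) := ⟨ξ, subset_closure rfl, rfl⟩
    have h2 : closure ({f.base ξ} : Set Y) ⊆ closure (f.base '' closure ({ξ} : Set X)) :=
      closure_mono (Set.singleton_subset_iff.mpr h1)
    apply h2
    rw [hfξ, genericPoint_closure]
    trivial
  · intro ζ hζZ hZζ hζ
    have h1 : ζ₀ ⤳ ζ := specializes_iff_mem_closure.mpr (hZsub hζZ)
    have h2 : ζ ⤳ ζ₀ := specializes_iff_mem_closure.mpr (hZζ hζ₀Z)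
    have h3 : ζ = ζ₀ := (h2.antisymm h1).eq
    subst h3
    rw [hdimZ]
    exact hloc hζ
  · rw [hdimZ, ← hdeq]
    exact (Groth.Agent.H1.GenComp.dim_closure_inter_fibre f ξ hξmax (genericPoint Y) hfξ).symm

/-- an irreducible component of the scheme-theoretic fibre gives a maximal point of the fibre. -/
theorem exists_fibreMax_of_component_fiber (f : X ⟶ Y) [LocallyOfFiniteType f] (y : Y)
    (Z : Set ↥(f.fiber y)) (hZ : Z ∈ irreducibleComponents ↥(f.fiber y)) :
    ∃ ζ : X, f.base ζ = y ∧ (∀ z : X, f.base z = f.base ζ → z ⤳ ζ → z = ζ) ∧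
      topologicalKrullDim ↥Z = FlatMor.fibreDimAt f ζ := by
  obtain ⟨z, hz⟩ := QuasiSober.sober hZ.1 (isClosed_of_mem_irreducibleComponents Z hZ)
  have hzc : closure ({z} : Set ↥(f.fiber y)) = Z := hz
  have hzmax : ∀ z' : ↥(f.fiber y), z' ⤳ z → z' = z := fun z' hz' =>
    Groth.Agent.H1.EquidimLoc.eq_of_specializes_of_closure_mem_irreducibleComponents z
      (by rw [hzc]; exact hZ) z' hz'
  have hemb : IsEmbedding (f.fiberι y) := (f.fiberι y).isEmbedding
  have hfz : f.base ((f.fiberι y).base z) = y := by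
    have h : (f.fiberι y).base z ∈ Set.range (f.fiberι y) := ⟨z, rfl⟩
    rw [Scheme.Hom.range_fiberι] at h
    exact h
  refine ⟨(f.fiberι y).base z, hfz, ?_, ?_⟩
  · intro x' hx' hsp
    have hx'r : x' ∈ Set.range (f.fiberι y) := by
      rw [Scheme.Hom.range_fiberι]; exact hx'.trans hfz
    obtain ⟨z', rfl⟩ := hx'r
    rw [hzmax z' (hemb.isInducing.specializes_iff.mp hsp)]
  · have h3 := @Groth.Agent.H1.GenComp.dim_closure_eq_localDim (Y.residueField y) _ _
      (f.fiberToSpecResidueField y)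
      (Groth.Agent.H1.Chev.locallyOfFiniteType_fiberToSpecResidueField f y) z hzmax
    have h4 := Groth.Agent.H1.Chev.localDim_fiber_eq_fibreDimAt f ((f.fiberι y).base z) y hfz z rfl
    exact (congrArg (fun A : Set ↥(f.fiber y) => topologicalKrullDim ↥A) hzc.symm).trans
      (h3.trans h4)

/-- a maximal point of the fibre gives an irreducible component of the scheme-theoretic fibre. -/
theorem exists_component_fiber_of_fibreMax (f : X ⟶ Y) [LocallyOfFiniteType f] (y : Y) (ζ : X)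
    (hfζ : f.base ζ = y) (hmax : ∀ z : X, f.base z = f.base ζ → z ⤳ ζ → z = ζ) :
    ∃ Z ∈ irreducibleComponents ↥(f.fiber y), topologicalKrullDim ↥Z = FlatMor.fibreDimAt f ζ := by
  have hemb : IsEmbedding (f.fiberι y) := (f.fiberι y).isEmbedding
  have hζr : ζ ∈ Set.range (f.fiberι y) := by
    rw [Scheme.Hom.range_fiberι]; exact hfζ
  obtain ⟨z, rfl⟩ := hζr
  have hzmax : ∀ z' : ↥(f.fiber y), z' ⤳ z → z' = z := by
    intro z' hz'
    apply hemb.injective
    refine hmax _ ?_ (hz'.map (f.fiberι y).continuous)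
    have h : (f.fiberι y) z' ∈ Set.range (f.fiberι y) := ⟨z', rfl⟩
    rw [Scheme.Hom.range_fiberι] at h
    exact h.trans hfζ.symm
  refine ⟨closure {z},
    Groth.Agent.H1.GenPts.closure_singleton_mem_irreducibleComponents z hzmax, ?_⟩
  have h3 := @Groth.Agent.H1.GenComp.dim_closure_eq_localDim (Y.residueField y) _ _
    (f.fiberToSpecResidueField y)
    (Groth.Agent.H1.Chev.locallyOfFiniteType_fiberToSpecResidueField f y) z hzmax
  have h4 := Groth.Agent.H1.Chev.localDim_fiber_eq_fibreDimAt f ((f.fiberι y) z) y hfζ z rfl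
  exact h3.trans h4

/-- transfer of the dimensions of fibre components. -/
theorem fibre_dims_subset (f : X ⟶ Y) [LocallyOfFiniteType f] (y η : Y)
    (H : ∀ ζ : X, f.base ζ = y → (∀ z : X, f.base z = f.base ζ → z ⤳ ζ → z = ζ) →
      ∃ ξ : X, f.base ξ = η ∧ (∀ z : X, f.base z = f.base ξ → z ⤳ ξ → z = ξ) ∧
        FlatMor.fibreDimAt f ξ = FlatMor.fibreDimAt f ζ) :
    ((fun Z : Set ↥(f.fiber y) => topologicalKrullDim ↥Z) '' irreducibleComponents ↥(f.fiber y) ⊆
      (fun Z : Set ↥(f.fiber η) => topologicalKrullDim ↥Z) ''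
        irreducibleComponents ↥(f.fiber η)) ∧
    topologicalKrullDim ↥(f.fiber y) ≤ topologicalKrullDim ↥(f.fiber η) := by
  have key : ∀ ζ : X, f.base ζ = y → (∀ z : X, f.base z = f.base ζ → z ⤳ ζ → z = ζ) →
      ∃ Z' ∈ irreducibleComponents ↥(f.fiber η),
        topologicalKrullDim ↥Z' = FlatMor.fibreDimAt f ζ := by
    intro ζ hfζ hmax
    obtain ⟨ξ, hfξ, hξmax, hd⟩ := H ζ hfζ hmax
    obtain ⟨Z', hZ', hdim⟩ := exists_component_fiber_of_fibreMax f η ξ hfξ hξmax
    exact ⟨Z', hZ', hdim.trans hd⟩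
  constructor
  · rintro d ⟨Z, hZ, rfl⟩
    obtain ⟨ζ, hfζ, hmax, hdim⟩ := exists_fibreMax_of_component_fiber f y Z hZ
    obtain ⟨Z', hZ', hdim'⟩ := key ζ hfζ hmax
    exact ⟨Z', hZ', hdim'.trans hdim.symm⟩
  · rw [Groth.Agent.H3.TopDim.dim_eq_iSup_localDim]
    apply iSup_le
    intro z
    have hfz : f.base ((f.fiberι y).base z) = y := by
      have h : (f.fiberι y).base z ∈ Set.range (f.fiberι y) := ⟨z, rfl⟩
      rw [Scheme.Hom.range_fiberι] at h
      exact h
    have h4 := Groth.Agent.H1.Chev.localDim_fiber_eq_fibreDimAt f ((f.fiberι y).base z) y hfz z rfl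
    rw [h4]
    obtain ⟨ζ, hfζ, hζx, hmaxζ, hdζ⟩ :=
      Groth.Agent.H1.FibGen.exists_fibre_generic_fibreDimAt_eq f ((f.fiberι y).base z)
    obtain ⟨Z', hZ', hdim'⟩ := key ζ (hfζ.trans hfz)
      (fun z' h1 h2 => hmaxζ z' (h1.trans hfζ) h2)
    rw [← hdζ, ← hdim']
    exact IsInducing.subtypeVal.topologicalKrullDim_le

theorem s4920 [IrreducibleSpace Y] [IsLocallyNoetherian Y]
    (f : X ⟶ Y) [LocallyOfFiniteType f] (y : Y)
    (h : ∀ x : X, f.base x = y → EGA43.IsOpenAt f.base x) :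
    ((fun Z : Set ↥(f.fiber y) => topologicalKrullDim ↥Z) '' irreducibleComponents ↥(f.fiber y) ⊆
      (fun Z : Set ↥(f.fiber (genericPoint Y)) => topologicalKrullDim ↥Z) ''
        irreducibleComponents ↥(f.fiber (genericPoint Y))) ∧
    topologicalKrullDim ↥(f.fiber y) ≤ topologicalKrullDim ↥(f.fiber (genericPoint Y)) := by
  apply fibre_dims_subset
  intro ζ hfζ hmax
  obtain ⟨ξ, hξmax, -, hfξ, hdeq, -⟩ := exists_component_of_isOpenAt f ζ hmax (h ζ hfζ)
  exact ⟨ξ, hfξ, fun z _ hz => hξmax z hz, hdeq⟩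

theorem s4958 [IrreducibleSpace Y] [IsLocallyNoetherian Y] (f : X ⟶ Y)
    [LocallyOfFiniteType f] (y : Y)
    (hb : ∀ z : X, f.base z = y → (∀ z' : X, f.base z' = y → z ∈ closure {z'} → z' = z) →
      ringKrullDim (X.presheaf.stalk z) = ringKrullDim (Y.presheaf.stalk y)) :
    ((fun Z : Set ↥(f.fiber y) => topologicalKrullDim ↥Z) '' irreducibleComponents ↥(f.fiber y) ⊆
      (fun Z : Set ↥(f.fiber (genericPoint Y)) => topologicalKrullDim ↥Z) ''
        irreducibleComponents ↥(f.fiber (genericPoint Y))) ∧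
    topologicalKrullDim ↥(f.fiber y) ≤ topologicalKrullDim ↥(f.fiber (genericPoint Y)) := by
  apply fibre_dims_subset
  intro ζ hfζ hmax
  subst hfζ
  have hemb : IsEmbedding (f.fiberι (f.base ζ)) := (f.fiberι (f.base ζ)).isEmbedding
  have hz0 : ringKrullDim ((f.fiber (f.base ζ)).presheaf.stalk (f.asFiber ζ)) = 0 := by
    apply Groth.Agent.H1.DimFormula.ringKrullDim_stalk_eq_zero
    intro z' hz'
    apply hemb.injective
    rw [f.fiberι_asFiber]
    apply hmax
    · have h4 : (f.fiberι (f.base ζ)) z' ∈ Set.range (f.fiberι (f.base ζ)) := ⟨z', rfl⟩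
      rw [Scheme.Hom.range_fiberι] at h4
      exact h4
    · have h5 := hz'.map (f.fiberι (f.base ζ)).continuous
      rwa [f.fiberι_asFiber] at h5
  have hb' := hb ζ rfl (fun z' h1 h2 => hmax z' h1 (specializes_iff_mem_closure.mpr h2))
  obtain ⟨X', hX', hζX', hdim⟩ :=
    Groth.Agent.H1.GenComp.exists_component_of_stalk_dim_eq f ζ hz0 hb'
  obtain ⟨ξ, hξ⟩ := QuasiSober.sober hX'.1 (isClosed_of_mem_irreducibleComponents X' hX')
  have hξc : closure ({ξ} : Set X) = X' := hξ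
  have hξmax : ∀ z : X, z ⤳ ξ → z = ξ := fun z hz =>
    Groth.Agent.H1.EquidimLoc.eq_of_specializes_of_closure_mem_irreducibleComponents ξ
      (by rw [hξc]; exact hX') z hz
  have hne : (X' ∩ f ⁻¹' {genericPoint Y}).Nonempty := by
    by_contra hcon
    rw [Set.not_nonempty_iff_eq_empty] at hcon
    haveI : IsEmpty ↥(X' ∩ f ⁻¹' {genericPoint Y}) := by
      rw [hcon]; exact Set.isEmpty_coe_sort.mpr rfl
    have h0 := Groth.Agent.H3.FBaseDim.dim_eq_bot_of_isEmpty ↥(X' ∩ f ⁻¹' {genericPoint Y})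
    rw [hdim] at h0
    have h1 := Groth.Agent.H1.Chev.zero_le_fibreDimAt f ζ
    rw [h0] at h1
    exact absurd h1 (by simp)
  obtain ⟨x₁, hx₁X', hx₁η⟩ := hne
  have hfξ : f.base ξ = genericPoint Y := by
    have h1 : ξ ⤳ x₁ := by rw [specializes_iff_mem_closure, hξc]; exact hx₁X'
    have h2 : f.base ξ ⤳ f.base x₁ := h1.map f.continuous
    have hx₁η' : f.base x₁ = genericPoint Y := hx₁η
    rw [hx₁η'] at h2
    exact (h2.antisymm (genericPoint_specializes _)).eq
  have h6 := Groth.Agent.H1.GenComp.dim_closure_inter_fibre f ξ hξmax (genericPoint Y) hfξ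
  have h7 : topologicalKrullDim ↥(closure ({ξ} : Set X) ∩ f ⁻¹' {genericPoint Y}) =
      topologicalKrullDim ↥(X' ∩ f ⁻¹' {genericPoint Y}) :=
    congrArg (fun A : Set X => topologicalKrullDim ↥(A ∩ f ⁻¹' {genericPoint Y})) hξc
  exact ⟨ξ, hfξ, fun z _ hz => hξmax z hz, h6.symm.trans (h7.trans hdim)⟩

end Groth.Agent.H1.FibComp
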