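import Mathlib
import Groth.Prelude.Def_EGA43
import Groth.Agent.Lib.Helper1.FibCompB
import Groth.Agent.Lib.Helper1.FibDimCons
import Groth.Agent.Lib.Helper1.DVRCrit
import Groth.Agent.Lib.Helper1.EtNhd
import Groth.Agent.Lib.Helper1.CMQF

/-!
# EGA IV 14.3.6–14.3.9: local constancy of fibre dimensions for open morphisms (helper1)
-/

set_option autoImplicit false
set_option linter.style.haveILetI false
universe u

namespace Groth.Agent.H1.FibComp

open AlgebraicGeometry CategoryTheory CategoryTheory.Limits TopologicalSpace Topology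

variable {X Y : Scheme.{u}}

/-- lifting of generizations at a maximal point of a fibre where `f` is open, with *equal*
fibre dimension. -/
theorem exists_generization_fibreDimAt_eq [IsLocallyNoetherian Y] (f : X ⟶ Y)
    [LocallyOfFiniteType f] (ζ : X)
    (hmax : ∀ z : X, f.base z = f.base ζ → z ⤳ ζ → z = ζ) (hopen : EGA43.IsOpenAt f.base ζ)
    (η : Y) (hη : η ⤳ f.base ζ) :
    ∃ ξ : X, ξ ⤳ ζ ∧ f.base ξ = η ∧ (∀ z : X, f.base z = f.base ξ → z ⤳ ξ → z = ξ) ∧
      FlatMor.fibreDimAt f ξ = FlatMor.fibreDimAt f ζ := by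
  obtain ⟨ξ, hξζ, hfξ, hξfm, hge⟩ := Groth.Agent.H1.UO14.exists_generization_fibreDimAt_ge f ζ
    (fun z h1 h2 => hmax z h1 h2) hopen η hη
  refine ⟨ξ, hξζ, hfξ, fun z h1 h2 => hξfm z h1 h2, le_antisymm ?_ hge⟩
  obtain ⟨T, ι, hι, hr⟩ : ∃ (T : Scheme.{u}) (ι : T ⟶ X), IsClosedImmersion ι ∧
      Set.range ι.base = closure ({ξ} : Set X) :=
    ⟨_, (Scheme.IdealSheafData.vanishingIdeal
      (⟨closure {ξ}, isClosed_closure⟩ : TopologicalSpace.Closeds X)).subschemeι, inferInstance,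
      (Scheme.IdealSheafData.range_subschemeι _).trans
        (Scheme.IdealSheafData.coe_support_vanishingIdeal _)⟩
  haveI := hι
  have hemb : IsEmbedding ι.base := ι.isEmbedding
  obtain ⟨wξ, hwξ⟩ : ∃ w : T, ι.base w = ξ := by
    have h : ξ ∈ Set.range ι.base := by rw [hr]; exact subset_closure rfl
    exact h
  obtain ⟨wζ, hwζ⟩ : ∃ w : T, ι.base w = ζ := by
    have h : ζ ∈ Set.range ι.base := by rw [hr]; exact specializes_iff_mem_closure.mp hξζ
    exact h
  subst hwζ
  have hspec : wξ ⤳ wζ := hemb.isInducing.specializes_iff.mp (by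
    show ι.base wξ ⤳ ι.base wζ
    rw [hwξ]; exact hξζ)
  have h1 : FlatMor.fibreDimAt (ι ≫ f) wξ ≤ FlatMor.fibreDimAt (ι ≫ f) wζ :=
    Groth.Agent.H1.EquidimLoc.fibreDimAt_le_of_specializes (ι ≫ f) hspec
  have h2 : FlatMor.fibreDimAt (ι ≫ f) wξ = FlatMor.fibreDimAt f ξ := by
    have h := Groth.Agent.H1.CondT.fibreDimAt_comp_eq_of_fibreMax ι f wξ
      (by rw [hwξ]; exact fun z h1 h2 => hξfm z h1 h2)
    rw [hwξ] at h
    exact h
  have h3 : FlatMor.fibreDimAt (ι ≫ f) wζ ≤ FlatMor.fibreDimAt f (ι.base wζ) :=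
    Groth.Agent.H1.QSec.fibreDimAt_comp_le ι hemb f wζ
  rw [← h2]
  exact h1.trans h3

/-- **EGA IV 14.3.4** for an arbitrary generization. -/
theorem fibre_dims_subset_of_isOpenAt [IsLocallyNoetherian Y] (f : X ⟶ Y)
    [LocallyOfFiniteType f] (y z : Y) (hzy : z ⤳ y)
    (h : ∀ x : X, f.base x = y → EGA43.IsOpenAt f.base x) :
    ((fun Z : Set ↥(f.fiber y) => topologicalKrullDim ↥Z) '' irreducibleComponents ↥(f.fiber y) ⊆
      (fun Z : Set ↥(f.fiber z) => topologicalKrullDim ↥Z) ''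
        irreducibleComponents ↥(f.fiber z)) ∧
    topologicalKrullDim ↥(f.fiber y) ≤ topologicalKrullDim ↥(f.fiber z) := by
  apply fibre_dims_subset
  intro ζ hfζ hmax
  obtain ⟨ξ, -, hfξ, hξfm, hd⟩ := exists_generization_fibreDimAt_eq f ζ hmax (h ζ hfζ) z
    (by rw [hfζ]; exact hzy)
  exact ⟨ξ, hfξ, hξfm, hd⟩

set_option backward.isDefEq.respectTransparency false in
/-- a locally constructible subset of a scheme containing all generizations of `y` is a
neighbourhood of `y`. -/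
theorem mem_nhds_of_isLocallyConstructible {E : Set Y} (hE : IsLocallyConstructible E) (y : Y)
    (hy : ∀ η : Y, η ⤳ y → η ∈ E) : E ∈ nhds y := by
  obtain ⟨V, hV, hyV⟩ : ∃ V : Y.Opens, IsAffineOpen V ∧ y ∈ V := by
    obtain ⟨_, ⟨V, hV, rfl⟩, hx, -⟩ :=
      Y.isBasis_affineOpens.exists_subset_of_mem_open (Set.mem_univ y) isOpen_univ
    exact ⟨V, hV, hx⟩
  have hE' : Topology.IsConstructible (hV.fromSpec.base ⁻¹' E) :=
    (hE.preimage_of_isOpenEmbedding hV.fromSpec.isOpenEmbedding).isConstructible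
  obtain ⟨y₀, hy₀⟩ : ∃ y₀, hV.fromSpec.base y₀ = y := by
    have h0 : y ∈ Set.range hV.fromSpec.base := by rw [hV.range_fromSpec]; exact hyV
    exact h0
  have hn : hV.fromSpec.base ⁻¹' E ∈ nhds y₀ := by
    apply Groth.Agent.H1.DVRCrit.mem_nhds_of_isConstructible hE'
    intro η hη
    apply hy
    rw [← hy₀]
    exact hη.map hV.fromSpec.continuous
  have h3 := hV.fromSpec.isOpenEmbedding.isOpenMap.image_mem_nhds hn
  rw [hy₀] at h3
  exact Filter.mem_of_superset h3 (Set.image_preimage_subset _ _)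

theorem isOpen_fibreDimAt_le' (f : X ⟶ Y) [LocallyOfFiniteType f] (d : WithBot ℕ∞) :
    IsOpen {x : X | FlatMor.fibreDimAt f x ≤ d} := by
  induction d using WithBot.recBotCoe with
  | bot =>
    convert isOpen_empty
    ext x
    simp only [Set.mem_setOf_eq, Set.mem_empty_iff_false, iff_false, le_bot_iff]
    intro h0
    have h1 := Groth.Agent.H1.Chev.zero_le_fibreDimAt f x
    rw [h0] at h1
    exact absurd h1 (by simp)
  | coe l =>
    induction l using ENat.recTopCoe with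
    | top =>
      convert isOpen_univ
      ext x
      simp only [Set.mem_setOf_eq, Set.mem_univ, iff_true]
      exact le_top
    | coe n => exact Groth.Agent.H1.Chev.isOpen_fibreDimAt_le f n

theorem localDim_fiber_le (f : X ⟶ Y) (z : Y) (p : ↥(f.fiber z)) :
    FlatMor.fibreDimAt f ((f.fiberι z).base p) ≤ topologicalKrullDim ↥(f.fiber z) := by
  have hfz : f.base ((f.fiberι z).base p) = z := by
    have h : (f.fiberι z).base p ∈ Set.range (f.fiberι z) := ⟨p, rfl⟩
    rw [Scheme.Hom.range_fiberι] at h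
    exact h
  rw [← Groth.Agent.H1.Chev.localDim_fiber_eq_fibreDimAt f ((f.fiberι z).base p) z hfz p rfl]
  exact Groth.Agent.H3.TopDim.localDim_le_dim p

theorem dim_fiber_le_of_forall (f : X ⟶ Y) (z : Y) (d : WithBot ℕ∞)
    (h : ∀ x : X, f.base x = z → FlatMor.fibreDimAt f x ≤ d) :
    topologicalKrullDim ↥(f.fiber z) ≤ d := by
  rw [Groth.Agent.H3.TopDim.dim_eq_iSup_localDim]
  apply iSup_le
  intro p
  have hfz : f.base ((f.fiberι z).base p) = z := by
    have h : (f.fiberι z).base p ∈ Set.range (f.fiberι z) := ⟨p, rfl⟩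
    rw [Scheme.Hom.range_fiberι] at h
    exact h
  rw [Groth.Agent.H1.Chev.localDim_fiber_eq_fibreDimAt f ((f.fiberι z).base p) z hfz p rfl]
  exact h _ hfz

theorem fibreDimAt_le_dim_fiber (f : X ⟶ Y) (x : X) (z : Y) (hx : f.base x = z) :
    FlatMor.fibreDimAt f x ≤ topologicalKrullDim ↥(f.fiber z) := by
  have hr : x ∈ Set.range (f.fiberι z) := by rw [Scheme.Hom.range_fiberι]; exact hx
  obtain ⟨p, rfl⟩ := hr
  exact localDim_fiber_le f z p

theorem s4921 [IsLocallyNoetherian Y] (f : X ⟶ Y) [IsProper f] (y : Y)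
    (h : ∀ x : X, f.base x = y → EGA43.IsOpenAt f.base x) :
    ∃ V ∈ nhds y, ∀ z ∈ V,
      topologicalKrullDim ↥(f.fiber z) = topologicalKrullDim ↥(f.fiber y) := by
  haveI : LocallyOfFinitePresentation f := Groth.Agent.H1.EtNhd.lfp_of_lft_of_noetherian f
  have hC := Groth.Agent.H1.FibDim.isLocallyConstructible_fiber_dim f
    (topologicalKrullDim ↥(f.fiber y))
  refine ⟨_, mem_nhds_of_isLocallyConstructible hC y ?_, fun z hz => hz⟩
  intro η hη
  show topologicalKrullDim ↥(f.fiber η) = topologicalKrullDim ↥(f.fiber y)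
  apply le_antisymm _ (fibre_dims_subset_of_isOpenAt f y η hη h).2
  apply dim_fiber_le_of_forall
  intro x hx
  by_contra hcon
  have hop := isOpen_fibreDimAt_le' f (topologicalKrullDim ↥(f.fiber y))
  have hcl : IsClosed (f.base '' {x : X | FlatMor.fibreDimAt f x ≤
      topologicalKrullDim ↥(f.fiber y)}ᶜ) := f.isClosedMap _ hop.isClosed_compl
  have hηC : η ∈ f.base '' {x : X | FlatMor.fibreDimAt f x ≤
      topologicalKrullDim ↥(f.fiber y)}ᶜ := ⟨x, hcon, hx⟩
  have hyC := hη.mem_closed hcl hηC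
  obtain ⟨x', hx'1, hx'2⟩ := hyC
  exact hx'1 (fibreDimAt_le_dim_fiber f x' y hx'2)

theorem s4922 [IsLocallyNoetherian Y]
    (f : X ⟶ Y) [LocallyOfFiniteType f] [QuasiCompact f] (hf : IsOpenMap f.base) (y : Y)
    (h : ∀ η : Y, y ∈ closure {η} → closure {η} ∈ irreducibleComponents (Y : Type u) →
      topologicalKrullDim ↥(f.fiber y) = topologicalKrullDim ↥(f.fiber η)) :
    ∃ V ∈ nhds y, ∀ z ∈ V,
      topologicalKrullDim ↥(f.fiber z) = topologicalKrullDim ↥(f.fiber y) := by
  haveI : LocallyOfFinitePresentation f := Groth.Agent.H1.EtNhd.lfp_of_lft_of_noetherian f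
  have hC := Groth.Agent.H1.FibDim.isLocallyConstructible_fiber_dim f
    (topologicalKrullDim ↥(f.fiber y))
  have hopen : ∀ x : X, EGA43.IsOpenAt f.base x := fun x =>
    Groth.Agent.H3.isOpenAt_of_isOpenMap _ hf x
  refine ⟨_, mem_nhds_of_isLocallyConstructible hC y ?_, fun z hz => hz⟩
  intro η hη
  show topologicalKrullDim ↥(f.fiber η) = topologicalKrullDim ↥(f.fiber y)
  apply le_antisymm _ (fibre_dims_subset_of_isOpenAt f y η hη (fun x _ => hopen x)).2
  obtain ⟨η', hη'⟩ := QuasiSober.sober (isIrreducible_irreducibleComponent (x := η))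
    isClosed_irreducibleComponent
  have hη'c : closure ({η'} : Set Y) = irreducibleComponent η := hη'
  have hη'η : η' ⤳ η := by
    rw [specializes_iff_mem_closure, hη'c]; exact mem_irreducibleComponent
  have h1 := (fibre_dims_subset_of_isOpenAt f η η' hη'η (fun x _ => hopen x)).2
  rw [h η' (specializes_iff_mem_closure.mp (hη'η.trans hη))
    (by rw [hη'c]; exact irreducibleComponent_mem_irreducibleComponents η)]
  exact h1

/-- the fibre of the restriction to an open subscheme, as a subset of the source. -/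
theorem dim_fiber_opens (f : X ⟶ Y) (U : X.Opens) (z : Y) :
    topologicalKrullDim ↥((U.ι ≫ f).fiber z) =
      topologicalKrullDim ↥((U : Set X) ∩ f.base ⁻¹' {z}) := by
  have hemb : IsEmbedding (fun p : ↥((U.ι ≫ f).fiber z) =>
      U.ι.base (((U.ι ≫ f).fiberι z).base p)) :=
    U.ι.isEmbedding.comp ((U.ι ≫ f).fiberι z).isEmbedding
  have h1 := IsHomeomorph.topologicalKrullDim_eq _ hemb.toHomeomorph.isHomeomorph
  rw [h1]
  have hrange : Set.range (fun p : ↥((U.ι ≫ f).fiber z) =>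
      U.ι.base (((U.ι ≫ f).fiberι z).base p)) = (U : Set X) ∩ f.base ⁻¹' {z} := by
    ext x
    constructor
    · rintro ⟨p, rfl⟩
      refine ⟨?_, ?_⟩
      · have h2 : U.ι.base (((U.ι ≫ f).fiberι z).base p) ∈ Set.range U.ι.base := ⟨_, rfl⟩
        rw [Scheme.Opens.range_ι] at h2
        exact h2
      · have h3 : ((U.ι ≫ f).fiberι z).base p ∈ Set.range ((U.ι ≫ f).fiberι z) := ⟨p, rfl⟩
        rw [Scheme.Hom.range_fiberι] at h3
        have h4 : (U.ι ≫ f).base (((U.ι ≫ f).fiberι z).base p) = z := h3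
        rw [Scheme.Hom.comp_apply] at h4
        exact h4
    · rintro ⟨hxU, hxz⟩
      have h2 : x ∈ Set.range U.ι.base := by rw [Scheme.Opens.range_ι]; exact hxU
      obtain ⟨u, rfl⟩ := h2
      have h3 : u ∈ Set.range ((U.ι ≫ f).fiberι z) := by
        rw [Scheme.Hom.range_fiberι]
        show (U.ι ≫ f).base u = z
        rw [Scheme.Hom.comp_apply]
        exact hxz
      obtain ⟨p, rfl⟩ := h3
      exact ⟨p, rfl⟩
  exact congrArg (fun A : Set X => topologicalKrullDim ↥A) hrange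

theorem s4924 [IsLocallyNoetherian Y]
    (f : X ⟶ Y) [LocallyOfFiniteType f] [QuasiCompact f] (hf : IsOpenMap f.base) (y : Y) :
    ∃ U : X.Opens, f.base ⁻¹' {y} ⊆ (U : Set X) ∧ ∃ V ∈ nhds y, ∀ z ∈ V,
      topologicalKrullDim ↥((U : Set X) ∩ f.base ⁻¹' {z}) =
        topologicalKrullDim ↥((U : Set X) ∩ f.base ⁻¹' {y}) := by
  haveI : IsLocallyNoetherian X := LocallyOfFiniteType.isLocallyNoetherian f
  let U : X.Opens := ⟨{x : X | FlatMor.fibreDimAt f x ≤ topologicalKrullDim ↥(f.fiber y)},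
    isOpen_fibreDimAt_le' f _⟩
  have hyU : f.base ⁻¹' {y} ⊆ (U : Set X) := fun x hx => fibreDimAt_le_dim_fiber f x y hx
  refine ⟨U, hyU, ?_⟩
  haveI : LocallyOfFinitePresentation (U.ι ≫ f) :=
    Groth.Agent.H1.EtNhd.lfp_of_lft_of_noetherian (U.ι ≫ f)
  have hgopen : ∀ u : U.toScheme, EGA43.IsOpenAt (U.ι ≫ f).base u := by
    intro u
    have h1 : IsOpenMap (fun u : U.toScheme => f.base (U.ι.base u)) :=
      hf.comp U.ι.isOpenEmbedding.isOpenMap
    exact Groth.Agent.H3.isOpenAt_of_isOpenMap _ h1 u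
  have hC := Groth.Agent.H1.FibDim.isLocallyConstructible_fiber_dim (U.ι ≫ f)
    (topologicalKrullDim ↥((U.ι ≫ f).fiber y))
  have hle : ∀ z : Y, topologicalKrullDim ↥((U.ι ≫ f).fiber z) ≤
      topologicalKrullDim ↥(f.fiber y) := by
    intro z
    apply dim_fiber_le_of_forall
    intro u _
    rw [Groth.Agent.H1.CMQF.fibreDimAt_comp_isOpenImmersion U.ι f u]
    have h2 : U.ι.base u ∈ Set.range U.ι.base := ⟨_, rfl⟩
    rw [Scheme.Opens.range_ι] at h2
    exact h2
  have hge : topologicalKrullDim ↥(f.fiber y) ≤ topologicalKrullDim ↥((U.ι ≫ f).fiber y) := by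
    apply dim_fiber_le_of_forall
    intro x hx
    have h2 : x ∈ Set.range U.ι.base := by rw [Scheme.Opens.range_ι]; exact hyU hx
    obtain ⟨u, rfl⟩ := h2
    rw [← Groth.Agent.H1.CMQF.fibreDimAt_comp_isOpenImmersion U.ι f u]
    apply fibreDimAt_le_dim_fiber
    rw [Scheme.Hom.comp_apply]
    exact hx
  refine ⟨_, mem_nhds_of_isLocallyConstructible hC y ?_, fun z hz => ?_⟩
  · intro η hη
    show topologicalKrullDim ↥((U.ι ≫ f).fiber η) = topologicalKrullDim ↥((U.ι ≫ f).fiber y)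
    apply le_antisymm ((hle η).trans hge)
    exact (fibre_dims_subset_of_isOpenAt (U.ι ≫ f) y η hη (fun u _ => hgopen u)).2
  · have hz' : topologicalKrullDim ↥((U.ι ≫ f).fiber z) =
        topologicalKrullDim ↥((U.ι ≫ f).fiber y) := hz
    rw [← dim_fiber_opens f U z, ← dim_fiber_opens f U y]
    exact hz'

end Groth.Agent.H1.FibComp
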