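import Mathlib

set_option autoImplicit false
universe u

namespace Groth.Agent.H1.ResFin

open AlgebraicGeometry CategoryTheory Limits

theorem finite_residueField_map {A B : Type u} [CommRing A] [CommRing B] [IsLocalRing A]
    [IsLocalRing B] (ψ : A →+* B) [IsLocalHom ψ] (h : ψ.QuasiFinite) :
    (IsLocalRing.ResidueField.map ψ).Finite := by
  algebraize [ψ]
  haveI : IsLocalHom (algebraMap A B) := ‹IsLocalHom ψ›
  haveI : Algebra.QuasiFinite A (IsLocalRing.ResidueField B) :=
    inferInstanceAs (Algebra.QuasiFinite A (B ⧸ IsLocalRing.maximalIdeal B))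
  haveI : Algebra.QuasiFinite (IsLocalRing.ResidueField A) (IsLocalRing.ResidueField B) :=
    Algebra.QuasiFinite.of_restrictScalars A _ _
  have : Module.Finite (IsLocalRing.ResidueField A) (IsLocalRing.ResidueField B) :=
    Module.Finite.of_quasiFinite
  have heq : algebraMap (IsLocalRing.ResidueField A) (IsLocalRing.ResidueField B) =
      IsLocalRing.ResidueField.map ψ := by
    ext z
    obtain ⟨a, rfl⟩ := IsLocalRing.residue_surjective z
    rfl
  rw [← heq]
  exact RingHom.finite_algebraMap.mpr this

theorem finite_residueFieldMap_of_quasiFiniteAt {X S : Scheme.{u}} (f : X ⟶ S) {x : X}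
    (hx : f.QuasiFiniteAt x) : (f.residueFieldMap x).hom.Finite :=
  finite_residueField_map (f.stalkMap x).hom hx

end Groth.Agent.H1.ResFin
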