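import Mathlib
import Groth.Agent.Lib.Helper1.AlgSpDim
import Groth.Agent.Lib.Helper1.ResFin

/-! Closed points over Jacobson schemes have residue transcendence degree 0. -/

set_option autoImplicit false
universe u
open CategoryTheory CategoryTheory.Limits AlgebraicGeometry

namespace Groth.Agent.H1.JacobsonTrdeg

/-- A point of the source of a locally quasi-finite morphism lying over a closed point is closed. -/
theorem isClosed_singleton_of_locallyQuasiFinite {X Y : Scheme.{u}} (p : X ⟶ Y)
    [LocallyQuasiFinite p] (x : X) (h : IsClosed ({p x} : Set Y)) : IsClosed ({x} : Set X) := by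
  refine isClosed_of_subset_discrete_closed (t := p ⁻¹' {p x}) ?_
    (p.isDiscrete_preimage_singleton (p x)) (h.preimage p.continuous)
  intro z hz
  rw [Set.mem_singleton_iff] at hz
  subst hz
  exact rfl

theorem resTrdeg_eq_zero_of_finite {X Y : Scheme.{u}} (f : X ⟶ Y) (x : X)
    (h : f.QuasiFiniteAt x) : Dual3.resTrdeg f x = 0 := by
  have hfin := Groth.Agent.H1.ResFin.finite_residueFieldMap_of_quasiFiniteAt f h
  unfold Dual3.resTrdeg
  letI := (f.residueFieldMap x).hom.toAlgebra
  haveI : Module.Finite (Y.residueField (f x)) (X.residueField x) := hfin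
  exact trdeg_eq_zero

/-- Stacks 01TB: a closed point of a scheme locally of finite type over a Jacobson scheme has residue
field finite over the residue field of its image; in particular of transcendence degree `0`. -/
theorem resTrdeg_eq_zero_of_jacobson {X Y : Scheme.{u}} (f : X ⟶ Y) [LocallyOfFiniteType f]
    [JacobsonSpace Y] (x : X) (hx : IsClosed ({x} : Set X)) : Dual3.resTrdeg f x = 0 := by
  haveI := isClosed_singleton_iff_isClosedImmersion.mp hx
  haveI : IsFinite (X.fromSpecResidueField x ≫ f) :=
    (isFinite_iff_locallyOfFiniteType_of_jacobsonSpace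
      (f := X.fromSpecResidueField x ≫ f)).mpr inferInstance
  set pt : ↥(Spec (X.residueField x)) := IsLocalRing.closedPoint (X.residueField x) with hpt
  have h0 : Dual3.resTrdeg (X.fromSpecResidueField x ≫ f) pt = 0 :=
    resTrdeg_eq_zero_of_finite _ pt ((X.fromSpecResidueField x ≫ f).quasiFiniteAt pt)
  rw [Groth.Agent.H1.AlgSpDim.resTrdeg_comp] at h0
  have h1 : Dual3.resTrdeg f (X.fromSpecResidueField x pt) = 0 := by
    have := add_eq_zero.mp h0
    exact this.1
  rwa [Scheme.fromSpecResidueField_apply] at h1

end Groth.Agent.H1.JacobsonTrdeg
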