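import Mathlib

set_option autoImplicit false
universe u

namespace Groth.Agent.H1.QFIsolated


open AlgebraicGeometry CategoryTheory Limits

/-- a point of a scheme-theoretic fibre is isolated iff the morphism is quasi-finite there. -/
theorem isOpen_singleton_fiber_iff {X Y : Scheme.{u}} (f : X ⟶ Y) [LocallyOfFiniteType f] (y : Y)
    (z : f.fiber y) : IsOpen ({z} : Set (f.fiber y)) ↔ f.QuasiFiniteAt (f.fiberι y z) := by
  have key : ∀ (y : Y) (x : X) (h : f x = y) (z : f.fiber y), f.fiberι y z = x →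
      (IsOpen ({z} : Set (f.fiber y)) ↔ f.QuasiFiniteAt x) := by
    intro y x h z hz
    subst h
    have : z = f.asFiber x := by
      apply (f.fiberHomeo (f x)).injective
      apply Subtype.ext
      rw [Scheme.Hom.fiberHomeo_apply, hz, Scheme.Hom.fiberHomeo_apply, Scheme.Hom.fiberι_asFiber]
    rw [this]
    exact Scheme.Hom.quasiFiniteAt_iff_isOpen_singleton_asFiber.symm
  have hmem : f.fiberι y z ∈ f ⁻¹' {y} := by
    rw [← f.range_fiberι y]; exact ⟨z, rfl⟩
  exact key y (f.fiberι y z) hmem z rfl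

/-- quasi-finite at a point iff the point is isolated in its set-theoretic fibre. -/
theorem quasiFiniteAt_iff_isolated {X Y : Scheme.{u}} (f : X ⟶ Y) [LocallyOfFiniteType f] (x : X) :
    f.QuasiFiniteAt x ↔ ∃ O : X.Opens, x ∈ O ∧ ∀ x' ∈ O, f x' = f x → x' = x := by
  rw [Scheme.Hom.quasiFiniteAt_iff_isOpen_singleton_asFiber,
    ← (f.fiberHomeo (f x)).isOpen_image, Set.image_singleton]
  have hx : f.fiberHomeo (f x) (f.asFiber x) = ⟨x, rfl⟩ := by
    apply Subtype.ext
    rw [Scheme.Hom.fiberHomeo_apply, Scheme.Hom.fiberι_asFiber]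
  rw [hx, isOpen_induced_iff]
  constructor
  · rintro ⟨O, hO, hOx⟩
    refine ⟨⟨O, hO⟩, ?_, ?_⟩
    · have : (⟨x, rfl⟩ : f ⁻¹' {f x}) ∈ Subtype.val ⁻¹' O := by rw [hOx]; rfl
      exact this
    · intro x' hx' hfx'
      have : (⟨x', hfx'⟩ : f ⁻¹' {f x}) ∈ Subtype.val ⁻¹' O := hx'
      rw [hOx] at this
      exact congrArg Subtype.val this
  · rintro ⟨O, hxO, hO⟩
    refine ⟨O, O.2, ?_⟩
    ext ⟨x', hx'⟩
    constructor
    · intro h
      exact Subtype.ext (hO x' h hx')
    · intro h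
      have : x' = x := congrArg Subtype.val h
      subst this
      exact hxO

/-- descent of quasi-finiteness at a point along an étale base change. -/
theorem quasiFiniteAt_of_snd {X S U : Scheme.{u}} (f : X ⟶ S) [LocallyOfFiniteType f]
    (g : U ⟶ S) [Etale g] (w : ↑(pullback f g))
    (hw : (pullback.snd f g).QuasiFiniteAt w) : f.QuasiFiniteAt (pullback.fst f g w) := by
  set fst := pullback.fst f g
  set snd := pullback.snd f g
  obtain ⟨O', hwO', hO'⟩ := (quasiFiniteAt_iff_isolated snd w).mp hw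
  haveI : LocallyQuasiFinite g := by
    rw [HasRingHomProperty.iff_appLE (P := @LocallyQuasiFinite)]
    intro U V e
    have h1 : (g.appLE U.1 V.1 e).hom.FiniteType := g.finiteType_appLE U.2 V.2 e
    have h2 : (g.appLE U.1 V.1 e).hom.FormallyUnramified :=
      FormallyUnramified.formallyUnramified_appLE g U.2 V.2 e
    algebraize [(g.appLE U.1 V.1 e).hom]
    exact RingHom.quasiFinite_algebraMap.mpr inferInstance
  obtain ⟨U₀, huU₀, hU₀⟩ := (quasiFiniteAt_iff_isolated g (snd w)).mp (g.quasiFiniteAt _)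
  rw [quasiFiniteAt_iff_isolated]
  let N : (pullback f g).Opens := O' ⊓ snd ⁻¹ᵁ U₀
  have hopen : IsOpen (fst '' (N : Set ↑(pullback f g))) := fst.isOpenMap _ N.2
  refine ⟨⟨_, hopen⟩, ⟨w, ⟨hwO', huU₀⟩, rfl⟩, ?_⟩
  rintro _ ⟨p, ⟨hp1, hp2⟩, rfl⟩ hfp
  have hcond : ∀ q : ↑(pullback f g), f (fst q) = g (snd q) := by
    intro q
    rw [← Scheme.Hom.comp_apply, ← Scheme.Hom.comp_apply, pullback.condition]
  have h1 : g (snd p) = g (snd w) := by rw [← hcond, ← hcond]; exact hfp
  have h2 : snd p = snd w := hU₀ _ hp2 h1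
  have h3 : p = w := hO' p hp1 h2
  rw [h3]

end Groth.Agent.H1.QFIsolated
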