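import Mathlib
import Groth.Prelude.Def_EGA43
import Groth.Agent.Lib.Helper1.CondT
import Groth.Agent.Lib.Helper1.GenPts
import Groth.Agent.Lib.Helper1.GenComp
import Groth.Agent.Lib.Helper1.EquidimLocC
import Groth.Agent.Lib.Helper1.UO14C

set_option autoImplicit false
set_option linter.style.haveILetI false

universe u

namespace Groth.Agent.H1.EquidimComp

open AlgebraicGeometry CategoryTheory CategoryTheory.Limits TopologicalSpace Topology

variable {X Y : Scheme.{u}}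

/-- every point has a maximal generization. -/
theorem exists_maximal_generization (x : X) :
    ∃ ξ : X, (∀ z : X, z ⤳ ξ → z = ξ) ∧ ξ ⤳ x := by
  have hW := irreducibleComponent_mem_irreducibleComponents x
  obtain ⟨ξ, hξ⟩ := QuasiSober.sober hW.1 isClosed_irreducibleComponent
  have hξc : closure ({ξ} : Set X) = irreducibleComponent x := hξ.def
  refine ⟨ξ, fun z hz =>
    Groth.Agent.H1.EquidimLoc.eq_of_specializes_of_closure_mem_irreducibleComponents ξ
      (by rw [hξc]; exact hW) z hz, ?_⟩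
  rw [specializes_iff_mem_closure, hξc]
  exact mem_irreducibleComponent

/-- **Lemma A'**: the local fibre dimension at a fibre-maximal point `z` of a closed set `W` is
at most the local dimension of `W ∩ f⁻¹(f x)` at any specialization `x ∈ W` of `z`. -/
theorem fibreDimAt_le_localDim_closed (f : X ⟶ Y) [LocallyOfFiniteType f] (W : Set X)
    (hW : IsClosed W) (z x : X) (hzW : z ∈ W) (hxW : x ∈ W) (hzx : z ⤳ x)
    (hmax : ∀ z' : X, f.base z' = f.base z → z' ⤳ z → z' = z) :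
    FlatMor.fibreDimAt f z ≤
      FlatMor.localDim ↥(W ∩ f.base ⁻¹' {f.base x}) ⟨x, ⟨hxW, rfl⟩⟩ := by
  obtain ⟨T, ι, hι, hr⟩ : ∃ (T : Scheme.{u}) (ι : T ⟶ X),
      IsClosedImmersion ι ∧ Set.range ι.base = W :=
    ⟨_, (Scheme.IdealSheafData.vanishingIdeal ⟨W, hW⟩).subschemeι, inferInstance,
      (Scheme.IdealSheafData.range_subschemeι _).trans
        (Scheme.IdealSheafData.coe_support_vanishingIdeal _)⟩
  haveI := hι
  subst hr
  obtain ⟨t, rfl⟩ := hzW
  obtain ⟨w, rfl⟩ := hxW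
  have hemb : IsEmbedding ι.base := ι.isEmbedding
  have htw : t ⤳ w := hemb.isInducing.specializes_iff.mp hzx
  have h1 := Groth.Agent.H1.CondT.fibreDimAt_comp_eq_of_fibreMax ι f t hmax
  have h2 := Groth.Agent.H1.EquidimLoc.fibreDimAt_le_of_specializes (ι ≫ f) htw
  have h3 := Groth.Agent.H1.UO14.fibreDimAt_comp_of_isEmbedding ι hemb f w
  rw [← h1]
  exact h2.trans h3.le

theorem closure_image_closure_singleton (f : X ⟶ Y) (ξ : X) :
    closure (f.base '' closure ({ξ} : Set X)) = closure ({f.base ξ} : Set Y) := by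
  rw [closure_image_closure f.continuous, Set.image_singleton]

theorem s3456_mp (f : X ⟶ Y) [LocallyOfFiniteType f] (x : X)
    (hf : EGA43.IsEquidimAt f x) :
    ∃ e : ℕ, ∀ Xj ∈ irreducibleComponents (X : Type u), ∀ hx : x ∈ Xj,
      closure (f.base '' Xj) ∈ irreducibleComponents (Y : Type u) ∧
      (∀ η : Y, closure ({η} : Set Y) = closure (f.base '' Xj) →
        topologicalKrullDim ↥(Xj ∩ f.base ⁻¹' {η}) = e) ∧
      FlatMor.localDim ↥(Xj ∩ f.base ⁻¹' {f.base x})
        ⟨x, ⟨hx, Set.mem_singleton (f.base x)⟩⟩ = e := by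
  obtain ⟨e, U, hxU, hfd, hgen⟩ := Groth.Agent.H1.HypSec.exists_generic_of_isEquidimAt f x hf
  refine ⟨e, ?_⟩
  intro Xj hXj hx
  have hcl : IsClosed Xj := isClosed_of_mem_irreducibleComponents _ hXj
  obtain ⟨ξ, hξ⟩ := QuasiSober.sober hXj.1 hcl
  have hξc : closure ({ξ} : Set X) = Xj := hξ.def
  subst hξc
  have hξmax : ∀ z : X, z ⤳ ξ → z = ξ := fun z hz =>
    Groth.Agent.H1.EquidimLoc.eq_of_specializes_of_closure_mem_irreducibleComponents ξ hXj z hz
  have hξx : ξ ⤳ x := specializes_iff_mem_closure.mpr hx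
  have hξU : ξ ∈ U := hξx.mem_open U.isOpen hxU
  have himg := closure_image_closure_singleton f ξ
  refine ⟨?_, ?_, ?_⟩
  · rw [himg]; exact hgen ξ hξU hξmax
  · intro η hη
    rw [himg] at hη
    have hηe : η = f.base ξ :=
      IsGenericPoint.eq (isGenericPoint_def.mpr hη) (isGenericPoint_def.mpr rfl)
    subst hηe
    have h := Groth.Agent.H1.GenComp.dim_closure_inter_fibre f ξ hξmax (f.base ξ) rfl
    exact h.trans (hfd ξ hξU)
  · apply le_antisymm
    · have h1 := Groth.Agent.H1.UO14.localDim_mono_set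
        (S := closure ({ξ} : Set X) ∩ f.base ⁻¹' {f.base x}) (S' := f.base ⁻¹' {f.base x})
        Set.inter_subset_right x ⟨hx, rfl⟩
      have h2 := Groth.Agent.H1.UO14.fibreDimAt_eq_localDim_preimage f x (f.base x) rfl
      exact h1.trans_eq (h2.symm.trans (hfd x hxU))
    · have h3 := fibreDimAt_le_localDim_closed f (closure ({ξ} : Set X)) isClosed_closure ξ x
        (subset_closure rfl) hx hξx (fun z _ hz => hξmax z hz)
      rw [hfd ξ hξU] at h3
      exact h3

theorem s3456_mpr [IsLocallyNoetherian Y] (f : X ⟶ Y) [LocallyOfFiniteType f] (x : X) (e : ℕ)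
    (h : ∀ Xj ∈ irreducibleComponents (X : Type u), ∀ hx : x ∈ Xj,
      closure (f.base '' Xj) ∈ irreducibleComponents (Y : Type u) ∧
      (∀ η : Y, closure ({η} : Set Y) = closure (f.base '' Xj) →
        topologicalKrullDim ↥(Xj ∩ f.base ⁻¹' {η}) = e) ∧
      FlatMor.localDim ↥(Xj ∩ f.base ⁻¹' {f.base x})
        ⟨x, ⟨hx, Set.mem_singleton (f.base x)⟩⟩ = e) :
    EGA43.IsEquidimAt f x := by
  haveI : IsLocallyNoetherian X := LocallyOfFiniteType.isLocallyNoetherian f
  obtain ⟨U₁, hU₁, hxU₁⟩ : ∃ U₁ : X.Opens, IsAffineOpen U₁ ∧ x ∈ U₁ := by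
    obtain ⟨_, ⟨V, hV, rfl⟩, hz, -⟩ :=
      X.isBasis_affineOpens.exists_subset_of_mem_open (Set.mem_univ x) isOpen_univ
    exact ⟨V, hV, hz⟩
  haveI : IsNoetherianRing Γ(X, U₁) := IsLocallyNoetherian.component_noetherian ⟨U₁, hU₁⟩
  obtain ⟨U₀, hxU₀, -, hU₀⟩ := Groth.Agent.H1.EquidimLoc.exists_open_forall_generic_specializes
    x U₁ hU₁ hxU₁ (minimalPrimes.finite_of_isNoetherianRing _)
  -- facts for a maximal point specializing to `x`
  have key : ∀ ξ : X, (∀ z : X, z ⤳ ξ → z = ξ) → ξ ⤳ x →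
      closure ({f.base ξ} : Set Y) ∈ irreducibleComponents (Y : Type u) ∧
      FlatMor.fibreDimAt f ξ = e ∧
      ∀ z : X, z ∈ closure ({ξ} : Set X) → z ⤳ x →
        (∀ z' : X, f.base z' = f.base z → z' ⤳ z → z' = z) →
        FlatMor.fibreDimAt f z ≤ e := by
    intro ξ hξmax hξx
    have hXj := Groth.Agent.H1.GenPts.closure_singleton_mem_irreducibleComponents ξ hξmax
    have hx : x ∈ closure ({ξ} : Set X) := specializes_iff_mem_closure.mp hξx
    obtain ⟨h1, h2, h3⟩ := h _ hXj hx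
    have himg := closure_image_closure_singleton f ξ
    rw [himg] at h1 h2
    refine ⟨h1, ?_, ?_⟩
    · rw [← Groth.Agent.H1.GenComp.dim_closure_inter_fibre f ξ hξmax (f.base ξ) rfl]
      exact h2 (f.base ξ) rfl
    · intro z hz hzx hzmax
      rw [← h3]
      exact fibreDimAt_le_localDim_closed f _ isClosed_closure z x hz hx hzx hzmax
  -- the fibre dimension at `x`
  have hxe : FlatMor.fibreDimAt f x ≤ (e : WithBot ℕ∞) := by
    obtain ⟨z, hfz, hzx, hzmax, hdz⟩ :=
      Groth.Agent.H1.FibGen.exists_fibre_generic_fibreDimAt_eq f x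
    obtain ⟨ξ, hξmax, hξz⟩ := exists_maximal_generization z
    rw [← hdz]
    refine (key ξ hξmax (hξz.trans hzx)).2.2 z (specializes_iff_mem_closure.mp hξz) hzx ?_
    intro z' hz' hsp
    exact hzmax z' (hz'.trans hfz) hsp
  have hop : IsOpen {t : X | FlatMor.fibreDimAt f t ≤ (e : WithBot ℕ∞)} :=
    Groth.Agent.H1.Chev.isOpen_fibreDimAt_le f e
  refine Groth.Agent.H1.EquidimLoc.isEquidimAt_of_generic f x (U₀ ⊓ ⟨_, hop⟩) ⟨hxU₀, hxe⟩ e ?_ ?_
  · rintro x' ⟨hx'U₀, hx'e⟩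
    have hx'e' : FlatMor.fibreDimAt f x' ≤ (e : WithBot ℕ∞) := hx'e
    refine le_antisymm hx'e' ?_
    obtain ⟨ξ, hξmax, hξx'⟩ := exists_maximal_generization x'
    have hξU₀ : ξ ∈ U₀ := hξx'.mem_open U₀.isOpen hx'U₀
    have hξx : ξ ⤳ x := hU₀ ξ hξU₀ hξmax
    rw [← (key ξ hξmax hξx).2.1]
    exact Groth.Agent.H1.EquidimLoc.fibreDimAt_le_of_specializes f hξx'
  · rintro ξ ⟨hξU₀, -⟩ hξmax
    have hξx : ξ ⤳ x := hU₀ ξ hξU₀ hξmax
    exact ⟨(key ξ hξmax hξx).1, specializes_iff_mem_closure.mp (hξx.map f.continuous)⟩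

theorem s3456 [IsLocallyNoetherian Y] (f : X ⟶ Y) [LocallyOfFiniteType f] (x : X) :
    EGA43.IsEquidimAt f x ↔
      ∃ e : ℕ, ∀ Xj ∈ irreducibleComponents (X : Type u), ∀ hx : x ∈ Xj,
        closure (f.base '' Xj) ∈ irreducibleComponents (Y : Type u) ∧
        (∀ η : Y, closure ({η} : Set Y) = closure (f.base '' Xj) →
          topologicalKrullDim ↥(Xj ∩ f.base ⁻¹' {η}) = e) ∧
        FlatMor.localDim ↥(Xj ∩ f.base ⁻¹' {f.base x})
          ⟨x, ⟨hx, Set.mem_singleton (f.base x)⟩⟩ = e :=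
  ⟨s3456_mp f x, fun ⟨e, h⟩ => s3456_mpr f x e h⟩

end Groth.Agent.H1.EquidimComp
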