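import Mathlib

set_option autoImplicit false
set_option linter.style.haveILetI false

universe u

namespace Groth.Agent.H1.ValDim

/-- a reflexive, total, transitive relation has a least element on every nonempty finset. -/
theorem exists_least {α : Type*} (r : α → α → Prop) (hrefl : ∀ x, r x x)
    (htot : ∀ x y, r x y ∨ r y x) (htrans : ∀ x y z, r x y → r y z → r x z)
    (F : Finset α) (hF : F.Nonempty) : ∃ m ∈ F, ∀ x ∈ F, r m x := by
  classical
  induction F using Finset.induction_on with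
  | empty => exact absurd hF Finset.not_nonempty_empty
  | insert a s ha ih =>
    by_cases hs : s.Nonempty
    · obtain ⟨m, hm, hmin⟩ := ih hs
      rcases htot a m with h | h
      · refine ⟨a, Finset.mem_insert_self a s, fun x hx => ?_⟩
        rcases Finset.mem_insert.mp hx with rfl | hx
        · exact hrefl _
        · exact htrans _ _ _ h (hmin x hx)
      · refine ⟨m, Finset.mem_insert_of_mem hm, fun x hx => ?_⟩
        rcases Finset.mem_insert.mp hx with rfl | hx
        · exact h
        · exact hmin x hx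
    · rw [Finset.not_nonempty_iff_eq_empty] at hs
      subst hs
      refine ⟨a, Finset.mem_insert_self a ∅, fun x hx => ?_⟩
      rcases Finset.mem_insert.mp hx with rfl | hx
      · exact hrefl _
      · exact absurd hx (Finset.notMem_empty x)

variable {R S : Type u} [CommRing R] [CommRing S] [Algebra R S]

theorem aeval_mem_of_coeff_mem {ι : Type*} (I : Ideal R) (J : Ideal S)
    (hIJ : I ≤ J.comap (algebraMap R S)) (t : ι → S) (b : MvPolynomial ι R)
    (hb : ∀ ν, b.coeff ν ∈ I) : MvPolynomial.aeval t b ∈ J := by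
  have h1 : MvPolynomial.aeval t b =
      MvPolynomial.aeval t (∑ v ∈ b.support, MvPolynomial.monomial v (b.coeff v)) := by
    rw [← b.as_sum]
  rw [h1, map_sum]
  refine J.sum_mem fun ν _ => ?_
  rw [MvPolynomial.aeval_monomial]
  exact J.mul_mem_right _ (hIJ (hb ν))

/-- **Key lemma** (valuation rings): linear independence of monomials modulo `(p, q)` lifts to
linear independence modulo `(p', q')` when `R/p'` is a valuation ring. -/
theorem coeff_mem_of_aeval_mem {ι : Type*} (p' p : Ideal R) (q' q : Ideal S) [p'.IsPrime]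
    [p.IsPrime] [q'.IsPrime]
    (hp'q' : q'.comap (algebraMap R S) = p') (hq'q : q' ≤ q)
    (hval : ∀ a b : R, ∃ c : R, a - c * b ∈ p' ∨ b - c * a ∈ p')
    (t : ι → S)
    (H : ∀ b : MvPolynomial ι R, MvPolynomial.aeval t b ∈ q → ∀ μ, b.coeff μ ∈ p)
    (a : MvPolynomial ι R) (ha : MvPolynomial.aeval t a ∈ q') (μ : ι →₀ ℕ) :
    a.coeff μ ∈ p' := by
  classical
  by_contra hμ
  set F : Finset (ι →₀ ℕ) := a.support.filter (fun ν => a.coeff ν ∉ p') with hF
  have hmemF : ∀ ν, a.coeff ν ∉ p' → ν ∈ F := by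
    intro ν hν
    rw [hF, Finset.mem_filter, MvPolynomial.mem_support_iff]
    exact ⟨fun h0 => hν (by rw [h0]; exact p'.zero_mem), hν⟩
  have hFne : F.Nonempty := ⟨μ, hmemF μ hμ⟩
  let r : (ι →₀ ℕ) → (ι →₀ ℕ) → Prop := fun ν₁ ν₂ =>
    ∃ d : R, a.coeff ν₂ - a.coeff ν₁ * d ∈ p'
  have hrefl : ∀ x, r x x := fun x => ⟨1, by rw [mul_one, sub_self]; exact p'.zero_mem⟩
  have htot : ∀ x y, r x y ∨ r y x := by
    intro x y
    obtain ⟨c, hc | hc⟩ := hval (a.coeff x) (a.coeff y)
    · right; exact ⟨c, by rwa [mul_comm]⟩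
    · left; exact ⟨c, by rwa [mul_comm]⟩
  have htrans : ∀ x y z, r x y → r y z → r x z := by
    rintro x y z ⟨d, hd⟩ ⟨d', hd'⟩
    refine ⟨d * d', ?_⟩
    have : a.coeff z - a.coeff x * (d * d') =
        (a.coeff z - a.coeff y * d') + (a.coeff y - a.coeff x * d) * d' := by ring
    rw [this]
    exact p'.add_mem hd' (p'.mul_mem_right _ hd)
  obtain ⟨μ₀, hμ₀F, hmin⟩ := exists_least r hrefl htot htrans F hFne
  have hμ₀ : a.coeff μ₀ ∉ p' := (Finset.mem_filter.mp hμ₀F).2
  have hμ₀s : μ₀ ∈ a.support := (Finset.mem_filter.mp hμ₀F).1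
  have hd : ∀ ν, ∃ d : R, a.coeff ν - a.coeff μ₀ * d ∈ p' := by
    intro ν
    by_cases hν : ν ∈ F
    · exact hmin ν hν
    · refine ⟨0, ?_⟩
      rw [mul_zero, sub_zero]
      by_contra hne
      exact hν (hmemF ν hne)
  choose d hd using hd
  have hd' : ∀ ν, a.coeff ν - a.coeff μ₀ * Function.update d μ₀ 1 ν ∈ p' := by
    intro ν
    by_cases hν : ν = μ₀
    · rw [hν, Function.update_self, mul_one, sub_self]; exact p'.zero_mem
    · rw [Function.update_of_ne hν]
      exact hd ν
  set g : MvPolynomial ι R :=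
    ∑ ν ∈ a.support, MvPolynomial.monomial ν (Function.update d μ₀ 1 ν) with hg
  have hgcoeff : ∀ ν, g.coeff ν = if ν ∈ a.support then Function.update d μ₀ 1 ν else 0 := by
    intro ν
    rw [hg, MvPolynomial.coeff_sum]
    simp only [MvPolynomial.coeff_monomial]
    rw [Finset.sum_ite_eq' a.support ν]
  have hdiff : ∀ ν, (a - MvPolynomial.C (a.coeff μ₀) * g).coeff ν ∈ p' := by
    intro ν
    rw [MvPolynomial.coeff_sub, MvPolynomial.coeff_C_mul, hgcoeff]
    split_ifs with hν
    · exact hd' ν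
    · rw [MvPolynomial.notMem_support_iff.mp hν, mul_zero, sub_zero]; exact p'.zero_mem
  have hmem : MvPolynomial.aeval t (a - MvPolynomial.C (a.coeff μ₀) * g) ∈ q' :=
    aeval_mem_of_coeff_mem p' q' hp'q'.ge t _ hdiff
  rw [map_sub, map_mul, MvPolynomial.aeval_C] at hmem
  have h2 : algebraMap R S (a.coeff μ₀) * MvPolynomial.aeval t g ∈ q' := by
    have := q'.sub_mem ha hmem
    rwa [sub_sub_cancel] at this
  rcases Ideal.IsPrime.mem_or_mem inferInstance h2 with h3 | h3
  · apply hμ₀
    rw [← hp'q']; exact h3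
  · have h4 := H g (hq'q h3) μ₀
    rw [hgcoeff, if_pos hμ₀s, Function.update_self] at h4
    exact (Ideal.IsPrime.ne_top inferInstance) ((Ideal.eq_top_iff_one p).mpr h4)

section Quot

variable (p' p : Ideal R) (q' q : Ideal S) [p'.IsPrime] [p.IsPrime] [q'.IsPrime] [q.IsPrime]
  [q'.LiesOver p'] [q.LiesOver p]

theorem aeval_mk_map {ι : Type*} (I : Ideal R) (J : Ideal S) [J.LiesOver I] (t : ι → S)
    (a : MvPolynomial ι R) :
    MvPolynomial.aeval (fun i => Ideal.Quotient.mk J (t i))
      (MvPolynomial.map (Ideal.Quotient.mk I) a) = Ideal.Quotient.mk J (MvPolynomial.aeval t a) := by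
  rw [MvPolynomial.aeval_def, MvPolynomial.eval₂_map, MvPolynomial.aeval_def,
    MvPolynomial.eval₂_comp_left (Ideal.Quotient.mk J)]
  rfl

theorem algebraicIndependent_quotient {ι : Type*} (hq'q : q' ≤ q)
    (hval : ∀ a b : R, ∃ c : R, a - c * b ∈ p' ∨ b - c * a ∈ p') (t : ι → S)
    (h : AlgebraicIndependent (R ⧸ p) (fun i => Ideal.Quotient.mk q (t i))) :
    AlgebraicIndependent (R ⧸ p') (fun i => Ideal.Quotient.mk q' (t i)) := by
  rw [algebraicIndependent_iff] at h ⊢
  intro P hP
  obtain ⟨a, rfl⟩ := MvPolynomial.map_surjective (Ideal.Quotient.mk p')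
    Ideal.Quotient.mk_surjective P
  rw [aeval_mk_map p' q' t a, Ideal.Quotient.eq_zero_iff_mem] at hP
  have hp'q' : q'.comap (algebraMap R S) = p' := (Ideal.LiesOver.over (p := p') (P := q')).symm
  have key := coeff_mem_of_aeval_mem p' p q' q hp'q' hq'q hval t ?_ a hP
  · ext μ
    rw [MvPolynomial.coeff_map, MvPolynomial.coeff_zero, Ideal.Quotient.eq_zero_iff_mem]
    exact key μ
  · intro b hb μ
    have h1 := h (MvPolynomial.map (Ideal.Quotient.mk p) b) (by
      rw [aeval_mk_map p q t b, Ideal.Quotient.eq_zero_iff_mem]; exact hb)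
    have h2 := congrArg (MvPolynomial.coeff μ) h1
    rw [MvPolynomial.coeff_map, MvPolynomial.coeff_zero, Ideal.Quotient.eq_zero_iff_mem] at h2
    exact h2

/-- **Transcendence degrees of residue extensions do not grow under specialization over a
valuation ring.** -/
theorem trdeg_quotient_le (hq'q : q' ≤ q)
    (hval : ∀ a b : R, ∃ c : R, a - c * b ∈ p' ∨ b - c * a ∈ p') :
    Algebra.trdeg (R ⧸ p) (S ⧸ q) ≤ Algebra.trdeg (R ⧸ p') (S ⧸ q') := by
  rw [Algebra.trdeg]
  refine ciSup_le' fun s => ?_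
  let t : s.1 → S := fun x => Function.surjInv Ideal.Quotient.mk_surjective x.1
  have ht : ∀ x : s.1, Ideal.Quotient.mk q (t x) = x.1 := fun x =>
    Function.surjInv_eq Ideal.Quotient.mk_surjective x.1
  have h : AlgebraicIndependent (R ⧸ p) (fun x : s.1 => Ideal.Quotient.mk q (t x)) := by
    have h0 : AlgebraicIndependent (R ⧸ p) (fun x : s.1 => (x : S ⧸ q)) := s.2
    convert h0 using 1
    funext x
    exact ht x
  exact (algebraicIndependent_quotient p' p q' q hq'q hval t h).cardinalMk_le_trdeg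

end Quot

end Groth.Agent.H1.ValDim
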