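import Mathlib
import Groth.Prelude.Def_EGA43
import Groth.Agent.Lib.Helper1.ValDimA
import Groth.Agent.Lib.Helper1.DimLocC
import Groth.Agent.Lib.Helper1.EquidimComp
import Groth.Agent.Lib.Helper1.FibCompC
import Groth.Agent.Lib.Helper1.FibGen

set_option autoImplicit false
set_option linter.style.haveILetI false

universe u

namespace Groth.Agent.H1.ValDim

open AlgebraicGeometry CategoryTheory CategoryTheory.Limits TopologicalSpace Topology
open Groth.Agent.H1.DimLoc Groth.Agent.H1.DimIneq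

theorem hval_ΓSpec (A : Type u) [CommRing A] [IsDomain A] [ValuationRing A]
    (I : Ideal Γ(Spec (CommRingCat.of A), ⊤)) (a b : Γ(Spec (CommRingCat.of A), ⊤)) :
    ∃ c, a - c * b ∈ I ∨ b - c * a ∈ I := by
  let e : Γ(Spec (CommRingCat.of A), ⊤) ≃+* A :=
    (Scheme.ΓSpecIso (CommRingCat.of A)).commRingCatIsoToRingEquiv
  obtain ⟨c, hc | hc⟩ := ValuationRing.cond (e a) (e b)
  · refine ⟨e.symm c, Or.inr ?_⟩
    have : b = e.symm c * a := by
      apply e.injective
      rw [map_mul, e.apply_symm_apply, ← hc, mul_comm]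
    rw [this, sub_self]; exact I.zero_mem
  · refine ⟨e.symm c, Or.inl ?_⟩
    have : a = e.symm c * b := by
      apply e.injective
      rw [map_mul, e.apply_symm_apply, ← hc, mul_comm]
    rw [this, sub_self]; exact I.zero_mem

variable {A : Type u} [CommRing A] [IsDomain A] [ValuationRing A] {X : Scheme.{u}}

/-- **over a valuation ring, residue transcendence degrees do not grow under specialization.** -/
theorem resTrdeg_le_of_specializes (f : X ⟶ Spec (CommRingCat.of A)) {ξ z : X} (h : ξ ⤳ z) :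
    Dual3.resTrdeg f z ≤ Dual3.resTrdeg f ξ := by
  obtain ⟨_, ⟨U, hU, rfl⟩, hzU, -⟩ :=
    X.isBasis_affineOpens.exists_subset_of_mem_open (Set.mem_univ z) isOpen_univ
  have hξU : ξ ∈ U := h.mem_open U.isOpen hzU
  have hV : IsAffineOpen (⊤ : (Spec (CommRingCat.of A)).Opens) := isAffineOpen_top _
  have e : U ≤ f ⁻¹ᵁ ⊤ := fun _ _ => trivial
  letI algRS := (f.appLE ⊤ U e).hom.toAlgebra
  letI hlo := liesOver_primeIdealOf f hU hV e z hzU
  letI hlo' := liesOver_primeIdealOf f hU hV e ξ hξU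
  rw [resTrdeg_eq_trdeg_quotient f hU hV e z hzU, resTrdeg_eq_trdeg_quotient f hU hV e ξ hξU]
  exact trdeg_quotient_le (hV.primeIdealOf ⟨f ξ, e hξU⟩).asIdeal
    (hV.primeIdealOf ⟨f z, e hzU⟩).asIdeal
    (hU.primeIdealOf ⟨ξ, hξU⟩).asIdeal (hU.primeIdealOf ⟨z, hzU⟩).asIdeal
    (primeIdealOf_le_of_specializes hU z ξ hzU hξU h) (hval_ΓSpec A _)

theorem fibreDimAt_le_of_specializes_of_fibreMax (f : X ⟶ Spec (CommRingCat.of A))
    [LocallyOfFiniteType f] {ξ z : X} (h : ξ ⤳ z)
    (hz : ∀ z' : X, f z' = f z → z' ⤳ z → z' = z) :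
    FlatMor.fibreDimAt f z ≤ FlatMor.fibreDimAt f ξ := by
  obtain ⟨tz, htz, hdz⟩ := Groth.Agent.H1.DimFormula.fibreDimAt_eq_trdeg_of_generic f z hz
  obtain ⟨tξ, htξ, hdξ⟩ := Groth.Agent.H1.DimFormula.exists_fibreDimAt_eq_stalk_add_trdeg f ξ
  have h1 := resTrdeg_le_of_specializes f h
  have htz' : Dual3.resTrdeg f z = tz := htz
  have htξ' : Dual3.resTrdeg f ξ = tξ := htξ
  rw [htz', htξ'] at h1
  have h2 : tz ≤ tξ := by exact_mod_cast h1
  rw [hdz, hdξ]
  have h3 : (0 : WithBot ℕ∞) ≤
      ringKrullDim ((f.fiber (f ξ)).presheaf.stalk (f.asFiber ξ)) :=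
    ringKrullDim_nonneg_of_nontrivial
  calc ((tz : ℕ) : WithBot ℕ∞) ≤ (tξ : WithBot ℕ∞) := by exact_mod_cast h2
    _ ≤ _ := le_add_of_nonneg_left h3

theorem dim_fiber_eq_dim_preimage {Y : Scheme.{u}} (f : X ⟶ Y) (z : Y) :
    topologicalKrullDim ↥(f.fiber z) = topologicalKrullDim ↥(f.base ⁻¹' {z}) := by
  have hemb : IsEmbedding (f.fiberι z).base := (f.fiberι z).isEmbedding
  have h1 := IsHomeomorph.topologicalKrullDim_eq _ hemb.toHomeomorph.isHomeomorph
  rw [h1]
  exact congrArg (fun B : Set X => topologicalKrullDim ↥B) (Scheme.Hom.range_fiberι f z)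

theorem base_fiberι {Y : Scheme.{u}} (f : X ⟶ Y) (z : Y) (p : ↥(f.fiber z)) :
    f.base ((f.fiberι z).base p) = z := by
  have h : (f.fiberι z).base p ∈ Set.range (f.fiberι z) := ⟨p, rfl⟩
  rw [Scheme.Hom.range_fiberι] at h
  exact h

theorem s4932 [IrreducibleSpace X] (f : X ⟶ Spec (CommRingCat.of A))
    [LocallyOfFiniteType f] [IsDominant f]
    (h0 : Nonempty ↥(f.fiber (IsLocalRing.closedPoint A))) :
    topologicalKrullDim ↥(f.fiber (IsLocalRing.closedPoint A)) =
      topologicalKrullDim ↥(f.fiber (genericPoint (Spec (CommRingCat.of A)))) := by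
  have hξmax : ∀ z : X, z ⤳ genericPoint X → z = genericPoint X := fun z hz =>
    (hz.antisymm (genericPoint_specializes z)).eq
  have hcl : closure ({f.base (genericPoint X)} : Set (Spec (CommRingCat.of A))) = Set.univ := by
    have h1 := Groth.Agent.H1.EquidimComp.closure_image_closure_singleton f (genericPoint X)
    have hd : closure (Set.range f.base) = Set.univ := f.denseRange.closure_range
    rw [← h1, genericPoint_closure, Set.image_univ, hd]
  have hη : f.base (genericPoint X) = genericPoint (Spec (CommRingCat.of A)) :=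
    IsGenericPoint.eq (isGenericPoint_def.mpr hcl) (genericPoint_spec _)
  have hdim1 : topologicalKrullDim ↥(f.fiber (genericPoint (Spec (CommRingCat.of A)))) =
      FlatMor.fibreDimAt f (genericPoint X) := by
    rw [dim_fiber_eq_dim_preimage]
    have h1 := Groth.Agent.H1.GenComp.dim_closure_inter_fibre f (genericPoint X) hξmax _ hη
    rw [← h1]
    refine congrArg (fun B : Set X => topologicalKrullDim ↥B) ?_
    rw [genericPoint_closure, Set.univ_inter]
  rw [hdim1]
  apply le_antisymm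
  · apply Groth.Agent.H1.FibComp.dim_fiber_le_of_forall
    intro x hx
    obtain ⟨z, hfz, hzx, hzmax, hdz⟩ :=
      Groth.Agent.H1.FibGen.exists_fibre_generic_fibreDimAt_eq f x
    rw [← hdz]
    exact fibreDimAt_le_of_specializes_of_fibreMax f (genericPoint_specializes z)
      (fun z' h1 h2 => hzmax z' (h1.trans hfz) h2)
  · obtain ⟨p⟩ := h0
    have hfp : f.base ((f.fiberι (IsLocalRing.closedPoint A)).base p) =
        IsLocalRing.closedPoint A := base_fiberι f _ p
    exact (Groth.Agent.H1.EquidimLoc.fibreDimAt_le_of_specializes f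
      (genericPoint_specializes _)).trans
      (Groth.Agent.H1.FibComp.fibreDimAt_le_dim_fiber f _ _ hfp)

end Groth.Agent.H1.ValDim
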