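import Mathlib
import Groth.Prelude.Def_EGA43
import Groth.Agent.Lib.Helper1.ValDimB
import Groth.Agent.Lib.Helper1.FibDimBC
import Groth.Agent.Lib.Helper1.RelDim
import Groth.Agent.Lib.Helper2.OpenGen
import Groth.Agent.Lib.Helper3.FBaseDim

set_option autoImplicit false
set_option linter.style.haveILetI false

universe u

namespace Groth.Agent.H1.UOVal

open AlgebraicGeometry CategoryTheory CategoryTheory.Limits TopologicalSpace Topology

/-! ### Part A: valuation rings through a specialization -/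

set_option backward.isDefEq.respectTransparency.types false in
theorem exists_valuationRing_of_specializes {Y : Scheme.{u}} {y y' : Y} (h : y' ⤳ y) :
    ∃ (A : Type u) (_ : CommRing A) (_ : IsDomain A) (_ : ValuationRing A)
      (g : Spec (CommRingCat.of A) ⟶ Y) (t₀ η : Spec (CommRingCat.of A)),
      (∀ t : Spec (CommRingCat.of A), η ⤳ t) ∧ g t₀ = y ∧ g η = y' := by
  let φ : Y.presheaf.stalk y ⟶ Y.residueField y' :=
    Y.presheaf.stalkSpecializes h ≫ Y.residue y'
  obtain ⟨A, hA, hA_local⟩ := IsLocalRing.exists_factor_valuationRing φ.hom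
  let ψ : Y.presheaf.stalk y ⟶ CommRingCat.of A :=
    CommRingCat.ofHom (φ.hom.codRestrict _ hA)
  let ιK : CommRingCat.of A ⟶ Y.residueField y' :=
    CommRingCat.ofHom (algebraMap A (Y.residueField y'))
  have w : Y.fromSpecResidueField y' = Spec.map ιK ≫ Spec.map ψ ≫ Y.fromSpecStalk y := by
    rw [Scheme.fromSpecResidueField, ← Scheme.SpecMap_stalkSpecializes_fromSpecStalk h]
    simp_rw [← Spec.map_comp_assoc]
    rfl
  let pt : Spec (Y.residueField y') := IsLocalRing.closedPoint (Y.residueField y')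
  refine ⟨A, inferInstance, inferInstance, inferInstance, Spec.map ψ ≫ Y.fromSpecStalk y,
    IsLocalRing.closedPoint A, Spec.map ιK pt, ?_, ?_, ?_⟩
  · intro t
    have h0 : (Spec.map ιK pt).asIdeal = ⊥ := by
      have h1 : (Spec.map ιK pt).asIdeal = Ideal.comap ιK.hom pt.asIdeal := rfl
      have h2 : pt.asIdeal = ⊥ := IsLocalRing.maximalIdeal_eq_bot
      rw [h1, h2]
      exact Ideal.comap_bot_of_injective _ (IsFractionRing.injective A (Y.residueField y'))
    refine (PrimeSpectrum.le_iff_specializes _ _).mp ?_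
    show (Spec.map ιK pt).asIdeal ≤ t.asIdeal
    rw [h0]; exact bot_le
  · rw [Scheme.Hom.comp_apply]
    have : Spec.map ψ (IsLocalRing.closedPoint A) =
        IsLocalRing.closedPoint (Y.presheaf.stalk y) :=
      IsLocalRing.comap_closedPoint (S := A) (φ.hom.codRestrict A.toSubring hA)
    rw [this, Y.fromSpecStalk_closedPoint]
  · have h1 : (Spec.map ψ ≫ Y.fromSpecStalk y) (Spec.map ιK pt) =
        (Y.fromSpecResidueField y') pt := by
      rw [w]; rfl
    rw [h1]
    exact Scheme.fromSpecResidueField_apply y' pt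

/-! ### Part C: the valuation ring case -/

theorem exists_generic_of_mem_closure {X : Type*} [TopologicalSpace X] [QuasiSober X]
    (Q : Set X) [NoetherianSpace ↥Q] (z : X) (hz : z ∈ closure Q) :
    ∃ (C : Set X) (ξ : X), C ⊆ Q ∧ C.Nonempty ∧ IsGenericPoint ξ (closure C) ∧ ξ ⤳ z := by
  have hfin : (irreducibleComponents ↥Q).Finite := NoetherianSpace.finite_irreducibleComponents
  have h1 : Q = ⋃ C ∈ irreducibleComponents ↥Q, (Subtype.val '' C : Set X) := by
    ext x
    constructor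
    · intro hx
      exact Set.mem_iUnion₂.mpr ⟨irreducibleComponent (⟨x, hx⟩ : ↥Q),
        irreducibleComponent_mem_irreducibleComponents _, ⟨⟨x, hx⟩, mem_irreducibleComponent, rfl⟩⟩
    · intro hx
      obtain ⟨C, -, ⟨q, -, rfl⟩⟩ := Set.mem_iUnion₂.mp hx
      exact q.2
  have hz' : z ∈ closure (⋃ C ∈ irreducibleComponents ↥Q, (Subtype.val '' C : Set X)) := by
    rw [← h1]; exact hz
  rw [hfin.closure_biUnion] at hz'
  obtain ⟨C, hC, hzC⟩ := Set.mem_iUnion₂.mp hz'
  have hirr : IsIrreducible (Subtype.val '' C : Set X) :=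
    (hC.1).image _ continuous_subtype_val.continuousOn
  obtain ⟨ξ, hξ⟩ := QuasiSober.sober hirr.closure isClosed_closure
  refine ⟨Subtype.val '' C, ξ, ?_, hirr.nonempty, hξ, hξ.specializes hzC⟩
  rintro _ ⟨q, -, rfl⟩
  exact q.2

theorem noetherianSpace_preimage_singleton {X Y : Scheme.{u}} (f : X ⟶ Y)
    [LocallyOfFiniteType f] [QuasiCompact f] (y : Y) : NoetherianSpace ↥(f ⁻¹' {y}) := by
  haveI : QuasiCompact (f.fiberToSpecResidueField y) :=
    inferInstanceAs (QuasiCompact (pullback.snd f (Y.fromSpecResidueField y)))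
  haveI : CompactSpace ↥(f.fiber y) :=
    QuasiCompact.compactSpace_of_compactSpace (f.fiberToSpecResidueField y)
  haveI : LocallyOfFiniteType (f.fiberToSpecResidueField y) :=
    Groth.Agent.H1.Chev.locallyOfFiniteType_fiberToSpecResidueField f _
  haveI : IsNoetherian (f.fiber y) :=
    { __ := LocallyOfFiniteType.isLocallyNoetherian (f.fiberToSpecResidueField y) }
  exact (noetherianSpace_iff_of_homeomorph (f.fiberHomeo y)).mp inferInstance

theorem dim_mono' {T : Type*} [TopologicalSpace T] {A B : Set T} (h : A ⊆ B) :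
    topologicalKrullDim ↥A ≤ topologicalKrullDim ↥B :=
  (Topology.IsEmbedding.inclusion h).isInducing.topologicalKrullDim_le

theorem dim_range_eq_of_isEmbedding {A B : Type*} [TopologicalSpace A] [TopologicalSpace B]
    {e : A → B} (he : IsEmbedding e) :
    topologicalKrullDim ↥(Set.range e) = topologicalKrullDim A :=
  (IsHomeomorph.topologicalKrullDim_eq _ he.toHomeomorph.isHomeomorph).symm

section ValBase

variable {A : Type u} [CommRing A] [IsDomain A] [ValuationRing A] {X : Scheme.{u}}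

theorem dim_closedFibre_le (f : X ⟶ Spec (CommRingCat.of A)) [LocallyOfFiniteType f]
    [QuasiCompact f] (E : Set X) (t₀ η : Spec (CommRingCat.of A))
    (hη : ∀ t : Spec (CommRingCat.of A), η ⤳ t)
    (hgen : ∀ x ∈ E, f x = t₀ → ∃ x' ∈ E, f x' = η ∧ x' ⤳ x) :
    topologicalKrullDim ↥(f ⁻¹' {t₀} ∩ closure (E ∩ f ⁻¹' {t₀})) ≤
      topologicalKrullDim ↥(f ⁻¹' {η} ∩ closure (E ∩ f ⁻¹' {η})) := by
  have hWcl : IsClosed (closure (E ∩ f ⁻¹' {η})) := isClosed_closure
  have h1 : E ∩ f ⁻¹' {t₀} ⊆ closure (E ∩ f ⁻¹' {η}) := by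
    rintro x ⟨hxE, hxt⟩
    obtain ⟨x', hx'E, hx'η, hsp⟩ := hgen x hxE hxt
    have : x ∈ closure ({x'} : Set X) := specializes_iff_mem_closure.mp hsp
    have hsub : ({x'} : Set X) ⊆ E ∩ f ⁻¹' {η} := Set.singleton_subset_iff.mpr ⟨hx'E, hx'η⟩
    exact closure_mono hsub this
  have h2 : closure (E ∩ f ⁻¹' {t₀}) ⊆ closure (E ∩ f ⁻¹' {η}) := closure_minimal h1 hWcl
  refine (dim_mono' (Set.inter_subset_inter_right _ h2)).trans ?_
  obtain ⟨Ws, ι, hι, hr⟩ : ∃ (Ws : Scheme.{u}) (ι : Ws ⟶ X),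
      IsClosedImmersion ι ∧ Set.range ι = closure (E ∩ f ⁻¹' {η}) :=
    ⟨_, (Scheme.IdealSheafData.vanishingIdeal ⟨_, hWcl⟩).subschemeι, inferInstance,
      (Scheme.IdealSheafData.range_subschemeι _).trans
        (Scheme.IdealSheafData.coe_support_vanishingIdeal _)⟩
  haveI := hι
  have hemb : IsEmbedding ι := ι.isEmbedding
  have key : ∀ t : Spec (CommRingCat.of A),
      topologicalKrullDim ↥(f ⁻¹' {t} ∩ closure (E ∩ f ⁻¹' {η})) =
        topologicalKrullDim ↥((ι ≫ f).fiber t) := by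
    intro t
    rw [Groth.Agent.H1.ValDim.dim_fiber_eq_dim_preimage (ι ≫ f) t]
    have h3 := Groth.Agent.H1.RelDim.dim_preimage_eq_of_isEmbedding hemb (f ⁻¹' {t})
    rw [hr] at h3
    exact h3.symm
  rw [key t₀, key η]
  apply Groth.Agent.H1.FibComp.dim_fiber_le_of_forall
  intro x hx
  obtain ⟨z, hfz, hzx, hzmax, hdz⟩ :=
    Groth.Agent.H1.FibGen.exists_fibre_generic_fibreDimAt_eq (ι ≫ f) x
  rw [← hdz]
  have hzW : ι z ∈ closure (E ∩ f ⁻¹' {η}) := by rw [← hr]; exact ⟨z, rfl⟩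
  haveI : NoetherianSpace ↥(f ⁻¹' {η}) := noetherianSpace_preimage_singleton f η
  haveI : NoetherianSpace ↥(E ∩ f ⁻¹' {η}) := NoetherianSpace.inter_of_right _ _
  obtain ⟨C, ξ, hCQ, ⟨c, hc⟩, hgenξ, hsp⟩ :=
    exists_generic_of_mem_closure (E ∩ f ⁻¹' {η}) (ι z) hzW
  have hξW : ξ ∈ closure (E ∩ f ⁻¹' {η}) := closure_mono hCQ hgenξ.mem
  obtain ⟨ξ', rfl⟩ : ξ ∈ Set.range ι := by rw [hr]; exact hξW
  have hfξ : f (ι ξ') = η := by
    have h4 : ι ξ' ⤳ c := hgenξ.specializes (subset_closure hc)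
    have h5 : f (ι ξ') ⤳ f c := h4.map f.continuous
    have h6 : f c = η := (hCQ hc).2
    rw [h6] at h5
    exact ((hη _).antisymm h5).eq.symm
  have hsp' : ξ' ⤳ z := hemb.isInducing.specializes_iff.mp hsp
  have h7 := Groth.Agent.H1.ValDim.fibreDimAt_le_of_specializes_of_fibreMax (ι ≫ f) hsp'
    (fun z' h1 h2 => hzmax z' (h1.trans hfz) h2)
  exact h7.trans (Groth.Agent.H1.FibComp.fibreDimAt_le_dim_fiber (ι ≫ f) ξ' η hfξ)

end ValBase

/-! ### Part B: base change -/

section FieldBC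

variable {K L : Type u} [Field K] [Field L] (φ : CommRingCat.of K ⟶ CommRingCat.of L)
  {Z Z' : Scheme.{u}} (fK : Z ⟶ Spec (.of K)) (fL : Z' ⟶ Spec (.of L)) (p : Z' ⟶ Z)
  (sq : IsPullback p fL fK (Spec.map φ))

include sq in
theorem dim_preimage_closed_of_isPullback_field [LocallyOfFiniteType fK] (C : Set Z)
    (hC : IsClosed C) : topologicalKrullDim ↥(p ⁻¹' C) = topologicalKrullDim ↥C := by
  obtain ⟨Cs, j, hj, hr⟩ : ∃ (Cs : Scheme.{u}) (j : Cs ⟶ Z),
      IsClosedImmersion j ∧ Set.range j = C :=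
    ⟨_, (Scheme.IdealSheafData.vanishingIdeal ⟨C, hC⟩).subschemeι, inferInstance,
      (Scheme.IdealSheafData.range_subschemeι _).trans
        (Scheme.IdealSheafData.coe_support_vanishingIdeal _)⟩
  haveI := hj
  have sq1 : IsPullback (pullback.fst j p) (pullback.snd j p) j p := IsPullback.of_hasPullback j p
  have sq2 : IsPullback (pullback.fst j p) (pullback.snd j p ≫ fL) (j ≫ fK) (Spec.map φ) :=
    sq1.paste_vert sq
  have hd : topologicalKrullDim ↥(pullback j p) = topologicalKrullDim ↥Cs :=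
    Groth.Agent.H3.FBaseDim.dim_of_isPullback_field φ (j ≫ fK) (pullback.snd j p ≫ fL)
      (pullback.fst j p) sq2
  have hr' : Set.range (pullback.snd j p) = p ⁻¹' C := by
    rw [← hr]; exact Scheme.Pullback.range_snd j p
  have e1 := dim_range_eq_of_isEmbedding (j.isEmbedding)
  have e2 := dim_range_eq_of_isEmbedding ((pullback.snd j p).isEmbedding)
  rw [hr] at e1
  rw [hr'] at e2
  rw [e1, e2, hd]

end FieldBC

theorem dim_closure_inter_fibre_bc {X S T XT : Scheme.{u}} (f : X ⟶ S) [LocallyOfFiniteType f]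
    (h : T ⟶ S) (p : XT ⟶ X) (fT : XT ⟶ T) (sq : IsPullback p fT f h) (E : Set X) (t : T) :
    topologicalKrullDim ↥(fT ⁻¹' {t} ∩ closure (p ⁻¹' E ∩ fT ⁻¹' {t})) =
      topologicalKrullDim ↥(f ⁻¹' {h t} ∩ closure (E ∩ f ⁻¹' {h t})) := by
  obtain ⟨r, hr, hrι⟩ := Groth.Agent.H1.FibDimBC.fiber_isPullback' f h fT p sq t
  have hemb : IsEmbedding (f.fiberι (h t)) := (f.fiberι (h t)).isEmbedding
  have hembT : IsEmbedding (fT.fiberι t) := (fT.fiberι t).isEmbedding
  have hrange : Set.range (f.fiberι (h t)) = f ⁻¹' {h t} := Scheme.Hom.range_fiberι f (h t)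
  have hrangeT : Set.range (fT.fiberι t) = fT ⁻¹' {t} := Scheme.Hom.range_fiberι fT t
  have hclT : closure ((fT.fiberι t) ⁻¹' (p ⁻¹' E)) =
      (fT.fiberι t) ⁻¹' closure (p ⁻¹' E ∩ fT ⁻¹' {t}) := by
    rw [hembT.isInducing.closure_eq_preimage_closure_image, Set.image_preimage_eq_inter_range,
      hrangeT]
  have hcl : closure ((f.fiberι (h t)) ⁻¹' E) =
      (f.fiberι (h t)) ⁻¹' closure (E ∩ f ⁻¹' {h t}) := by
    rw [hemb.isInducing.closure_eq_preimage_closure_image, Set.image_preimage_eq_inter_range,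
      hrange]
  have hpre : (fT.fiberι t) ⁻¹' (p ⁻¹' E) = r ⁻¹' ((f.fiberι (h t)) ⁻¹' E) := by
    ext z
    have hz : p (fT.fiberι t z) = f.fiberι (h t) (r z) := by
      have := congrArg (fun ψ : fT.fiber t ⟶ X => ψ z) hrι
      exact this.symm
    simp only [Set.mem_preimage, hz]
  have hlft : LocallyOfFiniteType (f.fiberToSpecResidueField (h t)) :=
    Groth.Agent.H1.Chev.locallyOfFiniteType_fiberToSpecResidueField f _
  haveI hUO : UniversallyOpen r :=
    @Groth.Agent.H1.FibDimBC.universallyOpen_of_isPullback_field (S.residueField (h t))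
      (T.residueField t) _ _ (h.residueFieldMap t) _ _ (f.fiberToSpecResidueField (h t))
      (fT.fiberToSpecResidueField t) r hr
  have hopen : IsOpenMap r := r.isOpenMap
  have hcl2 : r ⁻¹' closure ((f.fiberι (h t)) ⁻¹' E) =
      closure (r ⁻¹' ((f.fiberι (h t)) ⁻¹' E)) :=
    hopen.preimage_closure_eq_closure_preimage r.continuous _
  have hd : topologicalKrullDim ↥(r ⁻¹' closure ((f.fiberι (h t)) ⁻¹' E)) =
      topologicalKrullDim ↥(closure ((f.fiberι (h t)) ⁻¹' E)) :=
    @dim_preimage_closed_of_isPullback_field (S.residueField (h t))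
      (T.residueField t) _ _ (h.residueFieldMap t) _ _ (f.fiberToSpecResidueField (h t))
      (fT.fiberToSpecResidueField t) r hr hlft _ isClosed_closure
  have hL := Groth.Agent.H1.RelDim.dim_preimage_eq_of_isEmbedding hembT
    (closure (p ⁻¹' E ∩ fT ⁻¹' {t}))
  have hR := Groth.Agent.H1.RelDim.dim_preimage_eq_of_isEmbedding hemb
    (closure (E ∩ f ⁻¹' {h t}))
  rw [hrangeT] at hL
  rw [hrange] at hR
  rw [Set.inter_comm (fT ⁻¹' {t}), Set.inter_comm (f ⁻¹' {h t}), ← hL, ← hR, ← hclT, ← hcl,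
    hpre, ← hcl2, hd]

/-! ### The main theorem -/

theorem s4972 {X S : Scheme.{u}} (f : X ⟶ S) [LocallyOfFiniteType f] [QuasiCompact f]
    {ι : Type u} (Y : ι → Scheme.{u}) (g : ∀ i, Y i ⟶ S) [∀ i, UniversallyOpen (g i)]
    (v : ∀ i, Y i ⟶ X) (hv : ∀ i, v i ≫ f = g i) (s s' : S) (hs : s' ⤳ s) :
    topologicalKrullDim ↥(f ⁻¹' {s} ∩ closure ((⋃ i, Set.range (v i)) ∩ f ⁻¹' {s})) ≤
      topologicalKrullDim ↥(f ⁻¹' {s'} ∩ closure ((⋃ i, Set.range (v i)) ∩ f ⁻¹' {s'})) := by
  obtain ⟨A, _, _, _, h, t₀, η, hη, ht₀, hηs'⟩ := exists_valuationRing_of_specializes hs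
  have sq := IsPullback.of_hasPullback f h
  have bc := dim_closure_inter_fibre_bc f h (pullback.fst f h) (pullback.snd f h) sq
    (⋃ i, Set.range (v i))
  rw [← ht₀, ← hηs', ← bc t₀, ← bc η]
  apply dim_closedFibre_le (pullback.snd f h) ((pullback.fst f h) ⁻¹' (⋃ i, Set.range (v i)))
    t₀ η hη
  intro x hxE hxt
  obtain ⟨i, y, hy⟩ : ∃ i, ∃ y : Y i, v i y = pullback.fst f h x := by
    have h1 : pullback.fst f h x ∈ ⋃ i, Set.range (v i) := hxE
    obtain ⟨i, y, hy⟩ := Set.mem_iUnion.mp h1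
    exact ⟨i, y, hy⟩
  obtain ⟨y', hy'1, hy'2⟩ := Scheme.Pullback.exists_preimage_pullback
    (f := v i) (g := pullback.fst f h) y x hy
  have sq1 := IsPullback.of_hasPullback (v i) (pullback.fst f h)
  have sq2 : IsPullback (pullback.fst (v i) (pullback.fst f h))
      (pullback.snd (v i) (pullback.fst f h) ≫ pullback.snd f h) (v i ≫ f) h :=
    sq1.paste_vert sq
  haveI hUO : UniversallyOpen (pullback.snd (v i) (pullback.fst f h) ≫ pullback.snd f h) :=
    MorphismProperty.of_isPullback (P := @UniversallyOpen) sq2 (by rw [hv i]; infer_instance)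
  have hgenmap := Groth.Agent.H2.OpenGen.generalizingMap_of_isOpenMap _
    (Scheme.Hom.isOpenMap (pullback.snd (v i) (pullback.fst f h) ≫ pullback.snd f h))
  have hy't : (pullback.snd (v i) (pullback.fst f h) ≫ pullback.snd f h).base y' = t₀ := by
    show (pullback.snd f h) ((pullback.snd (v i) (pullback.fst f h)) y') = t₀
    rw [hy'2]; exact hxt
  have hsp0 : η ⤳ (pullback.snd (v i) (pullback.fst f h) ≫ pullback.snd f h).base y' := by
    rw [hy't]; exact hη t₀
  obtain ⟨y'', hy''sp, hy''η⟩ := hgenmap hsp0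
  refine ⟨pullback.snd (v i) (pullback.fst f h) y'', ?_, ?_, ?_⟩
  · have hc := congrArg (fun ψ : pullback (v i) (pullback.fst f h) ⟶ X => ψ y'')
      (pullback.condition (f := v i) (g := pullback.fst f h))
    have hc' : v i (pullback.fst (v i) (pullback.fst f h) y'') =
        pullback.fst f h (pullback.snd (v i) (pullback.fst f h) y'') := hc
    exact Set.mem_iUnion.mpr ⟨i, ⟨_, hc'⟩⟩
  · exact hy''η
  · have := hy''sp.map (pullback.snd (v i) (pullback.fst f h)).continuous
    rw [hy'2] at this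
    exact this

end Groth.Agent.H1.UOVal
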