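import Mathlib
import Groth.Agent.Lib.Helper1.DimIneqE
import Groth.Agent.Lib.Helper1.DimIneqF
import Groth.Agent.Lib.Helper1.JacobsonTrdeg
import Groth.Agent.Lib.Helper1.QFIsolated
import Groth.Agent.Lib.Helper1.DimSubA
import Groth.Agent.Lib.Helper1.UOVal
import Groth.Agent.Lib.Helper6.TD1
import Groth.Agent.Lib.Helper3.TopDim

/-! A morphism locally of finite type from an irreducible scheme to a locally Noetherian scheme
that is quasi-finite at one point does not lower dimension (helper1); application S17653. -/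

set_option autoImplicit false
universe u

namespace Groth.Agent.H1.QFDimLe

open AlgebraicGeometry CategoryTheory TopologicalSpace Topology

theorem dim_le_of_quasiFiniteAt {X₀ Y₀ : Scheme.{u}} [IrreducibleSpace X₀]
    [IsLocallyNoetherian Y₀] (g : X₀ ⟶ Y₀) [LocallyOfFiniteType g] (x₀ : X₀)
    (hqf : g.QuasiFiniteAt x₀) : topologicalKrullDim X₀ ≤ topologicalKrullDim Y₀ := by
  have hξ : genericPoint X₀ ∈ g.quasiFiniteLocus :=
    (genericPoint_specializes x₀).mem_open g.quasiFiniteLocus.isOpen hqf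
  have h0 : Dual3.resTrdeg g (genericPoint X₀) = 0 :=
    JacobsonTrdeg.resTrdeg_eq_zero_of_finite g _ hξ
  rw [Groth.Agent.H6.TD.topologicalKrullDim_eq_iSup_stalk X₀]
  apply iSup_le
  intro x'
  have key := DimIneq.stalk_dim_add_resTrdeg_le g x' 0 (by
    intro ξ _ hz
    rw [← DimIneq.eq_of_specializes_of_stalk_dim_eq_zero ξ (genericPoint X₀) hz
      (genericPoint_specializes ξ), h0])
  have hnn : (0 : WithBot ℕ∞) ≤
      ((Cardinal.toENat (Dual3.resTrdeg g x') : ℕ∞) : WithBot ℕ∞) := by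
    rw [← WithBot.coe_zero]
    exact WithBot.coe_le_coe.mpr zero_le
  have h1 : ringKrullDim (X₀.presheaf.stalk x') ≤ ringKrullDim (Y₀.presheaf.stalk (g x')) := by
    refine (le_add_of_nonneg_right hnn).trans (key.trans ?_)
    simp
  exact h1.trans (Groth.Agent.H6.TD.ringKrullDim_stalk_le _ _)

theorem range_subschemeι_vanishingIdeal {X : Scheme.{u}} (Z : Closeds X) :
    Set.range (Scheme.IdealSheafData.vanishingIdeal Z).subschemeι = (Z : Set X) :=
  (Scheme.IdealSheafData.range_subschemeι _).trans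
    (Scheme.IdealSheafData.coe_support_vanishingIdeal _)

theorem dim_subscheme_vanishingIdeal {X : Scheme.{u}} (Z : Closeds X) :
    topologicalKrullDim (Scheme.IdealSheafData.vanishingIdeal Z).subscheme =
      topologicalKrullDim ↥(Z : Set X) := by
  rw [← range_subschemeι_vanishingIdeal Z]
  exact IsHomeomorph.topologicalKrullDim_eq _
    ((Scheme.IdealSheafData.vanishingIdeal Z).subschemeι.isEmbedding.toHomeomorph).isHomeomorph

theorem dim_le_of_isolated {X Y A B : Scheme.{u}} (π : X ⟶ Y) [LocallyOfFiniteType π]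
    (j : A ⟶ X) [IsClosedImmersion j] (i : B ⟶ Y) [IsClosedImmersion i] (g' : A ⟶ B)
    (hg' : g' ≫ i = j ≫ π) [IrreducibleSpace A] [IsLocallyNoetherian B] (x₀ : A)
    (hx : ∃ U : X.Opens, j x₀ ∈ U ∧ ∀ x' ∈ U, π x' = π (j x₀) → x' = j x₀) :
    topologicalKrullDim A ≤ topologicalKrullDim B := by
  haveI : LocallyOfFiniteType (g' ≫ i) := by rw [hg']; infer_instance
  haveI : LocallyOfFiniteType g' := locallyOfFiniteType_of_comp g' i
  have e : ∀ t, π (j t) = i (g' t) := fun t => by
    rw [← Scheme.Hom.comp_apply, ← Scheme.Hom.comp_apply, hg']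
  have hqf : g'.QuasiFiniteAt x₀ := by
    rw [QFIsolated.quasiFiniteAt_iff_isolated]
    obtain ⟨U, hxU, hU⟩ := hx
    refine ⟨j ⁻¹ᵁ U, hxU, ?_⟩
    intro x' hx'U hx'
    apply j.isEmbedding.injective
    apply hU _ hx'U
    rw [e, e, hx']
  exact dim_le_of_quasiFiniteAt g' x₀ hqf

theorem s17653
    (X Y : Scheme.{u}) [IsLocallyNoetherian X] [IsLocallyNoetherian Y] (π : X ⟶ Y) [IsProper π]
    (d : WithBot ℕ∞) (hX : ∀ Z ∈ irreducibleComponents ↥X, topologicalKrullDim ↥Z = d)
    (hY : ∀ Z ∈ irreducibleComponents ↥Y, topologicalKrullDim ↥Z = d)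
    (x : ↥X) (hx : ∃ U : X.Opens, x ∈ U ∧ ∀ x' ∈ U, π x' = π x → x' = x) :
    topologicalKrullDim ↥(Set.range (fun z : ↥X => π z)) = topologicalKrullDim ↥Y := by
  have hYd : topologicalKrullDim ↥Y = d := by
    rw [Groth.Agent.H3.TopDim.dim_eq_iSup_irreducibleComponents (X := ↥Y)]
    apply le_antisymm
    · exact iSup₂_le (fun Z hZ => (hY Z hZ).le)
    · obtain ⟨Z, hZ, -⟩ := exists_mem_irreducibleComponents_subset_of_isIrreducible
        ({π x} : Set Y) isIrreducible_singleton
      exact (hY Z hZ).ge.trans (le_iSup₂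
        (f := fun Z (_ : Z ∈ irreducibleComponents ↥Y) => topologicalKrullDim ↥Z) Z hZ)
  apply le_antisymm
  · exact topologicalKrullDim_subspace_le _ _
  · rw [hYd]
    obtain ⟨X₀, hX₀, hxX₀⟩ := exists_mem_irreducibleComponents_subset_of_isIrreducible
      ({x} : Set X) isIrreducible_singleton
    have hX₀c : IsClosed X₀ := isClosed_of_mem_irreducibleComponents X₀ hX₀
    rw [← hX X₀ hX₀]
    obtain ⟨g', hg'⟩ := DimSub.exists_lift_reduced π ⟨X₀, hX₀c⟩
    have hrj := range_subschemeι_vanishingIdeal (⟨X₀, hX₀c⟩ : Closeds X)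
    haveI : IrreducibleSpace
        (Scheme.IdealSheafData.vanishingIdeal (⟨X₀, hX₀c⟩ : Closeds X)).subscheme := by
      rw [((Scheme.IdealSheafData.vanishingIdeal
        (⟨X₀, hX₀c⟩ : Closeds X)).subschemeι.isEmbedding.toHomeomorph).irreducibleSpace_iff, hrj]
      exact Subtype.irreducibleSpace hX₀.1
    haveI : IsLocallyNoetherian (Scheme.IdealSheafData.vanishingIdeal
        (⟨closure (π.base '' ((⟨X₀, hX₀c⟩ : Closeds X) : Set X)), isClosed_closure⟩ :
          Closeds Y)).subscheme :=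
      LocallyOfFiniteType.isLocallyNoetherian (Scheme.IdealSheafData.vanishingIdeal
        (⟨closure (π.base '' ((⟨X₀, hX₀c⟩ : Closeds X) : Set X)), isClosed_closure⟩ :
          Closeds Y)).subschemeι
    obtain ⟨x₀, hx₀⟩ : x ∈ Set.range
        (Scheme.IdealSheafData.vanishingIdeal (⟨X₀, hX₀c⟩ : Closeds X)).subschemeι := by
      rw [hrj]
      exact hxX₀ rfl
    have key := dim_le_of_isolated π _ _ g' hg' x₀ (by rw [hx₀]; exact hx)
    rw [dim_subscheme_vanishingIdeal, dim_subscheme_vanishingIdeal] at key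
    refine le_trans (le_of_eq rfl) (key.trans (UOVal.dim_mono' ?_))
    have hcl : IsClosed (Set.range (fun z : ↥X => π z)) := π.isClosedMap.isClosed_range
    exact closure_minimal (Set.image_subset_range _ _) hcl

end Groth.Agent.H1.QFDimLe
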