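import Mathlib
import Groth.Agent.Lib.Helper1.ConsFibA
import Groth.Agent.Lib.Helper1.FibCompC
import Groth.Agent.Lib.Helper1.QFDimLe
import Groth.Agent.Lib.Helper1.ClosureDim
import Groth.Agent.Lib.Helper1.ValDimB
import Groth.Agent.Lib.Helper1.Chev4
import Groth.Agent.Lib.Helper3.TopDim
import Groth.Agent.Lib.Helper8.ConstructibleNoeth

/-!
# Generic behaviour of closures in fibres (EGA IV 9.5.3, Noetherian irreducible base) — helper1

For `f : X ⟶ T` of finite type over a Noetherian irreducible scheme and `Z` constructible in `X`,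
there is a nonempty open `U` of `T` such that for `s ∈ U` the closure of `Z ∩ f⁻¹(s)` contains
`closure Z ∩ f⁻¹(s)`.
-/

set_option autoImplicit false
set_option linter.style.haveILetI false

universe u

open CategoryTheory CategoryTheory.Limits AlgebraicGeometry Topology TopologicalSpace

namespace Groth.Agent.H1.ConsFib

variable {X T : Scheme.{u}}

/-- a closed subscheme structure on a closed subset. -/
theorem exists_closedImmersion (X : Scheme.{u}) (W : Set X) (hW : IsClosed W) :
    ∃ (Z : Scheme.{u}) (i : Z ⟶ X), IsClosedImmersion i ∧ Set.range i.base = W := by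
  let C : TopologicalSpace.Closeds X := ⟨W, hW⟩
  exact ⟨(Scheme.IdealSheafData.vanishingIdeal C).subscheme,
    (Scheme.IdealSheafData.vanishingIdeal C).subschemeι, inferInstance,
    Groth.Agent.H1.QFDimLe.range_subschemeι_vanishingIdeal C⟩

theorem irreducibleSpace_of_range {Z X : Scheme.{u}} (i : Z ⟶ X) [IsClosedImmersion i]
    (hirr : IsIrreducible (Set.range i.base)) : IrreducibleSpace Z := by
  have e : Z ≃ₜ Set.range i.base := i.isEmbedding.toHomeomorph
  rw [e.irreducibleSpace_iff, ← isIrreducible_iff_irreducibleSpace]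
  exact hirr

/-- every point has a generization in its fibre which is maximal in the fibre. -/
theorem exists_fibreMax_generization (f : X ⟶ T) (x : X) :
    ∃ ζ : X, ζ ⤳ x ∧ f.base ζ = f.base x ∧
      ∀ z : X, f.base z = f.base ζ → z ⤳ ζ → z = ζ := by
  obtain ⟨ξ, hξ, hcl⟩ := Groth.Agent.H1.FibDimTot.exists_isMaxPt_closure_eq
    (irreducibleComponent_mem_irreducibleComponents (f.asFiber x))
  have h1 : ξ ⤳ f.asFiber x := by
    rw [specializes_iff_mem_closure, hcl]
    exact mem_irreducibleComponent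
  have hfξ : f.base ((f.fiberι (f.base x)).base ξ) = f.base x :=
    Groth.Agent.H1.ValDim.base_fiberι f _ ξ
  refine ⟨(f.fiberι (f.base x)).base ξ, ?_, hfξ, ?_⟩
  · have := h1.map (f.fiberι (f.base x)).continuous
    rwa [f.fiberι_asFiber] at this
  · intro z hz hzξ
    rw [hfξ] at hz
    have hzr : z ∈ Set.range (f.fiberι (f.base x)).base := by
      rw [Scheme.Hom.range_fiberι]
      exact hz
    obtain ⟨z', rfl⟩ := hzr
    have h2 : z' ⤳ ξ :=
      (f.fiberι (f.base x)).isEmbedding.isInducing.specializes_iff.mp hzξ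
    rw [hξ z' h2]

/-- in the fibre through the generic point of an irreducible scheme, a closed subset not
containing the generic point has smaller dimension. -/
theorem dim_inter_fibre_lt [IrreducibleSpace X] (f : X ⟶ T) [LocallyOfFiniteType f]
    (B : Set X) (hB : IsClosed B) (hw : genericPoint X ∉ B) :
    topologicalKrullDim ↥(B ∩ f.base ⁻¹' {f.base (genericPoint X)}) <
      topologicalKrullDim ↥(f.base ⁻¹' {f.base (genericPoint X)}) := by
  set w := genericPoint X with hwdef
  have hwgen : ∀ x : X, w ⤳ x := fun x => (genericPoint_spec X).specializes (Set.mem_univ x)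
  have hemb : IsEmbedding (f.fiberι (f.base w)).base := (f.fiberι (f.base w)).isEmbedding
  have hrange : Set.range (f.fiberι (f.base w)).base = f.base ⁻¹' {f.base w} :=
    Scheme.Hom.range_fiberι f (f.base w)
  have hirr : IsIrreducible (f.base ⁻¹' {f.base w}) :=
    Groth.Agent.H1.FibComp.isIrreducible_of_subset_closure (A := {w}) isIrreducible_singleton
      (Set.singleton_subset_iff.mpr rfl) (fun x _ => specializes_iff_mem_closure.mp (hwgen x))
  haveI : IrreducibleSpace ↥(f.fiber (f.base w)) := by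
    have e : ↥(f.fiber (f.base w)) ≃ₜ ↥(f.base ⁻¹' {f.base w}) := f.fiberHomeo (f.base w)
    rw [e.irreducibleSpace_iff, ← isIrreducible_iff_irreducibleSpace]
    exact hirr
  have hfin : topologicalKrullDim ↥(f.fiber (f.base w)) ≠ ⊤ := by
    obtain ⟨t, -, hd⟩ := @Groth.Agent.H1.ClosureDim.exists_trdeg_eq_dim_closure
      (T.residueField (f.base w)) _ _ (f.fiberToSpecResidueField (f.base w))
      (Groth.Agent.H1.Chev.locallyOfFiniteType_fiberToSpecResidueField f (f.base w))
      (genericPoint ↥(f.fiber (f.base w)))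
    have hcl : closure ({genericPoint ↥(f.fiber (f.base w))} : Set ↥(f.fiber (f.base w))) =
        Set.univ := (genericPoint_spec _).def
    rw [hcl] at hd
    have h2 : topologicalKrullDim ↥(Set.univ : Set ↥(f.fiber (f.base w))) =
        topologicalKrullDim ↥(f.fiber (f.base w)) :=
      IsHomeomorph.topologicalKrullDim_eq _ (Homeomorph.Set.univ _).isHomeomorph
    rw [← h2, hd]
    intro h'
    have h'' : ((t : ℕ∞) : WithBot ℕ∞) = ((⊤ : ℕ∞) : WithBot ℕ∞) := h'
    exact ENat.natCast_ne_top t (WithBot.coe_injective h'')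
  have h1 := Groth.Agent.H3.TopDim.dim_lt_of_isClosed_ne_univ hfin
    ((f.fiberι (f.base w)).base ⁻¹' B) (hB.preimage (f.fiberι (f.base w)).continuous) (by
      intro h
      have h3 : f.asFiber w ∈ (f.fiberι (f.base w)).base ⁻¹' B := by rw [h]; trivial
      rw [Set.mem_preimage, f.fiberι_asFiber] at h3
      exact hw h3)
  rw [Groth.Agent.H1.RelDim.dim_preimage_eq_of_isEmbedding hemb B, hrange] at h1
  rw [← Groth.Agent.H1.ValDim.dim_fiber_eq_dim_preimage f (f.base w)]
  exact h1

/-- **Key lemma** (irreducible source): a dense open subset is fibrewise dense over a nonempty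
open subset of the base. -/
theorem fibre_subset_closure_of_irreducibleSpace [IsLocallyNoetherian T] [IrreducibleSpace T]
    [IrreducibleSpace X] (f : X ⟶ T) [LocallyOfFiniteType f] [QuasiCompact f] (B : Set X)
    (hB : IsClosed B) (hw : genericPoint X ∉ B) :
    ∃ U : Set T, IsOpen U ∧ genericPoint T ∈ U ∧
      ∀ s ∈ U, f.base ⁻¹' {s} ⊆ closure (Bᶜ ∩ f.base ⁻¹' {s}) := by
  set w := genericPoint X with hwdef
  set η := genericPoint T with hηdef
  have hwgen : ∀ x : X, w ⤳ x := fun x => (genericPoint_spec X).specializes (Set.mem_univ x)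
  have hηgen : ∀ t : T, η ⤳ t := fun t => (genericPoint_spec T).specializes (Set.mem_univ t)
  by_cases hfw : f.base w = η
  swap
  · refine ⟨(closure {f.base w})ᶜ, isClosed_closure.isOpen_compl, ?_, ?_⟩
    · intro hη
      have h1 : f.base w ⤳ η := specializes_iff_mem_closure.mpr hη
      exact hfw ((h1.antisymm (hηgen _)).eq)
    · intro s hs x hx
      exfalso
      apply hs
      have h2 : f.base w ⤳ f.base x := (hwgen x).map f.continuous
      have hx' : f.base x = s := hx
      rw [← hx']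
      exact specializes_iff_mem_closure.mp h2
  -- the closed subscheme structure on `B`
  obtain ⟨B', ι, hι, hrange⟩ := exists_closedImmersion X B hB
  haveI := hι
  haveI : LocallyOfFinitePresentation (ι ≫ f) :=
    Groth.Agent.H1.EtNhd.lfp_of_lft_of_noetherian (ι ≫ f)
  have hC := Groth.Agent.H1.FibDim.isLocallyConstructible_fiber_dim (ι ≫ f)
    (topologicalKrullDim ↥((ι ≫ f).fiber η))
  have hnhds := Groth.Agent.H1.FibComp.mem_nhds_of_isLocallyConstructible hC η (by
    intro η' hη'
    have h1 : η' = η := (hη'.antisymm (hηgen η')).eq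
    rw [h1]
    rfl)
  obtain ⟨U, hUsub, hUo, hηU⟩ := mem_nhds_iff.mp hnhds
  refine ⟨U, hUo, hηU, ?_⟩
  have hdimB : ∀ s : T, topologicalKrullDim ↥((ι ≫ f).fiber s) =
      topologicalKrullDim ↥(B ∩ f.base ⁻¹' {s}) := by
    intro s
    rw [Groth.Agent.H1.ValDim.dim_fiber_eq_dim_preimage (ι ≫ f) s]
    have h1 : (ι ≫ f).base ⁻¹' {s} = ι.base ⁻¹' (f.base ⁻¹' {s}) := rfl
    rw [h1, Groth.Agent.H1.RelDim.dim_preimage_eq_of_isEmbedding ι.isEmbedding
      (f.base ⁻¹' {s}), hrange, Set.inter_comm]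
  have hlt : topologicalKrullDim ↥(B ∩ f.base ⁻¹' {η}) <
      topologicalKrullDim ↥(f.base ⁻¹' {η}) := by
    have := dim_inter_fibre_lt f B hB hw
    rw [← hwdef, hfw] at this
    exact this
  have hwmax : ∀ z : X, f.base z = f.base w → z ⤳ w → z = w :=
    fun z _ hz => (hz.antisymm (hwgen z)).eq
  have hdw : topologicalKrullDim ↥(f.base ⁻¹' {η}) = FlatMor.fibreDimAt f w := by
    have h := Groth.Agent.H1.FibComp.dim_closure_inter_fibre' f w hwmax
    have hcl : closure ({w} : Set X) = Set.univ := (genericPoint_spec X).def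
    rw [hcl, Set.univ_inter, hfw] at h
    exact h
  intro s hs x hx
  by_contra hcon
  have hcon' : ∃ O : Set X, IsOpen O ∧ x ∈ O ∧ ∀ y ∈ O, y ∉ B → f.base y ≠ s := by
    by_contra hne
    apply hcon
    rw [mem_closure_iff]
    intro O hO hxO
    by_contra hemp
    apply hne
    exact ⟨O, hO, hxO, fun y hyO hyB hys => hemp ⟨y, hyO, hyB, hys⟩⟩
  obtain ⟨O, hO, hxO, hOe⟩ := hcon'
  obtain ⟨ζ, hζx, hfζ, hζmax⟩ := exists_fibreMax_generization f x
  have hζO : ζ ∈ O := hζx.mem_open hO hxO
  have hx' : f.base x = s := hx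
  have hfζs : f.base ζ = s := hfζ.trans hx'
  have hζB : ζ ∈ B := by
    by_contra h
    exact hOe ζ hζO h hfζs
  have hsub : closure ({ζ} : Set X) ∩ f.base ⁻¹' {f.base ζ} ⊆ B ∩ f.base ⁻¹' {s} := by
    rintro y ⟨hy1, hy2⟩
    refine ⟨closure_minimal (Set.singleton_subset_iff.mpr hζB) hB hy1, ?_⟩
    have hy2' : f.base y = f.base ζ := hy2
    exact hy2'.trans hfζs
  have h1 := Groth.Agent.H1.FibComp.dim_closure_inter_fibre' f ζ hζmax
  have h2 : FlatMor.fibreDimAt f w ≤ FlatMor.fibreDimAt f ζ := by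
    have hop := Groth.Agent.H1.FibComp.isOpen_fibreDimAt_le' f (FlatMor.fibreDimAt f ζ)
    have hmem : ζ ∈ {x : X | FlatMor.fibreDimAt f x ≤ FlatMor.fibreDimAt f ζ} :=
      le_refl (FlatMor.fibreDimAt f ζ)
    exact (hwgen ζ).mem_open hop hmem
  have h3 : topologicalKrullDim ↥(closure ({ζ} : Set X) ∩ f.base ⁻¹' {f.base ζ}) ≤
      topologicalKrullDim ↥(B ∩ f.base ⁻¹' {s}) := Groth.Agent.H1.UOVal.dim_mono' hsub
  have h4 : topologicalKrullDim ↥((ι ≫ f).fiber s) =
      topologicalKrullDim ↥((ι ≫ f).fiber η) := hUsub hs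
  have h5 : topologicalKrullDim ↥(f.base ⁻¹' {η}) ≤
      topologicalKrullDim ↥(B ∩ f.base ⁻¹' {η}) := by
    rw [hdw]
    refine h2.trans ?_
    rw [← h1]
    refine h3.trans ?_
    rw [← hdimB s, h4, hdimB η]
  exact absurd hlt (not_lt.mpr h5)

/-- the predicate of generic compatibility of closures with fibres. -/
def PG [IrreducibleSpace T] (f : X ⟶ T) (Z : Set X) : Prop :=
  ∃ U : Set T, IsOpen U ∧ genericPoint T ∈ U ∧
    ∀ s ∈ U, closure Z ∩ f.base ⁻¹' {s} ⊆ closure (Z ∩ f.base ⁻¹' {s})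

theorem PG_union [IrreducibleSpace T] (f : X ⟶ T) {Z₁ Z₂ : Set X} (h₁ : PG f Z₁)
    (h₂ : PG f Z₂) : PG f (Z₁ ∪ Z₂) := by
  obtain ⟨U₁, hU₁, hη₁, H₁⟩ := h₁
  obtain ⟨U₂, hU₂, hη₂, H₂⟩ := h₂
  refine ⟨U₁ ∩ U₂, hU₁.inter hU₂, ⟨hη₁, hη₂⟩, ?_⟩
  rintro s ⟨hs₁, hs₂⟩ x ⟨hx, hxs⟩
  rw [closure_union] at hx
  rcases hx with hx | hx
  · exact closure_mono (Set.inter_subset_inter_left _ Set.subset_union_left)
      (H₁ s hs₁ ⟨hx, hxs⟩)
  · exact closure_mono (Set.inter_subset_inter_left _ Set.subset_union_right)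
      (H₂ s hs₂ ⟨hx, hxs⟩)

theorem PG_empty [IrreducibleSpace T] (f : X ⟶ T) : PG f ∅ :=
  ⟨Set.univ, isOpen_univ, trivial, fun s _ x hx => by
    rw [closure_empty] at hx
    exact hx.1.elim⟩

/-- the key lemma for a relatively open subset of an irreducible closed subset. -/
theorem PG_inter_of_irreducible [IsLocallyNoetherian T] [IrreducibleSpace T] (f : X ⟶ T)
    [LocallyOfFiniteType f] [QuasiCompact f] (F O : Set X) (hF : IsClosed F)
    (hFi : IsIrreducible F) (hO : IsOpen O) : PG f (O ∩ F) := by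
  by_cases hne : (O ∩ F).Nonempty
  swap
  · rw [Set.not_nonempty_iff_eq_empty] at hne
    rw [hne]
    exact PG_empty f
  obtain ⟨F', ι, hι, hrange⟩ := exists_closedImmersion X F hF
  haveI := hι
  haveI : IrreducibleSpace F' := irreducibleSpace_of_range ι (by rw [hrange]; exact hFi)
  have hw : genericPoint F' ∉ ι.base ⁻¹' Oᶜ := by
    obtain ⟨y, hyO, hyF⟩ := hne
    rw [← hrange] at hyF
    obtain ⟨y', rfl⟩ := hyF
    have h1 : genericPoint F' ⤳ y' := (genericPoint_spec F').specializes (Set.mem_univ y')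
    have h2 : ι.base (genericPoint F') ∈ O := (h1.map ι.continuous).mem_open hO hyO
    exact fun h => h h2
  obtain ⟨U, hUo, hηU, hU⟩ := fibre_subset_closure_of_irreducibleSpace (ι ≫ f)
    (ι.base ⁻¹' Oᶜ) (hO.isClosed_compl.preimage ι.continuous) hw
  refine ⟨U, hUo, hηU, ?_⟩
  rintro s hs x ⟨hxc, hxs⟩
  have hxF : x ∈ F := closure_minimal Set.inter_subset_right hF hxc
  rw [← hrange] at hxF
  obtain ⟨x', rfl⟩ := hxF
  have h1 : x' ∈ closure ((ι.base ⁻¹' Oᶜ)ᶜ ∩ (ι ≫ f).base ⁻¹' {s}) := hU s hs hxs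
  have h2 := image_closure_subset_closure_image ι.continuous (Set.mem_image_of_mem ι.base h1)
  refine closure_mono ?_ h2
  rintro _ ⟨y', ⟨hy1, hy2⟩, rfl⟩
  refine ⟨⟨?_, ?_⟩, hy2⟩
  · by_contra h
    exact hy1 h
  · rw [← hrange]
    exact ⟨y', rfl⟩

/-- **EGA IV 9.5.3 (generic part)**: for `Z` constructible, over a nonempty open subset of the
base the closure of `Z` in the fibres is the trace of the closure of `Z`. -/
theorem PG_of_isConstructible [IsNoetherian T] [IrreducibleSpace T] (f : X ⟶ T)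
    [LocallyOfFiniteType f] [QuasiCompact f] (Z : Set X) (hZ : IsConstructible Z) : PG f Z := by
  haveI : IsLocallyNoetherian X := LocallyOfFiniteType.isLocallyNoetherian f
  haveI : CompactSpace X := QuasiCompact.compactSpace_of_compactSpace f
  haveI : IsNoetherian X := {}
  have key : ∀ W : Set X, IsClosed W → ∀ Z : Set X, IsConstructible Z → PG f (Z ∩ W) := by
    refine Groth.Agent.H8.CNoeth.closed_induction
      (P := fun W => ∀ Z : Set X, IsConstructible Z → PG f (Z ∩ W)) ?_ ?_ ?_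
    · intro Z _
      rw [Set.inter_empty]
      exact PG_empty f
    · intro W hW hWi ih Z hZ
      rcases Groth.Agent.H8.CNoeth.dichotomy hWi hZ with
        ⟨O, hO, hne, hsub⟩ | ⟨O, hO, hne, hsub⟩
      · have hlt : W ∩ Oᶜ ⊂ W := by
          refine ⟨Set.inter_subset_left, fun h => ?_⟩
          obtain ⟨y, hyO, hyW⟩ := hne
          exact (h hyW).2 hyO
        have h1 := ih (W ∩ Oᶜ) (hW.inter hO.isClosed_compl) hlt Z hZ
        have h2 := PG_inter_of_irreducible f W O hW hWi hO
        have e : Z ∩ W = (O ∩ W) ∪ (Z ∩ (W ∩ Oᶜ)) := by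
          ext x
          constructor
          · rintro ⟨hxZ, hxW⟩
            by_cases hxO : x ∈ O
            · exact Or.inl ⟨hxO, hxW⟩
            · exact Or.inr ⟨hxZ, hxW, hxO⟩
          · rintro (hx | ⟨hxZ, hxW, -⟩)
            · exact ⟨hsub hx, hx.2⟩
            · exact ⟨hxZ, hxW⟩
        rw [e]
        exact PG_union f h2 h1
      · have hlt : W ∩ Oᶜ ⊂ W := by
          refine ⟨Set.inter_subset_left, fun h => ?_⟩
          obtain ⟨y, hyO, hyW⟩ := hne
          exact (h hyW).2 hyO
        have h1 := ih (W ∩ Oᶜ) (hW.inter hO.isClosed_compl) hlt Z hZ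
        have e : Z ∩ W = Z ∩ (W ∩ Oᶜ) := by
          ext x
          constructor
          · rintro ⟨hxZ, hxW⟩
            exact ⟨hxZ, hxW, fun hxO => hsub ⟨hxO, hxW⟩ hxZ⟩
          · rintro ⟨hxZ, hxW, -⟩
            exact ⟨hxZ, hxW⟩
        rw [e]
        exact h1
    · intro W₁ W₂ _ _ h1 h2 Z hZ
      rw [Set.inter_union_distrib_left]
      exact PG_union f (h1 Z hZ) (h2 Z hZ)
  have := key Set.univ isClosed_univ Z hZ
  rwa [Set.inter_univ] at this

end Groth.Agent.H1.ConsFib
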