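import Mathlib
import Groth.Agent.Lib.Helper1.ConsFibG

/-!
# Constructibility of fibrewise topological properties over a Noetherian base
(EGA IV 9.5.3, 9.5.4, Noetherian case) — helper1
-/

set_option autoImplicit false
set_option linter.style.haveILetI false

universe u

open CategoryTheory CategoryTheory.Limits AlgebraicGeometry Topology TopologicalSpace

namespace Groth.Agent.H1.ConsFib

/-- the generic statement over a Noetherian irreducible base. -/
def Gen (Q : ∀ (F : Type u) [TopologicalSpace F], Set F → Set F → Prop) : Prop :=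
  ∀ {X T : Scheme.{u}} [IsNoetherian T] [IrreducibleSpace T] (f : X ⟶ T)
    [LocallyOfFiniteType f] [QuasiCompact f] (Z Z' : Set X), IsConstructible Z →
    IsConstructible Z' →
    ∃ U : Set T, IsOpen U ∧ U.Nonempty ∧ ∃ C : Set T, IsConstructible C ∧
      ∀ s ∈ U, (s ∈ ESet Q f Z Z' ↔ s ∈ C)

/-- the statement over a Noetherian base. -/
def Noeth (Q : ∀ (F : Type u) [TopologicalSpace F], Set F → Set F → Prop) : Prop :=
  ∀ {X S : Scheme.{u}} [IsNoetherian S] (f : X ⟶ S) [LocallyOfFiniteType f] [QuasiCompact f]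
    (Z Z' : Set X), IsConstructible Z → IsConstructible Z' → IsConstructible (ESet Q f Z Z')

theorem noeth_of_gen (Q : ∀ (F : Type u) [TopologicalSpace F], Set F → Set F → Prop)
    (hQ : Inv Q) (hgen : Gen Q) : Noeth Q := by
  intro X S _ f _ _ Z Z' hZ hZ'
  have key := (Groth.Agent.H8.CNoeth.constructible_map_iff (X := ↥S)
    (fun s : S => (s ∈ ESet Q f Z Z' : Prop))).2 ?_
  · have h1 := key.1 True
    convert h1 using 1
    ext s
    simp only [Set.mem_preimage, Set.mem_singleton_iff, eq_iff_iff, iff_true]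
  · intro Y hY hYi
    obtain ⟨T, i, hi, hrange⟩ := exists_closedImmersion S Y hY
    haveI := hi
    haveI : IrreducibleSpace T := irreducibleSpace_of_range i (by rw [hrange]; exact hYi)
    haveI : IsLocallyNoetherian T := LocallyOfFiniteType.isLocallyNoetherian i
    haveI : CompactSpace T := QuasiCompact.compactSpace_of_compactSpace i
    haveI : IsNoetherian T := {}
    have sq : IsPullback (pullback.fst f i) (pullback.snd f i) f i :=
      IsPullback.of_hasPullback f i
    have hbc := ESet_of_isPullback Q hQ f i (pullback.fst f i) (pullback.snd f i) sq Z Z'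
    obtain ⟨UT, hUTo, hUTne, C, hC, hUC⟩ := hgen (pullback.snd f i)
      ((pullback.fst f i).base ⁻¹' Z) ((pullback.fst f i).base ⁻¹' Z')
      ((pullback.fst f i).isConstructible_preimage hZ)
      ((pullback.fst f i).isConstructible_preimage hZ')
    have hdich := Groth.Agent.H8.CNoeth.dichotomy (X := ↥T) (Y := Set.univ)
      (IrreducibleSpace.isIrreducible_univ ↥T) hC
    have hW : ∃ WT : Set T, IsOpen WT ∧ WT.Nonempty ∧ ∀ a ∈ WT, ∀ b ∈ WT,
        (a ∈ ESet Q (pullback.snd f i) ((pullback.fst f i).base ⁻¹' Z)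
            ((pullback.fst f i).base ⁻¹' Z') ↔
          b ∈ ESet Q (pullback.snd f i) ((pullback.fst f i).base ⁻¹' Z)
            ((pullback.fst f i).base ⁻¹' Z')) := by
      rcases hdich with ⟨V, hV, hVne, hVC⟩ | ⟨V, hV, hVne, hVC⟩
      · refine ⟨UT ∩ V, hUTo.inter hV, ?_, ?_⟩
        · rw [Set.inter_univ] at hVne
          exact nonempty_preirreducible_inter hUTo hV hUTne hVne
        · rintro a ⟨haU, haV⟩ b ⟨hbU, hbV⟩
          rw [hUC a haU, hUC b hbU]
          exact iff_of_true (hVC ⟨haV, trivial⟩) (hVC ⟨hbV, trivial⟩)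
      · refine ⟨UT ∩ V, hUTo.inter hV, ?_, ?_⟩
        · rw [Set.inter_univ] at hVne
          exact nonempty_preirreducible_inter hUTo hV hUTne hVne
        · rintro a ⟨haU, haV⟩ b ⟨hbU, hbV⟩
          rw [hUC a haU, hUC b hbU]
          exact iff_of_false (hVC ⟨haV, trivial⟩) (hVC ⟨hbV, trivial⟩)
    obtain ⟨WT, hWTo, ⟨t₀, ht₀⟩, hWconst⟩ := hW
    obtain ⟨W, hWo, hWpre⟩ := i.isEmbedding.isInducing.isOpen_iff.mp hWTo
    refine ⟨W, hWo, ⟨i.base t₀, ?_, ?_⟩, ?_⟩
    · show t₀ ∈ i.base ⁻¹' W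
      rw [hWpre]
      exact ht₀
    · rw [← hrange]
      exact ⟨t₀, rfl⟩
    · rintro a ⟨haW, haY⟩ b ⟨hbW, hbY⟩
      rw [← hrange] at haY hbY
      obtain ⟨a', rfl⟩ := haY
      obtain ⟨b', rfl⟩ := hbY
      have ha' : a' ∈ WT := by rw [← hWpre]; exact haW
      have hb' : b' ∈ WT := by rw [← hWpre]; exact hbW
      have := hWconst a' ha' b' hb'
      rw [hbc] at this
      exact propext this

theorem gen_dense : Gen QDense.{u} := by
  intro X T _ _ f _ _ Z Z' hZ hZ'
  haveI : IsLocallyNoetherian X := LocallyOfFiniteType.isLocallyNoetherian f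
  haveI : CompactSpace X := QuasiCompact.compactSpace_of_compactSpace f
  haveI : IsNoetherian X := {}
  obtain ⟨U, hUo, hηU, hU⟩ := PG_of_isConstructible f Z hZ
  haveI : LocallyOfFinitePresentation f := Groth.Agent.H1.EtNhd.lfp_of_lft_of_noetherian f
  refine ⟨U, hUo, ⟨_, hηU⟩, (f.base '' (Z' \ closure Z))ᶜ, ?_, ?_⟩
  · exact (f.isConstructible_image
      (hZ'.sdiff (Groth.Agent.H8.CNoeth.isConstructible_of_isClosed isClosed_closure))).compl
  · intro s hs
    rw [mem_ESet_dense_iff]
    constructor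
    · rintro h ⟨x, ⟨hxZ', hxZ⟩, rfl⟩
      exact hxZ (closure_mono Set.inter_subset_left (h ⟨hxZ', rfl⟩))
    · intro h x ⟨hxZ', hxs⟩
      have hx : x ∈ closure Z := by
        by_contra hx
        exact h ⟨x, ⟨hxZ', hx⟩, hxs⟩
      exact hU s hs ⟨hx, hxs⟩

theorem gen_closed : Gen QClosed.{u} := by
  intro X T _ _ f _ _ Z Z' hZ hZ'
  haveI : IsLocallyNoetherian X := LocallyOfFiniteType.isLocallyNoetherian f
  haveI : CompactSpace X := QuasiCompact.compactSpace_of_compactSpace f
  haveI : IsNoetherian X := {}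
  obtain ⟨U, hUo, hηU, hU⟩ := PG_of_isConstructible f Z hZ
  haveI : LocallyOfFinitePresentation f := Groth.Agent.H1.EtNhd.lfp_of_lft_of_noetherian f
  refine ⟨U, hUo, ⟨_, hηU⟩, (f.base '' (closure Z \ Z))ᶜ, ?_, ?_⟩
  · exact (f.isConstructible_image
      ((Groth.Agent.H8.CNoeth.isConstructible_of_isClosed isClosed_closure).sdiff hZ)).compl
  · intro s hs
    rw [mem_ESet_closed_iff]
    constructor
    · rintro h ⟨x, ⟨hxc, hxZ⟩, rfl⟩
      exact hxZ (h ⟨hU _ hs ⟨hxc, rfl⟩, rfl⟩)
    · intro h x ⟨hxc, hxs⟩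
      by_contra hxZ
      exact h ⟨x, ⟨closure_mono Set.inter_subset_left hxc, hxZ⟩, hxs⟩

theorem noeth_dense : Noeth QDense.{u} := noeth_of_gen QDense inv_dense gen_dense

theorem noeth_closed : Noeth QClosed.{u} := noeth_of_gen QClosed inv_closed gen_closed

theorem gen_lc : Gen QLC.{u} := by
  intro X T _ _ f _ _ Z Z' hZ hZ'
  haveI : IsLocallyNoetherian X := LocallyOfFiniteType.isLocallyNoetherian f
  haveI : CompactSpace X := QuasiCompact.compactSpace_of_compactSpace f
  haveI : IsNoetherian X := {}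
  obtain ⟨U, hUo, hηU, hU⟩ := PG_of_isConstructible f Z hZ
  refine ⟨U, hUo, ⟨_, hηU⟩, ESet QClosed f (closure Z \ Z) Z', ?_, ?_⟩
  · exact noeth_closed f _ _
      ((Groth.Agent.H8.CNoeth.isConstructible_of_isClosed isClosed_closure).sdiff hZ) hZ'
  · intro s hs
    show IsLocallyClosed (Subtype.val ⁻¹' Z : Set ↥(f.base ⁻¹' {s})) ↔
      IsClosed (Subtype.val ⁻¹' (closure Z \ Z) : Set ↥(f.base ⁻¹' {s}))
    have hcl : closure (Subtype.val ⁻¹' Z : Set ↥(f.base ⁻¹' {s})) =
        Subtype.val ⁻¹' closure Z := by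
      rw [closure_subtype_preimage]
      ext ⟨x, hx⟩
      simp only [Set.mem_preimage]
      constructor
      · intro h
        exact closure_mono Set.inter_subset_left h
      · intro h
        exact hU s hs ⟨h, hx⟩
    rw [isLocallyClosed_iff_isOpen_coborder, coborder, isOpen_compl_iff, hcl]
    exact Iff.rfl

theorem noeth_lc : Noeth QLC.{u} := noeth_of_gen QLC inv_lc gen_lc

end Groth.Agent.H1.ConsFib
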