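import Mathlib
import Groth.Agent.Lib.Helper1.ConsFibN
import Groth.Agent.Lib.Helper5.Lim.FGSub2
import Groth.Agent.Lib.Helper5.Lim.Constructible
import Groth.Agent.Lib.Helper5.Lim.Model11
import Groth.Agent.Lib.Helper5.Lim.Model2

/-!
# Constructibility of fibrewise topological properties (EGA IV 9.5.3, 9.5.4) — helper1

Reduction to the Noetherian case by the limit formalism.
-/

set_option autoImplicit false
set_option linter.style.haveILetI false

universe u

open CategoryTheory CategoryTheory.Limits AlgebraicGeometry Topology TopologicalSpace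

namespace Groth.Agent.H1.ConsFib

open Groth.Agent.H5.Lim in
/-- the case of an affine base `Spec A`. -/
theorem isConstructible_ESet_spec
    (Q : ∀ (F : Type u) [TopologicalSpace F], Set F → Set F → Prop) (hQ : Inv Q)
    (hN : Noeth Q) (A : Type u) [CommRing A] {X : Scheme.{u}}
    (f : X ⟶ Spec (CommRingCat.of A)) [LocallyOfFinitePresentation f] [QuasiCompact f]
    [QuasiSeparated f] (Z Z' : Set X) (hZ : IsConstructible Z) (hZ' : IsConstructible Z') :
    IsConstructible (ESet Q f Z Z') := by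
  let f' : X ⟶ (fgzCone A).pt := f
  haveI : LocallyOfFinitePresentation f' := ‹LocallyOfFinitePresentation f›
  haveI : QuasiCompact f' := ‹QuasiCompact f›
  haveI : QuasiSeparated f' := ‹QuasiSeparated f›
  obtain ⟨j, ⟨M⟩⟩ := exists_model (fgzDiagram A) (fgzCone A) (isLimitFgzCone A) f'
  let i₀ : Over j := Over.mk (𝟙 j)
  haveI : CompactSpace ((bcDiagram (fgzDiagram A) M.p).obj i₀) :=
    (M.bc (𝟙 j)).compactSpace_Y
  haveI : QuasiSeparatedSpace ((bcDiagram (fgzDiagram A) M.p).obj i₀) :=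
    (M.bc (𝟙 j)).quasiSeparatedSpace_Y
  obtain ⟨k₁, Z₁, hZ₁, hZ₁e⟩ := exists_isConstructible_preimage_eq
    (bcDiagram (fgzDiagram A) M.p) M.cone (M.isLimitCone (isLimitFgzCone A)) i₀ Z hZ
  obtain ⟨k₂, Z₂, hZ₂, hZ₂e⟩ := exists_isConstructible_preimage_eq
    (bcDiagram (fgzDiagram A) M.p) M.cone (M.isLimitCone (isLimitFgzCone A)) i₀ Z' hZ'
  let k : Over i₀ := IsCofiltered.min k₁ k₂
  let φ₁ : k ⟶ k₁ := IsCofiltered.minToLeft k₁ k₂
  let φ₂ : k ⟶ k₂ := IsCofiltered.minToRight k₁ k₂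
  let W₁ : Set ((bcDiagram (fgzDiagram A) M.p).obj k.left) :=
    ((bcDiagram (fgzDiagram A) M.p).map φ₁.left).base ⁻¹' Z₁
  let W₂ : Set ((bcDiagram (fgzDiagram A) M.p).obj k.left) :=
    ((bcDiagram (fgzDiagram A) M.p).map φ₂.left).base ⁻¹' Z₂
  have hW₁ : IsConstructible W₁ :=
    ((bcDiagram (fgzDiagram A) M.p).map φ₁.left).isConstructible_preimage hZ₁
  have hW₂ : IsConstructible W₂ :=
    ((bcDiagram (fgzDiagram A) M.p).map φ₂.left).isConstructible_preimage hZ₂
  have e₁ : (M.cone.π.app k.left).base ⁻¹' W₁ = Z := by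
    rw [preimage_π_app_map (bcDiagram (fgzDiagram A) M.p) M.cone φ₁.left Z₁, hZ₁e]
  have e₂ : (M.cone.π.app k.left).base ⁻¹' W₂ = Z' := by
    rw [preimage_π_app_map (bcDiagram (fgzDiagram A) M.p) M.cone φ₂.left Z₂, hZ₂e]
  -- the Noetherian stage
  haveI : IsNoetherianRing ↥(k.left.left.unop.1) := by
    haveI : Algebra.FiniteType ℤ ↥(k.left.left.unop.1) :=
      (Subalgebra.fg_iff_finiteType _).mp k.left.left.unop.2
    exact Algebra.FiniteType.isNoetherianRing ℤ _
  haveI : IsNoetherian ((fgzDiagram A).obj k.left.left) :=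
    inferInstanceAs (IsNoetherian (Spec (CommRingCat.of ↥(k.left.left.unop.1))))
  have hcons := hN (M.bc k.left.hom).p W₁ W₂ hW₁ hW₂
  have hbc := ESet_of_isPullback Q hQ (M.bc k.left.hom).p ((fgzCone A).π.app k.left.left)
    (M.bc k.left.hom).g f' (M.bc k.left.hom).pb W₁ W₂
  have e₁' : ((M.bc k.left.hom).g).base ⁻¹' W₁ = Z := e₁
  have e₂' : ((M.bc k.left.hom).g).base ⁻¹' W₂ = Z' := e₂
  rw [e₁', e₂'] at hbc
  show IsConstructible (ESet Q f' Z Z')
  rw [hbc]
  exact ((fgzCone A).π.app k.left.left).isConstructible_preimage hcons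

/-- the case of an affine base. -/
theorem isConstructible_ESet_of_isAffine
    (Q : ∀ (F : Type u) [TopologicalSpace F], Set F → Set F → Prop) (hQ : Inv Q)
    (hN : Noeth Q) {X S : Scheme.{u}} [IsAffine S] (f : X ⟶ S)
    [LocallyOfFinitePresentation f] [QuasiCompact f] [QuasiSeparated f] (Z Z' : Set X)
    (hZ : IsConstructible Z) (hZ' : IsConstructible Z') :
    IsConstructible (ESet Q f Z Z') := by
  have sq : IsPullback (𝟙 X) (f ≫ S.isoSpec.hom) f S.isoSpec.inv :=
    IsPullback.of_horiz_isIso ⟨by simp⟩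
  have hbc := ESet_of_isPullback Q hQ f S.isoSpec.inv (𝟙 X) (f ≫ S.isoSpec.hom) sq Z Z'
  have hid : ∀ W : Set X, (𝟙 X : X ⟶ X).base ⁻¹' W = W := fun W => rfl
  rw [hid, hid] at hbc
  let f'' : X ⟶ Spec (CommRingCat.of ↑Γ(S, ⊤)) := f ≫ S.isoSpec.hom
  haveI : LocallyOfFinitePresentation f'' :=
    inferInstanceAs (LocallyOfFinitePresentation (f ≫ S.isoSpec.hom))
  haveI : QuasiCompact f'' := inferInstanceAs (QuasiCompact (f ≫ S.isoSpec.hom))
  haveI : QuasiSeparated f'' := inferInstanceAs (QuasiSeparated (f ≫ S.isoSpec.hom))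
  have h1 : IsConstructible (ESet Q (f ≫ S.isoSpec.hom) Z Z') :=
    isConstructible_ESet_spec Q hQ hN ↑Γ(S, ⊤) f'' Z Z' hZ hZ'
  have h2 : ESet Q f Z Z' =
      S.isoSpec.hom.base ⁻¹' (S.isoSpec.inv.base ⁻¹' ESet Q f Z Z') := by
    ext s
    simp only [Set.mem_preimage]
    have : S.isoSpec.inv.base (S.isoSpec.hom.base s) = s := by
      rw [← Scheme.Hom.comp_apply, Iso.hom_inv_id]
      rfl
    rw [this]
  rw [h2, ← hbc]
  exact S.isoSpec.hom.isConstructible_preimage h1

/-- **Main theorem**: for `f` of finite presentation and `Z`, `Z'` locally constructible, the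
set of points of the base over which the traces on the fibre satisfy `Q` is locally
constructible. -/
theorem isLocallyConstructible_ESet
    (Q : ∀ (F : Type u) [TopologicalSpace F], Set F → Set F → Prop) (hQ : Inv Q)
    (hN : Noeth Q) {X S : Scheme.{u}} (f : X ⟶ S)
    [LocallyOfFinitePresentation f] [QuasiCompact f] [QuasiSeparated f] (Z Z' : Set X)
    (hZ : IsLocallyConstructible Z) (hZ' : IsLocallyConstructible Z') :
    IsLocallyConstructible (ESet Q f Z Z') := by
  intro s₀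
  obtain ⟨V, hV, hsV⟩ : ∃ V : S.Opens, IsAffineOpen V ∧ s₀ ∈ V := by
    obtain ⟨_, ⟨V, hV, rfl⟩, hsV, -⟩ :=
      S.isBasis_affineOpens.exists_subset_of_mem_open (Set.mem_univ s₀) isOpen_univ
    exact ⟨V, hV, hsV⟩
  refine ⟨V, V.isOpen.mem_nhds hsV, V.isOpen, ?_⟩
  have sq := (isPullback_morphismRestrict f V).flip
  have hbc := ESet_of_isPullback Q hQ f V.ι (f ⁻¹ᵁ V).ι (f ∣_ V) sq Z Z'
  have hV' : IsAffine V.toScheme := hV
  haveI : CompactSpace ↥(f ⁻¹ᵁ V).toScheme := QuasiCompact.compactSpace_of_compactSpace (f ∣_ V)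
  haveI : QuasiSeparatedSpace ↥(f ⁻¹ᵁ V).toScheme :=
    quasiSeparatedSpace_of_quasiSeparated (f ∣_ V)
  have h1 := isConstructible_ESet_of_isAffine Q hQ hN (f ∣_ V) _ _
    (hZ.preimage_of_isOpenEmbedding (f ⁻¹ᵁ V).ι.isOpenEmbedding).isConstructible
    (hZ'.preimage_of_isOpenEmbedding (f ⁻¹ᵁ V).ι.isOpenEmbedding).isConstructible
  rw [hbc] at h1
  exact h1

theorem isLocallyConstructible_compl' {T : Type*} [TopologicalSpace T] {s : Set T}
    (hs : IsLocallyConstructible s) : IsLocallyConstructible sᶜ := by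
  intro x
  obtain ⟨U, hU, hUo, hc⟩ := hs x
  exact ⟨U, hU, hUo, by simpa using hc.compl⟩

section Final

variable {X S : Scheme.{u}} (f : X ⟶ S) [LocallyOfFinitePresentation f] [QuasiCompact f]
  [QuasiSeparated f]

/-- EGA IV 9.5.3. -/
theorem isLocallyConstructible_dense (Z Z' : Set X) (hZ : IsLocallyConstructible Z)
    (hZ' : IsLocallyConstructible Z') :
    IsLocallyConstructible
      {s : S | Z' ∩ f.base ⁻¹' {s} ⊆ closure (Z ∩ f.base ⁻¹' {s})} := by
  have := isLocallyConstructible_ESet QDense inv_dense noeth_dense f Z Z' hZ hZ'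
  convert this using 1
  ext s
  exact (mem_ESet_dense_iff f Z Z' s).symm

/-- EGA IV 9.5.4, closed. -/
theorem isLocallyConstructible_closed (Z : Set X) (hZ : IsLocallyConstructible Z) :
    IsLocallyConstructible
      {s : S | IsClosed (Subtype.val ⁻¹' Z : Set ↥(f.base ⁻¹' {s}))} :=
  isLocallyConstructible_ESet QClosed inv_closed noeth_closed f Z Z hZ hZ

/-- EGA IV 9.5.4, open. -/
theorem isLocallyConstructible_open (Z : Set X) (hZ : IsLocallyConstructible Z) :
    IsLocallyConstructible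
      {s : S | IsOpen (Subtype.val ⁻¹' Z : Set ↥(f.base ⁻¹' {s}))} := by
  have := isLocallyConstructible_closed f Zᶜ (isLocallyConstructible_compl' hZ)
  convert this using 1
  ext s
  simp only [Set.mem_ofPred_eq, Set.preimage_compl, isClosed_compl_iff]

/-- EGA IV 9.5.4, locally closed. -/
theorem isLocallyConstructible_locallyClosed (Z : Set X) (hZ : IsLocallyConstructible Z) :
    IsLocallyConstructible
      {s : S | IsLocallyClosed (Subtype.val ⁻¹' Z : Set ↥(f.base ⁻¹' {s}))} :=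
  isLocallyConstructible_ESet QLC inv_lc noeth_lc f Z Z hZ hZ

end Final

end Groth.Agent.H1.ConsFib
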