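import Mathlib
import Groth.Agent.Lib.Helper1.ConsFibL
import Groth.Agent.Lib.Helper5.Cons.C3

/-!
# Fibrewise dominant / separated loci (EGA IV 9.6.1 (ii), (ix)-style) — helper1
-/

set_option autoImplicit false
set_option linter.style.haveILetI false

universe u

open CategoryTheory CategoryTheory.Limits AlgebraicGeometry Topology TopologicalSpace

namespace Groth.Agent.H1.ConsFib

theorem dense_preimage_iff_of_isEmbedding {F P : Type*} [TopologicalSpace F]
    [TopologicalSpace P] {j : F → P} (hj : IsEmbedding j) (R : Set P) :
    Dense (j ⁻¹' R) ↔ Set.range j ⊆ closure (R ∩ Set.range j) := by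
  rw [dense_iff_closure_eq, hj.isInducing.closure_eq_preimage_closure_image,
    Set.image_preimage_eq_inter_range, Set.eq_univ_iff_forall]
  constructor
  · rintro h _ ⟨p, rfl⟩
    exact h p
  · intro h p
    exact h ⟨p, rfl⟩

theorem isClosed_preimage_iff_of_isEmbedding {F P : Type*} [TopologicalSpace F]
    [TopologicalSpace P] {m : F → P} (hm : IsEmbedding m) {A : Set P} (hA : Set.range m = A)
    (R : Set P) :
    IsClosed (m ⁻¹' R) ↔ IsClosed (Subtype.val ⁻¹' R : Set ↥A) := by
  subst hA
  have h1 : m ⁻¹' R = hm.toHomeomorph ⁻¹' (Subtype.val ⁻¹' R) := by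
    ext p
    rfl
  rw [h1]
  exact hm.toHomeomorph.isClosed_preimage

variable {X Y S : Scheme.{u}} (f : X ⟶ Y) (g : Y ⟶ S)

theorem fibMap_isDominant_iff (s : S) :
    IsDominant (H5.Cons.fibMap f g s) ↔
      Set.univ ∩ g.base ⁻¹' {s} ⊆ closure (Set.range f.base ∩ g.base ⁻¹' {s}) := by
  have H1 := H5.Cons.isPullback_fibMap f g s
  have hr : Set.range (H5.Cons.fibMap f g s).base =
      (pullback.fst g (S.fromSpecResidueField s)).base ⁻¹' Set.range f.base :=
    H5.Cons.range_eq_preimage_range H1.flip
  have hj : IsEmbedding (pullback.fst g (S.fromSpecResidueField s)).base :=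
    (g.fiberι s).isEmbedding
  rw [isDominant_iff, DenseRange, hr, dense_preimage_iff_of_isEmbedding hj,
    H5.Cons.range_fst_fromSpecResidueField, Set.univ_inter]

theorem main3425 [LocallyOfFinitePresentation g] [QuasiCompact g] [QuasiSeparated g]
    [LocallyOfFinitePresentation (f ≫ g)] [QuasiCompact (f ≫ g)] [QuasiSeparated (f ≫ g)] :
    IsLocallyConstructible {s : S | IsDominant (H5.Cons.fibMap f g s)} := by
  haveI : LocallyOfFinitePresentation f :=
    Groth.Agent.H5.EtSrc.locallyOfFinitePresentation_of_comp f g inferInstance inferInstance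
  haveI : QuasiCompact f := QuasiCompact.of_comp f g
  have hT : IsLocallyConstructible (Set.range f.base) := by
    rw [← Set.image_univ]
    exact f.isLocallyConstructible_image IsLocallyConstructible.univ
  have := isLocallyConstructible_dense g (Set.range f.base) Set.univ hT
    IsLocallyConstructible.univ
  convert this using 1
  ext s
  exact fibMap_isDominant_iff f g s

theorem fibMap_isSeparated_iff (s : S) :
    IsSeparated (H5.Cons.fibMap f g s) ↔
      IsClosed (Subtype.val ⁻¹' Set.range (pullback.diagonal f).base :
        Set ↥(((pullback.fst f f ≫ f) ≫ g).base ⁻¹' {s})) := by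
  have H1 := H5.Cons.isPullback_fibMap f g s
  obtain ⟨m, H2, H5'⟩ : ∃ m : pullback (H5.Cons.fibMap f g s) (H5.Cons.fibMap f g s) ⟶
      pullback f f,
      IsPullback m (pullback.fst (H5.Cons.fibMap f g s) (H5.Cons.fibMap f g s) ≫
        H5.Cons.fibMap f g s) (pullback.fst f f ≫ f)
        (pullback.fst g (S.fromSpecResidueField s)) ∧
      IsPullback (pullback.fst (f ≫ g) (S.fromSpecResidueField s))
        (pullback.diagonal (H5.Cons.fibMap f g s)) (pullback.diagonal f) m :=
    ⟨_, H5.Cons.isPullback_pullbackMap_base H1, H5.Cons.isPullback_diagonal_base H1⟩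
  haveI : IsPreimmersion (pullback.fst g (S.fromSpecResidueField s)) :=
    inferInstanceAs (IsPreimmersion (g.fiberι s))
  haveI : IsPreimmersion m :=
    MorphismProperty.of_isPullback (P := @IsPreimmersion) H2.flip inferInstance
  have hrange : Set.range m.base = ((pullback.fst f f ≫ f) ≫ g).base ⁻¹' {s} := by
    rw [H5.Cons.range_eq_preimage_range H2, H5.Cons.range_fst_fromSpecResidueField]
    rfl
  have hdiag : Set.range (pullback.diagonal (H5.Cons.fibMap f g s)).base =
      m.base ⁻¹' Set.range (pullback.diagonal f).base :=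
    H5.Cons.range_eq_preimage_range H5'.flip
  rw [← isClosed_preimage_iff_of_isEmbedding m.isEmbedding hrange, ← hdiag]
  constructor
  · intro h
    exact (IsClosedImmersion.iff_isPreimmersion.mp h.isClosedImmersion_diagonal).2
  · intro h
    exact ⟨IsClosedImmersion.of_isPreimmersion _ h⟩

theorem main3424 [LocallyOfFinitePresentation g] [QuasiCompact g] [QuasiSeparated g]
    [LocallyOfFinitePresentation (f ≫ g)] [QuasiCompact (f ≫ g)] [QuasiSeparated (f ≫ g)] :
    IsLocallyConstructible {s : S | IsSeparated (H5.Cons.fibMap f g s)} := by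
  haveI : LocallyOfFinitePresentation f :=
    Groth.Agent.H5.EtSrc.locallyOfFinitePresentation_of_comp f g inferInstance inferInstance
  haveI : QuasiCompact f := QuasiCompact.of_comp f g
  haveI : QuasiSeparated f := QuasiSeparated.of_comp f g
  haveI : LocallyOfFinitePresentation (pullback.diagonal f) :=
    Groth.Agent.H5.EtSrc.locallyOfFinitePresentation_of_comp (pullback.diagonal f)
      (pullback.fst f f) (by rw [pullback.diagonal_fst]; infer_instance) inferInstance
  have hT : IsLocallyConstructible (Set.range (pullback.diagonal f).base) := by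
    rw [← Set.image_univ]
    exact (pullback.diagonal f).isLocallyConstructible_image IsLocallyConstructible.univ
  haveI : LocallyOfFinitePresentation ((pullback.fst f f ≫ f) ≫ g) := by
    rw [Category.assoc]; infer_instance
  haveI : QuasiCompact ((pullback.fst f f ≫ f) ≫ g) := by
    rw [Category.assoc]; infer_instance
  haveI : QuasiSeparated ((pullback.fst f f ≫ f) ≫ g) := by
    rw [Category.assoc]; infer_instance
  have := isLocallyConstructible_closed ((pullback.fst f f ≫ f) ≫ g) _ hT
  convert this using 1
  ext s
  exact fibMap_isSeparated_iff f g s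

end Groth.Agent.H1.ConsFib
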