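import Mathlib
import Groth.Agent.Lib.Lead.Chow.Lemma
import Groth.Agent.Lib.Helper5.AG.ProjProper
import Groth.Agent.Lib.Helper5.Cons.C3
import Groth.Agent.Lib.Helper1.ConsFibM
import Groth.Agent.Lib.Helper1.Subtr2
import Groth.Agent.Lib.Helper8.ConstructibleNoeth

/-!
# Quasi-projective Chow lemma and base-change criteria for properness — helper1
-/

set_option autoImplicit false
set_option linter.style.haveILetI false

universe u

open CategoryTheory CategoryTheory.Limits AlgebraicGeometry Topology TopologicalSpace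

namespace Groth.Agent.H1.ConsFib

section Chow

open Groth.Agent.LD.Chow

variable (A : Type u) [CommRing A] [IsNoetherianRing A]

/-- **Chow's lemma, quasi-projective form**: an integral scheme separated of finite type over a
noetherian ring is dominated by a proper surjective morphism from a scheme immersed in a
projective space. -/
theorem chow_quasiProjective {Z : Scheme.{u}} [IsIntegral Z] (f : Z ⟶ Spec (CommRingCat.of A))
    [IsSeparated f] [LocallyOfFiniteType f] [QuasiCompact f] :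
    ∃ (N : ℕ) (Z' : Scheme.{u}) (π : Z' ⟶ Z) (q : Z' ⟶ Proj (CohB1.polyGrading N A)),
      π ≫ f = q ≫ pStr N A ∧ IsProper π ∧ Surjective π ∧ IsImmersion q := by
  haveI : CompactSpace Z := (quasiCompact_iff_compactSpace f).mp inferInstance
  obtain ⟨d, hd⟩ := exists_chowData f
  haveI : IsLocallyNoetherian Z := LocallyOfFiniteType.isLocallyNoetherian f
  haveI : IsNoetherian Z := {}
  haveI : NoetherianSpace d.X₀.toScheme := by
    change NoetherianSpace (d.X₀ : Set Z)
    infer_instance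
  haveI : QuasiCompact d.ψ := inferInstance
  haveI : IsProper (pStr d.N A) := Groth.Agent.H5.AG.isProper_toSpec d.N A
  have hπproper : IsProper (gπ f (pStr d.N A) d.X₀ d.ψ) := by
    change IsProper (d.ψ.imageι ≫ pullback.fst f (pStr d.N A))
    infer_instance
  refine ⟨d.N, gcl f (pStr d.N A) d.X₀ d.ψ, gπ f (pStr d.N A) d.X₀ d.ψ,
    gq f (pStr d.N A) d.X₀ d.ψ, ?_, hπproper, ?_, ?_⟩
  · change (d.ψ.imageι ≫ pullback.fst f (pStr d.N A)) ≫ f =
      (d.ψ.imageι ≫ pullback.snd f (pStr d.N A)) ≫ pStr d.N A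
    rw [Category.assoc, Category.assoc, pullback.condition]
  · haveI := hπproper
    haveI hiso : IsIso (gπ f (pStr d.N A) d.X₀ d.ψ ∣_ d.X₀) := d.isIso_gπ_restrict
    have hX₀ : (d.X₀ : Set Z) ⊆ Set.range (gπ f (pStr d.N A) d.X₀ d.ψ) := by
      intro x hx
      set y := (inv (gπ f (pStr d.N A) d.X₀ d.ψ ∣_ d.X₀)) ⟨x, hx⟩ with hy
      have hy' : (gπ f (pStr d.N A) d.X₀ d.ψ ∣_ d.X₀) y = ⟨x, hx⟩ := by
        rw [hy, ← Scheme.Hom.comp_apply, IsIso.inv_hom_id]
        rfl
      refine ⟨((gπ f (pStr d.N A) d.X₀ d.ψ) ⁻¹ᵁ d.X₀).ι y, ?_⟩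
      have h1 : ((gπ f (pStr d.N A) d.X₀ d.ψ ∣_ d.X₀) ≫ d.X₀.ι) y =
          (((gπ f (pStr d.N A) d.X₀ d.ψ) ⁻¹ᵁ d.X₀).ι ≫ gπ f (pStr d.N A) d.X₀ d.ψ) y :=
        congrArg (fun φ : ((gπ f (pStr d.N A) d.X₀ d.ψ) ⁻¹ᵁ d.X₀).toScheme ⟶ Z => φ y)
          (morphismRestrict_ι (gπ f (pStr d.N A) d.X₀ d.ψ) d.X₀)
      change (((gπ f (pStr d.N A) d.X₀ d.ψ) ⁻¹ᵁ d.X₀).ι ≫ gπ f (pStr d.N A) d.X₀ d.ψ) y = x
      rw [← h1, Scheme.Hom.comp_apply, hy']
      rfl
    have hclosed : IsClosed (Set.range (gπ f (pStr d.N A) d.X₀ d.ψ)) :=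
      (gπ f (pStr d.N A) d.X₀ d.ψ).isClosedMap.isClosed_range
    have hdense : Dense (d.X₀ : Set Z) := d.X₀.isOpen.dense hd
    refine ⟨fun z => ?_⟩
    have : closure (d.X₀ : Set Z) ⊆ Set.range (gπ f (pStr d.N A) d.X₀ d.ψ) :=
      closure_minimal hX₀ hclosed
    exact this (hdense z)
  · haveI : MorphismProperty.RespectsRight @IsImmersion @IsOpenImmersion :=
      ⟨fun i hi f hf => by haveI := hi; haveI := hf; exact inferInstance⟩
    refine IsZariskiLocalAtTarget.of_range_subset_iSup (P := @IsImmersion)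
      (fun j : {j : Fin (d.N + 1) // ∃ i, d.e j i = 0} => d.D j.1) ?_ ?_
    · rintro _ ⟨z, rfl⟩
      obtain ⟨j, i, hji, hz⟩ := d.exists_good_chart z
      exact Opens.mem_iSup.mpr ⟨⟨j, i, hji⟩, hz⟩
    · rintro ⟨j, i, hji⟩
      haveI : IsClosedImmersion (gq f (pStr d.N A) d.X₀ d.ψ ∣_ d.D j) :=
        d.isClosedImmersion_gq_restrict_D i j hji
      infer_instance

end Chow

/-! ### general lemmas -/

theorem isConstructible_of_isLocallyClosed {T : Type u} [TopologicalSpace T] [NoetherianSpace T]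
    {A : Set T} (h : IsLocallyClosed A) : IsConstructible A := by
  obtain ⟨U, Z, hU, hZ, rfl⟩ := h
  exact (Groth.Agent.H8.CNoeth.isConstructible_of_isOpen hU).inter
    (Groth.Agent.H8.CNoeth.isConstructible_of_isClosed hZ)

theorem exists_integral_closedImmersion (X : Scheme.{u}) (W : Set X) (hW : IsClosed W)
    (hirr : IsIrreducible W) :
    ∃ (Z : Scheme.{u}) (i : Z ⟶ X), IsClosedImmersion i ∧ Set.range i = W ∧ IsIntegral Z := by
  let C : TopologicalSpace.Closeds X := ⟨W, hW⟩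
  have hr : Set.range (Scheme.IdealSheafData.vanishingIdeal C).subschemeι = W :=
    Groth.Agent.H1.QFDimLe.range_subschemeι_vanishingIdeal C
  haveI : IsReduced (Scheme.IdealSheafData.vanishingIdeal C).subscheme :=
    Groth.Agent.Lib.Helper1.Subtr2.isReduced_subscheme_vanishingIdeal C
  haveI : IrreducibleSpace (Scheme.IdealSheafData.vanishingIdeal C).subscheme :=
    irreducibleSpace_of_range (Scheme.IdealSheafData.vanishingIdeal C).subschemeι
      (by rw [hr]; exact hirr)
  exact ⟨_, _, inferInstance, hr, isIntegral_of_irreducibleSpace_of_isReduced _⟩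

/-- `f` becomes proper after base change along `j`. -/
def BCProper {X Y Y₀ : Scheme.{u}} (f : X ⟶ Y) (j : Y₀ ⟶ Y) : Prop :=
  IsProper (pullback.snd f j)

theorem bcProper_iff_of_isPullback {X Y Y₀ X₀ : Scheme.{u}} {f : X ⟶ Y} {j : Y₀ ⟶ Y}
    {j' : X₀ ⟶ X} {f₀ : X₀ ⟶ Y₀} (H : IsPullback j' f₀ f j) : BCProper f j ↔ IsProper f₀ := by
  have e : f₀ = H.isoPullback.hom ≫ pullback.snd f j := H.isoPullback_hom_snd.symm
  unfold BCProper
  rw [e]
  exact (MorphismProperty.cancel_left_of_respectsIso @IsProper H.isoPullback.hom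
    (pullback.snd f j)).symm

theorem universallyClosed_of_jointly_surjective {ι : Type*} [Finite ι] {X Z : Scheme.{u}}
    {T : ι → Scheme.{u}} (a : ∀ k, T k ⟶ X) (g : X ⟶ Z)
    (h : ∀ k, UniversallyClosed (a k ≫ g)) (hsurj : ∀ x : X, ∃ k, x ∈ Set.range (a k)) :
    UniversallyClosed g := by
  constructor
  intro X' Y' i₁ i₂ f' H
  have hk : ∀ k, IsClosedMap (pullback.fst i₁ (a k) ≫ f') := fun k => by
    haveI := h k
    exact UniversallyClosed.universally_isClosedMap _ _ _
      ((IsPullback.of_hasPullback i₁ (a k)).paste_horiz H)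
  intro C hC
  show IsClosed (f' '' C)
  have hEq : f' '' C =
      ⋃ k, (pullback.fst i₁ (a k) ≫ f') '' ((pullback.fst i₁ (a k)) ⁻¹' C) := by
    ext y
    constructor
    · rintro ⟨c, hc, rfl⟩
      obtain ⟨k, t, ht⟩ := hsurj (i₁ c)
      obtain ⟨z, hz1, hz2⟩ :=
        Scheme.Pullback.exists_preimage_pullback (f := i₁) (g := a k) c t ht.symm
      refine Set.mem_iUnion.mpr ⟨k, z, ?_, ?_⟩
      · show pullback.fst i₁ (a k) z ∈ C
        rw [hz1]; exact hc
      · rw [Scheme.Hom.comp_apply, hz1]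
    · intro hy
      obtain ⟨k, z, hz, rfl⟩ := Set.mem_iUnion.mp hy
      exact ⟨pullback.fst i₁ (a k) z, hz, (Scheme.Hom.comp_apply _ _ _).symm⟩
  rw [hEq]
  exact isClosed_iUnion_of_finite fun k =>
    hk k _ (hC.preimage (pullback.fst i₁ (a k)).continuous)

theorem bcProper_iff_forall_comp {ι : Type*} [Finite ι] {X Y Y₀ : Scheme.{u}}
    {T : ι → Scheme.{u}} (a : ∀ k, T k ⟶ X) (ha : ∀ k, IsProper (a k))
    (hsurj : ∀ x : X, ∃ k, x ∈ Set.range (a k))
    (f : X ⟶ Y) [IsSeparated f] [LocallyOfFiniteType f] (j : Y₀ ⟶ Y) :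
    BCProper f j ↔ ∀ k, BCProper (a k ≫ f) j := by
  have H : IsPullback (pullback.fst f j) (pullback.snd f j) f j := IsPullback.of_hasPullback f j
  have key : ∀ k, ∃ π₀ : pullback (a k ≫ f) j ⟶ pullback f j,
      π₀ ≫ pullback.snd f j = pullback.snd (a k ≫ f) j ∧
      IsPullback (pullback.fst (a k ≫ f) j) π₀ (a k) (pullback.fst f j) := by
    intro k
    have H' : IsPullback (pullback.fst (a k ≫ f) j) (pullback.snd (a k ≫ f) j) (a k ≫ f) j :=
      IsPullback.of_hasPullback _ _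
    have w : (pullback.fst (a k ≫ f) j ≫ a k) ≫ f = pullback.snd (a k ≫ f) j ≫ j := by
      rw [Category.assoc]; exact H'.w
    refine ⟨H.lift _ _ w, H.lift_snd _ _ w, ?_⟩
    refine IsPullback.of_bot ?_ (H.lift_fst _ _ w).symm H
    rw [H.lift_snd]
    exact H'
  choose π₀ hπ₀ hsq using key
  haveI : ∀ k, IsProper (π₀ k) := fun k =>
    MorphismProperty.of_isPullback (P := @IsProper) (hsq k) (ha k)
  constructor
  · intro h k
    haveI : IsProper (pullback.snd f j) := h
    show IsProper (pullback.snd (a k ≫ f) j)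
    rw [← hπ₀ k]
    infer_instance
  · intro h
    have huc : UniversallyClosed (pullback.snd f j) := by
      refine universallyClosed_of_jointly_surjective π₀ (pullback.snd f j) (fun k => ?_) ?_
      · rw [hπ₀ k]
        haveI : IsProper (pullback.snd (a k ≫ f) j) := h k
        infer_instance
      · intro x₀
        obtain ⟨k, t, ht⟩ := hsurj (pullback.fst f j x₀)
        obtain ⟨z, hz1, hz2⟩ := Scheme.Pullback.exists_preimage_pullback (f := a k)
          (g := pullback.fst f j) t x₀ ht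
        refine ⟨k, (hsq k).isoPullback.inv z, ?_⟩
        rw [← Scheme.Hom.comp_apply, (hsq k).isoPullback_inv_snd, hz2]
    exact { toIsSeparated := inferInstance
            toUniversallyClosed := huc
            toLocallyOfFiniteType := inferInstance }

theorem bcProper_iff_isClosed {X' P Y Y₀ : Scheme.{u}} (q : X' ⟶ P) (p : P ⟶ Y) [IsImmersion q]
    [IsProper p] (j : Y₀ ⟶ Y) :
    BCProper (q ≫ p) j ↔ IsClosed ((pullback.fst p j) ⁻¹' Set.range q) := by
  have H : IsPullback (pullback.fst p j) (pullback.snd p j) p j := IsPullback.of_hasPullback p j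
  have H' : IsPullback (pullback.fst (q ≫ p) j) (pullback.snd (q ≫ p) j) (q ≫ p) j :=
    IsPullback.of_hasPullback _ _
  have w : (pullback.fst (q ≫ p) j ≫ q) ≫ p = pullback.snd (q ≫ p) j ≫ j := by
    rw [Category.assoc]; exact H'.w
  have hsq : IsPullback (pullback.fst (q ≫ p) j) (H.lift _ _ w) q (pullback.fst p j) := by
    refine IsPullback.of_bot ?_ (H.lift_fst _ _ w).symm H
    rw [H.lift_snd]
    exact H'
  haveI : IsImmersion (H.lift _ _ w) :=
    MorphismProperty.of_isPullback (P := @IsImmersion) hsq inferInstance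
  have hrange : Set.range (H.lift _ _ w) = (pullback.fst p j) ⁻¹' Set.range q :=
    H5.Cons.range_eq_preimage_range hsq.flip
  have e : pullback.snd (q ≫ p) j = H.lift _ _ w ≫ pullback.snd p j := (H.lift_snd _ _ w).symm
  unfold BCProper
  rw [e, IsProper.comp_iff, ← hrange]
  constructor
  · intro h
    haveI := h
    exact (H.lift _ _ w).isClosedMap.isClosed_range
  · intro h
    haveI : IsClosedImmersion (H.lift _ _ w) := IsClosedImmersion.of_isPreimmersion _ h
    infer_instance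

theorem isClosed_preimage_fst_iff {P Y Y₀ S : Scheme.{u}} (p : P ⟶ Y) (g : Y ⟶ S) (s : S)
    (j : Y₀ ⟶ Y) [IsPreimmersion j] (hj : Set.range j = g ⁻¹' {s}) (R : Set P) :
    IsClosed ((pullback.fst p j) ⁻¹' R) ↔
      IsClosed (Subtype.val ⁻¹' R : Set ↥((p ≫ g) ⁻¹' {s})) := by
  haveI : IsPreimmersion (pullback.fst p j) :=
    MorphismProperty.pullback_fst (P := @IsPreimmersion) _ _ inferInstance
  have hrange : Set.range (pullback.fst p j) = (p ≫ g) ⁻¹' {s} := by
    rw [Scheme.Pullback.range_fst, hj]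
    rfl
  exact isClosed_preimage_iff_of_isEmbedding (pullback.fst p j).isEmbedding hrange R

theorem bcProper_iff_forall_restrict {X Y Y₀ : Scheme.{u}} (f : X ⟶ Y) (j : Y₀ ⟶ Y) {ι : Type*}
    (V : ι → Y.Opens) (hV : ⨆ i, j ⁻¹ᵁ V i = ⊤) :
    BCProper f j ↔ ∀ i, BCProper (f ∣_ V i) (j ∣_ V i) := by
  have H : IsPullback (pullback.fst f j) (pullback.snd f j) f j := IsPullback.of_hasPullback f j
  show IsProper (pullback.snd f j) ↔ _
  rw [IsZariskiLocalAtTarget.iff_of_iSup_eq_top (P := @IsProper) (fun i => j ⁻¹ᵁ V i) hV]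
  refine forall_congr' fun i => ?_
  have big := ((isPullback_morphismRestrict (pullback.snd f j) (j ⁻¹ᵁ V i)).flip).paste_horiz H
  have right := (isPullback_morphismRestrict f (V i)).flip
  have e : (j ⁻¹ᵁ V i).ι ≫ j = (j ∣_ V i) ≫ (V i).ι := (morphismRestrict_ι j (V i)).symm
  have w : (((pullback.snd f j) ⁻¹ᵁ (j ⁻¹ᵁ V i)).ι ≫ pullback.fst f j) ≫ f =
      ((pullback.snd f j) ∣_ (j ⁻¹ᵁ V i) ≫ (j ∣_ V i)) ≫ (V i).ι := by
    rw [big.w, e, Category.assoc]
  have s : IsPullback (right.lift _ _ w ≫ (f ⁻¹ᵁ V i).ι)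
      ((pullback.snd f j) ∣_ (j ⁻¹ᵁ V i)) f ((j ∣_ V i) ≫ (V i).ι) := by
    rw [right.lift_fst, ← e]
    exact big
  have left := IsPullback.of_right s (right.lift_snd _ _ w) right
  exact (bcProper_iff_of_isPullback left).symm

end Groth.Agent.H1.ConsFib
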