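import Mathlib
import Groth.Prelude.Def_Curv2
import Groth.Prelude.Def_Found
import Groth.Agent.Lib.Helper1.BCStalkReg
import Groth.Agent.Lib.Helper5.CA.NG34

/-! Helper1: descent of geometric regularity along flat local homomorphisms. -/

set_option autoImplicit false
set_option linter.style.haveILetI false
universe u
open CategoryTheory CategoryTheory.Limits AlgebraicGeometry IsLocalRing TensorProduct

namespace Groth.Agent.H1.BCStalk

/-- geometric regularity descends along faithfully flat maps. -/
theorem isGeometricallyRegular_of_faithfullyFlat (k A B : Type u) [Field k] [CommRing A]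
    [CommRing B] [Algebra k A] [Algebra k B] [Algebra A B] [IsScalarTower k A B]
    [IsNoetherianRing A] [Module.FaithfullyFlat A B] (h : CAlg.IsGeometricallyRegular k B) :
    CAlg.IsGeometricallyRegular k A := by
  intro k' _ _ hfin
  haveI := hfin
  haveI h1 : IsRegularRing (k' ⊗[k] B) := h k' hfin
  haveI h2 : IsRegularRing (B ⊗[k] k') :=
    IsRegularRing.of_ringEquiv (Algebra.TensorProduct.comm k k' B).toRingEquiv
  haveI h3 : IsRegularRing (B ⊗[A] (A ⊗[k] k')) :=
    IsRegularRing.of_ringEquiv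
      (Algebra.TensorProduct.cancelBaseChange k A B B k').symm.toRingEquiv
  haveI h4 : IsRegularRing ((A ⊗[k] k') ⊗[A] B) :=
    IsRegularRing.of_ringEquiv (Algebra.TensorProduct.comm A B (A ⊗[k] k')).toRingEquiv
  haveI : IsNoetherianRing (A ⊗[k] k') := Algebra.FiniteType.isNoetherianRing A _
  haveI : IsRegularRing (A ⊗[k] k') :=
    H5.NG.isRegularRing_of_faithfullyFlat (A ⊗[k] k') ((A ⊗[k] k') ⊗[A] B)
  exact IsRegularRing.of_ringEquiv (Algebra.TensorProduct.comm k A k').toRingEquiv

attribute [local instance] Curv2.resAlgebra Curv2.stalkAlgebra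

/-- the stalk map of a `k`-morphism is a `k`-algebra map. -/
theorem stalkMap_comp_stalkMap (k : Type u) [Field k] (X Y : Scheme.{u})
    [X.Over (Spec (CommRingCat.of k))] [Y.Over (Spec (CommRingCat.of k))]
    (f : X ⟶ Y) (hf : f ≫ (Y ↘ (Spec (CommRingCat.of k))) = X ↘ (Spec (CommRingCat.of k)))
    (x : X) :
    (f.stalkMap x).hom.comp (Curv2.stalkMap k Y (f x)) = Curv2.stalkMap k X x := by
  unfold Curv2.stalkMap Coh.toGlobal
  rw [← hf]
  ext a
  simp only [RingHom.coe_comp, Function.comp_apply, Scheme.Hom.comp_appTop,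
    CommRingCat.hom_comp]
  have h := Scheme.Hom.germ_stalkMap f ⊤ x trivial
  exact congr($(h).hom _)

theorem s1563 (k : Type u) [Field k] (X Y : Scheme.{u}) [X.Over (Spec (CommRingCat.of k))]
    [Y.Over (Spec (CommRingCat.of k))]
    [IsLocallyNoetherian X] [IsLocallyNoetherian Y] (f : X ⟶ Y)
    (hf : f ≫ (Y ↘ (Spec (CommRingCat.of k))) = X ↘ (Spec (CommRingCat.of k)))
    (x : X) (hflat : (f.stalkMap x).hom.Flat) (hx : Curv2.IsGeomRegularAt k X x) :
    Curv2.IsGeomRegularAt k Y (f.base x) := by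
  rw [isGeomRegularAt_iff] at hx
  show Curv2.IsGeomRegularAt k Y (f x)
  rw [isGeomRegularAt_iff]
  letI : Algebra (Y.presheaf.stalk (f x)) (X.presheaf.stalk x) := (f.stalkMap x).hom.toAlgebra
  haveI : IsScalarTower k (Y.presheaf.stalk (f x)) (X.presheaf.stalk x) :=
    IsScalarTower.of_algebraMap_eq' (stalkMap_comp_stalkMap k X Y f hf x).symm
  haveI : Module.Flat (Y.presheaf.stalk (f x)) (X.presheaf.stalk x) := hflat
  haveI : IsLocalHom (algebraMap (Y.presheaf.stalk (f x)) (X.presheaf.stalk x)) :=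
    inferInstanceAs (IsLocalHom (f.stalkMap x).hom)
  haveI : Module.FaithfullyFlat (Y.presheaf.stalk (f x)) (X.presheaf.stalk x) :=
    Module.FaithfullyFlat.of_flat_of_isLocalHom
  exact isGeometricallyRegular_of_faithfullyFlat k (Y.presheaf.stalk (f x))
    (X.presheaf.stalk x) hx

end Groth.Agent.H1.BCStalk
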