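import Mathlib
import Groth.Prelude.Def_Curv2
import Groth.Agent.Lib.Helper1.SmoothDepth
import Groth.Agent.Lib.Helper7.Reg1

/-! Helper1: smooth schemes over a field are geometrically reduced and geometrically regular. -/

set_option autoImplicit false
universe u
open CategoryTheory CategoryTheory.Limits AlgebraicGeometry

namespace Groth.Agent.H1.SmoothGeom

/-- a scheme smooth over a field is reduced. -/
theorem isReduced_of_smooth_field (K : Type u) [Field K] {Z : Scheme.{u}}
    (g : Z ⟶ Spec (CommRingCat.of K)) [Smooth g] : IsReduced Z := by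
  haveI : ∀ z : Z, _root_.IsReduced (Z.presheaf.stalk z) := fun z => by
    haveI := Groth.Agent.H1.SmoothDepth.isRegularLocalRing_stalk_of_smooth K g z
    haveI := Groth.Agent.H7.Reg.isDomain (Z.presheaf.stalk z)
    infer_instance
  exact isReduced_of_isReduced_stalk Z

/-- statement shape of S1628. -/
theorem s1628 (k : Type u) [Field k] (X : Scheme.{u}) [X.Over (Spec (CommRingCat.of k))]
    [Smooth (X ↘ (Spec (CommRingCat.of k)))] :
    GeometricallyReduced (X ↘ (Spec (CommRingCat.of k))) ∧
      ∀ x : X, Curv2.IsGeomRegularAt k X x := by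
  constructor
  · rw [geometricallyReduced_iff]
    intro K _ y Z fst snd h
    haveI : Smooth snd := MorphismProperty.of_isPullback h inferInstance
    exact isReduced_of_smooth_field K snd
  · intro x k' _ _ _ x' _
    exact Groth.Agent.H1.SmoothDepth.isRegularLocalRing_stalk_of_smooth k'
      (Curv2.bcSnd k X k') x'

end Groth.Agent.H1.SmoothGeom
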