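import Mathlib

set_option autoImplicit false
universe u
open TensorProduct IsLocalRing

namespace Groth.Agent.H1.SmoothFibre

section lemmaA

variable {R S K F : Type u} [CommRing R] [CommRing S] [CommRing K] [CommRing F]
    [IsLocalRing R] [Algebra R S]

theorem formallySmooth_iff_of_square (e1 : ResidueField R ≃+* K) (e2 : ResidueField R ⊗[R] S ≃+* F)
    (ψ : K →+* F)
    (hsq : (e2 : ResidueField R ⊗[R] S →+* F).comp
      (algebraMap (ResidueField R) (ResidueField R ⊗[R] S)) = ψ.comp (e1 : ResidueField R →+* K)) :
    ψ.FormallySmooth ↔ Algebra.FormallySmooth (ResidueField R) (ResidueField R ⊗[R] S) := by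
  rw [← RingHom.formallySmooth_algebraMap]
  constructor
  · intro h
    have h1 := RingHom.FormallySmooth.respectsIso.2 ψ e1 h
    rw [show ψ.comp e1.toRingHom = _ from hsq.symm] at h1
    have h2 := RingHom.FormallySmooth.respectsIso.1 _ e2.symm h1
    convert h2 using 1
    ext x
    simp
  · intro h
    have h1 := RingHom.FormallySmooth.respectsIso.1 _ e2 h
    rw [show e2.toRingHom.comp _ = _ from hsq] at h1
    have h2 := RingHom.FormallySmooth.respectsIso.2 _ e1.symm h1
    convert h2 using 1
    ext x
    simp

theorem formallySmooth_fiber_iff (ρ : R →+* K) (hρ : Function.Surjective ρ)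
    (hkρ : RingHom.ker ρ = maximalIdeal R)
    (π : S →+* F) (hπ : Function.Surjective π)
    (hker : RingHom.ker π = (maximalIdeal R).map (algebraMap R S))
    (ψ : K →+* F) (hsq : π.comp (algebraMap R S) = ψ.comp ρ) :
    ψ.FormallySmooth ↔ Algebra.FormallySmooth (ResidueField R) (ResidueField R ⊗[R] S) := by
  let e1 : ResidueField R ≃+* K :=
    (Ideal.quotEquivOfEq hkρ.symm).trans (RingHom.quotientKerEquivOfSurjective hρ)
  let e2a : (S ⧸ (maximalIdeal R).map (algebraMap R S)) ≃+* F :=
    (Ideal.quotEquivOfEq hker.symm).trans (RingHom.quotientKerEquivOfSurjective hπ)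
  let e2b : (S ⧸ (maximalIdeal R).map (algebraMap R S)) ≃+* ResidueField R ⊗[R] S :=
    (Algebra.TensorProduct.quotIdealMapEquivQuotTensor S (maximalIdeal R)).toRingEquiv
  refine formallySmooth_iff_of_square e1 (e2b.symm.trans e2a) ψ ?_
  ext x
  obtain ⟨r, rfl⟩ := residue_surjective x
  have h1 : e2b.symm (algebraMap (ResidueField R) (ResidueField R ⊗[R] S) (residue R r)) =
      Ideal.Quotient.mk _ (algebraMap R S r) :=
    (Algebra.TensorProduct.quotIdealMapEquivQuotTensor S (maximalIdeal R)).symm.commutes
      (residue R r)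
  have h2 : e2a (Ideal.Quotient.mk _ (algebraMap R S r)) = π (algebraMap R S r) := rfl
  have h3 : e1 (residue R r) = ρ r := rfl
  change e2a (e2b.symm (algebraMap (ResidueField R) (ResidueField R ⊗[R] S) (residue R r))) =
    ψ (e1 (residue R r))
  rw [h1, h2, h3]
  exact congr($hsq r)

end lemmaA

section lemmaB

open Algebra

variable {R S : Type u} [CommRing R] [CommRing S] [Algebra R S]

/-- local version of `Algebra.IsSmoothAt.of_formallySmooth_fiber`: flat at `q` and smooth fibre
at `q` imply smooth at `q`. -/
theorem isSmoothAt_of_flat_of_formallySmooth_fiber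
    [Algebra.FinitePresentation R S] (p : Ideal R) (q : Ideal S)
    [p.IsPrime] [q.IsPrime] [q.LiesOver p]
    (hflat : letI := Localization.AtPrime.algebraOfLiesOver p q
      Module.Flat (Localization.AtPrime p) (Localization.AtPrime q))
    (hfs : letI := Localization.AtPrime.algebraOfLiesOver p q
      Algebra.FormallySmooth (ResidueField (Localization.AtPrime p))
        (ResidueField (Localization.AtPrime p) ⊗[Localization.AtPrime p] Localization.AtPrime q)) :
    Algebra.IsSmoothAt R q := by
  let Rp := Localization.AtPrime p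
  let Sp := Localization (algebraMapSubmonoid S p.primeCompl)
  let Sq := Localization.AtPrime q
  let := Localization.AtPrime.algebraOfLiesOver p q
  let f : Sp →ₐ[S] Sq := IsLocalization.liftAlgHom (M := algebraMapSubmonoid S p.primeCompl)
        (f := Algebra.ofId _ _) (by
      rintro ⟨_, x, hx, rfl⟩
      simpa using! IsLocalization.map_units (M := q.primeCompl) Sq ⟨algebraMap _ _ x,
        by simp_all [q.over_def p]⟩)
  algebraize [f.toRingHom]
  have : IsScalarTower R Sp Sq := .to₁₃₄ _ S _ _
  have : IsScalarTower Rp Sp Sq := .of_algebraMap_eq' <| by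
    apply IsLocalization.ringHom_ext p.primeCompl
    simp only [RingHom.comp_assoc, ← IsScalarTower.algebraMap_eq]
  have : IsLocalization (algebraMapSubmonoid Sp q.primeCompl) Sq :=
    .isLocalization_of_submonoid_le _ _ (algebraMapSubmonoid S p.primeCompl) _
    (by rintro _ ⟨x, hx, rfl⟩; simp_all [q.over_def p])
  have : FinitePresentation Rp Sp := by
    have : Algebra.IsPushout R Rp S Sp :=
      .symm <| Algebra.isPushout_of_isLocalization p.primeCompl _ _ _
    exact .equiv (Algebra.IsPushout.equiv R Rp S Sp)
  haveI : Module.Flat Rp Sq := hflat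
  haveI : FormallySmooth (ResidueField Rp) (ResidueField Rp ⊗[Rp] Sq) := hfs
  have := FormallySmooth.of_formallySmooth_residueField_tensor
    (R := Rp) (S := Sq) (P := Sp) (algebraMapSubmonoid _ q.primeCompl)
  exact .comp R Rp Sq

end lemmaB

end Groth.Agent.H1.SmoothFibre
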