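import Mathlib
import Groth.Agent.Lib.Helper1.FibreStalk

set_option autoImplicit false
universe u
open CategoryTheory CategoryTheory.Limits AlgebraicGeometry IsLocalRing

namespace Groth.Agent.H1.SmoothFibre
open Groth.Agent.H1.FibreStalk

variable {X Y : Scheme.{u}}

/-- the residue map `O_{Y,y} → (Spec κ(y)).stalk`, compatible with the map to the fibre stalk -/
theorem exists_toResStalk (f : X ⟶ Y) (x : X) :
    ∃ ρ₀ : Y.presheaf.stalk (f x) →+*
        (Spec (Y.residueField (f x))).presheaf.stalk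
          ((f.fiberToSpecResidueField (f x)) (f.asFiber x)),
      Function.Surjective ρ₀ ∧ RingHom.ker ρ₀ = maximalIdeal (Y.presheaf.stalk (f x)) ∧
      (toFiberStalk f x).comp (f.stalkMap x).hom =
        ((f.fiberToSpecResidueField (f x)).stalkMap (f.asFiber x)).hom.comp ρ₀ := by
  set z := f.asFiber x
  have hz : (f.fiberι (f x)) z = x := f.fiberι_asFiber x
  have E1 := Scheme.Hom.stalkMap_congr_point f x ((f.fiberι (f x)) z) hz.symm
  have E2 := Scheme.Hom.stalkMap_congr_hom _ _ (f.fiber_fac (f x)) z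
  have E3 := Scheme.Hom.stalkMap_comp (f.fiberToSpecResidueField (f x))
    (Y.fromSpecResidueField (f x)) z
  have E0 := Scheme.Hom.stalkMap_comp (f.fiberι (f x)) f z
  have key := E1 =≫ (f.fiberι (f x)).stalkMap z
  rw [Category.assoc, Category.assoc, ← E0, E2, E3] at key
  obtain ⟨A1, A2, a, b, c, hc, hcs, hkey⟩ : ∃ (A1 A2 : CommRingCat.{u}) (a : Y.presheaf.stalk (f x) ≅ A1)
      (b : A1 ≅ A2)
      (c : A2 ⟶ (Spec (Y.residueField (f x))).presheaf.stalk
          ((f.fiberToSpecResidueField (f x)) z)),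
      IsLocalHom c.hom ∧ Function.Surjective c.hom ∧
      f.stalkMap x ≫ (X.presheaf.stalkCongr (.of_eq hz.symm)).hom ≫
        (f.fiberι (f x)).stalkMap z =
      a.hom ≫ b.hom ≫ c ≫ (f.fiberToSpecResidueField (f x)).stalkMap z :=
    ⟨_, _, _, _, _, inferInstance,
      (Y.fromSpecResidueField (f x)).stalkMap_surjective _, key⟩
  refine ⟨(a.hom ≫ b.hom ≫ c).hom, ?_, ?_, ?_⟩
  · rw [CommRingCat.hom_comp, CommRingCat.hom_comp, RingHom.coe_comp, RingHom.coe_comp]
    exact (hcs.comp b.commRingCatIsoToRingEquiv.surjective).comp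
      a.commRingCatIsoToRingEquiv.surjective
  · ext t
    rw [RingHom.mem_ker, mem_maximalIdeal, mem_nonunits_iff]
    constructor
    · intro h0 hu
      have h1 : IsUnit ((a.hom ≫ b.hom ≫ c).hom t) := hu.map _
      rw [h0] at h1
      exact not_isUnit_zero h1
    · intro ht
      have := chain_zero a b c hc (𝟙 _) (eq_zero_of_not_isUnit_stalk_field _ _) t ht
      simpa using this
  · have h0 : (toFiberStalk f x).comp (f.stalkMap x).hom =
        (f.stalkMap x ≫ (X.presheaf.stalkCongr (.of_eq hz.symm)).hom ≫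
          (f.fiberι (f x)).stalkMap z).hom := rfl
    rw [h0, hkey]
    rfl

end Groth.Agent.H1.SmoothFibre
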