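import Mathlib
import Groth.Agent.Lib.Helper6.GenSmooth
import Groth.Agent.Lib.Helper1.GenFreeRingHom
import Groth.Agent.Lib.Helper5.QRBC.A
import Groth.Agent.Lib.Helper1.FlatRegularElement
import Groth.Agent.Lib.Helper1.GenFib1

/-!
# Geometric reducedness of fibres: the ring-level core (helper1)

`core1`: over a Noetherian domain `A`, if the generic fibre of a finite type algebra `B` is
geometrically reduced then `L ⊗[A] B` is reduced for all fields `L` over a nonempty basic open.
`core2`: a nilpotent, non-torsion element spreads out.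
-/

set_option autoImplicit false
set_option linter.style.haveILetI false
universe u

open TensorProduct AlgebraicGeometry CategoryTheory CategoryTheory.Limits Topology

namespace Groth.Agent.H1.GRedCore

/-! ### algebra lemmas -/

/-- an injection with cokernel flat after inverting `a` stays injective after tensoring with a module
on which `a` is invertible. -/
theorem inj_lTensor_of_away {A : Type*} [CommRing A] (A₁ : Type*) [CommRing A₁] [Algebra A A₁]
    {P Q M : Type*} [AddCommGroup P] [Module A P] [AddCommGroup Q] [Module A Q] [AddCommGroup M]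
    [Module A M] (μ : P →ₗ[A] Q) (π : Q →ₗ[A] M) (hex : Function.Exact μ π)
    (hπ : Function.Surjective π) [Module.Flat A₁ (A₁ ⊗[A] M)]
    (hμ : Function.Injective (μ.baseChange A₁))
    (L : Type*) [AddCommGroup L] [Module A L] [Module A₁ L] [IsScalarTower A A₁ L] :
    Function.Injective (μ.lTensor L) := by
  rw [← Groth.Agent.H1.injective_lTensor_baseChange_iff (A := A₁)]
  refine Groth.Agent.Lib.Helper5.QRBC.lTensor_injective_of_flat_coker (μ.baseChange A₁)
    (π.baseChange A₁) hμ ?_ ?_ L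
  · rw [LinearMap.baseChange_eq_ltensor]
    exact LinearMap.lTensor_surjective A₁ hπ
  · rw [LinearMap.baseChange_eq_ltensor, LinearMap.baseChange_eq_ltensor]
    exact lTensor_exact A₁ hex hπ

/-- a map whose kernel is killed by `a` becomes injective after inverting `a`. -/
theorem baseChange_injective_of_torsion_ker {A : Type*} [CommRing A] (a : A) (A₁ : Type*)
    [CommRing A₁] [Algebra A A₁] [IsLocalization.Away a A₁] {P Q : Type*} [AddCommGroup P]
    [Module A P] [AddCommGroup Q] [Module A Q] (μ : P →ₗ[A] Q) (h : ∀ x, μ x = 0 → a • x = 0) :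
    Function.Injective (μ.baseChange A₁) := by
  haveI : Module.Flat A A₁ := IsLocalization.flat A₁ (Submonoid.powers a)
  rw [injective_iff_map_eq_zero]
  intro y hy
  have hex : Function.Exact (LinearMap.ker μ).subtype μ := LinearMap.exact_subtype_ker_map μ
  have hex' := Module.Flat.lTensor_exact A₁ hex
  rw [LinearMap.baseChange_eq_ltensor] at hy
  obtain ⟨t, rfl⟩ := (hex' y).1 hy
  have ht : t = 0 := by
    have h1' : ∀ t : A₁ ⊗[A] (LinearMap.ker μ), a • t = 0 := by
      intro t
      induction t using TensorProduct.induction_on with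
      | zero => simp
      | tmul r x =>
        have hx : a • x = 0 := Subtype.ext (by simpa using h x.1 x.2)
        rw [← TensorProduct.tmul_smul, hx, TensorProduct.tmul_zero]
      | add x y hx hy => rw [smul_add, hx, hy, add_zero]
    have h1 := h1' t
    obtain ⟨u, hu⟩ := (IsLocalization.Away.algebraMap_isUnit (S := A₁) a).exists_left_inv
    calc t = (u * algebraMap A A₁ a) • t := by rw [hu, one_smul]
      _ = u • (a • t) := by rw [mul_smul, algebraMap_smul]
      _ = 0 := by rw [h1, smul_zero]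
  rw [ht, map_zero]

/-- a finitely generated ideal of torsion elements is killed by a single nonzero element. -/
theorem exists_smul_eq_zero_of_fg {A B : Type*} [CommRing A] [IsDomain A] [CommRing B] [Algebra A B]
    (J : Ideal B) (hJ : J.FG) (h : ∀ x ∈ J, ∃ s : A, s ≠ 0 ∧ s • x = 0) :
    ∃ a : A, a ≠ 0 ∧ ∀ x ∈ J, a • x = 0 := by
  classical
  obtain ⟨T, hT⟩ := hJ
  have h' : ∀ x : B, ∃ s : A, s ≠ 0 ∧ (x ∈ J → s • x = 0) := by
    intro x
    by_cases hx : x ∈ J
    · obtain ⟨s, hs0, hs⟩ := h x hx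
      exact ⟨s, hs0, fun _ => hs⟩
    · exact ⟨1, one_ne_zero, fun h => absurd h hx⟩
  choose s hs0 hs using h'
  refine ⟨∏ x ∈ T, s x, Finset.prod_ne_zero_iff.mpr (fun x _ => hs0 x), ?_⟩
  intro x hx
  rw [← hT] at hx
  induction hx using Submodule.span_induction with
  | mem x hx =>
    obtain ⟨d, hd⟩ := Finset.dvd_prod_of_mem s hx
    have hxJ : x ∈ J := by rw [← hT]; exact Submodule.subset_span hx
    rw [hd, mul_comm, mul_smul, hs x hxJ, smul_zero]
  | zero => rw [smul_zero]
  | add x y _ _ hx hy => rw [smul_add, hx, hy, add_zero]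
  | smul b x _ hx => rw [smul_comm, hx, smul_zero]


/-! ### smoothness at the maximal points of a geometrically reduced fibre -/

open Groth.Agent.H9.FlatDense Groth.Agent.H1.SmoothReg Groth.Agent.H1.BCStalk in
set_option backward.isDefEq.respectTransparency.types false in
/-- a point which is maximal in its fibre, over a point whose local ring is a field, is a smooth
point as soon as the fibre is geometrically reduced. -/
theorem mem_smoothLocus_of_fiber_maxPt {X Y : Scheme.{u}} (f : X ⟶ Y)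
    [LocallyOfFinitePresentation f] (x : X) (y : Y) (hy : f x = y)
    (hfield : IsField (Y.presheaf.stalk y))
    (hmax : ∀ x' : X, f x' = y → x' ⤳ x → x' = x)
    (hgr : GeometricallyReduced (f.fiberToSpecResidueField y)) : x ∈ f.smoothLocus := by
  subst hy
  haveI : LocallyOfFinitePresentation (f.fiberToSpecResidueField (f x)) :=
    MorphismProperty.pullback_snd (P := @LocallyOfFinitePresentation) _ _ ‹_›
  have hz : f.fiberι (f x) (f.asFiber x) = x := Scheme.Hom.fiberι_asFiber f x
  rw [H5.DF.mem_smoothLocus_iff_fiber f x (f x) rfl (f.asFiber x) hz]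
  constructor
  · exact Groth.Agent.H5.Kunneth.flat_of_field_source hfield _
  · have hzmax : IsMaxPt (f.asFiber x) := by
      intro z' hz'
      have h1 : f.fiberι (f x) z' ⤳ f.fiberι (f x) (f.asFiber x) :=
        hz'.map (f.fiberι (f x)).continuous
      rw [hz] at h1
      have h2 : f (f.fiberι (f x) z') = f x := Groth.Agent.H1.GenFib.fiberι_apply_mem f (f x) z'
      have h3 := hmax _ h2 h1
      have h4 : z' = f.asFiber x :=
        (f.fiberι (f x)).isEmbedding.injective (by rw [h3, hz])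
      rw [h4]
    letI : (f.fiber (f x)).Over (Spec (CommRingCat.of (Y.residueField (f x)))) :=
      ⟨f.fiberToSpecResidueField (f x)⟩
    have hall := (geometricallyReduced_iff_forall (Y.residueField (f x))
      (f.fiber (f x))).mp hgr
    exact Groth.Agent.H6.GenSmooth.mem_smoothLocus_of_isMaxPt (Y.residueField (f x))
      (f.fiberToSpecResidueField (f x)) (f.asFiber x) hzmax
      ((s1541 _ _ (f.asFiber x)).mp (hall (f.asFiber x)))


/-! ### core 1: spreading out geometric reducedness -/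

section pieces

variable (A B : Type u) [CommRing A] [CommRing B] [Algebra A B]

set_option backward.isDefEq.respectTransparency.types false in
/-- if the basic open `D(g)` lies in the smooth locus, `B_g` is smooth. -/
theorem smooth_away (g : B) [LocallyOfFinitePresentation (Spec.map (CommRingCat.ofHom (algebraMap A B)))]
    (hDg : ∀ x : PrimeSpectrum B, g ∉ x.asIdeal →
      x ∈ (Spec.map (CommRingCat.ofHom (algebraMap A B))).smoothLocus) :
    Algebra.Smooth A (Localization.Away g) := by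
  set f := Spec.map (CommRingCat.ofHom (algebraMap A B)) with hf
  set Bg := Localization.Away g with hBg
  rw [← RingHom.smooth_algebraMap]
  have h1 : Smooth (Spec.map (CommRingCat.ofHom (algebraMap A Bg))) := by
    set j := Spec.map (CommRingCat.ofHom (algebraMap B Bg)) with hj
    have hjf : j ≫ f = Spec.map (CommRingCat.ofHom (algebraMap A Bg)) := by
      rw [hj, hf, ← Spec.map_comp, ← CommRingCat.ofHom_comp, ← IsScalarTower.algebraMap_eq]
    rw [← hjf, ← Scheme.Hom.smoothLocus_eq_top_iff, ← Scheme.Hom.preimage_smoothLocus_eq,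
      ← top_le_iff]
    rintro z -
    show j z ∈ f.smoothLocus
    apply hDg
    have hz : j z ∈ Set.range (PrimeSpectrum.comap (algebraMap B Bg)) := ⟨z, rfl⟩
    rw [PrimeSpectrum.localization_away_comap_range Bg g] at hz
    exact hz
  rwa [HasRingHomProperty.Spec_iff (P := @Smooth), CommRingCat.hom_ofHom] at h1

/-- `L ⊗ B` is reduced if `1 ⊗ g` is a nonzerodivisor and `B_g` is smooth. -/
theorem isReduced_tensor_of_smooth_away (g : B) [Algebra.Smooth A (Localization.Away g)]
    (L : Type u) [Field L] [Algebra A L]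
    (hnzd : ((1 : L) ⊗ₜ[A] g) ∈ nonZeroDivisors (L ⊗[A] B)) : IsReduced (L ⊗[A] B) := by
  haveI : Algebra.Smooth L (L ⊗[A] (Localization.Away g)) := inferInstance
  have h2 : Smooth (Spec.map (CommRingCat.ofHom (algebraMap L (L ⊗[A] (Localization.Away g))))) := by
    rw [HasRingHomProperty.Spec_iff (P := @Smooth), CommRingCat.hom_ofHom,
      RingHom.smooth_algebraMap]
    infer_instance
  have h3 : AlgebraicGeometry.IsReduced (Spec (CommRingCat.of (L ⊗[A] (Localization.Away g)))) :=
    @Groth.Agent.H1.SmoothGeom.isReduced_of_smooth_field L _ _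
      (Spec.map (CommRingCat.ofHom (algebraMap L (L ⊗[A] (Localization.Away g))))) h2
  have h4 : _root_.IsReduced (L ⊗[A] (Localization.Away g)) := (affine_isReduced_iff _).mp h3
  let e := IsLocalization.Away.tensorProductEquivTMulRight A L g (Localization.Away g)
  haveI : _root_.IsReduced (Localization.Away ((1 : L) ⊗ₜ[A] g)) :=
    isReduced_of_injective e.symm e.symm.injective
  exact isReduced_of_injective (algebraMap (L ⊗[A] B) (Localization.Away ((1 : L) ⊗ₜ[A] g)))
    (IsLocalization.injective _ (Submonoid.powers_le.mpr hnzd))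

/-- `1 ⊗ g` is a nonzerodivisor on `L ⊗ B` when the annihilator of `g` is killed by `a`, `B / g` is
flat after inverting `a`, and `a` is invertible in `L`. -/
theorem nzd_tensor (g : B) (a : A) (hker : ∀ b : B, g * b = 0 → a • b = 0)
    [Module.Flat (Localization.Away a) (Localization.Away a ⊗[A] (B ⧸ Ideal.span {g}))]
    (L : Type u) [Field L] [Algebra A L] (haL : algebraMap A L a ≠ 0) :
    ((1 : L) ⊗ₜ[A] g) ∈ nonZeroDivisors (L ⊗[A] B) := by
  have hu : IsUnit (algebraMap A L a) := IsUnit.mk0 _ haL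
  letI : Algebra (Localization.Away a) L :=
    (IsLocalization.Away.lift (S := Localization.Away a) a hu).toAlgebra
  haveI : IsScalarTower A (Localization.Away a) L := IsScalarTower.of_algebraMap_eq
    (fun x => (IsLocalization.Away.lift_eq a hu x).symm)
  obtain ⟨μ, hμ⟩ : ∃ μ : B →ₗ[A] B, ∀ b, μ b = g * b := ⟨LinearMap.mulLeft A g, fun _ => rfl⟩
  obtain ⟨π, hπ⟩ : ∃ π : B →ₗ[A] (B ⧸ Ideal.span {g}), ∀ y, π y = Submodule.Quotient.mk y :=
    ⟨(Submodule.mkQ (Ideal.span {g})).restrictScalars A, fun _ => rfl⟩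
  have hex : Function.Exact μ π := by
    intro y
    rw [hπ, Submodule.Quotient.mk_eq_zero, Ideal.mem_span_singleton']
    constructor
    · rintro ⟨b, hb⟩
      exact ⟨b, by rw [hμ, mul_comm, hb]⟩
    · rintro ⟨b, hb⟩
      exact ⟨b, by rw [← hb, hμ, mul_comm]⟩
  have hπs : Function.Surjective π := by
    intro y
    obtain ⟨b, rfl⟩ := Submodule.Quotient.mk_surjective _ y
    exact ⟨b, hπ b⟩
  have hμ₁ : Function.Injective (μ.baseChange (Localization.Away a)) := by
    apply baseChange_injective_of_torsion_ker a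
    intro b hb
    rw [hμ] at hb
    exact hker b hb
  have hinj : Function.Injective (μ.lTensor L) :=
    inj_lTensor_of_away (Localization.Away a) μ π hex hπs hμ₁ L
  have hmul : ∀ x : L ⊗[A] B, (μ.lTensor L) x = ((1 : L) ⊗ₜ[A] g) * x := by
    intro x
    induction x using TensorProduct.induction_on with
    | zero => simp
    | tmul l b =>
      rw [LinearMap.lTensor_tmul, hμ, Algebra.TensorProduct.tmul_mul_tmul, one_mul]
    | add x y hx hy => rw [map_add, hx, hy, mul_add]
  rw [mem_nonZeroDivisors_iff_right]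
  intro x hx
  rw [mul_comm, ← hmul] at hx
  exact hinj (by rw [hx, map_zero])

/-- nilpotent elements are torsion when the generic fibre is reduced. -/
theorem torsion_of_isNilpotent [IsDomain A] (hK : IsReduced (FractionRing A ⊗[A] B)) (t : B)
    (ht : IsNilpotent t) : ∃ s : A, s ≠ 0 ∧ s • t = 0 := by
  have h1 : IsNilpotent ((1 : FractionRing A) ⊗ₜ[A] t) := by
    have := ht.map (Algebra.TensorProduct.includeRight : B →ₐ[A] FractionRing A ⊗[A] B)
    simpa using this
  have h2 : (1 : FractionRing A) ⊗ₜ[A] t = 0 := h1.eq_zero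
  have h3 : (TensorProduct.mk A (FractionRing A) B 1) t = 0 := h2
  rw [IsLocalizedModule.eq_zero_iff (nonZeroDivisors A)] at h3
  obtain ⟨s, hs⟩ := h3
  exact ⟨s.1, nonZeroDivisors.coe_ne_zero s, hs⟩

set_option backward.isDefEq.respectTransparency.types false in
/-- the choice of `g`: `D(g)` is smooth and the annihilator of `g` is torsion. -/
theorem exists_g [IsDomain A] [IsNoetherianRing B]
    [LocallyOfFinitePresentation (Spec.map (CommRingCat.ofHom (algebraMap A B)))]
    (hη : GeometricallyReduced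
      ((Spec.map (CommRingCat.ofHom (algebraMap A B))).fiberToSpecResidueField
        (⟨⊥, Ideal.isPrime_bot⟩ : PrimeSpectrum A)))
    (htors : ∀ t : B, IsNilpotent t → ∃ s : A, s ≠ 0 ∧ s • t = 0) :
    ∃ g : B, (∀ x : PrimeSpectrum B, g ∉ x.asIdeal →
        x ∈ (Spec.map (CommRingCat.ofHom (algebraMap A B))).smoothLocus) ∧
      ∀ b : B, g * b = 0 → ∃ s : A, s ≠ 0 ∧ s • b = 0 := by
  classical
  set f := Spec.map (CommRingCat.ofHom (algebraMap A B)) with hf
  -- minimal primes
  have hfin : (minimalPrimes B).Finite := minimalPrimes.finite_of_isNoetherianRing B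
  obtain ⟨MP, hMPmem⟩ : ∃ MP : Finset (Ideal B), ∀ q, q ∈ MP ↔ q ∈ minimalPrimes B :=
    ⟨hfin.toFinset, fun q => hfin.mem_toFinset⟩
  obtain ⟨T₀, hT₀⟩ : ∃ T₀ : Finset (Ideal B), ∀ q, q ∈ T₀ ↔
      q ∈ minimalPrimes B ∧ q.comap (algebraMap A B) = ⊥ :=
    ⟨MP.filter (fun q => q.comap (algebraMap A B) = ⊥), fun q => by
      rw [Finset.mem_filter, hMPmem]⟩
  obtain ⟨T₁, hT₁⟩ : ∃ T₁ : Finset (Ideal B), ∀ q, q ∈ T₁ ↔
      q ∈ minimalPrimes B ∧ q.comap (algebraMap A B) ≠ ⊥ :=
    ⟨MP.filter (fun q => q.comap (algebraMap A B) ≠ ⊥), fun q => by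
      rw [Finset.mem_filter, hMPmem]⟩
  have hT₁ex : ∀ q : Ideal B, ∃ c : A, c ≠ 0 ∧ (q ∈ T₁ → algebraMap A B c ∈ q) := by
    intro q
    by_cases hq : q ∈ T₁
    · have : q.comap (algebraMap A B) ≠ ⊥ := ((hT₁ q).mp hq).2
      obtain ⟨c, hc, hc0⟩ := (Submodule.ne_bot_iff _).mp this
      exact ⟨c, hc0, fun _ => hc⟩
    · exact ⟨1, one_ne_zero, fun h => absurd h hq⟩
  choose cq hcq0 hcq using hT₁ex
  obtain ⟨c, hc⟩ : ∃ c : A, c = ∏ q ∈ T₁, cq q := ⟨_, rfl⟩
  have hc0 : c ≠ 0 := by
    rw [hc]; exact Finset.prod_ne_zero_iff.mpr (fun q _ => hcq0 q)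
  have hcmem : ∀ q ∈ T₁, algebraMap A B c ∈ q := by
    intro q hq
    obtain ⟨d, hd⟩ := Finset.dvd_prod_of_mem cq hq
    rw [hc, hd, map_mul]
    exact Ideal.mul_mem_right _ _ (hcq q hq)
  -- smooth points
  have hsm : ∀ x : PrimeSpectrum B, x.asIdeal ∈ T₀ → x ∈ f.smoothLocus := by
    intro x hx
    have hxmin : x.asIdeal ∈ minimalPrimes B := ((hT₀ _).mp hx).1
    have hfx : f x = (⟨⊥, Ideal.isPrime_bot⟩ : PrimeSpectrum A) := by
      rw [hf]; exact PrimeSpectrum.ext ((hT₀ _).mp hx).2
    refine mem_smoothLocus_of_fiber_maxPt f x _ hfx ?_ ?_ hη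
    · refine Groth.Agent.H6.GenSmooth.isField_stalk_of_eq_genericPoint _ ?_
      rw [genericPoint_eq_bot_of_affine (CommRingCat.of A)]
      rfl
    · intro x' _ hx'
      have hle : (x' : PrimeSpectrum B).asIdeal ≤ (x : PrimeSpectrum B).asIdeal :=
        (PrimeSpectrum.le_iff_specializes (R := B) x' x).mpr hx'
      have hge : x.asIdeal ≤ (x' : PrimeSpectrum B).asIdeal :=
        hxmin.2 ⟨(x' : PrimeSpectrum B).isPrime, bot_le⟩ hle
      exact PrimeSpectrum.ext (le_antisymm hle hge)
  -- the ideal of the non-smooth locus and prime avoidance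
  obtain ⟨C, hC⟩ : ∃ C : Set (PrimeSpectrum B), ∀ x, x ∈ C ↔ x ∉ f.smoothLocus :=
    ⟨{x | x ∉ f.smoothLocus}, fun _ => Iff.rfl⟩
  have hCclosed : IsClosed C := by
    have h1 : C = ((f.smoothLocus : Set (Spec (CommRingCat.of B))))ᶜ := by
      ext x; rw [hC]; rfl
    rw [h1]
    exact f.smoothLocus.isOpen.isClosed_compl
  have hnotle : ∀ q ∈ T₀, ¬ (PrimeSpectrum.vanishingIdeal C ≤ q) := by
    intro q hq hle
    have hqp : q.IsPrime := ((hT₀ q).mp hq).1.1.1
    have h1 : (⟨q, hqp⟩ : PrimeSpectrum B) ∈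
        PrimeSpectrum.zeroLocus (PrimeSpectrum.vanishingIdeal C : Set B) := hle
    rw [PrimeSpectrum.zeroLocus_vanishingIdeal_eq_closure, hCclosed.closure_eq, hC] at h1
    exact h1 (hsm ⟨q, hqp⟩ hq)
  obtain ⟨g, hgI, hgT₀⟩ : ∃ g ∈ PrimeSpectrum.vanishingIdeal C, ∀ q ∈ T₀, g ∉ q := by
    by_contra hcon
    push Not at hcon
    have hsub : (PrimeSpectrum.vanishingIdeal C : Set B) ⊆
        ⋃ q ∈ (T₀ : Set (Ideal B)), (q : Set B) := by
      intro g hg
      obtain ⟨q, hq, hgq⟩ := hcon g hg
      exact Set.mem_biUnion (Finset.mem_coe.mpr hq) hgq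
    rw [Ideal.subset_union_prime (f := fun q => q) ⊥ ⊥ (fun q hq _ _ =>
      ((hT₀ q).mp hq).1.1.1)] at hsub
    obtain ⟨q, hq, hle⟩ := hsub
    exact hnotle q hq hle
  refine ⟨g, ?_, ?_⟩
  · intro x hx
    by_contra hxs
    have : x ∈ C := (hC x).mpr hxs
    exact hx ((PrimeSpectrum.mem_vanishingIdeal C g).mp hgI x this)
  · intro b hb
    have h1 : ∀ q ∈ minimalPrimes B, c • b ∈ q := by
      intro q hq
      have hqp : q.IsPrime := hq.1.1
      by_cases h0 : q.comap (algebraMap A B) = ⊥
      · have hq0 : q ∈ T₀ := (hT₀ q).mpr ⟨hq, h0⟩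
        have : g * b ∈ q := by rw [hb]; exact q.zero_mem
        have hbq := (hqp.mem_or_mem this).resolve_left (hgT₀ q hq0)
        rw [Algebra.smul_def]; exact q.mul_mem_left _ hbq
      · have hq1 : q ∈ T₁ := (hT₁ q).mpr ⟨hq, h0⟩
        rw [Algebra.smul_def]; exact q.mul_mem_right _ (hcmem q hq1)
    have h2 : c • b ∈ nilradical B := by
      have h3 : c • b ∈ sInf (minimalPrimes B) := by
        rw [Submodule.mem_sInf]; exact h1
      have h4 : sInf (minimalPrimes B) = nilradical B := by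
        change sInf ((⊥ : Ideal B).minimalPrimes) = _
        rw [Ideal.sInf_minimalPrimes]; rfl
      rwa [h4] at h3
    obtain ⟨s, hs0, hs⟩ := htors _ (mem_nilradical.mp h2)
    exact ⟨s * c, mul_ne_zero hs0 hc0, by rw [mul_smul]; exact hs⟩

/-- **Core 1**: over a Noetherian domain, geometric reducedness of the generic fibre spreads out. -/
theorem core1 [IsDomain A] [IsNoetherianRing A] [Algebra.FiniteType A B]
    (hη : GeometricallyReduced
      ((Spec.map (CommRingCat.ofHom (algebraMap A B))).fiberToSpecResidueField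
        (⟨⊥, Ideal.isPrime_bot⟩ : PrimeSpectrum A)))
    (hK : IsReduced (FractionRing A ⊗[A] B)) :
    ∃ a : A, a ≠ 0 ∧ ∀ (L : Type u) [Field L] [Algebra A L], algebraMap A L a ≠ 0 →
      IsReduced (L ⊗[A] B) := by
  haveI : IsNoetherianRing B := Algebra.FiniteType.isNoetherianRing A B
  haveI : LocallyOfFinitePresentation (Spec.map (CommRingCat.ofHom (algebraMap A B))) := by
    rw [HasRingHomProperty.Spec_iff (P := @LocallyOfFinitePresentation), CommRingCat.hom_ofHom,
      RingHom.finitePresentation_algebraMap]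
    exact Algebra.FinitePresentation.of_finiteType.mp inferInstance
  obtain ⟨g, hDg, hJ⟩ := exists_g A B hη (torsion_of_isNilpotent A B hK)
  obtain ⟨a₀, ha₀, ha₀J⟩ := exists_smul_eq_zero_of_fg (A := A)
    (LinearMap.ker (LinearMap.mulLeft B g)) (IsNoetherian.noetherian _)
    (fun b hb => hJ b (by simpa using hb))
  obtain ⟨f₁, hf₁, hgood⟩ := Groth.Agent.H1.GenFree.exists_good (R := A) (S := B)
    (M := B ⧸ Ideal.span {g}) a₀ ha₀
  haveI : Module.Free (Localization.Away (a₀ * f₁))
      (Localization.Away (a₀ * f₁) ⊗[A] (B ⧸ Ideal.span {g})) := hgood.free_tensor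
  haveI : Algebra.Smooth A (Localization.Away g) := smooth_away A B g hDg
  refine ⟨a₀ * f₁, hf₁, fun L _ _ haL => ?_⟩
  apply isReduced_tensor_of_smooth_away A B g L
  apply nzd_tensor A B g (a₀ * f₁) ?_ L haL
  intro b hb
  have hb' : b ∈ LinearMap.ker (LinearMap.mulLeft B g) := by simpa using hb
  rw [mul_comm, mul_smul, ha₀J b hb', smul_zero]

/-- **Core 2**: a nilpotent non-torsion element gives non-reduced fibres over a basic open. -/
theorem core2 [IsDomain A] [Algebra.FiniteType A B] (b : B) (hb : IsNilpotent b)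
    (hbt : ∀ s : A, s ≠ 0 → s • b ≠ 0) :
    ∃ a : A, a ≠ 0 ∧ ∀ (L : Type u) [Field L] [Algebra A L], algebraMap A L a ≠ 0 →
      ¬ IsReduced (L ⊗[A] B) := by
  classical
  obtain ⟨N, hN⟩ : ∃ N : Ideal B, N = Ideal.span {b} := ⟨_, rfl⟩
  have hbN : b ∈ N := by rw [hN]; exact Ideal.subset_span rfl
  haveI : Module.Finite B N := Module.Finite.iff_fg.mpr (by rw [hN]; exact ⟨{b}, by simp⟩)
  obtain ⟨f₁, h1, good₁⟩ := Groth.Agent.H1.GenFree.exists_good (R := A) (S := B) (M := N) 1
    one_ne_zero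
  obtain ⟨f₂, h2, good₂⟩ := Groth.Agent.H1.GenFree.exists_good (R := A) (S := B) (M := B ⧸ N)
    (1 * f₁) h1
  have good₁' := good₁.mul_right f₂
  obtain ⟨a, ha⟩ : ∃ a : A, a = 1 * f₁ * f₂ := ⟨_, rfl⟩
  rw [← ha] at h2 good₁' good₂
  haveI : Module.Free (Localization.Away a) (Localization.Away a ⊗[A] N) := good₁'.free_tensor
  haveI : Module.Free (Localization.Away a) (Localization.Away a ⊗[A] (B ⧸ N)) := good₂.free_tensor
  refine ⟨a, h2, fun L _ _ haL hred => ?_⟩
  have hu : IsUnit (algebraMap A L a) := IsUnit.mk0 _ haL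
  letI : Algebra (Localization.Away a) L :=
    (IsLocalization.Away.lift (S := Localization.Away a) a hu).toAlgebra
  haveI : IsScalarTower A (Localization.Away a) L := IsScalarTower.of_algebraMap_eq
    (fun x => (IsLocalization.Away.lift_eq a hu x).symm)
  obtain ⟨ι, hι⟩ : ∃ ι : N →ₗ[A] B, ∀ n, ι n = n.1 := ⟨N.subtype.restrictScalars A, fun _ => rfl⟩
  obtain ⟨π, hπ⟩ : ∃ π : B →ₗ[A] (B ⧸ N), ∀ y, π y = Submodule.Quotient.mk y :=
    ⟨(Submodule.mkQ N).restrictScalars A, fun _ => rfl⟩
  have hex : Function.Exact ι π := by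
    intro y
    rw [hπ, Submodule.Quotient.mk_eq_zero]
    constructor
    · intro hy; exact ⟨⟨y, hy⟩, hι _⟩
    · rintro ⟨n, rfl⟩; rw [hι]; exact n.2
  have hπs : Function.Surjective π := by
    intro y
    obtain ⟨b, rfl⟩ := Submodule.Quotient.mk_surjective _ y
    exact ⟨b, hπ b⟩
  have hιinj : Function.Injective ι := fun n m h => Subtype.ext (by rw [← hι, ← hι, h])
  have hι₁ : Function.Injective (ι.baseChange (Localization.Away a)) := by
    haveI : Module.Flat A (Localization.Away a) :=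
      IsLocalization.flat (Localization.Away a) (Submonoid.powers a)
    rw [LinearMap.baseChange_eq_ltensor]
    exact Module.Flat.lTensor_preserves_injective_linearMap ι hιinj
  have hinj : Function.Injective (ι.lTensor L) :=
    inj_lTensor_of_away (Localization.Away a) ι π hex hπs hι₁ L
  -- nontriviality
  have hnt : Nontrivial (L ⊗[A] N) := by
    haveI : Nontrivial (Localization.Away a ⊗[A] N) := by
      refine ⟨⟨(1 : Localization.Away a) ⊗ₜ[A] (⟨b, hbN⟩ : N), 0, ?_⟩⟩
      intro h0
      have h3 : (TensorProduct.mk A (Localization.Away a) N 1) ⟨b, hbN⟩ = 0 := h0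
      rw [IsLocalizedModule.eq_zero_iff (Submonoid.powers a)] at h3
      obtain ⟨⟨s, n, rfl⟩, hs⟩ := h3
      have hs' : a ^ n • b = 0 := congrArg Subtype.val hs
      exact hbt (a ^ n) (pow_ne_zero n h2) hs'
    haveI : Nontrivial (L ⊗[Localization.Away a] (Localization.Away a ⊗[A] N)) :=
      Module.FaithfullyFlat.rTensor_nontrivial _ _ _
    exact (TensorProduct.AlgebraTensorModule.cancelBaseChange A (Localization.Away a)
      (Localization.Away a) L N).symm.toEquiv.nontrivial
  obtain ⟨t, ht⟩ := exists_ne (0 : L ⊗[A] N)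
  have ht' : (ι.lTensor L) t ≠ 0 := fun h => ht (hinj (by rw [h, map_zero]))
  have hdiv : ∀ t : L ⊗[A] N, ∃ u : L ⊗[A] B, (ι.lTensor L) t = ((1 : L) ⊗ₜ[A] b) * u := by
    intro t
    induction t using TensorProduct.induction_on with
    | zero => exact ⟨0, by simp⟩
    | tmul l n =>
      have hn : n.1 ∈ Ideal.span {b} := by rw [← hN]; exact n.2
      obtain ⟨c, hc⟩ := Ideal.mem_span_singleton'.mp hn
      refine ⟨l ⊗ₜ c, ?_⟩
      rw [LinearMap.lTensor_tmul, hι, Algebra.TensorProduct.tmul_mul_tmul, one_mul, ← hc, mul_comm]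
    | add x y hx hy =>
      obtain ⟨u, hu⟩ := hx
      obtain ⟨v, hv⟩ := hy
      exact ⟨u + v, by rw [map_add, hu, hv, mul_add]⟩
  obtain ⟨u, hu'⟩ := hdiv t
  have hnil : IsNilpotent ((ι.lTensor L) t) := by
    rw [hu']
    have h1 : IsNilpotent ((1 : L) ⊗ₜ[A] b) := by
      have := hb.map (Algebra.TensorProduct.includeRight : B →ₐ[A] L ⊗[A] B)
      simpa using this
    exact (Commute.all _ _).isNilpotent_mul_right h1
  exact ht' hnil.eq_zero

/-- an element killed by a field extension of the fraction field is torsion. -/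
theorem exists_smul_eq_zero_of_tmul_eq_zero {A' : Type u} [CommRing A'] [IsDomain A']
    (L₀ : Type u) [Field L₀] [Algebra A' L₀] (hinj : Function.Injective (algebraMap A' L₀))
    {M : Type u} [AddCommGroup M] [Module A' M] (m : M) (h : (1 : L₀) ⊗ₜ[A'] m = 0) :
    ∃ t : A', t ≠ 0 ∧ t • m = 0 := by
  by_contra hcon
  push Not at hcon
  letI : Algebra (FractionRing A') L₀ := (IsFractionRing.lift (K := FractionRing A') hinj).toAlgebra
  haveI : IsScalarTower A' (FractionRing A') L₀ := IsScalarTower.of_algebraMap_eq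
    (fun x => (IsFractionRing.lift_algebraMap hinj x).symm)
  haveI : Module.Flat A' L₀ := Module.Flat.trans A' (FractionRing A') L₀
  have hφ : Function.Injective (LinearMap.toSpanSingleton A' M m) := by
    rw [injective_iff_map_eq_zero]
    intro t ht
    by_contra ht0
    exact hcon t ht0 (by simpa using ht)
  have h1 := Module.Flat.lTensor_preserves_injective_linearMap (M := L₀) _ hφ
  have h2 : (LinearMap.toSpanSingleton A' M m).lTensor L₀ ((1 : L₀) ⊗ₜ[A'] (1 : A')) = 0 := by
    rw [LinearMap.lTensor_tmul, LinearMap.toSpanSingleton_apply, one_smul, h]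
  have h3 : (1 : L₀) ⊗ₜ[A'] (1 : A') = 0 := h1 (by rw [h2, map_zero])
  have h4 := congrArg (TensorProduct.rid A' L₀) h3
  rw [TensorProduct.rid_tmul, one_smul, map_zero] at h4
  exact one_ne_zero h4

/-- a non-reduced fibre over an extension field is already visible over a finitely generated
subalgebra, by a nilpotent non-torsion element. -/
theorem exists_model_nilpotent (L₀ : Type u) [Field L₀] [Algebra A L₀]
    (hnr : ¬ IsReduced (L₀ ⊗[A] B)) :
    ∃ A' : Subalgebra A L₀, A'.FG ∧ ∃ z' : A' ⊗[A] B, IsNilpotent z' ∧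
      ∀ t : A', t ≠ 0 → t • z' ≠ 0 := by
  classical
  have hex : ∃ z : L₀ ⊗[A] B, IsNilpotent z ∧ z ≠ 0 := by
    by_contra hcon
    push Not at hcon
    exact hnr ⟨fun z hz => hcon z hz⟩
  obtain ⟨z, ⟨n, hn⟩, hz0⟩ := hex
  obtain ⟨S, hS⟩ := TensorProduct.exists_finset z
  obtain ⟨A', hA'⟩ : ∃ A' : Subalgebra A L₀,
      A' = Algebra.adjoin A ((S.image Prod.fst : Finset L₀) : Set L₀) := ⟨_, rfl⟩
  have hmem : ∀ i ∈ S, i.1 ∈ A' := fun i hi => by
    rw [hA']
    exact Algebra.subset_adjoin (Finset.mem_coe.mpr (Finset.mem_image_of_mem _ hi))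
  refine ⟨A', by rw [hA']; exact Subalgebra.fg_adjoin_finset _, ?_⟩
  obtain ⟨ι, hι⟩ : ∃ ι : A' ⊗[A] B →ₐ[A] L₀ ⊗[A] B,
      ∀ (x : A') (b : B), ι (x ⊗ₜ b) = (x : L₀) ⊗ₜ b :=
    ⟨Algebra.TensorProduct.map A'.val (AlgHom.id A B), fun x b => by simp⟩
  obtain ⟨z₀, hz₀⟩ : ∃ z₀ : A' ⊗[A] B, ι z₀ = z := by
    refine ⟨∑ i ∈ S.attach, (⟨i.1.1, hmem i.1 i.2⟩ : A') ⊗ₜ[A] i.1.2, ?_⟩
    rw [map_sum, hS, ← Finset.sum_attach S]
    refine Finset.sum_congr rfl (fun i _ => ?_)
    rw [hι]
  have hcancel : ∀ w : A' ⊗[A] B,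
      (TensorProduct.AlgebraTensorModule.cancelBaseChange A A' A' L₀ B) ((1 : L₀) ⊗ₜ[A'] w) = ι w := by
    intro w
    induction w using TensorProduct.induction_on with
    | zero => simp
    | tmul x b =>
      rw [TensorProduct.AlgebraTensorModule.cancelBaseChange_tmul, hι, Algebra.smul_def, mul_one]
      rfl
    | add x y hx hy => rw [TensorProduct.tmul_add, map_add, hx, hy, map_add]
  have hker : ∀ w : A' ⊗[A] B, ι w = 0 → ∃ t : A', t ≠ 0 ∧ t • w = 0 := by
    intro w hw
    apply exists_smul_eq_zero_of_tmul_eq_zero L₀ (Subtype.val_injective) w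
    apply (TensorProduct.AlgebraTensorModule.cancelBaseChange A A' A' L₀ B).injective
    rw [map_zero, hcancel w, hw]
  obtain ⟨t, ht0, ht⟩ := hker (z₀ ^ (n + 1)) (by rw [map_pow, hz₀, pow_succ, hn, zero_mul])
  refine ⟨t • z₀, ⟨n + 1, ?_⟩, ?_⟩
  · rw [smul_pow, pow_succ, mul_smul, ht, smul_zero]
  · intro t' ht' h0
    have h1 : ι ((t' * t) • z₀) = (((t' * t : A') : L₀) ⊗ₜ[A] (1 : B)) * z := by
      have h3 : (t' * t) • z₀ = algebraMap A' (A' ⊗[A] B) (t' * t) * z₀ :=
        Algebra.smul_def (R := A') (A := A' ⊗[A] B) (t' * t) z₀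
      rw [h3, map_mul, Algebra.TensorProduct.algebraMap_apply, hι, hz₀]
      rfl
    have hne : ((t' * t : A') : L₀) ≠ 0 := by
      intro h
      exact mul_ne_zero ht' ht0 (Subtype.ext h)
    have hunit : IsUnit ((((t' * t : A') : L₀)) ⊗ₜ[A] (1 : B)) :=
      (IsUnit.mk0 _ hne).map (Algebra.TensorProduct.includeLeft : L₀ →ₐ[A] L₀ ⊗[A] B)
    have h2 : (((t' * t : A') : L₀) ⊗ₜ[A] (1 : B)) * z = 0 := by
      rw [← h1, mul_smul, h0, map_zero]
    exact hz0 (hunit.mul_right_eq_zero.mp h2)

/-- Chevalley: the image of a nonempty basic open under a dominant finite type map of integral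
domains contains a nonempty basic open. -/
theorem chev [IsDomain A] [IsNoetherianRing A] (A' : Type u) [CommRing A'] [IsDomain A']
    [Algebra A A'] [Algebra.FiniteType A A'] (hinj : Function.Injective (algebraMap A A'))
    (a' : A') (ha' : a' ≠ 0) :
    ∃ a : A, a ≠ 0 ∧ ∀ p : PrimeSpectrum A, a ∉ p.asIdeal →
      ∃ p' : PrimeSpectrum A', PrimeSpectrum.comap (algebraMap A A') p' = p ∧ a' ∉ p'.asIdeal := by
  have hfp : (algebraMap A A').FinitePresentation := by
    rw [RingHom.finitePresentation_algebraMap]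
    exact Algebra.FinitePresentation.of_finiteType.mp inferInstance
  have hcons : IsConstructible (PrimeSpectrum.comap (algebraMap A A') ''
      (PrimeSpectrum.basicOpen a' : Set (PrimeSpectrum A'))) :=
    PrimeSpectrum.isConstructible_comap_image hfp PrimeSpectrum.isConstructible_basicOpen
  have hirr : IsIrreducible (Set.univ : Set (PrimeSpectrum A)) :=
    IrreducibleSpace.isIrreducible_univ _
  have hbot : (⟨⊥, Ideal.isPrime_bot⟩ : PrimeSpectrum A) ∈ PrimeSpectrum.comap (algebraMap A A') ''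
      (PrimeSpectrum.basicOpen a' : Set (PrimeSpectrum A')) := by
    refine ⟨⟨⊥, Ideal.isPrime_bot⟩, ?_, ?_⟩
    · change a' ∉ (⊥ : Ideal A')
      rwa [Ideal.mem_bot]
    · apply PrimeSpectrum.ext
      change Ideal.comap (algebraMap A A') ⊥ = ⊥
      rw [← RingHom.ker_eq_comap_bot]
      exact (RingHom.injective_iff_ker_eq_bot _).mp hinj
  have hgen : ∀ U : Set (PrimeSpectrum A), IsOpen U → (U ∩ Set.univ).Nonempty →
      (⟨⊥, Ideal.isPrime_bot⟩ : PrimeSpectrum A) ∈ U := by
    rintro U hU ⟨x, hxU, -⟩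
    have hsp : (⟨⊥, Ideal.isPrime_bot⟩ : PrimeSpectrum A) ⤳ x :=
      (PrimeSpectrum.le_iff_specializes _ _).mp (show (⊥ : Ideal A) ≤ x.asIdeal from bot_le)
    exact hsp.mem_open hU hxU
  rcases Groth.Agent.H8.CNoeth.dichotomy hirr hcons with ⟨U, hU, hne, hsub⟩ | ⟨U, hU, hne, hsub⟩
  · have hbotU := hgen U hU hne
    obtain ⟨_, ⟨a, rfl⟩, hba, haU⟩ :=
      PrimeSpectrum.isTopologicalBasis_basic_opens.exists_subset_of_mem_open hbotU hU
    refine ⟨a, fun h0 => hba (by rw [h0]; exact zero_mem _), fun p hp => ?_⟩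
    obtain ⟨p', hp', rfl⟩ := hsub ⟨haU hp, trivial⟩
    exact ⟨p', rfl, hp'⟩
  · exact absurd hbot (hsub ⟨hgen U hU hne, trivial⟩)

end pieces

end Groth.Agent.H1.GRedCore
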