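import Mathlib
import Groth.Agent.Lib.Helper1.GRedCore

/-!
# Geometric irreducibility of fibres: ring-level toolkit (helper1)

`NP R`: the nilradical of `R` is prime (i.e. `Spec R` is irreducible).
`Fib A C a`: all fibres `Ω ⊗[A] C` over `D(a)` satisfy `NP`.  `Spread A C`: some `D(a)`, `a ≠ 0`, works.
-/

set_option autoImplicit false
set_option linter.style.haveILetI false
universe u

open TensorProduct

namespace Groth.Agent.H1.GIrr

/-- the nilradical is a prime ideal -/
def NP (R : Type*) [CommRing R] : Prop := (nilradical R).IsPrime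

theorem np_iff_irreducibleSpace (R : Type*) [CommRing R] :
    NP R ↔ IrreducibleSpace (PrimeSpectrum R) :=
  PrimeSpectrum.irreducibleSpace_iff_isPrime_nilradical.symm

theorem NP.nontrivial {R : Type*} [CommRing R] (h : NP R) : Nontrivial R := by
  by_contra hn
  rw [not_nontrivial_iff_subsingleton] at hn
  exact h.ne_top ((Ideal.eq_top_iff_one _).mpr (by rw [Subsingleton.elim (1 : R) 0]; exact zero_mem _))

theorem NP.of_isDomain (R : Type*) [CommRing R] [IsDomain R] : NP R := by
  unfold NP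
  rw [nilradical_eq_zero, Ideal.zero_eq_bot]
  exact Ideal.isPrime_bot

theorem comap_nilradical_of_ker_le {R S : Type*} [CommRing R] [CommRing S] (f : R →+* S)
    (hk : RingHom.ker f ≤ nilradical R) : (nilradical S).comap f = nilradical R := by
  ext x
  rw [Ideal.mem_comap, mem_nilradical, mem_nilradical]
  constructor
  · rintro ⟨n, hn⟩
    have h1 : x ^ n ∈ RingHom.ker f := by rw [RingHom.mem_ker, map_pow, hn]
    have h2 := hk h1
    rw [mem_nilradical] at h2
    exact IsNilpotent.of_pow h2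
  · intro h
    exact h.map f

theorem NP.of_ker_le {R S : Type*} [CommRing R] [CommRing S] (f : R →+* S)
    (hk : RingHom.ker f ≤ nilradical R) (h : NP S) : NP R := by
  unfold NP at h ⊢
  rw [← comap_nilradical_of_ker_le f hk]
  haveI := h
  exact Ideal.comap_isPrime f _

theorem NP.of_injective {R S : Type*} [CommRing R] [CommRing S] (f : R →+* S)
    (hf : Function.Injective f) (h : NP S) : NP R :=
  NP.of_ker_le f (by rw [(RingHom.injective_iff_ker_eq_bot f).mp hf]; exact bot_le) h

theorem NP.of_surjective_of_ker_le {R S : Type*} [CommRing R] [CommRing S] (f : R →+* S)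
    (hf : Function.Surjective f) (hk : RingHom.ker f ≤ nilradical R) (h : NP R) : NP S := by
  unfold NP at h ⊢
  have h1 : nilradical S = Ideal.map f (nilradical R) := by
    rw [← comap_nilradical_of_ker_le f hk, Ideal.map_comap_of_surjective f hf]
  rw [h1]
  haveI := h
  exact Ideal.map_isPrime_of_surjective hf hk

theorem NP.of_ringEquiv {R S : Type*} [CommRing R] [CommRing S] (e : R ≃+* S) (h : NP R) : NP S :=
  NP.of_injective e.symm.toRingHom e.symm.injective h

theorem NP.away {R : Type*} [CommRing R] (h : NP R) (t : R) (S : Type*) [CommRing S] [Algebra R S]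
    [IsLocalization.Away t S] [Nontrivial S] : NP S := by
  rw [np_iff_irreducibleSpace] at h ⊢
  haveI := h
  exact (PrimeSpectrum.localization_away_isOpenEmbedding S t).irreducibleSpace

/-! ### fibres -/

section fibres

variable (A : Type u) [CommRing A]

/-- all fibres of `C` over `D(a)` have prime nilradical -/
def Fib (C : Type u) [CommRing C] [Algebra A C] (a : A) : Prop :=
  ∀ (Ω : Type u) [Field Ω] [Algebra A Ω], algebraMap A Ω a ≠ 0 → NP (Ω ⊗[A] C)

/-- the fibres of `C` over some nonempty basic open have prime nilradical -/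
def Spread (C : Type u) [CommRing C] [Algebra A C] : Prop := ∃ a : A, a ≠ 0 ∧ Fib A C a

variable {A}

theorem ne_zero_of_mul_left {Ω : Type*} [Field Ω] [Algebra A Ω] {a b : A}
    (h : algebraMap A Ω (a * b) ≠ 0) : algebraMap A Ω a ≠ 0 := by
  intro h0; apply h; rw [map_mul, h0, zero_mul]

theorem ne_zero_of_mul_right {Ω : Type*} [Field Ω] [Algebra A Ω] {a b : A}
    (h : algebraMap A Ω (a * b) ≠ 0) : algebraMap A Ω b ≠ 0 := by
  intro h0; apply h; rw [map_mul, h0, mul_zero]

variable {C C' : Type u} [CommRing C] [Algebra A C] [CommRing C'] [Algebra A C']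

theorem Spread.of_algEquiv (e : C ≃ₐ[A] C') (h : Spread A C) : Spread A C' := by
  obtain ⟨a, ha, hf⟩ := h
  refine ⟨a, ha, fun Ω _ _ hΩ => ?_⟩
  exact NP.of_ringEquiv (Algebra.TensorProduct.congr (AlgEquiv.refl : Ω ≃ₐ[A] Ω) e).toRingEquiv
    (hf Ω hΩ)

/-- an element killed by a power of `a` dies in the fibres over `D(a)`. -/
theorem one_tmul_eq_zero_of_pow_smul (Ω : Type*) [Field Ω] [Algebra A Ω] {a : A}
    (ha : algebraMap A Ω a ≠ 0) {x : C} {m : ℕ} (h : a ^ m • x = 0) : (1 : Ω) ⊗ₜ[A] x = 0 := by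
  have h1 : (algebraMap A Ω (a ^ m)) ⊗ₜ[A] x = 0 := by
    rw [Algebra.algebraMap_eq_smul_one, TensorProduct.smul_tmul, h, TensorProduct.tmul_zero]
  have h2 : (algebraMap A Ω (a ^ m)) ⊗ₜ[A] x = (algebraMap A Ω (a ^ m)) • ((1 : Ω) ⊗ₜ[A] x) := by
    rw [TensorProduct.smul_tmul', smul_eq_mul, mul_one]
  rw [h2] at h1
  have hu : algebraMap A Ω (a ^ m) ≠ 0 := by rw [map_pow]; exact pow_ne_zero _ ha
  exact (IsUnit.mk0 _ hu).smul_eq_zero.mp h1

/-- a surjection whose kernel is generically nil induces the same `NP` on fibres. -/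
theorem np_tensor_iff_of_ker (π : C →ₐ[A] C') (hπ : Function.Surjective π) (a : A)
    (hker : ∀ x, π x = 0 → ∃ n m : ℕ, a ^ m • x ^ n = 0) (Ω : Type u) [Field Ω] [Algebra A Ω]
    (ha : algebraMap A Ω a ≠ 0) : NP (Ω ⊗[A] C) ↔ NP (Ω ⊗[A] C') := by
  let F : Ω ⊗[A] C →ₐ[A] Ω ⊗[A] C' := Algebra.TensorProduct.map (AlgHom.id A Ω) π
  have hF : Function.Surjective F.toRingHom :=
    Algebra.TensorProduct.map_surjective _ _ (fun x => ⟨x, rfl⟩) hπ
  have hk : RingHom.ker F.toRingHom ≤ nilradical (Ω ⊗[A] C) := by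
    have h0 : RingHom.ker F.toRingHom = (RingHom.ker π).map
        (Algebra.TensorProduct.includeRight : C →ₐ[A] Ω ⊗[A] C) :=
      Algebra.TensorProduct.lTensor_ker (A := Ω) π hπ
    rw [h0, Ideal.map_le_iff_le_comap]
    intro x hx
    rw [Ideal.mem_comap, mem_nilradical]
    obtain ⟨n, m, h⟩ := hker x hx
    refine ⟨n, ?_⟩
    rw [← map_pow, Algebra.TensorProduct.includeRight_apply]
    exact one_tmul_eq_zero_of_pow_smul Ω ha h
  exact ⟨fun h => NP.of_surjective_of_ker_le F.toRingHom hF hk h,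
    fun h => NP.of_ker_le F.toRingHom hk h⟩

end fibres

/-! ### generic freeness consequences -/

theorem eq_zero_of_smul_eq_zero_of_free {R M : Type*} [CommRing R] [IsDomain R] [AddCommGroup M]
    [Module R M] [Module.Free R M] {r : R} (hr : r ≠ 0) {y : M} (h : r • y = 0) : y = 0 := by
  let b := Module.Free.chooseBasis R M
  apply b.repr.injective
  ext i
  have h2 := congrArg (fun z => b.repr z i) h
  simp only [map_smul, Finsupp.smul_apply, smul_eq_mul, map_zero, Finsupp.zero_apply] at h2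
  rcases mul_eq_zero.mp h2 with h3 | h3
  · exact absurd h3 hr
  · simpa using h3

section generic

variable (A : Type u) [CommRing A] [IsDomain A]

/-- (TK) the torsion of a finite type algebra over a domain is killed elementwise by powers of one
nonzero element. -/
theorem exists_pow_smul_eq_zero_of_torsion (C : Type u) [CommRing C] [Algebra A C]
    [Algebra.FiniteType A C] :
    ∃ a : A, a ≠ 0 ∧ ∀ x : C, (∃ d : A, d ≠ 0 ∧ d • x = 0) → ∃ m : ℕ, a ^ m • x = 0 := by
  obtain ⟨f₁, h1, good⟩ := Groth.Agent.H1.GenFree.exists_good (R := A) (S := C) (M := C) 1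
    one_ne_zero
  obtain ⟨a, ha⟩ : ∃ a : A, a = 1 * f₁ := ⟨_, rfl⟩
  rw [← ha] at h1 good
  refine ⟨a, h1, ?_⟩
  rintro x ⟨d, hd, hdx⟩
  haveI := good.free_tensor_self
  haveI : IsDomain (Localization.Away a) :=
    IsLocalization.isDomain_localization (M := Submonoid.powers a)
      (powers_le_nonZeroDivisors_of_noZeroDivisors h1)
  have h2 : (algebraMap A (Localization.Away a) d) • ((1 : Localization.Away a) ⊗ₜ[A] x) = 0 := by
    rw [algebraMap_smul, ← TensorProduct.tmul_smul, hdx, TensorProduct.tmul_zero]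
  have hd' : algebraMap A (Localization.Away a) d ≠ 0 := by
    intro h0
    exact hd ((IsLocalization.injective (Localization.Away a)
      (powers_le_nonZeroDivisors_of_noZeroDivisors h1)) (by rw [h0, map_zero]))
  have h3 : (1 : Localization.Away a) ⊗ₜ[A] x = 0 := eq_zero_of_smul_eq_zero_of_free hd' h2
  have h4 : (TensorProduct.mk A (Localization.Away a) C 1) x = 0 := h3
  rw [IsLocalizedModule.eq_zero_iff (Submonoid.powers a)] at h4
  obtain ⟨⟨_, m, rfl⟩, hs⟩ := h4
  exact ⟨m, hs⟩

variable {A}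

/-- (SQ) a surjection of finite type algebras with generically nil kernel: `Spread` transfers. -/
theorem Spread.iff_of_surjective {C C' : Type u} [CommRing C] [Algebra A C] [CommRing C']
    [Algebra A C'] [Algebra.FiniteType A C] (π : C →ₐ[A] C') (hπ : Function.Surjective π)
    (hker : ∀ x, π x = 0 → ∃ n : ℕ, ∃ d : A, d ≠ 0 ∧ d • x ^ n = 0) :
    Spread A C ↔ Spread A C' := by
  obtain ⟨a₀, ha₀, htk⟩ := exists_pow_smul_eq_zero_of_torsion A C
  have hker' : ∀ x, π x = 0 → ∃ n m : ℕ, a₀ ^ m • x ^ n = 0 := by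
    intro x hx
    obtain ⟨n, d, hd, hdx⟩ := hker x hx
    obtain ⟨m, hm⟩ := htk (x ^ n) ⟨d, hd, hdx⟩
    exact ⟨n, m, hm⟩
  constructor
  · rintro ⟨a, ha, hf⟩
    refine ⟨a₀ * a, mul_ne_zero ha₀ ha, fun Ω _ _ hΩ => ?_⟩
    exact (np_tensor_iff_of_ker π hπ a₀ hker' Ω (ne_zero_of_mul_left hΩ)).mp
      (hf Ω (ne_zero_of_mul_right hΩ))
  · rintro ⟨a, ha, hf⟩
    refine ⟨a₀ * a, mul_ne_zero ha₀ ha, fun Ω _ _ hΩ => ?_⟩
    exact (np_tensor_iff_of_ker π hπ a₀ hker' Ω (ne_zero_of_mul_left hΩ)).mpr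
      (hf Ω (ne_zero_of_mul_right hΩ))

variable (A)

/-- (R-empty) an empty generic fibre stays empty over a nonempty open. -/
theorem exists_subsingleton_fibres (K : Type u) [Field K] [Algebra A K]
    (hinj : Function.Injective (algebraMap A K)) (C : Type u) [CommRing C] [Algebra A C]
    (h : Subsingleton (K ⊗[A] C)) :
    ∃ a : A, a ≠ 0 ∧ ∀ (Ω : Type u) [Field Ω] [Algebra A Ω], algebraMap A Ω a ≠ 0 →
      Subsingleton (Ω ⊗[A] C) := by
  obtain ⟨t, ht, htx⟩ := Groth.Agent.H1.GRedCore.exists_smul_eq_zero_of_tmul_eq_zero K hinj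
    (1 : C) (Subsingleton.elim _ _)
  refine ⟨t, ht, fun Ω _ _ hΩ => ?_⟩
  have h1 : (1 : Ω) ⊗ₜ[A] (1 : C) = 0 :=
    one_tmul_eq_zero_of_pow_smul Ω hΩ (m := 1) (by rw [pow_one]; exact htx)
  exact subsingleton_of_zero_eq_one (by rw [Algebra.TensorProduct.one_def, h1])

/-- a nonempty generic fibre means the structure map is injective. -/
theorem injective_of_nontrivial_tensor (K : Type*) [Field K] [Algebra A K]
    (hinj : Function.Injective (algebraMap A K)) (C : Type u) [CommRing C] [Algebra A C]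
    [Nontrivial (K ⊗[A] C)] : Function.Injective (algebraMap A C) := by
  rw [injective_iff_map_eq_zero]
  intro a ha
  by_contra ha0
  have hK : algebraMap A K a ≠ 0 := fun h => ha0 (hinj (by rw [h, map_zero]))
  have h1 : (1 : K) ⊗ₜ[A] (1 : C) = 0 :=
    one_tmul_eq_zero_of_pow_smul K hK (m := 1)
      (by rw [pow_one, Algebra.smul_def, mul_one]; exact ha)
  exact one_ne_zero (α := K ⊗[A] C) (by rw [Algebra.TensorProduct.one_def, h1])

/-- (M3) a nonempty generic fibre stays nonempty over a nonempty open. -/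
theorem exists_nontrivial_fibres (C : Type u) [CommRing C] [Algebra A C] [Algebra.FiniteType A C]
    (hinj : Function.Injective (algebraMap A C)) :
    ∃ a : A, a ≠ 0 ∧ ∀ (Ω : Type u) [Field Ω] [Algebra A Ω], algebraMap A Ω a ≠ 0 →
      Nontrivial (Ω ⊗[A] C) := by
  obtain ⟨f₁, h1, good⟩ := Groth.Agent.H1.GenFree.exists_good (R := A) (S := C) (M := C) 1
    one_ne_zero
  obtain ⟨a, ha⟩ : ∃ a : A, a = 1 * f₁ := ⟨_, rfl⟩
  rw [← ha] at h1 good
  refine ⟨a, h1, fun Ω _ _ haΩ => ?_⟩
  haveI := good.free_tensor_self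
  haveI : Nontrivial (Localization.Away a ⊗[A] C) := by
    refine ⟨⟨1 ⊗ₜ 1, 0, fun h0 => ?_⟩⟩
    have h4 : (TensorProduct.mk A (Localization.Away a) C 1) 1 = 0 := h0
    rw [IsLocalizedModule.eq_zero_iff (Submonoid.powers a)] at h4
    obtain ⟨⟨_, m, rfl⟩, hs⟩ := h4
    have h5 : algebraMap A C (a ^ m) = 0 := by rw [Algebra.algebraMap_eq_smul_one]; exact hs
    exact pow_ne_zero m h1 (hinj (by rw [h5, map_zero]))
  have hu : IsUnit (algebraMap A Ω a) := IsUnit.mk0 _ haΩ
  letI : Algebra (Localization.Away a) Ω :=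
    (IsLocalization.Away.lift (S := Localization.Away a) a hu).toAlgebra
  haveI : IsScalarTower A (Localization.Away a) Ω := IsScalarTower.of_algebraMap_eq
    (fun x => (IsLocalization.Away.lift_eq a hu x).symm)
  haveI : Nontrivial (Ω ⊗[Localization.Away a] (Localization.Away a ⊗[A] C)) :=
    Module.FaithfullyFlat.rTensor_nontrivial _ _ Ω
  let e := Algebra.TensorProduct.cancelBaseChange A (Localization.Away a) (Localization.Away a) Ω C
  exact e.injective.nontrivial

variable {A}

/-- (S2) `Spread` passes to a localization with nonempty generic fibre. -/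
theorem Spread.away {C : Type u} [CommRing C] [Algebra A C] [Algebra.FiniteType A C]
    (h : Spread A C) (c : C) (hinj : Function.Injective (algebraMap A (Localization.Away c))) :
    Spread A (Localization.Away c) := by
  obtain ⟨a₁, ha₁, hf⟩ := h
  haveI : Algebra.FiniteType A (Localization.Away c) := inferInstance
  obtain ⟨a₂, ha₂, hn⟩ := exists_nontrivial_fibres A (Localization.Away c) hinj
  refine ⟨a₁ * a₂, mul_ne_zero ha₁ ha₂, fun Ω _ _ hΩ => ?_⟩
  have hNP := hf Ω (ne_zero_of_mul_left hΩ)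
  haveI := hn Ω (ne_zero_of_mul_right hΩ)
  let e := IsLocalization.Away.tensorProductEquivTMulRight A Ω c (Localization.Away c)
  haveI : Nontrivial (Localization.Away ((1 : Ω) ⊗ₜ[A] c)) := e.injective.nontrivial
  have h3 : NP (Localization.Away ((1 : Ω) ⊗ₜ[A] c)) := hNP.away ((1 : Ω) ⊗ₜ[A] c) _
  exact NP.of_ringEquiv e.symm.toRingEquiv h3

/-- (S3) `Spread` for a dense localization of a domain gives `Spread` for the domain. -/
theorem Spread.of_away {C : Type u} [CommRing C] [IsDomain C] [Algebra A C]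
    [Algebra.FiniteType A C] (c : C) (hc : c ≠ 0) (h : Spread A (Localization.Away c)) :
    Spread A C := by
  obtain ⟨a₁, ha₁, hf⟩ := h
  haveI : Algebra.FiniteType A (C ⧸ Ideal.span {c}) :=
    Algebra.FiniteType.of_surjective (Ideal.Quotient.mkₐ A _) (Ideal.Quotient.mkₐ_surjective A _)
  obtain ⟨f₁, h1, good⟩ := Groth.Agent.H1.GenFree.exists_good (R := A)
    (S := C ⧸ Ideal.span {c}) (M := C ⧸ Ideal.span {c}) 1 one_ne_zero
  obtain ⟨a₂, ha₂⟩ : ∃ a : A, a = 1 * f₁ := ⟨_, rfl⟩
  rw [← ha₂] at h1 good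
  haveI := good.free_tensor_self
  haveI : Module.Flat (Localization.Away a₂) (Localization.Away a₂ ⊗[A] (C ⧸ Ideal.span {c})) :=
    inferInstance
  refine ⟨a₁ * a₂, mul_ne_zero ha₁ h1, fun Ω _ _ hΩ => ?_⟩
  have hnzd : ((1 : Ω) ⊗ₜ[A] c) ∈ nonZeroDivisors (Ω ⊗[A] C) :=
    Groth.Agent.H1.GRedCore.nzd_tensor A C c a₂
      (fun b hb => by
        rcases mul_eq_zero.mp hb with h0 | h0
        · exact absurd h0 hc
        · rw [h0, smul_zero]) Ω (ne_zero_of_mul_right hΩ)
  have hNP := hf Ω (ne_zero_of_mul_left hΩ)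
  let e := IsLocalization.Away.tensorProductEquivTMulRight A Ω c (Localization.Away c)
  have h3 : NP (Localization.Away ((1 : Ω) ⊗ₜ[A] c)) := NP.of_ringEquiv e.toRingEquiv hNP
  exact NP.of_injective (algebraMap (Ω ⊗[A] C) (Localization.Away ((1 : Ω) ⊗ₜ[A] c)))
    (IsLocalization.injective _ (Submonoid.powers_le.mpr hnzd)) h3

end generic

end Groth.Agent.H1.GIrr
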