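import Mathlib

/-!
# Birational comparison of finitely generated subalgebras of a field (helper1)

`locSub S t`: the subalgebra `S[1/t]` of a field `M`; two finitely generated subalgebras with
`M` as common fraction field have isomorphic principal localizations (`exists_away_algEquiv`).
-/

set_option autoImplicit false
universe u v

namespace Groth.Agent.H1.GIrr

section locSub

variable {A : Type*} [CommRing A] {M : Type*} [Field M] [Algebra A M]

/-- the subalgebra `S[1/t]` of the field `M`, for `t ∈ S`. -/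
def locSub (S : Subalgebra A M) (t : M) (ht : t ∈ S) : Subalgebra A M where
  carrier := {x | ∃ k : ℕ, t ^ k * x ∈ S}
  mul_mem' := by
    rintro x y ⟨k, hk⟩ ⟨l, hl⟩
    refine ⟨k + l, ?_⟩
    have : t ^ (k + l) * (x * y) = (t ^ k * x) * (t ^ l * y) := by ring
    rw [this]; exact S.mul_mem hk hl
  add_mem' := by
    rintro x y ⟨k, hk⟩ ⟨l, hl⟩
    refine ⟨k + l, ?_⟩
    have : t ^ (k + l) * (x + y) = t ^ l * (t ^ k * x) + t ^ k * (t ^ l * y) := by ring
    rw [this]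
    exact S.add_mem (S.mul_mem (S.pow_mem ht l) hk) (S.mul_mem (S.pow_mem ht k) hl)
  algebraMap_mem' r := ⟨0, by rw [pow_zero, one_mul]; exact S.algebraMap_mem r⟩

theorem mem_locSub_iff {S : Subalgebra A M} {t : M} {ht : t ∈ S} {x : M} :
    x ∈ locSub S t ht ↔ ∃ k : ℕ, t ^ k * x ∈ S := Iff.rfl

theorem le_locSub (S : Subalgebra A M) (t : M) (ht : t ∈ S) : S ≤ locSub S t ht :=
  fun x hx => ⟨0, by rw [pow_zero, one_mul]; exact hx⟩

theorem locSub_le {S T : Subalgebra A M} {t : M} (ht : t ∈ S) (ht0 : t ≠ 0) (hST : S ≤ T)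
    (hinv : t⁻¹ ∈ T) : locSub S t ht ≤ T := by
  rintro x ⟨k, hk⟩
  have : x = t⁻¹ ^ k * (t ^ k * x) := by
    rw [← mul_assoc, ← mul_pow, inv_mul_cancel₀ ht0, one_pow, one_mul]
  rw [this]
  exact T.mul_mem (T.pow_mem hinv k) (hST hk)

theorem locSub_le_locSub (S T : Subalgebra A M) {q r : M} (hq : q ∈ S) (hr : r ∈ T) (hq0 : q ≠ 0)
    (hr0 : r ≠ 0) (h2 : S ≤ locSub T r hr) {k m : ℕ} (hk : q ^ k * r ∈ S) (hm : r ^ m * q ∈ T) :
    locSub S (q * (q ^ k * r)) (S.mul_mem hq hk) ≤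
      locSub T (r * (r ^ m * q)) (T.mul_mem hr hm) := by
  have hb0 : q * (q ^ k * r) ≠ 0 := mul_ne_zero hq0 (mul_ne_zero (pow_ne_zero _ hq0) hr0)
  have hrinv : r⁻¹ ∈ locSub T (r * (r ^ m * q)) (T.mul_mem hr hm) := ⟨1, by
    have : (r * (r ^ m * q)) ^ 1 * r⁻¹ = r ^ m * q := by
      rw [pow_one, mul_comm r, mul_assoc, mul_inv_cancel₀ hr0, mul_one]
    rw [this]; exact hm⟩
  have hqinv : q⁻¹ ∈ locSub T (r * (r ^ m * q)) (T.mul_mem hr hm) := ⟨1, by
    have : (r * (r ^ m * q)) ^ 1 * q⁻¹ = r ^ (m + 1) := by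
      rw [pow_one, mul_assoc, mul_assoc, mul_inv_cancel₀ hq0, mul_one, pow_succ']
    rw [this]; exact T.pow_mem hr _⟩
  have hTT' : T ≤ locSub T (r * (r ^ m * q)) (T.mul_mem hr hm) := le_locSub _ _ _
  apply locSub_le _ hb0
  · exact h2.trans (locSub_le hr hr0 hTT' hrinv)
  · have : (q * (q ^ k * r))⁻¹ = q⁻¹ ^ (k + 1) * r⁻¹ := by
      rw [mul_inv, mul_inv, inv_pow, pow_succ']
      ring
    rw [this]
    exact Subalgebra.mul_mem _ (Subalgebra.pow_mem _ hqinv _) hrinv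

theorem exists_locSub_eq (S T : Subalgebra A M) {q r : M} (hq : q ∈ S) (hr : r ∈ T) (hq0 : q ≠ 0)
    (hr0 : r ≠ 0) (h1 : T ≤ locSub S q hq) (h2 : S ≤ locSub T r hr) :
    ∃ (b h : M) (hb : b ∈ S) (hh : h ∈ T), b ≠ 0 ∧ h ≠ 0 ∧ locSub S b hb = locSub T h hh := by
  obtain ⟨k, hk⟩ := h1 hr
  obtain ⟨m, hm⟩ := h2 hq
  refine ⟨q * (q ^ k * r), r * (r ^ m * q), S.mul_mem hq hk, T.mul_mem hr hm, ?_, ?_,
    le_antisymm ?_ ?_⟩
  · exact mul_ne_zero hq0 (mul_ne_zero (pow_ne_zero _ hq0) hr0)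
  · exact mul_ne_zero hr0 (mul_ne_zero (pow_ne_zero _ hr0) hq0)
  · exact locSub_le_locSub S T hq hr hq0 hr0 h2 hk hm
  · exact locSub_le_locSub T S hr hq hr0 hq0 h1 hm hk

theorem exists_le_locSub (S T : Subalgebra A M) (hT : T.FG)
    (hfrac : ∀ x : M, ∃ q ∈ S, q ≠ 0 ∧ q * x ∈ S) :
    ∃ (q : M) (hq : q ∈ S), q ≠ 0 ∧ T ≤ locSub S q hq := by
  classical
  obtain ⟨G, hG⟩ := hT
  choose q hqS hq0 hqx using hfrac
  have hQ : ∏ g ∈ G, q g ∈ S := Subalgebra.prod_mem S (fun g _ => hqS g)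
  refine ⟨∏ g ∈ G, q g, hQ, Finset.prod_ne_zero_iff.mpr (fun g _ => hq0 g), ?_⟩
  rw [← hG]
  apply Algebra.adjoin_le
  intro g hg
  refine ⟨1, ?_⟩
  have hg' : g ∈ G := hg
  rw [pow_one, ← Finset.prod_erase_mul G q hg', mul_assoc]
  exact S.mul_mem (Subalgebra.prod_mem S (fun g' _ => hqS g')) (hqx g)

end locSub

section awayLift

variable {A : Type*} [CommRing A] {M : Type*} [Field M] [Algebra A M] {R : Type*} [CommRing R]
  [Algebra A R]

/-- the extension of `φ` to the localization away from `b`. -/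
noncomputable def awayLift (φ : R →ₐ[A] M) (b : R) (hb : φ b ≠ 0) : Localization.Away b →ₐ[A] M :=
  IsLocalization.liftAlgHom (M := Submonoid.powers b) (f := φ) (by
    rintro ⟨_, n, rfl⟩
    rw [map_pow]
    exact (IsUnit.mk0 _ hb).pow n)

theorem awayLift_algebraMap (φ : R →ₐ[A] M) (b : R) (hb : φ b ≠ 0) (x : R) :
    awayLift φ b hb (algebraMap R (Localization.Away b) x) = φ x := by
  rw [awayLift, IsLocalization.liftAlgHom_apply, IsLocalization.lift_eq]
  rfl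

theorem awayLift_injective [IsDomain R] (φ : R →ₐ[A] M) (hφ : Function.Injective φ) (b : R)
    (hb : φ b ≠ 0) : Function.Injective (awayLift φ b hb) := by
  have hb0 : b ≠ 0 := fun h => hb (by rw [h, map_zero])
  have hinj : Function.Injective (algebraMap R (Localization.Away b)) :=
    IsLocalization.injective _ (powers_le_nonZeroDivisors_of_noZeroDivisors hb0)
  rw [awayLift, IsLocalization.coe_liftAlgHom, IsLocalization.lift_injective_iff]
  intro x y
  exact ⟨fun h => congrArg φ (hinj h), fun h => congrArg _ (hφ h)⟩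

theorem mem_range_awayLift_iff (φ : R →ₐ[A] M) (b : R) (hb : φ b ≠ 0) (x : M) :
    x ∈ (awayLift φ b hb).range ↔ ∃ k : ℕ, φ b ^ k * x ∈ φ.range := by
  constructor
  · rintro ⟨z, rfl⟩
    obtain ⟨⟨r, ⟨_, k, rfl⟩⟩, hz⟩ := IsLocalization.surj (Submonoid.powers b) z
    refine ⟨k, (AlgHom.mem_range _).mpr ⟨r, ?_⟩⟩
    have := congrArg (awayLift φ b hb) hz
    rw [map_mul, awayLift_algebraMap, awayLift_algebraMap, map_pow] at this
    rw [mul_comm]; exact this.symm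
  · rintro ⟨k, hr⟩
    obtain ⟨r, hr⟩ := (AlgHom.mem_range _).mp hr
    refine (AlgHom.mem_range _).mpr
      ⟨IsLocalization.mk' (Localization.Away b) r (⟨b ^ k, k, rfl⟩ : Submonoid.powers b), ?_⟩
    have h1 : awayLift φ b hb (IsLocalization.mk' (Localization.Away b) r
        (⟨b ^ k, k, rfl⟩ : Submonoid.powers b)) * φ b ^ k = φ r := by
      rw [← map_pow, ← awayLift_algebraMap φ b hb (b ^ k), ← map_mul]
      have := IsLocalization.mk'_spec (Localization.Away b) r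
        (⟨b ^ k, k, rfl⟩ : Submonoid.powers b)
      rw [this, awayLift_algebraMap]
    have h2 : φ b ^ k ≠ 0 := pow_ne_zero _ hb
    apply mul_right_cancel₀ h2
    rw [h1, hr, mul_comm]

end awayLift

theorem nonempty_algEquiv_of_range_eq {A : Type*} [CommRing A] {M : Type*} [CommRing M]
    [Algebra A M] {R₁ R₂ : Type*} [CommRing R₁] [CommRing R₂] [Algebra A R₁] [Algebra A R₂]
    (ψ₁ : R₁ →ₐ[A] M) (ψ₂ : R₂ →ₐ[A] M) (h₁ : Function.Injective ψ₁) (h₂ : Function.Injective ψ₂)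
    (h : ψ₁.range = ψ₂.range) : Nonempty (R₁ ≃ₐ[A] R₂) :=
  ⟨(AlgEquiv.ofInjective ψ₁ h₁).trans
    ((Subalgebra.equivOfEq _ _ h).trans (AlgEquiv.ofInjective ψ₂ h₂).symm)⟩

/-- two finitely generated domains inside a field which both have the field as fraction field have
isomorphic principal localizations. -/
theorem exists_away_algEquiv {A : Type*} [CommRing A] {M : Type*} [Field M] [Algebra A M]
    {B H : Type*} [CommRing B] [IsDomain B] [CommRing H] [IsDomain H] [Algebra A B] [Algebra A H]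
    (φ : B →ₐ[A] M) (ψ : H →ₐ[A] M) (hφ : Function.Injective φ) (hψ : Function.Injective ψ)
    (hB : φ.range.FG) (hH : ψ.range.FG)
    (fB : ∀ x : M, ∃ q ∈ φ.range, q ≠ 0 ∧ q * x ∈ φ.range)
    (fH : ∀ x : M, ∃ q ∈ ψ.range, q ≠ 0 ∧ q * x ∈ ψ.range) :
    ∃ (b : B) (h : H), b ≠ 0 ∧ ψ h ≠ 0 ∧
      Nonempty (Localization.Away b ≃ₐ[A] Localization.Away h) := by
  obtain ⟨q, hq, hq0, h1⟩ := exists_le_locSub φ.range ψ.range hH fB
  obtain ⟨r, hr, hr0, h2⟩ := exists_le_locSub ψ.range φ.range hB fH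
  obtain ⟨b', h', hb', hh', hb0, hh0, heq⟩ := exists_locSub_eq φ.range ψ.range hq hr hq0 hr0 h1 h2
  obtain ⟨b, hbe⟩ := (AlgHom.mem_range _).mp hb'
  obtain ⟨h, hhe⟩ := (AlgHom.mem_range _).mp hh'
  have hb1 : φ b ≠ 0 := by rw [hbe]; exact hb0
  have hh1 : ψ h ≠ 0 := by rw [hhe]; exact hh0
  refine ⟨b, h, fun e => hb1 (by rw [e, map_zero]), hh1, ?_⟩
  apply nonempty_algEquiv_of_range_eq (awayLift φ b hb1) (awayLift ψ h hh1)
    (awayLift_injective φ hφ b hb1) (awayLift_injective ψ hψ h hh1)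
  ext x
  rw [mem_range_awayLift_iff, mem_range_awayLift_iff, hbe, hhe]
  exact SetLike.ext_iff.mp heq x

end Groth.Agent.H1.GIrr
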