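import Mathlib

/-!
# Bertini–Noether: absolutely irreducible polynomials specialise to irreducible polynomials
(helper1).  `bertiniNoether`: `A` a domain, `L` an algebraically closed field containing `A`,
`P` a polynomial over `A` irreducible over `L`; then for some `f ≠ 0`, `P` stays irreducible under
every ring map `φ : A → κ` to a field with `φ f ≠ 0`.  Proof: the scheme of factorisations of
given degrees has empty generic fibre (Nullstellensatz), hence is killed by some `f ≠ 0`.
-/

set_option autoImplicit false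

universe u v w

open MvPolynomial TensorProduct

namespace Groth.Agent.H1.GIrrBN

section Box

variable {σ : Type*} [Finite σ]

/-- exponent vectors of total degree at most `e`. -/
noncomputable def box (σ : Type*) [Finite σ] (e : ℕ) : Finset (σ →₀ ℕ) :=
  (Finsupp.finite_of_degree_le (σ := σ) e).toFinset

theorem mem_box {e : ℕ} {m : σ →₀ ℕ} : m ∈ box σ e ↔ (m.sum fun _ k => k) ≤ e := by
  rw [box, Set.Finite.mem_toFinset]
  rfl

theorem support_subset_box {R : Type*} [CommSemiring R] (p : MvPolynomial σ R) {e : ℕ}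
    (h : p.totalDegree ≤ e) : p.support ⊆ box σ e := fun _ hm =>
  mem_box.mpr ((le_totalDegree hm).trans h)

variable {A : Type*} [CommRing A]

/-- generic polynomial with exponents in `I` and coefficient variables `ι m`. -/
noncomputable def gen {τ : Type*} (I : Finset (σ →₀ ℕ)) (ι : {m // m ∈ I} → τ) :
    MvPolynomial σ (MvPolynomial τ A) :=
  ∑ m ∈ I.attach, monomial m.1 (X (ι m))

theorem map_gen {τ κ : Type*} [CommRing κ] (I : Finset (σ →₀ ℕ)) (ι : {m // m ∈ I} → τ)
    (ψ : MvPolynomial τ A →+* κ) :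
    map ψ (gen (A := A) I ι) = ∑ m ∈ I.attach, monomial m.1 (ψ (X (ι m))) := by
  rw [gen, map_sum]
  exact Finset.sum_congr rfl fun m _ => map_monomial _ _ _

theorem totalDegree_map_gen_le {τ κ : Type*} [CommRing κ] (e : ℕ) (ι : {m // m ∈ box σ e} → τ)
    (ψ : MvPolynomial τ A →+* κ) : (map ψ (gen (A := A) (box σ e) ι)).totalDegree ≤ e := by
  rw [map_gen]
  refine totalDegree_finsetSum_le fun m _ => ?_
  exact (totalDegree_monomial_le _ _).trans (mem_box.mp m.2)

theorem sum_monomial_coeff_eq {κ : Type*} [CommRing κ] (I : Finset (σ →₀ ℕ))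
    (g : MvPolynomial σ κ) (hg : g.support ⊆ I) :
    ∑ m ∈ I.attach, monomial m.1 (coeff m.1 g) = g := by
  have h1 : ∑ m ∈ I.attach, monomial m.1 (coeff m.1 g) = ∑ m ∈ I, monomial m (coeff m g) :=
    Finset.sum_attach I (fun m => monomial m (coeff m g))
  rw [h1]
  conv_rhs => rw [← support_sum_monomial_coeff g]
  refine (Finset.sum_subset hg fun m _ hm => ?_).symm
  rw [notMem_support_iff.mp hm, map_zero]

end Box

section Factor

variable {σ : Type*} [Finite σ] {A : Type*} [CommRing A] (P : MvPolynomial σ A) (d1 d2 : ℕ)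

/-- the coefficient variables of the two generic factors. -/
abbrev Var (σ : Type*) [Finite σ] (d1 d2 : ℕ) := {m // m ∈ box σ d1} ⊕ {m // m ∈ box σ d2}

/-- first generic factor -/
noncomputable def G1 (σ : Type*) [Finite σ] (A : Type*) [CommRing A] (d1 d2 : ℕ) :
    MvPolynomial σ (MvPolynomial (Var σ d1 d2) A) := gen (box σ d1) Sum.inl

/-- second generic factor -/
noncomputable def G2 (σ : Type*) [Finite σ] (A : Type*) [CommRing A] (d1 d2 : ℕ) :
    MvPolynomial σ (MvPolynomial (Var σ d1 d2) A) := gen (box σ d2) Sum.inr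

/-- the defect of the generic factorisation -/
noncomputable def E : MvPolynomial σ (MvPolynomial (Var σ d1 d2) A) :=
  G1 σ A d1 d2 * G2 σ A d1 d2 - map (C : A →+* MvPolynomial (Var σ d1 d2) A) P

/-- the ideal of the scheme of factorisations -/
noncomputable def J : Ideal (MvPolynomial (Var σ d1 d2) A) :=
  Ideal.span (Set.range fun m => coeff m (E P d1 d2))

/-- the coordinate ring of the scheme of factorisations -/
def RT : Type _ := MvPolynomial (Var σ d1 d2) A ⧸ J P d1 d2

noncomputable instance : CommRing (RT P d1 d2) :=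
  inferInstanceAs (CommRing (MvPolynomial (Var σ d1 d2) A ⧸ J P d1 d2))

noncomputable instance : Algebra A (RT P d1 d2) :=
  inferInstanceAs (Algebra A (MvPolynomial (Var σ d1 d2) A ⧸ J P d1 d2))

/-- the projection to the factorisation ring -/
noncomputable def toRT : MvPolynomial (Var σ d1 d2) A →ₐ[A] RT P d1 d2 :=
  Ideal.Quotient.mkₐ A (J P d1 d2)

theorem toRT_surjective : Function.Surjective (toRT P d1 d2) :=
  Ideal.Quotient.mkₐ_surjective A _

theorem toRT_eq_zero_iff (x : MvPolynomial (Var σ d1 d2) A) :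
    toRT P d1 d2 x = 0 ↔ x ∈ J P d1 d2 :=
  Ideal.Quotient.eq_zero_iff_mem

theorem map_mul_eq {κ : Type*} [CommRing κ] (ψ : MvPolynomial (Var σ d1 d2) A →+* κ)
    (hψ : J P d1 d2 ≤ RingHom.ker ψ) :
    map ψ (G1 σ A d1 d2) * map ψ (G2 σ A d1 d2) = map (ψ.comp C) P := by
  have h0 : map ψ (E P d1 d2) = 0 := by
    ext m
    rw [coeff_map, coeff_zero]
    exact RingHom.mem_ker.mp (hψ (Ideal.subset_span ⟨m, rfl⟩))
  rw [E, map_sub, map_mul, MvPolynomial.map_map, sub_eq_zero] at h0
  exact h0

theorem exists_hom_of_factor {κ : Type*} [CommRing κ] (φ : A →+* κ) (g1 g2 : MvPolynomial σ κ)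
    (h1 : g1.totalDegree ≤ d1) (h2 : g2.totalDegree ≤ d2) (h : g1 * g2 = map φ P) :
    ∃ ψ : MvPolynomial (Var σ d1 d2) A →+* κ, ψ.comp C = φ ∧ J P d1 d2 ≤ RingHom.ker ψ := by
  let v : Var σ d1 d2 → κ := Sum.elim (fun m => coeff m.1 g1) (fun m => coeff m.1 g2)
  let ψ : MvPolynomial (Var σ d1 d2) A →+* κ := eval₂Hom φ v
  have hC : ψ.comp C = φ := by
    ext a
    simp [ψ]
  have e1 : map ψ (G1 σ A d1 d2) = g1 := by
    rw [G1, map_gen]
    have : ∀ m : {m // m ∈ box σ d1}, ψ (X (Sum.inl m)) = coeff m.1 g1 := fun m => by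
      simp [ψ, v]
    simp only [this]
    exact sum_monomial_coeff_eq _ g1 (support_subset_box g1 h1)
  have e2 : map ψ (G2 σ A d1 d2) = g2 := by
    rw [G2, map_gen]
    have : ∀ m : {m // m ∈ box σ d2}, ψ (X (Sum.inr m)) = coeff m.1 g2 := fun m => by
      simp [ψ, v]
    simp only [this]
    exact sum_monomial_coeff_eq _ g2 (support_subset_box g2 h2)
  refine ⟨ψ, hC, ?_⟩
  rw [J, Ideal.span_le]
  rintro _ ⟨m, rfl⟩
  show ψ (coeff m (E P d1 d2)) = 0
  rw [← coeff_map, E, map_sub, map_mul, MvPolynomial.map_map, e1, e2, hC, h, sub_self, coeff_zero]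

end Factor

section Generic

variable {σ : Type w} [Finite σ] {A : Type u} [CommRing A] [IsDomain A] (P : MvPolynomial σ A)
  (d1 d2 : ℕ)

attribute [local instance] FractionRing.liftAlgebra

theorem totalDegree_map_of_injective' {R S : Type*} [CommRing R] [CommRing S] (φ : R →+* S)
    (hφ : Function.Injective φ) (p : MvPolynomial σ R) :
    (map φ p).totalDegree = p.totalDegree := by
  simp only [totalDegree, support_map_of_injective _ hφ]

theorem exists_mem_J (L : Type u) [Field L] [IsAlgClosed L] [Algebra A L] [FaithfulSMul A L]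
    (hP : Irreducible (map (algebraMap A L) P)) (hd : d1 + d2 = P.totalDegree) (h1 : 0 < d1)
    (h2 : 0 < d2) :
    ∃ f : A, f ≠ 0 ∧ (C f : MvPolynomial (Var σ d1 d2) A) ∈ J P d1 d2 := by
  classical
  haveI : Algebra.FiniteType A (RT P d1 d2) :=
    Algebra.FiniteType.of_surjective (toRT P d1 d2) (toRT_surjective P d1 d2)
  by_cases hnt : Nontrivial (FractionRing A ⊗[A] RT P d1 d2)
  · exfalso
    obtain ⟨𝔪, h𝔪⟩ := Ideal.exists_maximal (FractionRing A ⊗[A] RT P d1 d2)
    letI : Field ((FractionRing A ⊗[A] RT P d1 d2) ⧸ 𝔪) := Ideal.Quotient.field 𝔪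
    haveI : Algebra.FiniteType (FractionRing A) ((FractionRing A ⊗[A] RT P d1 d2) ⧸ 𝔪) :=
      Algebra.FiniteType.of_surjective (Ideal.Quotient.mkₐ (FractionRing A) 𝔪)
        (Ideal.Quotient.mkₐ_surjective (FractionRing A) 𝔪)
    haveI : Module.Finite (FractionRing A) ((FractionRing A ⊗[A] RT P d1 d2) ⧸ 𝔪) :=
      finite_of_finite_type_of_isJacobsonRing (FractionRing A) _
    haveI : Algebra.IsAlgebraic (FractionRing A) ((FractionRing A ⊗[A] RT P d1 d2) ⧸ 𝔪) :=
      Algebra.IsAlgebraic.of_finite (FractionRing A) _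
    let lift : ((FractionRing A ⊗[A] RT P d1 d2) ⧸ 𝔪) →ₐ[FractionRing A] L := IsAlgClosed.lift
    let ψA : MvPolynomial (Var σ d1 d2) A →ₐ[A] L :=
      (lift.restrictScalars A).comp ((Ideal.Quotient.mkₐ A 𝔪).comp
        ((Algebra.TensorProduct.includeRight :
          RT P d1 d2 →ₐ[A] FractionRing A ⊗[A] RT P d1 d2).comp
          (toRT P d1 d2)))
    let ψ : MvPolynomial (Var σ d1 d2) A →+* L := ψA.toRingHom
    have hC : ψ.comp C = algebraMap A L := by
      ext a
      exact ψA.commutes a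
    have hJ : J P d1 d2 ≤ RingHom.ker ψ := by
      intro x hx
      rw [RingHom.mem_ker]
      show lift (Ideal.Quotient.mk 𝔪 ((1 : FractionRing A) ⊗ₜ[A] (toRT P d1 d2 x))) = 0
      rw [(toRT_eq_zero_iff P d1 d2 x).mpr hx, TensorProduct.tmul_zero, map_zero, map_zero]
    have key := map_mul_eq P d1 d2 ψ hJ
    rw [hC] at key
    have hd1 : (map ψ (G1 σ A d1 d2)).totalDegree ≤ d1 := totalDegree_map_gen_le d1 _ ψ
    have hd2 : (map ψ (G2 σ A d1 d2)).totalDegree ≤ d2 := totalDegree_map_gen_le d2 _ ψ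
    have hPL : (map (algebraMap A L) P).totalDegree = P.totalDegree :=
      totalDegree_map_of_injective' _ (FaithfulSMul.algebraMap_injective A L) P
    have hne : map ψ (G1 σ A d1 d2) * map ψ (G2 σ A d1 d2) ≠ 0 := by
      rw [key]; exact hP.ne_zero
    have hg1 := left_ne_zero_of_mul hne
    have hg2 := right_ne_zero_of_mul hne
    have htd : (map ψ (G1 σ A d1 d2)).totalDegree + (map ψ (G2 σ A d1 d2)).totalDegree
        = P.totalDegree := by
      rw [← totalDegree_mul_of_isDomain hg1 hg2, key, hPL]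
    rcases hP.isUnit_or_isUnit key.symm with hu | hu
    · have := ((isUnit_iff_totalDegree_of_isReduced).mp hu).2
      omega
    · have := ((isUnit_iff_totalDegree_of_isReduced).mp hu).2
      omega
  · rw [not_nontrivial_iff_subsingleton] at hnt
    have h0 : (TensorProduct.mk A (FractionRing A) (RT P d1 d2) 1) 1 = 0 := Subsingleton.elim _ _
    haveI : IsLocalizedModule (nonZeroDivisors A)
        (TensorProduct.mk A (FractionRing A) (RT P d1 d2) 1) :=
      (isLocalizedModule_iff_isBaseChange (nonZeroDivisors A) (FractionRing A) _).mpr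
        (TensorProduct.isBaseChange A (RT P d1 d2) (FractionRing A))
    obtain ⟨s, hs⟩ := (IsLocalizedModule.eq_zero_iff (nonZeroDivisors A)
      (TensorProduct.mk A (FractionRing A) (RT P d1 d2) 1)).mp h0
    refine ⟨s.1, nonZeroDivisors.coe_ne_zero s, ?_⟩
    rw [← toRT_eq_zero_iff]
    have h3 : (s.1 : A) • (1 : RT P d1 d2) = 0 := hs
    rw [Algebra.smul_def, mul_one] at h3
    rw [← MvPolynomial.algebraMap_eq, AlgHom.commutes]
    exact h3

end Generic

/-- **Bertini–Noether.** -/
theorem bertiniNoether {σ : Type w} [Finite σ] {A : Type u} [CommRing A] [IsDomain A]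
    (P : MvPolynomial σ A) (L : Type u) [Field L] [IsAlgClosed L] [Algebra A L] [FaithfulSMul A L]
    (hP : Irreducible (map (algebraMap A L) P)) :
    ∃ f : A, f ≠ 0 ∧ ∀ (κ : Type v) [Field κ] (φ : A →+* κ), φ f ≠ 0 →
      Irreducible (map φ P) := by
  classical
  have hPL : (map (algebraMap A L) P).totalDegree = P.totalDegree :=
    totalDegree_map_of_injective' _ (FaithfulSMul.algebraMap_injective A L) P
  have hconst : ∀ {κ : Type v} [Field κ] (g : MvPolynomial σ κ), g ≠ 0 → ¬ IsUnit g →
      0 < g.totalDegree := by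
    intro κ _ g hg0 hgu
    by_contra h
    have h' : g.totalDegree = 0 := by omega
    have hC := totalDegree_eq_zero_iff_eq_C.mp h'
    apply hgu
    rw [hC]
    refine (isUnit_iff_ne_zero.mpr fun hc => hg0 ?_).map C
    rw [hC, hc, C_0]
  have hD1 : 0 < P.totalDegree := by
    by_contra h
    have h' : (map (algebraMap A L) P).totalDegree = 0 := by omega
    have hC := totalDegree_eq_zero_iff_eq_C.mp h'
    apply hP.not_isUnit
    rw [hC]
    refine (isUnit_iff_ne_zero.mpr fun hc => hP.ne_zero ?_).map C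
    rw [hC, hc, C_0]
  have hPne : P ≠ 0 := fun h => hP.ne_zero (by rw [h, map_zero])
  obtain ⟨m₀, hm₀, hm₀D⟩ : ∃ m ∈ P.support, (m.sum fun _ k => k) = P.totalDegree := by
    have hsne : P.support.Nonempty :=
      Finset.nonempty_iff_ne_empty.mpr fun h => hPne (support_eq_empty.mp h)
    obtain ⟨m, hm, h⟩ := Finset.exists_mem_eq_sup P.support hsne (fun s => s.sum fun _ e => e)
    exact ⟨m, hm, h.symm⟩
  have hc₀ : coeff m₀ P ≠ 0 := mem_support_iff.mp hm₀
  have hpair : ∀ d1 : ℕ, 0 < d1 → d1 < P.totalDegree →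
      ∃ f : A, f ≠ 0 ∧ (C f : MvPolynomial (Var σ d1 (P.totalDegree - d1)) A) ∈
        J P d1 (P.totalDegree - d1) := fun d1 h1 h2 =>
    exists_mem_J P d1 (P.totalDegree - d1) L hP (by omega) h1 (by omega)
  choose! F hF0 hFJ using hpair
  refine ⟨coeff m₀ P * ∏ d1 ∈ Finset.Ioo 0 P.totalDegree, F d1, ?_, ?_⟩
  · refine mul_ne_zero hc₀ (Finset.prod_ne_zero_iff.mpr fun d1 hd1 => ?_)
    rw [Finset.mem_Ioo] at hd1
    exact hF0 d1 hd1.1 hd1.2
  · intro κ _ φ hφ
    rw [map_mul, map_prod] at hφ
    have hφc : φ (coeff m₀ P) ≠ 0 := left_ne_zero_of_mul hφ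
    have hφF : ∀ d1 ∈ Finset.Ioo 0 P.totalDegree, φ (F d1) ≠ 0 := fun d1 hd1 =>
      (Finset.prod_ne_zero_iff.mp (right_ne_zero_of_mul hφ)) d1 hd1
    have htd : (map φ P).totalDegree = P.totalDegree := by
      apply le_antisymm
      · exact Finset.sup_mono (support_map_subset _ _)
      · have : m₀ ∈ (map φ P).support := by
          rw [mem_support_iff, coeff_map]; exact hφc
        exact hm₀D ▸ le_totalDegree this
    have hne : map φ P ≠ 0 := fun h => by
      rw [h, totalDegree_zero] at htd; omega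
    rw [irreducible_iff]
    refine ⟨?_, ?_⟩
    · intro hu
      have := ((isUnit_iff_totalDegree_of_isReduced).mp hu).2
      omega
    · intro g1 g2 hg
      by_contra hcon
      push Not at hcon
      obtain ⟨hu1, hu2⟩ := hcon
      have hne' : g1 * g2 ≠ 0 := hg ▸ hne
      have hg1 := left_ne_zero_of_mul hne'
      have hg2 := right_ne_zero_of_mul hne'
      have hadd : g1.totalDegree + g2.totalDegree = P.totalDegree := by
        rw [← totalDegree_mul_of_isDomain hg1 hg2, ← hg, htd]
      have p1 := hconst g1 hg1 hu1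
      have p2 := hconst g2 hg2 hu2
      obtain ⟨ψ, hψC, hψJ⟩ := exists_hom_of_factor P g1.totalDegree
        (P.totalDegree - g1.totalDegree) φ g1 g2 le_rfl (by omega) hg.symm
      have hmem := hFJ g1.totalDegree p1 (by omega)
      have h0 : ψ (C (F g1.totalDegree)) = 0 := RingHom.mem_ker.mp (hψJ hmem)
      have h1 : φ (F g1.totalDegree) = 0 := by
        rw [← hψC]; exact h0
      exact hφF _ (Finset.mem_Ioo.mpr ⟨p1, by omega⟩) h1

end Groth.Agent.H1.GIrrBN
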