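import Mathlib

/-!
# Hypersurface models of finitely generated field extensions (helper1)
-/

set_option autoImplicit false
universe u

open scoped IntermediateField

namespace Groth.Agent.H1.GIrr

/-- clearing denominators of a multivariate polynomial over a fraction field. -/
theorem exists_clear_denominators (A K : Type*) [CommRing A] [IsDomain A] [Field K] [Algebra A K]
    [IsFractionRing A K] {σ : Type*} (P : MvPolynomial σ K) :
    ∃ (d : A) (Q : MvPolynomial σ A), d ≠ 0 ∧
      MvPolynomial.map (algebraMap A K) Q = MvPolynomial.C (algebraMap A K d) * P := by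
  induction P using MvPolynomial.induction_on with
  | C k =>
    obtain ⟨n, d, hd, rfl⟩ := IsFractionRing.div_surjective A k
    have hd0 : algebraMap A K d ≠ 0 := by
      intro h0
      exact nonZeroDivisors.ne_zero hd ((IsFractionRing.injective A K) (by rw [h0, map_zero]))
    refine ⟨d, MvPolynomial.C n, nonZeroDivisors.ne_zero hd, ?_⟩
    rw [MvPolynomial.map_C, ← MvPolynomial.C_mul]
    congr 1
    rw [mul_div_cancel₀ _ hd0]
  | add p q hp hq =>
    obtain ⟨d₁, Q₁, h₁, e₁⟩ := hp
    obtain ⟨d₂, Q₂, h₂, e₂⟩ := hq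
    refine ⟨d₁ * d₂, MvPolynomial.C d₂ * Q₁ + MvPolynomial.C d₁ * Q₂, mul_ne_zero h₁ h₂, ?_⟩
    rw [map_add, map_mul, map_mul, MvPolynomial.map_C, MvPolynomial.map_C, e₁, e₂, map_mul,
      MvPolynomial.C_mul]
    ring
  | mul_X p i hp =>
    obtain ⟨d, Q, h, e⟩ := hp
    exact ⟨d, Q * MvPolynomial.X i, h, by rw [map_mul, MvPolynomial.map_X, e, mul_assoc]⟩

set_option maxHeartbeats 1000000 in
/-- a finitely generated extension of a perfect field is the function field of a hypersurface. -/
theorem exists_hypersurface (K M : Type u) [Field K] [PerfectField K] [Field M] [Algebra K M]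
    [Algebra.EssFiniteType K M] :
    ∃ (s : Finset M) (P : MvPolynomial (Option s) K) (v : Option s → M),
      Prime P ∧
      RingHom.ker (MvPolynomial.aeval v : MvPolynomial (Option s) K →ₐ[K] M) = Ideal.span {P} ∧
      IntermediateField.adjoin K (Set.range v) = ⊤ := by
  classical
  obtain ⟨s, hs, hsep⟩ := exists_isTranscendenceBasis_and_isSeparable_of_perfectField K M
  have hx : AlgebraicIndependent K ((↑) : s → M) := hs.1
  have hrange : Set.range ((↑) : s → M) = (s : Set M) := Subtype.range_coe
  haveI : Algebra.IsSeparable (IntermediateField.adjoin K (s : Set M)) M := hsep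
  haveI : Algebra.EssFiniteType (IntermediateField.adjoin K (s : Set M)) M :=
    Algebra.EssFiniteType.of_comp K _ M
  haveI : Algebra.IsAlgebraic (IntermediateField.adjoin K (s : Set M)) M :=
    Algebra.IsSeparable.isAlgebraic _ _
  haveI : Module.Finite (IntermediateField.adjoin K (s : Set M)) M :=
    Algebra.finite_of_essFiniteType_of_isAlgebraic
  obtain ⟨θ₀, hθ₀⟩ := Field.exists_primitive_element (IntermediateField.adjoin K (s : Set M)) M
  haveI : Algebra.IsAlgebraic (Algebra.adjoin K (Set.range ((↑) : s → M))) M := hs.isAlgebraic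
  haveI : IsIntegrallyClosed (Algebra.adjoin K (Set.range ((↑) : s → M))) :=
    IsIntegrallyClosed.of_equiv hx.aevalEquiv.toRingEquiv
  obtain ⟨y, hy0, hint⟩ := (Algebra.IsAlgebraic.isAlgebraic
    (R := Algebra.adjoin K (Set.range ((↑) : s → M))) θ₀).exists_integral_multiple
  obtain ⟨θ, hθ⟩ : ∃ θ : M, θ = y • θ₀ := ⟨_, rfl⟩
  rw [← hθ] at hint
  have hprime : Prime (minpoly (Algebra.adjoin K (Set.range ((↑) : s → M))) θ) :=
    minpoly.prime_of_isIntegrallyClosed hint
  have hE := hx.aeval_comp_mvPolynomialOptionEquivPolynomialAdjoin θ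
  refine ⟨s, hx.mvPolynomialOptionEquivPolynomialAdjoin.symm
    (minpoly (Algebra.adjoin K (Set.range ((↑) : s → M))) θ),
    fun o => o.elim θ ((↑) : s → M), ?_, ?_, ?_⟩
  · exact (MulEquiv.prime_iff hx.mvPolynomialOptionEquivPolynomialAdjoin.symm).mpr hprime
  · ext G
    rw [RingHom.mem_ker, Ideal.mem_span_singleton]
    have h1 : (MvPolynomial.aeval (fun o : Option s => o.elim θ ((↑) : s → M))) G =
        (Polynomial.aeval θ) (hx.mvPolynomialOptionEquivPolynomialAdjoin G) := by
      have := RingHom.congr_fun hE G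
      exact this.symm
    rw [h1, minpoly.isIntegrallyClosed_dvd_iff hint]
    constructor
    · rintro ⟨c, hc⟩
      refine ⟨hx.mvPolynomialOptionEquivPolynomialAdjoin.symm c, ?_⟩
      rw [← map_mul, ← hc, RingEquiv.symm_apply_apply]
    · rintro ⟨c, hc⟩
      refine ⟨hx.mvPolynomialOptionEquivPolynomialAdjoin c, ?_⟩
      rw [hc, map_mul, RingEquiv.apply_symm_apply]
  · have hsub : ∀ i : s, (i : M) ∈ IntermediateField.adjoin K
        (Set.range (fun o : Option s => o.elim θ ((↑) : s → M))) :=
      fun i => IntermediateField.subset_adjoin K _ ⟨some i, rfl⟩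
    have hθmem : θ ∈ IntermediateField.adjoin K
        (Set.range (fun o : Option s => o.elim θ ((↑) : s → M))) :=
      IntermediateField.subset_adjoin K _ ⟨none, rfl⟩
    have hymem : (y : M) ∈ IntermediateField.adjoin K
        (Set.range (fun o : Option s => o.elim θ ((↑) : s → M))) := by
      have hle : Algebra.adjoin K (Set.range ((↑) : s → M)) ≤
          (IntermediateField.adjoin K
            (Set.range (fun o : Option s => o.elim θ ((↑) : s → M)))).toSubalgebra := by
        apply Algebra.adjoin_le
        rintro _ ⟨i, rfl⟩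
        exact hsub i
      exact hle y.2
    have hyM : (y : M) ≠ 0 := fun h => hy0 (Subtype.ext h)
    have hθ₀mem : θ₀ ∈ IntermediateField.adjoin K
        (Set.range (fun o : Option s => o.elim θ ((↑) : s → M))) := by
      have : θ₀ = (y : M)⁻¹ * θ := by
        rw [hθ, Subalgebra.smul_def, smul_eq_mul, ← mul_assoc, inv_mul_cancel₀ hyM, one_mul]
      rw [this]
      exact mul_mem (inv_mem hymem) hθmem
    have h3 : (IntermediateField.adjoin (IntermediateField.adjoin K (s : Set M))
        ({θ₀} : Set M)).restrictScalars K = IntermediateField.adjoin K ((s : Set M) ∪ {θ₀}) :=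
      IntermediateField.adjoin_adjoin_left K _ _
    rw [hθ₀] at h3
    rw [eq_top_iff]
    intro z _
    have hz : z ∈ (⊤ : IntermediateField (IntermediateField.adjoin K (s : Set M))
        M).restrictScalars K := IntermediateField.mem_top
    rw [h3] at hz
    refine (IntermediateField.adjoin_le_iff.mpr ?_) hz
    rintro w (hw | hw)
    · exact hsub ⟨w, hw⟩
    · rw [Set.mem_singleton_iff.mp hw]; exact hθ₀mem

end Groth.Agent.H1.GIrr
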