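import Mathlib
import Groth.Agent.Lib.Helper1.GIrrA
import Groth.Agent.Lib.Helper1.GIrrB
import Groth.Agent.Lib.Helper1.GIrrC
import Groth.Agent.Lib.Helper1.GIrrBN

/-!
# Spreading out irreducibility of the geometric generic fibre: ring level (helper1)

`spread_of_np`: `A` a domain whose fraction field `K` is algebraically closed, `B` a finite type
`A`-algebra with `Spec (K ⊗ B)` irreducible; then `Spec (Ω ⊗[A] B)` is irreducible for all fields
`Ω` over a nonempty basic open of `Spec A`.
-/

set_option autoImplicit false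
set_option linter.style.haveILetI false
universe u

open TensorProduct

namespace Groth.Agent.H1.GIrr

theorem NP.of_surjective_of_isPrime_ker {R S : Type*} [CommRing R] [CommRing S] (f : R →+* S)
    (hf : Function.Surjective f) [hk : (RingHom.ker f).IsPrime] : NP S := by
  have hbot : (⊥ : Ideal S).IsPrime := by
    have h1 := Ideal.map_isPrime_of_surjective hf (le_refl (RingHom.ker f))
    rwa [(Ideal.map_eq_bot_iff_le_ker f).mpr le_rfl] at h1
  unfold NP
  have : nilradical S = ⊥ := by
    apply le_antisymm _ bot_le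
    intro x hx
    obtain ⟨n, hn⟩ := mem_nilradical.mp hx
    exact hbot.mem_of_pow_mem n (by rw [hn]; exact zero_mem _)
  rw [this]
  exact hbot

/-- fibres of a hypersurface with irreducible fibre equation are integral. -/
theorem np_tensor_hypersurface {A : Type u} [CommRing A] {σ : Type u} (P : MvPolynomial σ A)
    (Ω : Type u) [Field Ω] [Algebra A Ω]
    (hirr : Irreducible (MvPolynomial.map (algebraMap A Ω) P)) :
    NP (Ω ⊗[A] (MvPolynomial σ A ⧸ Ideal.span {P})) := by
  let q : MvPolynomial σ A →ₐ[A] (MvPolynomial σ A ⧸ Ideal.span {P}) := Ideal.Quotient.mkₐ A _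
  have hq : Function.Surjective q := Ideal.Quotient.mkₐ_surjective A _
  let F : Ω ⊗[A] MvPolynomial σ A →ₐ[A] Ω ⊗[A] (MvPolynomial σ A ⧸ Ideal.span {P}) :=
    Algebra.TensorProduct.map (AlgHom.id A Ω) q
  have hF : Function.Surjective F.toRingHom :=
    Algebra.TensorProduct.map_surjective _ _ (fun x => ⟨x, rfl⟩) hq
  have hkerF : RingHom.ker F.toRingHom = (Ideal.span {P}).map
      (Algebra.TensorProduct.includeRight : MvPolynomial σ A →ₐ[A] Ω ⊗[A] MvPolynomial σ A) := by
    have h0 := Algebra.TensorProduct.lTensor_ker (A := Ω) q hq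
    have hkq : RingHom.ker q = Ideal.span {P} := by
      ext x
      rw [RingHom.mem_ker]
      exact Ideal.Quotient.eq_zero_iff_mem
    rw [hkq] at h0
    exact h0
  let e := MvPolynomial.algebraTensorAlgEquiv (σ := σ) A Ω
  have he : e ((1 : Ω) ⊗ₜ[A] P) = MvPolynomial.map (algebraMap A Ω) P := by
    rw [MvPolynomial.algebraTensorAlgEquiv_tmul, one_smul]
  haveI hprime : (Ideal.span {MvPolynomial.map (algebraMap A Ω) P}).IsPrime :=
    (Ideal.span_singleton_prime hirr.ne_zero).mpr hirr.prime
  have hker' : RingHom.ker F.toRingHom =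
      Ideal.comap e (Ideal.span {MvPolynomial.map (algebraMap A Ω) P}) := by
    rw [hkerF, Ideal.map_span, Set.image_singleton]
    ext y
    rw [Ideal.mem_comap, Ideal.mem_span_singleton, Ideal.mem_span_singleton, ← he,
      Algebra.TensorProduct.includeRight_apply]
    constructor
    · rintro ⟨c, hc⟩
      exact ⟨e c, by rw [hc, map_mul]⟩
    · rintro ⟨c, hc⟩
      refine ⟨e.symm c, ?_⟩
      apply e.injective
      rw [map_mul, AlgEquiv.apply_symm_apply]
      exact hc
  haveI hkp : (RingHom.ker F.toRingHom).IsPrime := by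
    rw [hker']
    exact Ideal.comap_isPrime _ _
  exact NP.of_surjective_of_isPrime_ker F.toRingHom hF

set_option maxHeartbeats 2000000 in
/-- (R', auxiliary form with a chosen fraction field of `B`) -/
theorem spread_of_isDomain_aux (A K B M : Type u) [CommRing A] [IsDomain A] [Field K] [Algebra A K]
    [IsFractionRing A K] [IsAlgClosed K] [CommRing B] [IsDomain B] [Algebra A B]
    [Algebra.FiniteType A B] [Field M] [Algebra A M] [Algebra K M] [IsScalarTower A K M]
    [Algebra B M] [IsScalarTower A B M] [IsFractionRing B M] [Algebra.EssFiniteType K M] :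
    Spread A B := by
  classical
  have hAM : Function.Injective (algebraMap A M) := by
    rw [IsScalarTower.algebraMap_eq A K M]
    exact (algebraMap K M).injective.comp (IsFractionRing.injective A K)
  have hAK : ∀ t : A, t ≠ 0 → algebraMap K M (algebraMap A K t) ≠ 0 := by
    intro t ht h0
    rw [← IsScalarTower.algebraMap_apply A K M] at h0
    exact ht (hAM (by rw [h0, map_zero]))
  obtain ⟨s, P', v, hprime, hker, hadj⟩ := exists_hypersurface K M
  obtain ⟨d, P, hd, hP⟩ := exists_clear_denominators A K P'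
  have hdK : algebraMap A K d ≠ 0 :=
    fun h0 => hd ((IsFractionRing.injective A K) (by rw [h0, map_zero]))
  have hirrK : Irreducible (MvPolynomial.map (algebraMap A K) P) := by
    rw [hP]
    exact (irreducible_isUnit_mul ((IsUnit.mk0 _ hdK).map MvPolynomial.C)).mpr hprime.irreducible
  obtain ⟨f, hf0, hBN⟩ := Groth.Agent.H1.GIrrBN.bertiniNoether P K hirrK
  have hFibH : Fib A (MvPolynomial (Option s) A ⧸ Ideal.span {P}) f := fun Ω _ _ hΩ =>
    np_tensor_hypersurface P Ω (hBN Ω (algebraMap A Ω) hΩ)
  -- the map to `M`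
  let ψ : MvPolynomial (Option s) A →ₐ[A] M := MvPolynomial.aeval v
  have hψK : ∀ G : MvPolynomial (Option s) A,
      ψ G = MvPolynomial.aeval v (MvPolynomial.map (algebraMap A K) G) :=
    fun G => (MvPolynomial.aeval_map_algebraMap K v G).symm
  have hP'0 : (MvPolynomial.aeval v : MvPolynomial (Option s) K →ₐ[K] M) P' = 0 := by
    have : P' ∈ RingHom.ker (MvPolynomial.aeval v : MvPolynomial (Option s) K →ₐ[K] M) := by
      rw [hker]; exact Ideal.mem_span_singleton_self P'
    exact this
  have hψP : ψ P = 0 := by rw [hψK, hP, map_mul, hP'0, mul_zero]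
  let ψbar : (MvPolynomial (Option s) A ⧸ Ideal.span {P}) →ₐ[A] M :=
    Ideal.Quotient.liftₐ (Ideal.span {P}) ψ (by
      intro a ha
      obtain ⟨c, rfl⟩ := Ideal.mem_span_singleton.mp ha
      rw [map_mul, hψP, zero_mul])
  have hψbar : ∀ G, ψbar (Ideal.Quotient.mk _ G) = ψ G := fun G => rfl
  have hkerπ : ∀ x, ψbar.rangeRestrict x = 0 → ∃ n : ℕ, ∃ t : A, t ≠ 0 ∧ t • x ^ n = 0 := by
    intro x hx
    obtain ⟨G, rfl⟩ := Ideal.Quotient.mk_surjective x
    have h0 : ψ G = 0 := congrArg Subtype.val hx
    rw [hψK] at h0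
    have hmem : MvPolynomial.map (algebraMap A K) G ∈ Ideal.span {P'} := by
      rw [← hker]; exact h0
    obtain ⟨Q', hQ'⟩ := Ideal.mem_span_singleton.mp hmem
    obtain ⟨e, Q, he, hQ⟩ := exists_clear_denominators A K Q'
    refine ⟨1, d * e, mul_ne_zero hd he, ?_⟩
    rw [pow_one]
    have h1 : (d * e) • G = P * Q := by
      apply MvPolynomial.map_injective _ (IsFractionRing.injective A K)
      rw [MvPolynomial.smul_eq_C_mul, map_mul, MvPolynomial.map_C, map_mul (MvPolynomial.map _) P Q,
        hP, hQ, hQ', map_mul, MvPolynomial.C_mul]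
      ring
    change (d * e) • (Ideal.Quotient.mkₐ A (Ideal.span {P}) G) = 0
    rw [← map_smul, h1]
    exact Ideal.Quotient.eq_zero_iff_mem.mpr (Ideal.mem_span_singleton.mpr ⟨Q, rfl⟩)
  haveI : Algebra.FiniteType A (MvPolynomial (Option s) A ⧸ Ideal.span {P}) :=
    Algebra.FiniteType.of_surjective (Ideal.Quotient.mkₐ A _) (Ideal.Quotient.mkₐ_surjective A _)
  have hSpreadH : Spread A ψbar.range :=
    (Spread.iff_of_surjective ψbar.rangeRestrict ψbar.rangeRestrict_surjective hkerπ).mp
      ⟨f, hf0, hFibH⟩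
  -- birational comparison
  let φ : B →ₐ[A] M := IsScalarTower.toAlgHom A B M
  have hφ : Function.Injective φ := IsFractionRing.injective B M
  have hψ' : Function.Injective ψbar.range.val := Subtype.val_injective
  have hB : φ.range.FG := by
    rw [← Algebra.map_top]
    exact (Algebra.FiniteType.out (R := A) (A := B)).map φ
  have hHfg : ψbar.range.FG := by
    rw [← Algebra.map_top]
    exact (Algebra.FiniteType.out (R := A)
      (A := MvPolynomial (Option s) A ⧸ Ideal.span {P})).map ψbar
  have hH : ψbar.range.val.range.FG := by rw [Subalgebra.range_val]; exact hHfg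
  have fB : ∀ x : M, ∃ q ∈ φ.range, q ≠ 0 ∧ q * x ∈ φ.range := by
    intro x
    obtain ⟨⟨p, q⟩, hpq⟩ := IsLocalization.surj (nonZeroDivisors B) x
    refine ⟨algebraMap B M q, ⟨q, rfl⟩, ?_, ⟨p, ?_⟩⟩
    · exact (map_ne_zero_iff _ (IsFractionRing.injective B M)).mpr (nonZeroDivisors.ne_zero q.2)
    · rw [mul_comm]; exact hpq.symm
  have fH : ∀ x : M, ∃ q ∈ ψbar.range.val.range, q ≠ 0 ∧ q * x ∈ ψbar.range.val.range := by
    intro x
    rw [Subalgebra.range_val]
    by_cases hx0 : x = 0
    · exact ⟨1, one_mem _, one_ne_zero, by rw [hx0, mul_zero]; exact zero_mem _⟩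
    have hx : x ∈ IntermediateField.adjoin K (Set.range v) := by rw [hadj]; trivial
    obtain ⟨r, hr, t, ht, hxrt⟩ := IntermediateField.mem_adjoin_iff_div.mp hx
    rw [Algebra.adjoin_range_eq_range_aeval] at hr ht
    obtain ⟨R', rfl⟩ := hr
    obtain ⟨T', rfl⟩ := ht
    have hxrt' : x = (MvPolynomial.aeval v : MvPolynomial (Option s) K →ₐ[K] M) R' /
        (MvPolynomial.aeval v : MvPolynomial (Option s) K →ₐ[K] M) T' := hxrt
    have ht0 : (MvPolynomial.aeval v : MvPolynomial (Option s) K →ₐ[K] M) T' ≠ 0 := by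
      intro h0
      apply hx0
      rw [hxrt', h0, div_zero]
    obtain ⟨d₁, R₁, hd₁, hR₁⟩ := exists_clear_denominators A K R'
    obtain ⟨d₂, T₁, hd₂, hT₁⟩ := exists_clear_denominators A K T'
    have hq : ψ (MvPolynomial.C d₁ * T₁) = algebraMap K M (algebraMap A K d₁) *
        (algebraMap K M (algebraMap A K d₂) *
          (MvPolynomial.aeval v : MvPolynomial (Option s) K →ₐ[K] M) T') := by
      rw [hψK, map_mul, MvPolynomial.map_C, hT₁, map_mul, map_mul, MvPolynomial.aeval_C,
        MvPolynomial.aeval_C]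
    have hqx : ψ (MvPolynomial.C d₂ * R₁) = algebraMap K M (algebraMap A K d₂) *
        (algebraMap K M (algebraMap A K d₁) *
          (MvPolynomial.aeval v : MvPolynomial (Option s) K →ₐ[K] M) R') := by
      rw [hψK, map_mul, MvPolynomial.map_C, hR₁, map_mul, map_mul, MvPolynomial.aeval_C,
        MvPolynomial.aeval_C]
    refine ⟨ψ (MvPolynomial.C d₁ * T₁), ⟨Ideal.Quotient.mk _ (MvPolynomial.C d₁ * T₁), hψbar _⟩,
      ?_, ⟨Ideal.Quotient.mk _ (MvPolynomial.C d₂ * R₁), ?_⟩⟩
    · rw [hq]
      exact mul_ne_zero (hAK d₁ hd₁) (mul_ne_zero (hAK d₂ hd₂) ht0)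
    · change ψbar (Ideal.Quotient.mk _ (MvPolynomial.C d₂ * R₁)) = _
      rw [hψbar, hqx, hq, hxrt']
      field_simp
  obtain ⟨b, h, hb0, hh0, ⟨eqv⟩⟩ :=
    exists_away_algEquiv φ ψbar.range.val hφ hψ' hB hH fB fH
  haveI : Algebra.FiniteType A ψbar.range := (Subalgebra.fg_iff_finiteType _).mp hHfg
  have hinjH : Function.Injective (algebraMap A (Localization.Away h)) := by
    intro x y hxy
    have h1 := congrArg (awayLift ψbar.range.val h hh0) hxy
    rw [AlgHom.commutes, AlgHom.commutes] at h1
    exact hAM h1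
  have h1 : Spread A (Localization.Away h) := hSpreadH.away h hinjH
  have h2 : Spread A (Localization.Away b) := h1.of_algEquiv eqv.symm
  exact Spread.of_away b hb0 h2

/-- (R') over a domain with algebraically closed fraction field, a finite type domain with nonempty
generic fibre has geometrically irreducible fibres over a nonempty open. -/
theorem spread_of_isDomain (A K : Type u) [CommRing A] [IsDomain A] [Field K] [Algebra A K]
    [IsFractionRing A K] [IsAlgClosed K] (B : Type u) [CommRing B] [IsDomain B] [Algebra A B]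
    [Algebra.FiniteType A B] (hinj : Function.Injective (algebraMap A B)) : Spread A B := by
  have hinjM : Function.Injective (algebraMap A (FractionRing B)) := by
    rw [IsScalarTower.algebraMap_eq A B (FractionRing B)]
    exact (IsFractionRing.injective B (FractionRing B)).comp hinj
  letI algKM : Algebra K (FractionRing B) := (IsFractionRing.lift (K := K) hinjM).toAlgebra
  haveI : IsScalarTower A K (FractionRing B) := IsScalarTower.of_algebraMap_eq
    (fun x => (IsFractionRing.lift_algebraMap hinjM x).symm)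
  haveI : Algebra.EssFiniteType B (FractionRing B) :=
    Algebra.EssFiniteType.of_isLocalization _ (nonZeroDivisors B)
  haveI : Algebra.EssFiniteType A (FractionRing B) :=
    Algebra.EssFiniteType.comp A B (FractionRing B)
  haveI : Algebra.EssFiniteType K (FractionRing B) :=
    Algebra.EssFiniteType.of_comp A K (FractionRing B)
  exact spread_of_isDomain_aux A K B (FractionRing B)

/-- (RA) over a domain with algebraically closed fraction field `K`, a finite type algebra whose
generic fibre `K ⊗ B` has irreducible spectrum has irreducible fibres over a nonempty open. -/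
theorem spread_of_np (A K : Type u) [CommRing A] [IsDomain A] [Field K] [Algebra A K]
    [IsFractionRing A K] [IsAlgClosed K] (B : Type u) [CommRing B] [Algebra A B]
    [Algebra.FiniteType A B] (h : NP (K ⊗[A] B)) : Spread A B := by
  haveI := h.nontrivial
  haveI hnp : (nilradical (K ⊗[A] B)).IsPrime := h
  haveI h𝔫 : ((nilradical (K ⊗[A] B)).comap
      (Algebra.TensorProduct.includeRight : B →ₐ[A] K ⊗[A] B)).IsPrime :=
    Ideal.comap_isPrime _ _
  have hmem : ∀ x : B, x ∈ (nilradical (K ⊗[A] B)).comap
      (Algebra.TensorProduct.includeRight : B →ₐ[A] K ⊗[A] B) ↔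
      IsNilpotent ((1 : K) ⊗ₜ[A] x) := fun x => by
    rw [Ideal.mem_comap, mem_nilradical, Algebra.TensorProduct.includeRight_apply]
  have hinj : Function.Injective (algebraMap A (B ⧸ (nilradical (K ⊗[A] B)).comap
      (Algebra.TensorProduct.includeRight : B →ₐ[A] K ⊗[A] B))) := by
    rw [injective_iff_map_eq_zero]
    intro a ha
    by_contra ha0
    have h1 : algebraMap A B a ∈ (nilradical (K ⊗[A] B)).comap
        (Algebra.TensorProduct.includeRight : B →ₐ[A] K ⊗[A] B) := by
      rw [← Ideal.Quotient.eq_zero_iff_mem]; exact ha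
    rw [hmem] at h1
    have hK : algebraMap A K a ≠ 0 :=
      fun h0 => ha0 ((IsFractionRing.injective A K) (by rw [h0, map_zero]))
    have h2 : (1 : K) ⊗ₜ[A] (algebraMap A B a) = algebraMap K (K ⊗[A] B) (algebraMap A K a) := by
      rw [Algebra.TensorProduct.algebraMap_apply, Algebra.algebraMap_self_apply,
        Algebra.algebraMap_eq_smul_one, TensorProduct.tmul_smul, TensorProduct.smul_tmul',
        ← Algebra.algebraMap_eq_smul_one]
    rw [h2] at h1
    have hu : IsUnit (algebraMap K (K ⊗[A] B) (algebraMap A K a)) := (IsUnit.mk0 _ hK).map _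
    obtain ⟨n, hn⟩ := h1
    have := hu.pow n
    rw [hn] at this
    exact not_isUnit_zero this
  haveI : Algebra.FiniteType A (B ⧸ (nilradical (K ⊗[A] B)).comap
      (Algebra.TensorProduct.includeRight : B →ₐ[A] K ⊗[A] B)) :=
    Algebra.FiniteType.of_surjective (Ideal.Quotient.mkₐ A _) (Ideal.Quotient.mkₐ_surjective A _)
  have hS := spread_of_isDomain A K _ hinj
  refine (Spread.iff_of_surjective (Ideal.Quotient.mkₐ A _) (Ideal.Quotient.mkₐ_surjective A _)
    ?_).mpr hS
  intro x hx
  have hx' : x ∈ (nilradical (K ⊗[A] B)).comap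
      (Algebra.TensorProduct.includeRight : B →ₐ[A] K ⊗[A] B) :=
    Ideal.Quotient.eq_zero_iff_mem.mp hx
  rw [hmem] at hx'
  obtain ⟨n, hn⟩ := hx'
  rw [Algebra.TensorProduct.tmul_pow, one_pow] at hn
  obtain ⟨t, ht, htx⟩ := Groth.Agent.H1.GRedCore.exists_smul_eq_zero_of_tmul_eq_zero K
    (IsFractionRing.injective A K) (x ^ n) hn
  exact ⟨n, t, ht, htx⟩

end Groth.Agent.H1.GIrr
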