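import Mathlib
open CategoryTheory CategoryTheory.Limits AlgebraicGeometry Opposite
universe u
namespace Groth.Agent.H1.GeomFiber

/-- A property of schemes descends along flat surjective morphisms. -/
def DescFlatSurj (P : ObjectProperty Scheme.{u}) : Prop :=
  ∀ ⦃Z Z' : Scheme.{u}⦄ (p : Z' ⟶ Z) [Flat p] [Surjective p], P Z' → P Z

lemma surjective_SpecMap_field {M N : Type u} [Field M] [Field N] (a : CommRingCat.of M ⟶ CommRingCat.of N) :
    Surjective (Spec.map a) := by
  refine ⟨fun y => ?_⟩
  have hsub : Subsingleton (Spec (.of M)) := inferInstanceAs (Subsingleton (PrimeSpectrum M))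
  obtain ⟨x⟩ : Nonempty (Spec (.of N)) := inferInstanceAs (Nonempty (PrimeSpectrum N))
  exact ⟨x, Subsingleton.elim _ _⟩

set_option backward.isDefEq.respectTransparency.types false in
lemma geometrically_of_field_ext (P : ObjectProperty Scheme.{u}) [P.IsClosedUnderIsomorphisms]
    (hP : DescFlatSurj P) {K L : Type u} [Field K] [Field L]
    (φ : CommRingCat.of K ⟶ CommRingCat.of L) {Z Z' : Scheme.{u}} (fK : Z ⟶ Spec (.of K))
    (fL : Z' ⟶ Spec (.of L)) (p : Z' ⟶ Z) (sq : IsPullback p fL fK (Spec.map φ))
    (h : geometrically P fL) : geometrically P fK := by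
  rw [geometrically_iff_of_commRing_of_isClosedUnderIsomorphisms]
  intro M _ _
  algebraize [φ.hom]
  let T := TensorProduct K M L
  obtain ⟨m, hm⟩ := Ideal.exists_maximal T
  let _ : Field (T ⧸ m) := Ideal.Quotient.field m
  let a : CommRingCat.of M ⟶ CommRingCat.of (T ⧸ m) :=
    CommRingCat.ofHom ((Ideal.Quotient.mk m).comp (Algebra.TensorProduct.includeLeftRingHom))
  let b : CommRingCat.of L ⟶ CommRingCat.of (T ⧸ m) :=
    CommRingCat.ofHom ((Ideal.Quotient.mk m).comp (Algebra.TensorProduct.includeRight.toRingHom))
  have hab : CommRingCat.ofHom (algebraMap K M) ≫ a = φ ≫ b := by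
    ext k
    simp only [CommRingCat.hom_comp, CommRingCat.hom_ofHom, RingHom.comp_apply, a, b]
    congr 1
    change (algebraMap K M k) ⊗ₜ[K] (1 : L) = (1 : M) ⊗ₜ[K] (algebraMap K L k)
    rw [Algebra.algebraMap_eq_smul_one, Algebra.algebraMap_eq_smul_one, TensorProduct.smul_tmul]
  have hab' : Spec.map b ≫ Spec.map φ = Spec.map a ≫ Spec.map (CommRingCat.ofHom (algebraMap K M)) := by
    rw [← Spec.map_comp, ← Spec.map_comp, hab]
  have hW : P (pullback fL (Spec.map b)) := pullback_of_geometrically h _ _
  let q : pullback fL (Spec.map b) ⟶ pullback fK (Spec.map (CommRingCat.ofHom (algebraMap K M))) :=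
    pullback.lift (pullback.fst _ _ ≫ p) (pullback.snd _ _ ≫ Spec.map a) (by
      rw [Category.assoc, sq.w, ← Category.assoc, pullback.condition, Category.assoc, Category.assoc,
        hab'])
  have big : IsPullback (q ≫ pullback.fst fK (Spec.map (CommRingCat.ofHom (algebraMap K M))))
      (pullback.snd fL (Spec.map b)) fK
      (Spec.map a ≫ Spec.map (CommRingCat.ofHom (algebraMap K M))) := by
    have := (IsPullback.of_hasPullback fL (Spec.map b)).paste_horiz sq
    rw [hab'] at this
    convert this using 1
    exact pullback.lift_fst _ _ _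
  have hq : IsPullback q (pullback.snd fL (Spec.map b))
      (pullback.snd fK (Spec.map (CommRingCat.ofHom (algebraMap K M)))) (Spec.map a) :=
    IsPullback.of_right big (pullback.lift_snd _ _ _) (IsPullback.of_hasPullback _ _)
  have hsurj : Surjective (Spec.map a) := surjective_SpecMap_field a
  have hflat : Flat (Spec.map a) := inferInstance
  have : Flat q := MorphismProperty.of_isPullback hq.flip hflat
  have : Surjective q := MorphismProperty.of_isPullback hq.flip hsurj
  exact hP q hW

set_option backward.isDefEq.respectTransparency.types false in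
lemma fiber_isPullback {X Y X' Y' : Scheme.{u}} (f : X ⟶ Y) (g : Y' ⟶ Y) (f' : X' ⟶ Y') (g' : X' ⟶ X)
    (hc : IsPullback g' f' f g) (y' : Y') :
    ∃ r : f'.fiber y' ⟶ f.fiber (g y'), IsPullback r (f'.fiberToSpecResidueField y')
      (f.fiberToSpecResidueField (g y')) (Spec.map (g.residueFieldMap y')) := by
  have e : Spec.map (g.residueFieldMap y') ≫ Y.fromSpecResidueField (g y') =
      Y'.fromSpecResidueField y' ≫ g := Scheme.Hom.SpecMap_residueFieldMap_fromSpecResidueField g y'
  have cond : (f'.fiberι y' ≫ g') ≫ f =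
      (f'.fiberToSpecResidueField y' ≫ Spec.map (g.residueFieldMap y')) ≫
        Y.fromSpecResidueField (g y') := by
    rw [Category.assoc, hc.w, Scheme.Hom.fiber_fac_assoc, Category.assoc, e]
  let r : f'.fiber y' ⟶ f.fiber (g y') := pullback.lift _ _ cond
  refine ⟨r, ?_⟩
  have big : IsPullback (r ≫ f.fiberι (g y')) (f'.fiberToSpecResidueField y') f
      (Spec.map (g.residueFieldMap y') ≫ Y.fromSpecResidueField (g y')) := by
    have := (IsPullback.of_hasPullback f' (Y'.fromSpecResidueField y')).paste_horiz hc
    have hr1 : r ≫ f.fiberι (g y') = f'.fiberι y' ≫ g' :=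
      pullback.lift_fst (f := f) (g := Y.fromSpecResidueField (g y')) _ _ cond
    rw [e, hr1]
    exact this
  have hr2 : r ≫ f.fiberToSpecResidueField (g y') =
      f'.fiberToSpecResidueField y' ≫ Spec.map (g.residueFieldMap y') :=
    pullback.lift_snd (f := f) (g := Y.fromSpecResidueField (g y')) _ _ cond
  exact IsPullback.of_right big hr2 (IsPullback.of_hasPullback _ _)

set_option backward.isDefEq.respectTransparency.types false in
lemma fiber_iff (P : ObjectProperty Scheme.{u}) [P.IsClosedUnderIsomorphisms]
    (hP : DescFlatSurj P) {X Y X' Y' : Scheme.{u}} (f : X ⟶ Y) (g : Y' ⟶ Y) (f' : X' ⟶ Y')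
    (g' : X' ⟶ X) (hc : IsPullback g' f' f g) (y' : Y') :
    geometrically P (f'.fiberToSpecResidueField y') ↔
      geometrically P (f.fiberToSpecResidueField (g y')) := by
  obtain ⟨r, sq⟩ := fiber_isPullback f g f' g' hc y'
  constructor
  · intro h
    exact geometrically_of_field_ext P hP (K := Y.residueField (g y')) (L := Y'.residueField y')
      (g.residueFieldMap y') (f.fiberToSpecResidueField (g y')) (f'.fiberToSpecResidueField y') r sq h
  · intro h
    exact MorphismProperty.of_isPullback sq h

set_option backward.isDefEq.respectTransparency.types false in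
lemma stalkMap_injective {X Y : Scheme.{u}} (f : X ⟶ Y) [Flat f] (x : X) :
    Function.Injective (f.stalkMap x).hom := by
  algebraize [(f.stalkMap x).hom]
  have : Module.FaithfullyFlat (Y.presheaf.stalk (f x)) (X.presheaf.stalk x) :=
    @Module.FaithfullyFlat.of_flat_of_isLocalHom _ _ _ _ _ _ _
      (Flat.stalkMap f x) (f.toLRSHom.prop x)
  exact ‹RingHom.FaithfullyFlat _›.injective

lemma descFlatSurj_isReduced : DescFlatSurj (IsReduced : ObjectProperty Scheme.{u}) := by
  intro Z Z' p _ _ hZ'
  have : IsReduced Z' := hZ'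
  have : ∀ y : Z, _root_.IsReduced (Z.presheaf.stalk y) := by
    intro y
    obtain ⟨x, rfl⟩ := p.surjective y
    exact isReduced_of_injective (p.stalkMap x).hom (stalkMap_injective p x)
  exact isReduced_of_isReduced_stalk Z

lemma descFlatSurj_irreducibleSpace :
    DescFlatSurj ((IrreducibleSpace ·) : ObjectProperty Scheme.{u}) := by
  intro Z Z' p _ _ hZ'
  have : IrreducibleSpace Z' := hZ'
  have h1 : IsIrreducible (Set.univ : Set Z') := IrreducibleSpace.isIrreducible_univ _
  have h2 := h1.image p p.continuous.continuousOn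
  rw [Set.image_univ, p.surjective.range_eq] at h2
  exact (irreducibleSpace_def _).mpr h2

lemma descFlatSurj_connectedSpace :
    DescFlatSurj ((ConnectedSpace ·) : ObjectProperty Scheme.{u}) := by
  intro Z Z' p _ _ hZ'
  have : ConnectedSpace Z' := hZ'
  exact p.surjective.connectedSpace p.continuous

end Groth.Agent.H1.GeomFiber
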