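import Mathlib
import Groth.Agent.Lib.Helper1.GIrrD
import Groth.Agent.Lib.Helper1.GeomFiber
import Groth.Agent.Lib.Helper1.GenFib1
import Groth.Agent.Lib.Helper1.ConsFibP1

/-!
# Geometric irreducibility of fibres spreads out from the generic point: scheme level (helper1)
-/

set_option autoImplicit false
set_option linter.style.haveILetI false
universe u

open TensorProduct AlgebraicGeometry CategoryTheory CategoryTheory.Limits Topology

namespace Groth.Agent.H1.GIrr

/-- the locus of points with geometrically irreducible fibre. -/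
def giLocus {X S : Scheme.{u}} (f : X ⟶ S) : Set S :=
  {s | GeometricallyIrreducible (f.fiberToSpecResidueField s)}

theorem mem_giLocus_iff {X S : Scheme.{u}} (f : X ⟶ S) (s : S) :
    s ∈ giLocus f ↔ GeometricallyIrreducible (f.fiberToSpecResidueField s) := Iff.rfl

theorem giLocus_of_isPullback {X S X' S' : Scheme.{u}} (f : X ⟶ S) (f' : X' ⟶ S') (g' : X' ⟶ X)
    (g : S' ⟶ S) (hc : IsPullback g' f' f g) : giLocus f' = g ⁻¹' giLocus f := by
  ext y'
  rw [Set.mem_preimage, mem_giLocus_iff, mem_giLocus_iff, geometricallyIrreducible_iff,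
    geometricallyIrreducible_iff]
  exact Groth.Agent.H1.GeomFiber.fiber_iff _ Groth.Agent.H1.GeomFiber.descFlatSurj_irreducibleSpace
    f g f' g' hc y'

set_option backward.isDefEq.respectTransparency false in
/-- test-pullback characterisation of a geometric property of the fibre over `y`. -/
theorem geom_fiber_iff (P : ObjectProperty Scheme.{u}) {X Y : Scheme.{u}} (f : X ⟶ Y) (y : Y) :
    geometrically P (f.fiberToSpecResidueField y) ↔
      ∀ (K : Type u) [Field K] (g : Spec (CommRingCat.of K) ⟶ Y), (∀ z, g z = y) →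
        ∀ ⦃Z : Scheme.{u}⦄ (fst : Z ⟶ X) (snd : Z ⟶ Spec (CommRingCat.of K)),
          IsPullback fst snd f g → P Z := by
  constructor
  · intro H K _ g hg Z fst snd h
    obtain ⟨⟨y', φ⟩, rfl⟩ := (Scheme.SpecToEquivOfField _ _).symm.surjective g
    have hy' : y' = y := by
      have := hg (IsLocalRing.closedPoint K)
      simpa [Scheme.SpecToEquivOfField] using this
    subst hy'
    let p : Z ⟶ f.fiber y' :=
      pullback.lift fst (snd ≫ Spec.map φ) (by simp [h.w, Scheme.SpecToEquivOfField])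
    apply H (Spec.map φ) p snd
    simp only [Scheme.SpecToEquivOfField, Equiv.coe_fn_symm_mk] at h
    refine .flip (.of_bot (.flip ?_) ?_ (IsPullback.of_hasPullback f (Y.fromSpecResidueField y')).flip)
    · convert! h
      simp [p]
    · simp [p, Scheme.Hom.fiberToSpecResidueField]
  · intro H K _ g₀ Z fst₀ snd h
    refine H K (g₀ ≫ Y.fromSpecResidueField y) (fun z => ?_) (fst₀ ≫ f.fiberι y) snd ?_
    · simp
    · exact h.paste_horiz (IsPullback.of_hasPullback f (Y.fromSpecResidueField y))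

/-- ring-level test of membership in `giLocus` over an affine base. -/
theorem mem_giLocus_Spec_iff (A : Type u) [CommRing A] {X : Scheme.{u}}
    (f : X ⟶ Spec (CommRingCat.of A)) (p : PrimeSpectrum A) :
    p ∈ giLocus f ↔ ∀ (Ω : Type u) [Field Ω] [Algebra A Ω],
      RingHom.ker (algebraMap A Ω) = p.asIdeal →
      ∀ ⦃Z : Scheme.{u}⦄ (fst : Z ⟶ X) (snd : Z ⟶ Spec (CommRingCat.of Ω)),
        IsPullback fst snd f (Spec.map (CommRingCat.ofHom (algebraMap A Ω))) →
        IrreducibleSpace Z := by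
  change GeometricallyIrreducible (f.fiberToSpecResidueField p) ↔ _
  rw [geometricallyIrreducible_iff, geom_fiber_iff]
  constructor
  · intro H Ω _ _ hker Z fst snd hZ
    refine H Ω (Spec.map (CommRingCat.ofHom (algebraMap A Ω))) (fun z => ?_) fst snd hZ
    apply PrimeSpectrum.ext
    change Ideal.comap (algebraMap A Ω) z.asIdeal = p.asIdeal
    rw [← hker, Ideal.eq_bot_of_prime z.asIdeal, RingHom.ker_eq_comap_bot]
  · intro H K _ g hg Z fst snd sq
    obtain ⟨φ, rfl⟩ := Spec.map_surjective g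
    letI : Algebra A K := φ.hom.toAlgebra
    have hker : RingHom.ker (algebraMap A K) = p.asIdeal := by
      have := hg (⟨⊥, Ideal.isPrime_bot⟩ : PrimeSpectrum K)
      rw [← this]
      exact RingHom.ker_eq_comap_bot _
    exact H K hker fst snd sq

/-! ### affine pieces of a base change over an affine base -/

/-- the structure map `A → Γ(X, U)` for `f : X ⟶ Spec A`. -/
noncomputable def secHom {A : Type u} [CommRing A] {X : Scheme.{u}}
    (f : X ⟶ Spec (CommRingCat.of A)) (U : X.Opens) : A →+* Γ(X, U) :=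
  ((Scheme.ΓSpecIso (CommRingCat.of A)).inv ≫ f.appLE ⊤ U (by simp)).hom

theorem finiteType_secHom {A : Type u} [CommRing A] {X : Scheme.{u}}
    (f : X ⟶ Spec (CommRingCat.of A)) [LocallyOfFiniteType f] {U : X.Opens}
    (hU : IsAffineOpen U) :
    letI := (secHom f U).toAlgebra
    Algebra.FiniteType A Γ(X, U) := by
  letI := (secHom f U).toAlgebra
  have h1 : (f.appLE ⊤ U (by simp)).hom.FiniteType :=
    f.finiteType_appLE (isAffineOpen_top _) hU _
  have h2 : (Scheme.ΓSpecIso (CommRingCat.of A)).inv.hom.FiniteType :=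
    RingHom.FiniteType.of_surjective _
      (ConcreteCategory.bijective_of_isIso (Scheme.ΓSpecIso (CommRingCat.of A)).inv).2
  have h3 : (secHom f U).FiniteType := h1.comp h2
  exact h3

theorem exists_piece_Spec {A : Type u} [CommRing A] {X : Scheme.{u}}
    (f : X ⟶ Spec (CommRingCat.of A)) {U : X.Opens} (hU : IsAffineOpen U) {Ω : Type u}
    [CommRing Ω] [Algebra A Ω] {Z : Scheme.{u}} (fst : Z ⟶ X)
    (snd : Z ⟶ Spec (CommRingCat.of Ω))
    (hZ : IsPullback fst snd f (Spec.map (CommRingCat.ofHom (algebraMap A Ω)))) :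
    letI := (secHom f U).toAlgebra
    ∃ j : Spec (CommRingCat.of (Ω ⊗[A] Γ(X, U))) ⟶ Z,
      IsOpenImmersion j ∧ Set.range j = fst ⁻¹' (U : Set X) := by
  letI := (secHom f U).toAlgebra
  have hW : IsAffineOpen (⊤ : (Spec (CommRingCat.of A)).Opens) := isAffineOpen_top _
  have e : U ≤ f ⁻¹ᵁ ⊤ := by simp
  let χ : Γ(Spec (CommRingCat.of A), ⊤) ⟶ CommRingCat.of Ω :=
    (Scheme.ΓSpecIso (CommRingCat.of A)).hom ≫ CommRingCat.ofHom (algebraMap A Ω)
  have hχ : Spec.map χ ≫ hW.fromSpec = Spec.map (CommRingCat.ofHom (algebraMap A Ω)) := by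
    rw [IsAffineOpen.fromSpec_top, Scheme.isoSpec_Spec_inv, ← Spec.map_comp]
    congr 1
    simp [χ]
  have hZ' : IsPullback fst snd f (Spec.map χ ≫ hW.fromSpec) := by rw [hχ]; exact hZ
  have sq0 := (CommRingCat.isPushout_tensorProduct A Ω Γ(X, U)).flip
  have sq : IsPushout (f.appLE ⊤ U e) χ
      (CommRingCat.ofHom (S := Ω ⊗[A] Γ(X, U)) <| Algebra.TensorProduct.includeRight.toRingHom)
      (CommRingCat.ofHom (S := Ω ⊗[A] Γ(X, U)) <| Algebra.TensorProduct.includeLeftRingHom) := by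
    refine sq0.of_iso (Scheme.ΓSpecIso (CommRingCat.of A)).symm (Iso.refl _) (Iso.refl _)
      (Iso.refl _) ?_ ?_ ?_ ?_
    · rw [Iso.refl_hom, Category.comp_id, Iso.symm_hom]
      rfl
    · rw [Iso.refl_hom, Category.comp_id, Iso.symm_hom, Iso.inv_hom_id_assoc]
    · rw [Iso.refl_hom, Iso.refl_hom, Category.comp_id, Category.id_comp]
    · rw [Iso.refl_hom, Iso.refl_hom, Category.comp_id, Category.id_comp]
  obtain ⟨j, h1, -, -, h4⟩ := Groth.Agent.H1.GenFib.exists_piece f hU hW e χ fst snd hZ' _ _ sq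
  exact ⟨j, h1, h4⟩

/-! ### irreducibility from an open cover -/

theorem irreducibleSpace_of_cover {Z : Type*} [TopologicalSpace Z] {ι : Type*} (O : ι → Set Z)
    (hO : ∀ i, IsOpen (O i)) (hcov : ∀ z, ∃ i, z ∈ O i) (hirr : ∀ i, IsPreirreducible (O i))
    (hmeet : ∀ i j, (O i).Nonempty → (O j).Nonempty → (O i ∩ O j).Nonempty)
    (hne : ∃ i, (O i).Nonempty) : IrreducibleSpace Z := by
  obtain ⟨i₀, z₀, hz₀⟩ := hne
  haveI : Nonempty Z := ⟨z₀⟩
  haveI : PreirreducibleSpace Z := by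
    refine ⟨?_⟩
    rintro u v hu hv ⟨x, -, hxu⟩ ⟨y, -, hyv⟩
    obtain ⟨i, hi⟩ := hcov x
    obtain ⟨j, hj⟩ := hcov y
    obtain ⟨w, hwi, hwj, hwu⟩ : ∃ w, w ∈ O i ∧ w ∈ O j ∧ w ∈ u := by
      obtain ⟨w, hwi, hwu, hwj⟩ := hirr i u (O j) hu (hO j) ⟨x, hi, hxu⟩
        (hmeet i j ⟨x, hi⟩ ⟨y, hj⟩)
      exact ⟨w, hwi, hwj, hwu⟩
    obtain ⟨w', -, ⟨hw'u, -⟩, hw'v⟩ := hirr j (u ∩ O i) v (hu.inter (hO i)) hv
      ⟨w, hwj, hwu, hwi⟩ ⟨y, hj, hyv⟩
    exact ⟨w', trivial, hw'u, hw'v⟩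
  exact ⟨‹_›⟩

/-! ### the pieces -/

section pieces

variable (A K : Type u) [CommRing A] [IsDomain A] [Field K] [Algebra A K] [IsFractionRing A K]
  [IsAlgClosed K] {X : Scheme.{u}} (f : X ⟶ Spec (CommRingCat.of A)) [LocallyOfFiniteType f]

theorem piece_irreducible
    (hgen : IrreducibleSpace ↥(pullback f (Spec.map (CommRingCat.ofHom (algebraMap A K)))))
    {U : X.Opens} (hU : IsAffineOpen U) :
    ∃ a : A, a ≠ 0 ∧ ∀ (Ω : Type u) [Field Ω] [Algebra A Ω], algebraMap A Ω a ≠ 0 →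
      ∀ ⦃Z : Scheme.{u}⦄ (fst : Z ⟶ X) (snd : Z ⟶ Spec (CommRingCat.of Ω)),
        IsPullback fst snd f (Spec.map (CommRingCat.ofHom (algebraMap A Ω))) →
        IsPreirreducible (fst ⁻¹' (U : Set X)) ∧
        ((fst ⁻¹' (U : Set X)).Nonempty ↔
          ((pullback.fst f (Spec.map (CommRingCat.ofHom (algebraMap A K)))) ⁻¹'
            (U : Set X)).Nonempty) := by
  letI := (secHom f U).toAlgebra
  haveI := finiteType_secHom f hU
  obtain ⟨j₀, hj₀, hr₀⟩ := exists_piece_Spec f hU (Ω := K) _ _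
    (IsPullback.of_hasPullback f (Spec.map (CommRingCat.ofHom (algebraMap A K))))
  by_cases hK : Nontrivial (K ⊗[A] Γ(X, U))
  · haveI : Nonempty ↥(Spec (CommRingCat.of (K ⊗[A] Γ(X, U)))) :=
      inferInstanceAs (Nonempty (PrimeSpectrum (K ⊗[A] Γ(X, U))))
    haveI : IrreducibleSpace ↥(Spec (CommRingCat.of (K ⊗[A] Γ(X, U)))) :=
      j₀.isOpenEmbedding.irreducibleSpace
    have hNP : NP (K ⊗[A] Γ(X, U)) := (np_iff_irreducibleSpace _).mpr
      (inferInstanceAs (IrreducibleSpace ↥(Spec (CommRingCat.of (K ⊗[A] Γ(X, U))))))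
    obtain ⟨a, ha, hf⟩ := spread_of_np A K Γ(X, U) hNP
    refine ⟨a, ha, fun Ω _ _ hΩ Z fst snd hZ => ?_⟩
    obtain ⟨j, hj, hr⟩ := exists_piece_Spec f hU fst snd hZ
    have h1 : NP (Ω ⊗[A] Γ(X, U)) := hf Ω hΩ
    haveI : IrreducibleSpace ↥(Spec (CommRingCat.of (Ω ⊗[A] Γ(X, U)))) :=
      (np_iff_irreducibleSpace _).mp h1
    have hirr : IsIrreducible (Set.range j) := by
      have := (IrreducibleSpace.isIrreducible_univ
        ↥(Spec (CommRingCat.of (Ω ⊗[A] Γ(X, U))))).image j j.continuous.continuousOn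
      rwa [Set.image_univ] at this
    rw [← hr, ← hr₀]
    exact ⟨hirr.isPreirreducible, ⟨fun _ => Set.range_nonempty j₀, fun _ => hirr.nonempty⟩⟩
  · rw [not_nontrivial_iff_subsingleton] at hK
    obtain ⟨a, ha, hsub⟩ := exists_subsingleton_fibres A K (IsFractionRing.injective A K)
      Γ(X, U) hK
    refine ⟨a, ha, fun Ω _ _ hΩ Z fst snd hZ => ?_⟩
    obtain ⟨j, hj, hr⟩ := exists_piece_Spec f hU fst snd hZ
    haveI := hsub Ω hΩ
    haveI : IsEmpty ↥(Spec (CommRingCat.of (Ω ⊗[A] Γ(X, U)))) :=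
      inferInstanceAs (IsEmpty (PrimeSpectrum (Ω ⊗[A] Γ(X, U))))
    haveI : IsEmpty ↥(Spec (CommRingCat.of (K ⊗[A] Γ(X, U)))) :=
      inferInstanceAs (IsEmpty (PrimeSpectrum (K ⊗[A] Γ(X, U))))
    rw [← hr, ← hr₀, Set.range_eq_empty, Set.range_eq_empty]
    exact ⟨isPreirreducible_empty, ⟨fun h => absurd h Set.not_nonempty_empty,
      fun h => absurd h Set.not_nonempty_empty⟩⟩

theorem pair_nonempty {U U' : X.Opens}
    (hne : ((pullback.fst f (Spec.map (CommRingCat.ofHom (algebraMap A K)))) ⁻¹'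
      ((U : Set X) ∩ (U' : Set X))).Nonempty) :
    ∃ a : A, a ≠ 0 ∧ ∀ (Ω : Type u) [Field Ω] [Algebra A Ω], algebraMap A Ω a ≠ 0 →
      ∀ ⦃Z : Scheme.{u}⦄ (fst : Z ⟶ X) (snd : Z ⟶ Spec (CommRingCat.of Ω)),
        IsPullback fst snd f (Spec.map (CommRingCat.ofHom (algebraMap A Ω))) →
        (fst ⁻¹' ((U : Set X) ∩ (U' : Set X))).Nonempty := by
  obtain ⟨z₀, hz₀⟩ := hne
  obtain ⟨V, hV, hxV, hVU⟩ := exists_isAffineOpen_mem_and_subset
    (x := (pullback.fst f (Spec.map (CommRingCat.ofHom (algebraMap A K)))) z₀)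
    (U := U ⊓ U') hz₀
  letI := (secHom f V).toAlgebra
  haveI := finiteType_secHom f hV
  obtain ⟨j₀, hj₀, hr₀⟩ := exists_piece_Spec f hV (Ω := K) _ _
    (IsPullback.of_hasPullback f (Spec.map (CommRingCat.ofHom (algebraMap A K))))
  have hz₀' : z₀ ∈ Set.range j₀ := by rw [hr₀]; exact hxV
  obtain ⟨w₀, -⟩ := hz₀'
  haveI : Nontrivial (K ⊗[A] Γ(X, V)) := by
    by_contra hcon
    rw [not_nontrivial_iff_subsingleton] at hcon
    haveI hE : IsEmpty (PrimeSpectrum (K ⊗[A] Γ(X, V))) := inferInstance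
    exact hE.false w₀
  have hinj := injective_of_nontrivial_tensor A K (IsFractionRing.injective A K) Γ(X, V)
  obtain ⟨a, ha, hn⟩ := exists_nontrivial_fibres A Γ(X, V) hinj
  refine ⟨a, ha, fun Ω _ _ hΩ Z fst snd hZ => ?_⟩
  obtain ⟨j, hj, hr⟩ := exists_piece_Spec f hV fst snd hZ
  haveI := hn Ω hΩ
  obtain ⟨w⟩ : Nonempty ↥(Spec (CommRingCat.of (Ω ⊗[A] Γ(X, V)))) :=
    inferInstanceAs (Nonempty (PrimeSpectrum (Ω ⊗[A] Γ(X, V))))
  have hw : j w ∈ fst ⁻¹' (V : Set X) := by rw [← hr]; exact ⟨w, rfl⟩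
  exact ⟨j w, hVU hw⟩

end pieces

set_option maxHeartbeats 1000000 in
/-- **(SC)** over the spectrum of a domain with algebraically closed fraction field. -/
theorem exists_basicOpen_of_Spec (A K : Type u) [CommRing A] [IsDomain A] [Field K] [Algebra A K]
    [IsFractionRing A K] [IsAlgClosed K] {X : Scheme.{u}} (f : X ⟶ Spec (CommRingCat.of A))
    [LocallyOfFiniteType f] [QuasiCompact f]
    (h : (⟨⊥, Ideal.isPrime_bot⟩ : PrimeSpectrum A) ∈ giLocus f) :
    ∃ a : A, a ≠ 0 ∧ ∀ p : PrimeSpectrum A, a ∉ p.asIdeal → p ∈ giLocus f := by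
  classical
  haveI hgen : IrreducibleSpace
      ↥(pullback f (Spec.map (CommRingCat.ofHom (algebraMap A K)))) :=
    (mem_giLocus_Spec_iff A f _).mp h K
      ((RingHom.injective_iff_ker_eq_bot _).mp (IsFractionRing.injective A K)) _ _
      (IsPullback.of_hasPullback f _)
  haveI : CompactSpace X := QuasiCompact.compactSpace_of_compactSpace f
  obtain ⟨s, hsfin, hs⟩ := (isCompact_iff_finite_and_eq_biUnion_affineOpens
    (U := (⊤ : X.Opens))).mp (by simpa using isCompact_univ)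
  have hcov : ∀ x : X, ∃ i ∈ s, x ∈ (i : X.Opens) := by
    intro x
    have hx : x ∈ (⊤ : X.Opens) := trivial
    rw [hs] at hx
    simp only [TopologicalSpace.Opens.mem_iSup] at hx
    obtain ⟨i, hi, hxi⟩ := hx
    exact ⟨i, hi, hxi⟩
  have hP1 := fun (i : X.affineOpens) => piece_irreducible A K f hgen i.2
  choose a₁ ha₁ hP1' using hP1
  have hP2 : ∀ i j : X.affineOpens, ∃ a : A, a ≠ 0 ∧
      (((pullback.fst f (Spec.map (CommRingCat.ofHom (algebraMap A K)))) ⁻¹'
        (((i : X.Opens) : Set X) ∩ ((j : X.Opens) : Set X))).Nonempty →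
      ∀ (Ω : Type u) [Field Ω] [Algebra A Ω], algebraMap A Ω a ≠ 0 →
      ∀ ⦃Z : Scheme.{u}⦄ (fst : Z ⟶ X) (snd : Z ⟶ Spec (CommRingCat.of Ω)),
        IsPullback fst snd f (Spec.map (CommRingCat.ofHom (algebraMap A Ω))) →
        (fst ⁻¹' (((i : X.Opens) : Set X) ∩ ((j : X.Opens) : Set X))).Nonempty) := by
    intro i j
    by_cases hne : ((pullback.fst f (Spec.map (CommRingCat.ofHom (algebraMap A K)))) ⁻¹'
        (((i : X.Opens) : Set X) ∩ ((j : X.Opens) : Set X))).Nonempty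
    · obtain ⟨a, ha, H⟩ := pair_nonempty A K f hne
      exact ⟨a, ha, fun _ => H⟩
    · exact ⟨1, one_ne_zero, fun h => absurd h hne⟩
  choose a₂ ha₂ hP2' using hP2
  haveI : Fintype s := hsfin.fintype
  refine ⟨(∏ i : s, a₁ i.1) * ∏ i : s, ∏ j : s, a₂ i.1 j.1, ?_, fun p hp => ?_⟩
  · exact mul_ne_zero (Finset.prod_ne_zero_iff.mpr fun i _ => ha₁ _)
      (Finset.prod_ne_zero_iff.mpr fun i _ => Finset.prod_ne_zero_iff.mpr fun j _ => ha₂ _ _)
  · rw [mem_giLocus_Spec_iff]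
    intro Ω _ _ hker Z fst snd hZ
    have haΩ : algebraMap A Ω ((∏ i : s, a₁ i.1) * ∏ i : s, ∏ j : s, a₂ i.1 j.1) ≠ 0 := by
      intro h0
      apply hp
      rw [← hker]
      exact h0
    have hfac : algebraMap A Ω (∏ i : s, a₁ i.1) ≠ 0 ∧
        algebraMap A Ω (∏ i : s, ∏ j : s, a₂ i.1 j.1) ≠ 0 := by
      rw [← mul_ne_zero_iff, ← map_mul]; exact haΩ
    have h1 : ∀ i : s, algebraMap A Ω (a₁ i.1) ≠ 0 := by
      intro i
      have := hfac.1
      rw [map_prod] at this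
      exact Finset.prod_ne_zero_iff.mp this i (Finset.mem_univ _)
    have h2 : ∀ i j : s, algebraMap A Ω (a₂ i.1 j.1) ≠ 0 := by
      intro i j
      have := hfac.2
      rw [map_prod] at this
      have h3 := Finset.prod_ne_zero_iff.mp this i (Finset.mem_univ _)
      rw [map_prod] at h3
      exact Finset.prod_ne_zero_iff.mp h3 j (Finset.mem_univ _)
    apply irreducibleSpace_of_cover (fun i : s => fst ⁻¹' (((i.1 : X.Opens)) : Set X))
    · intro i
      exact (i.1 : X.Opens).isOpen.preimage fst.continuous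
    · intro z
      obtain ⟨i, hi, hxi⟩ := hcov (fst z)
      exact ⟨⟨i, hi⟩, hxi⟩
    · intro i
      exact (hP1' i.1 Ω (h1 i) fst snd hZ).1
    · intro i j hi hj
      have hi0 := (hP1' i.1 Ω (h1 i) fst snd hZ).2.mp hi
      have hj0 := (hP1' j.1 Ω (h1 j) fst snd hZ).2.mp hj
      have hij0 := nonempty_preirreducible_inter
        ((i.1 : X.Opens).isOpen.preimage
          (pullback.fst f (Spec.map (CommRingCat.ofHom (algebraMap A K)))).continuous)
        ((j.1 : X.Opens).isOpen.preimage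
          (pullback.fst f (Spec.map (CommRingCat.ofHom (algebraMap A K)))).continuous) hi0 hj0
      exact hP2' i.1 j.1 hij0 Ω (h2 i j) fst snd hZ
    · obtain ⟨z₀⟩ : Nonempty ↥(pullback f (Spec.map (CommRingCat.ofHom (algebraMap A K)))) :=
        hgen.toNonempty
      obtain ⟨i, hi, hxi⟩ := hcov
        ((pullback.fst f (Spec.map (CommRingCat.ofHom (algebraMap A K)))) z₀)
      exact ⟨⟨i, hi⟩, (hP1' i Ω (h1 ⟨i, hi⟩) fst snd hZ).2.mpr ⟨z₀, hxi⟩⟩

end Groth.Agent.H1.GIrr
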