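import Mathlib
import Groth.Agent.Lib.Helper1.GIrrE

/-!
# Generization, closed pieces of base changes (helper1)

Tools for spreading out the decomposition of the generic geometric fibre into irreducible
components.
-/

set_option autoImplicit false
set_option linter.style.haveILetI false
universe u

open TensorProduct AlgebraicGeometry CategoryTheory CategoryTheory.Limits Topology

namespace Groth.Agent.H1.GIrr

/-! ### generization at the ring level -/

theorem exists_generization_ring (A : Type u) [CommRing A] [IsDomain A] (B : Type u) [CommRing B]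
    [Algebra A B] [Algebra.FiniteType A B] :
    ∃ a : A, a ≠ 0 ∧ ∀ 𝔭 : Ideal B, 𝔭.IsPrime → algebraMap A B a ∉ 𝔭 →
      ∃ 𝔮 : Ideal B, 𝔮.IsPrime ∧ 𝔮 ≤ 𝔭 ∧ Ideal.comap (algebraMap A B) 𝔮 = ⊥ := by
  obtain ⟨a, ha, hT⟩ := exists_pow_smul_eq_zero_of_torsion A B
  refine ⟨a, ha, fun 𝔭 h𝔭 ha𝔭 => ?_⟩
  have hdisj : Disjoint (((⊥ : Ideal B) : Set B))
      (((nonZeroDivisors A).map (algebraMap A B) ⊔ 𝔭.primeCompl : Submonoid B) : Set B) := by
    rw [Set.disjoint_left]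
    intro x hx hxT
    have hx0 : x = 0 := Ideal.mem_bot.mp (SetLike.mem_coe.mp hx)
    rw [hx0] at hxT
    obtain ⟨s', hs', b, hb, hsb⟩ := Submonoid.mem_sup.mp (SetLike.mem_coe.mp hxT)
    obtain ⟨s, hs, rfl⟩ := Submonoid.mem_map.mp hs'
    have hs0 : s ≠ 0 := nonZeroDivisors.ne_zero hs
    obtain ⟨m, hm⟩ := hT b ⟨s, hs0, by rw [Algebra.smul_def]; exact hsb⟩
    have h1 : algebraMap A B a ^ m * b ∈ 𝔭 := by
      rw [← map_pow, ← Algebra.smul_def, hm]; exact 𝔭.zero_mem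
    rcases h𝔭.mem_or_mem h1 with h | h
    · exact ha𝔭 (h𝔭.mem_of_pow_mem _ h)
    · exact (Ideal.mem_primeCompl_iff.mp hb) h
  obtain ⟨𝔮, h𝔮, -, h𝔮T⟩ := Ideal.exists_le_prime_disjoint ⊥ _ hdisj
  refine ⟨𝔮, h𝔮, fun x hx => ?_, ?_⟩
  · by_contra hxp
    exact Set.disjoint_left.mp h𝔮T hx
      (Submonoid.mem_sup_right (Ideal.mem_primeCompl_iff.mpr hxp))
  · rw [eq_bot_iff]
    intro s hs
    rw [Ideal.mem_bot]
    by_contra hs0
    exact Set.disjoint_left.mp h𝔮T (Ideal.mem_comap.mp hs)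
      (Submonoid.mem_sup_left (Submonoid.mem_map.mpr
        ⟨s, mem_nonZeroDivisors_of_ne_zero hs0, rfl⟩))

/-! ### points of affine opens over an affine base -/

theorem fromSpec_comp {A : Type u} [CommRing A] {X : Scheme.{u}}
    (h : X ⟶ Spec (CommRingCat.of A)) {U : X.Opens} (hU : IsAffineOpen U) :
    hU.fromSpec ≫ h = Spec.map (CommRingCat.ofHom (secHom h U)) := by
  have hW : IsAffineOpen (⊤ : (Spec (CommRingCat.of A)).Opens) := isAffineOpen_top _
  have e : U ≤ h ⁻¹ᵁ ⊤ := by simp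
  rw [← IsAffineOpen.SpecMap_appLE_fromSpec h hW hU e, IsAffineOpen.fromSpec_top,
    Scheme.isoSpec_Spec_inv, ← Spec.map_comp]
  rfl

theorem apply_fromSpec {A : Type u} [CommRing A] {X : Scheme.{u}}
    (h : X ⟶ Spec (CommRingCat.of A)) {U : X.Opens} (hU : IsAffineOpen U)
    (q : PrimeSpectrum Γ(X, U)) :
    (h (hU.fromSpec q) : PrimeSpectrum A).asIdeal = Ideal.comap (secHom h U) q.asIdeal := by
  have h1 : h (hU.fromSpec q) = (hU.fromSpec ≫ h) q := rfl
  rw [h1, fromSpec_comp]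
  rfl

/-- over a dense open of the base, every point is a specialization of a point of the generic
fibre. -/
theorem exists_generization (A : Type u) [CommRing A] [IsDomain A] {X : Scheme.{u}}
    (f : X ⟶ Spec (CommRingCat.of A)) [LocallyOfFiniteType f] [QuasiCompact f] :
    ∃ a : A, a ≠ 0 ∧ ∀ x : X, a ∉ (f x : PrimeSpectrum A).asIdeal →
      ∃ x₀ : X, x₀ ⤳ x ∧ f x₀ = (⟨⊥, Ideal.isPrime_bot⟩ : PrimeSpectrum A) := by
  classical
  haveI : CompactSpace X := QuasiCompact.compactSpace_of_compactSpace f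
  obtain ⟨s, hsfin, hs⟩ := (isCompact_iff_finite_and_eq_biUnion_affineOpens
    (U := (⊤ : X.Opens))).mp (by simpa using isCompact_univ)
  have hcov : ∀ x : X, ∃ i ∈ s, x ∈ (i : X.Opens) := by
    intro x
    have hx : x ∈ (⊤ : X.Opens) := trivial
    rw [hs] at hx
    simp only [TopologicalSpace.Opens.mem_iSup] at hx
    obtain ⟨i, hi, hxi⟩ := hx
    exact ⟨i, hi, hxi⟩
  have hP : ∀ i : X.affineOpens, ∃ a : A, a ≠ 0 ∧ ∀ q : PrimeSpectrum Γ(X, (i : X.Opens)),
      a ∉ (f (i.2.fromSpec q) : PrimeSpectrum A).asIdeal →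
      ∃ q₀ : PrimeSpectrum Γ(X, (i : X.Opens)), q₀ ⤳ q ∧
        f (i.2.fromSpec q₀) = (⟨⊥, Ideal.isPrime_bot⟩ : PrimeSpectrum A) := by
    intro i
    letI := (secHom f (i : X.Opens)).toAlgebra
    haveI := finiteType_secHom f i.2
    obtain ⟨a, ha, H⟩ := exists_generization_ring A Γ(X, (i : X.Opens))
    refine ⟨a, ha, fun q hq => ?_⟩
    rw [apply_fromSpec] at hq
    obtain ⟨𝔮, h𝔮, hle, hbot⟩ := H q.asIdeal q.isPrime (fun h => hq h)
    refine ⟨⟨𝔮, h𝔮⟩, (PrimeSpectrum.le_iff_specializes _ _).mp hle, ?_⟩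
    apply PrimeSpectrum.ext
    rw [apply_fromSpec]
    exact hbot
  choose a₁ ha₁ hP' using hP
  haveI : Fintype s := hsfin.fintype
  refine ⟨∏ i : s, a₁ i.1, Finset.prod_ne_zero_iff.mpr fun i _ => ha₁ _, fun x hx => ?_⟩
  obtain ⟨i, hi, hxi⟩ := hcov x
  have hr : x ∈ Set.range i.2.fromSpec := by rw [i.2.range_fromSpec]; exact hxi
  obtain ⟨q, rfl⟩ := hr
  have hq : a₁ i ∉ (f (i.2.fromSpec q) : PrimeSpectrum A).asIdeal := by
    intro hmem
    apply hx
    exact Ideal.mem_of_dvd _ (Finset.dvd_prod_of_mem (fun j : s => a₁ j.1)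
      (Finset.mem_univ (⟨i, hi⟩ : s))) hmem
  obtain ⟨q₀, hq₀, hf₀⟩ := hP' i q hq
  exact ⟨i.2.fromSpec q₀, hq₀.map i.2.fromSpec.continuous, hf₀⟩

/-! ### points of a base change to a field -/

theorem asIdeal_apply_fst {A : Type u} [CommRing A] {X : Scheme.{u}}
    (f : X ⟶ Spec (CommRingCat.of A)) {Ω : Type u} [Field Ω] [Algebra A Ω] {Z : Scheme.{u}}
    (fst : Z ⟶ X) (snd : Z ⟶ Spec (CommRingCat.of Ω))
    (hZ : IsPullback fst snd f (Spec.map (CommRingCat.ofHom (algebraMap A Ω)))) (z : Z) :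
    (f (fst z) : PrimeSpectrum A).asIdeal = RingHom.ker (algebraMap A Ω) := by
  have h1 : f (fst z) = (Spec.map (CommRingCat.ofHom (algebraMap A Ω))) (snd z) := by
    change (fst ≫ f) z = (snd ≫ Spec.map (CommRingCat.ofHom (algebraMap A Ω))) z
    rw [hZ.w]
  rw [h1]
  change Ideal.comap (algebraMap A Ω) (snd z : PrimeSpectrum Ω).asIdeal = _
  rw [Ideal.eq_bot_of_prime (snd z : PrimeSpectrum Ω).asIdeal, RingHom.ker_eq_comap_bot]

theorem notMem_asIdeal_apply_fst {A : Type u} [CommRing A] {X : Scheme.{u}}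
    (f : X ⟶ Spec (CommRingCat.of A)) {Ω : Type u} [Field Ω] [Algebra A Ω] {Z : Scheme.{u}}
    (fst : Z ⟶ X) (snd : Z ⟶ Spec (CommRingCat.of Ω))
    (hZ : IsPullback fst snd f (Spec.map (CommRingCat.ofHom (algebraMap A Ω)))) (z : Z)
    {a : A} (ha : algebraMap A Ω a ≠ 0) : a ∉ (f (fst z) : PrimeSpectrum A).asIdeal := by
  rw [asIdeal_apply_fst f fst snd hZ z]
  exact fun h => ha (RingHom.mem_ker.mp h)

theorem mem_range_fst_of_eq_bot (A K : Type u) [CommRing A] [IsDomain A] [Field K] [Algebra A K]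
    (hinj : Function.Injective (algebraMap A K)) {X : Scheme.{u}}
    (f : X ⟶ Spec (CommRingCat.of A)) (x : X)
    (hx : f x = (⟨⊥, Ideal.isPrime_bot⟩ : PrimeSpectrum A)) :
    x ∈ Set.range (pullback.fst f (Spec.map (CommRingCat.ofHom (algebraMap A K)))) := by
  rw [Scheme.Pullback.range_fst]
  refine ⟨(⟨⊥, Ideal.isPrime_bot⟩ : PrimeSpectrum K), ?_⟩
  rw [hx]
  apply PrimeSpectrum.ext
  change Ideal.comap (algebraMap A K) ⊥ = ⊥
  rw [← RingHom.ker_eq_comap_bot]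
  exact (RingHom.injective_iff_ker_eq_bot _).mp hinj

/-! ### closed pieces -/

theorem exists_closedImmersion_range (X : Scheme.{u}) (W : Set X) (hW : IsClosed W) :
    ∃ (Y : Scheme.{u}) (i : Y ⟶ X), IsClosedImmersion i ∧ Set.range i = W :=
  ⟨_, (Scheme.IdealSheafData.vanishingIdeal ⟨W, hW⟩).subschemeι, inferInstance,
    (Scheme.IdealSheafData.range_subschemeι _).trans
      (Scheme.IdealSheafData.coe_support_vanishingIdeal _)⟩

theorem exists_closed_piece {X S S' Y : Scheme.{u}} (f : X ⟶ S) (g : S' ⟶ S) (i : Y ⟶ X)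
    {Z : Scheme.{u}} (fst : Z ⟶ X) (snd : Z ⟶ S') (hZ : IsPullback fst snd f g) :
    ∃ q : pullback (i ≫ f) g ⟶ Z, IsPullback q (pullback.fst (i ≫ f) g) fst i ∧
      Set.range q = fst ⁻¹' Set.range i := by
  have hw : (pullback.fst (i ≫ f) g ≫ i) ≫ f = pullback.snd (i ≫ f) g ≫ g := by
    rw [Category.assoc]; exact pullback.condition
  have hq1 : hZ.lift (pullback.fst (i ≫ f) g ≫ i) (pullback.snd (i ≫ f) g) hw ≫ fst =
      pullback.fst (i ≫ f) g ≫ i := hZ.lift_fst _ _ _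
  have hq2 : hZ.lift (pullback.fst (i ≫ f) g ≫ i) (pullback.snd (i ≫ f) g) hw ≫ snd =
      pullback.snd (i ≫ f) g := hZ.lift_snd _ _ _
  have hpb : IsPullback (hZ.lift (pullback.fst (i ≫ f) g ≫ i) (pullback.snd (i ≫ f) g) hw)
      (pullback.fst (i ≫ f) g) fst i := by
    refine IsPullback.of_right ?_ hq1 hZ.flip
    rw [hq2]
    exact (IsPullback.of_hasPullback (i ≫ f) g).flip
  refine ⟨_, hpb, ?_⟩
  ext z
  constructor
  · rintro ⟨w, rfl⟩
    refine ⟨pullback.fst (i ≫ f) g w, ?_⟩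
    change (pullback.fst (i ≫ f) g ≫ i) w = (hZ.lift (pullback.fst (i ≫ f) g ≫ i)
      (pullback.snd (i ≫ f) g) hw ≫ fst) w
    rw [hq1]
  · rintro ⟨y, hy⟩
    obtain ⟨w, hw1, -⟩ := Scheme.exists_preimage_of_isPullback hpb z y hy.symm
    exact ⟨w, hw1⟩

/-! ### irreducibility of all fibres from irreducibility of the generic geometric fibre -/

set_option maxHeartbeats 1000000 in
theorem exists_irreducibleSpace_of_generic (A K : Type u) [CommRing A] [IsDomain A] [Field K]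
    [Algebra A K] [IsFractionRing A K] [IsAlgClosed K] {X : Scheme.{u}}
    (f : X ⟶ Spec (CommRingCat.of A)) [LocallyOfFiniteType f] [QuasiCompact f]
    (hgen : IrreducibleSpace ↥(pullback f (Spec.map (CommRingCat.ofHom (algebraMap A K))))) :
    ∃ a : A, a ≠ 0 ∧ ∀ (Ω : Type u) [Field Ω] [Algebra A Ω], algebraMap A Ω a ≠ 0 →
      ∀ ⦃Z : Scheme.{u}⦄ (fst : Z ⟶ X) (snd : Z ⟶ Spec (CommRingCat.of Ω)),
        IsPullback fst snd f (Spec.map (CommRingCat.ofHom (algebraMap A Ω))) →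
        IrreducibleSpace Z := by
  classical
  haveI : CompactSpace X := QuasiCompact.compactSpace_of_compactSpace f
  obtain ⟨s, hsfin, hs⟩ := (isCompact_iff_finite_and_eq_biUnion_affineOpens
    (U := (⊤ : X.Opens))).mp (by simpa using isCompact_univ)
  have hcov : ∀ x : X, ∃ i ∈ s, x ∈ (i : X.Opens) := by
    intro x
    have hx : x ∈ (⊤ : X.Opens) := trivial
    rw [hs] at hx
    simp only [TopologicalSpace.Opens.mem_iSup] at hx
    obtain ⟨i, hi, hxi⟩ := hx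
    exact ⟨i, hi, hxi⟩
  have hP1 := fun (i : X.affineOpens) => piece_irreducible A K f hgen i.2
  choose a₁ ha₁ hP1' using hP1
  have hP2 : ∀ i j : X.affineOpens, ∃ a : A, a ≠ 0 ∧
      (((pullback.fst f (Spec.map (CommRingCat.ofHom (algebraMap A K)))) ⁻¹'
        (((i : X.Opens) : Set X) ∩ ((j : X.Opens) : Set X))).Nonempty →
      ∀ (Ω : Type u) [Field Ω] [Algebra A Ω], algebraMap A Ω a ≠ 0 →
      ∀ ⦃Z : Scheme.{u}⦄ (fst : Z ⟶ X) (snd : Z ⟶ Spec (CommRingCat.of Ω)),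
        IsPullback fst snd f (Spec.map (CommRingCat.ofHom (algebraMap A Ω))) →
        (fst ⁻¹' (((i : X.Opens) : Set X) ∩ ((j : X.Opens) : Set X))).Nonempty) := by
    intro i j
    by_cases hne : ((pullback.fst f (Spec.map (CommRingCat.ofHom (algebraMap A K)))) ⁻¹'
        (((i : X.Opens) : Set X) ∩ ((j : X.Opens) : Set X))).Nonempty
    · obtain ⟨a, ha, H⟩ := pair_nonempty A K f hne
      exact ⟨a, ha, fun _ => H⟩
    · exact ⟨1, one_ne_zero, fun h => absurd h hne⟩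
  choose a₂ ha₂ hP2' using hP2
  haveI : Fintype s := hsfin.fintype
  refine ⟨(∏ i : s, a₁ i.1) * ∏ i : s, ∏ j : s, a₂ i.1 j.1, ?_,
    fun Ω _ _ haΩ Z fst snd hZ => ?_⟩
  · exact mul_ne_zero (Finset.prod_ne_zero_iff.mpr fun i _ => ha₁ _)
      (Finset.prod_ne_zero_iff.mpr fun i _ => Finset.prod_ne_zero_iff.mpr fun j _ => ha₂ _ _)
  · have hfac : algebraMap A Ω (∏ i : s, a₁ i.1) ≠ 0 ∧
        algebraMap A Ω (∏ i : s, ∏ j : s, a₂ i.1 j.1) ≠ 0 := by
      rw [← mul_ne_zero_iff, ← map_mul]; exact haΩ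
    have h1 : ∀ i : s, algebraMap A Ω (a₁ i.1) ≠ 0 := by
      intro i
      have := hfac.1
      rw [map_prod] at this
      exact Finset.prod_ne_zero_iff.mp this i (Finset.mem_univ _)
    have h2 : ∀ i j : s, algebraMap A Ω (a₂ i.1 j.1) ≠ 0 := by
      intro i j
      have := hfac.2
      rw [map_prod] at this
      have h3 := Finset.prod_ne_zero_iff.mp this i (Finset.mem_univ _)
      rw [map_prod] at h3
      exact Finset.prod_ne_zero_iff.mp h3 j (Finset.mem_univ _)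
    apply irreducibleSpace_of_cover (fun i : s => fst ⁻¹' (((i.1 : X.Opens)) : Set X))
    · intro i
      exact (i.1 : X.Opens).isOpen.preimage fst.continuous
    · intro z
      obtain ⟨i, hi, hxi⟩ := hcov (fst z)
      exact ⟨⟨i, hi⟩, hxi⟩
    · intro i
      exact (hP1' i.1 Ω (h1 i) fst snd hZ).1
    · intro i j hi hj
      have hi0 := (hP1' i.1 Ω (h1 i) fst snd hZ).2.mp hi
      have hj0 := (hP1' j.1 Ω (h1 j) fst snd hZ).2.mp hj
      have hij0 := nonempty_preirreducible_inter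
        ((i.1 : X.Opens).isOpen.preimage
          (pullback.fst f (Spec.map (CommRingCat.ofHom (algebraMap A K)))).continuous)
        ((j.1 : X.Opens).isOpen.preimage
          (pullback.fst f (Spec.map (CommRingCat.ofHom (algebraMap A K)))).continuous) hi0 hj0
      exact hP2' i.1 j.1 hij0 Ω (h2 i j) fst snd hZ
    · obtain ⟨z₀⟩ : Nonempty ↥(pullback f (Spec.map (CommRingCat.ofHom (algebraMap A K)))) :=
        hgen.toNonempty
      obtain ⟨i, hi, hxi⟩ := hcov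
        ((pullback.fst f (Spec.map (CommRingCat.ofHom (algebraMap A K)))) z₀)
      exact ⟨⟨i, hi⟩, (hP1' i Ω (h1 ⟨i, hi⟩) fst snd hZ).2.mpr ⟨z₀, hxi⟩⟩

/-! ### spreading out properties of preimages of closed subsets -/

section closedPieces

variable (A K : Type u) [CommRing A] [IsDomain A] [Field K] [Algebra A K] [IsFractionRing A K]
  [IsAlgClosed K] {X : Scheme.{u}} (f : X ⟶ Spec (CommRingCat.of A)) [LocallyOfFiniteType f]
  [QuasiCompact f]

theorem exists_irreducible_preimage (T : Set X) (hT : IsClosed T)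
    (hirr : IsIrreducible ((pullback.fst f (Spec.map (CommRingCat.ofHom (algebraMap A K)))) ⁻¹'
      T)) :
    ∃ a : A, a ≠ 0 ∧ ∀ (Ω : Type u) [Field Ω] [Algebra A Ω], algebraMap A Ω a ≠ 0 →
      ∀ ⦃Z : Scheme.{u}⦄ (fst : Z ⟶ X) (snd : Z ⟶ Spec (CommRingCat.of Ω)),
        IsPullback fst snd f (Spec.map (CommRingCat.ofHom (algebraMap A Ω))) →
        IsIrreducible (fst ⁻¹' T) := by
  obtain ⟨Y, i, hi, hr⟩ := exists_closedImmersion_range X T hT
  haveI := hi
  obtain ⟨q₀, hpb₀, hq₀⟩ := exists_closed_piece f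
    (Spec.map (CommRingCat.ofHom (algebraMap A K))) i _ _ (IsPullback.of_hasPullback f _)
  haveI : IsClosedImmersion q₀ :=
    MorphismProperty.of_isPullback (P := @IsClosedImmersion) hpb₀.flip hi
  have hgen : IrreducibleSpace
      ↥(pullback (i ≫ f) (Spec.map (CommRingCat.ofHom (algebraMap A K)))) := by
    have e : ↥(pullback (i ≫ f) (Spec.map (CommRingCat.ofHom (algebraMap A K)))) ≃ₜ
        Set.range q₀ := q₀.isEmbedding.toHomeomorph
    rw [e.irreducibleSpace_iff, ← isIrreducible_iff_irreducibleSpace, hq₀, hr]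
    exact hirr
  obtain ⟨a, ha, H⟩ := exists_irreducibleSpace_of_generic A K (i ≫ f) hgen
  refine ⟨a, ha, fun Ω _ _ hΩ Z fst snd hZ => ?_⟩
  obtain ⟨q, hpb, hq⟩ := exists_closed_piece f
    (Spec.map (CommRingCat.ofHom (algebraMap A Ω))) i fst snd hZ
  haveI := H Ω hΩ (pullback.fst (i ≫ f) _) (pullback.snd (i ≫ f) _)
    (IsPullback.of_hasPullback _ _)
  rw [← hr, ← hq, ← Set.image_univ]
  exact (IrreducibleSpace.isIrreducible_univ _).image q q.continuous.continuousOn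

omit [QuasiCompact f] in
theorem exists_nonempty_preimage (T : Set X) (hT : IsClosed T) (O : Set X) (hO : IsOpen O)
    (hne : ((pullback.fst f (Spec.map (CommRingCat.ofHom (algebraMap A K)))) ⁻¹'
      (T ∩ O)).Nonempty) :
    ∃ a : A, a ≠ 0 ∧ ∀ (Ω : Type u) [Field Ω] [Algebra A Ω], algebraMap A Ω a ≠ 0 →
      ∀ ⦃Z : Scheme.{u}⦄ (fst : Z ⟶ X) (snd : Z ⟶ Spec (CommRingCat.of Ω)),
        IsPullback fst snd f (Spec.map (CommRingCat.ofHom (algebraMap A Ω))) →
        (fst ⁻¹' (T ∩ O)).Nonempty := by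
  obtain ⟨Y, i, hi, hr⟩ := exists_closedImmersion_range X T hT
  haveI := hi
  obtain ⟨q₀, hpb₀, hq₀⟩ := exists_closed_piece f
    (Spec.map (CommRingCat.ofHom (algebraMap A K))) i _ _ (IsPullback.of_hasPullback f _)
  have hne' : ((pullback.fst (i ≫ f) (Spec.map (CommRingCat.ofHom (algebraMap A K)))) ⁻¹'
      (((i ⁻¹ᵁ ⟨O, hO⟩ : Y.Opens) : Set Y) ∩ ((i ⁻¹ᵁ ⟨O, hO⟩ : Y.Opens) : Set Y))).Nonempty := by
    obtain ⟨z₀, hz₀T, hz₀O⟩ := hne
    have hz₀ : z₀ ∈ Set.range q₀ := by rw [hq₀, hr]; exact hz₀T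
    obtain ⟨w₀, rfl⟩ := hz₀
    have h1 : i (pullback.fst (i ≫ f) (Spec.map (CommRingCat.ofHom (algebraMap A K))) w₀) =
        pullback.fst f (Spec.map (CommRingCat.ofHom (algebraMap A K))) (q₀ w₀) := by
      change (pullback.fst (i ≫ f) _ ≫ i) w₀ = (q₀ ≫ pullback.fst f _) w₀
      rw [hpb₀.w]
    have h2 : pullback.fst (i ≫ f) (Spec.map (CommRingCat.ofHom (algebraMap A K))) w₀ ∈
        ((i ⁻¹ᵁ ⟨O, hO⟩ : Y.Opens) : Set Y) := by
      change i (pullback.fst (i ≫ f) _ w₀) ∈ O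
      rw [h1]; exact hz₀O
    exact ⟨w₀, h2, h2⟩
  obtain ⟨a, ha, H⟩ := pair_nonempty A K (i ≫ f) hne'
  refine ⟨a, ha, fun Ω _ _ hΩ Z fst snd hZ => ?_⟩
  obtain ⟨q, hpb, hq⟩ := exists_closed_piece f
    (Spec.map (CommRingCat.ofHom (algebraMap A Ω))) i fst snd hZ
  obtain ⟨w, hw, -⟩ := H Ω hΩ (pullback.fst (i ≫ f) _) (pullback.snd (i ≫ f) _)
    (IsPullback.of_hasPullback _ _)
  have h1 : fst (q w) = i (pullback.fst (i ≫ f) _ w) := by
    change (q ≫ fst) w = (pullback.fst (i ≫ f) _ ≫ i) w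
    rw [hpb.w]
  refine ⟨q w, ?_, ?_⟩
  · rw [h1, ← hr]; exact ⟨_, rfl⟩
  · rw [h1]; exact hw

omit [IsAlgClosed K] in
theorem exists_empty_preimage (T : Set X) (hT : IsClosed T)
    (hemp : (pullback.fst f (Spec.map (CommRingCat.ofHom (algebraMap A K)))) ⁻¹' T = ∅) :
    ∃ a : A, a ≠ 0 ∧ ∀ (Ω : Type u) [Field Ω] [Algebra A Ω], algebraMap A Ω a ≠ 0 →
      ∀ ⦃Z : Scheme.{u}⦄ (fst : Z ⟶ X) (snd : Z ⟶ Spec (CommRingCat.of Ω)),
        IsPullback fst snd f (Spec.map (CommRingCat.ofHom (algebraMap A Ω))) →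
        fst ⁻¹' T = ∅ := by
  obtain ⟨Y, i, hi, hr⟩ := exists_closedImmersion_range X T hT
  haveI := hi
  obtain ⟨a, ha, H⟩ := exists_generization A (i ≫ f)
  refine ⟨a, ha, fun Ω _ _ hΩ Z fst snd hZ => ?_⟩
  rw [Set.eq_empty_iff_forall_notMem]
  intro z hz
  have hzT : fst z ∈ Set.range i := by rw [hr]; exact hz
  obtain ⟨y, hy⟩ := hzT
  have h1 : a ∉ ((i ≫ f) y : PrimeSpectrum A).asIdeal := by
    have h0 : (i ≫ f) y = f (fst z) := by rw [← hy]; rfl
    rw [h0]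
    exact notMem_asIdeal_apply_fst f fst snd hZ z hΩ
  obtain ⟨y₀, -, hy₀⟩ := H y h1
  have h2 : i y₀ ∈ Set.range (pullback.fst f (Spec.map (CommRingCat.ofHom (algebraMap A K)))) :=
    mem_range_fst_of_eq_bot A K (IsFractionRing.injective A K) f (i y₀) hy₀
  obtain ⟨z₀, hz₀⟩ := h2
  have h3 : z₀ ∈ (pullback.fst f (Spec.map (CommRingCat.ofHom (algebraMap A K)))) ⁻¹' T := by
    change pullback.fst f _ z₀ ∈ T
    rw [hz₀, ← hr]; exact ⟨y₀, rfl⟩
  rw [hemp] at h3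
  exact h3

omit [IsAlgClosed K] in
theorem exists_cover_closure :
    ∃ a : A, a ≠ 0 ∧ ∀ (Ω : Type u) [Field Ω] [Algebra A Ω], algebraMap A Ω a ≠ 0 →
      ∀ ⦃Z : Scheme.{u}⦄ (fst : Z ⟶ X) (snd : Z ⟶ Spec (CommRingCat.of Ω)),
        IsPullback fst snd f (Spec.map (CommRingCat.ofHom (algebraMap A Ω))) →
        ∀ z : Z, fst z ∈ closure
          (Set.range (pullback.fst f (Spec.map (CommRingCat.ofHom (algebraMap A K))))) := by
  obtain ⟨a, ha, H⟩ := exists_generization A f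
  refine ⟨a, ha, fun Ω _ _ hΩ Z fst snd hZ z => ?_⟩
  obtain ⟨x₀, hx₀, hfx₀⟩ := H (fst z) (notMem_asIdeal_apply_fst f fst snd hZ z hΩ)
  have h2 := mem_range_fst_of_eq_bot A K (IsFractionRing.injective A K) f x₀ hfx₀
  exact closure_mono (Set.singleton_subset_iff.mpr h2) (specializes_iff_mem_closure.mp hx₀)

end closedPieces

end Groth.Agent.H1.GIrr
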