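import Mathlib

/-!
# Counting irreducible and connected components from a finite closed cover (helper1)
-/

set_option autoImplicit false
universe u

namespace Groth.Agent.H1.GIrr

open Set

section irr

variable {Z : Type*} [TopologicalSpace Z] {C : Type*} [Finite C] (S : C → Set Z)

theorem exists_subset_of_isIrreducible_of_cover (hcl : ∀ c, IsClosed (S c))
    (hcov : ∀ z, ∃ c, z ∈ S c) {Y : Set Z} (hY : IsIrreducible Y) : ∃ c, Y ⊆ S c := by
  classical
  haveI := Fintype.ofFinite C
  have h := isIrreducible_iff_sUnion_isClosed.mp hY (Finset.univ.image S)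
    (by
      intro z hz
      obtain ⟨c, -, rfl⟩ := Finset.mem_image.mp hz
      exact hcl c)
    (by
      intro y _
      obtain ⟨c, hc⟩ := hcov y
      exact ⟨S c, Finset.mem_coe.mpr (Finset.mem_image.mpr ⟨c, Finset.mem_univ _, rfl⟩), hc⟩)
  obtain ⟨z, hz, hYz⟩ := h
  obtain ⟨c, -, rfl⟩ := Finset.mem_image.mp hz
  exact ⟨c, hYz⟩

/-- a finite irredundant cover by closed irreducible sets is the set of irreducible components. -/
theorem irreducibleComponents_eq_range (hcl : ∀ c, IsClosed (S c)) (hirr : ∀ c, IsIrreducible (S c))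
    (hcov : ∀ z, ∃ c, z ∈ S c) (hne : ∀ c c', S c ⊆ S c' → c = c') :
    irreducibleComponents Z = Set.range S := by
  ext Y
  constructor
  · intro hY
    obtain ⟨c, hc⟩ := exists_subset_of_isIrreducible_of_cover S hcl hcov hY.1
    exact ⟨c, le_antisymm (hY.2 (hirr c) hc) hc⟩
  · rintro ⟨c, rfl⟩
    refine ⟨hirr c, fun Y' hY' hsub => ?_⟩
    obtain ⟨c', hc'⟩ := exists_subset_of_isIrreducible_of_cover S hcl hcov hY'
    have : c = c' := hne c c' (hsub.trans hc')
    rw [this]
    exact hc'

theorem encard_irreducibleComponents_eq (hcl : ∀ c, IsClosed (S c))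
    (hirr : ∀ c, IsIrreducible (S c)) (hcov : ∀ z, ∃ c, z ∈ S c)
    (hne : ∀ c c', S c ⊆ S c' → c = c') : (irreducibleComponents Z).encard = ENat.card C := by
  rw [irreducibleComponents_eq_range S hcl hirr hcov hne]
  have hinj : Function.Injective S := fun c c' h => hne c c' h.le
  rw [← Set.image_univ, hinj.encard_image, Set.encard_univ]

end irr

section conn

variable {Z : Type*} [TopologicalSpace Z] {C : Type*} [Finite C] (S : C → Set Z)

/-- the union of the members of a class of the intersection relation. -/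
def classUnion (κ : Quot (fun c c' : C => (S c ∩ S c').Nonempty)) : Set Z :=
  ⋃ c ∈ {c : C | Quot.mk _ c = κ}, S c

theorem isClosed_classUnion (hcl : ∀ c, IsClosed (S c))
    (κ : Quot (fun c c' : C => (S c ∩ S c').Nonempty)) : IsClosed (classUnion S κ) :=
  (Set.toFinite _).isClosed_biUnion (fun c _ => hcl c)

theorem mem_classUnion_of_mem {c : C} {z : Z} (hz : z ∈ S c) :
    z ∈ classUnion S (Quot.mk _ c) :=
  Set.mem_biUnion (show c ∈ {c' : C | Quot.mk _ c' = Quot.mk _ c} from rfl) hz

theorem eq_of_mem_classUnion {c : C} {z : Z} (hz : z ∈ S c)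
    {κ : Quot (fun c c' : C => (S c ∩ S c').Nonempty)} (hκ : z ∈ classUnion S κ) :
    Quot.mk _ c = κ := by
  obtain ⟨c', hc', hz'⟩ := Set.mem_iUnion₂.mp hκ
  rw [← show Quot.mk _ c' = κ from hc']
  exact Quot.sound ⟨z, hz, hz'⟩

theorem isClopen_classUnion (hcl : ∀ c, IsClosed (S c)) (hcov : ∀ z, ∃ c, z ∈ S c)
    (κ : Quot (fun c c' : C => (S c ∩ S c').Nonempty)) : IsClopen (classUnion S κ) := by
  refine ⟨isClosed_classUnion S hcl κ, ?_⟩
  have hcompl : (classUnion S κ)ᶜ = ⋃ κ' ∈ {κ' | κ' ≠ κ}, classUnion S κ' := by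
    ext z
    simp only [Set.mem_compl_iff, Set.mem_iUnion, Set.mem_ofPred_eq, exists_prop]
    obtain ⟨c, hc⟩ := hcov z
    constructor
    · intro hz
      refine ⟨Quot.mk _ c, ?_, mem_classUnion_of_mem S hc⟩
      intro h
      exact hz (h ▸ mem_classUnion_of_mem S hc)
    · rintro ⟨κ', hκ', hz⟩ hzκ
      exact hκ' ((eq_of_mem_classUnion S hc hz).symm.trans (eq_of_mem_classUnion S hc hzκ))
  rw [← isClosed_compl_iff, hcompl]
  exact (Set.toFinite _).isClosed_biUnion (fun κ' _ => isClosed_classUnion S hcl κ')

/-- connected components of a space covered by finitely many closed connected sets correspond to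
the classes of the intersection relation. -/
theorem nonempty_connectedComponents_equiv (hcl : ∀ c, IsClosed (S c))
    (hconn : ∀ c, IsConnected (S c)) (hcov : ∀ z, ∃ c, z ∈ S c) :
    Nonempty (Quot (fun c c' : C => (S c ∩ S c').Nonempty) ≃ ConnectedComponents Z) := by
  classical
  choose pt hpt using fun c => (hconn c).nonempty
  have hsub : ∀ c z, z ∈ S c → S c ⊆ connectedComponent z :=
    fun c z hz => (hconn c).isPreconnected.subset_connectedComponent hz
  have hwd : ∀ c c', (S c ∩ S c').Nonempty →
      (ConnectedComponents.mk (pt c) : ConnectedComponents Z) = ConnectedComponents.mk (pt c') := by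
    rintro c c' ⟨w, hw, hw'⟩
    have h1 : (ConnectedComponents.mk (pt c) : ConnectedComponents Z) = ConnectedComponents.mk w :=
      ConnectedComponents.coe_eq_coe'.mpr (hsub c w hw (hpt c))
    have h2 : (ConnectedComponents.mk (pt c') : ConnectedComponents Z) =
        ConnectedComponents.mk w :=
      ConnectedComponents.coe_eq_coe'.mpr (hsub c' w hw' (hpt c'))
    rw [h1, h2]
  refine ⟨Equiv.ofBijective (Quot.lift (fun c => (ConnectedComponents.mk (pt c) :
    ConnectedComponents Z)) hwd) ⟨?_, ?_⟩⟩
  · intro κ κ' h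
    induction κ using Quot.ind with | _ c => ?_
    induction κ' using Quot.ind with | _ c' => ?_
    have h' : (ConnectedComponents.mk (pt c) : ConnectedComponents Z) =
        ConnectedComponents.mk (pt c') := h
    have hmem : pt c' ∈ connectedComponent (pt c) :=
      (ConnectedComponents.coe_eq_coe'.mp h'.symm)
    have hcl' := isClopen_classUnion S hcl hcov (Quot.mk _ c)
    have hsub' : connectedComponent (pt c) ⊆ classUnion S (Quot.mk _ c) :=
      isPreconnected_connectedComponent.subset_isClopen hcl'
        ⟨pt c, mem_connectedComponent, mem_classUnion_of_mem S (hpt c)⟩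
    exact (eq_of_mem_classUnion S (hpt c') (hsub' hmem)).symm
  · intro x
    induction x using Quot.ind with | _ z => ?_
    obtain ⟨c, hc⟩ := hcov z
    refine ⟨Quot.mk _ c, ?_⟩
    exact ConnectedComponents.coe_eq_coe'.mpr (hsub c z hc (hpt c))

end conn

end Groth.Agent.H1.GIrr
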