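import Mathlib
import Groth.Agent.Lib.Helper1.GIrrG
import Groth.Agent.Lib.Helper1.GIrrH

/-!
# The numbers of irreducible / connected components of geometric fibres are generically constant
(helper1): the case of a base `Spec A`, `A` a domain with algebraically closed fraction field.
-/

set_option autoImplicit false
set_option linter.style.haveILetI false
universe u

open TensorProduct AlgebraicGeometry CategoryTheory CategoryTheory.Limits Topology

namespace Groth.Agent.H1.GIrr

theorem counts_of_good {Z : Type*} [TopologicalSpace Z] {C : Type*} [Finite C] (S : C → Set Z)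
    (r₀ : C → C → Prop) (hcl : ∀ c, IsClosed (S c)) (hirr : ∀ c, IsIrreducible (S c))
    (hcov : ∀ z, ∃ c, z ∈ S c) (hne : ∀ c c', c ≠ c' → ¬ S c ⊆ S c')
    (hint : ∀ c c', (S c ∩ S c').Nonempty ↔ r₀ c c') :
    (irreducibleComponents Z).encard = ENat.card C ∧
      ENat.card (_root_.ConnectedComponents Z) = ENat.card (Quot r₀) := by
  refine ⟨encard_irreducibleComponents_eq S hcl hirr hcov
    (fun c c' h => by_contra fun hcc => hne c c' hcc h), ?_⟩
  have hr : (fun c c' : C => (S c ∩ S c').Nonempty) = r₀ := by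
    funext c c'; exact propext (hint c c')
  obtain ⟨e⟩ := nonempty_connectedComponents_equiv S hcl (fun c => (hirr c).isConnected) hcov
  rw [← hr]
  exact (ENat.card_congr e).symm

section decomposition

variable (A K : Type u) [CommRing A] [IsDomain A] [Field K] [Algebra A K] [IsFractionRing A K]
  [IsAlgClosed K] {X : Scheme.{u}} (f : X ⟶ Spec (CommRingCat.of A)) [LocallyOfFiniteType f]
  [QuasiCompact f]

omit [IsDomain A] [IsFractionRing A K] [IsAlgClosed K] in
theorem finite_irreducibleComponents_generic :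
    (irreducibleComponents
      ↥(pullback f (Spec.map (CommRingCat.ofHom (algebraMap A K))))).Finite := by
  haveI : IsLocallyNoetherian (pullback f (Spec.map (CommRingCat.ofHom (algebraMap A K)))) :=
    LocallyOfFiniteType.isLocallyNoetherian
      (pullback.snd f (Spec.map (CommRingCat.ofHom (algebraMap A K))))
  haveI : CompactSpace ↥(pullback f (Spec.map (CommRingCat.ofHom (algebraMap A K)))) :=
    QuasiCompact.compactSpace_of_compactSpace
      (pullback.snd f (Spec.map (CommRingCat.ofHom (algebraMap A K))))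
  haveI : IsNoetherian (pullback f (Spec.map (CommRingCat.ofHom (algebraMap A K)))) := {}
  exact TopologicalSpace.NoetherianSpace.finite_irreducibleComponents

omit [IsDomain A] [IsAlgClosed K] [LocallyOfFiniteType f] [QuasiCompact f] in
theorem preimage_closure_image
    (c : Set ↥(pullback f (Spec.map (CommRingCat.ofHom (algebraMap A K))))) (hc : IsClosed c) :
    (pullback.fst f (Spec.map (CommRingCat.ofHom (algebraMap A K)))) ⁻¹'
      closure ((pullback.fst f (Spec.map (CommRingCat.ofHom (algebraMap A K)))) '' c) = c := by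
  haveI : IsPreimmersion (Spec.map (CommRingCat.ofHom (algebraMap A K))) :=
    IsPreimmersion.of_isLocalization (nonZeroDivisors A)
  haveI : IsPreimmersion (pullback.fst f (Spec.map (CommRingCat.ofHom (algebraMap A K)))) :=
    MorphismProperty.pullback_fst (P := @IsPreimmersion) f _ inferInstance
  have hemb := (pullback.fst f (Spec.map (CommRingCat.ofHom (algebraMap A K)))).isEmbedding
  rw [← hemb.isInducing.closure_eq_preimage_closure_image, hc.closure_eq]

set_option maxHeartbeats 1000000 in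
theorem exists_good :
    ∃ a : A, a ≠ 0 ∧ ∀ (Ω : Type u) [Field Ω] [Algebra A Ω], algebraMap A Ω a ≠ 0 →
      ∀ ⦃Z : Scheme.{u}⦄ (fst : Z ⟶ X) (snd : Z ⟶ Spec (CommRingCat.of Ω)),
        IsPullback fst snd f (Spec.map (CommRingCat.ofHom (algebraMap A Ω))) →
        (irreducibleComponents Z).encard = ENat.card ↥(irreducibleComponents
          ↥(pullback f (Spec.map (CommRingCat.ofHom (algebraMap A K))))) ∧
        ENat.card (_root_.ConnectedComponents Z) = ENat.card (Quot (fun c c' : ↥(irreducibleComponents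
          ↥(pullback f (Spec.map (CommRingCat.ofHom (algebraMap A K))))) =>
            (c.1 ∩ c'.1).Nonempty)) := by
  classical
  haveI : Finite ↥(irreducibleComponents
      ↥(pullback f (Spec.map (CommRingCat.ofHom (algebraMap A K))))) :=
    (finite_irreducibleComponents_generic A K f).to_subtype
  obtain ⟨T, hT⟩ : ∃ T : ↥(irreducibleComponents
      ↥(pullback f (Spec.map (CommRingCat.ofHom (algebraMap A K))))) → Set X,
      T = fun c => closure
        ((pullback.fst f (Spec.map (CommRingCat.ofHom (algebraMap A K)))) '' c.1) := ⟨_, rfl⟩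
  have hTcl : ∀ c, IsClosed (T c) := fun c => by rw [hT]; exact isClosed_closure
  have hpre : ∀ c, (pullback.fst f (Spec.map (CommRingCat.ofHom (algebraMap A K)))) ⁻¹' T c =
      c.1 := fun c => by
    rw [hT]
    exact preimage_closure_image A K f c.1 (isClosed_of_mem_irreducibleComponents c.1 c.2)
  -- (i) irreducibility
  have h1 : ∀ c, ∃ a : A, a ≠ 0 ∧ ∀ (Ω : Type u) [Field Ω] [Algebra A Ω], algebraMap A Ω a ≠ 0 →
      ∀ ⦃Z : Scheme.{u}⦄ (fst : Z ⟶ X) (snd : Z ⟶ Spec (CommRingCat.of Ω)),
        IsPullback fst snd f (Spec.map (CommRingCat.ofHom (algebraMap A Ω))) →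
        IsIrreducible (fst ⁻¹' T c) := fun c =>
    exists_irreducible_preimage A K f (T c) (hTcl c) (by rw [hpre c]; exact c.2.1)
  choose a₁ ha₁ H₁ using h1
  -- (ii) cover
  obtain ⟨a₂, ha₂, H₂⟩ := exists_cover_closure A K f
  have hcov₀ : closure (Set.range
      (pullback.fst f (Spec.map (CommRingCat.ofHom (algebraMap A K))))) ⊆ ⋃ c, T c := by
    refine closure_minimal ?_ (isClosed_iUnion_of_finite hTcl)
    rintro _ ⟨z₀, rfl⟩
    refine Set.mem_iUnion.mpr ⟨⟨irreducibleComponent z₀,
      irreducibleComponent_mem_irreducibleComponents z₀⟩, ?_⟩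
    rw [hT]
    exact subset_closure ⟨z₀, mem_irreducibleComponent, rfl⟩
  -- (iii) non-containment
  have h3 : ∀ c c', ∃ a : A, a ≠ 0 ∧ (c ≠ c' → ∀ (Ω : Type u) [Field Ω] [Algebra A Ω],
      algebraMap A Ω a ≠ 0 →
      ∀ ⦃Z : Scheme.{u}⦄ (fst : Z ⟶ X) (snd : Z ⟶ Spec (CommRingCat.of Ω)),
        IsPullback fst snd f (Spec.map (CommRingCat.ofHom (algebraMap A Ω))) →
        (fst ⁻¹' (T c ∩ (T c')ᶜ)).Nonempty) := by
    intro c c'
    by_cases hcc : c = c'
    · exact ⟨1, one_ne_zero, fun h => absurd hcc h⟩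
    · have hne : ((pullback.fst f (Spec.map (CommRingCat.ofHom (algebraMap A K)))) ⁻¹'
          (T c ∩ (T c')ᶜ)).Nonempty := by
        rw [Set.preimage_inter, Set.preimage_compl, hpre, hpre]
        by_contra hemp
        rw [Set.not_nonempty_iff_eq_empty, ← Set.sdiff_eq, Set.sdiff_eq_empty] at hemp
        exact hcc (Subtype.ext (le_antisymm hemp (c.2.2 c'.2.1 hemp)))
      obtain ⟨a, ha, H⟩ := exists_nonempty_preimage A K f (T c) (hTcl c) (T c')ᶜ
        (hTcl c').isOpen_compl hne
      exact ⟨a, ha, fun _ => H⟩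
  choose a₃ ha₃ H₃ using h3
  -- (iv) intersection pattern
  have h4 : ∀ c c', ∃ a : A, a ≠ 0 ∧ ∀ (Ω : Type u) [Field Ω] [Algebra A Ω],
      algebraMap A Ω a ≠ 0 →
      ∀ ⦃Z : Scheme.{u}⦄ (fst : Z ⟶ X) (snd : Z ⟶ Spec (CommRingCat.of Ω)),
        IsPullback fst snd f (Spec.map (CommRingCat.ofHom (algebraMap A Ω))) →
        ((fst ⁻¹' T c ∩ fst ⁻¹' T c').Nonempty ↔ (c.1 ∩ c'.1).Nonempty) := by
    intro c c'
    by_cases hne : (c.1 ∩ c'.1).Nonempty
    · have hne' : ((pullback.fst f (Spec.map (CommRingCat.ofHom (algebraMap A K)))) ⁻¹'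
          ((T c ∩ T c') ∩ Set.univ)).Nonempty := by
        rw [Set.inter_univ, Set.preimage_inter, hpre, hpre]; exact hne
      obtain ⟨a, ha, H⟩ := exists_nonempty_preimage A K f (T c ∩ T c')
        ((hTcl c).inter (hTcl c')) Set.univ isOpen_univ hne'
      refine ⟨a, ha, fun Ω _ _ hΩ Z fst snd hZ => ⟨fun _ => hne, fun _ => ?_⟩⟩
      have := H Ω hΩ fst snd hZ
      rwa [Set.inter_univ, Set.preimage_inter] at this
    · have hemp : (pullback.fst f (Spec.map (CommRingCat.ofHom (algebraMap A K)))) ⁻¹'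
          (T c ∩ T c') = ∅ := by
        rw [Set.preimage_inter, hpre, hpre]; exact Set.not_nonempty_iff_eq_empty.mp hne
      obtain ⟨a, ha, H⟩ := exists_empty_preimage A K f (T c ∩ T c')
        ((hTcl c).inter (hTcl c')) hemp
      refine ⟨a, ha, fun Ω _ _ hΩ Z fst snd hZ => ⟨fun h => ?_, fun h => absurd h hne⟩⟩
      have := H Ω hΩ fst snd hZ
      rw [Set.preimage_inter] at this
      rw [this] at h
      exact absurd h Set.not_nonempty_empty
  choose a₄ ha₄ H₄ using h4
  haveI : Fintype ↥(irreducibleComponents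
      ↥(pullback f (Spec.map (CommRingCat.ofHom (algebraMap A K))))) := Fintype.ofFinite _
  refine ⟨((∏ c, a₁ c) * a₂) * ((∏ c, ∏ c', a₃ c c') * (∏ c, ∏ c', a₄ c c')), ?_,
    fun Ω _ _ haΩ Z fst snd hZ => ?_⟩
  · exact mul_ne_zero (mul_ne_zero (Finset.prod_ne_zero_iff.mpr fun c _ => ha₁ c) ha₂)
      (mul_ne_zero
        (Finset.prod_ne_zero_iff.mpr fun c _ => Finset.prod_ne_zero_iff.mpr fun c' _ => ha₃ c c')
        (Finset.prod_ne_zero_iff.mpr fun c _ => Finset.prod_ne_zero_iff.mpr fun c' _ => ha₄ c c'))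
  · rw [map_mul, map_mul, map_mul, mul_ne_zero_iff, mul_ne_zero_iff, mul_ne_zero_iff] at haΩ
    obtain ⟨⟨hΩ1, hΩ2⟩, hΩ3, hΩ4⟩ := haΩ
    have k1 : ∀ c, algebraMap A Ω (a₁ c) ≠ 0 := by
      intro c
      rw [map_prod] at hΩ1
      exact Finset.prod_ne_zero_iff.mp hΩ1 c (Finset.mem_univ _)
    have k3 : ∀ c c', algebraMap A Ω (a₃ c c') ≠ 0 := by
      intro c c'
      rw [map_prod] at hΩ3
      have h := Finset.prod_ne_zero_iff.mp hΩ3 c (Finset.mem_univ _)
      rw [map_prod] at h
      exact Finset.prod_ne_zero_iff.mp h c' (Finset.mem_univ _)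
    have k4 : ∀ c c', algebraMap A Ω (a₄ c c') ≠ 0 := by
      intro c c'
      rw [map_prod] at hΩ4
      have h := Finset.prod_ne_zero_iff.mp hΩ4 c (Finset.mem_univ _)
      rw [map_prod] at h
      exact Finset.prod_ne_zero_iff.mp h c' (Finset.mem_univ _)
    refine counts_of_good (fun c => fst ⁻¹' T c) _ (fun c => (hTcl c).preimage fst.continuous)
      (fun c => H₁ c Ω (k1 c) fst snd hZ) (fun z => ?_) (fun c c' hcc hsub => ?_)
      (fun c c' => H₄ c c' Ω (k4 c c') fst snd hZ)
    · have := hcov₀ (H₂ Ω hΩ2 fst snd hZ z)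
      obtain ⟨c, hc⟩ := Set.mem_iUnion.mp this
      exact ⟨c, hc⟩
    · obtain ⟨z, hz1, hz2⟩ := H₃ c c' hcc Ω (k3 c c') fst snd hZ
      exact hz2 (hsub hz1)

/-- the numbers of irreducible and of connected components of the geometric fibres over a dense
open agree with those of the generic geometric fibre. -/
theorem exists_counts_eq :
    ∃ a : A, a ≠ 0 ∧ ∀ (Ω : Type u) [Field Ω] [Algebra A Ω], algebraMap A Ω a ≠ 0 →
      ∀ ⦃Z : Scheme.{u}⦄ (fst : Z ⟶ X) (snd : Z ⟶ Spec (CommRingCat.of Ω)),
        IsPullback fst snd f (Spec.map (CommRingCat.ofHom (algebraMap A Ω))) →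
        (irreducibleComponents Z).encard = (irreducibleComponents
          ↥(pullback f (Spec.map (CommRingCat.ofHom (algebraMap A K))))).encard ∧
        ENat.card (_root_.ConnectedComponents Z) = ENat.card (_root_.ConnectedComponents
          ↥(pullback f (Spec.map (CommRingCat.ofHom (algebraMap A K))))) := by
  obtain ⟨a, ha, H⟩ := exists_good A K f
  refine ⟨a, ha, fun Ω _ _ hΩ Z fst snd hZ => ?_⟩
  have hK : algebraMap A K a ≠ 0 := fun h =>
    ha ((IsFractionRing.injective A K) (by rw [h, map_zero]))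
  obtain ⟨h1, h2⟩ := H Ω hΩ fst snd hZ
  obtain ⟨h1', h2'⟩ := H K hK _ _
    (IsPullback.of_hasPullback f (Spec.map (CommRingCat.ofHom (algebraMap A K))))
  exact ⟨h1.trans h1'.symm, h2.trans h2'.symm⟩

end decomposition

end Groth.Agent.H1.GIrr
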