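import Mathlib
import Groth.Agent.Lib.Helper1.GIrrI
import Groth.Agent.Lib.Helper3.GeomFibBC
import Groth.Prelude.Def_MoreMor

/-!
# Generic constancy of the numbers of geometric irreducible / connected components (helper1)
-/

set_option autoImplicit false
set_option linter.style.haveILetI false
universe u

open TensorProduct AlgebraicGeometry CategoryTheory CategoryTheory.Limits Topology

namespace Groth.Agent.H1.GIrr

/-! ### comparison with the geometric fibre of the Prelude -/

set_option backward.isDefEq.respectTransparency false in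
/-- the comparison map from a base change to a separably closed field to the geometric fibre. -/
theorem exists_geomFiber_map {X Y : Scheme.{u}} (f : X ⟶ Y) (Ω : Type u) [Field Ω] [IsSepClosed Ω]
    (g : Spec (CommRingCat.of Ω) ⟶ Y) {Z : Scheme.{u}} (fst : Z ⟶ X)
    (snd : Z ⟶ Spec (CommRingCat.of Ω)) (hZ : IsPullback fst snd f g) (y : Y)
    (hy : ∀ w, g w = y) :
    ∃ q : Z ⟶ MoreMor.geomFiber f y,
      GeometricallyIrreducible q ∧ GeometricallyConnected q ∧ UniversallyOpen q := by
  obtain ⟨⟨y', φ⟩, rfl⟩ := (Scheme.SpecToEquivOfField _ _).symm.surjective g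
  have hy' : y' = y := by
    have := hy (IsLocalRing.closedPoint Ω)
    simpa [Scheme.SpecToEquivOfField] using this
  subst hy'
  simp only [Scheme.SpecToEquivOfField, Equiv.coe_fn_symm_mk] at hZ
  letI : Algebra (Y.residueField y') Ω := φ.hom.toAlgebra
  obtain ⟨ψ, hψ0⟩ : ∃ ψ : SeparableClosure (Y.residueField y') →+* Ω,
      ψ.comp (algebraMap (Y.residueField y') (SeparableClosure (Y.residueField y'))) = φ.hom := by
    let ψ' : SeparableClosure (Y.residueField y') →ₐ[Y.residueField y'] Ω := IsSepClosed.lift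
    refine ⟨ψ'.toRingHom, RingHom.ext fun a => ?_⟩
    rw [RingHom.comp_apply]
    exact ψ'.commutes a
  have hψ : Spec.map (CommRingCat.ofHom ψ) ≫ Spec.map (CommRingCat.ofHom
      (algebraMap (Y.residueField y') (SeparableClosure (Y.residueField y')))) = Spec.map φ := by
    rw [← Spec.map_comp]
    congr 1
    refine CommRingCat.hom_ext ?_
    rw [CommRingCat.hom_comp, CommRingCat.hom_ofHom, CommRingCat.hom_ofHom]
    exact hψ0
  have hgeo : IsPullback (pullback.fst (f.fiberToSpecResidueField y') (Spec.map (CommRingCat.ofHom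
      (algebraMap (Y.residueField y') (SeparableClosure (Y.residueField y'))))))
      (pullback.snd (f.fiberToSpecResidueField y') (Spec.map (CommRingCat.ofHom
      (algebraMap (Y.residueField y') (SeparableClosure (Y.residueField y'))))))
      (f.fiberToSpecResidueField y') (Spec.map (CommRingCat.ofHom
      (algebraMap (Y.residueField y') (SeparableClosure (Y.residueField y'))))) :=
    IsPullback.of_hasPullback _ _
  have hfib : IsPullback (f.fiberι y') (f.fiberToSpecResidueField y') f
      (Y.fromSpecResidueField y') := IsPullback.of_hasPullback f (Y.fromSpecResidueField y')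
  have big := hgeo.paste_horiz hfib
  have e2' : Spec.map (CommRingCat.ofHom ψ) ≫ (Spec.map (CommRingCat.ofHom
      (algebraMap (Y.residueField y') (SeparableClosure (Y.residueField y')))) ≫
      Y.fromSpecResidueField y') = Spec.map φ ≫ Y.fromSpecResidueField y' := by
    rw [← Category.assoc, hψ]
  have hw : fst ≫ f = (snd ≫ Spec.map (CommRingCat.ofHom ψ)) ≫ (Spec.map (CommRingCat.ofHom
      (algebraMap (Y.residueField y') (SeparableClosure (Y.residueField y')))) ≫
      Y.fromSpecResidueField y') := by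
    rw [Category.assoc, e2']
    exact hZ.w
  have e1 : big.lift fst (snd ≫ Spec.map (CommRingCat.ofHom ψ)) hw ≫
      (pullback.fst (f.fiberToSpecResidueField y') (Spec.map (CommRingCat.ofHom
      (algebraMap (Y.residueField y') (SeparableClosure (Y.residueField y'))))) ≫
      f.fiberι y') = fst := big.lift_fst _ _ _
  have e2 : big.lift fst (snd ≫ Spec.map (CommRingCat.ofHom ψ)) hw ≫
      pullback.snd (f.fiberToSpecResidueField y') (Spec.map (CommRingCat.ofHom
      (algebraMap (Y.residueField y') (SeparableClosure (Y.residueField y'))))) =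
      snd ≫ Spec.map (CommRingCat.ofHom ψ) := big.lift_snd _ _ _
  have big' : IsPullback (big.lift fst (snd ≫ Spec.map (CommRingCat.ofHom ψ)) hw ≫
      (pullback.fst (f.fiberToSpecResidueField y') (Spec.map (CommRingCat.ofHom
      (algebraMap (Y.residueField y') (SeparableClosure (Y.residueField y'))))) ≫
      f.fiberι y')) snd f (Spec.map (CommRingCat.ofHom ψ) ≫ (Spec.map (CommRingCat.ofHom
      (algebraMap (Y.residueField y') (SeparableClosure (Y.residueField y')))) ≫
      Y.fromSpecResidueField y')) := by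
    rw [e1, e2']
    exact hZ
  have hq : IsPullback (big.lift fst (snd ≫ Spec.map (CommRingCat.ofHom ψ)) hw) snd
      (pullback.snd (f.fiberToSpecResidueField y') (Spec.map (CommRingCat.ofHom
      (algebraMap (Y.residueField y') (SeparableClosure (Y.residueField y'))))))
      (Spec.map (CommRingCat.ofHom ψ)) := IsPullback.of_right big' e2 big
  letI : Algebra (SeparableClosure (Y.residueField y')) Ω := ψ.toAlgebra
  have hgi : GeometricallyIrreducible (Spec.map (CommRingCat.ofHom ψ)) :=
    Groth.Agent.H3.GeomFibBC.geometricallyIrreducible_SpecMap_sepClosed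
      (SeparableClosure (Y.residueField y')) Ω
  have hgc : GeometricallyConnected (Spec.map (CommRingCat.ofHom ψ)) :=
    Groth.Agent.H3.GeomFibBC.geometricallyConnected_SpecMap_sepClosed
      (SeparableClosure (Y.residueField y')) Ω
  have huo : UniversallyOpen (Spec.map (CommRingCat.ofHom ψ)) :=
    Groth.Agent.H3.FBaseComp.universallyOpen_SpecMap (SeparableClosure (Y.residueField y')) Ω
  exact ⟨big.lift fst (snd ≫ Spec.map (CommRingCat.ofHom ψ)) hw,
    MorphismProperty.of_isPullback (P := @GeometricallyIrreducible) hq.flip hgi,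
    MorphismProperty.of_isPullback (P := @GeometricallyConnected) hq.flip hgc,
    MorphismProperty.of_isPullback (P := @UniversallyOpen) hq.flip huo⟩

theorem nGeom_eq_of_isPullback {X Y : Scheme.{u}} (f : X ⟶ Y) (Ω : Type u) [Field Ω]
    [IsSepClosed Ω] (g : Spec (CommRingCat.of Ω) ⟶ Y) {Z : Scheme.{u}} (fst : Z ⟶ X)
    (snd : Z ⟶ Spec (CommRingCat.of Ω)) (hZ : IsPullback fst snd f g) (y : Y)
    (hy : ∀ w, g w = y) :
    MoreMor.nGeomIrredComp f y = (irreducibleComponents Z).encard ∧
      MoreMor.nGeomConnComp f y = ENat.card (_root_.ConnectedComponents Z) := by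
  obtain ⟨q, h1, h2, h3⟩ := exists_geomFiber_map f Ω g fst snd hZ y hy
  haveI := h1
  haveI := h2
  haveI := h3
  exact ⟨(Set.encard_congr (q.irreducibleComponentsEquiv q.isOpenMap)).symm,
    (ENat.card_congr (q.connectedComponentsHomeomorph q.isOpenMap).toEquiv).symm⟩

/-- the pair of counting functions. -/
noncomputable def cnt {X Y : Scheme.{u}} (f : X ⟶ Y) (y : Y) : ℕ∞ × ℕ∞ :=
  (MoreMor.nGeomIrredComp f y, MoreMor.nGeomConnComp f y)

theorem cnt_baseChange {X Y X' Y' : Scheme.{u}} (f : X ⟶ Y) (f' : X' ⟶ Y') (g' : X' ⟶ X)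
    (g : Y' ⟶ Y) (hc : IsPullback g' f' f g) (y' : Y') : cnt f' y' = cnt f (g y') :=
  Prod.ext (Groth.Agent.H3.GeomFibBC.nGeomIrredComp_baseChange f f' g' g hc y')
    (Groth.Agent.H3.GeomFibBC.nGeomConnComp_baseChange f f' g' g hc y')

theorem cnt_eq_of_isPullback {X Y : Scheme.{u}} (f : X ⟶ Y) (Ω : Type u) [Field Ω]
    [IsSepClosed Ω] (g : Spec (CommRingCat.of Ω) ⟶ Y) {Z : Scheme.{u}} (fst : Z ⟶ X)
    (snd : Z ⟶ Spec (CommRingCat.of Ω)) (hZ : IsPullback fst snd f g) (y : Y)
    (hy : ∀ w, g w = y) :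
    cnt f y = ((irreducibleComponents Z).encard, ENat.card (_root_.ConnectedComponents Z)) :=
  Prod.ext (nGeom_eq_of_isPullback f Ω g fst snd hZ y hy).1
    (nGeom_eq_of_isPullback f Ω g fst snd hZ y hy).2

/-! ### over `Spec A` -/

theorem exists_sepClosed_field (A : Type u) [CommRing A] (p : PrimeSpectrum A) :
    ∃ (Ω : Type u) (_ : Field Ω) (_ : Algebra A Ω), IsSepClosed Ω ∧
      RingHom.ker (algebraMap A Ω) = p.asIdeal := by
  letI alg : Algebra A (AlgebraicClosure p.asIdeal.ResidueField) :=
    ((algebraMap p.asIdeal.ResidueField (AlgebraicClosure p.asIdeal.ResidueField)).comp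
      (algebraMap A p.asIdeal.ResidueField)).toAlgebra
  refine ⟨AlgebraicClosure p.asIdeal.ResidueField, inferInstance, alg, inferInstance, ?_⟩
  ext x
  rw [RingHom.mem_ker]
  change algebraMap p.asIdeal.ResidueField (AlgebraicClosure p.asIdeal.ResidueField)
    (algebraMap A p.asIdeal.ResidueField x) = 0 ↔ _
  rw [map_eq_zero_iff _ (algebraMap p.asIdeal.ResidueField
    (AlgebraicClosure p.asIdeal.ResidueField)).injective, Ideal.algebraMap_residueField_eq_zero]

theorem cnt_spec_of_algClosed (A K : Type u) [CommRing A] [IsDomain A] [Field K] [Algebra A K]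
    [IsFractionRing A K] [IsAlgClosed K] {X : Scheme.{u}} (f : X ⟶ Spec (CommRingCat.of A))
    [LocallyOfFiniteType f] [QuasiCompact f] :
    ∃ a : A, a ≠ 0 ∧ ∀ p : PrimeSpectrum A, a ∉ p.asIdeal →
      cnt f p = cnt f (⟨⊥, Ideal.isPrime_bot⟩ : PrimeSpectrum A) := by
  obtain ⟨a, ha, H⟩ := exists_counts_eq A K f
  refine ⟨a, ha, fun p hp => ?_⟩
  obtain ⟨Ω, _, _, _, hker⟩ := exists_sepClosed_field A p
  have hΩ : algebraMap A Ω a ≠ 0 := fun h => hp (by rw [← hker]; exact RingHom.mem_ker.mpr h)
  have hpt : ∀ w, (Spec.map (CommRingCat.ofHom (algebraMap A Ω))) w = p := by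
    intro w
    apply PrimeSpectrum.ext
    change Ideal.comap (algebraMap A Ω) (w : PrimeSpectrum Ω).asIdeal = p.asIdeal
    rw [← hker, Ideal.eq_bot_of_prime (w : PrimeSpectrum Ω).asIdeal, RingHom.ker_eq_comap_bot]
  have hpt₀ : ∀ w, (Spec.map (CommRingCat.ofHom (algebraMap A K))) w =
      (⟨⊥, Ideal.isPrime_bot⟩ : PrimeSpectrum A) := by
    intro w
    apply PrimeSpectrum.ext
    change Ideal.comap (algebraMap A K) (w : PrimeSpectrum K).asIdeal = ⊥
    rw [Ideal.eq_bot_of_prime (w : PrimeSpectrum K).asIdeal, ← RingHom.ker_eq_comap_bot]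
    exact (RingHom.injective_iff_ker_eq_bot _).mp (IsFractionRing.injective A K)
  have e1 := cnt_eq_of_isPullback f Ω _ _ _
    (IsPullback.of_hasPullback f (Spec.map (CommRingCat.ofHom (algebraMap A Ω)))) p hpt
  have e0 := cnt_eq_of_isPullback f K _ _ _
    (IsPullback.of_hasPullback f (Spec.map (CommRingCat.ofHom (algebraMap A K)))) _ hpt₀
  obtain ⟨h1, h2⟩ := H Ω hΩ _ _
    (IsPullback.of_hasPullback f (Spec.map (CommRingCat.ofHom (algebraMap A Ω))))
  rw [e1, e0, h1, h2]

set_option maxHeartbeats 1000000 in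
theorem cnt_spec (A : Type u) [CommRing A] [IsDomain A] {X : Scheme.{u}}
    (f : X ⟶ Spec (CommRingCat.of A)) [LocallyOfFiniteType f] [QuasiCompact f] :
    ∃ a : A, a ≠ 0 ∧ ∀ p : PrimeSpectrum A, a ∉ p.asIdeal →
      cnt f p = cnt f (⟨⊥, Ideal.isPrime_bot⟩ : PrimeSpectrum A) := by
  haveI : Algebra.IsAlgebraic A (AlgebraicClosure (FractionRing A)) :=
    IsFractionRing.comap_isAlgebraic_iff.mpr
      (inferInstance : Algebra.IsAlgebraic (FractionRing A) (AlgebraicClosure (FractionRing A)))
  have hinjL : Function.Injective (algebraMap A (AlgebraicClosure (FractionRing A))) := by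
    rw [IsScalarTower.algebraMap_eq A (FractionRing A) (AlgebraicClosure (FractionRing A))]
    exact (algebraMap (FractionRing A) (AlgebraicClosure (FractionRing A))).injective.comp
      (IsFractionRing.injective A _)
  haveI : IsFractionRing (integralClosure A (AlgebraicClosure (FractionRing A)))
      (AlgebraicClosure (FractionRing A)) :=
    integralClosure.isFractionRing_of_algebraic (A := A) (fun x hx => hinjL (by rw [hx, map_zero]))
  have hinjAbar : Function.Injective
      (algebraMap A (integralClosure A (AlgebraicClosure (FractionRing A)))) := by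
    intro x y hxy
    apply hinjL
    have := congrArg (algebraMap (integralClosure A (AlgebraicClosure (FractionRing A)))
      (AlgebraicClosure (FractionRing A))) hxy
    rwa [← IsScalarTower.algebraMap_apply, ← IsScalarTower.algebraMap_apply] at this
  obtain ⟨g, hg⟩ : ∃ g : Spec (CommRingCat.of (integralClosure A
      (AlgebraicClosure (FractionRing A)))) ⟶ Spec (CommRingCat.of A),
      g = Spec.map (CommRingCat.ofHom (algebraMap A
        (integralClosure A (AlgebraicClosure (FractionRing A))))) := ⟨_, rfl⟩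
  have hgpt : ∀ q : PrimeSpectrum (integralClosure A (AlgebraicClosure (FractionRing A))),
      (g q : PrimeSpectrum A).asIdeal = Ideal.comap (algebraMap A
        (integralClosure A (AlgebraicClosure (FractionRing A)))) q.asIdeal := by
    intro q; rw [hg]; rfl
  have hBC : ∀ q : PrimeSpectrum (integralClosure A (AlgebraicClosure (FractionRing A))),
      cnt (pullback.snd f g) q = cnt f (g q) := fun q =>
    cnt_baseChange f (pullback.snd f g) (pullback.fst f g) g (IsPullback.of_hasPullback f g) q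
  have hgbot : g (⟨⊥, Ideal.isPrime_bot⟩ : PrimeSpectrum (integralClosure A
      (AlgebraicClosure (FractionRing A)))) = (⟨⊥, Ideal.isPrime_bot⟩ : PrimeSpectrum A) := by
    apply PrimeSpectrum.ext
    rw [hgpt]
    change Ideal.comap _ ⊥ = ⊥
    rw [← RingHom.ker_eq_comap_bot]
    exact (RingHom.injective_iff_ker_eq_bot _).mp hinjAbar
  obtain ⟨abar, habar, hD⟩ := cnt_spec_of_algClosed
    (integralClosure A (AlgebraicClosure (FractionRing A))) (AlgebraicClosure (FractionRing A))
    (pullback.snd f g)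
  have halg : IsAlgebraic A abar := (Algebra.IsIntegral.isIntegral abar).isAlgebraic
  obtain ⟨a, ha, hdvd⟩ := halg.exists_nonzero_dvd (mem_nonZeroDivisors_of_ne_zero habar)
  refine ⟨a, ha, fun p hp => ?_⟩
  obtain ⟨Q, -, hQ, hQp⟩ := Ideal.exists_ideal_over_prime_of_isIntegral p.asIdeal
    (⊥ : Ideal (integralClosure A (AlgebraicClosure (FractionRing A)))) (by
      rw [← RingHom.ker_eq_comap_bot, (RingHom.injective_iff_ker_eq_bot _).mp hinjAbar]
      exact bot_le)
  have hq : abar ∉ Q := by
    intro hmem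
    apply hp
    rw [← hQp, Ideal.mem_comap]
    obtain ⟨c, hc⟩ := hdvd
    rw [hc]
    exact Q.mul_mem_right _ hmem
  have h3 := hD ⟨Q, hQ⟩ hq
  have hgQ : g (⟨Q, hQ⟩ : PrimeSpectrum (integralClosure A
      (AlgebraicClosure (FractionRing A)))) = p := by
    apply PrimeSpectrum.ext
    rw [hgpt]
    exact hQp
  rw [hBC, hBC, hgQ, hgbot] at h3
  exact h3

/-! ### over an integral scheme -/

set_option backward.isDefEq.respectTransparency.types false in
theorem cnt_integral {X Z : Scheme.{u}} (f : X ⟶ Z) [IsIntegral Z] [LocallyOfFiniteType f]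
    [QuasiCompact f] :
    ∃ V : Z.Opens, genericPoint Z ∈ V ∧ ∀ z ∈ V, cnt f z = cnt f (genericPoint Z) := by
  obtain ⟨W, hW, hηW, -⟩ := exists_isAffineOpen_mem_and_subset (x := genericPoint Z)
    (U := ⊤) trivial
  haveI : IsDomain Γ(Z, W) := @IsIntegral.component_integral Z _ W ⟨⟨_, hηW⟩⟩
  have hBC : ∀ q : PrimeSpectrum Γ(Z, W),
      cnt (pullback.snd f hW.fromSpec) q = cnt f (hW.fromSpec q) := fun q =>
    cnt_baseChange f (pullback.snd f hW.fromSpec) (pullback.fst f hW.fromSpec) hW.fromSpec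
      (IsPullback.of_hasPullback f hW.fromSpec) q
  have hj : hW.fromSpec (⟨⊥, Ideal.isPrime_bot⟩ : PrimeSpectrum Γ(Z, W)) = genericPoint Z := by
    have hr : genericPoint Z ∈ Set.range hW.fromSpec := by rw [hW.range_fromSpec]; exact hηW
    obtain ⟨p₀, hp₀⟩ := hr
    have h0 : (⟨⊥, Ideal.isPrime_bot⟩ : PrimeSpectrum Γ(Z, W)) ⤳ p₀ :=
      (PrimeSpectrum.le_iff_specializes _ _).mp (show (⊥ : Ideal Γ(Z, W)) ≤ p₀.asIdeal from bot_le)
    have h1 : hW.fromSpec (⟨⊥, Ideal.isPrime_bot⟩ : PrimeSpectrum Γ(Z, W)) ⤳ genericPoint Z := by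
      rw [← hp₀]
      exact h0.map hW.fromSpec.continuous
    have h2 : genericPoint Z ⤳ hW.fromSpec (⟨⊥, Ideal.isPrime_bot⟩ : PrimeSpectrum Γ(Z, W)) :=
      (genericPoint_spec Z).specializes (Set.mem_univ _)
    exact (h1.antisymm h2).eq
  obtain ⟨a, ha, hD⟩ := cnt_spec Γ(Z, W) (pullback.snd f hW.fromSpec)
  have hmem : ∀ p : PrimeSpectrum Γ(Z, W), hW.fromSpec p ∈ Z.basicOpen a ↔ a ∉ p.asIdeal := by
    intro p
    have h1 : hW.fromSpec p ∈ Z.basicOpen a ↔ p ∈ hW.fromSpec ⁻¹ᵁ Z.basicOpen a := Iff.rfl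
    rw [h1, hW.fromSpec_preimage_basicOpen]
    rfl
  refine ⟨Z.basicOpen a, ?_, ?_⟩
  · rw [← hj]
    exact (hmem _).mpr (fun h0 => ha (by simpa using h0))
  · intro z hz
    have hzW : z ∈ W := Z.basicOpen_le a hz
    have hr : z ∈ Set.range hW.fromSpec := by rw [hW.range_fromSpec]; exact hzW
    obtain ⟨p, rfl⟩ := hr
    have h3 := hD p ((hmem p).mp hz)
    rw [hBC, hBC, hj] at h3
    exact h3

/-! ### the general case -/

theorem cnt_main {X Y : Scheme.{u}} (f : X ⟶ Y) [LocallyOfFiniteType f] [QuasiCompact f]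
    (y : Y) :
    ∃ V : Set Y, V ⊆ closure {y} ∧ y ∈ V ∧
      IsOpen (Subtype.val ⁻¹' V : Set ↥(closure ({y} : Set Y))) ∧
      ∀ y' ∈ V, cnt f y' = cnt f y := by
  obtain ⟨Z, i, hi, hr, hZ⟩ := Groth.Agent.H1.ConsFib.exists_integral_closedImmersion Y
    (closure {y}) isClosed_closure isIrreducible_singleton.closure
  haveI := hi
  haveI := hZ
  have hBC : ∀ z : Z, cnt (pullback.snd f i) z = cnt f (i z) := fun z =>
    cnt_baseChange f (pullback.snd f i) (pullback.fst f i) i (IsPullback.of_hasPullback f i) z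
  have hiη : i (genericPoint Z) = y := by
    have hy : y ∈ Set.range i := by rw [hr]; exact subset_closure rfl
    obtain ⟨z₀, hz₀⟩ := hy
    have h1 : i (genericPoint Z) ⤳ y := by
      rw [← hz₀]
      exact ((genericPoint_spec Z).specializes (Set.mem_univ z₀)).map i.continuous
    have h2 : y ⤳ i (genericPoint Z) := by
      rw [specializes_iff_mem_closure, ← hr]
      exact ⟨_, rfl⟩
    exact (h1.antisymm h2).eq
  obtain ⟨V, hηV, hV⟩ := cnt_integral (pullback.snd f i)
  obtain ⟨O, hO, hOV⟩ := i.isEmbedding.isInducing.isOpen_iff.mp V.isOpen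
  refine ⟨i '' (V : Set Z), ?_, ⟨genericPoint Z, hηV, hiη⟩, ?_, ?_⟩
  · rw [← hr]
    exact Set.image_subset_range _ _
  · have h1 : i '' (V : Set Z) = O ∩ closure {y} := by
      rw [← hOV, Set.image_preimage_eq_inter_range, hr]
    rw [h1]
    have h2 : (Subtype.val ⁻¹' (O ∩ closure {y}) : Set ↥(closure ({y} : Set Y))) =
        Subtype.val ⁻¹' O := by
      ext ⟨x, hx⟩
      simp
    rw [h2]
    exact hO.preimage continuous_subtype_val
  · rintro _ ⟨z, hz, rfl⟩
    have h3 := hV z hz
    rw [hBC, hBC, hiη] at h3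
    exact h3

/-- **S1336**. -/
theorem main1336 {X Y : Scheme.{u}} (f : X ⟶ Y) [LocallyOfFiniteType f] [QuasiCompact f]
    (y : Y) :
    ∃ V : Set Y, V ⊆ closure {y} ∧ y ∈ V ∧
      IsOpen (Subtype.val ⁻¹' V : Set ↥(closure ({y} : Set Y))) ∧
      ∀ y' ∈ V, MoreMor.nGeomIrredComp f y' = MoreMor.nGeomIrredComp f y := by
  obtain ⟨V, h1, h2, h3, h4⟩ := cnt_main f y
  exact ⟨V, h1, h2, h3, fun y' hy' => congrArg Prod.fst (h4 y' hy')⟩

/-- **S1337**. -/
theorem main1337 {X Y : Scheme.{u}} (f : X ⟶ Y) [LocallyOfFiniteType f] [QuasiCompact f]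
    (y : Y) :
    ∃ V : Set Y, V ⊆ closure {y} ∧ y ∈ V ∧
      IsOpen (Subtype.val ⁻¹' V : Set ↥(closure ({y} : Set Y))) ∧
      ∀ y' ∈ V, MoreMor.nGeomConnComp f y' = MoreMor.nGeomConnComp f y := by
  obtain ⟨V, h1, h2, h3, h4⟩ := cnt_main f y
  exact ⟨V, h1, h2, h3, fun y' hy' => congrArg Prod.snd (h4 y' hy')⟩

/-! ### geometric connectedness of fibres -/

theorem connectedSpace_of_card_eq_one {Z : Type*} [TopologicalSpace Z]
    (h : ENat.card (_root_.ConnectedComponents Z) = 1) : ConnectedSpace Z := by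
  obtain ⟨hs, hn⟩ := (unique_iff_subsingleton_and_nonempty _).mp
    (ENat.card_eq_one_iff_unique.mp h)
  haveI : Nonempty Z := _root_.ConnectedComponents.nonempty_iff_nonempty.mp hn
  obtain ⟨x⟩ := ‹Nonempty Z›
  haveI : PreconnectedSpace Z := ⟨by
    have h1 : connectedComponent x = Set.univ := by
      ext y
      simp only [Set.mem_univ, iff_true]
      exact _root_.ConnectedComponents.coe_eq_coe'.mp
        (Subsingleton.elim (_root_.ConnectedComponents.mk y) (_root_.ConnectedComponents.mk x))
    rw [← h1]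
    exact isPreconnected_connectedComponent⟩
  exact ⟨⟨x⟩⟩

theorem card_eq_one_of_connectedSpace {Z : Type*} [TopologicalSpace Z] [ConnectedSpace Z] :
    ENat.card (_root_.ConnectedComponents Z) = 1 :=
  ENat.card_eq_one_iff_unique.mpr
    ((unique_iff_subsingleton_and_nonempty _).mpr ⟨inferInstance, inferInstance⟩)

theorem nGeomConnComp_eq_one_of_geometricallyConnected {X Y : Scheme.{u}} (f : X ⟶ Y) (y : Y)
    (h : GeometricallyConnected (f.fiberToSpecResidueField y)) :
    MoreMor.nGeomConnComp f y = 1 := by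
  rw [geometricallyConnected_iff] at h
  haveI : ConnectedSpace ↥(MoreMor.geomFiber f y) :=
    h (Spec.map (CommRingCat.ofHom
      (algebraMap (Y.residueField y) (SeparableClosure (Y.residueField y)))))
      (pullback.fst _ _) (pullback.snd _ _) (IsPullback.of_hasPullback _ _)
  exact card_eq_one_of_connectedSpace

theorem geometricallyConnected_of_nGeomConnComp_eq_one {X Y : Scheme.{u}} (f : X ⟶ Y) (y : Y)
    (h : MoreMor.nGeomConnComp f y = 1) :
    GeometricallyConnected (f.fiberToSpecResidueField y) := by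
  rw [geometricallyConnected_iff, geom_fiber_iff]
  intro K _ g hg Z fst snd hZ
  have hsq := IsPullback.of_hasPullback snd
    (Spec.map (CommRingCat.ofHom (algebraMap K (AlgebraicClosure K))))
  have big := hsq.paste_horiz hZ
  have hN := (nGeom_eq_of_isPullback f (AlgebraicClosure K) _ _ _ big y
    (fun w => hg _)).2
  rw [h] at hN
  haveI : ConnectedSpace ↥(pullback snd
      (Spec.map (CommRingCat.ofHom (algebraMap K (AlgebraicClosure K))))) :=
    connectedSpace_of_card_eq_one hN.symm
  haveI : Surjective (Spec.map (CommRingCat.ofHom (algebraMap K (AlgebraicClosure K)))) :=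
    Groth.Agent.H1.GeomFiber.surjective_SpecMap_field _
  haveI : Surjective (pullback.fst snd
      (Spec.map (CommRingCat.ofHom (algebraMap K (AlgebraicClosure K))))) :=
    MorphismProperty.pullback_fst (P := @Surjective) _ _ inferInstance
  exact (pullback.fst snd (Spec.map (CommRingCat.ofHom
    (algebraMap K (AlgebraicClosure K))))).surjective.connectedSpace
    (pullback.fst snd _).continuous

/-- **S0420**. -/
theorem main0420 {X Y : Scheme.{u}} (f : X ⟶ Y) [IrreducibleSpace Y] [LocallyOfFiniteType f]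
    [QuasiCompact f]
    (h : GeometricallyConnected (f.fiberToSpecResidueField (genericPoint Y))) :
    ∃ V : Y.Opens, (V : Set Y).Nonempty ∧ GeometricallyConnected (f ∣_ V) := by
  obtain ⟨V, hVsub, hηV, hVo, hV⟩ := cnt_main f (genericPoint Y)
  have hcl : closure ({genericPoint Y} : Set Y) = Set.univ := genericPoint_spec Y
  have hVopen : IsOpen V := by
    have h1 : IsOpen (closure ({genericPoint Y} : Set Y)) := by rw [hcl]; exact isOpen_univ
    have h2 := h1.isOpenMap_subtype_val _ hVo
    rwa [Subtype.image_preimage_coe, Set.inter_eq_right.mpr hVsub] at h2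
  refine ⟨⟨V, hVopen⟩, ⟨genericPoint Y, hηV⟩, ?_⟩
  rw [GeometricallyConnected.iff_geometricallyConnected_fiber]
  intro v
  apply geometricallyConnected_of_nGeomConnComp_eq_one
  have hBC := cnt_baseChange f (f ∣_ (⟨V, hVopen⟩ : Y.Opens))
    (f ⁻¹ᵁ (⟨V, hVopen⟩ : Y.Opens)).ι (Scheme.Opens.ι (⟨V, hVopen⟩ : Y.Opens))
    (isPullback_morphismRestrict f (⟨V, hVopen⟩ : Y.Opens)).flip v
  have h1 := hV v.1 v.2
  have h0 := nGeomConnComp_eq_one_of_geometricallyConnected f _ h
  have h2 := congrArg Prod.snd (hBC.trans h1)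
  exact h2.trans h0

end Groth.Agent.H1.GIrr
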