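import Mathlib
import Groth.Prelude.Def_Curv2
import Groth.Agent.Lib.Helper1.GeomConnSch2

/-! Helper1: the Galois action on `X_K` for a normal extension `K/k`: transitivity on the fibres of
`X_K → X` and descent of invariant closed subsets (Stacks 0389 / 04KY). -/

set_option autoImplicit false
set_option linter.style.haveILetI false
universe u
open CategoryTheory CategoryTheory.Limits AlgebraicGeometry IsLocalRing TensorProduct TopologicalSpace

namespace Groth.Agent.H1.GalActSch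

open Groth.Agent.H1.BCTower Groth.Agent.H1.GeomConnSch

variable (k : Type u) [Field k] (X : Scheme.{u}) [X.Over (Spec (CommRingCat.of k))]
  (K : Type u) [Field K] [Algebra k K]

@[reassoc]
theorem galAct_fst (σ : K ≃ₐ[k] K) :
    Curv2.galAct k X K σ ≫ Curv2.bcFst k X K = Curv2.bcFst k X K := by
  rw [Curv2.galAct, pullback.lift_fst, Category.comp_id]

@[reassoc]
theorem galAct_snd (σ : K ≃ₐ[k] K) :
    Curv2.galAct k X K σ ≫ Curv2.bcSnd k X K =
      Curv2.bcSnd k X K ≫ Spec.map (CommRingCat.ofHom (σ : K →ₐ[k] K).toRingHom) := by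
  rw [Curv2.galAct, pullback.lift_snd]

theorem galAct_one : Curv2.galAct k X K (1 : K ≃ₐ[k] K) = 𝟙 _ := by
  apply pullback.hom_ext
  · rw [galAct_fst, Category.id_comp]
  · rw [galAct_snd, Category.id_comp]
    have : CommRingCat.ofHom ((1 : K ≃ₐ[k] K) : K →ₐ[k] K).toRingHom = 𝟙 (CommRingCat.of K) := rfl
    rw [this, Spec.map_id, Category.comp_id]

theorem galAct_mul (σ τ : K ≃ₐ[k] K) :
    Curv2.galAct k X K (σ * τ) = Curv2.galAct k X K σ ≫ Curv2.galAct k X K τ := by
  apply pullback.hom_ext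
  · rw [galAct_fst, Category.assoc, galAct_fst, galAct_fst]
  · rw [galAct_snd, Category.assoc, galAct_snd, galAct_snd_assoc, ← Spec.map_comp]
    rfl

theorem galAct_apply_inv (σ : K ≃ₐ[k] K) (y : ↥(Curv2.bc k X K)) :
    Curv2.galAct k X K σ (Curv2.galAct k X K σ⁻¹ y) = y := by
  rw [← Scheme.Hom.comp_apply, ← galAct_mul, inv_mul_cancel, galAct_one]
  rfl

theorem galAct_inv_apply (σ : K ≃ₐ[k] K) (y : ↥(Curv2.bc k X K)) :
    Curv2.galAct k X K σ⁻¹ (Curv2.galAct k X K σ y) = y := by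
  rw [← Scheme.Hom.comp_apply, ← galAct_mul, mul_inv_cancel, galAct_one]
  rfl

theorem bcFst_galAct (σ : K ≃ₐ[k] K) (y : ↥(Curv2.bc k X K)) :
    Curv2.bcFst k X K (Curv2.galAct k X K σ y) = Curv2.bcFst k X K y := by
  rw [← Scheme.Hom.comp_apply, galAct_fst]

/-- **Transitivity**: for a normal extension `K/k`, the automorphism group acts transitively on the
fibres of `X_K → X`. -/
theorem exists_galAct_eq [Normal k K] (y₁ y₂ : ↥(Curv2.bc k X K))
    (h : Curv2.bcFst k X K y₁ = Curv2.bcFst k X K y₂) :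
    ∃ σ : K ≃ₐ[k] K, Curv2.galAct k X K σ y₁ = y₂ := by
  obtain ⟨w, hw1, hw2⟩ := Scheme.Pullback.exists_preimage_pullback
    (f := Curv2.bcFst k X K) (g := Curv2.bcFst k X K) y₁ y₂ h
  let L := (pullback (Curv2.bcFst k X K) (Curv2.bcFst k X K)).residueField w
  let ι : Spec L ⟶ pullback (Curv2.bcFst k X K) (Curv2.bcFst k X K) :=
    (pullback (Curv2.bcFst k X K) (Curv2.bcFst k X K)).fromSpecResidueField w
  let a₁ : Spec L ⟶ Curv2.bc k X K := ι ≫ pullback.fst _ _
  let a₂ : Spec L ⟶ Curv2.bc k X K := ι ≫ pullback.snd _ _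
  have hfst : a₁ ≫ Curv2.bcFst k X K = a₂ ≫ Curv2.bcFst k X K := by
    simp only [a₁, a₂, Category.assoc]
    rw [pullback.condition]
  obtain ⟨ψ₁, hψ₁⟩ := Spec.map_surjective (a₁ ≫ Curv2.bcSnd k X K)
  obtain ⟨ψ₂, hψ₂⟩ := Spec.map_surjective (a₂ ≫ Curv2.bcSnd k X K)
  have hcompat : CommRingCat.ofHom (algebraMap k K) ≫ ψ₁ =
      CommRingCat.ofHom (algebraMap k K) ≫ ψ₂ := by
    apply Spec.map_injective
    rw [Spec.map_comp, Spec.map_comp, hψ₁, hψ₂]
    have c : Curv2.bcSnd k X K ≫ Spec.map (CommRingCat.ofHom (algebraMap k K)) =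
        Curv2.bcFst k X K ≫ (X ↘ Spec (CommRingCat.of k)) := pullback.condition.symm
    rw [Category.assoc, Category.assoc, c, ← Category.assoc, ← Category.assoc, hfst]
    rw [Category.assoc, ← c]
    simp only [a₂, Category.assoc]
  letI : Algebra K L := ψ₁.hom.toAlgebra
  letI : Algebra k L := (ψ₁.hom.comp (algebraMap k K)).toAlgebra
  haveI : IsScalarTower k K L := IsScalarTower.of_algebraMap_eq fun _ => rfl
  let φ₂ : K →ₐ[k] L :=
    { toRingHom := ψ₂.hom
      commutes' := fun c => (congr($(hcompat).hom c)).symm }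
  let σ : K ≃ₐ[k] K := Normal.algHomEquivAut k L K φ₂
  have hσ : φ₂ = (IsScalarTower.toAlgHom k K L).comp σ.toAlgHom :=
    ((Normal.algHomEquivAut k L K).left_inv φ₂).symm
  have hσ' : ψ₂ = CommRingCat.ofHom (σ : K →ₐ[k] K).toRingHom ≫ ψ₁ := by
    ext c
    exact congr($(hσ) c)
  have hkey : a₁ ≫ Curv2.galAct k X K σ = a₂ := by
    apply pullback.hom_ext
    · rw [Category.assoc, galAct_fst]
      exact hfst
    · rw [Category.assoc, galAct_snd, ← Category.assoc, ← hψ₁, ← hψ₂, ← Spec.map_comp, hσ']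
  refine ⟨σ, ?_⟩
  let pt : ↥(Spec L) := IsLocalRing.closedPoint L
  have hpt : ι pt = w :=
    (pullback (Curv2.bcFst k X K) (Curv2.bcFst k X K)).fromSpecResidueField_apply w pt
  have h1 : a₁ pt = y₁ := by
    show (ι ≫ pullback.fst _ _) pt = y₁
    rw [Scheme.Hom.comp_apply, hpt, hw1]
  have h2 : a₂ pt = y₂ := by
    show (ι ≫ pullback.snd _ _) pt = y₂
    rw [Scheme.Hom.comp_apply, hpt, hw2]
  rw [← h1, ← h2, ← hkey]
  rfl

/-- invariant subsets are saturated. -/
theorem preimage_image_eq_of_invariant [Normal k K] (T' : Set ↥(Curv2.bc k X K))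
    (hinv : ∀ σ : K ≃ₐ[k] K, (Curv2.galAct k X K σ).base '' T' = T') :
    (Curv2.bcFst k X K).base ⁻¹' ((Curv2.bcFst k X K).base '' T') = T' := by
  apply Set.Subset.antisymm
  · rintro y ⟨y', hy', hyy'⟩
    obtain ⟨σ, hσ⟩ := exists_galAct_eq k X K y' y hyy'
    rw [← hinv σ]
    exact ⟨y', hy', hσ⟩
  · exact Set.subset_preimage_image _ _

theorem s1584 [IsGalois k K]
    (T' : Set (Curv2.bc k X K)) (hT' : IsClosed T')
    (hinv : ∀ σ : K ≃ₐ[k] K, (Curv2.galAct k X K σ).base '' T' = T') :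
    ∃ T : Set X, IsClosed T ∧ (Curv2.bcFst k X K).base ⁻¹' T = T' := by
  haveI : Algebra.IsAlgebraic k K := inferInstance
  exact ⟨(Curv2.bcFst k X K).base '' T', (Curv2.bcFst k X K).isClosedMap _ hT',
    preimage_image_eq_of_invariant k X K T' hinv⟩

end Groth.Agent.H1.GalActSch

namespace Groth.Agent.H1.GalActSch

open Groth.Agent.H1.BCTower Groth.Agent.H1.GeomConnSch

variable (k : Type u) [Field k] (X : Scheme.{u}) [X.Over (Spec (CommRingCat.of k))]
  (K : Type u) [Field K] [Algebra k K]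

instance isIso_galAct (σ : K ≃ₐ[k] K) : IsIso (Curv2.galAct k X K σ) :=
  ⟨Curv2.galAct k X K σ⁻¹, by rw [← galAct_mul, mul_inv_cancel, galAct_one],
    by rw [← galAct_mul, inv_mul_cancel, galAct_one]⟩

theorem galAct_image_closure (σ : K ≃ₐ[k] K) (s : Set ↥(Curv2.bc k X K)) :
    (Curv2.galAct k X K σ).base '' closure s = closure ((Curv2.galAct k X K σ).base '' s) :=
  ((Curv2.galAct k X K σ).homeomorph.image_closure s)

theorem bcFst_image_galAct (σ : K ≃ₐ[k] K) (s : Set ↥(Curv2.bc k X K)) :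
    (Curv2.bcFst k X K).base '' ((Curv2.galAct k X K σ).base '' s) =
      (Curv2.bcFst k X K).base '' s := by
  rw [Set.image_image]
  congr 1
  funext y
  exact bcFst_galAct k X K σ y

/-- for algebraic normal `K/k`: two irreducible closed subsets of `X_K` have the same image in `X`
iff they are conjugate. -/
theorem image_eq_iff_exists_galAct [Normal k K] [Algebra.IsAlgebraic k K]
    (Z' Z'' : Set ↥(Curv2.bc k X K)) (hZ' : IsIrreducible Z') (hZ'c : IsClosed Z')
    (hZ'' : IsIrreducible Z'') (hZ''c : IsClosed Z'') :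
    (Curv2.bcFst k X K).base '' Z' = (Curv2.bcFst k X K).base '' Z'' ↔
      ∃ σ : K ≃ₐ[k] K, (Curv2.galAct k X K σ).base '' Z' = Z'' := by
  constructor
  · intro h
    obtain ⟨ξ', hξ'⟩ := QuasiSober.sober hZ' hZ'c
    obtain ⟨ξ'', hξ''⟩ := QuasiSober.sober hZ'' hZ''c
    have hcl : IsClosedMap (Curv2.bcFst k X K).base := (Curv2.bcFst k X K).isClosedMap
    have h1 : closure {(Curv2.bcFst k X K) ξ'} = closure {(Curv2.bcFst k X K) ξ''} := by
      have e1 := hcl.closure_image_eq_of_continuous (Curv2.bcFst k X K).continuous {ξ'}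
      have e2 := hcl.closure_image_eq_of_continuous (Curv2.bcFst k X K).continuous {ξ''}
      rw [Set.image_singleton] at e1 e2
      rw [e1, e2, hξ'.def, hξ''.def]
      exact h
    have h2 : (Curv2.bcFst k X K) ξ' = (Curv2.bcFst k X K) ξ'' :=
      (inseparable_iff_closure_eq.mpr h1).eq
    obtain ⟨σ, hσ⟩ := exists_galAct_eq k X K ξ' ξ'' h2
    refine ⟨σ, ?_⟩
    rw [← hξ'.def, galAct_image_closure, Set.image_singleton]
    show closure {(Curv2.galAct k X K σ) ξ'} = Z''
    rw [hσ, hξ''.def]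
  · rintro ⟨σ, rfl⟩
    exact (bcFst_image_galAct k X K σ Z').symm

theorem s7598
    (Z' Z'' : Set ↥(Curv2.bc k X (SeparableClosure k)))
    (hZ' : Z' ∈ irreducibleComponents ↥(Curv2.bc k X (SeparableClosure k)))
    (hZ'' : Z'' ∈ irreducibleComponents ↥(Curv2.bc k X (SeparableClosure k))) :
    (Curv2.bcFst k X (SeparableClosure k)).base '' Z' =
        (Curv2.bcFst k X (SeparableClosure k)).base '' Z'' ↔
      ∃ σ : SeparableClosure k ≃ₐ[k] SeparableClosure k,
        (Curv2.galAct k X (SeparableClosure k) σ).base '' Z' = Z'' := by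
  haveI : Normal k (SeparableClosure k) := inferInstance
  exact image_eq_iff_exists_galAct k X (SeparableClosure k) Z' Z'' hZ'.1
    (isClosed_of_mem_irreducibleComponents _ hZ') hZ''.1
    (isClosed_of_mem_irreducibleComponents _ hZ'')

end Groth.Agent.H1.GalActSch
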