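import Mathlib
import Groth.Prelude.Def_Curv2
import Groth.Prelude.Def_FDesc
import Groth.Agent.Lib.Helper1.ConnCompSch2
import Groth.Agent.Lib.Helper1.GalActSch

/-! Helper1: geometrically connected components (EGA IV 4.5.13–4.5.14 style corollaries of
Stacks 04PZ). -/

set_option autoImplicit false
set_option linter.style.haveILetI false
universe u
open CategoryTheory CategoryTheory.Limits AlgebraicGeometry IsLocalRing TensorProduct TopologicalSpace

namespace Groth.Agent.H1.ConnCompSch

open Groth.Agent.H1.BCTower Groth.Agent.H1.GeomConnSch Groth.Agent.H1.ConnCompTop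

variable (k : Type u) [Field k] (X : Scheme.{u}) [X.Over (Spec (CommRingCat.of k))]

/-- if a preconnected subset of `X_K` contains the whole fibre over `x`, then the inverse image of
the connected component of `x` is connected. -/
theorem isConnected_preimage_connectedComponent (K : Type u) [Field K] [Algebra k K]
    (S : Set ↥(Curv2.bc k X K)) (hS : _root_.IsPreconnected S) (x : ↥X)
    (hx : (Curv2.bcFst k X K).base ⁻¹' {x} ⊆ S) :
    _root_.IsConnected ((Curv2.bcFst k X K).base ⁻¹' connectedComponent x) := by
  obtain ⟨a₀, ha₀⟩ := (Curv2.bcFst k X K).surjective x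
  have ha₀S : a₀ ∈ S := hx ha₀
  have hSsub : S ⊆ connectedComponent a₀ := hS.subset_connectedComponent ha₀S
  have heq : (Curv2.bcFst k X K).base ⁻¹' connectedComponent x = connectedComponent a₀ := by
    apply subset_antisymm
    · intro a ha
      have h1 := s1583 k X K a
      have hcc : connectedComponent ((Curv2.bcFst k X K) a) = connectedComponent x :=
        (connectedComponent_eq ha).symm
      obtain ⟨a', ha', hpa'⟩ : x ∈ (Curv2.bcFst k X K).base '' connectedComponent a := by
        rw [h1, hcc]; exact mem_connectedComponent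
      have ha'S : a' ∈ connectedComponent a₀ := hSsub (hx hpa')
      rw [connectedComponent_eq ha'S, ← connectedComponent_eq ha']
      exact mem_connectedComponent
    · intro a ha
      have := (Curv2.bcFst k X K).continuous.image_connectedComponent_subset a₀ ⟨a, ha, rfl⟩
      rw [show (Curv2.bcFst k X K).base a₀ = x from ha₀] at this
      exact this
  rw [heq]
  exact isConnected_connectedComponent

theorem s4620 {k K : Type u} [Field k] [Field K] [Algebra k K]
    {X : Scheme.{u}} (f : X ⟶ Spec (CommRingCat.of k)) (Y : Set ↥X)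
    (hY : Y ∈ irreducibleComponents ↥X)
    (hgi : ∀ (L : Type u) [Field L] [Algebra k L], IsIrreducible (⇑(FBase.bcπ f L) ⁻¹' Y))
    (y : X) (hy : y ∈ Y) :
    _root_.IsConnected (⇑(FBase.bcπ f K) ⁻¹' connectedComponent y) := by
  letI : X.Over (Spec (CommRingCat.of k)) := ⟨f⟩
  refine isConnected_preimage_connectedComponent k X K _ (hgi K).isConnected.isPreconnected y ?_
  intro a ha
  show (Curv2.bcFst k X K) a ∈ Y
  rw [show (Curv2.bcFst k X K) a = y from ha]
  exact hy

theorem connectedSpace_bc_of_geometricallyConnected {k : Type u} [Field k] {Y : Scheme.{u}}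
    (g : Y ⟶ Spec (CommRingCat.of k)) [GeometricallyConnected g] (K : Type u) [Field K]
    [Algebra k K] : ConnectedSpace ↥(pullback g (Spec.map (CommRingCat.ofHom (algebraMap k K)))) := by
  have h : GeometricallyConnected g := inferInstance
  rw [GeometricallyConnected.eq_geometrically,
    geometrically_iff_of_commRing_of_isClosedUnderIsomorphisms] at h
  exact h K

theorem s4621 {k K : Type u} [Field k] [Field K] [Algebra k K]
    {X Y : Scheme.{u}} (f : X ⟶ Spec (CommRingCat.of k)) (g : Y ⟶ Spec (CommRingCat.of k))
    (h : Y ⟶ X) (w : h ≫ f = g) [GeometricallyConnected g] (y : Y) :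
    _root_.IsConnected (⇑(FBase.bcπ f K) ⁻¹' connectedComponent (h y)) := by
  letI : X.Over (Spec (CommRingCat.of k)) := ⟨f⟩
  letI : Y.Over (Spec (CommRingCat.of k)) := ⟨g⟩
  haveI : h.IsOver (Spec (CommRingCat.of k)) := ⟨w⟩
  haveI : ConnectedSpace ↥(Curv2.bc k Y K) := connectedSpace_bc_of_geometricallyConnected g K
  haveI : ConnectedSpace ↥(pullback h (Curv2.bcFst k X K)) :=
    (pullbackIso k X Y h K).hom.homeomorph.connectedSpace_iff.mpr inferInstance
  have hI : _root_.IsConnected (Set.range (pullback.snd h (Curv2.bcFst k X K))) :=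
    isConnected_range (pullback.snd h (Curv2.bcFst k X K)).continuous
  have hIeq : Set.range (pullback.snd h (Curv2.bcFst k X K)) =
      (Curv2.bcFst k X K) ⁻¹' Set.range h := Scheme.Pullback.range_snd _ _
  refine isConnected_preimage_connectedComponent k X K _ hI.isPreconnected (h y) ?_
  intro a ha
  rw [hIeq]
  exact ⟨y, ha.symm⟩

/-- the reduced induced subscheme on a closed subset, as a `k`-scheme. -/
@[reducible] noncomputable def subOver (T : Set ↥X) (hTc : IsClosed T) :
    (Scheme.IdealSheafData.vanishingIdeal (X := X) ⟨T, hTc⟩).subscheme.Over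
      (Spec (CommRingCat.of k)) :=
  ⟨(Scheme.IdealSheafData.vanishingIdeal ⟨T, hTc⟩).subschemeι ≫ (X ↘ Spec (CommRingCat.of k))⟩

/-- the inverse image in `X_K` of a closed subset `T`, via the reduced induced subscheme. -/
theorem isConnected_preimage_iff_connectedSpace_bc (T : Set ↥X) (hTc : IsClosed T)
    (K : Type u) [Field K] [Algebra k K] :
    _root_.IsConnected ((Curv2.bcFst k X K).base ⁻¹' T) ↔
      ConnectedSpace ↥(@Curv2.bc k _
        (Scheme.IdealSheafData.vanishingIdeal (X := X) ⟨T, hTc⟩).subscheme
        (subOver k X T hTc) K _ _) := by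
  letI := subOver k X T hTc
  have hrange : Set.range (Scheme.IdealSheafData.vanishingIdeal (X := X) ⟨T, hTc⟩).subschemeι
      = T := by
    rw [Scheme.IdealSheafData.range_subschemeι]
    exact Scheme.IdealSheafData.coe_support_vanishingIdeal ⟨T, hTc⟩
  haveI : (Scheme.IdealSheafData.vanishingIdeal (X := X) ⟨T, hTc⟩).subschemeι.IsOver
    (Spec (CommRingCat.of k)) := ⟨rfl⟩
  have e := pullbackIso k X (Scheme.IdealSheafData.vanishingIdeal (X := X) ⟨T, hTc⟩).subscheme
    (Scheme.IdealSheafData.vanishingIdeal ⟨T, hTc⟩).subschemeι K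
  rw [← e.hom.homeomorph.connectedSpace_iff]
  haveI : IsClosedImmersion (pullback.snd
      (Scheme.IdealSheafData.vanishingIdeal (X := X) ⟨T, hTc⟩).subschemeι
      (Curv2.bcFst k X K)) :=
    MorphismProperty.pullback_snd _ _ inferInstance
  have hemb : Topology.IsEmbedding (pullback.snd
      (Scheme.IdealSheafData.vanishingIdeal (X := X) ⟨T, hTc⟩).subschemeι
      (Curv2.bcFst k X K)).base :=
    Scheme.Hom.isEmbedding _
  have hIeq : Set.range (pullback.snd
      (Scheme.IdealSheafData.vanishingIdeal (X := X) ⟨T, hTc⟩).subschemeι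
      (Curv2.bcFst k X K)) = (Curv2.bcFst k X K) ⁻¹' T := by
    rw [Scheme.Pullback.range_snd, hrange]
  rw [connectedSpace_iff_univ, ← hIeq, ← Set.image_univ]
  constructor
  · intro h
    exact ⟨(Set.image_nonempty.mp h.1), hemb.toIsInducing.isPreconnected_image.mp h.2⟩
  · intro h
    exact ⟨h.1.image _, hemb.toIsInducing.isPreconnected_image.mpr h.2⟩

/-- a closed subset whose inverse image in `X_Ω` (`Ω` separably closed) is connected is
geometrically connected. -/
theorem isConnected_preimage_of_sepClosed (Ω : Type u) [Field Ω] [Algebra k Ω] [IsSepClosed Ω]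
    (T : Set ↥X) (hTc : IsClosed T)
    (hT : _root_.IsConnected ((Curv2.bcFst k X Ω).base ⁻¹' T))
    (K : Type u) [Field K] [Algebra k K] :
    _root_.IsConnected ((Curv2.bcFst k X K).base ⁻¹' T) := by
  letI := subOver k X T hTc
  haveI : ConnectedSpace
      ↥(Curv2.bc k (Scheme.IdealSheafData.vanishingIdeal (X := X) ⟨T, hTc⟩).subscheme Ω) :=
    (isConnected_preimage_iff_connectedSpace_bc k X T hTc Ω).mp hT
  haveI := geometricallyConnected_of_sepClosed k
    (Scheme.IdealSheafData.vanishingIdeal (X := X) ⟨T, hTc⟩).subscheme Ω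
  refine (isConnected_preimage_iff_connectedSpace_bc k X T hTc K).mpr ?_
  exact connectedSpace_bc_of_geometricallyConnected
    ((Scheme.IdealSheafData.vanishingIdeal (X := X) ⟨T, hTc⟩).subscheme ↘
      Spec (CommRingCat.of k)) K

theorem s7593 (t : ↥(Curv2.bc k X (SeparableClosure k))) :
    (∀ σ : SeparableClosure k ≃ₐ[k] SeparableClosure k,
        (Curv2.galAct k X (SeparableClosure k) σ).base '' connectedComponent t =
          connectedComponent t) ↔
      ((Curv2.bcFst k X (SeparableClosure k)).base ⁻¹'
          connectedComponent (Curv2.bcFst k X (SeparableClosure k) t) = connectedComponent t ∧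
        ∀ (K : Type u) [Field K] [Algebra k K],
          _root_.IsConnected ((Curv2.bcFst k X K).base ⁻¹'
            connectedComponent (Curv2.bcFst k X (SeparableClosure k) t))) := by
  haveI : Normal k (SeparableClosure k) := inferInstance
  constructor
  · intro hinv
    have hpre := Groth.Agent.H1.GalActSch.preimage_image_eq_of_invariant k X (SeparableClosure k)
      (connectedComponent t) hinv
    rw [s1583 k X (SeparableClosure k) t] at hpre
    refine ⟨hpre, ?_⟩
    intro K _ _
    refine isConnected_preimage_of_sepClosed k X (SeparableClosure k) _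
      isClosed_connectedComponent ?_ K
    rw [hpre]
    exact isConnected_connectedComponent
  · rintro ⟨hpre, -⟩ σ
    rw [← hpre]
    ext y
    constructor
    · rintro ⟨z, hz, rfl⟩
      show (Curv2.bcFst k X (SeparableClosure k))
        (Curv2.galAct k X (SeparableClosure k) σ z) ∈
          connectedComponent (Curv2.bcFst k X (SeparableClosure k) t)
      rw [Groth.Agent.H1.GalActSch.bcFst_galAct]
      exact hz
    · intro hy
      refine ⟨Curv2.galAct k X (SeparableClosure k) σ⁻¹ y, ?_,
        Groth.Agent.H1.GalActSch.galAct_apply_inv k X _ σ y⟩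
      show (Curv2.bcFst k X (SeparableClosure k))
        (Curv2.galAct k X (SeparableClosure k) σ⁻¹ y) ∈
          connectedComponent (Curv2.bcFst k X (SeparableClosure k) t)
      rw [Groth.Agent.H1.GalActSch.bcFst_galAct]
      exact hy

end Groth.Agent.H1.ConnCompSch
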