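import Mathlib

/-! Helper1: if `k` is separably closed in `K`, then `k' ⊗[k] K` is a field for every finite separable
`k'/k` (after helper5 `FunFld.isField_tensor_of_isSeparable`, which assumes `k` algebraically closed
in `K`). -/

set_option autoImplicit false

namespace Groth.Agent.H1.SepClosedIn

open Polynomial TensorProduct

section coeff

variable {k K : Type*} [Field k] [Field K] [Algebra k K]

/-- the coefficients of a monic factor over `K` of a separable polynomial over `k` are separable
over `k`. -/
theorem isSeparable_coeff_of_dvd_map {f : k[X]} (hf : f.Monic) (hsep : f.Separable) {g : K[X]}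
    (hg : g.Monic) (hd : g ∣ f.map (algebraMap k K)) (n : ℕ) : IsSeparable k (g.coeff n) := by
  let SF := g.SplittingField
  have hroots : ∀ a ∈ (g.map (algebraMap K SF)).roots,
      a ∈ (algebraMap (separableClosure k SF) SF).range := by
    intro a ha
    have ha' : a ∈ (f.map (algebraMap k SF)).roots := by
      rw [IsScalarTower.algebraMap_eq k K SF, ← Polynomial.map_map]
      refine Multiset.mem_of_le (roots.le_of_dvd ((hf.map _).map _).ne_zero ?_) ha
      exact map_dvd (algebraMap K SF) hd
    have hroot : aeval a f = 0 := by
      rw [mem_roots ((hf.map _).ne_zero), IsRoot.def, eval_map, ← aeval_def] at ha'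
      exact ha'
    have hsepa : IsSeparable k a := hsep.of_dvd (minpoly.dvd k a hroot)
    exact ⟨⟨a, hsepa⟩, rfl⟩
  have hlift := (SplittingField.splits g).mem_lift_of_roots_mem_range (hg.map _)
    (algebraMap (separableClosure k SF) SF) hroots
  rw [lifts_iff_coeff_lifts] at hlift
  obtain ⟨⟨y, hy⟩, hy'⟩ := hlift n
  rw [coeff_map] at hy'
  have h1 : IsSeparable k (algebraMap K SF (g.coeff n)) := by
    rw [← hy']
    exact hy
  exact (isSeparable_map_iff (IsScalarTower.toAlgHom k K SF) (algebraMap K SF).injective).mp h1

end coeff

section minpoly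

variable {k K E : Type*} [Field k] [Field K] [Field E] [Algebra k K] [Algebra K E] [Algebra k E]
  [IsScalarTower k K E]

/-- If `k` is separably closed in `K`, the minimal polynomial over `K` of an element
separable over `k` has coefficients in `k`. -/
theorem minpoly_map_eq_of_sepClosedIn
    (hcl : ∀ y : K, IsSeparable k y → y ∈ Set.range (algebraMap k K)) {β : E}
    (hβs : IsSeparable k β) : (minpoly k β).map (algebraMap k K) = minpoly K β := by
  have hβ : IsIntegral k β := hβs.isIntegral
  have hβK : IsIntegral K β := hβ.tower_top
  have hdvd : minpoly K β ∣ (minpoly k β).map (algebraMap k K) :=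
    minpoly.dvd_map_of_isScalarTower k K β
  have hlift' : minpoly K β ∈ lifts (algebraMap k K) := by
    rw [lifts_iff_coeff_lifts]
    intro n
    exact hcl _ (isSeparable_coeff_of_dvd_map (minpoly.monic hβ) hβs (minpoly.monic hβK) hdvd n)
  obtain ⟨g₀, hg₀, hdeg, hmon⟩ := lifts_and_natDegree_eq_and_monic hlift' (minpoly.monic hβK)
  have hdvd₀ : g₀ ∣ minpoly k β := by
    rw [← Polynomial.map_dvd_map' (algebraMap k K), hg₀]
    exact hdvd
  have hirr := minpoly.irreducible hβ
  have hnu : ¬ IsUnit g₀ := by
    intro hu
    have : IsUnit (minpoly K β) := by rw [← hg₀]; exact hu.map (mapRingHom (algebraMap k K))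
    exact minpoly.not_isUnit K β this
  have hassoc : Associated g₀ (minpoly k β) := by
    obtain ⟨c, hc⟩ := hdvd₀
    rcases hirr.isUnit_or_isUnit hc with h | h
    · exact absurd h hnu
    · exact ⟨h.unit, by rw [hc]; rfl⟩
  have heq : g₀ = minpoly k β := eq_of_monic_of_associated hmon (minpoly.monic hβ) hassoc
  rw [← heq, hg₀]

end minpoly

section tensor

variable {k : Type*} {K : Type*} [Field k] [Field K] [Algebra k K]

/-- If `k` is separably closed in `K` then `k' ⊗[k] K` is a field for every finite
separable extension `k'/k`. -/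
theorem isField_tensor_of_isSeparable
    (hcl : ∀ y : K, IsSeparable k y → y ∈ Set.range (algebraMap k K))
    (k' : Type*) [Field k'] [Algebra k k'] [FiniteDimensional k k'] [Algebra.IsSeparable k k'] :
    IsField (k' ⊗[k] K) := by
  let E := AlgebraicClosure K
  let pb := Field.powerBasisOfFiniteOfSeparable k k'
  let fa : k' →ₐ[k] E := IsAlgClosed.lift
  let A : IntermediateField k E := fa.fieldRange
  let e : k' ≃ₐ[k] A := AlgEquiv.ofInjectiveField fa
  let b : Module.Basis (Fin pb.dim) k A := pb.basis.map e.toLinearEquiv
  set β : E := fa pb.gen with hβdef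
  have hβs : IsSeparable k β :=
    (Algebra.IsSeparable.isSeparable k pb.gen).map fa fa.injective
  have hβ : IsIntegral k β := hβs.isIntegral
  have hmp : minpoly k β = minpoly k pb.gen := minpoly.algHom_eq fa fa.injective pb.gen
  have hdeg : (minpoly K β).natDegree = pb.dim := by
    rw [← minpoly_map_eq_of_sepClosedIn hcl hβs, natDegree_map, hmp, pb.natDegree_minpoly]
  have hli : LinearIndependent K (A.val ∘ b) := by
    have h1 := linearIndependent_pow (K := K) β
    have h2 : (A.val ∘ b) = (fun i : Fin (minpoly K β).natDegree => β ^ (i : ℕ)) ∘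
        (Fin.cast hdeg.symm) := by
      funext i
      simp only [Function.comp_apply, b, Module.Basis.map_apply, PowerBasis.coe_basis]
      change fa (pb.gen ^ (i : ℕ)) = _
      rw [map_pow]
      rfl
    rw [h2]
    exact h1.comp _ (Fin.cast_injective _)
  have hLD : A.LinearDisjoint K := IntermediateField.LinearDisjoint.of_basis_left b hli
  have hA : Algebra.IsAlgebraic k A := e.isAlgebraic
  have hF : IsField (A ⊗[k] K) := hLD.isField_of_isAlgebraic (Or.inl hA)
  exact (Algebra.TensorProduct.congr e (AlgEquiv.refl : K ≃ₐ[k] K)).toMulEquiv.isField hF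

end tensor

end Groth.Agent.H1.SepClosedIn
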