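import Mathlib
import Groth.Prelude.Def_Curv2
import Groth.Prelude.Def_FDesc
import Groth.Agent.Lib.Helper1.GeomConnSch2
import Groth.Agent.Lib.Helper1.SepClosedIn

/-! Helper1: a connected scheme with a point whose residue field is a primary extension is
geometrically connected (EGA IV 4.5.14 / Stacks 04KV). -/

set_option autoImplicit false
set_option linter.style.haveILetI false
universe u
open CategoryTheory CategoryTheory.Limits AlgebraicGeometry IsLocalRing TensorProduct TopologicalSpace

namespace Groth.Agent.H1.GeomConnSch

/-- `Spec (κ ⊗ k')` is connected when `k` is separably closed in the field `κ` and `k'/k` is finite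
separable. -/
theorem connectedSpace_spec_tensor_of_sepClosedIn (k κ : Type u) [Field k] [Field κ] [Algebra k κ]
    (hsep : separableClosure k κ = ⊥) (k' : Type u) [Field k'] [Algebra k k']
    [FiniteDimensional k k'] [Algebra.IsSeparable k k'] :
    ConnectedSpace (PrimeSpectrum (κ ⊗[k] k')) := by
  have hcl : ∀ y : κ, IsSeparable k y → y ∈ Set.range (algebraMap k κ) := by
    intro y hy
    have : y ∈ separableClosure k κ := hy
    rw [hsep] at this
    exact IntermediateField.mem_bot.mp this
  have hF : IsField (k' ⊗[k] κ) := Groth.Agent.H1.SepClosedIn.isField_tensor_of_isSeparable hcl k'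
  have hF' : IsField (κ ⊗[k] k') :=
    (Algebra.TensorProduct.comm k κ k').toMulEquiv.isField hF
  letI := hF'.toField
  infer_instance

theorem s4619 {k : Type u} [Field k] {X : Scheme.{u}}
    [ConnectedSpace X] (f : X ⟶ Spec (CommRingCat.of k)) (x : X)
    (hx : FBase.ResidueFieldProp f x (fun K _ _ => separableClosure k K = ⊥)) :
    GeometricallyConnected f := by
  obtain ⟨φ, hφ, hsep⟩ := hx
  letI : X.Over (Spec (CommRingCat.of k)) := ⟨f⟩
  show GeometricallyConnected (X ↘ Spec (CommRingCat.of k))
  refine (s7591 k X).mpr ?_
  intro k' _ _ _ _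
  letI : Algebra k (X.residueField x) := φ.toAlgebra
  letI : (Spec (X.residueField x)).Over (Spec (CommRingCat.of k)) :=
    ⟨Spec.map (CommRingCat.ofHom φ)⟩
  haveI : (X.fromSpecResidueField x).IsOver (Spec (CommRingCat.of k)) := ⟨hφ.symm⟩
  haveI : ConnectedSpace ↥(Curv2.bc k (Spec (X.residueField x)) k') := by
    haveI := connectedSpace_spec_tensor_of_sepClosedIn k (X.residueField x) hsep k'
    have e := pullbackSpecIso k (X.residueField x) k'
    show ConnectedSpace ↥(pullback (Spec.map (CommRingCat.ofHom φ))
      (Spec.map (CommRingCat.ofHom (algebraMap k k'))))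
    have e' : ConnectedSpace ↥(pullback (Spec.map (CommRingCat.ofHom
        (algebraMap k (X.residueField x)))) (Spec.map (CommRingCat.ofHom (algebraMap k k')))) := by
      rw [e.hom.homeomorph.connectedSpace_iff]
      show ConnectedSpace (PrimeSpectrum ((X.residueField x) ⊗[k] k'))
      infer_instance
    exact e'
  haveI : Algebra.IsAlgebraic k k' := Algebra.IsAlgebraic.of_finite k k'
  exact connectedSpace_bc_of_algebraic k X k' (Spec (X.residueField x))
    (X.fromSpecResidueField x)

end Groth.Agent.H1.GeomConnSch
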