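import Mathlib
import Groth.Prelude.Def_Curv2
import Groth.Prelude.Def_FDesc
import Groth.Agent.Lib.Helper1.ConnCompSch3
import Groth.Agent.Lib.Helper1.GeomConnSch3

/-! Helper1: bounding the number of connected components of `X_Ω` (EGA IV 4.5.15 / Stacks 04KW
style). -/

set_option autoImplicit false
set_option linter.style.haveILetI false
universe u
open CategoryTheory CategoryTheory.Limits AlgebraicGeometry IsLocalRing TensorProduct TopologicalSpace

namespace Groth.Agent.H1.ConnCompSch

open Groth.Agent.H1.BCTower Groth.Agent.H1.GeomConnSch Groth.Agent.H1.ConnCompTop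

/-- a finite-dimensional algebra over a field has at most `dim` primes. -/
theorem card_primeSpectrum_le_finrank (F R : Type u) [Field F] [CommRing R] [Algebra F R]
    [Module.Finite F R] :
    Finite (PrimeSpectrum R) ∧ Nat.card (PrimeSpectrum R) ≤ Module.finrank F R := by
  haveI : IsArtinianRing R := IsArtinianRing.of_finite F R
  haveI : Finite (PrimeSpectrum R) := inferInstance
  refine ⟨inferInstance, ?_⟩
  letI : Fintype (PrimeSpectrum R) := Fintype.ofFinite _
  rw [IsArtinianRing.finrank_eq_sum_primeSpectrum R F, Nat.card_eq_fintype_card,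
    Fintype.card_eq_sum_ones]
  refine Finset.sum_le_sum fun p _ => ?_
  haveI : Module.Finite F (Localization.AtPrime p.asIdeal) :=
    Module.Finite.of_surjective (Algebra.algHom F R (Localization.AtPrime p.asIdeal)).toLinearMap
      (IsArtinianRing.localization_surjective p.asIdeal.primeCompl
        (Localization.AtPrime p.asIdeal))
  exact Module.finrank_pos

variable (k : Type u) [Field k]

/-- `Spec κ → Spec k` is geometrically connected when `k` is separably closed in `κ`. -/
theorem geometricallyConnected_specMap_of_sepClosedIn (κ : Type u) [Field κ] [Algebra k κ]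
    (hsep : separableClosure k κ = ⊥) :
    GeometricallyConnected (Spec.map (CommRingCat.ofHom (algebraMap k κ))) := by
  letI : (Spec (CommRingCat.of κ)).Over (Spec (CommRingCat.of k)) :=
    ⟨Spec.map (CommRingCat.ofHom (algebraMap k κ))⟩
  show GeometricallyConnected ((Spec (CommRingCat.of κ)) ↘ Spec (CommRingCat.of k))
  refine (s7591 k (Spec (CommRingCat.of κ))).mpr ?_
  intro k' _ _ _ _
  haveI := connectedSpace_spec_tensor_of_sepClosedIn k κ hsep k'
  have e := pullbackSpecIso k κ k'
  show ConnectedSpace ↥(pullback (Spec.map (CommRingCat.ofHom (algebraMap k κ)))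
    (Spec.map (CommRingCat.ofHom (algebraMap k k'))))
  rw [e.hom.homeomorph.connectedSpace_iff]
  show ConnectedSpace (PrimeSpectrum (κ ⊗[k] k'))
  infer_instance

/-- the base change of `Spec k'` has at most `[k':k]` points. -/
theorem card_bc_spec_le (k' : Type u) [Field k'] [Algebra k k'] [FiniteDimensional k k']
    (Ω : Type u) [Field Ω] [Algebra k Ω] :
    letI : (Spec (CommRingCat.of k')).Over (Spec (CommRingCat.of k)) :=
      ⟨Spec.map (CommRingCat.ofHom (algebraMap k k'))⟩
    Finite ↥(Curv2.bc k (Spec (CommRingCat.of k')) Ω) ∧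
      Nat.card ↥(Curv2.bc k (Spec (CommRingCat.of k')) Ω) ≤ Module.finrank k k' := by
  have e := pullbackSpecIso k k' Ω
  have e1 : ↥(pullback (Spec.map (CommRingCat.ofHom (algebraMap k k')))
      (Spec.map (CommRingCat.ofHom (algebraMap k Ω)))) ≃ PrimeSpectrum (k' ⊗[k] Ω) :=
    e.hom.homeomorph.toEquiv
  have e2 : PrimeSpectrum (k' ⊗[k] Ω) ≃ PrimeSpectrum (Ω ⊗[k] k') :=
    (PrimeSpectrum.homeomorphOfRingEquiv
      (Algebra.TensorProduct.comm k k' Ω).toRingEquiv).toEquiv
  obtain ⟨h1, h2⟩ := card_primeSpectrum_le_finrank Ω (Ω ⊗[k] k')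
  rw [Module.finrank_baseChange] at h2
  haveI := h1
  refine ⟨Finite.of_equiv _ (e1.trans e2).symm, ?_⟩
  show Nat.card ↥(pullback (Spec.map (CommRingCat.ofHom (algebraMap k k')))
      (Spec.map (CommRingCat.ofHom (algebraMap k Ω)))) ≤ _
  rw [Nat.card_congr (e1.trans e2)]
  exact h2

variable (X : Scheme.{u}) [X.Over (Spec (CommRingCat.of k))]

/-- **EGA IV 4.5.15**: if `X` is connected and has a point with residue field `κ` such that the
separable closure `k'` of `k` in `κ` is finite over `k`, then `X_Ω` has at most `[k':k]` connected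
components. -/
theorem card_connectedComponents_bc_le [ConnectedSpace X] (Ω : Type u) [Field Ω] [Algebra k Ω]
    (κ : Type u) [Field κ] [Algebra k κ] (j : Spec (CommRingCat.of κ) ⟶ X)
    (hj : j ≫ (X ↘ Spec (CommRingCat.of k)) = Spec.map (CommRingCat.ofHom (algebraMap k κ)))
    [FiniteDimensional k (separableClosure k κ)] :
    Finite (_root_.ConnectedComponents ↥(Curv2.bc k X Ω)) ∧
      Nat.card (_root_.ConnectedComponents ↥(Curv2.bc k X Ω)) ≤
        Module.finrank k (separableClosure k κ) := by
  letI oS : (Spec (CommRingCat.of κ)).Over (Spec (CommRingCat.of k)) :=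
    ⟨Spec.map (CommRingCat.ofHom (algebraMap k κ))⟩
  letI oS' : (Spec (CommRingCat.of ↥(separableClosure k κ))).Over (Spec (CommRingCat.of k)) :=
    ⟨Spec.map (CommRingCat.ofHom (algebraMap k ↥(separableClosure k κ)))⟩
  obtain ⟨g, hg⟩ : ∃ g : Spec (CommRingCat.of κ) ⟶ Spec (CommRingCat.of ↥(separableClosure k κ)),
      g = Spec.map (CommRingCat.ofHom (algebraMap ↥(separableClosure k κ) κ)) := ⟨_, rfl⟩
  haveI : g.IsOver (Spec (CommRingCat.of k)) := ⟨by rw [hg]; exact specMap_comp k _ κ⟩
  haveI : j.IsOver (Spec (CommRingCat.of k)) := ⟨hj⟩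
  haveI hgc : GeometricallyConnected g := by
    rw [hg]
    exact geometricallyConnected_specMap_of_sepClosedIn ↥(separableClosure k κ) κ
      (separableClosure.separableClosure_eq_bot k κ)
  obtain ⟨hfin, hcard⟩ := card_bc_spec_le k ↥(separableClosure k κ) Ω
  haveI := hfin
  haveI : GeometricallyConnected (pullback.snd g
      (Curv2.bcFst k (Spec (CommRingCat.of ↥(separableClosure k κ))) Ω)) :=
    MorphismProperty.pullback_snd _ _ inferInstance
  -- the two identifications of `(Spec κ)_Ω`
  let e₁ := pullbackIso k (Spec (CommRingCat.of ↥(separableClosure k κ)))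
    (Spec (CommRingCat.of κ)) g Ω
  let e₂ := pullbackIso k X (Spec (CommRingCat.of κ)) j Ω
  let jΩ : pullback g (Curv2.bcFst k (Spec (CommRingCat.of ↥(separableClosure k κ))) Ω) ⟶
      Curv2.bc k X Ω := e₁.hom ≫ e₂.inv ≫ pullback.snd j (Curv2.bcFst k X Ω)
  have hfib : ∀ s, _root_.IsConnected ((pullback.snd g
      (Curv2.bcFst k (Spec (CommRingCat.of ↥(separableClosure k κ))) Ω)).base ⁻¹' {s}) :=
    fun s => Scheme.Hom.isConnected_preimage_singleton _ s
  let Ψ : ↥(Curv2.bc k (Spec (CommRingCat.of ↥(separableClosure k κ))) Ω) →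
      _root_.ConnectedComponents ↥(Curv2.bc k X Ω) :=
    fun s => ConnectedComponents.mk (jΩ.base (hfib s).nonempty.some)
  have hsurj : Function.Surjective Ψ := by
    intro c
    obtain ⟨a, rfl⟩ := ConnectedComponents.surjective_coe c
    obtain ⟨pt⟩ : Nonempty ↥(Spec (CommRingCat.of κ)) :=
      inferInstanceAs (Nonempty (PrimeSpectrum κ))
    have h1 := image_connectedComponent_of_connected k X Ω a
    obtain ⟨a', ha', hpa'⟩ : j pt ∈ (Curv2.bcFst k X Ω).base '' connectedComponent a := by
      rw [h1]; trivial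
    have hrange : a' ∈ Set.range (pullback.snd j (Curv2.bcFst k X Ω)) := by
      rw [Scheme.Pullback.range_snd]
      exact ⟨pt, hpa'.symm⟩
    obtain ⟨b₂, hb₂⟩ := hrange
    obtain ⟨b, hb⟩ : ∃ b, b = e₁.inv (e₂.hom b₂) := ⟨_, rfl⟩
    have hjb : jΩ b = a' := by
      show (e₁.hom ≫ e₂.inv ≫ pullback.snd j (Curv2.bcFst k X Ω)) b = a'
      rw [hb, ← Scheme.Hom.comp_apply, ← Scheme.Hom.comp_apply]
      simp only [Category.assoc, Iso.inv_hom_id_assoc, Iso.hom_inv_id_assoc]
      exact hb₂
    refine ⟨(pullback.snd g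
      (Curv2.bcFst k (Spec (CommRingCat.of ↥(separableClosure k κ))) Ω)) b, ?_⟩
    show ConnectedComponents.mk _ = ConnectedComponents.mk a
    rw [ConnectedComponents.coe_eq_coe]
    have hpre : _root_.IsPreconnected (jΩ.base '' ((pullback.snd g
        (Curv2.bcFst k (Spec (CommRingCat.of ↥(separableClosure k κ))) Ω)).base ⁻¹'
          {(pullback.snd g
            (Curv2.bcFst k (Spec (CommRingCat.of ↥(separableClosure k κ))) Ω)) b})) :=
      (hfib _).isPreconnected.image _ jΩ.continuous.continuousOn
    have hsome := (hfib ((pullback.snd g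
      (Curv2.bcFst k (Spec (CommRingCat.of ↥(separableClosure k κ))) Ω)) b)).nonempty.some_mem
    have hsub := hpre.subset_connectedComponent (x := jΩ.base b) ⟨b, rfl, rfl⟩
    have hmem := hsub ⟨_, hsome, rfl⟩
    rw [← connectedComponent_eq hmem]
    have : jΩ.base b = a' := hjb
    rw [this]
    exact (connectedComponent_eq ha').symm
  haveI : Finite (_root_.ConnectedComponents ↥(Curv2.bc k X Ω)) := Finite.of_surjective Ψ hsurj
  exact ⟨inferInstance, (Nat.card_le_card_of_surjective Ψ hsurj).trans hcard⟩

theorem s2548 {k Ω : Type u} [Field k] [Field Ω] [Algebra k Ω]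
    [IsAlgClosed Ω] {X : Scheme.{u}} [ConnectedSpace X] (f : X ⟶ Spec (CommRingCat.of k)) (x : X) :
    FBase.ResidueFieldProp f x (fun K _ _ =>
      FiniteDimensional k (separableClosure k K) →
        Finite (_root_.ConnectedComponents ↥(FBase.bc f Ω)) ∧
          Nat.card (_root_.ConnectedComponents ↥(FBase.bc f Ω)) ≤
            Module.finrank k (separableClosure k K)) := by
  letI : X.Over (Spec (CommRingCat.of k)) := ⟨f⟩
  refine ⟨(Spec.preimage (X.fromSpecResidueField x ≫ f)).hom, ?_, ?_⟩
  · exact Spec.map_preimage _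
  · intro hfin
    letI : Algebra k (X.residueField x) :=
      (Spec.preimage (X.fromSpecResidueField x ≫ f)).hom.toAlgebra
    haveI := hfin
    exact card_connectedComponents_bc_le k X Ω (X.residueField x) (X.fromSpecResidueField x)
      (Spec.map_preimage _).symm

end Groth.Agent.H1.ConnCompSch
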