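import Mathlib
import Groth.Prelude.Def_Curv2
import Groth.Agent.Lib.Helper1.GalActSch
import Groth.Agent.Lib.Helper1.ConnCompSch

/-! Helper1: the Galois action and the finite levels of `X_K` (stabilisers of quasi-compact opens
are open). -/

set_option autoImplicit false
set_option linter.style.haveILetI false
universe u
open CategoryTheory CategoryTheory.Limits AlgebraicGeometry IsLocalRing TensorProduct TopologicalSpace

namespace Groth.Agent.H1.GalActSch

open Groth.Agent.H1.BCTower Groth.Agent.H1.GeomConnSch Groth.Agent.H1.ConnCompSch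

variable (k : Type u) [Field k] (X : Scheme.{u}) [X.Over (Spec (CommRingCat.of k))]
  (K : Type u) [Field K] [Algebra k K]

/-- automorphisms fixing `E` act trivially on the level `X_E`. -/
theorem galAct_towerMap (E : Type u) [Field E] [Algebra k E] [Algebra E K] [IsScalarTower k E K]
    (σ : K ≃ₐ[k] K) (hσ : ∀ a : E, σ (algebraMap E K a) = algebraMap E K a) :
    Curv2.galAct k X K σ ≫ towerMap k X E K = towerMap k X E K := by
  apply pullback.hom_ext
  · show (Curv2.galAct k X K σ ≫ towerMap k X E K) ≫ Curv2.bcFst k X E =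
      towerMap k X E K ≫ Curv2.bcFst k X E
    rw [Category.assoc, towerMap_fst, galAct_fst]
  · show (Curv2.galAct k X K σ ≫ towerMap k X E K) ≫ Curv2.bcSnd k X E =
      towerMap k X E K ≫ Curv2.bcSnd k X E
    rw [Category.assoc, towerMap_snd, galAct_snd_assoc, ← Spec.map_comp]
    congr 2
    ext a
    exact hσ a

theorem towerMap_galAct_apply (E : Type u) [Field E] [Algebra k E] [Algebra E K]
    [IsScalarTower k E K] (σ : K ≃ₐ[k] K)
    (hσ : ∀ a : E, σ (algebraMap E K a) = algebraMap E K a) (y : ↥(Curv2.bc k X K)) :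
    towerMap k X E K (Curv2.galAct k X K σ y) = towerMap k X E K y := by
  rw [← Scheme.Hom.comp_apply, galAct_towerMap k X K E σ hσ]

/-- the Galois action is by bijections. -/
theorem galAct_image_eq_of_preimage (σ : K ≃ₐ[k] K) (N : Set ↥(Curv2.bc k X K))
    (h : ∀ τ : K ≃ₐ[k] K, (τ = σ ∨ τ = σ⁻¹) → ∀ y, Curv2.galAct k X K τ y ∈ N ↔ y ∈ N) :
    (Curv2.galAct k X K σ).base '' N = N := by
  ext y
  constructor
  · rintro ⟨z, hz, rfl⟩
    exact (h σ (Or.inl rfl) z).mpr hz
  · intro hy
    exact ⟨Curv2.galAct k X K σ⁻¹ y, (h σ⁻¹ (Or.inr rfl) y).mpr hy, galAct_apply_inv k X K σ y⟩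

/-- **stabilisers of quasi-compact opens are open.** -/
theorem s7621 (k : Type u) [Field k] (K : Type u) [Field K] [Algebra k K] [IsGalois k K]
    (X : Scheme.{u}) [X.Over (Spec (CommRingCat.of k))] (V : Set ↥(Curv2.bc k X K))
    (hV : IsOpen V) (hVc : IsCompact V) :
    ∃ E : IntermediateField k K, FiniteDimensional k ↥E ∧
      ∀ σ : K ≃ₐ[k] K, (∀ a : K, a ∈ E → σ a = a) →
        (Curv2.galAct k X K σ).base '' V = V := by
  classical
  haveI : Algebra.IsAlgebraic k K := inferInstance
  -- level neighbourhoods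
  have hnhd : ∀ y : V, ∃ (E : IntermediateField k K), FiniteDimensional k E ∧
      ∃ U : Set ↥(Curv2.bc k X E), IsOpen U ∧ y.1 ∈ (towerMap k X E K).base ⁻¹' U ∧
        (towerMap k X E K).base ⁻¹' U ⊆ V := by
    intro y
    obtain ⟨E, -, hE, U, hU, h1, h2⟩ := exists_level_nhd k X K y.1 V hV y.2 ⊥
    exact ⟨E, hE, U, hU, h1, h2⟩
  choose E hE U hU hyU hUV using hnhd
  obtain ⟨F, hF⟩ := hVc.elim_finite_subcover
    (fun y : V => (towerMap k X (E y) K).base ⁻¹' U y)
    (fun y => (hU y).preimage (towerMap k X (E y) K).continuous)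
    (fun z hz => Set.mem_iUnion.mpr ⟨⟨z, hz⟩, hyU ⟨z, hz⟩⟩)
  refine ⟨⨆ y : F, E y.1, ?_, ?_⟩
  · haveI : ∀ y : F, FiniteDimensional k (E y.1) := fun y => hE y.1
    exact IntermediateField.finiteDimensional_iSup_of_finite
  · intro σ hσ
    have hfix : ∀ τ : K ≃ₐ[k] K, (τ = σ ∨ τ = σ⁻¹) → ∀ a : K, a ∈ (⨆ y : F, E y.1) →
        τ a = a := by
      rintro τ (rfl | rfl) a ha
      · exact hσ a ha
      · have := hσ a ha
        calc σ⁻¹ a = σ⁻¹ (σ a) := by rw [this]
          _ = a := by
            show σ.symm (σ a) = a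
            exact σ.symm_apply_apply a
    apply galAct_image_eq_of_preimage
    intro τ hτ z
    have hlevel : ∀ y : F, towerMap k X (E y.1) K (Curv2.galAct k X K τ z) =
        towerMap k X (E y.1) K z := by
      intro y
      apply towerMap_galAct_apply
      intro a
      exact hfix τ hτ _ ((le_iSup (fun y : F => E y.1) y) a.2)
    have hVeq : V = ⋃ y ∈ F, (towerMap k X (E y) K).base ⁻¹' U y := by
      apply subset_antisymm hF
      intro w hw
      simp only [Set.mem_iUnion] at hw
      obtain ⟨y, -, hw⟩ := hw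
      exact hUV y hw
    rw [hVeq]
    simp only [Set.mem_iUnion, Set.mem_preimage]
    constructor
    · rintro ⟨y, hyF, hw⟩
      refine ⟨y, hyF, ?_⟩
      have := hlevel ⟨y, hyF⟩
      rw [← this]
      exact hw
    · rintro ⟨y, hyF, hw⟩
      refine ⟨y, hyF, ?_⟩
      have := hlevel ⟨y, hyF⟩
      show towerMap k X (E y) K (Curv2.galAct k X K τ z) ∈ U y
      rw [this]
      exact hw

end Groth.Agent.H1.GalActSch
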