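import Mathlib
import Groth.Prelude.Def_Curv2
import Groth.Prelude.Def_FDesc
import Groth.Agent.Lib.Helper1.ConnCompCount
import Groth.Agent.Lib.Helper1.GalActSch3

/-! Helper1: a finite separable extension making all connected components geometrically connected
(EGA IV 4.5.16-ish). -/

set_option autoImplicit false
set_option linter.style.haveILetI false
universe u
open CategoryTheory CategoryTheory.Limits AlgebraicGeometry IsLocalRing TensorProduct TopologicalSpace

namespace Groth.Agent.H1.ConnCompSch

open Groth.Agent.H1.BCTower Groth.Agent.H1.GeomConnSch Groth.Agent.H1.ConnCompTop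
  Groth.Agent.H1.GalActSch

theorem homeomorph_image_connectedComponent {A B : Type*} [TopologicalSpace A]
    [TopologicalSpace B] (h : A ≃ₜ B) (a : A) :
    h '' connectedComponent a = connectedComponent (h a) := by
  apply subset_antisymm (h.continuous.image_connectedComponent_subset a)
  intro b hb
  have := h.symm.continuous.image_connectedComponent_subset (h a) ⟨b, hb, rfl⟩
  rw [h.symm_apply_apply] at this
  exact ⟨h.symm b, this, h.apply_symm_apply b⟩

variable (k : Type u) [Field k] (X : Scheme.{u}) [X.Over (Spec (CommRingCat.of k))]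

section TowerGal

variable (E : Type u) [Field E] [Algebra k E] (K : Type u) [Field K] [Algebra k K] [Algebra E K]
  [IsScalarTower k E K]

@[reassoc]
theorem towerIso_hom_fst : (towerIso k X E K).hom ≫ Curv2.bcFst k X K =
    @Curv2.bcFst E _ (Curv2.bc k X E) (overK k X E) K _ _ ≫ Curv2.bcFst k X E := by
  rw [← towerIso_hom_towerMap, Category.assoc, towerMap_fst]

@[reassoc]
theorem towerIso_hom_snd : (towerIso k X E K).hom ≫ Curv2.bcSnd k X K =
    @Curv2.bcSnd E _ (Curv2.bc k X E) (overK k X E) K _ _ :=
  (isPullback_tower k X E K).isoPullback_inv_snd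

/-- compatibility of the two Galois actions. -/
theorem towerIso_hom_galAct (τ : K ≃ₐ[E] K) :
    (towerIso k X E K).hom ≫ Curv2.galAct k X K (τ.restrictScalars k) =
      @Curv2.galAct E _ (Curv2.bc k X E) (overK k X E) K _ _ τ ≫ (towerIso k X E K).hom := by
  letI := overK k X E
  apply pullback.hom_ext
  · show ((towerIso k X E K).hom ≫ Curv2.galAct k X K (τ.restrictScalars k)) ≫
      Curv2.bcFst k X K = (Curv2.galAct E (Curv2.bc k X E) K τ ≫ (towerIso k X E K).hom) ≫
        Curv2.bcFst k X K
    rw [Category.assoc, galAct_fst, Category.assoc, towerIso_hom_fst, galAct_fst_assoc]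
  · show ((towerIso k X E K).hom ≫ Curv2.galAct k X K (τ.restrictScalars k)) ≫
      Curv2.bcSnd k X K = (Curv2.galAct E (Curv2.bc k X E) K τ ≫ (towerIso k X E K).hom) ≫
        Curv2.bcSnd k X K
    rw [Category.assoc, galAct_snd, Category.assoc, towerIso_hom_snd, towerIso_hom_snd_assoc,
      galAct_snd]
    rfl

/-- transitivity of the automorphisms fixing `E` on the fibres of `X_K → X_E`. -/
theorem exists_galAct_eq_of_towerMap_eq [Normal E K] (y₁ y₂ : ↥(Curv2.bc k X K))
    (h : towerMap k X E K y₁ = towerMap k X E K y₂) :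
    ∃ σ : K ≃ₐ[k] K, (∀ a : E, σ (algebraMap E K a) = algebraMap E K a) ∧
      Curv2.galAct k X K σ y₁ = y₂ := by
  letI := overK k X E
  have h' : Curv2.bcFst E (Curv2.bc k X E) K ((towerIso k X E K).inv y₁) =
      Curv2.bcFst E (Curv2.bc k X E) K ((towerIso k X E K).inv y₂) := by
    rw [← Scheme.Hom.comp_apply, ← Scheme.Hom.comp_apply, towerIso_inv_fst]
    exact h
  obtain ⟨τ, hτ⟩ := exists_galAct_eq E (Curv2.bc k X E) K _ _ h'
  refine ⟨τ.restrictScalars k, fun a => τ.commutes a, ?_⟩
  have h1 : y₁ = (towerIso k X E K).hom ((towerIso k X E K).inv y₁) := by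
    rw [← Scheme.Hom.comp_apply, Iso.inv_hom_id]; rfl
  rw [h1, ← Scheme.Hom.comp_apply, towerIso_hom_galAct, Scheme.Hom.comp_apply, hτ,
    ← Scheme.Hom.comp_apply, Iso.inv_hom_id]
  rfl

/-- images of connected components under the tower maps. -/
theorem towerMap_image_connectedComponent (y : ↥(Curv2.bc k X K)) :
    (towerMap k X E K).base '' connectedComponent y = connectedComponent (towerMap k X E K y) := by
  letI := overK k X E
  have h1 := s1583 E (Curv2.bc k X E) K ((towerIso k X E K).inv y)
  have h2 : (towerIso k X E K).hom.base '' connectedComponent ((towerIso k X E K).inv y) =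
      connectedComponent y := by
    have := homeomorph_image_connectedComponent (towerIso k X E K).hom.homeomorph
      ((towerIso k X E K).inv y)
    have h3 : (towerIso k X E K).hom.homeomorph ((towerIso k X E K).inv y) = y := by
      show (towerIso k X E K).hom ((towerIso k X E K).inv y) = y
      rw [← Scheme.Hom.comp_apply, Iso.inv_hom_id]; rfl
    rw [h3] at this
    exact this
  have h4 : Curv2.bcFst E (Curv2.bc k X E) K ((towerIso k X E K).inv y) =
      towerMap k X E K y := by
    rw [← Scheme.Hom.comp_apply, towerIso_inv_fst]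
  rw [h4] at h1
  rw [← h1, ← h2, ← Set.image_comp]
  congr 1
  ext z
  show towerMap k X E K ((towerIso k X E K).hom z) = Curv2.bcFst E (Curv2.bc k X E) K z
  rw [← Scheme.Hom.comp_apply, towerIso_hom_towerMap]

end TowerGal

/-- version of `card_connectedComponents_bc_le` for a not necessarily connected `X`: finitely many
components of `X_Ω` lie over the component of a point whose residue field has finite separable
part. -/
theorem finite_components_over (Ω : Type u) [Field Ω] [Algebra k Ω]
    (κ : Type u) [Field κ] [Algebra k κ] (j : Spec (CommRingCat.of κ) ⟶ X)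
    (hj : j ≫ (X ↘ Spec (CommRingCat.of k)) = Spec.map (CommRingCat.ofHom (algebraMap k κ)))
    [FiniteDimensional k (separableClosure k κ)] (x : ↥X) (hx : x ∈ Set.range j) :
    {c : _root_.ConnectedComponents ↥(Curv2.bc k X Ω) | ∃ a, ConnectedComponents.mk a = c ∧
      Curv2.bcFst k X Ω a ∈ connectedComponent x}.Finite := by
  letI oS : (Spec (CommRingCat.of κ)).Over (Spec (CommRingCat.of k)) :=
    ⟨Spec.map (CommRingCat.ofHom (algebraMap k κ))⟩
  letI oS' : (Spec (CommRingCat.of ↥(separableClosure k κ))).Over (Spec (CommRingCat.of k)) :=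
    ⟨Spec.map (CommRingCat.ofHom (algebraMap k ↥(separableClosure k κ)))⟩
  obtain ⟨g, hg⟩ : ∃ g : Spec (CommRingCat.of κ) ⟶ Spec (CommRingCat.of ↥(separableClosure k κ)),
      g = Spec.map (CommRingCat.ofHom (algebraMap ↥(separableClosure k κ) κ)) := ⟨_, rfl⟩
  haveI : g.IsOver (Spec (CommRingCat.of k)) := ⟨by rw [hg]; exact specMap_comp k _ κ⟩
  haveI : j.IsOver (Spec (CommRingCat.of k)) := ⟨hj⟩
  haveI hgc : GeometricallyConnected g := by
    rw [hg]
    exact geometricallyConnected_specMap_of_sepClosedIn ↥(separableClosure k κ) κ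
      (separableClosure.separableClosure_eq_bot k κ)
  obtain ⟨hfin, -⟩ := card_bc_spec_le k ↥(separableClosure k κ) Ω
  haveI := hfin
  haveI : GeometricallyConnected (pullback.snd g
      (Curv2.bcFst k (Spec (CommRingCat.of ↥(separableClosure k κ))) Ω)) :=
    MorphismProperty.pullback_snd _ _ inferInstance
  let e₁ := pullbackIso k (Spec (CommRingCat.of ↥(separableClosure k κ)))
    (Spec (CommRingCat.of κ)) g Ω
  let e₂ := pullbackIso k X (Spec (CommRingCat.of κ)) j Ω
  let jΩ : pullback g (Curv2.bcFst k (Spec (CommRingCat.of ↥(separableClosure k κ))) Ω) ⟶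
      Curv2.bc k X Ω := e₁.hom ≫ e₂.inv ≫ pullback.snd j (Curv2.bcFst k X Ω)
  have hfib : ∀ s, _root_.IsConnected ((pullback.snd g
      (Curv2.bcFst k (Spec (CommRingCat.of ↥(separableClosure k κ))) Ω)).base ⁻¹' {s}) :=
    fun s => Scheme.Hom.isConnected_preimage_singleton _ s
  let Ψ : ↥(Curv2.bc k (Spec (CommRingCat.of ↥(separableClosure k κ))) Ω) →
      _root_.ConnectedComponents ↥(Curv2.bc k X Ω) :=
    fun s => ConnectedComponents.mk (jΩ.base (hfib s).nonempty.some)
  refine (Set.finite_range Ψ).subset ?_
  rintro c ⟨a, rfl, ha⟩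
  have h1 := s1583 k X Ω a
  rw [← connectedComponent_eq ha] at h1
  obtain ⟨a', ha', hpa'⟩ : x ∈ (Curv2.bcFst k X Ω).base '' connectedComponent a := by
    rw [h1]; exact mem_connectedComponent
  have hrange : a' ∈ Set.range (pullback.snd j (Curv2.bcFst k X Ω)) := by
    rw [Scheme.Pullback.range_snd]
    show (Curv2.bcFst k X Ω) a' ∈ Set.range j
    rw [show (Curv2.bcFst k X Ω) a' = x from hpa']
    exact hx
  obtain ⟨b₂, hb₂⟩ := hrange
  obtain ⟨b, hb⟩ : ∃ b, b = e₁.inv (e₂.hom b₂) := ⟨_, rfl⟩
  have hjb : jΩ b = a' := by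
    show (e₁.hom ≫ e₂.inv ≫ pullback.snd j (Curv2.bcFst k X Ω)) b = a'
    rw [hb, ← Scheme.Hom.comp_apply, ← Scheme.Hom.comp_apply]
    simp only [Category.assoc, Iso.inv_hom_id_assoc, Iso.hom_inv_id_assoc]
    exact hb₂
  refine ⟨(pullback.snd g
    (Curv2.bcFst k (Spec (CommRingCat.of ↥(separableClosure k κ))) Ω)) b, ?_⟩
  show ConnectedComponents.mk _ = ConnectedComponents.mk a
  rw [ConnectedComponents.coe_eq_coe]
  have hpre : _root_.IsPreconnected (jΩ.base '' ((pullback.snd g
      (Curv2.bcFst k (Spec (CommRingCat.of ↥(separableClosure k κ))) Ω)).base ⁻¹'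
        {(pullback.snd g
          (Curv2.bcFst k (Spec (CommRingCat.of ↥(separableClosure k κ))) Ω)) b})) :=
    (hfib _).isPreconnected.image _ jΩ.continuous.continuousOn
  have hsome := (hfib ((pullback.snd g
    (Curv2.bcFst k (Spec (CommRingCat.of ↥(separableClosure k κ))) Ω)) b)).nonempty.some_mem
  have hsub := hpre.subset_connectedComponent (x := jΩ.base b) ⟨b, rfl, rfl⟩
  have hmem := hsub ⟨_, hsome, rfl⟩
  rw [← connectedComponent_eq hmem]
  have : jΩ.base b = a' := hjb
  rw [this]
  exact (connectedComponent_eq ha').symm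

/-- finitely many connected components of `X_Ω` when `X` has finitely many components each
containing a point with finite separable part. -/
theorem finite_connectedComponents_bc [Finite (_root_.ConnectedComponents ↥X)]
    (hx : ∀ c : _root_.ConnectedComponents ↥X, ∃ x : X, _root_.ConnectedComponents.mk x = c ∧
      FBase.ResidueFieldProp (X ↘ Spec (CommRingCat.of k)) x
        (fun K _ _ => FiniteDimensional k (separableClosure k K)))
    (Ω : Type u) [Field Ω] [Algebra k Ω] :
    Finite (_root_.ConnectedComponents ↥(Curv2.bc k X Ω)) := by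
  choose x hxc hxr using hx
  have hfin : ∀ c : _root_.ConnectedComponents ↥X,
      {C : _root_.ConnectedComponents ↥(Curv2.bc k X Ω) | ∃ a, ConnectedComponents.mk a = C ∧
        Curv2.bcFst k X Ω a ∈ connectedComponent (x c)}.Finite := by
    intro c
    obtain ⟨φ, hφ, hfd⟩ := hxr c
    letI : Algebra k (X.residueField (x c)) := φ.toAlgebra
    haveI : FiniteDimensional k (separableClosure k (X.residueField (x c))) := hfd
    refine finite_components_over k X Ω (X.residueField (x c))
      (X.fromSpecResidueField (x c)) hφ.symm (x c) ?_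
    exact ⟨IsLocalRing.closedPoint _, X.fromSpecResidueField_apply (x c) _⟩
  rw [← Set.finite_univ_iff]
  refine (Set.finite_iUnion hfin).subset ?_
  intro C _
  obtain ⟨a, rfl⟩ := ConnectedComponents.surjective_coe C
  refine Set.mem_iUnion.mpr ⟨ConnectedComponents.mk (Curv2.bcFst k X Ω a), a, rfl, ?_⟩
  have := hxc (ConnectedComponents.mk (Curv2.bcFst k X Ω a))
  rw [ConnectedComponents.coe_eq_coe] at this
  rw [this]
  exact mem_connectedComponent

/-- if the components of `X_K` are open (`K/k` algebraic), a finite level `E` has all its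
automorphisms stabilising every component. -/
theorem exists_level_stabilizing (K : Type u) [Field K] [Algebra k K] [Algebra.IsAlgebraic k K]
    [Finite (_root_.ConnectedComponents ↥(Curv2.bc k X K))] :
    ∃ E : IntermediateField k K, FiniteDimensional k E ∧
      ∀ σ : K ≃ₐ[k] K, (∀ a : E, σ (algebraMap E K a) = algebraMap E K a) →
        ∀ t : ↥(Curv2.bc k X K), Curv2.galAct k X K σ t ∈ connectedComponent t := by
  have hopen : ∀ t : ↥(Curv2.bc k X K), IsOpen (connectedComponent t) :=
    ConnectedComponents.discreteTopology_iff.mp inferInstance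
  have hrep : ∀ C : _root_.ConnectedComponents ↥(Curv2.bc k X K),
      ∃ (t : ↥(Curv2.bc k X K)) (E : IntermediateField k K), ConnectedComponents.mk t = C ∧
        FiniteDimensional k E ∧
        ∃ U : Set ↥(Curv2.bc k X E), t ∈ (towerMap k X E K).base ⁻¹' U ∧
          (towerMap k X E K).base ⁻¹' U ⊆ connectedComponent t := by
    intro C
    obtain ⟨t, rfl⟩ := ConnectedComponents.surjective_coe C
    obtain ⟨E, -, hE, U, -, h1, h2⟩ := exists_level_nhd k X K t (connectedComponent t) (hopen t)
      mem_connectedComponent ⊥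
    exact ⟨t, E, rfl, hE, U, h1, h2⟩
  choose t E ht hE U htU hUt using hrep
  refine ⟨⨆ C, E C, ?_, ?_⟩
  · haveI : ∀ C, FiniteDimensional k (E C) := hE
    exact IntermediateField.finiteDimensional_iSup_of_finite
  · intro σ hσ s
    -- the representative
    obtain ⟨C, hC⟩ : ∃ C, C = ConnectedComponents.mk s := ⟨_, rfl⟩
    have hcc : connectedComponent (t C) = connectedComponent s := by
      rw [← ConnectedComponents.coe_eq_coe, ht C, hC]
    have hσE : ∀ a : E C, σ (algebraMap (E C) K a) = algebraMap (E C) K a := by
      intro a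
      exact hσ ⟨a.1, (le_iSup E C) a.2⟩
    have h1 : Curv2.galAct k X K σ (t C) ∈ connectedComponent (t C) := by
      apply hUt C
      show towerMap k X (E C) K (Curv2.galAct k X K σ (t C)) ∈ U C
      rw [towerMap_galAct_apply k X K (E C) σ hσE]
      exact htU C
    have h2 : Curv2.galAct k X K σ s ∈ connectedComponent (Curv2.galAct k X K σ (t C)) := by
      apply (Curv2.galAct k X K σ).continuous.image_connectedComponent_subset (t C)
      refine ⟨s, ?_, rfl⟩
      rw [hcc]
      exact mem_connectedComponent
    rw [← connectedComponent_eq h1, hcc] at h2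
    exact h2

theorem s4645 {k : Type u} [Field k] {X : Scheme.{u}}
    (f : X ⟶ Spec (CommRingCat.of k)) [Finite (_root_.ConnectedComponents ↥X)]
    (hx : ∀ c : _root_.ConnectedComponents ↥X, ∃ x : X, _root_.ConnectedComponents.mk x = c ∧
      FBase.ResidueFieldProp f x (fun K _ _ => FiniteDimensional k (separableClosure k K))) :
    ∃ (k'' : Type u) (_ : Field k'') (_ : Algebra k k''), FiniteDimensional k k'' ∧
      Algebra.IsSeparable k k'' ∧
      ∀ (K : Type u) [Field K] [Algebra k'' K] (x' : ↥(FBase.bc f k'')),
        _root_.IsConnected (⇑(FBase.bcπ (FBase.bcStr f k'') K) ⁻¹' connectedComponent x') := by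
  letI : X.Over (Spec (CommRingCat.of k)) := ⟨f⟩
  haveI : Finite (_root_.ConnectedComponents ↥(Curv2.bc k X (SeparableClosure k))) :=
    finite_connectedComponents_bc k X hx (SeparableClosure k)
  obtain ⟨E, hE, hstab⟩ := exists_level_stabilizing k X (SeparableClosure k)
  haveI := hE
  refine ⟨↥E, inferInstance, inferInstance, hE, inferInstance, ?_⟩
  intro K _ _ x'
  letI := overK k X ↥E
  show _root_.IsConnected ((Curv2.bcFst ↥E (Curv2.bc k X ↥E) K).base ⁻¹' connectedComponent x')
  haveI : IsGalois ↥E (SeparableClosure k) := IsGalois.tower_top_of_isGalois k ↥E _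
  haveI : Normal ↥E (SeparableClosure k) := inferInstance
  refine isConnected_preimage_of_sepClosed ↥E (Curv2.bc k X ↥E) (SeparableClosure k)
    (connectedComponent x') isClosed_connectedComponent ?_ K
  obtain ⟨t, ht⟩ := (towerMap k X ↥E (SeparableClosure k)).surjective x'
  have hclaim : (towerMap k X ↥E (SeparableClosure k)).base ⁻¹' connectedComponent x' =
      connectedComponent t := by
    apply subset_antisymm
    · intro y hy
      have h1 := towerMap_image_connectedComponent k X ↥E (SeparableClosure k) y
      have hcc : connectedComponent (towerMap k X ↥E (SeparableClosure k) y) =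
          connectedComponent x' := (connectedComponent_eq hy).symm
      obtain ⟨y', hy', hqy'⟩ : x' ∈ (towerMap k X ↥E (SeparableClosure k)).base ''
          connectedComponent y := by
        rw [h1, hcc]; exact mem_connectedComponent
      obtain ⟨σ, hσ, hσt⟩ := exists_galAct_eq_of_towerMap_eq k X ↥E (SeparableClosure k) t y'
        (ht.trans hqy'.symm)
      have h2 : y' ∈ connectedComponent t := by
        rw [← hσt]
        exact hstab σ hσ t
      rw [connectedComponent_eq h2, ← connectedComponent_eq hy']
      exact mem_connectedComponent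
    · intro y hy
      have := (towerMap k X ↥E (SeparableClosure k)).continuous.image_connectedComponent_subset t
        ⟨y, hy, rfl⟩
      rw [show (towerMap k X ↥E (SeparableClosure k)).base t = x' from ht] at this
      exact this
  have hpre : (Curv2.bcFst ↥E (Curv2.bc k X ↥E) (SeparableClosure k)).base ⁻¹'
      connectedComponent x' = (towerIso k X ↥E (SeparableClosure k)).hom.homeomorph ⁻¹'
        connectedComponent t := by
    rw [← hclaim]
    ext z
    show Curv2.bcFst ↥E (Curv2.bc k X ↥E) (SeparableClosure k) z ∈ connectedComponent x' ↔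
      towerMap k X ↥E (SeparableClosure k) ((towerIso k X ↥E (SeparableClosure k)).hom z) ∈
        connectedComponent x'
    rw [← Scheme.Hom.comp_apply, towerIso_hom_towerMap]
  rw [hpre, Homeomorph.isConnected_preimage]
  exact isConnected_connectedComponent

end Groth.Agent.H1.ConnCompSch
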