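import Mathlib
import Groth.Prelude.Def_MoreMor
import Groth.Agent.Lib.Helper1.ConnCompSch3
import Groth.Agent.Lib.Helper1.ConnCompCount2

set_option autoImplicit false
set_option linter.style.haveILetI false
universe u
open CategoryTheory CategoryTheory.Limits AlgebraicGeometry

namespace Groth.Agent.H1.SecComp

/-- the identity of the spectrum of a field is geometrically connected. -/
instance geometricallyConnected_id (k : Type u) [Field k] :
    GeometricallyConnected (𝟙 (Spec (CommRingCat.of k))) := by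
  rw [GeometricallyConnected.eq_geometrically,
    geometrically_iff_of_commRing_of_isClosedUnderIsomorphisms]
  intro K _ _
  have : IsIso (pullback.snd (𝟙 (Spec (CommRingCat.of k)))
      (Spec.map (CommRingCat.ofHom (algebraMap k K)))) := inferInstance
  exact (asIso (pullback.snd (𝟙 (Spec (CommRingCat.of k)))
      (Spec.map (CommRingCat.ofHom (algebraMap k K))))).hom.homeomorph.connectedSpace_iff.mpr
        (inferInstanceAs (ConnectedSpace (PrimeSpectrum K)))

/-- connected components of a topological fibre, via the scheme-theoretic fibre. -/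
theorem fiberι_image_connectedComponent {X Y : Scheme.{u}} (f : X ⟶ Y) (y : Y)
    (σ : f.fiber y) :
    f.fiberι y '' connectedComponent σ = connectedComponentIn (f ⁻¹' {y}) (f.fiberι y σ) := by
  have hmem : f.fiberι y σ ∈ f ⁻¹' {y} := by
    rw [← f.range_fiberι y]; exact ⟨σ, rfl⟩
  rw [connectedComponentIn_eq_image hmem]
  have h1 := Groth.Agent.H1.ConnCompSch.homeomorph_image_connectedComponent (f.fiberHomeo y) σ
  have h2 : (f.fiberHomeo y) σ = ⟨f.fiberι y σ, hmem⟩ := Subtype.ext rfl
  rw [h2] at h1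
  rw [← h1, Set.image_image]
  rfl



set_option backward.isDefEq.respectTransparency false in
theorem mem_of_mem {X Y X' Y' : Scheme.{u}} (f : X ⟶ Y) (s : Y ⟶ X) (hs : s ≫ f = 𝟙 Y)
    (f' : X' ⟶ Y') (g' : X' ⟶ X) (g : Y' ⟶ Y) (hc : IsPullback g' f' f g)
    (s' : Y' ⟶ X') (hs' : s' ≫ f' = 𝟙 Y') (hs'g : s' ≫ g' = g ≫ s) (y' : Y') (x' : X')
    (hx' : f' x' = y')
    (h : g' x' ∈ connectedComponentIn (f ⁻¹' {g y'}) (s (g y'))) :
    x' ∈ connectedComponentIn (f' ⁻¹' {y'}) (s' y') := by
  -- the fibres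
  have hφ := isPullback_fiberToSpecResidueField_of_isPullback hc y'
  set φ : f'.fiber y' ⟶ f.fiber (g y') :=
    pullback.map _ _ _ _ g' (Spec.map (g.residueFieldMap y')) g hc.w.symm (by simp) with hφdef
  have hφι : φ ≫ f.fiberι (g y') = f'.fiberι y' ≫ g' := by
    simp only [hφdef, Scheme.Hom.fiberι]
    exact pullback.lift_fst _ _ _
  have hφι' : ∀ z, f.fiberι (g y') (φ z) = g' (f'.fiberι y' z) := fun z => by
    rw [← Scheme.Hom.comp_apply, hφι, Scheme.Hom.comp_apply]
  -- the section point
  let hsec : Spec (Y.residueField (g y')) ⟶ f.fiber (g y') :=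
    pullback.lift (Y.fromSpecResidueField (g y') ≫ s) (𝟙 _) (by
      rw [Category.assoc, hs, Category.comp_id, Category.id_comp])
  have hsec1 : hsec ≫ f.fiberι (g y') = Y.fromSpecResidueField (g y') ≫ s :=
    pullback.lift_fst _ _ _
  have hsec2 : hsec ≫ f.fiberToSpecResidueField (g y') = 𝟙 _ := pullback.lift_snd _ _ _
  set σ : f.fiber (g y') := hsec (IsLocalRing.closedPoint (Y.residueField (g y'))) with hσ
  have hισ : f.fiberι (g y') σ = s (g y') := by
    rw [hσ, ← Scheme.Hom.comp_apply, hsec1, Scheme.Hom.comp_apply,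
      Scheme.fromSpecResidueField_apply]
  -- the preimage of the component is connected
  letI alg : Algebra ↑(Y.residueField (g y')) ↑(Y'.residueField y') :=
    (g.residueFieldMap y').hom.toAlgebra
  have hconn := @Groth.Agent.H1.ConnCompSch.s4621 ↑(Y.residueField (g y'))
    ↑(Y'.residueField y') _ _ alg _ _ (f.fiberToSpecResidueField (g y')) (𝟙 _) hsec hsec2
    (geometricallyConnected_id _)
    (IsLocalRing.closedPoint (Y.residueField (g y')))
  have hB : _root_.IsConnected (φ ⁻¹' connectedComponent σ) := by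
    let e := hφ.isoPullback
    have he : e.hom ≫ pullback.fst _ _ = φ := hφ.isoPullback_hom_fst
    have hpre : (φ ⁻¹' connectedComponent σ : Set (f'.fiber y')) =
        e.hom ⁻¹' ((@FBase.bcπ ↑(Y.residueField (g y')) _ _ (f.fiberToSpecResidueField (g y'))
          ↑(Y'.residueField y') _ alg) ⁻¹' connectedComponent σ) := by
      ext w
      simp only [Set.mem_preimage]
      rw [← he]
      rfl
    rw [hpre]
    exact (e.hom.homeomorph.isConnected_preimage).mpr hconn
  -- conclude
  have hx'mem : x' ∈ Set.range (f'.fiberι y') := by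
    rw [f'.range_fiberι y']; exact hx'
  obtain ⟨z, rfl⟩ := hx'mem
  have hs'mem : s' y' ∈ Set.range (f'.fiberι y') := by
    rw [f'.range_fiberι y']
    show f' (s' y') = y'
    rw [← Scheme.Hom.comp_apply, hs']; rfl
  obtain ⟨z₀, hz₀⟩ := hs'mem
  have hinj : Function.Injective (f.fiberι (g y')) := (f.fiberι (g y')).isEmbedding.injective
  have hzB : z ∈ φ ⁻¹' connectedComponent σ := by
    rw [← hισ, ← fiberι_image_connectedComponent] at h
    obtain ⟨w, hw, hwz⟩ := h
    rw [← hφι'] at hwz
    rw [Set.mem_preimage, ← hinj hwz]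
    exact hw
  have hz₀B : z₀ ∈ φ ⁻¹' connectedComponent σ := by
    have : φ z₀ = σ := by
      apply hinj
      rw [hφι', hz₀, hισ, ← Scheme.Hom.comp_apply, hs'g, Scheme.Hom.comp_apply]
    rw [Set.mem_preimage, this]
    exact mem_connectedComponent
  have himg : _root_.IsPreconnected (f'.fiberι y' '' (φ ⁻¹' connectedComponent σ)) :=
    hB.isPreconnected.image _ (f'.fiberι y').continuous.continuousOn
  have hsub := himg.subset_connectedComponentIn (x := s' y') (F := f' ⁻¹' {y'})
    ⟨z₀, hz₀B, hz₀⟩ (by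
      rw [← f'.range_fiberι y']
      exact Set.image_subset_range _ _)
  exact hsub ⟨z, hzB, rfl⟩



theorem s1324 {X Y X' Y' : Scheme.{u}} (f : X ⟶ Y) (s : Y ⟶ X) (hs : s ≫ f = 𝟙 Y)
    (f' : X' ⟶ Y') (g' : X' ⟶ X) (g : Y' ⟶ Y) (hc : IsPullback g' f' f g)
    (s' : Y' ⟶ X') (hs' : s' ≫ f' = 𝟙 Y') (hs'g : s' ≫ g' = g ≫ s) :
    MoreMor.sectionComponents f' s' = g' ⁻¹' MoreMor.sectionComponents f s := by
  ext x'
  have hw : f (g' x') = g (f' x') := by
    rw [← Scheme.Hom.comp_apply, hc.w, Scheme.Hom.comp_apply]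
  simp only [MoreMor.sectionComponents, Set.mem_preimage, Set.mem_ofPred_eq]
  rw [hw]
  constructor
  · intro h
    -- forward: image of the connected component is connected
    have hx'F : x' ∈ f' ⁻¹' {f' x'} := rfl
    have hsF : s' (f' x') ∈ f' ⁻¹' {f' x'} := by
      show f' (s' (f' x')) = f' x'
      rw [← Scheme.Hom.comp_apply, hs']; rfl
    have hpc : _root_.IsPreconnected (g' '' connectedComponentIn (f' ⁻¹' {f' x'}) (s' (f' x'))) :=
      isPreconnected_connectedComponentIn.image _ g'.continuous.continuousOn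
    have hsub := hpc.subset_connectedComponentIn (x := s (g (f' x'))) (F := f ⁻¹' {g (f' x')})
      ⟨s' (f' x'), mem_connectedComponentIn hsF, by
        rw [← Scheme.Hom.comp_apply, hs'g, Scheme.Hom.comp_apply]⟩ (by
        rintro _ ⟨w, hw', rfl⟩
        have hwF : f' w = f' x' :=
          (connectedComponentIn_subset (f' ⁻¹' {f' x'}) (s' (f' x')) hw' : w ∈ f' ⁻¹' {f' x'})
        show f (g' w) = g (f' x')
        rw [← Scheme.Hom.comp_apply, hc.w, Scheme.Hom.comp_apply, hwF])
    exact hsub ⟨x', h, rfl⟩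
  · intro h
    exact mem_of_mem f s hs f' g' g hc s' hs' hs'g (f' x') x' rfl h

end Groth.Agent.H1.SecComp
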