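import Mathlib
import Groth.Agent.Lib.Helper1.GIrrJ
import Groth.Agent.Lib.Helper1.SecCompA

/-!
# Section components are generically clopen: the case of `Spec A`, `Frac A` algebraically closed
(helper1)
-/

set_option autoImplicit false
set_option linter.style.haveILetI false
universe u

open TensorProduct AlgebraicGeometry CategoryTheory CategoryTheory.Limits Topology

namespace Groth.Agent.H1.GIrr

section decomposition

variable (A K : Type u) [CommRing A] [IsDomain A] [Field K] [Algebra A K] [IsFractionRing A K]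
  [IsAlgClosed K] {X : Scheme.{u}} (f : X ⟶ Spec (CommRingCat.of A)) [LocallyOfFiniteType f]
  [QuasiCompact f]

/-- the closure in `X` of the image of an irreducible component of the generic geometric fibre. -/
def compClosure (c : ↥(irreducibleComponents
    ↥(pullback f (Spec.map (CommRingCat.ofHom (algebraMap A K)))))) : Set X :=
  closure ((pullback.fst f (Spec.map (CommRingCat.ofHom (algebraMap A K)))) '' c.1)

set_option maxHeartbeats 1000000 in
/-- structural form of the spreading out of the decomposition into irreducible components. -/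
theorem exists_good' :
    ∃ a : A, a ≠ 0 ∧ ∀ (Ω : Type u) [Field Ω] [Algebra A Ω], algebraMap A Ω a ≠ 0 →
      ∀ ⦃Z : Scheme.{u}⦄ (fst : Z ⟶ X) (snd : Z ⟶ Spec (CommRingCat.of Ω)),
        IsPullback fst snd f (Spec.map (CommRingCat.ofHom (algebraMap A Ω))) →
        (∀ c, IsIrreducible (fst ⁻¹' compClosure A K f c)) ∧
        (∀ z : Z, ∃ c, z ∈ fst ⁻¹' compClosure A K f c) ∧
        (∀ c c', (fst ⁻¹' compClosure A K f c ∩ fst ⁻¹' compClosure A K f c').Nonempty ↔
          (c.1 ∩ c'.1).Nonempty) := by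
  classical
  haveI : Finite ↥(irreducibleComponents
      ↥(pullback f (Spec.map (CommRingCat.ofHom (algebraMap A K))))) :=
    (finite_irreducibleComponents_generic A K f).to_subtype
  obtain ⟨T, hT⟩ : ∃ T : ↥(irreducibleComponents
      ↥(pullback f (Spec.map (CommRingCat.ofHom (algebraMap A K))))) → Set X,
      T = compClosure A K f := ⟨_, rfl⟩
  rw [← hT]
  have hTcl : ∀ c, IsClosed (T c) := fun c => by rw [hT]; exact isClosed_closure
  have hpre : ∀ c, (pullback.fst f (Spec.map (CommRingCat.ofHom (algebraMap A K)))) ⁻¹' T c =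
      c.1 := fun c => by
    rw [hT]
    exact preimage_closure_image A K f c.1 (isClosed_of_mem_irreducibleComponents c.1 c.2)
  have h1 : ∀ c, ∃ a : A, a ≠ 0 ∧ ∀ (Ω : Type u) [Field Ω] [Algebra A Ω], algebraMap A Ω a ≠ 0 →
      ∀ ⦃Z : Scheme.{u}⦄ (fst : Z ⟶ X) (snd : Z ⟶ Spec (CommRingCat.of Ω)),
        IsPullback fst snd f (Spec.map (CommRingCat.ofHom (algebraMap A Ω))) →
        IsIrreducible (fst ⁻¹' T c) := fun c =>
    exists_irreducible_preimage A K f (T c) (hTcl c) (by rw [hpre c]; exact c.2.1)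
  choose a₁ ha₁ H₁ using h1
  obtain ⟨a₂, ha₂, H₂⟩ := exists_cover_closure A K f
  have hcov₀ : closure (Set.range
      (pullback.fst f (Spec.map (CommRingCat.ofHom (algebraMap A K))))) ⊆ ⋃ c, T c := by
    refine closure_minimal ?_ (isClosed_iUnion_of_finite hTcl)
    rintro _ ⟨z₀, rfl⟩
    refine Set.mem_iUnion.mpr ⟨⟨irreducibleComponent z₀,
      irreducibleComponent_mem_irreducibleComponents z₀⟩, ?_⟩
    rw [hT]
    exact subset_closure ⟨z₀, mem_irreducibleComponent, rfl⟩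
  have h4 : ∀ c c', ∃ a : A, a ≠ 0 ∧ ∀ (Ω : Type u) [Field Ω] [Algebra A Ω],
      algebraMap A Ω a ≠ 0 →
      ∀ ⦃Z : Scheme.{u}⦄ (fst : Z ⟶ X) (snd : Z ⟶ Spec (CommRingCat.of Ω)),
        IsPullback fst snd f (Spec.map (CommRingCat.ofHom (algebraMap A Ω))) →
        ((fst ⁻¹' T c ∩ fst ⁻¹' T c').Nonempty ↔ (c.1 ∩ c'.1).Nonempty) := by
    intro c c'
    by_cases hne : (c.1 ∩ c'.1).Nonempty
    · have hne' : ((pullback.fst f (Spec.map (CommRingCat.ofHom (algebraMap A K)))) ⁻¹'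
          ((T c ∩ T c') ∩ Set.univ)).Nonempty := by
        rw [Set.inter_univ, Set.preimage_inter, hpre, hpre]; exact hne
      obtain ⟨a, ha, H⟩ := exists_nonempty_preimage A K f (T c ∩ T c')
        ((hTcl c).inter (hTcl c')) Set.univ isOpen_univ hne'
      refine ⟨a, ha, fun Ω _ _ hΩ Z fst snd hZ => ⟨fun _ => hne, fun _ => ?_⟩⟩
      have := H Ω hΩ fst snd hZ
      rwa [Set.inter_univ, Set.preimage_inter] at this
    · have hemp : (pullback.fst f (Spec.map (CommRingCat.ofHom (algebraMap A K)))) ⁻¹'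
          (T c ∩ T c') = ∅ := by
        rw [Set.preimage_inter, hpre, hpre]; exact Set.not_nonempty_iff_eq_empty.mp hne
      obtain ⟨a, ha, H⟩ := exists_empty_preimage A K f (T c ∩ T c')
        ((hTcl c).inter (hTcl c')) hemp
      refine ⟨a, ha, fun Ω _ _ hΩ Z fst snd hZ => ⟨fun h => ?_, fun h => absurd h hne⟩⟩
      have := H Ω hΩ fst snd hZ
      rw [Set.preimage_inter] at this
      rw [this] at h
      exact absurd h Set.not_nonempty_empty
  choose a₄ ha₄ H₄ using h4
  haveI : Fintype ↥(irreducibleComponents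
      ↥(pullback f (Spec.map (CommRingCat.ofHom (algebraMap A K))))) := Fintype.ofFinite _
  refine ⟨((∏ c, a₁ c) * a₂) * (∏ c, ∏ c', a₄ c c'), ?_, fun Ω _ _ haΩ Z fst snd hZ => ?_⟩
  · exact mul_ne_zero (mul_ne_zero (Finset.prod_ne_zero_iff.mpr fun c _ => ha₁ c) ha₂)
      (Finset.prod_ne_zero_iff.mpr fun c _ => Finset.prod_ne_zero_iff.mpr fun c' _ => ha₄ c c')
  · rw [map_mul, map_mul, mul_ne_zero_iff, mul_ne_zero_iff] at haΩ
    obtain ⟨⟨hΩ1, hΩ2⟩, hΩ4⟩ := haΩ
    have k1 : ∀ c, algebraMap A Ω (a₁ c) ≠ 0 := by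
      intro c
      rw [map_prod] at hΩ1
      exact Finset.prod_ne_zero_iff.mp hΩ1 c (Finset.mem_univ _)
    have k4 : ∀ c c', algebraMap A Ω (a₄ c c') ≠ 0 := by
      intro c c'
      rw [map_prod] at hΩ4
      have h := Finset.prod_ne_zero_iff.mp hΩ4 c (Finset.mem_univ _)
      rw [map_prod] at h
      exact Finset.prod_ne_zero_iff.mp h c' (Finset.mem_univ _)
    refine ⟨fun c => H₁ c Ω (k1 c) fst snd hZ, fun z => ?_,
      fun c c' => H₄ c c' Ω (k4 c c') fst snd hZ⟩
    have := hcov₀ (H₂ Ω hΩ2 fst snd hZ z)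
    obtain ⟨c, hc⟩ := Set.mem_iUnion.mp this
    exact ⟨c, hc⟩

end decomposition

set_option maxHeartbeats 1000000 in
/-- over a dense open of the base, the section components and their complement are cut out by
closed subsets. -/
theorem exists_closed_of_algClosed (A K : Type u) [CommRing A] [IsDomain A] [Field K]
    [Algebra A K] [IsFractionRing A K] [IsAlgClosed K] {X : Scheme.{u}}
    (f : X ⟶ Spec (CommRingCat.of A)) [LocallyOfFiniteType f] [QuasiCompact f]
    (s : Spec (CommRingCat.of A) ⟶ X)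
    (hs : s ≫ f = 𝟙 (Spec (CommRingCat.of A))) :
    ∃ a : A, a ≠ 0 ∧ ∃ W W' : Set X, IsClosed W ∧ IsClosed W' ∧
      ∀ x : X, a ∉ (f x : PrimeSpectrum A).asIdeal →
        ((x ∈ MoreMor.sectionComponents f s ↔ x ∈ W) ∧
          (x ∉ MoreMor.sectionComponents f s ↔ x ∈ W')) := by
  classical
  obtain ⟨a, ha, H⟩ := exists_good' A K f
  haveI : Finite ↥(irreducibleComponents
      ↥(pullback f (Spec.map (CommRingCat.ofHom (algebraMap A K))))) :=
    (finite_irreducibleComponents_generic A K f).to_subtype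
  have hfs : ∀ p : PrimeSpectrum A, f (s p) = p := by
    intro p
    change (s ≫ f) p = p
    rw [hs]
    rfl
  obtain ⟨z₀, hz₀⟩ := mem_range_fst_of_eq_bot A K (IsFractionRing.injective A K) f
    (s (⟨⊥, Ideal.isPrime_bot⟩ : PrimeSpectrum A)) (hfs _)
  obtain ⟨c₀, hc₀⟩ : ∃ c₀ : ↥(irreducibleComponents
      ↥(pullback f (Spec.map (CommRingCat.ofHom (algebraMap A K))))), z₀ ∈ c₀.1 :=
    ⟨⟨irreducibleComponent z₀, irreducibleComponent_mem_irreducibleComponents z₀⟩,
      mem_irreducibleComponent⟩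
  obtain ⟨r₀, hr₀⟩ : ∃ r₀ : ↥(irreducibleComponents
      ↥(pullback f (Spec.map (CommRingCat.ofHom (algebraMap A K))))) →
      ↥(irreducibleComponents
      ↥(pullback f (Spec.map (CommRingCat.ofHom (algebraMap A K))))) → Prop,
      r₀ = fun c c' => (c.1 ∩ c'.1).Nonempty := ⟨_, rfl⟩
  obtain ⟨I₀, hI₀⟩ : ∃ I₀ : Set ↥(irreducibleComponents
      ↥(pullback f (Spec.map (CommRingCat.ofHom (algebraMap A K))))),
      I₀ = {c | Relation.EqvGen r₀ c c₀} := ⟨_, rfl⟩
  have hW : IsClosed (⋃ c ∈ I₀, compClosure A K f c) :=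
    (Set.toFinite I₀).isClosed_biUnion (fun c _ => isClosed_closure)
  have hW' : IsClosed (⋃ c ∈ I₀ᶜ, compClosure A K f c) :=
    (Set.toFinite I₀ᶜ).isClosed_biUnion (fun c _ => isClosed_closure)
  refine ⟨a, ha, ⋃ c ∈ I₀, compClosure A K f c, ⋃ c ∈ I₀ᶜ, compClosure A K f c, hW, hW',
    fun x hx => ?_⟩
  obtain ⟨Ω, _, _, _, hker⟩ := exists_sepClosed_field A (f x)
  have hΩ : algebraMap A Ω a ≠ 0 := fun h => hx (by rw [← hker]; exact RingHom.mem_ker.mpr h)
  obtain ⟨Z, fst, snd, hZ⟩ : ∃ (Z : Scheme.{u}) (fst : Z ⟶ X)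
      (snd : Z ⟶ Spec (CommRingCat.of Ω)),
      IsPullback fst snd f (Spec.map (CommRingCat.ofHom (algebraMap A Ω))) :=
    ⟨_, _, _, IsPullback.of_hasPullback f _⟩
  obtain ⟨G1, G2, G4⟩ := H Ω hΩ fst snd hZ
  -- the fibre
  have hfst : ∀ z : Z, f (fst z) = f x := by
    intro z
    apply PrimeSpectrum.ext
    rw [asIdeal_apply_fst f fst snd hZ z, hker]
  have hfib : ∀ x' : X, f x' = f x → ∃ z : Z, fst z = x' := by
    intro x' hx'
    have hpt : (Spec.map (CommRingCat.ofHom (algebraMap A Ω)))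
        (⟨⊥, Ideal.isPrime_bot⟩ : PrimeSpectrum Ω) = f x := by
      apply PrimeSpectrum.ext
      change Ideal.comap (algebraMap A Ω) ⊥ = (f x : PrimeSpectrum A).asIdeal
      rw [← hker, RingHom.ker_eq_comap_bot]
    obtain ⟨z, hz, -⟩ := Scheme.exists_preimage_of_isPullback hZ x'
      (⟨⊥, Ideal.isPrime_bot⟩ : PrimeSpectrum Ω) (hx'.trans hpt.symm)
    exact ⟨z, hz⟩
  -- cover and disjointness upstairs
  have hcov : ∀ z : Z, fst z ∈ (⋃ c ∈ I₀, compClosure A K f c) ∨
      fst z ∈ (⋃ c ∈ I₀ᶜ, compClosure A K f c) := by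
    intro z
    obtain ⟨c, hc⟩ := G2 z
    by_cases hcI : c ∈ I₀
    · exact Or.inl (Set.mem_biUnion hcI hc)
    · exact Or.inr (Set.mem_biUnion (show c ∈ I₀ᶜ from hcI) hc)
  have hdisj : ∀ z : Z, fst z ∈ (⋃ c ∈ I₀, compClosure A K f c) →
      fst z ∈ (⋃ c ∈ I₀ᶜ, compClosure A K f c) → False := by
    intro z h1 h2
    obtain ⟨c, hcI, hc⟩ := Set.mem_iUnion₂.mp h1
    obtain ⟨c', hc'I, hc'⟩ := Set.mem_iUnion₂.mp h2
    have hr : r₀ c c' := by
      rw [hr₀]
      exact (G4 c c').mp ⟨z, hc, hc'⟩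
    apply hc'I
    rw [hI₀] at hcI ⊢
    exact Relation.EqvGen.trans _ _ _
      (Relation.EqvGen.symm _ _ (Relation.EqvGen.rel _ _ hr)) hcI
  -- connectedness upstairs
  have hsubCC : ∀ c, ∀ z ∈ fst ⁻¹' compClosure A K f c,
      fst ⁻¹' compClosure A K f c ⊆ connectedComponent z := fun c z hz =>
    (G1 c).isConnected.isPreconnected.subset_connectedComponent hz
  have hQ : ∀ c c', Relation.EqvGen r₀ c c' →
      ∀ z ∈ fst ⁻¹' compClosure A K f c, ∀ z' ∈ fst ⁻¹' compClosure A K f c',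
        z' ∈ connectedComponent z := by
    intro c c' h
    induction h with
    | rel c c' h =>
      intro z hz z' hz'
      rw [hr₀] at h
      obtain ⟨w, hw, hw'⟩ := (G4 c c').mpr h
      have h1 : w ∈ connectedComponent z := hsubCC c z hz hw
      rw [connectedComponent_eq h1]
      exact hsubCC c' w hw' hz'
    | refl c =>
      intro z hz z' hz'
      exact hsubCC c z hz hz'
    | symm c c' _ ih =>
      intro z hz z' hz'
      have h1 := ih z' hz' z hz
      rw [← connectedComponent_eq h1]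
      exact mem_connectedComponent
    | trans c c' c'' _ _ ih1 ih2 =>
      intro z hz z'' hz''
      obtain ⟨w, hw⟩ := (G1 c').nonempty
      have h1 := ih1 z hz w hw
      have h2 := ih2 w hw z'' hz''
      rw [connectedComponent_eq h1]
      exact h2
  obtain ⟨zs, hzs⟩ := (G1 c₀).nonempty
  have hc₀I : c₀ ∈ I₀ := by rw [hI₀]; exact Relation.EqvGen.refl _
  have hSsub : fst ⁻¹' (⋃ c ∈ I₀, compClosure A K f c) ⊆ connectedComponent zs := by
    intro z hz
    obtain ⟨c, hcI, hc⟩ := Set.mem_iUnion₂.mp hz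
    rw [hI₀] at hcI
    exact hQ c₀ c (Relation.EqvGen.symm _ _ hcI) zs hzs z hc
  have hSclopen : IsClopen (fst ⁻¹' (⋃ c ∈ I₀, compClosure A K f c)) := by
    refine ⟨hW.preimage fst.continuous, ?_⟩
    have hcompl : (fst ⁻¹' (⋃ c ∈ I₀, compClosure A K f c))ᶜ =
        fst ⁻¹' (⋃ c ∈ I₀ᶜ, compClosure A K f c) := by
      ext z
      constructor
      · intro hz
        rcases hcov z with h | h
        · exact absurd h hz
        · exact h
      · intro hz hz'
        exact hdisj z hz' hz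
    rw [← isClosed_compl_iff, hcompl]
    exact hW'.preimage fst.continuous
  have hSeq : fst ⁻¹' (⋃ c ∈ I₀, compClosure A K f c) = connectedComponent zs :=
    Set.Subset.antisymm hSsub (hSclopen.connectedComponent_subset
      (Set.mem_biUnion hc₀I hzs))
  have hSpre : _root_.IsPreconnected (fst ⁻¹' (⋃ c ∈ I₀, compClosure A K f c)) := by
    rw [hSeq]; exact isPreconnected_connectedComponent
  -- downstairs
  have hWF : (⋃ c ∈ I₀, compClosure A K f c) ∩ f ⁻¹' {f x} =
      fst '' (fst ⁻¹' (⋃ c ∈ I₀, compClosure A K f c)) := by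
    ext x'
    constructor
    · rintro ⟨hx'W, hx'F⟩
      obtain ⟨z, hz⟩ := hfib x' hx'F
      exact ⟨z, by rw [Set.mem_preimage, hz]; exact hx'W, hz⟩
    · rintro ⟨z, hz, rfl⟩
      exact ⟨hz, hfst z⟩
  have hpre : _root_.IsPreconnected ((⋃ c ∈ I₀, compClosure A K f c) ∩ f ⁻¹' {f x}) := by
    rw [hWF]
    exact hSpre.image fst fst.continuous.continuousOn
  have hspW : s (f x) ∈ (⋃ c ∈ I₀, compClosure A K f c) := by
    have h1 : (⟨⊥, Ideal.isPrime_bot⟩ : PrimeSpectrum A) ⤳ f x :=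
      (PrimeSpectrum.le_iff_specializes _ _).mp bot_le
    have h2 : s (⟨⊥, Ideal.isPrime_bot⟩ : PrimeSpectrum A) ⤳ s (f x) := h1.map s.continuous
    have h3 : s (⟨⊥, Ideal.isPrime_bot⟩ : PrimeSpectrum A) ∈ compClosure A K f c₀ := by
      rw [← hz₀]
      exact subset_closure ⟨z₀, hc₀, rfl⟩
    exact Set.mem_biUnion hc₀I (h2.mem_closed isClosed_closure h3)
  have hspF : s (f x) ∈ f ⁻¹' {f x} := hfs (f x)
  have hsub1 : (⋃ c ∈ I₀, compClosure A K f c) ∩ f ⁻¹' {f x} ⊆
      connectedComponentIn (f ⁻¹' {f x}) (s (f x)) :=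
    hpre.subset_connectedComponentIn ⟨hspW, hspF⟩ Set.inter_subset_right
  have hsub2 : connectedComponentIn (f ⁻¹' {f x}) (s (f x)) ⊆
      (⋃ c ∈ I₀, compClosure A K f c) := by
    intro x' hx'
    by_contra hx'W
    have hx'F : x' ∈ f ⁻¹' {f x} := connectedComponentIn_subset _ _ hx'
    obtain ⟨z, hz⟩ := hfib x' hx'F
    have hx'W' : x' ∈ (⋃ c ∈ I₀ᶜ, compClosure A K f c) := by
      rcases hcov z with h | h
      · rw [hz] at h; exact absurd h hx'W
      · rw [hz] at h; exact h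
    have hcover : connectedComponentIn (f ⁻¹' {f x}) (s (f x)) ⊆
        (⋃ c ∈ I₀, compClosure A K f c) ∪ (⋃ c ∈ I₀ᶜ, compClosure A K f c) := by
      intro x'' hx''
      have hx''F : x'' ∈ f ⁻¹' {f x} := connectedComponentIn_subset _ _ hx''
      obtain ⟨z'', hz''⟩ := hfib x'' hx''F
      rcases hcov z'' with h | h
      · rw [hz''] at h; exact Or.inl h
      · rw [hz''] at h; exact Or.inr h
    obtain ⟨x'', hx''C, hx''W, hx''W'⟩ := (isPreconnected_closed_iff.mp
      (isPreconnected_connectedComponentIn (F := f ⁻¹' {f x}) (x := s (f x)))) _ _ hW hW' hcover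
      ⟨s (f x), mem_connectedComponentIn hspF, hspW⟩ ⟨x', hx', hx'W'⟩
    have hx''F : x'' ∈ f ⁻¹' {f x} := connectedComponentIn_subset _ _ hx''C
    obtain ⟨z'', hz''⟩ := hfib x'' hx''F
    exact hdisj z'' (by rw [hz'']; exact hx''W) (by rw [hz'']; exact hx''W')
  have hxF : x ∈ f ⁻¹' {f x} := rfl
  have hE : x ∈ MoreMor.sectionComponents f s ↔
      x ∈ connectedComponentIn (f ⁻¹' {f x}) (s (f x)) := Iff.rfl
  obtain ⟨zx, hzx⟩ := hfib x rfl
  refine ⟨⟨fun h => hsub2 (hE.mp h), fun h => hE.mpr (hsub1 ⟨h, hxF⟩)⟩, ⟨fun h => ?_, fun h h' => ?_⟩⟩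
  · rcases hcov zx with h1 | h1
    · rw [hzx] at h1
      exact absurd (hE.mpr (hsub1 ⟨h1, hxF⟩)) h
    · rw [hzx] at h1
      exact h1
  · exact hdisj zx (by rw [hzx]; exact hsub2 (hE.mp h')) (by rw [hzx]; exact h)

end Groth.Agent.H1.GIrr
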