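import Mathlib
import Groth.Agent.Lib.Helper1.GIrrL

/-!
# Section components are clopen over a nonempty open of the closure of a point (helper1)
-/

set_option autoImplicit false
set_option linter.style.haveILetI false
universe u

open TensorProduct AlgebraicGeometry CategoryTheory CategoryTheory.Limits Topology

namespace Groth.Agent.H1.GIrr

/-- over `V`, the section components and their complement are cut out by closed subsets. -/
def SecGood {X Y : Scheme.{u}} (f : X ⟶ Y) (s : Y ⟶ X) (V : Set Y) : Prop :=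
  ∃ W W' : Set X, IsClosed W ∧ IsClosed W' ∧ ∀ x : X, f x ∈ V →
    ((x ∈ MoreMor.sectionComponents f s ↔ x ∈ W) ∧
      (x ∉ MoreMor.sectionComponents f s ↔ x ∈ W'))

theorem SecGood.mono {X Y : Scheme.{u}} {f : X ⟶ Y} {s : Y ⟶ X} {V V' : Set Y}
    (h : SecGood f s V) (hV : V' ⊆ V) : SecGood f s V' := by
  obtain ⟨W, W', hW, hW', H⟩ := h
  exact ⟨W, W', hW, hW', fun x hx => H x (hV hx)⟩

theorem SecGood.isClopen {X Y : Scheme.{u}} {f : X ⟶ Y} {s : Y ⟶ X} {V : Set Y}
    (h : SecGood f s V) :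
    IsClopen (Subtype.val ⁻¹' MoreMor.sectionComponents f s : Set ↥(f ⁻¹' V)) := by
  obtain ⟨W, W', hW, hW', H⟩ := h
  have h1 : (Subtype.val ⁻¹' MoreMor.sectionComponents f s : Set ↥(f ⁻¹' V)) =
      Subtype.val ⁻¹' W := by
    ext ⟨x, hx⟩
    exact (H x hx).1
  have h2 : (Subtype.val ⁻¹' MoreMor.sectionComponents f s : Set ↥(f ⁻¹' V))ᶜ =
      Subtype.val ⁻¹' W' := by
    ext ⟨x, hx⟩
    exact (H x hx).2
  refine ⟨by rw [h1]; exact hW.preimage continuous_subtype_val, ?_⟩
  rw [← isClosed_compl_iff, h2]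
  exact hW'.preimage continuous_subtype_val

theorem SecGood.descend {X Y X' Y' : Scheme.{u}} (f : X ⟶ Y) (s : Y ⟶ X) (hs : s ≫ f = 𝟙 Y)
    (f' : X' ⟶ Y') (g' : X' ⟶ X) (g : Y' ⟶ Y) (hc : IsPullback g' f' f g)
    (s' : Y' ⟶ X') (hs' : s' ≫ f' = 𝟙 Y') (hs'g : s' ≫ g' = g ≫ s) (V : Set Y)
    (hsurj : ∀ x : X, f x ∈ V → ∃ x' : X', g' x' = x)
    (hcl : ∀ C' : Set X', IsClosed C' → ∃ C : Set X, IsClosed C ∧
      ∀ x : X, f x ∈ V → (x ∈ C ↔ ∃ x' : X', g' x' = x ∧ x' ∈ C'))
    (h : SecGood f' s' (g ⁻¹' V)) : SecGood f s V := by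
  obtain ⟨W, W', hW, hW', H⟩ := h
  obtain ⟨C₁, hC₁, h₁⟩ := hcl W hW
  obtain ⟨C₂, hC₂, h₂⟩ := hcl W' hW'
  have hE := Groth.Agent.H1.SecComp.s1324 f s hs f' g' g hc s' hs' hs'g
  have hfg : ∀ x' : X', g (f' x') = f (g' x') := fun x' => by
    change (f' ≫ g) x' = (g' ≫ f) x'
    rw [hc.w]
  have hmemV : ∀ (x : X) (x' : X'), f x ∈ V → g' x' = x → f' x' ∈ g ⁻¹' V := by
    intro x x' hx hx'
    change g (f' x') ∈ V
    rw [hfg, hx']
    exact hx
  have hEiff : ∀ x' : X', x' ∈ MoreMor.sectionComponents f' s' ↔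
      g' x' ∈ MoreMor.sectionComponents f s := by
    intro x'
    rw [hE]
    rfl
  refine ⟨C₁, C₂, hC₁, hC₂, fun x hx => ⟨?_, ?_⟩⟩
  · rw [h₁ x hx]
    constructor
    · intro hxE
      obtain ⟨x', hx'⟩ := hsurj x hx
      refine ⟨x', hx', ?_⟩
      exact (H x' (hmemV x x' hx hx')).1.mp ((hEiff x').mpr (by rw [hx']; exact hxE))
    · rintro ⟨x', hx', hx'W⟩
      have h3 := (hEiff x').mp ((H x' (hmemV x x' hx hx')).1.mpr hx'W)
      rw [hx'] at h3
      exact h3
  · rw [h₂ x hx]
    constructor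
    · intro hxE
      obtain ⟨x', hx'⟩ := hsurj x hx
      refine ⟨x', hx', ?_⟩
      refine (H x' (hmemV x x' hx hx')).2.mp (fun h3 => hxE ?_)
      have h4 := (hEiff x').mp h3
      rw [hx'] at h4
      exact h4
    · rintro ⟨x', hx', hx'W⟩ hxE
      exact (H x' (hmemV x x' hx hx')).2.mpr hx'W ((hEiff x').mpr (by rw [hx']; exact hxE))

theorem SecGood.descend_of_isEmbedding {X Y X' Y' : Scheme.{u}} (f : X ⟶ Y) (s : Y ⟶ X)
    (hs : s ≫ f = 𝟙 Y) (f' : X' ⟶ Y') (g' : X' ⟶ X) (g : Y' ⟶ Y) (hc : IsPullback g' f' f g)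
    (s' : Y' ⟶ X') (hs' : s' ≫ f' = 𝟙 Y') (hs'g : s' ≫ g' = g ≫ s) (V : Set Y)
    (hemb : IsEmbedding g') (hV : ∀ x : X, f x ∈ V → x ∈ Set.range g')
    (h : SecGood f' s' (g ⁻¹' V)) : SecGood f s V := by
  refine SecGood.descend f s hs f' g' g hc s' hs' hs'g V hV (fun C' hC' => ?_) h
  refine ⟨closure (g' '' C'), isClosed_closure, fun x hx => ?_⟩
  obtain ⟨x₁, rfl⟩ := hV x hx
  have h1 : x₁ ∈ C' ↔ g' x₁ ∈ closure (g' '' C') := by
    have := hemb.isInducing.closure_eq_preimage_closure_image C'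
    rw [hC'.closure_eq] at this
    exact Set.ext_iff.mp this x₁
  rw [← h1]
  constructor
  · intro hx₁
    exact ⟨x₁, rfl, hx₁⟩
  · rintro ⟨x', hx', hx'C⟩
    rw [← hemb.injective hx']
    exact hx'C

theorem SecGood.descend_of_isClosedMap {X Y X' Y' : Scheme.{u}} (f : X ⟶ Y) (s : Y ⟶ X)
    (hs : s ≫ f = 𝟙 Y) (f' : X' ⟶ Y') (g' : X' ⟶ X) (g : Y' ⟶ Y) (hc : IsPullback g' f' f g)
    (s' : Y' ⟶ X') (hs' : s' ≫ f' = 𝟙 Y') (hs'g : s' ≫ g' = g ≫ s) (V : Set Y)
    (hclm : IsClosedMap g') (hsurj : Function.Surjective g')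
    (h : SecGood f' s' (g ⁻¹' V)) : SecGood f s V := by
  refine SecGood.descend f s hs f' g' g hc s' hs' hs'g V (fun x _ => hsurj x)
    (fun C' hC' => ?_) h
  refine ⟨g' '' C', hclm _ hC', fun x _ => ?_⟩
  constructor
  · rintro ⟨x', h1, h2⟩
    exact ⟨x', h2, h1⟩
  · rintro ⟨x', h1, h2⟩
    exact ⟨x', h2, h1⟩

/-! ### the induced section of a base change -/

section baseChangeSection

variable {X Y Y' : Scheme.{u}} (f : X ⟶ Y) (s : Y ⟶ X) (hs : s ≫ f = 𝟙 Y) (g : Y' ⟶ Y)

/-- the induced section of the base change. -/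
noncomputable def bcSection : Y' ⟶ pullback f g :=
  pullback.lift (g ≫ s) (𝟙 Y') (by rw [Category.assoc, hs, Category.comp_id, Category.id_comp])

theorem bcSection_snd : bcSection f s hs g ≫ pullback.snd f g = 𝟙 Y' := pullback.lift_snd _ _ _

theorem bcSection_fst : bcSection f s hs g ≫ pullback.fst f g = g ≫ s := pullback.lift_fst _ _ _

end baseChangeSection

/-! ### the chain of reductions -/

theorem secGood_spec_of_algClosed (A K : Type u) [CommRing A] [IsDomain A] [Field K]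
    [Algebra A K] [IsFractionRing A K] [IsAlgClosed K] {X : Scheme.{u}}
    (f : X ⟶ Spec (CommRingCat.of A)) [LocallyOfFiniteType f] [QuasiCompact f]
    (s : Spec (CommRingCat.of A) ⟶ X) (hs : s ≫ f = 𝟙 (Spec (CommRingCat.of A))) :
    ∃ a : A, a ≠ 0 ∧ SecGood f s {p : PrimeSpectrum A | a ∉ p.asIdeal} := by
  obtain ⟨a, ha, W, W', hW, hW', H⟩ := exists_closed_of_algClosed A K f s hs
  exact ⟨a, ha, W, W', hW, hW', fun x hx => H x hx⟩

set_option maxHeartbeats 1000000 in
theorem secGood_spec (A : Type u) [CommRing A] [IsDomain A] {X : Scheme.{u}}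
    (f : X ⟶ Spec (CommRingCat.of A)) [LocallyOfFiniteType f] [QuasiCompact f]
    (s : Spec (CommRingCat.of A) ⟶ X) (hs : s ≫ f = 𝟙 (Spec (CommRingCat.of A))) :
    ∃ a : A, a ≠ 0 ∧ SecGood f s {p : PrimeSpectrum A | a ∉ p.asIdeal} := by
  haveI : Algebra.IsAlgebraic A (AlgebraicClosure (FractionRing A)) :=
    IsFractionRing.comap_isAlgebraic_iff.mpr
      (inferInstance : Algebra.IsAlgebraic (FractionRing A) (AlgebraicClosure (FractionRing A)))
  have hinjL : Function.Injective (algebraMap A (AlgebraicClosure (FractionRing A))) := by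
    rw [IsScalarTower.algebraMap_eq A (FractionRing A) (AlgebraicClosure (FractionRing A))]
    exact (algebraMap (FractionRing A) (AlgebraicClosure (FractionRing A))).injective.comp
      (IsFractionRing.injective A _)
  haveI : IsFractionRing (integralClosure A (AlgebraicClosure (FractionRing A)))
      (AlgebraicClosure (FractionRing A)) :=
    integralClosure.isFractionRing_of_algebraic (A := A) (fun x hx => hinjL (by rw [hx, map_zero]))
  have hinjAbar : Function.Injective
      (algebraMap A (integralClosure A (AlgebraicClosure (FractionRing A)))) := by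
    intro x y hxy
    apply hinjL
    have := congrArg (algebraMap (integralClosure A (AlgebraicClosure (FractionRing A)))
      (AlgebraicClosure (FractionRing A))) hxy
    rwa [← IsScalarTower.algebraMap_apply, ← IsScalarTower.algebraMap_apply] at this
  obtain ⟨g, hg⟩ : ∃ g : Spec (CommRingCat.of (integralClosure A
      (AlgebraicClosure (FractionRing A)))) ⟶ Spec (CommRingCat.of A),
      g = Spec.map (CommRingCat.ofHom (algebraMap A
        (integralClosure A (AlgebraicClosure (FractionRing A))))) := ⟨_, rfl⟩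
  have hgpt : ∀ q : PrimeSpectrum (integralClosure A (AlgebraicClosure (FractionRing A))),
      (g q : PrimeSpectrum A).asIdeal = Ideal.comap (algebraMap A
        (integralClosure A (AlgebraicClosure (FractionRing A)))) q.asIdeal := by
    intro q; rw [hg]; rfl
  haveI hgint : IsIntegralHom g := by
    rw [hg, IsIntegralHom.SpecMap_iff, CommRingCat.hom_ofHom]
    exact algebraMap_isIntegral_iff.mpr inferInstance
  have hgsurj : Function.Surjective g := by
    intro p
    obtain ⟨Q, -, hQ, hQp⟩ := Ideal.exists_ideal_over_prime_of_isIntegral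
      (p : PrimeSpectrum A).asIdeal
      (⊥ : Ideal (integralClosure A (AlgebraicClosure (FractionRing A)))) (by
        rw [← RingHom.ker_eq_comap_bot, (RingHom.injective_iff_ker_eq_bot _).mp hinjAbar]
        exact bot_le)
    refine ⟨(⟨Q, hQ⟩ : PrimeSpectrum (integralClosure A
      (AlgebraicClosure (FractionRing A)))), ?_⟩
    apply PrimeSpectrum.ext
    rw [hgpt]
    exact hQp
  haveI : Surjective g := ⟨hgsurj⟩
  haveI : Surjective (pullback.fst f g) :=
    MorphismProperty.pullback_fst (P := @Surjective) _ _ inferInstance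
  haveI : UniversallyClosed (pullback.fst f g) :=
    MorphismProperty.pullback_fst (P := @UniversallyClosed) _ _ inferInstance
  obtain ⟨abar, habar, hgood⟩ := secGood_spec_of_algClosed
    (integralClosure A (AlgebraicClosure (FractionRing A))) (AlgebraicClosure (FractionRing A))
    (pullback.snd f g) (bcSection f s hs g) (bcSection_snd f s hs g)
  have halg : IsAlgebraic A abar := (Algebra.IsIntegral.isIntegral abar).isAlgebraic
  obtain ⟨a, ha, hdvd⟩ := halg.exists_nonzero_dvd (mem_nonZeroDivisors_of_ne_zero habar)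
  refine ⟨a, ha, ?_⟩
  refine SecGood.descend_of_isClosedMap f s hs (pullback.snd f g) (pullback.fst f g) g
    (IsPullback.of_hasPullback f g) (bcSection f s hs g) (bcSection_snd f s hs g)
    (bcSection_fst f s hs g) _ (pullback.fst f g).isClosedMap (pullback.fst f g).surjective
    (hgood.mono ?_)
  intro q hq habarq
  apply hq
  change a ∈ (g q : PrimeSpectrum A).asIdeal
  rw [hgpt, Ideal.mem_comap]
  obtain ⟨c, hc⟩ := hdvd
  rw [hc]
  exact Ideal.mul_mem_right _ _ habarq

set_option backward.isDefEq.respectTransparency.types false in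
theorem secGood_integral {X Z : Scheme.{u}} (f : X ⟶ Z) [IsIntegral Z] [LocallyOfFiniteType f]
    [QuasiCompact f] (s : Z ⟶ X) (hs : s ≫ f = 𝟙 Z) :
    ∃ V : Z.Opens, genericPoint Z ∈ V ∧ SecGood f s (V : Set Z) := by
  obtain ⟨W, hW, hηW, -⟩ := exists_isAffineOpen_mem_and_subset (x := genericPoint Z)
    (U := ⊤) trivial
  haveI : IsDomain Γ(Z, W) := @IsIntegral.component_integral Z _ W ⟨⟨_, hηW⟩⟩
  have hj : hW.fromSpec (⟨⊥, Ideal.isPrime_bot⟩ : PrimeSpectrum Γ(Z, W)) = genericPoint Z := by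
    have hr : genericPoint Z ∈ Set.range hW.fromSpec := by rw [hW.range_fromSpec]; exact hηW
    obtain ⟨p₀, hp₀⟩ := hr
    have h0 : (⟨⊥, Ideal.isPrime_bot⟩ : PrimeSpectrum Γ(Z, W)) ⤳ p₀ :=
      (PrimeSpectrum.le_iff_specializes _ _).mp (show (⊥ : Ideal Γ(Z, W)) ≤ p₀.asIdeal from bot_le)
    have h1 : hW.fromSpec (⟨⊥, Ideal.isPrime_bot⟩ : PrimeSpectrum Γ(Z, W)) ⤳ genericPoint Z := by
      rw [← hp₀]
      exact h0.map hW.fromSpec.continuous
    have h2 : genericPoint Z ⤳ hW.fromSpec (⟨⊥, Ideal.isPrime_bot⟩ : PrimeSpectrum Γ(Z, W)) :=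
      (genericPoint_spec Z).specializes (Set.mem_univ _)
    exact (h1.antisymm h2).eq
  obtain ⟨a, ha, hgood⟩ := secGood_spec Γ(Z, W) (pullback.snd f hW.fromSpec)
    (bcSection f s hs hW.fromSpec) (bcSection_snd f s hs hW.fromSpec)
  have hmem : ∀ p : PrimeSpectrum Γ(Z, W), hW.fromSpec p ∈ Z.basicOpen a ↔ a ∉ p.asIdeal := by
    intro p
    have h1 : hW.fromSpec p ∈ Z.basicOpen a ↔ p ∈ hW.fromSpec ⁻¹ᵁ Z.basicOpen a := Iff.rfl
    rw [h1, hW.fromSpec_preimage_basicOpen]
    rfl
  refine ⟨Z.basicOpen a, ?_, ?_⟩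
  · rw [← hj]
    exact (hmem _).mpr (fun h0 => ha (by simpa using h0))
  · refine SecGood.descend_of_isEmbedding f s hs (pullback.snd f hW.fromSpec)
      (pullback.fst f hW.fromSpec) hW.fromSpec (IsPullback.of_hasPullback f hW.fromSpec)
      (bcSection f s hs hW.fromSpec) (bcSection_snd f s hs hW.fromSpec)
      (bcSection_fst f s hs hW.fromSpec) _
      (pullback.fst f hW.fromSpec).isOpenEmbedding.isEmbedding ?_ (hgood.mono ?_)
    · intro x hx
      rw [Scheme.Pullback.range_fst, Set.mem_preimage, hW.range_fromSpec]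
      exact Z.basicOpen_le a hx
    · intro p hp
      exact (hmem p).mp hp

theorem secGood_main {X Y : Scheme.{u}} (f : X ⟶ Y) [LocallyOfFiniteType f] [QuasiCompact f]
    (s : Y ⟶ X) (hs : s ≫ f = 𝟙 Y) (y : Y) :
    ∃ V : Set Y, V ⊆ closure {y} ∧ y ∈ V ∧
      IsOpen (Subtype.val ⁻¹' V : Set ↥(closure ({y} : Set Y))) ∧ SecGood f s V := by
  obtain ⟨Z, i, hi, hr, hZ⟩ := Groth.Agent.H1.ConsFib.exists_integral_closedImmersion Y
    (closure {y}) isClosed_closure isIrreducible_singleton.closure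
  haveI := hi
  haveI := hZ
  have hiη : i (genericPoint Z) = y := by
    have hy : y ∈ Set.range i := by rw [hr]; exact subset_closure rfl
    obtain ⟨z₀, hz₀⟩ := hy
    have h1 : i (genericPoint Z) ⤳ y := by
      rw [← hz₀]
      exact ((genericPoint_spec Z).specializes (Set.mem_univ z₀)).map i.continuous
    have h2 : y ⤳ i (genericPoint Z) := by
      rw [specializes_iff_mem_closure, ← hr]
      exact ⟨_, rfl⟩
    exact (h1.antisymm h2).eq
  obtain ⟨V, hηV, hgood⟩ := secGood_integral (pullback.snd f i) (bcSection f s hs i)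
    (bcSection_snd f s hs i)
  obtain ⟨O, hO, hOV⟩ := i.isEmbedding.isInducing.isOpen_iff.mp V.isOpen
  refine ⟨i '' (V : Set Z), ?_, ⟨genericPoint Z, hηV, hiη⟩, ?_, ?_⟩
  · rw [← hr]
    exact Set.image_subset_range _ _
  · have h1 : i '' (V : Set Z) = O ∩ closure {y} := by
      rw [← hOV, Set.image_preimage_eq_inter_range, hr]
    rw [h1]
    have h2 : (Subtype.val ⁻¹' (O ∩ closure {y}) : Set ↥(closure ({y} : Set Y))) =
        Subtype.val ⁻¹' O := by
      ext ⟨x, hx⟩
      simp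
    rw [h2]
    exact hO.preimage continuous_subtype_val
  · refine SecGood.descend_of_isEmbedding f s hs (pullback.snd f i)
      (pullback.fst f i) i (IsPullback.of_hasPullback f i)
      (bcSection f s hs i) (bcSection_snd f s hs i)
      (bcSection_fst f s hs i) _
      (pullback.fst f i).isClosedEmbedding.isEmbedding ?_ (hgood.mono ?_)
    · intro x hx
      rw [Scheme.Pullback.range_fst, Set.mem_preimage]
      exact Set.image_subset_range _ _ hx
    · intro z hz
      obtain ⟨z', hz', hzz'⟩ := hz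
      rw [← i.isEmbedding.injective hzz']
      exact hz'

/-- **S1325**. -/
theorem main1325 {X Y : Scheme.{u}} (f : X ⟶ Y) (s : Y ⟶ X) (hs : s ≫ f = 𝟙 Y)
    [LocallyOfFiniteType f] [QuasiCompact f] (y : Y) :
    ∃ V : Set Y, V ⊆ closure {y} ∧ y ∈ V ∧
      IsOpen (Subtype.val ⁻¹' V : Set ↥(closure ({y} : Set Y))) ∧
      IsClopen (Subtype.val ⁻¹' MoreMor.sectionComponents f s : Set ↥(f ⁻¹' V)) := by
  obtain ⟨V, h1, h2, h3, h4⟩ := secGood_main f s hs y
  exact ⟨V, h1, h2, h3, h4.isClopen⟩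

end Groth.Agent.H1.GIrr
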