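import Mathlib
import Groth.Agent.Lib.Helper1.GIrrM
import Groth.Agent.Lib.Helper5.Lim.FGSub2
import Groth.Agent.Lib.Helper5.Lim.Model11
import Groth.Agent.Lib.Helper5.Lim.Model3

/-!
# Section components are locally constructible (helper1)
-/

set_option autoImplicit false
set_option linter.style.haveILetI false
universe u

open TensorProduct AlgebraicGeometry CategoryTheory CategoryTheory.Limits Topology

namespace Groth.Agent.H1.GIrr

/-! ### the Noetherian case -/

theorem isConstructible_sectionComponents_of_noetherian {X Y : Scheme.{u}} [IsNoetherian Y]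
    (f : X ⟶ Y) [LocallyOfFiniteType f] [QuasiCompact f] (s : Y ⟶ X) (hs : s ≫ f = 𝟙 Y) :
    IsConstructible (MoreMor.sectionComponents f s) := by
  haveI : IsLocallyNoetherian X := LocallyOfFiniteType.isLocallyNoetherian f
  haveI : CompactSpace X := QuasiCompact.compactSpace_of_compactSpace f
  haveI : IsNoetherian X := {}
  have key : ∀ T : Set Y, IsClosed T →
      IsConstructible (MoreMor.sectionComponents f s ∩ f ⁻¹' T) := by
    refine Groth.Agent.H8.CNoeth.closed_induction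
      (P := fun T => IsConstructible (MoreMor.sectionComponents f s ∩ f ⁻¹' T)) ?_ ?_ ?_
    · show IsConstructible (MoreMor.sectionComponents f s ∩ f ⁻¹' ∅)
      rw [Set.preimage_empty, Set.inter_empty]
      exact Groth.Agent.H8.CNoeth.isConstructible_of_isClosed isClosed_empty
    · intro T hTc hTi ih
      show IsConstructible (MoreMor.sectionComponents f s ∩ f ⁻¹' T)
      obtain ⟨y, hy⟩ := QuasiSober.sober hTi hTc
      have hy' : closure {y} = T := hy
      subst hy'
      obtain ⟨V, hVsub, hyV, hVo, W, W', hW, hW', H⟩ := secGood_main f s hs y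
      obtain ⟨U, hU, hUV⟩ := isOpen_induced_iff.mp hVo
      have hUY : U ∩ closure {y} = V := by
        ext x
        constructor
        · rintro ⟨hxU, hxY⟩
          have h1 : (⟨x, hxY⟩ : ↥(closure ({y} : Set Y))) ∈ Subtype.val ⁻¹' U := hxU
          rw [hUV] at h1
          exact h1
        · intro hxV
          have hxY := hVsub hxV
          have h1 : (⟨x, hxY⟩ : ↥(closure ({y} : Set Y))) ∈ Subtype.val ⁻¹' V := hxV
          rw [← hUV] at h1
          exact ⟨h1, hxY⟩
      have hT' : IsClosed (closure {y} ∩ Uᶜ) := isClosed_closure.inter hU.isClosed_compl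
      have hyU : y ∈ U := by
        have h1 : y ∈ U ∩ closure {y} := by rw [hUY]; exact hyV
        exact h1.1
      have hlt : closure {y} ∩ Uᶜ ⊂ closure {y} :=
        ⟨Set.inter_subset_left, fun hh => (hh (subset_closure rfl)).2 hyU⟩
      have h1 : IsConstructible (MoreMor.sectionComponents f s ∩ f ⁻¹' (closure {y} ∩ Uᶜ)) :=
        ih _ hT' hlt
      have heq : MoreMor.sectionComponents f s ∩ f ⁻¹' closure {y} =
          (W ∩ f ⁻¹' U ∩ f ⁻¹' closure {y}) ∪
            (MoreMor.sectionComponents f s ∩ f ⁻¹' (closure {y} ∩ Uᶜ)) := by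
        ext x
        constructor
        · rintro ⟨hxE, hxT⟩
          by_cases hxU : f x ∈ U
          · left
            have hxV : f x ∈ V := by rw [← hUY]; exact ⟨hxU, hxT⟩
            exact ⟨⟨(H x hxV).1.mp hxE, hxU⟩, hxT⟩
          · right
            exact ⟨hxE, hxT, hxU⟩
        · rintro (⟨⟨hxW, hxU⟩, hxT⟩ | ⟨hxE, hxT, -⟩)
          · have hxV : f x ∈ V := by rw [← hUY]; exact ⟨hxU, hxT⟩
            exact ⟨(H x hxV).1.mpr hxW, hxT⟩
          · exact ⟨hxE, hxT⟩
      rw [heq]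
      exact (((Groth.Agent.H8.CNoeth.isConstructible_of_isClosed hW).inter
        (Groth.Agent.H8.CNoeth.isConstructible_of_isOpen (hU.preimage f.continuous))).inter
        (Groth.Agent.H8.CNoeth.isConstructible_of_isClosed
          (isClosed_closure.preimage f.continuous))).union h1
    · intro T₁ T₂ _ _ h1 h2
      show IsConstructible (MoreMor.sectionComponents f s ∩ f ⁻¹' (T₁ ∪ T₂))
      rw [Set.preimage_union, Set.inter_union_distrib_left]
      exact h1.union h2
  have h := key Set.univ isClosed_univ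
  rwa [Set.preimage_univ, Set.inter_univ] at h

/-! ### reduction to the Noetherian case -/

open Groth.Agent.H5.Lim in
theorem isConstructible_sectionComponents_spec (A : Type u) [CommRing A] {X : Scheme.{u}}
    (f : X ⟶ Spec (CommRingCat.of A)) [LocallyOfFinitePresentation f] [QuasiCompact f]
    [QuasiSeparated f] (s : Spec (CommRingCat.of A) ⟶ X)
    (hs : s ≫ f = 𝟙 (Spec (CommRingCat.of A))) :
    IsConstructible (MoreMor.sectionComponents f s) := by
  let f' : X ⟶ (fgzCone A).pt := f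
  haveI : LocallyOfFinitePresentation f' := ‹LocallyOfFinitePresentation f›
  haveI : QuasiCompact f' := ‹QuasiCompact f›
  haveI : QuasiSeparated f' := ‹QuasiSeparated f›
  let s' : (fgzCone A).pt ⟶ X := s
  have hs' : s' ≫ f' = 𝟙 (fgzCone A).pt := hs
  obtain ⟨j, ⟨M⟩⟩ := exists_model (fgzDiagram A) (fgzCone A) (isLimitFgzCone A) f'
  let M₀ : Model (fgzDiagram A) (fgzCone A) (𝟙 (fgzCone A).pt) j :=
    { Y := (fgzDiagram A).obj j
      p := 𝟙 _
      g := (fgzCone A).π.app j
      lfp := inferInstance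
      qc := inferInstance
      qs := inferInstance
      pb := IsPullback.of_vert_isIso ⟨by simp⟩ }
  obtain ⟨k, φ, ⟨F⟩⟩ := Model.exists_hom (isLimitFgzCone A) M₀ M s' hs'
  haveI : IsIso (M₀.bc φ).p := by
    change IsIso (pullback.snd (𝟙 ((fgzDiagram A).obj j)) ((fgzDiagram A).map φ))
    infer_instance
  have hsk : (inv (M₀.bc φ).p ≫ F.α) ≫ (M.bc φ).p = 𝟙 _ := by
    rw [Category.assoc, F.w_p, IsIso.inv_hom_id]
  have hg0 : (M₀.bc φ).g = (fgzCone A).π.app k ≫ inv (M₀.bc φ).p := by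
    rw [IsIso.eq_comp_inv, Model.bc_g_p, Category.id_comp]
  have hcompat : s' ≫ (M.bc φ).g = (fgzCone A).π.app k ≫ (inv (M₀.bc φ).p ≫ F.α) := by
    rw [← Category.assoc, ← hg0, F.w_g]
  haveI : IsNoetherianRing ↥(k.unop.1) := by
    haveI : Algebra.FiniteType ℤ ↥(k.unop.1) :=
      (Subalgebra.fg_iff_finiteType _).mp k.unop.2
    exact Algebra.FiniteType.isNoetherianRing ℤ _
  haveI : IsNoetherian ((fgzDiagram A).obj k) :=
    inferInstanceAs (IsNoetherian (Spec (CommRingCat.of ↥(k.unop.1))))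
  have hcons := isConstructible_sectionComponents_of_noetherian (M.bc φ).p
    (inv (M₀.bc φ).p ≫ F.α) hsk
  have hE := Groth.Agent.H1.SecComp.s1324 (M.bc φ).p (inv (M₀.bc φ).p ≫ F.α) hsk f'
    (M.bc φ).g ((fgzCone A).π.app k) (M.bc φ).pb s' hs' hcompat
  show IsConstructible (MoreMor.sectionComponents f' s')
  rw [hE]
  exact (M.bc φ).g.isConstructible_preimage hcons

theorem isConstructible_sectionComponents_of_isAffine {X S : Scheme.{u}} [IsAffine S]
    (f : X ⟶ S) [LocallyOfFinitePresentation f] [QuasiCompact f] [QuasiSeparated f]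
    (s : S ⟶ X) (hs : s ≫ f = 𝟙 S) : IsConstructible (MoreMor.sectionComponents f s) := by
  have sq : IsPullback (𝟙 X) (f ≫ S.isoSpec.hom) f S.isoSpec.inv :=
    IsPullback.of_horiz_isIso ⟨by simp⟩
  let f'' : X ⟶ Spec (CommRingCat.of ↑Γ(S, ⊤)) := f ≫ S.isoSpec.hom
  let s'' : Spec (CommRingCat.of ↑Γ(S, ⊤)) ⟶ X := S.isoSpec.inv ≫ s
  have hs'' : s'' ≫ f'' = 𝟙 _ := by
    change (S.isoSpec.inv ≫ s) ≫ (f ≫ S.isoSpec.hom) = 𝟙 _
    rw [Category.assoc, ← Category.assoc s, hs, Category.id_comp, Iso.inv_hom_id]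
  haveI : LocallyOfFinitePresentation f'' :=
    inferInstanceAs (LocallyOfFinitePresentation (f ≫ S.isoSpec.hom))
  haveI : QuasiCompact f'' := inferInstanceAs (QuasiCompact (f ≫ S.isoSpec.hom))
  haveI : QuasiSeparated f'' := inferInstanceAs (QuasiSeparated (f ≫ S.isoSpec.hom))
  have h1 := isConstructible_sectionComponents_spec ↑Γ(S, ⊤) f'' s'' hs''
  have hE := Groth.Agent.H1.SecComp.s1324 f s hs (f ≫ S.isoSpec.hom) (𝟙 X) S.isoSpec.inv sq
    (S.isoSpec.inv ≫ s) hs'' (by rw [Category.comp_id])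
  have h2 : MoreMor.sectionComponents f s =
      MoreMor.sectionComponents (f ≫ S.isoSpec.hom) (S.isoSpec.inv ≫ s) := by
    rw [hE]
    rfl
  rw [h2]
  exact h1

/-- **S1326**. -/
theorem main1326 {X Y : Scheme.{u}} (f : X ⟶ Y) (s : Y ⟶ X) (hs : s ≫ f = 𝟙 Y)
    [LocallyOfFinitePresentation f] [QuasiCompact f] [QuasiSeparated f] :
    IsLocallyConstructible (MoreMor.sectionComponents f s) := by
  intro x₀
  obtain ⟨V, hV, hsV⟩ : ∃ V : Y.Opens, IsAffineOpen V ∧ f x₀ ∈ V := by
    obtain ⟨_, ⟨V, hV, rfl⟩, hsV, -⟩ :=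
      Y.isBasis_affineOpens.exists_subset_of_mem_open (Set.mem_univ (f x₀)) isOpen_univ
    exact ⟨V, hV, hsV⟩
  refine ⟨(f ⁻¹ᵁ V : X.Opens), (f ⁻¹ᵁ V).isOpen.mem_nhds hsV, (f ⁻¹ᵁ V).isOpen, ?_⟩
  have sq := (isPullback_morphismRestrict f V).flip
  have hw : (V.ι ≫ s) ≫ f = 𝟙 _ ≫ V.ι := by
    rw [Category.assoc, hs, Category.comp_id, Category.id_comp]
  have hsV1 : sq.lift (V.ι ≫ s) (𝟙 _) hw ≫ (f ∣_ V) = 𝟙 _ := sq.lift_snd _ _ _
  have hsV2 : sq.lift (V.ι ≫ s) (𝟙 _) hw ≫ (f ⁻¹ᵁ V).ι = V.ι ≫ s := sq.lift_fst _ _ _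
  have hV' : IsAffine V.toScheme := hV
  have h1 := isConstructible_sectionComponents_of_isAffine (f ∣_ V)
    (sq.lift (V.ι ≫ s) (𝟙 _) hw) hsV1
  have hE := Groth.Agent.H1.SecComp.s1324 f s hs (f ∣_ V) (f ⁻¹ᵁ V).ι V.ι sq
    (sq.lift (V.ι ≫ s) (𝟙 _) hw) hsV1 hsV2
  rw [hE] at h1
  exact h1

end Groth.Agent.H1.GIrr
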