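import Mathlib

/-!
# Topological and algebraic preliminaries for the neighbourhood theorem on section components
(helper1)
-/

set_option autoImplicit false
set_option linter.style.haveILetI false
universe u

open TopologicalSpace Topology AlgebraicGeometry CategoryTheory

namespace Groth.Agent.H1.GIrr

/-! ### Connected components of Noetherian spaces are open -/

theorem isOpen_connectedComponent_of_noetherianSpace {α : Type*} [TopologicalSpace α]
    [NoetherianSpace α] (x : α) : IsOpen (connectedComponent x) := by
  have hfin : (irreducibleComponents α).Finite := NoetherianSpace.finite_irreducibleComponents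
  have hcl : IsClosed (⋃ Z ∈ {Z ∈ irreducibleComponents α | ¬ Z ⊆ connectedComponent x}, Z) := by
    refine Set.Finite.isClosed_biUnion (hfin.subset (fun Z hZ => hZ.1)) ?_
    intro Z hZ
    exact isClosed_of_mem_irreducibleComponents Z hZ.1
  have heq : (connectedComponent x)ᶜ =
      ⋃ Z ∈ {Z ∈ irreducibleComponents α | ¬ Z ⊆ connectedComponent x}, Z := by
    ext y
    simp only [Set.mem_compl_iff, Set.mem_iUnion, exists_prop]
    constructor
    · intro hy
      exact ⟨irreducibleComponent y, ⟨irreducibleComponent_mem_irreducibleComponents y,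
        fun h => hy (h mem_irreducibleComponent)⟩, mem_irreducibleComponent⟩
    · rintro ⟨Z, ⟨hZ, hZn⟩, hyZ⟩ hy
      apply hZn
      have hZpre : _root_.IsPreconnected Z := hZ.1.isPreirreducible.isPreconnected
      have h1 := hZpre.subset_connectedComponent hyZ
      rwa [← connectedComponent_eq hy] at h1
  rw [← isClosed_compl_iff, heq]
  exact hcl

theorem locallyConnectedSpace_of_isLocallyNoetherian (X : Scheme.{u}) [IsLocallyNoetherian X] :
    LocallyConnectedSpace X := by
  rw [locallyConnectedSpace_iff_connected_subsets]
  intro x U hU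
  obtain ⟨_, ⟨W, hW, rfl⟩, hxW, hWU⟩ := X.isBasis_affineOpens.exists_subset_of_mem_open
    (mem_interior_iff_mem_nhds.mpr hU) isOpen_interior
  haveI : IsNoetherianRing Γ(X, W) := IsLocallyNoetherian.component_noetherian ⟨W, hW⟩
  haveI : NoetherianSpace ↥(W : Set X) := noetherianSpace_of_isAffineOpen W hW
  refine ⟨connectedComponentIn (W : Set X) x, ?_, isPreconnected_connectedComponentIn,
    (connectedComponentIn_subset _ _).trans (hWU.trans interior_subset)⟩
  rw [connectedComponentIn_eq_image hxW]
  exact (W.isOpen.isOpenMap_subtype_val _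
    (isOpen_connectedComponent_of_noetherianSpace _)).mem_nhds ⟨_, mem_connectedComponent, rfl⟩

/-! ### Closures of constructible sets -/

theorem exists_specializes_of_mem_closure_primeSpectrum {A : Type u} [CommRing A]
    {s : Set (PrimeSpectrum A)} (hs : IsConstructible s) {z : PrimeSpectrum A}
    (hz : z ∈ closure s) : ∃ z' ∈ s, z' ⤳ z := by
  obtain ⟨S, _, f, rfl⟩ := PrimeSpectrum.exists_range_eq_of_isConstructible hs
  rw [PrimeSpectrum.closure_range_comap] at hz
  have hz' : RingHom.ker f ≤ z.asIdeal := hz
  obtain ⟨p, hp, hpz⟩ := Ideal.exists_minimalPrimes_le hz'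
  have hp' : p ∈ (Ideal.comap f ⊥).minimalPrimes := by rwa [← RingHom.ker_eq_comap_bot]
  obtain ⟨q, hq, -, hqp⟩ := Ideal.exists_comap_eq_of_mem_minimalPrimes f p hp'
  refine ⟨PrimeSpectrum.comap f ⟨q, hq⟩, ⟨_, rfl⟩, ?_⟩
  rw [← PrimeSpectrum.le_iff_specializes]
  change Ideal.comap f q ≤ z.asIdeal
  rw [hqp]
  exact hpz

/-- general form: it suffices that the set be constructible on affine charts -/
theorem exists_specializes_of_mem_closure_aux {X : Scheme.{u}} {s : Set X}
    (hs : ∀ (U : X.Opens) (hU : IsAffineOpen U), IsConstructible (hU.fromSpec ⁻¹' s)) {z : X}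
    (hz : z ∈ closure s) : ∃ z' ∈ s, z' ⤳ z := by
  obtain ⟨_, ⟨U, hU, rfl⟩, hzU, -⟩ := X.isBasis_affineOpens.exists_subset_of_mem_open
    (Set.mem_univ z) isOpen_univ
  have hj : IsOpenEmbedding hU.fromSpec := hU.fromSpec.isOpenEmbedding
  have hz0 : z ∈ Set.range hU.fromSpec := by rw [hU.range_fromSpec]; exact hzU
  obtain ⟨z0, rfl⟩ := hz0
  have hz0c : z0 ∈ closure (hU.fromSpec ⁻¹' s) := by
    rw [← hj.isOpenMap.preimage_closure_eq_closure_preimage hj.continuous]
    exact hz
  obtain ⟨z', hz's, hz'z⟩ := exists_specializes_of_mem_closure_primeSpectrum (hs U hU) hz0c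
  exact ⟨hU.fromSpec z', hz's, hz'z.map hj.continuous⟩

theorem exists_specializes_of_mem_closure {X : Scheme.{u}} {s : Set X}
    (hs : IsLocallyConstructible s) {z : X} (hz : z ∈ closure s) : ∃ z' ∈ s, z' ⤳ z := by
  refine exists_specializes_of_mem_closure_aux (fun U hU => ?_) hz
  exact (hs.preimage_of_isOpenEmbedding hU.fromSpec.isOpenEmbedding).isConstructible

theorem exists_specializes_of_mem_closure_of_isOpen {X : Scheme.{u}} [IsLocallyNoetherian X]
    {s : Set X} (hs : IsOpen s) {z : X} (hz : z ∈ closure s) : ∃ z' ∈ s, z' ⤳ z := by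
  refine exists_specializes_of_mem_closure_aux (fun U hU => ?_) hz
  haveI : IsNoetherianRing Γ(X, U) := IsLocallyNoetherian.component_noetherian ⟨U, hU⟩
  haveI : NoetherianSpace (PrimeSpectrum Γ(X, U)) := inferInstance
  exact IsCompact.isConstructible (NoetherianSpace.isCompact _)
    (hs.preimage hU.fromSpec.continuous)

theorem isLocallyConstructible_compl {α : Type*} [TopologicalSpace α] {s : Set α}
    (hs : IsLocallyConstructible s) : IsLocallyConstructible sᶜ := by
  intro x
  obtain ⟨U, hxU, hU, H⟩ := hs x
  exact ⟨U, hxU, hU, by rw [Set.preimage_compl]; exact H.compl⟩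

/-- **Neighbourhood criterion**: a locally constructible set containing all generizations of `x`
is a neighbourhood of `x`. -/
theorem mem_nhds_of_forall_specializes {X : Scheme.{u}} {E : Set X}
    (hE : IsLocallyConstructible E) {x : X} (h : ∀ x', x' ⤳ x → x' ∈ E) : E ∈ 𝓝 x := by
  rw [← mem_interior_iff_mem_nhds]
  by_contra hx
  have h1 : x ∈ closure Eᶜ := by rw [closure_compl]; exact hx
  obtain ⟨x', hx'E, hx'x⟩ := exists_specializes_of_mem_closure (isLocallyConstructible_compl hE) h1
  exact hx'E (h x' hx'x)

/-! ### Idempotents after inverting a regular element with reduced quotient -/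

theorem mem_range_of_isIdempotentElem {B : Type*} [CommRing B] (π : B)
    (hπ : π ∈ nonZeroDivisors B) (hrad : (Ideal.span {π}).IsRadical)
    (e : Localization.Away π) (he : IsIdempotentElem e) :
    e ∈ Set.range (algebraMap B (Localization.Away π)) := by
  have hinj : Function.Injective (algebraMap B (Localization.Away π)) :=
    IsLocalization.injective (Localization.Away π)
      (Submonoid.powers_le.mpr hπ)
  have hunit : IsUnit (algebraMap B (Localization.Away π) π) :=
    IsLocalization.map_units (Localization.Away π) (⟨π, Submonoid.mem_powers π⟩ : Submonoid.powers π)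
  have key : ∀ (n : ℕ) (b : B), e * algebraMap B (Localization.Away π) π ^ n =
      algebraMap B (Localization.Away π) b → e ∈ Set.range (algebraMap B (Localization.Away π)) := by
    intro n
    induction n with
    | zero =>
      intro b hb
      rw [pow_zero, mul_one] at hb
      exact ⟨b, hb.symm⟩
    | succ n ih =>
      intro b hb
      have h1 : algebraMap B (Localization.Away π) (b * b) =
          algebraMap B (Localization.Away π) (b * π ^ (n + 1)) := by
        rw [map_mul, map_mul, map_pow, ← hb]
        calc e * algebraMap B (Localization.Away π) π ^ (n + 1) *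
              (e * algebraMap B (Localization.Away π) π ^ (n + 1))
            = (e * e) * algebraMap B (Localization.Away π) π ^ (n + 1) *
              algebraMap B (Localization.Away π) π ^ (n + 1) := by ring
          _ = e * algebraMap B (Localization.Away π) π ^ (n + 1) *
              algebraMap B (Localization.Away π) π ^ (n + 1) := by rw [he.eq]
      have h2 : b * b = b * π ^ (n + 1) := hinj h1
      have h3 : b ∈ Ideal.span {π} := by
        apply hrad
        refine ⟨2, ?_⟩
        rw [pow_two, h2, pow_succ, ← mul_assoc]
        exact Ideal.mul_mem_left _ _ (Ideal.subset_span rfl)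
      obtain ⟨c, hc⟩ := Ideal.mem_span_singleton'.mp h3
      apply ih c
      have h4 : e * algebraMap B (Localization.Away π) π ^ n *
          algebraMap B (Localization.Away π) π =
          algebraMap B (Localization.Away π) c * algebraMap B (Localization.Away π) π := by
        rw [← map_mul, hc, ← hb, pow_succ, mul_assoc]
      exact hunit.mul_left_injective h4
  obtain ⟨n, b, hb⟩ := IsLocalization.Away.surj π e
  exact key n b hb

theorem eq_zero_or_eq_one_of_isIdempotentElem {B : Type*} [CommRing B] [IsLocalRing B] (π : B)
    (hπ : π ∈ nonZeroDivisors B) (hrad : (Ideal.span {π}).IsRadical)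
    (e : Localization.Away π) (he : IsIdempotentElem e) : e = 0 ∨ e = 1 := by
  have hinj : Function.Injective (algebraMap B (Localization.Away π)) :=
    IsLocalization.injective (Localization.Away π)
      (Submonoid.powers_le.mpr hπ)
  obtain ⟨b, rfl⟩ := mem_range_of_isIdempotentElem π hπ hrad e he
  have hb : b * b = b := by
    apply hinj
    rw [map_mul]
    exact he.eq
  have hb' : b * (1 - b) = 0 := by rw [mul_sub, mul_one, hb, sub_self]
  rcases IsLocalRing.isUnit_or_isUnit_one_sub_self b with h | h
  · right
    have : 1 - b = 0 := by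
      have := h.mul_right_eq_zero.mp hb'
      exact this
    rw [sub_eq_zero] at this
    rw [← this, map_one]
  · left
    have : b = 0 := h.mul_left_eq_zero.mp hb'
    rw [this, map_zero]

theorem isPreconnected_basicOpen {B : Type*} [CommRing B] [IsLocalRing B] (π : B)
    (hπ : π ∈ nonZeroDivisors B) (hrad : (Ideal.span {π}).IsRadical) :
    _root_.IsPreconnected (PrimeSpectrum.basicOpen π : Set (PrimeSpectrum B)) := by
  haveI : PreconnectedSpace (PrimeSpectrum (Localization.Away π)) := by
    rw [preconnectedSpace_iff_clopen]
    intro s hs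
    obtain ⟨e, he, rfl⟩ := PrimeSpectrum.isClopen_iff.mp hs
    rcases eq_zero_or_eq_one_of_isIdempotentElem π hπ hrad e he with h | h
    · left
      rw [h]
      simp
    · right
      rw [h]
      simp
  rw [← PrimeSpectrum.localization_away_comap_range (Localization.Away π) π,
    ← Set.image_univ]
  exact isPreconnected_univ.image _ (PrimeSpectrum.continuous_comap _).continuousOn

theorem nonempty_basicOpen {B : Type*} [CommRing B] [Nontrivial B] (π : B)
    (hπ : π ∈ nonZeroDivisors B) :
    (PrimeSpectrum.basicOpen π : Set (PrimeSpectrum B)).Nonempty := by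
  rw [Set.nonempty_iff_ne_empty]
  intro h
  have h1 : PrimeSpectrum.basicOpen π = ⊥ := by
    ext1
    exact h
  rw [PrimeSpectrum.basicOpen_eq_bot_iff] at h1
  obtain ⟨n, hn⟩ := h1
  have h2 : π ^ n ∈ nonZeroDivisors B := pow_mem hπ n
  rw [hn] at h2
  exact zero_notMem_nonZeroDivisors h2

end Groth.Agent.H1.GIrr
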