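import Mathlib
import Groth.Agent.Lib.Helper1.GIrrO

/-!
# The discrete valuation ring case of the neighbourhood theorem on section components (helper1)
-/

set_option autoImplicit false
set_option linter.style.haveILetI false
universe u

open TopologicalSpace Topology AlgebraicGeometry CategoryTheory IsLocalRing

namespace Groth.Agent.H1.GIrr

section
variable {R : Type u} [CommRing R]

/-- the canonical ring homomorphism `R → 𝒪_{W,z}` for a scheme `W` over `Spec R` -/
noncomputable def stalkHom {W : Scheme.{u}} (p : W ⟶ Spec (CommRingCat.of R)) (z : W) :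
    R →+* W.presheaf.stalk z :=
  (p.stalkMap z).hom.comp (StructureSheaf.toStalk R (p z)).hom

theorem fromSpecStalk_comp {W : Scheme.{u}} (p : W ⟶ Spec (CommRingCat.of R)) (z : W) :
    W.fromSpecStalk z ≫ p = Spec.map (CommRingCat.ofHom (stalkHom p z)) := by
  have h := Scheme.SpecMap_stalkMap_fromSpecStalk (f := p) (x := z)
  rw [← h, Spec.fromSpecStalk_eq']
  exact (Spec.map_comp _ _).symm

theorem apply_fromSpecStalk {W : Scheme.{u}} (p : W ⟶ Spec (CommRingCat.of R)) (z : W)
    (q : PrimeSpectrum (W.presheaf.stalk z)) :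
    (p (W.fromSpecStalk z q) : PrimeSpectrum R).asIdeal =
      Ideal.comap (stalkHom p z) q.asIdeal := by
  have h1 : p (W.fromSpecStalk z q) = (W.fromSpecStalk z ≫ p) q := rfl
  rw [h1, fromSpecStalk_comp]
  rfl

end

section DVR

variable {R : Type u} [CommRing R] [IsDomain R] [IsDiscreteValuationRing R]

theorem eq_bot_or_eq_closedPoint (q : PrimeSpectrum R) : q = ⊥ ∨ q = closedPoint R := by
  by_cases h : q.asIdeal = ⊥
  · left
    exact PrimeSpectrum.ext h
  · right
    have hmax : q.asIdeal.IsMaximal := Ring.DimensionLEOne.maximalOfPrime h q.isPrime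
    exact PrimeSpectrum.ext (IsLocalRing.eq_maximalIdeal hmax)

theorem eq_bot_iff_notMem {ϖ : R} (hϖ : Irreducible ϖ) (P : Ideal R) [hP : P.IsPrime] :
    P = ⊥ ↔ ϖ ∉ P := by
  constructor
  · rintro rfl h
    exact hϖ.ne_zero ((Submodule.mem_bot R).mp h)
  · intro h
    by_contra hne
    have hmax : P.IsMaximal := Ring.DimensionLEOne.maximalOfPrime hne hP
    have h1 : P = maximalIdeal R := IsLocalRing.eq_maximalIdeal hmax
    apply h
    rw [h1, hϖ.maximalIdeal_eq]
    exact Ideal.subset_span rfl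

theorem bot_ne_closedPoint' : (⊥ : PrimeSpectrum R) ≠ closedPoint R := by
  intro h
  have h1 : (⊥ : Ideal R) = maximalIdeal R := congrArg PrimeSpectrum.asIdeal h
  exact IsDiscreteValuationRing.not_a_field R h1.symm

theorem isOpen_singleton_bot : IsOpen ({⊥} : Set (PrimeSpectrum R)) := by
  have h : ({⊥} : Set (PrimeSpectrum R)) = {closedPoint R}ᶜ := by
    ext q
    simp only [Set.mem_singleton_iff, Set.mem_compl_iff]
    constructor
    · rintro rfl
      exact bot_ne_closedPoint'
    · intro hq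
      exact (eq_bot_or_eq_closedPoint q).resolve_right hq
  rw [h]
  exact (IsLocalRing.isClosed_singleton_closedPoint R).isOpen_compl

/-- **The DVR case.** -/
theorem dvr_core {W : Scheme.{u}} (p : W ⟶ Spec (CommRingCat.of R)) [LocallyOfFiniteType p]
    (σ τ : Spec (CommRingCat.of R) ⟶ W) (hσ : σ ≫ p = 𝟙 _) (hτ : τ ≫ p = 𝟙 _)
    {ϖ : R} (hϖ : Irreducible ϖ) (c η : Spec (CommRingCat.of R)) (hc : c = closedPoint R)
    (hη : η = (⊥ : PrimeSpectrum R))
    (H : ∀ z ∈ connectedComponentIn (p ⁻¹' {c}) (σ c),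
      stalkHom p z ϖ ∈ nonZeroDivisors (W.presheaf.stalk z) ∧
        (Ideal.span {stalkHom p z ϖ}).IsRadical)
    (hτc : τ c ∈ connectedComponentIn (p ⁻¹' {c}) (σ c)) :
    τ η ∈ connectedComponentIn (p ⁻¹' {η}) (σ η) := by
  classical
  haveI : IsLocallyNoetherian W := LocallyOfFiniteType.isLocallyNoetherian p
  haveI : LocallyConnectedSpace W := locallyConnectedSpace_of_isLocallyNoetherian W
  have hpσ : ∀ t, p (σ t) = t := fun t => by
    change (σ ≫ p) t = t
    rw [hσ]
    rfl
  have hpτ : ∀ t, p (τ t) = t := fun t => by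
    change (τ ≫ p) t = t
    rw [hτ]
    rfl
  have hGo : IsOpen (p ⁻¹' {η}) := by
    rw [hη]
    exact isOpen_singleton_bot.preimage p.continuous
  obtain ⟨G, hG⟩ : ∃ G : Set W, G = p ⁻¹' {η} := ⟨_, rfl⟩
  rw [← hG] at hGo ⊢
  have hσG : σ η ∈ G := by rw [hG]; exact hpσ η
  obtain ⟨C, hC⟩ : ∃ C : Set W, C = connectedComponentIn G (σ η) := ⟨_, rfl⟩
  rw [← hC]
  have hCo : IsOpen C := by rw [hC]; exact hGo.connectedComponentIn
  have hCG : C ⊆ G := by rw [hC]; exact connectedComponentIn_subset _ _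
  have hσC : σ η ∈ C := by rw [hC]; exact mem_connectedComponentIn hσG
  have hCpre : _root_.IsPreconnected C := by rw [hC]; exact isPreconnected_connectedComponentIn
  have hCcl : G ∩ closure C ⊆ C := by
    have h1 : _root_.IsPreconnected (G ∩ closure C) :=
      hCpre.subset_closure (Set.subset_inter hCG subset_closure) Set.inter_subset_right
    have h2 := h1.subset_connectedComponentIn (x := σ η) (F := G)
      ⟨hσG, subset_closure hσC⟩ Set.inter_subset_left
    rwa [← hC] at h2
  obtain ⟨C', hC'⟩ : ∃ C' : Set W, C' = G \ C := ⟨_, rfl⟩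
  have hC'o : IsOpen C' := by
    have : C' = G ∩ (closure C)ᶜ := by
      rw [hC']
      ext w
      constructor
      · rintro ⟨hwG, hwC⟩
        exact ⟨hwG, fun h => hwC (hCcl ⟨hwG, h⟩)⟩
      · rintro ⟨hwG, hwC⟩
        exact ⟨hwG, fun h => hwC (subset_closure h)⟩
    rw [this]
    exact hGo.inter isClosed_closure.isOpen_compl
  have hC'G : C' ⊆ G := by rw [hC']; exact Set.sdiff_subset
  have hdisj : Disjoint C C' := by rw [hC']; exact Set.disjoint_sdiff_right
  have hGeq : G = C ∪ C' := by rw [hC']; exact (Set.union_sdiff_cancel hCG).symm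
  obtain ⟨S₀, hS₀⟩ : ∃ S₀ : Set W, S₀ = connectedComponentIn (p ⁻¹' {c}) (σ c) := ⟨_, rfl⟩
  rw [← hS₀] at H hτc
  -- the key local statement
  have key : ∀ z ∈ S₀, (z ∈ closure C ∨ z ∈ closure C') ∧
      ¬ (z ∈ closure C ∧ z ∈ closure C') := by
    intro z hz
    obtain ⟨hnzd, hrad⟩ := H z hz
    have hDpre := isPreconnected_basicOpen (stalkHom p z ϖ) hnzd hrad
    have hDne := nonempty_basicOpen (stalkHom p z ϖ) hnzd
    have hpre : ∀ q : PrimeSpectrum (W.presheaf.stalk z), W.fromSpecStalk z q ∈ G ↔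
        q ∈ (PrimeSpectrum.basicOpen (stalkHom p z ϖ) : Set (PrimeSpectrum (W.presheaf.stalk z))) := by
      intro q
      haveI := q.isPrime
      have h1 : p (W.fromSpecStalk z q) = η ↔
          (p (W.fromSpecStalk z q) : PrimeSpectrum R).asIdeal = ⊥ := by
        rw [hη]
        exact PrimeSpectrum.ext_iff
      have h2 : (p (W.fromSpecStalk z q) : PrimeSpectrum R).asIdeal = ⊥ ↔
          stalkHom p z ϖ ∉ q.asIdeal := by
        rw [apply_fromSpecStalk, eq_bot_iff_notMem hϖ]
        rfl
      rw [hG]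
      exact h1.trans h2
    have hrange : ∀ w : W, w ⤳ z ↔ w ∈ Set.range (W.fromSpecStalk z) := by
      intro w
      rw [Scheme.range_fromSpecStalk]
      rfl
    have hsub : (PrimeSpectrum.basicOpen (stalkHom p z ϖ) : Set (PrimeSpectrum (W.presheaf.stalk z))) ⊆
        (W.fromSpecStalk z) ⁻¹' C ∪ (W.fromSpecStalk z) ⁻¹' C' := by
      intro q hq
      have h1 : W.fromSpecStalk z q ∈ G := (hpre q).mpr hq
      rw [hGeq] at h1
      exact h1
    have hor := hDpre.subset_or_subset (hCo.preimage (W.fromSpecStalk z).continuous)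
      (hC'o.preimage (W.fromSpecStalk z).continuous) (hdisj.preimage (W.fromSpecStalk z)) hsub
    have hgen : ∀ {T : Set W}, IsOpen T → T ⊆ G → z ∈ closure T →
        ∃ q ∈ (PrimeSpectrum.basicOpen (stalkHom p z ϖ) : Set (PrimeSpectrum (W.presheaf.stalk z))),
          W.fromSpecStalk z q ∈ T := by
      intro T hT hTG hzT
      obtain ⟨z₁, hz₁T, hz₁z⟩ := exists_specializes_of_mem_closure_of_isOpen hT hzT
      obtain ⟨q, rfl⟩ := (hrange z₁).mp hz₁z
      exact ⟨q, (hpre q).mp (hTG hz₁T), hz₁T⟩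
    constructor
    · obtain ⟨q, hq⟩ := hDne
      have hqz : W.fromSpecStalk z q ⤳ z := (hrange _).mpr ⟨q, rfl⟩
      rcases hsub hq with h | h
      · left
        exact hqz.mem_closed isClosed_closure (subset_closure h)
      · right
        exact hqz.mem_closed isClosed_closure (subset_closure h)
    · rintro ⟨h1, h2⟩
      obtain ⟨q₁, hq₁D, hq₁⟩ := hgen hCo hCG h1
      obtain ⟨q₂, hq₂D, hq₂⟩ := hgen hC'o hC'G h2
      rcases hor with h | h
      · exact (Set.disjoint_left.mp hdisj) (h hq₂D) hq₂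
      · exact (Set.disjoint_left.mp hdisj) hq₁ (h hq₁D)
  have hS₀pre : _root_.IsPreconnected S₀ := by
    rw [hS₀]; exact isPreconnected_connectedComponentIn
  have hσcS : σ c ∈ S₀ := by
    rw [hS₀]; exact mem_connectedComponentIn (hpσ c)
  have hspec : η ⤳ c := by
    rw [hη, hc]
    exact (PrimeSpectrum.le_iff_specializes _ _).mp bot_le
  have hσcC : σ c ∈ closure C :=
    (hspec.map σ.continuous).mem_closed isClosed_closure (subset_closure hσC)
  have hempty : ¬ (S₀ ∩ closure C').Nonempty := by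
    intro hne
    obtain ⟨z, hzS, hz⟩ := (isPreconnected_closed_iff.mp hS₀pre) (closure C) (closure C')
      isClosed_closure isClosed_closure (fun z hz => (key z hz).1) ⟨σ c, hσcS, hσcC⟩ hne
    exact (key z hzS).2 hz
  have hτG : τ η ∈ G := by rw [hG]; exact hpτ η
  rw [hGeq] at hτG
  rcases hτG with h | h
  · exact h
  · exfalso
    have h1 : τ c ∈ closure C' :=
      (hspec.map τ.continuous).mem_closed isClosed_closure (subset_closure h)
    exact hempty ⟨τ c, hτc, h1⟩

end DVR

end Groth.Agent.H1.GIrr
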