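import Mathlib
import Groth.Prelude.Def_FDesc
import Groth.Agent.Lib.Helper1.GIrrP
import Groth.Agent.Lib.Helper1.GIrrN
import Groth.Agent.Lib.Helper1.FibreStalk
import Groth.Agent.Lib.Helper8.DVRSch

/-!
# Section components are a neighbourhood of the component of a geometrically reduced fibre:
the Noetherian flat case (helper1)
-/

set_option autoImplicit false
set_option linter.style.haveILetI false
universe u

open TopologicalSpace Topology AlgebraicGeometry CategoryTheory CategoryTheory.Limits IsLocalRing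

namespace Groth.Agent.H1.GIrr


/-! ### transfer of reducedness of stalks -/

theorem isReduced_stalk_of_isIso {A B : Scheme.{u}} (e : A ⟶ B) [IsIso e] (a : A)
    (h : _root_.IsReduced (B.presheaf.stalk (e a))) : _root_.IsReduced (A.presheaf.stalk a) := by
  have hb : Function.Bijective (e.stalkMap a).hom :=
    ConcreteCategory.bijective_of_isIso (e.stalkMap a)
  let eq := RingEquiv.ofBijective (e.stalkMap a).hom hb
  exact isReduced_of_injective eq.symm eq.symm.injective

theorem stalkMap_injective_of_flat {A B : Scheme.{u}} (f : A ⟶ B) [Flat f] (a : A) :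
    Function.Injective (f.stalkMap a).hom := by
  algebraize [(f.stalkMap a).hom]
  have : Module.FaithfullyFlat (B.presheaf.stalk (f a)) (A.presheaf.stalk a) :=
    @Module.FaithfullyFlat.of_flat_of_isLocalHom _ _ _ _ _ _ _
      (Flat.stalkMap f a) (f.toLRSHom.prop a)
  exact ‹RingHom.FaithfullyFlat _›.injective

/-! ### geometric reducedness of the fibre at a point -/

/-- the fibre of `f` through `x` is geometrically reduced at `x` -/
def GRat {X Y : Scheme.{u}} (f : X ⟶ Y) (x : X) : Prop :=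
  ∀ (y : Y) (x₀ : f.fiber y), f.fiberι y x₀ = x →
    FBase.IsGeomReducedAt (f.fiberToSpecResidueField y) x₀

theorem apply_fiberι {X Y : Scheme.{u}} (f : X ⟶ Y) (y : Y) (x₀ : f.fiber y) :
    f (f.fiberι y x₀) = y := by
  have h : f.fiberι y x₀ ∈ Set.range (f.fiberι y) := ⟨x₀, rfl⟩
  rw [f.range_fiberι y] at h
  exact h

theorem gRat_of_asFiber {X Y : Scheme.{u}} (f : X ⟶ Y) (x : X)
    (h : FBase.IsGeomReducedAt (f.fiberToSpecResidueField (f x)) (f.asFiber x)) : GRat f x := by
  intro y x₀ hx₀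
  have hy : f x = y := by rw [← hx₀]; exact apply_fiberι f y x₀
  subst hy
  have : x₀ = f.asFiber x :=
    (f.fiberι (f x)).isEmbedding.injective (hx₀.trans (f.fiberι_asFiber x).symm)
  rw [this]
  exact h

theorem isGeomReducedAt_of_geometricallyReduced {X Y : Scheme.{u}} (f : X ⟶ Y) (y : Y)
    (hy : GeometricallyReduced (f.fiberToSpecResidueField y)) (x₀ : f.fiber y) :
    FBase.IsGeomReducedAt (f.fiberToSpecResidueField y) x₀ := by
  intro K _ _ x' _
  haveI : IsReduced (FBase.bc (f.fiberToSpecResidueField y) K) :=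
    hy.geometrically_isReduced _ _ _ (IsPullback.of_hasPullback _ _)
  infer_instance

theorem gRat_of_geometricallyReduced {X Y : Scheme.{u}} (f : X ⟶ Y) (x : X)
    (hy : GeometricallyReduced (f.fiberToSpecResidueField (f x))) : GRat f x :=
  gRat_of_asFiber f x (isGeomReducedAt_of_geometricallyReduced f (f x) hy _)



theorem isPullback_congr_bot' {C : Type*} [Category C] {P X Y Z : C} {fst : P ⟶ X}
    {snd : P ⟶ Y} {f : X ⟶ Z} {g g' : Y ⟶ Z} (h : IsPullback fst snd f g) (e : g = g') :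
    IsPullback fst snd f g' := e ▸ h

theorem apply_eq_of_comp_eq {A B C B' : Scheme.{u}} {a : A ⟶ B} {b : B ⟶ C} {a' : A ⟶ B'}
    {b' : B' ⟶ C} (h : a ≫ b = a' ≫ b') (x : A) : b (a x) = b' (a' x) := by
  change (a ≫ b) x = (a' ≫ b') x
  rw [h]

/-- ascent of geometric reducedness at a point along base change -/
theorem gRat_of_isPullback {X Y X' Y' : Scheme.{u}} {f : X ⟶ Y} {f' : X' ⟶ Y'} {g' : X' ⟶ X}
    {g : Y' ⟶ Y} (hc : IsPullback g' f' f g) (x' : X') (hG : GRat f (g' x')) : GRat f' x' := by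
  intro y' x₀' hx₀' K _ _ x'' hx''
  have hfib := isPullback_fiberToSpecResidueField_of_isPullback hc y'
  obtain ⟨m, hm⟩ : ∃ m : f'.fiber y' ⟶ f.fiber (g y'), m = pullback.map _ _ _ _ g'
      (Spec.map (g.residueFieldMap y')) g hc.w.symm (by simp) := ⟨_, rfl⟩
  rw [← hm] at hfib
  have hmι : m ≫ f.fiberι (g y') = f'.fiberι y' ≫ g' := by
    rw [hm]
    exact pullback.lift_fst _ _ _
  letI alg : Algebra (ResidueField (Y.presheaf.stalk (g y'))) K :=
    ((algebraMap (ResidueField (Y'.presheaf.stalk y')) K).comp (g.residueFieldMap y').hom).toAlgebra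
  have hbot : Spec.map (CommRingCat.ofHom (algebraMap (ResidueField (Y'.presheaf.stalk y')) K)) ≫
      Spec.map (g.residueFieldMap y') =
      Spec.map (CommRingCat.ofHom (algebraMap (ResidueField (Y.presheaf.stalk (g y'))) K)) := by
    rw [← Spec.map_comp]
    rfl
  have big : IsPullback (pullback.fst (f'.fiberToSpecResidueField y')
        (Spec.map (CommRingCat.ofHom (algebraMap (ResidueField (Y'.presheaf.stalk y')) K))) ≫ m)
      (pullback.snd (f'.fiberToSpecResidueField y')
        (Spec.map (CommRingCat.ofHom (algebraMap (ResidueField (Y'.presheaf.stalk y')) K))))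
      (f.fiberToSpecResidueField (g y'))
      (Spec.map (CommRingCat.ofHom (algebraMap (ResidueField (Y.presheaf.stalk (g y'))) K))) :=
    isPullback_congr_bot' ((IsPullback.of_hasPullback (f'.fiberToSpecResidueField y')
      (Spec.map (CommRingCat.ofHom (algebraMap (ResidueField (Y'.presheaf.stalk y')) K)))).paste_horiz
        hfib) hbot
  have he1 : big.isoPullback.hom ≫ pullback.fst (f.fiberToSpecResidueField (g y'))
      (Spec.map (CommRingCat.ofHom (algebraMap (ResidueField (Y.presheaf.stalk (g y'))) K))) =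
      pullback.fst (f'.fiberToSpecResidueField y')
        (Spec.map (CommRingCat.ofHom (algebraMap (ResidueField (Y'.presheaf.stalk y')) K))) ≫ m :=
    big.isoPullback_hom_fst
  have hmx : f.fiberι (g y') (m x₀') = g' x' :=
    (apply_eq_of_comp_eq hmι x₀').trans (congrArg g' hx₀')
  have hπ : (pullback.fst (f.fiberToSpecResidueField (g y'))
      (Spec.map (CommRingCat.ofHom (algebraMap (ResidueField (Y.presheaf.stalk (g y'))) K))))
      (big.isoPullback.hom x'') = m x₀' :=
    (apply_eq_of_comp_eq he1 x'').trans (congrArg m hx'')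
  have h1 := hG (g y') (m x₀') hmx K (big.isoPullback.hom x'') hπ
  exact isReduced_stalk_of_isIso big.isoPullback.hom x'' h1

/-- geometric reducedness at a point implies reducedness of the local ring of the fibre -/
theorem isReduced_stalk_of_isGeomReducedAt {k : Type u} [Field k] {F : Scheme.{u}}
    (φ : F ⟶ Spec (CommRingCat.of k)) (x₀ : F) (h : FBase.IsGeomReducedAt φ x₀) :
    _root_.IsReduced (F.presheaf.stalk x₀) := by
  haveI : IsIso (Spec.map (CommRingCat.ofHom (algebraMap k k))) := by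
    rw [Algebra.algebraMap_self, CommRingCat.ofHom_id, Spec.map_id]
    infer_instance
  haveI : IsIso (FBase.bcπ φ k) := by
    unfold FBase.bcπ
    exact pullback_fst_iso_of_right_iso _ _
  have h1 : (FBase.bcπ φ k) ((inv (FBase.bcπ φ k)) x₀) = x₀ := by
    rw [← Scheme.Hom.comp_apply, IsIso.inv_hom_id]
    rfl
  have h2 := h k ((inv (FBase.bcπ φ k)) x₀) h1
  exact isReduced_stalk_of_isIso (inv (FBase.bcπ φ k)) x₀ h2

/-- the local ring of the fibre of a base change is reduced at points where the original fibre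
is geometrically reduced -/
theorem isReduced_fiber_stalk {X Y X' Y' : Scheme.{u}} {f : X ⟶ Y} {f' : X' ⟶ Y'} {g' : X' ⟶ X}
    {g : Y' ⟶ Y} (hc : IsPullback g' f' f g) (x' : X') (hG : GRat f (g' x')) :
    _root_.IsReduced ((f'.fiber (f' x')).presheaf.stalk (f'.asFiber x')) :=
  isReduced_stalk_of_isGeomReducedAt _ _
    (gRat_of_isPullback hc x' hG (f' x') (f'.asFiber x') (f'.fiberι_asFiber x'))

theorem isReduced_quotient_stalk {X Y X' Y' : Scheme.{u}} {f : X ⟶ Y} {f' : X' ⟶ Y'}
    {g' : X' ⟶ X} {g : Y' ⟶ Y} (hc : IsPullback g' f' f g) (x' : X') (hG : GRat f (g' x')) :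
    _root_.IsReduced (X'.presheaf.stalk x' ⧸
      (maximalIdeal (Y'.presheaf.stalk (f' x'))).map (f'.stalkMap x').hom) := by
  haveI := isReduced_fiber_stalk hc x' hG
  exact isReduced_of_injective (Groth.Agent.H1.FibreStalk.fiberStalkEquiv f' x')
    (Groth.Agent.H1.FibreStalk.fiberStalkEquiv f' x').injective



theorem map_maximalIdeal_eq_span {R S B : Type*} [CommRing R] [CommRing S] [IsLocalRing S]
    [CommRing B] (T : R →+* S) (φ : S →+* B) (P : Ideal R) [P.IsPrime]
    (hloc : @IsLocalization.AtPrime R _ S _ T.toAlgebra P _) (ϖ : R) (hP : P = Ideal.span {ϖ}) :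
    (maximalIdeal S).map φ = Ideal.span {φ (T ϖ)} := by
  letI := T.toAlgebra
  have h := IsLocalization.AtPrime.map_eq_maximalIdeal P S
  rw [← h, hP, Ideal.map_map, Ideal.map_span, Set.image_singleton]
  rfl

theorem span_stalkHom_eq {R : Type u} [CommRing R] [IsDomain R] [IsDiscreteValuationRing R]
    {W : Scheme.{u}} (p : W ⟶ Spec (CommRingCat.of R)) (z : W) (hz : p z = closedPoint R)
    {ϖ : R} (hϖ : Irreducible ϖ) :
    (maximalIdeal ((Spec (CommRingCat.of R)).presheaf.stalk (p z))).map (p.stalkMap z).hom =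
      Ideal.span {stalkHom p z ϖ} := by
  have h2 : (p z : PrimeSpectrum R).asIdeal = Ideal.span {ϖ} := by
    rw [hz]
    exact hϖ.maximalIdeal_eq
  haveI : (p z : PrimeSpectrum R).asIdeal.IsPrime := (p z : PrimeSpectrum R).isPrime
  exact map_maximalIdeal_eq_span (S := ↑((Spec (CommRingCat.of R)).presheaf.stalk (p z)))
    (StructureSheaf.toStalk R (p z)).hom (p.stalkMap z).hom
    (p z : PrimeSpectrum R).asIdeal (StructureSheaf.IsLocalization.to_stalk R (p z)) ϖ h2

theorem stalkHom_mem_nonZeroDivisors {R : Type u} [CommRing R] [IsDomain R]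
    {W : Scheme.{u}} (p : W ⟶ Spec (CommRingCat.of R)) [Flat p] (z : W) {r : R} (hr : r ≠ 0) :
    stalkHom p z r ∈ nonZeroDivisors (W.presheaf.stalk z) := by
  have h0 : (StructureSheaf.toStalk R (p z)).hom.Flat :=
    IsLocalization.flat ((Spec.structureSheaf R).presheaf.stalk (p z))
      (p z : PrimeSpectrum R).asIdeal.primeCompl
  have hflat : (stalkHom p z).Flat := RingHom.Flat.comp h0 (Flat.stalkMap p z)
  letI := (stalkHom p z).toAlgebra
  haveI : Module.Flat R (W.presheaf.stalk z) := hflat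
  have h := Module.Flat.isSMulRegular_of_nonZeroDivisors (M := W.presheaf.stalk z)
    (mem_nonZeroDivisors_of_ne_zero hr)
  rw [mem_nonZeroDivisors_iff_left]
  intro b hb
  apply h
  simp only [smul_zero]
  rw [Algebra.smul_def]
  exact hb


/-! ### the Noetherian flat case -/

theorem sectionComponents_mem_nhds_of_noetherian {X Y : Scheme.{u}} [IsNoetherian Y] (f : X ⟶ Y)
    [LocallyOfFiniteType f] [QuasiCompact f] [Flat f] (s : Y ⟶ X) (hs : s ≫ f = 𝟙 Y) (x : X)
    (hx : x ∈ MoreMor.sectionComponents f s)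
    (hred : ∀ x₁ ∈ MoreMor.sectionComponents f s, f x₁ = f x → GRat f x₁) :
    MoreMor.sectionComponents f s ∈ 𝓝 x := by
  haveI : IsLocallyNoetherian X := LocallyOfFiniteType.isLocallyNoetherian f
  have hcons := isConstructible_sectionComponents_of_noetherian f s hs
  refine mem_nhds_of_forall_specializes hcons.isLocallyConstructible ?_
  intro x' hx'
  by_cases hne : x' = x
  · rw [hne]
    exact hx
  obtain ⟨R, _, _, _, g₀, hg₀c, hg₀η⟩ := Groth.Agent.H8.DVRSch.exists_dvr_of_specializes hx' hne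
  obtain ⟨ϖ, hϖ⟩ := IsDiscreteValuationRing.exists_irreducible R
  obtain ⟨c, hcdef⟩ : ∃ c : Spec (CommRingCat.of R), c = closedPoint R := ⟨_, rfl⟩
  obtain ⟨η, hηdef⟩ : ∃ η : Spec (CommRingCat.of R), η = (⊥ : PrimeSpectrum R) := ⟨_, rfl⟩
  rw [← hcdef] at hg₀c
  rw [← hηdef] at hg₀η
  obtain ⟨h, hh⟩ : ∃ h : Spec (CommRingCat.of R) ⟶ Y, h = g₀ ≫ f := ⟨_, rfl⟩
  have hc := IsPullback.of_hasPullback f h
  obtain ⟨p, hp⟩ : ∃ p : pullback f h ⟶ Spec (CommRingCat.of R), p = pullback.snd f h := ⟨_, rfl⟩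
  obtain ⟨fst, hfst⟩ : ∃ fst : pullback f h ⟶ X, fst = pullback.fst f h := ⟨_, rfl⟩
  rw [← hp, ← hfst] at hc
  haveI : Flat p := by rw [hp]; infer_instance
  haveI : LocallyOfFiniteType p := by rw [hp]; infer_instance
  have hw1 : (h ≫ s) ≫ f = 𝟙 _ ≫ h := by
    rw [Category.assoc, hs, Category.comp_id, Category.id_comp]
  have hw2 : g₀ ≫ f = 𝟙 _ ≫ h := by rw [Category.id_comp, hh]
  have hσp : hc.lift (h ≫ s) (𝟙 _) hw1 ≫ p = 𝟙 _ := hc.lift_snd _ _ _
  have hσf : hc.lift (h ≫ s) (𝟙 _) hw1 ≫ fst = h ≫ s := hc.lift_fst _ _ _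
  have hτp : hc.lift g₀ (𝟙 _) hw2 ≫ p = 𝟙 _ := hc.lift_snd _ _ _
  have hτf : hc.lift g₀ (𝟙 _) hw2 ≫ fst = g₀ := hc.lift_fst _ _ _
  obtain ⟨σ, hσ⟩ : ∃ σ : Spec (CommRingCat.of R) ⟶ pullback f h,
    σ = hc.lift (h ≫ s) (𝟙 _) hw1 := ⟨_, rfl⟩
  obtain ⟨τ, hτ⟩ : ∃ τ : Spec (CommRingCat.of R) ⟶ pullback f h,
    τ = hc.lift g₀ (𝟙 _) hw2 := ⟨_, rfl⟩
  rw [← hσ] at hσp hσf
  rw [← hτ] at hτp hτf
  have hE := Groth.Agent.H1.SecComp.s1324 f s hs p fst h hc σ hσp hσf
  have hpτ : ∀ t, p (τ t) = t := fun t => by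
    change (τ ≫ p) t = t
    rw [hτp]
    rfl
  have hfτ : ∀ t, fst (τ t) = g₀ t := fun t => by
    change (τ ≫ fst) t = _
    rw [hτf]
  have hmem : ∀ (w : ↥(pullback f h)) (t : Spec (CommRingCat.of R)), p w = t →
      (w ∈ MoreMor.sectionComponents p σ ↔ w ∈ connectedComponentIn (p ⁻¹' {t}) (σ t)) := by
    intro w t ht
    subst ht
    rfl
  have hτc : τ c ∈ connectedComponentIn (p ⁻¹' {c}) (σ c) := by
    rw [← hmem (τ c) c (hpτ c), hE]
    change fst (τ c) ∈ MoreMor.sectionComponents f s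
    rw [hfτ, hg₀c]
    exact hx
  have H : ∀ z ∈ connectedComponentIn (p ⁻¹' {c}) (σ c),
      stalkHom p z ϖ ∈ nonZeroDivisors ((pullback f h).presheaf.stalk z) ∧
        (Ideal.span {stalkHom p z ϖ}).IsRadical := by
    intro z hz
    have hpz0 : z ∈ p ⁻¹' {c} := connectedComponentIn_subset _ _ hz
    have hpz : p z = c := hpz0
    have hzE : z ∈ MoreMor.sectionComponents p σ := (hmem z c hpz).mpr hz
    rw [hE] at hzE
    have hfz : f (fst z) = f x := by
      have h1 : f (fst z) = h (p z) := apply_eq_of_comp_eq hc.w z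
      rw [h1, hpz, hh]
      change f (g₀ c) = f x
      rw [hg₀c]
    have hG := hred (fst z) hzE hfz
    refine ⟨stalkHom_mem_nonZeroDivisors p z hϖ.ne_zero, ?_⟩
    rw [← span_stalkHom_eq p z (hpz.trans hcdef) hϖ, Ideal.isRadical_iff_quotient_reduced]
    exact isReduced_quotient_stalk hc z hG
  have hfin := dvr_core p σ τ hσp hτp hϖ c η hcdef hηdef H hτc
  rw [← hmem (τ η) η (hpτ η), hE] at hfin
  have h2 : fst (τ η) ∈ MoreMor.sectionComponents f s := hfin
  rw [hfτ, hg₀η] at h2
  exact h2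

/-- the form used in the statements -/
theorem connectedComponentIn_subset_interior_of_forall_mem_nhds {X Y : Scheme.{u}} (f : X ⟶ Y)
    (s : Y ⟶ X) (y : Y)
    (h : ∀ x ∈ MoreMor.sectionComponents f s, f x = y → MoreMor.sectionComponents f s ∈ 𝓝 x) :
    connectedComponentIn (f ⁻¹' {y}) (s y) ⊆ interior (MoreMor.sectionComponents f s) := by
  intro x hx
  have hfx0 : x ∈ f ⁻¹' {y} := connectedComponentIn_subset _ _ hx
  have hfx : f x = y := hfx0
  rw [mem_interior_iff_mem_nhds]
  refine h x ?_ hfx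
  change x ∈ connectedComponentIn (f ⁻¹' {f x}) (s (f x))
  rw [hfx]
  exact hx

end Groth.Agent.H1.GIrr
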