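import Mathlib
import Groth.Agent.Lib.Helper1.GIrrQ
import Groth.Agent.Lib.Helper3.FBaseComp
import Groth.Agent.Lib.Helper5.Lim.FGSub2
import Groth.Agent.Lib.Helper5.Lim.Model11
import Groth.Agent.Lib.Helper5.Lim.Model3
import Groth.Agent.Lib.Helper5.Lim.DescendFlat

/-!
# Section components are a neighbourhood of the component of a geometrically reduced fibre:
flat morphisms of finite presentation (helper1)
-/

set_option autoImplicit false
set_option linter.style.haveILetI false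
universe u

open TopologicalSpace Topology AlgebraicGeometry CategoryTheory CategoryTheory.Limits IsLocalRing

namespace Groth.Agent.H1.GIrr

/-! ### descent of geometric reducedness at a point -/

theorem flat_SpecMap_of_field (K L : Type u) [Field K] [Field L] [Algebra K L] :
    Flat (Spec.map (CommRingCat.ofHom (algebraMap K L))) := by
  rw [Flat.SpecMap_iff]
  exact RingHom.flat_algebraMap_iff.mpr inferInstance

open Groth.Agent.H3.FBaseComp in
theorem gRat_of_forall_isPullback {X Y X' Y' : Scheme.{u}} {f : X ⟶ Y} {f' : X' ⟶ Y'}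
    {g' : X' ⟶ X} {g : Y' ⟶ Y} (hc : IsPullback g' f' f g) (x : X) (y' : Y') (hy' : g y' = f x)
    (H : ∀ x' : X', g' x' = x → f' x' = y' → GRat f' x') : GRat f x := by
  intro y x₀ hx₀
  have hy : y = g y' := by
    rw [hy', ← hx₀]
    exact (apply_fiberι f y x₀).symm
  subst hy
  intro K _ _ x'' hx''
  letI algκ : Algebra (ResidueField (Y.presheaf.stalk (g y'))) (ResidueField (Y'.presheaf.stalk y')) :=
    (g.residueFieldMap y').hom.toAlgebra
  obtain ⟨L, _, _, _, _, _, _⟩ := exists_compositum (ResidueField (Y.presheaf.stalk (g y'))) K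
    (ResidueField (Y'.presheaf.stalk y'))
  obtain ⟨w, hw⟩ := surjective_bcMap (f.fiberToSpecResidueField (g y')) K L x''
  have hfib := isPullback_fiberToSpecResidueField_of_isPullback hc y'
  obtain ⟨m, hm⟩ : ∃ m : f'.fiber y' ⟶ f.fiber (g y'), m = pullback.map _ _ _ _ g'
      (Spec.map (g.residueFieldMap y')) g hc.w.symm (by simp) := ⟨_, rfl⟩
  rw [← hm] at hfib
  have hmι : m ≫ f.fiberι (g y') = f'.fiberι y' ≫ g' := by
    rw [hm]
    exact pullback.lift_fst _ _ _
  have hbot : Spec.map (CommRingCat.ofHom (algebraMap (ResidueField (Y'.presheaf.stalk y')) L)) ≫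
      Spec.map (g.residueFieldMap y') =
      Spec.map (CommRingCat.ofHom (algebraMap (ResidueField (Y.presheaf.stalk (g y'))) L)) := by
    have hring : (algebraMap (ResidueField (Y'.presheaf.stalk y')) L).comp
        (g.residueFieldMap y').hom =
        algebraMap (ResidueField (Y.presheaf.stalk (g y'))) L :=
      (IsScalarTower.algebraMap_eq (ResidueField (Y.presheaf.stalk (g y')))
        (ResidueField (Y'.presheaf.stalk y')) L).symm
    rw [← Spec.map_comp]
    exact congrArg Spec.map (CommRingCat.hom_ext hring)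
  have big : IsPullback (pullback.fst (f'.fiberToSpecResidueField y')
        (Spec.map (CommRingCat.ofHom (algebraMap (ResidueField (Y'.presheaf.stalk y')) L))) ≫ m)
      (pullback.snd (f'.fiberToSpecResidueField y')
        (Spec.map (CommRingCat.ofHom (algebraMap (ResidueField (Y'.presheaf.stalk y')) L))))
      (f.fiberToSpecResidueField (g y'))
      (Spec.map (CommRingCat.ofHom (algebraMap (ResidueField (Y.presheaf.stalk (g y'))) L))) :=
    isPullback_congr_bot' ((IsPullback.of_hasPullback (f'.fiberToSpecResidueField y')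
      (Spec.map (CommRingCat.ofHom (algebraMap (ResidueField (Y'.presheaf.stalk y')) L)))).paste_horiz
        hfib) hbot
  have he1 : big.isoPullback.hom ≫ pullback.fst (f.fiberToSpecResidueField (g y'))
      (Spec.map (CommRingCat.ofHom (algebraMap (ResidueField (Y.presheaf.stalk (g y'))) L))) =
      pullback.fst (f'.fiberToSpecResidueField y')
        (Spec.map (CommRingCat.ofHom (algebraMap (ResidueField (Y'.presheaf.stalk y')) L))) ≫ m :=
    big.isoPullback_hom_fst
  -- the point of the base change of the fibre of `f'`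
  have hw' : big.isoPullback.hom (big.isoPullback.inv w) = w := by
    change (big.isoPullback.inv ≫ big.isoPullback.hom) w = w
    rw [Iso.inv_hom_id]
    rfl
  have h1 : m ((pullback.fst (f'.fiberToSpecResidueField y')
      (Spec.map (CommRingCat.ofHom (algebraMap (ResidueField (Y'.presheaf.stalk y')) L))))
        (big.isoPullback.inv w)) =
      (pullback.fst (f.fiberToSpecResidueField (g y'))
      (Spec.map (CommRingCat.ofHom (algebraMap (ResidueField (Y.presheaf.stalk (g y'))) L)))) w := by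
    have := apply_eq_of_comp_eq he1 (big.isoPullback.inv w)
    rw [hw'] at this
    exact this.symm
  have h2 : (pullback.fst (f.fiberToSpecResidueField (g y'))
      (Spec.map (CommRingCat.ofHom (algebraMap (ResidueField (Y.presheaf.stalk (g y'))) L)))) w =
      x₀ := by
    have h3 := apply_eq_of_comp_eq
      ((bcMap_π (f.fiberToSpecResidueField (g y')) K L).trans (Category.id_comp _).symm) w
    rw [hw] at h3
    exact (h3.symm.trans hx'').symm ▸ rfl
  have hfx' : f' (f'.fiberι y' ((pullback.fst (f'.fiberToSpecResidueField y')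
      (Spec.map (CommRingCat.ofHom (algebraMap (ResidueField (Y'.presheaf.stalk y')) L))))
        (big.isoPullback.inv w))) = y' := apply_fiberι f' y' _
  have hgx' : g' (f'.fiberι y' ((pullback.fst (f'.fiberToSpecResidueField y')
      (Spec.map (CommRingCat.ofHom (algebraMap (ResidueField (Y'.presheaf.stalk y')) L))))
        (big.isoPullback.inv w))) = x := by
    have h3 := apply_eq_of_comp_eq hmι ((pullback.fst (f'.fiberToSpecResidueField y')
      (Spec.map (CommRingCat.ofHom (algebraMap (ResidueField (Y'.presheaf.stalk y')) L))))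
        (big.isoPullback.inv w))
    rw [← h3, h1, h2]
    exact hx₀
  have hGR := H _ hgx' hfx' y' _ rfl L (big.isoPullback.inv w) rfl
  have hR1 : _root_.IsReduced ((FBase.bc (f.fiberToSpecResidueField (g y')) L).presheaf.stalk w) :=
    isReduced_stalk_of_isIso big.isoPullback.inv w hGR
  haveI : Flat (bcMap (f.fiberToSpecResidueField (g y')) K L) :=
    MorphismProperty.of_isPullback (P := @Flat)
      (isPullback_bcMap (f.fiberToSpecResidueField (g y')) K L).flip (flat_SpecMap_of_field K L)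
  rw [← hw]
  exact isReduced_of_injective ((bcMap (f.fiberToSpecResidueField (g y')) K L).stalkMap w).hom
    (stalkMap_injective_of_flat _ w)

/-! ### reduction to the Noetherian case -/

open Groth.Agent.H5.Lim in
theorem sectionComponents_mem_nhds_spec (A : Type u) [CommRing A] {X : Scheme.{u}}
    (f : X ⟶ Spec (CommRingCat.of A)) [LocallyOfFinitePresentation f] [QuasiCompact f]
    [QuasiSeparated f] [Flat f] (s : Spec (CommRingCat.of A) ⟶ X)
    (hs : s ≫ f = 𝟙 (Spec (CommRingCat.of A))) (x : X)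
    (hx : x ∈ MoreMor.sectionComponents f s)
    (hred : ∀ x₁ ∈ MoreMor.sectionComponents f s, f x₁ = f x → GRat f x₁) :
    MoreMor.sectionComponents f s ∈ 𝓝 x := by
  let f' : X ⟶ (fgzCone A).pt := f
  haveI : LocallyOfFinitePresentation f' := ‹LocallyOfFinitePresentation f›
  haveI : QuasiCompact f' := ‹QuasiCompact f›
  haveI : QuasiSeparated f' := ‹QuasiSeparated f›
  haveI : Flat f' := ‹Flat f›
  let s' : (fgzCone A).pt ⟶ X := s
  have hs' : s' ≫ f' = 𝟙 (fgzCone A).pt := hs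
  obtain ⟨j, ⟨M⟩⟩ := exists_model (fgzDiagram A) (fgzCone A) (isLimitFgzCone A) f'
  -- flatness at a finite stage
  have hflat0 : Flat (pullback.snd M.p ((fgzCone A).π.app j)) := by
    have e := M.pb.isoPullback_hom_snd
    rw [← MorphismProperty.cancel_left_of_respectsIso @Flat M.pb.isoPullback.hom, e]
    infer_instance
  obtain ⟨k₁, φ₁, hk₁⟩ := exists_bc_of_affineSystemDescent (fgzDiagram A) (fgzCone A)
    (isLimitFgzCone A) affineSystemDescent_flat j M.p ⟨M.lfp, M.qc, M.qs⟩ hflat0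
  haveI : Flat (M.bc φ₁).p := hk₁
  let M₀ : Model (fgzDiagram A) (fgzCone A) (𝟙 (fgzCone A).pt) k₁ :=
    { Y := (fgzDiagram A).obj k₁
      p := 𝟙 _
      g := (fgzCone A).π.app k₁
      lfp := inferInstance
      qc := inferInstance
      qs := inferInstance
      pb := IsPullback.of_vert_isIso ⟨by simp⟩ }
  obtain ⟨k, φ, ⟨F⟩⟩ := Model.exists_hom (isLimitFgzCone A) M₀ (M.bc φ₁) s' hs'
  haveI : IsIso (M₀.bc φ).p := by
    change IsIso (pullback.snd (𝟙 ((fgzDiagram A).obj k₁)) ((fgzDiagram A).map φ))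
    infer_instance
  haveI : Flat ((M.bc φ₁).bc φ).p := by
    change Flat (pullback.snd (M.bc φ₁).p ((fgzDiagram A).map φ))
    infer_instance
  have hsk : (inv (M₀.bc φ).p ≫ F.α) ≫ ((M.bc φ₁).bc φ).p = 𝟙 _ := by
    rw [Category.assoc, F.w_p, IsIso.inv_hom_id]
  have hg0 : (M₀.bc φ).g = (fgzCone A).π.app k ≫ inv (M₀.bc φ).p := by
    rw [IsIso.eq_comp_inv, Model.bc_g_p, Category.id_comp]
  have hcompat : s' ≫ ((M.bc φ₁).bc φ).g = (fgzCone A).π.app k ≫ (inv (M₀.bc φ).p ≫ F.α) := by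
    rw [← Category.assoc, ← hg0, F.w_g]
  haveI : IsNoetherianRing ↥(k.unop.1) := by
    haveI : Algebra.FiniteType ℤ ↥(k.unop.1) :=
      (Subalgebra.fg_iff_finiteType _).mp k.unop.2
    exact Algebra.FiniteType.isNoetherianRing ℤ _
  haveI : IsNoetherian ((fgzDiagram A).obj k) :=
    inferInstanceAs (IsNoetherian (Spec (CommRingCat.of ↥(k.unop.1))))
  have hE := Groth.Agent.H1.SecComp.s1324 ((M.bc φ₁).bc φ).p (inv (M₀.bc φ).p ≫ F.α) hsk f'
    ((M.bc φ₁).bc φ).g ((fgzCone A).π.app k) ((M.bc φ₁).bc φ).pb s' hs' hcompat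
  have hx' : x ∈ MoreMor.sectionComponents f' s' := hx
  have hxk : ((M.bc φ₁).bc φ).g x ∈
      MoreMor.sectionComponents ((M.bc φ₁).bc φ).p (inv (M₀.bc φ).p ≫ F.α) := by
    rw [hE] at hx'
    exact hx'
  have hredk : ∀ x₁ ∈ MoreMor.sectionComponents ((M.bc φ₁).bc φ).p (inv (M₀.bc φ).p ≫ F.α),
      ((M.bc φ₁).bc φ).p x₁ = ((M.bc φ₁).bc φ).p (((M.bc φ₁).bc φ).g x) →
      GRat ((M.bc φ₁).bc φ).p x₁ := by
    intro x₁ hx₁ hpx₁
    refine gRat_of_forall_isPullback ((M.bc φ₁).bc φ).pb x₁ (f' x) ?_ ?_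
    · rw [hpx₁]
      exact (apply_eq_of_comp_eq ((M.bc φ₁).bc φ).pb.w x).symm
    · intro x' hx'1 hx'2
      refine hred x' ?_ hx'2
      change x' ∈ MoreMor.sectionComponents f' s'
      rw [hE]
      change ((M.bc φ₁).bc φ).g x' ∈
        MoreMor.sectionComponents ((M.bc φ₁).bc φ).p (inv (M₀.bc φ).p ≫ F.α)
      rw [hx'1]
      exact hx₁
  have hnhds := sectionComponents_mem_nhds_of_noetherian ((M.bc φ₁).bc φ).p
    (inv (M₀.bc φ).p ≫ F.α) hsk (((M.bc φ₁).bc φ).g x) hxk hredk
  show MoreMor.sectionComponents f' s' ∈ 𝓝 x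
  rw [hE]
  exact ((M.bc φ₁).bc φ).g.continuous.continuousAt.preimage_mem_nhds hnhds

theorem sectionComponents_mem_nhds_of_isAffine {X S : Scheme.{u}} [IsAffine S]
    (f : X ⟶ S) [LocallyOfFinitePresentation f] [QuasiCompact f] [QuasiSeparated f] [Flat f]
    (s : S ⟶ X) (hs : s ≫ f = 𝟙 S) (x : X) (hx : x ∈ MoreMor.sectionComponents f s)
    (hred : ∀ x₁ ∈ MoreMor.sectionComponents f s, f x₁ = f x → GRat f x₁) :
    MoreMor.sectionComponents f s ∈ 𝓝 x := by
  have sq : IsPullback (𝟙 X) (f ≫ S.isoSpec.hom) f S.isoSpec.inv :=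
    IsPullback.of_horiz_isIso ⟨by simp⟩
  let f'' : X ⟶ Spec (CommRingCat.of ↑Γ(S, ⊤)) := f ≫ S.isoSpec.hom
  let s'' : Spec (CommRingCat.of ↑Γ(S, ⊤)) ⟶ X := S.isoSpec.inv ≫ s
  have hs'' : s'' ≫ f'' = 𝟙 _ := by
    change (S.isoSpec.inv ≫ s) ≫ (f ≫ S.isoSpec.hom) = 𝟙 _
    rw [Category.assoc, ← Category.assoc s, hs, Category.id_comp, Iso.inv_hom_id]
  haveI : LocallyOfFinitePresentation f'' :=
    inferInstanceAs (LocallyOfFinitePresentation (f ≫ S.isoSpec.hom))
  haveI : QuasiCompact f'' := inferInstanceAs (QuasiCompact (f ≫ S.isoSpec.hom))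
  haveI : QuasiSeparated f'' := inferInstanceAs (QuasiSeparated (f ≫ S.isoSpec.hom))
  haveI : Flat f'' := inferInstanceAs (Flat (f ≫ S.isoSpec.hom))
  have hE := Groth.Agent.H1.SecComp.s1324 f s hs (f ≫ S.isoSpec.hom) (𝟙 X) S.isoSpec.inv sq
    (S.isoSpec.inv ≫ s) hs'' (by rw [Category.comp_id])
  have h2 : MoreMor.sectionComponents f s =
      MoreMor.sectionComponents (f ≫ S.isoSpec.hom) (S.isoSpec.inv ≫ s) := by
    rw [hE]
    rfl
  have hinj : ∀ a b : X, f'' a = f'' b → f a = f b := by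
    intro a b hab
    have h3 : S.isoSpec.inv (f'' a) = S.isoSpec.inv (f'' b) := by rw [hab]
    have h4 : ∀ t : X, S.isoSpec.inv (f'' t) = f t := by
      intro t
      change (f ≫ S.isoSpec.hom ≫ S.isoSpec.inv) t = f t
      rw [Iso.hom_inv_id, Category.comp_id]
    rwa [h4, h4] at h3
  have h1 := sectionComponents_mem_nhds_spec ↑Γ(S, ⊤) f'' s'' hs'' x (by
      change x ∈ MoreMor.sectionComponents (f ≫ S.isoSpec.hom) (S.isoSpec.inv ≫ s)
      rw [← h2]
      exact hx) (by
      intro x₁ hx₁ hfx₁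
      have hx₁' : x₁ ∈ MoreMor.sectionComponents f s := by
        rw [h2]
        exact hx₁
      exact gRat_of_isPullback sq x₁ (hred x₁ hx₁' (hinj _ _ hfx₁)))
  rw [h2]
  exact h1

/-- **Main theorem** (flat, finite presentation). -/
theorem sectionComponents_mem_nhds {X Y : Scheme.{u}} (f : X ⟶ Y)
    [LocallyOfFinitePresentation f] [QuasiCompact f] [QuasiSeparated f] [Flat f]
    (s : Y ⟶ X) (hs : s ≫ f = 𝟙 Y) (x : X) (hx : x ∈ MoreMor.sectionComponents f s)
    (hred : ∀ x₁ ∈ MoreMor.sectionComponents f s, f x₁ = f x → GRat f x₁) :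
    MoreMor.sectionComponents f s ∈ 𝓝 x := by
  obtain ⟨V, hV, hsV⟩ : ∃ V : Y.Opens, IsAffineOpen V ∧ f x ∈ V := by
    obtain ⟨_, ⟨V, hV, rfl⟩, hsV, -⟩ :=
      Y.isBasis_affineOpens.exists_subset_of_mem_open (Set.mem_univ (f x)) isOpen_univ
    exact ⟨V, hV, hsV⟩
  have sq := (isPullback_morphismRestrict f V).flip
  have hw : (V.ι ≫ s) ≫ f = 𝟙 _ ≫ V.ι := by
    rw [Category.assoc, hs, Category.comp_id, Category.id_comp]
  have hsV1 : sq.lift (V.ι ≫ s) (𝟙 _) hw ≫ (f ∣_ V) = 𝟙 _ := sq.lift_snd _ _ _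
  have hsV2 : sq.lift (V.ι ≫ s) (𝟙 _) hw ≫ (f ⁻¹ᵁ V).ι = V.ι ≫ s := sq.lift_fst _ _ _
  have hV' : IsAffine V.toScheme := hV
  have hE := Groth.Agent.H1.SecComp.s1324 f s hs (f ∣_ V) (f ⁻¹ᵁ V).ι V.ι sq
    (sq.lift (V.ι ≫ s) (𝟙 _) hw) hsV1 hsV2
  obtain ⟨xV, hxV⟩ : ∃ xV : ↥(f ⁻¹ᵁ V), (f ⁻¹ᵁ V).ι xV = x := ⟨⟨x, hsV⟩, rfl⟩
  have hιinj : Function.Injective V.ι := V.ι.isOpenEmbedding.injective
  have h1 := sectionComponents_mem_nhds_of_isAffine (f ∣_ V) (sq.lift (V.ι ≫ s) (𝟙 _) hw) hsV1 xV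
    (by
      rw [hE]
      change (f ⁻¹ᵁ V).ι xV ∈ MoreMor.sectionComponents f s
      rw [hxV]
      exact hx) (by
      intro x₁ hx₁ hfx₁
      rw [hE] at hx₁
      refine gRat_of_isPullback sq x₁ (hred _ hx₁ ?_)
      rw [← hxV]
      have e1 := apply_eq_of_comp_eq sq.w x₁
      have e2 := apply_eq_of_comp_eq sq.w xV
      rw [e1, e2, hfx₁])
  rw [hE] at h1
  have h2 : (f ⁻¹ᵁ V).ι '' ((f ⁻¹ᵁ V).ι ⁻¹' MoreMor.sectionComponents f s) ∈ 𝓝 ((f ⁻¹ᵁ V).ι xV) :=
    ((f ⁻¹ᵁ V).ι.isOpenEmbedding.image_mem_nhds).mpr h1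
  rw [hxV] at h2
  exact Filter.mem_of_superset h2 (Set.image_preimage_subset _ _)

/-- **S1327**. -/
theorem main1327 {X Y : Scheme.{u}} (f : X ⟶ Y) (s : Y ⟶ X) (hs : s ≫ f = 𝟙 Y)
    [LocallyOfFinitePresentation f] [QuasiCompact f] [QuasiSeparated f] [Flat f] (y : Y)
    (hy : GeometricallyReduced (f.fiberToSpecResidueField y)) :
    connectedComponentIn (f ⁻¹' {y}) (s y) ⊆ interior (MoreMor.sectionComponents f s) := by
  refine connectedComponentIn_subset_interior_of_forall_mem_nhds f s y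
    (fun x hx hfx => sectionComponents_mem_nhds f s hs x hx ?_)
  intro x₁ _ hfx₁
  have h1 : f x₁ = y := hfx₁.trans hfx
  subst h1
  exact gRat_of_geometricallyReduced f x₁ hy

/-- **S4953**. -/
theorem main4953 {X Y : Scheme.{u}} (f : X ⟶ Y) [Flat f]
    [LocallyOfFinitePresentation f] [QuasiCompact f] [QuasiSeparated f] (g : Y ⟶ X)
    (hg : g ≫ f = 𝟙 Y) (y : Y)
    (hred : ∀ x' : ↥(f.fiber y), (f.fiberι y).base x' ∈
      connectedComponentIn (f.base ⁻¹' {y}) (g.base y) →
      FBase.IsGeomReducedAt (f.fiberToSpecResidueField y) x') :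
    connectedComponentIn (f.base ⁻¹' {y}) (g.base y) ⊆
      interior (MoreMor.sectionComponents f g) := by
  refine connectedComponentIn_subset_interior_of_forall_mem_nhds f g y
    (fun x hx hfx => sectionComponents_mem_nhds f g hg x hx ?_)
  intro x₁ hx₁ hfx₁
  have h1 : f x₁ = y := hfx₁.trans hfx
  intro y₁ x₀ hx₀
  have hy₁ : y₁ = y := by
    rw [← h1, ← hx₀]
    exact (apply_fiberι f y₁ x₀).symm
  subst hy₁
  apply hred x₀
  have h2 : x₁ ∈ connectedComponentIn (f ⁻¹' {f x₁}) (g (f x₁)) := hx₁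
  rw [h1] at h2
  change f.fiberι y₁ x₀ ∈ connectedComponentIn (f ⁻¹' {y₁}) (g y₁)
  rw [hx₀]
  exact h2

end Groth.Agent.H1.GIrr
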