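import Mathlib
import Groth.Agent.Lib.Helper1.GIrrR
import Groth.Agent.Lib.Helper1.SmoothGeom

/-!
# Section components: reduction to quasi-compact open subschemes, and the smooth case (helper1)
-/

set_option autoImplicit false
set_option linter.style.haveILetI false
universe u

open TopologicalSpace Topology AlgebraicGeometry CategoryTheory CategoryTheory.Limits IsLocalRing

namespace Groth.Agent.H1.GIrr

/-! ### compact open connected neighbourhoods in locally Noetherian schemes -/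

theorem exists_isOpen_isCompact_isPreconnected (Z : Scheme.{u}) [IsLocallyNoetherian Z] (b : Z) :
    ∃ K : Set Z, IsOpen K ∧ IsCompact K ∧ _root_.IsPreconnected K ∧ b ∈ K := by
  obtain ⟨_, ⟨N, hN, rfl⟩, hbN, -⟩ := Z.isBasis_affineOpens.exists_subset_of_mem_open
    (Set.mem_univ b) isOpen_univ
  haveI : IsNoetherianRing Γ(Z, N) := IsLocallyNoetherian.component_noetherian ⟨N, hN⟩
  haveI : NoetherianSpace ↥(N : Set Z) := noetherianSpace_of_isAffineOpen N hN
  refine ⟨connectedComponentIn (N : Set Z) b, ?_, ?_, isPreconnected_connectedComponentIn,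
    mem_connectedComponentIn hbN⟩
  · rw [connectedComponentIn_eq_image hbN]
    exact N.isOpen.isOpenMap_subtype_val _ (isOpen_connectedComponent_of_noetherianSpace _)
  · rw [connectedComponentIn_eq_image hbN]
    exact (NoetherianSpace.isCompact _).image continuous_subtype_val

theorem exists_isOpen_isCompact_isPreconnected_of_mem_connectedComponent (Z : Scheme.{u})
    [IsLocallyNoetherian Z] (a b : Z) (hb : b ∈ connectedComponent a) :
    ∃ K : Set Z, IsOpen K ∧ IsCompact K ∧ _root_.IsPreconnected K ∧ a ∈ K ∧ b ∈ K := by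
  obtain ⟨A, hA⟩ : ∃ A : Set Z, A = {b' | ∃ K : Set Z, IsOpen K ∧ IsCompact K ∧
      _root_.IsPreconnected K ∧ a ∈ K ∧ b' ∈ K} := ⟨_, rfl⟩
  have hAo : IsOpen A := by
    rw [isOpen_iff_forall_mem_open]
    intro b' hb'
    rw [hA] at hb'
    obtain ⟨K, hKo, hKc, hKp, haK, hb'K⟩ := hb'
    refine ⟨K, fun b'' hb'' => ?_, hKo, hb'K⟩
    rw [hA]
    exact ⟨K, hKo, hKc, hKp, haK, hb''⟩
  have hAc : IsClosed A := by
    rw [← closure_subset_iff_isClosed]
    intro b' hb'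
    obtain ⟨K', hK'o, hK'c, hK'p, hb'K'⟩ := exists_isOpen_isCompact_isPreconnected Z b'
    obtain ⟨b'', hb''K', hb''A⟩ := mem_closure_iff.mp hb' K' hK'o hb'K'
    rw [hA] at hb''A
    obtain ⟨K, hKo, hKc, hKp, haK, hb''K⟩ := hb''A
    rw [hA]
    exact ⟨K ∪ K', hKo.union hK'o, hKc.union hK'c,
      IsPreconnected.union b'' hb''K hb''K' hKp hK'p, Or.inl haK, Or.inr hb'K'⟩
  have haA : a ∈ A := by
    obtain ⟨K, hKo, hKc, hKp, haK⟩ := exists_isOpen_isCompact_isPreconnected Z a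
    rw [hA]
    exact ⟨K, hKo, hKc, hKp, haK, haK⟩
  have h1 := (IsClopen.connectedComponent_subset ⟨hAc, hAo⟩ haA) hb
  rw [hA] at h1
  exact h1

/-! ### a quasi-compact open subscheme through which a point of the section component is reached -/

theorem exists_opens_of_mem_connectedComponentIn {X Y : Scheme.{u}} (f : X ⟶ Y)
    [LocallyOfFiniteType f] (s : Y ⟶ X) (hs : s ≫ f = 𝟙 Y) (y : Y) (x : X)
    (hx : x ∈ connectedComponentIn (f ⁻¹' {y}) (s y)) :
    ∃ (V : Y.Opens) (U : X.Opens), IsAffineOpen V ∧ IsCompact (U : Set X) ∧ U ≤ f ⁻¹ᵁ V ∧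
      V ≤ s ⁻¹ᵁ U ∧ y ∈ V ∧ x ∈ U ∧ _root_.IsPreconnected ((U : Set X) ∩ f ⁻¹' {y}) := by
  classical
  haveI : LocallyOfFiniteType (f.fiberToSpecResidueField y) :=
    inferInstanceAs (LocallyOfFiniteType (pullback.snd f (Y.fromSpecResidueField y)))
  haveI : IsLocallyNoetherian (f.fiber y) :=
    LocallyOfFiniteType.isLocallyNoetherian (f.fiberToSpecResidueField y)
  have hι : IsEmbedding (f.fiberι y) := (f.fiberι y).isEmbedding
  have hfs : ∀ t, f (s t) = t := fun t => by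
    change (s ≫ f) t = t
    rw [hs]
    rfl
  have hsy : s y ∈ f ⁻¹' {y} := hfs y
  have hxy : x ∈ f ⁻¹' {y} := connectedComponentIn_subset _ _ hx
  obtain ⟨a, ha⟩ : s y ∈ Set.range (f.fiberι y) := by rw [f.range_fiberι y]; exact hsy
  obtain ⟨b, hb⟩ : x ∈ Set.range (f.fiberι y) := by rw [f.range_fiberι y]; exact hxy
  -- `b` lies in the connected component of `a`
  have hbC : b ∈ connectedComponent a := by
    have h1 : f.fiberι y '' (f.fiberι y ⁻¹' connectedComponentIn (f ⁻¹' {y}) (s y)) =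
        connectedComponentIn (f ⁻¹' {y}) (s y) := by
      rw [Set.image_preimage_eq_inter_range, f.range_fiberι y]
      exact Set.inter_eq_left.mpr (connectedComponentIn_subset _ _)
    have h2 : _root_.IsPreconnected (f.fiberι y ⁻¹' connectedComponentIn (f ⁻¹' {y}) (s y)) := by
      rw [← hι.isInducing.isPreconnected_image, h1]
      exact isPreconnected_connectedComponentIn
    have ha' : a ∈ f.fiberι y ⁻¹' connectedComponentIn (f ⁻¹' {y}) (s y) := by
      change f.fiberι y a ∈ connectedComponentIn (f ⁻¹' {y}) (s y)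
      rw [ha]
      exact mem_connectedComponentIn hsy
    have hb' : b ∈ f.fiberι y ⁻¹' connectedComponentIn (f ⁻¹' {y}) (s y) := by
      change f.fiberι y b ∈ connectedComponentIn (f ⁻¹' {y}) (s y)
      rw [hb]
      exact hx
    exact h2.subset_connectedComponent ha' hb'
  obtain ⟨K, hKo, hKc, hKp, haK, hbK⟩ :=
    exists_isOpen_isCompact_isPreconnected_of_mem_connectedComponent (f.fiber y) a b hbC
  obtain ⟨U₀, hU₀o, hU₀K⟩ := hι.isInducing.isOpen_iff.mp hKo
  obtain ⟨V₀, hV₀, hyV₀⟩ : ∃ V₀ : Y.Opens, IsAffineOpen V₀ ∧ y ∈ V₀ := by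
    obtain ⟨_, ⟨V, hV, rfl⟩, hsV, -⟩ :=
      Y.isBasis_affineOpens.exists_subset_of_mem_open (Set.mem_univ y) isOpen_univ
    exact ⟨V, hV, hsV⟩
  have hfι : ∀ k : f.fiber y, f (f.fiberι y k) = y := fun k => apply_fiberι f y k
  -- affine opens around the points of `K`
  have hex : ∀ k : ↥K, ∃ Uk : X.Opens, IsAffineOpen Uk ∧ f.fiberι y k.1 ∈ Uk ∧
      (Uk : Set X) ⊆ U₀ ∩ (f ⁻¹ᵁ V₀ : X.Opens) := by
    intro k
    have hk1 : f.fiberι y k.1 ∈ U₀ ∩ (f ⁻¹ᵁ V₀ : X.Opens) := by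
      refine ⟨?_, ?_⟩
      · have : k.1 ∈ f.fiberι y ⁻¹' U₀ := by rw [hU₀K]; exact k.2
        exact this
      · change f (f.fiberι y k.1) ∈ V₀
        rw [hfι]
        exact hyV₀
    obtain ⟨_, ⟨Uk, hUk, rfl⟩, hkUk, hUksub⟩ :=
      X.isBasis_affineOpens.exists_subset_of_mem_open hk1 (hU₀o.inter (f ⁻¹ᵁ V₀).isOpen)
    exact ⟨Uk, hUk, hkUk, hUksub⟩
  choose Uk hUka hUkmem hUksub using hex
  obtain ⟨t, ht⟩ := hKc.elim_finite_subcover (fun k : ↥K => f.fiberι y ⁻¹' (Uk k : Set X))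
    (fun k => (Uk k).isOpen.preimage (f.fiberι y).continuous)
    (fun k hk => Set.mem_iUnion.mpr ⟨⟨k, hk⟩, hUkmem ⟨k, hk⟩⟩)
  obtain ⟨U₁, hU₁⟩ : ∃ U₁ : X.Opens, (U₁ : Set X) = ⋃ k ∈ t, (Uk k : Set X) :=
    ⟨⟨⋃ k ∈ t, (Uk k : Set X), isOpen_biUnion fun k _ => (Uk k).isOpen⟩, rfl⟩
  have hKU₁ : ∀ k ∈ K, f.fiberι y k ∈ U₁ := by
    intro k hk
    have h1 := ht hk
    simp only [Set.mem_iUnion, Set.mem_preimage] at h1
    obtain ⟨k', hk't, hk'⟩ := h1
    change f.fiberι y k ∈ (U₁ : Set X)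
    rw [hU₁]
    exact Set.mem_iUnion₂.mpr ⟨k', hk't, hk'⟩
  have hU₁U₀ : (U₁ : Set X) ⊆ U₀ ∩ (f ⁻¹ᵁ V₀ : X.Opens) := by
    rw [hU₁]
    exact Set.iUnion₂_subset fun k _ => hUksub k
  -- the basic open `V`
  have hyU₁ : y ∈ s ⁻¹ᵁ U₁ := by
    change s y ∈ U₁
    rw [← ha]
    exact hKU₁ a haK
  obtain ⟨a₀, ha₀le, hya₀⟩ := hV₀.exists_basicOpen_le (V := s ⁻¹ᵁ U₁) ⟨y, hyU₁⟩ hyV₀
  have hya₀' : y ∈ Y.basicOpen a₀ := hya₀
  refine ⟨Y.basicOpen a₀, U₁ ⊓ f ⁻¹ᵁ Y.basicOpen a₀, hV₀.basicOpen a₀, ?_, inf_le_right, ?_,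
    hya₀', ⟨?_, ?_⟩, ?_⟩
  · -- compactness
    have h1 : ((U₁ ⊓ f ⁻¹ᵁ Y.basicOpen a₀ : X.Opens) : Set X) =
        ⋃ k ∈ t, ((Uk k ⊓ f ⁻¹ᵁ Y.basicOpen a₀ : X.Opens) : Set X) := by
      rw [TopologicalSpace.Opens.coe_inf, hU₁, Set.iUnion₂_inter]
      rfl
    rw [h1]
    refine t.finite_toSet.isCompact_biUnion fun k _ => ?_
    have hle : Uk k ≤ f ⁻¹ᵁ V₀ := fun z hz => (hUksub k hz).2
    have h2 : Uk k ⊓ f ⁻¹ᵁ Y.basicOpen a₀ =
        X.basicOpen (X.presheaf.map (homOfLE hle).op (f.app V₀ a₀)) := by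
      rw [Scheme.basicOpen_res, Scheme.preimage_basicOpen]
    rw [h2]
    exact ((hUka k).basicOpen _).isCompact
  · -- `V ≤ s ⁻¹ᵁ U`
    intro y' hy'
    refine ⟨ha₀le hy', ?_⟩
    change f (s y') ∈ Y.basicOpen a₀
    rw [hfs]
    exact hy'
  · -- `x ∈ U₁`
    rw [← hb]
    exact hKU₁ b hbK
  · change f x ∈ Y.basicOpen a₀
    have : f x = y := hxy
    rw [this]
    exact hya₀'
  · -- preconnectedness
    have h1 : ((U₁ ⊓ f ⁻¹ᵁ Y.basicOpen a₀ : X.Opens) : Set X) ∩ f ⁻¹' {y} = f.fiberι y '' K := by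
      ext x'
      constructor
      · rintro ⟨⟨hx'U₁, -⟩, hx'y⟩
        obtain ⟨k', hk'⟩ : x' ∈ Set.range (f.fiberι y) := by rw [f.range_fiberι y]; exact hx'y
        refine ⟨k', ?_, hk'⟩
        rw [← hU₀K]
        change f.fiberι y k' ∈ U₀
        rw [hk']
        exact (hU₁U₀ hx'U₁).1
      · rintro ⟨k', hk'K, rfl⟩
        refine ⟨⟨hKU₁ k' hk'K, ?_⟩, hfι k'⟩
        change f (f.fiberι y k') ∈ Y.basicOpen a₀
        rw [hfι]
        exact hya₀'
    rw [h1]
    exact hKp.image _ (f.fiberι y).continuous.continuousOn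

/-! ### restriction to opens -/

section Sub

variable {X Y : Scheme.{u}} (f : X ⟶ Y) (s : Y ⟶ X) (hs : s ≫ f = 𝟙 Y) (V : Y.Opens)
  (U : X.Opens) (hUV : U ≤ f ⁻¹ᵁ V) (hVU : V ≤ s ⁻¹ᵁ U)

include hs in
theorem resLE_section : s.resLE U V hVU ≫ f.resLE V U hUV = 𝟙 _ := by
  rw [← cancel_mono V.ι, Category.assoc, Scheme.Hom.resLE_comp_ι, Scheme.Hom.resLE_comp_ι_assoc,
    hs, Category.comp_id, Category.id_comp]

theorem apply_resLE (u : ↥U) : V.ι (f.resLE V U hUV u) = f (U.ι u) :=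
  apply_eq_of_comp_eq (Scheme.Hom.resLE_comp_ι f hUV) u

theorem apply_resLE' (v : ↥V) : U.ι (s.resLE U V hVU v) = s (V.ι v) :=
  apply_eq_of_comp_eq (Scheme.Hom.resLE_comp_ι s hVU) v

include hs in
theorem sectionComponents_resLE_subset (u : ↥U)
    (hu : u ∈ MoreMor.sectionComponents (f.resLE V U hUV) (s.resLE U V hVU)) :
    U.ι u ∈ MoreMor.sectionComponents f s := by
  have hs₂ := resLE_section f s hs V U hUV hVU
  have hfs₂ : ∀ t, f.resLE V U hUV (s.resLE U V hVU t) = t := fun t => by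
    change (s.resLE U V hVU ≫ f.resLE V U hUV) t = t
    rw [hs₂]
    rfl
  have hu' : u ∈ connectedComponentIn (f.resLE V U hUV ⁻¹' {f.resLE V U hUV u})
      (s.resLE U V hVU (f.resLE V U hUV u)) := hu
  have hpre : _root_.IsPreconnected (U.ι '' connectedComponentIn
      (f.resLE V U hUV ⁻¹' {f.resLE V U hUV u}) (s.resLE U V hVU (f.resLE V U hUV u))) :=
    isPreconnected_connectedComponentIn.image _ U.ι.continuous.continuousOn
  have hsub : U.ι '' connectedComponentIn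
      (f.resLE V U hUV ⁻¹' {f.resLE V U hUV u}) (s.resLE U V hVU (f.resLE V U hUV u)) ⊆
      f ⁻¹' {f (U.ι u)} := by
    rintro _ ⟨u', hu'C, rfl⟩
    have h1 : u' ∈ f.resLE V U hUV ⁻¹' {f.resLE V U hUV u} :=
      connectedComponentIn_subset _ _ hu'C
    have h2 : f.resLE V U hUV u' = f.resLE V U hUV u := h1
    change f (U.ι u') = f (U.ι u)
    rw [← apply_resLE f V U hUV u', ← apply_resLE f V U hUV u, h2]
  have hmem : s (f (U.ι u)) ∈ U.ι '' connectedComponentIn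
      (f.resLE V U hUV ⁻¹' {f.resLE V U hUV u}) (s.resLE U V hVU (f.resLE V U hUV u)) := by
    refine ⟨s.resLE U V hVU (f.resLE V U hUV u), mem_connectedComponentIn (hfs₂ _), ?_⟩
    rw [apply_resLE' s V U hVU, apply_resLE f V U hUV]
  exact hpre.subset_connectedComponentIn hmem hsub ⟨u, hu', rfl⟩

include hs in
theorem mem_sectionComponents_resLE (x : X) (hxU : x ∈ U)
    (hpre : _root_.IsPreconnected ((U : Set X) ∩ f ⁻¹' {f x})) :
    (⟨x, hxU⟩ : ↥U) ∈ MoreMor.sectionComponents (f.resLE V U hUV) (s.resLE U V hVU) := by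
  have hs₂ := resLE_section f s hs V U hUV hVU
  have hfs₂ : ∀ t, f.resLE V U hUV (s.resLE U V hVU t) = t := fun t => by
    change (s.resLE U V hVU ≫ f.resLE V U hUV) t = t
    rw [hs₂]
    rfl
  have hVinj : Function.Injective V.ι := V.ι.isOpenEmbedding.injective
  have hF : f.resLE V U hUV ⁻¹' {f.resLE V U hUV ⟨x, hxU⟩} =
      U.ι ⁻¹' ((U : Set X) ∩ f ⁻¹' {f x}) := by
    ext u'
    constructor
    · intro h
      have h2 : f.resLE V U hUV u' = f.resLE V U hUV ⟨x, hxU⟩ := h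
      refine ⟨u'.2, ?_⟩
      change f (U.ι u') = f x
      rw [← apply_resLE f V U hUV u', h2, apply_resLE f V U hUV]
      rfl
    · rintro ⟨-, h⟩
      have h2 : f (U.ι u') = f x := h
      apply hVinj
      rw [apply_resLE f V U hUV, apply_resLE f V U hUV, h2]
      rfl
  have hFpre : _root_.IsPreconnected (f.resLE V U hUV ⁻¹' {f.resLE V U hUV ⟨x, hxU⟩}) := by
    rw [hF]
    refine hpre.preimage_of_isOpenMap U.ι.isOpenEmbedding.injective U.ι.isOpenEmbedding.isOpenMap ?_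
    intro z hz
    rw [Scheme.Opens.range_ι]
    exact hz.1
  have h1 : s.resLE U V hVU (f.resLE V U hUV ⟨x, hxU⟩) ∈
      f.resLE V U hUV ⁻¹' {f.resLE V U hUV ⟨x, hxU⟩} := hfs₂ _
  exact hFpre.subset_connectedComponentIn h1 subset_rfl rfl

theorem mem_nhds_of_resLE (x : X) (hxU : x ∈ U)
    (hsub : ∀ u : ↥U, u ∈ MoreMor.sectionComponents (f.resLE V U hUV) (s.resLE U V hVU) →
      U.ι u ∈ MoreMor.sectionComponents f s)
    (h : MoreMor.sectionComponents (f.resLE V U hUV) (s.resLE U V hVU) ∈ 𝓝 (⟨x, hxU⟩ : ↥U)) :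
    MoreMor.sectionComponents f s ∈ 𝓝 x := by
  have h2 : U.ι '' MoreMor.sectionComponents (f.resLE V U hUV) (s.resLE U V hVU) ∈
      𝓝 (U.ι (⟨x, hxU⟩ : ↥U)) := (U.ι.isOpenEmbedding.image_mem_nhds).mpr h
  refine Filter.mem_of_superset h2 ?_
  rintro _ ⟨u, hu, rfl⟩
  exact hsub u hu

end Sub

/-! ### the smooth case -/

theorem geometricallyReduced_of_smooth' (k : Type u) [Field k] {Z : Scheme.{u}}
    (p : Z ⟶ Spec (CommRingCat.of k)) [Smooth p] : GeometricallyReduced p := by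
  refine ⟨fun K _ y W fst snd h => ?_⟩
  haveI : Smooth snd := MorphismProperty.of_isPullback (P := @Smooth) h inferInstance
  exact Groth.Agent.H1.SmoothGeom.isReduced_of_smooth_field K snd

/-- **S15351**. -/
theorem main15351 {S X : Scheme.{u}} [QuasiSeparatedSpace ↥X] (f : X ⟶ S) [Smooth f]
    (e : S ⟶ X) (he : e ≫ f = 𝟙 S) :
    IsOpen (MoreMor.sectionComponents f e) := by
  rw [isOpen_iff_mem_nhds]
  intro x hx
  obtain ⟨V, U, hV, hUc, hUV, hVU, hyV, hxU, hpre⟩ :=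
    exists_opens_of_mem_connectedComponentIn f e he (f x) x hx
  haveI : IsAffine V.toScheme := hV
  haveI : CompactSpace ↥(U.toScheme) := isCompact_iff_compactSpace.mp hUc
  haveI : QuasiSeparatedSpace ↥(U.toScheme) := U.ι.isOpenEmbedding.quasiSeparatedSpace
  haveI : QuasiSeparatedSpace ↥(V.toScheme) := inferInstance
  haveI : QuasiCompact (f.resLE V U hUV) := quasiCompact_of_compactSpace _
  haveI : QuasiSeparated (f.resLE V U hUV) :=
    (quasiSeparated_iff_quasiSeparatedSpace _).mpr inferInstance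
  have hs₂ := resLE_section f e he V U hUV hVU
  have hmem := mem_sectionComponents_resLE f e he V U hUV hVU x hxU hpre
  have hnhds := sectionComponents_mem_nhds (f.resLE V U hUV) (e.resLE U V hVU) hs₂ ⟨x, hxU⟩ hmem
    (fun x₁ _ _ => by
      have hsm : Smooth ((f.resLE V U hUV).fiberToSpecResidueField (f.resLE V U hUV x₁)) :=
        MorphismProperty.pullback_snd (P := @Smooth) _ _
          (inferInstance : Smooth (f.resLE V U hUV))
      exact gRat_of_geometricallyReduced _ x₁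
        (@geometricallyReduced_of_smooth' _ _ _ _ hsm))
  exact mem_nhds_of_resLE f e V U hUV hVU x hxU
    (sectionComponents_resLE_subset f e he V U hUV hVU) hnhds

end Groth.Agent.H1.GIrr
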