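import Mathlib
import Groth.Agent.Lib.Helper1.IntModel

/-!
# Descent of a flat finitely presented algebra to a finite type `ℤ`-algebra
-/

set_option autoImplicit false

universe u

open TensorProduct Function

namespace Groth.Agent.H1.IntModel

open Groth.Agent.H1.PolyModel Groth.Agent.H1.LimFlat

attribute [local instance] MvPolynomial.algebraMvPolynomial

/-- the rank one model is the quotient ring -/
noncomputable def modOneEquiv {n : ℕ} {R : Type u} [CommRing R] (t : ℕ)
    (k : Fin t → (Fin 1 → P n R)) :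
    Mod 1 t k ≃ₗ[P n R] (P n R ⧸ Ideal.span (Set.range fun u => k u 0)) :=
  Submodule.Quotient.equiv _ _ (LinearEquiv.funUnique (Fin 1) (P n R) (P n R)) (by
    rw [range_kap, Submodule.map_span, ← Set.range_comp]
    rfl)

set_option maxHeartbeats 800000 in
/-- a quotient of a polynomial ring by lifted generators of the kernel is a pushout -/
theorem isPushout_quotient {n t' : ℕ} {R₀ R S : Type u} [CommRing R₀] [CommRing R] [CommRing S]
    [Algebra R₀ R] [Algebra R S] [Algebra R₀ S] [IsScalarTower R₀ R S]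
    (φ : P n R →ₐ[R] S) (hφ : Surjective φ) (s : Fin t' → P n R)
    (hs : Ideal.span (Set.range s) = RingHom.ker φ.toRingHom) (s' : Fin t' → P n R₀)
    (hs' : ∀ j, MvPolynomial.map (algebraMap R₀ R) (s' j) = s j)
    [Algebra (P n R₀ ⧸ Ideal.span (Set.range s')) S]
    [IsScalarTower R₀ (P n R₀ ⧸ Ideal.span (Set.range s')) S]
    (hmk : ∀ a : P n R₀, algebraMap (P n R₀ ⧸ Ideal.span (Set.range s')) S
      (Ideal.Quotient.mk _ a) = φ (MvPolynomial.map (algebraMap R₀ R) a)) :
    Algebra.IsPushout R₀ R (P n R₀ ⧸ Ideal.span (Set.range s')) S := by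
  refine ⟨?_⟩
  let I₀ : Ideal (P n R₀) := Ideal.span (Set.range s')
  let F₀ : (Fin t' → P n R₀) →ₗ[R₀] P n R₀ :=
    (Fintype.linearCombination (P n R₀) s').restrictScalars R₀
  let G₀ : P n R₀ →ₗ[R₀] (P n R₀ ⧸ I₀) := (Ideal.Quotient.mkₐ R₀ I₀).toLinearMap
  let F : (Fin t' → P n R) →ₗ[R] P n R := (Fintype.linearCombination (P n R) s).restrictScalars R
  let G : P n R →ₗ[R] S := φ.toLinearMap
  have hi₂ : IsBaseChange R (IsScalarTower.toAlgHom R₀ (P n R₀) (P n R)).toLinearMap :=
    (inferInstance : Algebra.IsPushout R₀ R (P n R₀) (P n R)).out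
  refine IsBaseChange.of_right_exact R ((vmap n t' R₀ R).restrictScalars R₀)
    (IsScalarTower.toAlgHom R₀ (P n R₀) (P n R)).toLinearMap
    (IsScalarTower.toAlgHom R₀ (P n R₀ ⧸ I₀) S).toLinearMap (f := F₀) (g := G₀) (f' := F)
    (g' := G) ?_ ?_ (isBaseChange_vmap_restrictScalars n t' R₀ R) hi₂ ?_ ?_ ?_ hφ
  · refine LinearMap.ext fun c => ?_
    change MvPolynomial.map (algebraMap R₀ R) (Fintype.linearCombination (P n R₀) s' c) =
      Fintype.linearCombination (P n R) s (vmap n t' R₀ R c)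
    rw [Fintype.linearCombination_apply, Fintype.linearCombination_apply, map_sum]
    refine Finset.sum_congr rfl fun j _ => ?_
    rw [smul_eq_mul, map_mul, hs', vmap_apply, smul_eq_mul]
  · refine LinearMap.ext fun p => ?_
    exact hmk p
  · intro p
    change Ideal.Quotient.mk I₀ p = 0 ↔ p ∈ Set.range (Fintype.linearCombination (P n R₀) s')
    rw [Ideal.Quotient.eq_zero_iff_mem, ← LinearMap.coe_range, Fintype.range_linearCombination]
    rfl
  · exact Ideal.Quotient.mk_surjective
  · intro p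
    change φ p = 0 ↔ p ∈ Set.range (Fintype.linearCombination (P n R) s)
    rw [← LinearMap.coe_range, Fintype.range_linearCombination, SetLike.mem_coe]
    change _ ↔ p ∈ Ideal.span (Set.range s)
    rw [hs]
    rfl

set_option maxHeartbeats 800000 in
/-- **Descent of a flat finitely presented algebra to a finitely generated `ℤ`-subalgebra.** -/
theorem exists_int_model_algebra (R : Type u) [CommRing R]
    (S : Type u) [CommRing S] [Algebra R S] [Algebra.FinitePresentation R S] [Module.Flat R S] :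
    ∃ (R₀ : Subalgebra ℤ R), R₀.FG ∧ ∃ (S₀ : Type u) (_ : CommRing S₀)
      (_ : Algebra R₀ S₀) (_ : Algebra S₀ S) (_ : IsScalarTower R₀ S₀ S),
      Algebra.FinitePresentation R₀ S₀ ∧ Module.Flat R₀ S₀ ∧ Algebra.IsPushout R₀ R S₀ S := by
  classical
  obtain ⟨n, φ, hφ, hker⟩ := Algebra.FinitePresentation.out (R := R) (A := S)
  obtain ⟨t', s, hs⟩ := Submodule.fg_iff_exists_fin_generating_family.mp hker
  let k : Fin t' → (Fin 1 → P n R) := fun u _ => s u
  have hspan : Ideal.span (Set.range fun u => k u 0) = RingHom.ker φ.toRingHom := hs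
  let e₁ : Mod 1 t' k ≃ₗ[P n R] (P n R ⧸ RingHom.ker φ.toRingHom) :=
    (modOneEquiv t' k) ≪≫ₗ Submodule.quotEquivOfEq _ _ hspan
  let e₂ : (P n R ⧸ RingHom.ker φ.toRingHom) ≃ₐ[R] S := Ideal.quotientKerAlgEquivOfSurjective hφ
  haveI : Module.Flat R (Mod 1 t' k) :=
    Module.Flat.of_linearEquiv ((e₁.restrictScalars R) ≪≫ₗ e₂.toLinearEquiv)
  obtain ⟨S₂, hS₂, k₂, hk₂, hflat₂⟩ := exists_fg_flat_model 1 t' k
  have hs' : ∀ u, MvPolynomial.map (algebraMap S₂ R) (k₂ u 0) = s u :=
    fun u => congrFun (congrFun hk₂ u) 0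
  have hmapker : ∀ a ∈ Ideal.span (Set.range fun u => k₂ u 0),
      (φ.toRingHom.comp (MvPolynomial.map (algebraMap S₂ R))) a = 0 := by
    have : Ideal.span (Set.range fun u => k₂ u 0) ≤
        RingHom.ker (φ.toRingHom.comp (MvPolynomial.map (algebraMap S₂ R))) := by
      rw [Ideal.span_le]
      rintro _ ⟨j, rfl⟩
      rw [SetLike.mem_coe, RingHom.mem_ker, RingHom.comp_apply, hs']
      have : s j ∈ RingHom.ker φ.toRingHom := by
        rw [← hs]; exact Submodule.subset_span ⟨j, rfl⟩
      exact RingHom.mem_ker.mp this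
    intro a ha
    exact RingHom.mem_ker.mp (this ha)
  let ψ : (P n S₂ ⧸ Ideal.span (Set.range fun u => k₂ u 0)) →+* S := Ideal.Quotient.lift _
    (φ.toRingHom.comp (MvPolynomial.map (algebraMap S₂ R))) hmapker
  letI algS₀S : Algebra (P n S₂ ⧸ Ideal.span (Set.range fun u => k₂ u 0)) S := ψ.toAlgebra
  haveI tow2 : IsScalarTower S₂ (P n S₂ ⧸ Ideal.span (Set.range fun u => k₂ u 0)) S :=
    IsScalarTower.of_algebraMap_eq fun x => by
      change algebraMap S₂ S x = ψ (algebraMap S₂ (P n S₂ ⧸ _) x)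
      rw [IsScalarTower.algebraMap_apply S₂ (P n S₂) (P n S₂ ⧸ _), Ideal.Quotient.algebraMap_eq,
        Ideal.Quotient.lift_mk, RingHom.comp_apply, MvPolynomial.algebraMap_eq, MvPolynomial.map_C,
        ← MvPolynomial.algebraMap_eq]
      change _ = φ (algebraMap R (P n R) (algebraMap S₂ R x))
      rw [φ.commutes, ← IsScalarTower.algebraMap_apply S₂ R S]
  refine ⟨S₂, hS₂, P n S₂ ⧸ Ideal.span (Set.range fun u => k₂ u 0), inferInstance, inferInstance,
    algS₀S, tow2, ?_, ?_, ?_⟩
  · exact Algebra.FinitePresentation.quotient (Submodule.fg_span (Set.finite_range _))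
  · exact Module.Flat.of_linearEquiv ((modOneEquiv t' k₂).symm.restrictScalars S₂)
  · exact isPushout_quotient φ hφ s hs (fun u => k₂ u 0) hs' fun a => rfl

end Groth.Agent.H1.IntModel
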