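import Groth.Agent.Lib.Helper1.SchFPKer
import Groth.Agent.Lib.Helper1.FibInj6

/-!
# EGA IV 11.3.7 for schemes: bridge between stalks and sections over affine charts
-/

set_option autoImplicit false

universe u

open CategoryTheory Limits AlgebraicGeometry TopologicalSpace Opposite

namespace Groth.Agent.H1.SchFlat

open Groth.Agent.LD.QC

variable {X Y : Scheme.{u}}

/-- the stalk map of a morphism of modules as a function -/
noncomputable def stalkFun {F' F : X.Modules} (u : F' ⟶ F) (x : X) :
    F'.presheaf.stalk x → F.presheaf.stalk x :=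
  fun m => (TopCat.Presheaf.stalkFunctor Ab x).map (Scheme.Modules.Hom.mapPresheaf u) m

lemma stalkFun_add {F' F : X.Modules} (u : F' ⟶ F) (x : X) (m m' : F'.presheaf.stalk x) :
    stalkFun u x (m + m') = stalkFun u x m + stalkFun u x m' :=
  map_add ((TopCat.Presheaf.stalkFunctor Ab x).map (Scheme.Modules.Hom.mapPresheaf u)).hom m m'

/-- the stalk map of a morphism of modules, on germs -/
lemma stalkFun_germ {F' F : X.Modules} (u : F' ⟶ F) (x : X) (U : X.Opens) (hx : x ∈ U)
    (s : Γ(F', U)) :
    stalkFun u x (F'.presheaf.germ U x hx s) = F.presheaf.germ U x hx (u.app U s) :=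
  TopCat.Presheaf.stalkFunctor_map_germ_apply U x hx (Scheme.Modules.Hom.mapPresheaf u) s

/-- the stalk map of a morphism of modules is linear over the stalk of the structure sheaf -/
lemma stalkFun_smul {F' F : X.Modules} (u : F' ⟶ F) (x : X) (r : X.presheaf.stalk x)
    (m : F'.presheaf.stalk x) : stalkFun u x (r • m) = r • stalkFun u x m := by
  obtain ⟨W₁, hxW₁, t, rfl⟩ := TopCat.Presheaf.exists_germ_eq F'.presheaf m
  obtain ⟨W₂, hxW₂, ρ, rfl⟩ := TopCat.Presheaf.exists_germ_eq X.presheaf r
  let W := W₁ ⊓ W₂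
  have hxW : x ∈ W := ⟨hxW₁, hxW₂⟩
  have h1 : F'.presheaf.germ W₁ x hxW₁ t =
      F'.presheaf.germ W x hxW (F'.presheaf.map (homOfLE inf_le_left).op t) :=
    (germ_res F' x inf_le_left hxW t).symm
  have h2 : X.presheaf.germ W₂ x hxW₂ ρ =
      X.presheaf.germ W x hxW (X.presheaf.map (homOfLE inf_le_right).op ρ) :=
    (sgerm_res x inf_le_right hxW ρ).symm
  rw [h1, h2]
  set ρ' := X.presheaf.map (homOfLE (inf_le_right : W ≤ W₂)).op ρ with hρ'
  set t' := F'.presheaf.map (homOfLE (inf_le_left : W ≤ W₁)).op t with ht'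
  have e1 := germ_smul F' x W hxW ρ' t'
  have e2 := germ_smul F x W hxW ρ' (u.app W t')
  have e3 : stalkFun u x (F'.presheaf.germ W x hxW (ρ' • t')) =
      F.presheaf.germ W x hxW (ρ' • u.app W t') := by
    rw [stalkFun_germ, Scheme.Modules.Hom.app_smul]
  have e4 := stalkFun_germ u x W hxW t'
  exact ((congrArg (stalkFun u x) e1.symm).trans e3).trans
    (e2.trans (congrArg (fun z => X.presheaf.germ W x hxW ρ' • z) e4.symm))

/-- the stalk map as a linear map over sections on an open neighbourhood -/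
noncomputable def stalkLinear {F' F : X.Modules} (u : F' ⟶ F) (x : X) (U : X.Opens) (hx : x ∈ U) :
    letI := stalkΓModule F' x U hx
    letI := stalkΓModule F x U hx
    F'.presheaf.stalk x →ₗ[Γ(X, U)] F.presheaf.stalk x :=
  letI := stalkΓModule F' x U hx
  letI := stalkΓModule F x U hx
  { toFun := stalkFun u x
    map_add' := stalkFun_add u x
    map_smul' := fun r m => stalkFun_smul u x _ m }

/-- sections over an affine open are right exact on quasi-coherent modules -/
theorem exact_app_cokernel {F' F : X.Modules} (hF' : F'.IsQuasicoherent) (hF : F.IsQuasicoherent)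
    (u : F' ⟶ F) {U : X.Opens} (hU : IsAffineOpen U) :
    Function.Exact (appLinear u U) (appLinear (cokernel.π u) U) ∧
      Function.Surjective (appLinear (cokernel.π u) U) := by
  have hC : (cokernel u).IsQuasicoherent := qc_cokernel u hF' hF
  refine ⟨?_, epi_app_affine hF hC (cokernel.π u) hU⟩
  intro s
  constructor
  · intro hs
    have hs' : (cokernel.π u).app U s = 0 := hs
    obtain ⟨t, ht⟩ := exists_kernel_section (cokernel.π u) U s hs'
    have hK : (kernel (cokernel.π u)).IsQuasicoherent := qc_kernel _ hF hC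
    haveI : Epi (Abelian.factorThruImage u) := inferInstance
    obtain ⟨m, hm⟩ := epi_app_affine (N := kernel (cokernel.π u)) hF' hK
      (Abelian.factorThruImage u) hU t
    refine ⟨m, ?_⟩
    have h1 : (Abelian.factorThruImage u ≫ kernel.ι (cokernel.π u)).app U m = s := by
      change (kernel.ι (cokernel.π u)).app U ((Abelian.factorThruImage u).app U m) = s
      rw [hm, ht]
    have h2 : Abelian.factorThruImage u ≫ kernel.ι (cokernel.π u) = u := Abelian.image.fac u
    rw [h2] at h1
    exact h1
  · rintro ⟨m, rfl⟩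
    have h1 : (u ≫ cokernel.π u).app U m = 0 := by
      rw [cokernel.condition]
      rfl
    exact h1

/-- the prime of `f x` in `V` is the contraction of the prime of `x` in `U` -/
lemma primeIdealOf_comap (f : X ⟶ Y) {U : X.Opens} {V : Y.Opens} (hU : IsAffineOpen U)
    (hV : IsAffineOpen V) (hUV : U ≤ f ⁻¹ᵁ V) (x : X) (hx : x ∈ U) :
    (hV.primeIdealOf ⟨f x, hUV hx⟩).asIdeal =
      (hU.primeIdealOf ⟨x, hx⟩).asIdeal.comap (f.appLE V U hUV).hom := by
  letI : Algebra Γ(X, U) (X.presheaf.stalk x) :=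
    TopCat.Presheaf.algebra_section_stalk X.presheaf ⟨x, hx⟩
  haveI := hU.isLocalization_stalk ⟨x, hx⟩
  letI : Algebra Γ(Y, V) (Y.presheaf.stalk (f x)) :=
    TopCat.Presheaf.algebra_section_stalk Y.presheaf ⟨f x, hUV hx⟩
  haveI := hV.isLocalization_stalk ⟨f x, hUV hx⟩
  ext a
  rw [Ideal.mem_comap]
  rw [← IsLocalization.AtPrime.to_map_mem_maximal_iff (Y.presheaf.stalk (f x))
    (hV.primeIdealOf ⟨f x, hUV hx⟩).asIdeal a,
    ← IsLocalization.AtPrime.to_map_mem_maximal_iff (X.presheaf.stalk x)
    (hU.primeIdealOf ⟨x, hx⟩).asIdeal (f.appLE V U hUV a)]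
  change Y.presheaf.germ V (f x) (hUV hx) a ∈ _ ↔ X.presheaf.germ U x hx (f.appLE V U hUV a) ∈ _
  rw [← stalkMap_germ_appLE f hUV x hx a, IsLocalRing.mem_maximalIdeal,
    IsLocalRing.mem_maximalIdeal, mem_nonunits_iff, mem_nonunits_iff, not_iff_not]
  exact (isUnit_map_iff (f.stalkMap x).hom _).symm

set_option maxHeartbeats 1600000 in
/-- **EGA IV 11.3.7, equivalence of a) and b).** -/
theorem stalk_fibInj_iff (f : X ⟶ Y) [LocallyOfFinitePresentation f] (F F' : X.Modules)
    [hqF : F.IsQuasicoherent] [hqF' : F'.IsQuasicoherent] (hF : F.IsFinitePresentation)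
    (hF' : F'.IsFinitePresentation) (u : F' ⟶ F) (x : X) (hflat : FlatMod.IsFlatOverAt f F x) :
    (Function.Injective (stalkFun u x) ∧ FlatMod.IsFlatOverAt f (cokernel u) x) ↔
      ∀ m : F'.presheaf.stalk x,
        stalkFun u x m ∈ (Ideal.map (f.stalkMap x).hom
          (IsLocalRing.maximalIdeal (Y.presheaf.stalk (f x)))) •
            (⊤ : Submodule (X.presheaf.stalk x) (F.presheaf.stalk x)) →
        m ∈ (Ideal.map (f.stalkMap x).hom
          (IsLocalRing.maximalIdeal (Y.presheaf.stalk (f x)))) •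
            (⊤ : Submodule (X.presheaf.stalk x) (F'.presheaf.stalk x)) := by
  classical
  obtain ⟨V, hV, hfxV, -⟩ := exists_isAffineOpen_mem_and_subset (x := f x) (U := ⊤) trivial
  obtain ⟨U, hU, hxU, hUV⟩ := exists_isAffineOpen_mem_and_subset (x := x) (U := f ⁻¹ᵁ V) hfxV
  letI algAB := algΓ f hUV
  letI mAN := sectionsModuleOver f F hUV
  haveI twN := isScalarTower_sections f F hUV
  letI mAM := sectionsModuleOver f F' hUV
  haveI twM := isScalarTower_sections f F' hUV
  haveI hC : (cokernel u).IsQuasicoherent := qc_cokernel u hqF' hqF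
  letI mAC := sectionsModuleOver f (cokernel u) hUV
  haveI twC := isScalarTower_sections f (cokernel u) hUV
  haveI : Algebra.FinitePresentation Γ(Y, V) Γ(X, U) := f.finitePresentation_appLE hV hU hUV
  haveI : Module.FinitePresentation Γ(X, U) Γ(F, U) :=
    finitePresentation_sections_of_isFinitePresentation F hF hU
  haveI : Module.FinitePresentation Γ(X, U) Γ(F', U) :=
    finitePresentation_sections_of_isFinitePresentation F' hF' hU
  set q := (hU.primeIdealOf ⟨x, hxU⟩).asIdeal with hq
  have hflatN : Module.Flat Γ(Y, V) (LocalizedModule q.primeCompl Γ(F, U)) :=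
    (isFlatOverAt_iff_flat_localizedModule f F hU hV hUV x hxU).mp hflat
  have FB := Groth.Agent.H1.FibInj.fibInj_at_prime_iff q (appLinear u U) hflatN
  -- stalk structures
  letI sM := stalkΓModule F' x U hxU
  letI sN := stalkΓModule F x U hxU
  letI sAM := stalkΓModuleOver f F' hUV x hxU
  letI sAN := stalkΓModuleOver f F hUV x hxU
  haveI twsM : IsScalarTower Γ(Y, V) Γ(X, U) (F'.presheaf.stalk x) := ⟨fun a b m => by
    change X.presheaf.germ U x hxU (f.appLE V U hUV a * b) • m =
      X.presheaf.germ U x hxU (f.appLE V U hUV a) • (X.presheaf.germ U x hxU b • m)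
    rw [map_mul, mul_smul]⟩
  haveI twsN : IsScalarTower Γ(Y, V) Γ(X, U) (F.presheaf.stalk x) := ⟨fun a b m => by
    change X.presheaf.germ U x hxU (f.appLE V U hUV a * b) • m =
      X.presheaf.germ U x hxU (f.appLE V U hUV a) • (X.presheaf.germ U x hxU b • m)
    rw [map_mul, mul_smul]⟩
  haveI locM := isLocalizedModule_germ F' hU x hxU
  haveI locN := isLocalizedModule_germ F hU x hxU
  have hcomm : ∀ s, stalkLinear u x U hxU (germLinear F' x U hxU s) =
      germLinear F x U hxU (appLinear u U s) := fun s => stalkFun_germ u x U hxU s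
  -- (T1) injectivity
  have T1 : Function.Injective (stalkFun u x) ↔
      ∀ s, appLinear u U s = 0 → ∃ τ ∈ q.primeCompl, τ • s = 0 :=
    Groth.Agent.H1.FibInj.injective_iff_of_isLocalizedModule q.primeCompl (germLinear F' x U hxU)
      (germLinear F x U hxU) (appLinear u U) (stalkLinear u x U hxU) hcomm
  -- (T2) flatness of the cokernel
  have T2 : FlatMod.IsFlatOverAt f (cokernel u) x ↔
      Module.Flat Γ(Y, V) (LocalizedModule q.primeCompl
        (Γ(F, U) ⧸ LinearMap.range (appLinear u U))) := by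
    rw [isFlatOverAt_iff_flat_localizedModule f (cokernel u) hU hV hUV x hxU]
    obtain ⟨hex, hsurj⟩ := exact_app_cokernel hqF' hqF u hU
    have hker : LinearMap.ker (appLinear (cokernel.π u) U) = LinearMap.range (appLinear u U) :=
      LinearMap.exact_iff.mp hex
    let e : (Γ(F, U) ⧸ LinearMap.range (appLinear u U)) ≃ₗ[Γ(X, U)] Γ(cokernel u, U) :=
      Submodule.quotEquivOfEq _ _ hker.symm ≪≫ₗ
        (appLinear (cokernel.π u) U).quotKerEquivOfSurjective hsurj
    haveI : IsLocalizedModule q.primeCompl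
        (LocalizedModule.mkLinearMap q.primeCompl Γ(cokernel u, U) ∘ₗ e.toLinearMap) :=
      IsLocalizedModule.of_linearEquiv_right q.primeCompl _ e
    exact flat_iff_of_isLocalizedModule (R := Γ(Y, V)) (B := Γ(X, U)) q.primeCompl
      (LocalizedModule.mkLinearMap q.primeCompl Γ(cokernel u, U) ∘ₗ e.toLinearMap)
      (LocalizedModule.mkLinearMap q.primeCompl (Γ(F, U) ⧸ LinearMap.range (appLinear u U)))
  -- (T3) the fibre condition
  set p : Ideal Γ(Y, V) := q.comap (algebraMap Γ(Y, V) Γ(X, U)) with hp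
  set J : Ideal (X.presheaf.stalk x) := Ideal.map (f.stalkMap x).hom
    (IsLocalRing.maximalIdeal (Y.presheaf.stalk (f x))) with hJ
  letI algAO : Algebra Γ(Y, V) (X.presheaf.stalk x) :=
    ((X.presheaf.germ U x hxU).hom.comp (f.appLE V U hUV).hom).toAlgebra
  have hJp : J = p.map (algebraMap Γ(Y, V) (X.presheaf.stalk x)) := by
    letI : Algebra Γ(Y, V) (Y.presheaf.stalk (f x)) :=
      TopCat.Presheaf.algebra_section_stalk Y.presheaf ⟨f x, hUV hxU⟩
    haveI := hV.isLocalization_stalk ⟨f x, hUV hxU⟩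
    have h1 : IsLocalRing.maximalIdeal (Y.presheaf.stalk (f x)) =
        p.map (algebraMap Γ(Y, V) (Y.presheaf.stalk (f x))) := by
      rw [hp, hq]
      have := primeIdealOf_comap f hU hV hUV x hxU
      change _ = Ideal.map _ (Ideal.comap (f.appLE V U hUV).hom _)
      rw [← this]
      exact (IsLocalization.AtPrime.map_eq_maximalIdeal
        (hV.primeIdealOf ⟨f x, hUV hxU⟩).asIdeal (Y.presheaf.stalk (f x))).symm
    rw [hJ, h1, Ideal.map_map]
    congr 1
    ext a
    exact stalkMap_germ_appLE f hUV x hxU a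
  have claim : ∀ (G : X.Modules) (z : G.presheaf.stalk x),
      letI := stalkΓModuleOver f G hUV x hxU
      z ∈ J • (⊤ : Submodule (X.presheaf.stalk x) (G.presheaf.stalk x)) ↔
        z ∈ p • (⊤ : Submodule Γ(Y, V) (G.presheaf.stalk x)) := by
    intro G z
    letI := stalkΓModuleOver f G hUV x hxU
    haveI : IsScalarTower Γ(Y, V) (X.presheaf.stalk x) (G.presheaf.stalk x) :=
      IsScalarTower.of_algebraMap_smul fun _ _ => rfl
    rw [hJp]
    exact Groth.Agent.H1.FibInj.mem_map_smul_top_iff p z
  have T3 := Groth.Agent.H1.FibInj.fibre_cond_iff_of_isLocalizedModule q.primeCompl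
    (germLinear F' x U hxU) (germLinear F x U hxU) (appLinear u U) (stalkLinear u x U hxU) hcomm p
  rw [T1, T2, FB, ← T3]
  constructor
  · intro h m hm
    rw [claim F'] 
    exact h m ((claim F _).mp hm)
  · intro h m hm
    rw [← claim F'] 
    exact h m ((claim F _).mpr hm)

end Groth.Agent.H1.SchFlat
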