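import Mathlib
import Groth.Prelude.Def_MoreMor

universe u
open AlgebraicGeometry CategoryTheory Limits MorphismProperty

namespace Groth.Agent.H1

section general

variable {X Y Z : Scheme.{u}}

lemma quasiCompact_of_comp_surjective (f : X ⟶ Y) (g : Y ⟶ Z)
    [QuasiCompact (f ≫ g)] [Surjective f] : QuasiCompact g := by
  constructor
  intro U hU hU'
  have h1 : IsCompact ((f ≫ g) ⁻¹' U) := QuasiCompact.isCompact_preimage (f := f ≫ g) U hU hU'
  have h2 : g ⁻¹' U = f '' ((f ≫ g) ⁻¹' U) := by
    ext y
    constructor
    · intro hy
      obtain ⟨x, rfl⟩ := f.surjective y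
      exact ⟨x, by simpa using hy, rfl⟩
    · rintro ⟨x, hx, rfl⟩
      simpa using hx
  rw [h2]
  exact h1.image f.continuous

set_option backward.isDefEq.respectTransparency.types false in
lemma universallyOpen_of_comp_surjective (f : X ⟶ Y) (g : Y ⟶ Z)
    [UniversallyOpen (f ≫ g)] [Surjective f] : UniversallyOpen g := by
  constructor
  intro X' Y' i₁ i₂ f' H
  have := UniversallyOpen.universally_isOpenMap _ _ _
    ((IsPullback.of_hasPullback i₁ f).paste_horiz H)
  exact IsOpenMap.of_comp (Scheme.Hom.continuous _)
    (MorphismProperty.pullback_fst (P := @Surjective) _ _ ‹_›).1 this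

set_option backward.isDefEq.respectTransparency.types false in
lemma universallyInjective_of_comp_surjective (f : X ⟶ Y) (g : Y ⟶ Z)
    [UniversallyInjective (f ≫ g)] [Surjective f] : UniversallyInjective g := by
  constructor
  intro X' Y' i₁ i₂ f' H
  have := UniversallyInjective.universally_injective _ _ _
    ((IsPullback.of_hasPullback i₁ f).paste_horiz H)
  have hs : Function.Surjective (pullback.fst i₁ f) :=
    (MorphismProperty.pullback_fst (P := @Surjective) _ _ ‹_›).1
  exact Function.Injective.of_comp_right this hs

lemma quasiSeparated_of_comp_surjective (f : X ⟶ Y) (g : Y ⟶ Z)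
    [QuasiSeparated (f ≫ g)] [Surjective f] [QuasiCompact f] : QuasiSeparated g := by
  constructor
  have h1 : QuasiCompact (pullback.diagonal (f ≫ g)) := inferInstance
  have hf : QuasiCompact f := inferInstance
  have h2 : QuasiCompact (pullback.map (f ≫ g) (f ≫ g) g g f f (𝟙 Z) (by simp) (by simp)) :=
    MorphismProperty.pullbackMap (P := @QuasiCompact) hf hf rfl rfl
  have h3 : f ≫ pullback.diagonal g = pullback.diagonal (f ≫ g) ≫
      pullback.map (f ≫ g) (f ≫ g) g g f f (𝟙 Z) (by simp) (by simp) := by
    apply pullback.hom_ext
    · rw [Category.assoc, Category.assoc, pullback.diagonal_fst, pullback.lift_fst,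
        pullback.diagonal_fst_assoc, Category.comp_id]
    · rw [Category.assoc, Category.assoc, pullback.diagonal_snd, pullback.lift_snd,
        pullback.diagonal_snd_assoc, Category.comp_id]
  have h4 : QuasiCompact (f ≫ pullback.diagonal g) := by rw [h3]; infer_instance
  exact quasiCompact_of_comp_surjective f _

end general

section thickening

variable {X X' : Scheme.{u}} {i : X ⟶ X'}

lemma IsThickening.isHomeomorph (h : MoreMor.IsThickening i) : IsHomeomorph i := by
  have := h.1
  have := h.2
  exact (i.isClosedEmbedding.isEmbedding.toHomeomorphOfSurjective i.surjective).isHomeomorph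

set_option backward.isDefEq.respectTransparency.types false in
lemma IsThickening.of_isPullback {P T : Scheme.{u}} {fst : P ⟶ X} {snd : P ⟶ T} {g : T ⟶ X'}
    (H : IsPullback fst snd i g) (h : MoreMor.IsThickening i) : MoreMor.IsThickening snd :=
  ⟨MorphismProperty.of_isPullback H h.1, MorphismProperty.of_isPullback (P := @Surjective) H h.2⟩

set_option backward.isDefEq.respectTransparency.types false in
lemma IsThickening.universallyOpen (h : MoreMor.IsThickening i) : UniversallyOpen i := by
  constructor
  intro P T fst g snd H
  exact (IsThickening.isHomeomorph (IsThickening.of_isPullback H.flip h)).isOpenMap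

end thickening

section square

variable {X X' S S' : Scheme.{u}} (iX : X ⟶ X') (iS : S ⟶ S') (f : X ⟶ S) (f' : X' ⟶ S')
    (hX : MoreMor.IsThickening iX) (hS : MoreMor.IsThickening iS) (w : iX ≫ f' = f ≫ iS)

include hX hS w

/-- General principle for morphisms of thickenings. -/
lemma thickening_square_iff (P : MorphismProperty Scheme.{u}) [P.IsStableUnderBaseChange]
    [P.IsStableUnderComposition]
    (hP : ∀ {A B : Scheme.{u}} (j : A ⟶ B), MoreMor.IsThickening j → P j)
    (hP' : ∀ {A B C : Scheme.{u}} (j : A ⟶ B) (g : B ⟶ C), MoreMor.IsThickening j → P (j ≫ g) → P g) :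
    P f ↔ P f' := by
  constructor
  · intro hf
    apply hP' iX f' hX
    rw [w]
    exact P.comp_mem _ _ hf (hP iS hS)
  · intro hf'
    have : Mono iS := by have := hS.1; infer_instance
    apply P.of_postcomp (W' := MorphismProperty.monomorphisms _) f iS this
    rw [← w]
    exact P.comp_mem _ _ (hP iX hX) hf'

end square

end Groth.Agent.H1
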