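import Mathlib
import Groth.Agent.Lib.Helper1.UnivHomeo
import Groth.Agent.Lib.Helper1.Thickening

/-! Universal homeomorphisms: 2-out-of-3, diagonal, weakly étale universal homeomorphisms (helper1) -/

universe u
open AlgebraicGeometry CategoryTheory Limits MorphismProperty

namespace Groth.Agent.H1

set_option backward.isDefEq.respectTransparency.types false in
lemma IsThickening.isUnivHomeo {X X' : Scheme.{u}} {i : X ⟶ X'} (h : MoreMor.IsThickening i) :
    FlatMor.IsUnivHomeo i := by
  rw [isUnivHomeo_eq]
  have := h.1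
  exact ⟨⟨inferInstance, IsThickening.universallyOpen h⟩, h.2⟩

set_option backward.isDefEq.respectTransparency.types false in
instance : (FlatMor.IsUnivHomeo.{u}).IsStableUnderBaseChange := by
  rw [isUnivHomeo_eq]; infer_instance

set_option backward.isDefEq.respectTransparency.types false in
instance : (FlatMor.IsUnivHomeo.{u}).IsMultiplicative := by
  rw [isUnivHomeo_eq]; infer_instance

set_option backward.isDefEq.respectTransparency.types false in
lemma isUnivHomeo_diagonal {Y Z : Scheme.{u}} (h : Y ⟶ Z) (hh : FlatMor.IsUnivHomeo h) :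
    FlatMor.IsUnivHomeo (pullback.diagonal h) := by
  apply IsThickening.isUnivHomeo
  have hh' := hh
  rw [isUnivHomeo_eq] at hh'
  obtain ⟨⟨h1, h2⟩, h3⟩ := hh'
  have hs : Surjective (pullback.diagonal h) := (UniversallyInjective.iff_diagonal h).mp h1
  refine ⟨?_, hs⟩
  apply IsClosedImmersion.of_isPreimmersion
  rw [hs.1.range_eq]
  exact isClosed_univ

set_option backward.isDefEq.respectTransparency.types false in
theorem isUnivHomeo_two_out_of_three {X Y Z : Scheme.{u}} (g : X ⟶ Y) (h : Y ⟶ Z) :
    (FlatMor.IsUnivHomeo (g ≫ h) → FlatMor.IsUnivHomeo g → FlatMor.IsUnivHomeo h) ∧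
    (FlatMor.IsUnivHomeo (g ≫ h) → FlatMor.IsUnivHomeo h → FlatMor.IsUnivHomeo g) := by
  constructor
  · intro hgh hg
    rw [isUnivHomeo_eq] at hgh hg ⊢
    obtain ⟨⟨h1, h2⟩, h3⟩ := hgh
    obtain ⟨⟨_, _⟩, g3⟩ := hg
    exact ⟨⟨universallyInjective_of_comp_surjective g h, universallyOpen_of_comp_surjective g h⟩,
      Surjective.of_comp g h⟩
  · intro hgh hh
    have : (FlatMor.IsUnivHomeo.{u}).HasOfPostcompProperty FlatMor.IsUnivHomeo.{u} := by
      rw [hasOfPostcompProperty_iff_le_diagonal]
      intro Y Z h hh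
      exact isUnivHomeo_diagonal h hh
    exact MorphismProperty.of_postcomp (W := FlatMor.IsUnivHomeo.{u}) g h hh hgh

end Groth.Agent.H1

namespace Groth.Agent.H1

set_option backward.isDefEq.respectTransparency.types false in
theorem isIso_of_weaklyEtale_of_isUnivHomeo {X Y : Scheme.{u}} (f : X ⟶ Y) [WeaklyEtale f]
    (h : FlatMor.IsUnivHomeo f) : IsIso f := by
  have h' := h
  rw [isUnivHomeo_eq] at h'
  obtain ⟨⟨h1, h2⟩, h3⟩ := h'
  -- the diagonal is a flat surjective closed immersion, hence an isomorphism
  have hs : Surjective (pullback.diagonal f) := (UniversallyInjective.iff_diagonal f).mp h1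
  have hci : IsClosedImmersion (pullback.diagonal f) := by
    apply IsClosedImmersion.of_isPreimmersion
    rw [hs.1.range_eq]
    exact isClosed_univ
  have : IsIso (pullback.diagonal f) := Flat.isIso_of_surjective_of_mono _
  have : Mono f := (pullback.isIso_diagonal_iff f).mp this
  have hhomeo : IsHomeomorph f := h _ _ _ IsPullback.of_id_snd
  have : QuasiCompact f := ⟨fun U hU hc ↦ hhomeo.homeomorph.isCompact_preimage.mpr hc⟩
  exact Flat.isIso_of_surjective_of_mono f

end Groth.Agent.H1
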