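import Mathlib
import Groth.Prelude.Def_GrTwist
import Groth.Agent.Lib.Lead.PN.Main
import Groth.Agent.Lib.Lead.QC.PullInv
import Groth.Agent.Lib.Lead.QC.Counit
import Groth.Agent.Lib.Helper1.ProjBC
open AlgebraicGeometry CategoryTheory Limits TopologicalSpace Opposite

namespace Groth.Agent.H1.ProjTw

universe u

section Adj
open Groth.Agent.LD.QC
variable {X Y : Scheme.{u}} (f : X ⟶ Y)

/-- the adjunct `f^* M ⟶ N` of `θ : M ⟶ f_* N`. -/
noncomputable def adjHom {M : Y.Modules} {N : X.Modules}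
    (θ : M ⟶ (Scheme.Modules.pushforward f).obj N) : (Scheme.Modules.pullback f).obj M ⟶ N :=
  (Scheme.Modules.pullback f).map θ ≫
    (Scheme.Modules.pullbackPushforwardAdjunction f).counit.app N

lemma adjHom_app_pbSec {M : Y.Modules} {N : X.Modules}
    (θ : M ⟶ (Scheme.Modules.pushforward f).obj N) {U : X.Opens} {V : Y.Opens}
    (e : U ≤ f ⁻¹ᵁ V) (m : Γ(M, V)) :
    (adjHom f θ).app U (pbSec f M e m) =
      N.presheaf.map (homOfLE e).op (show Γ(N, f ⁻¹ᵁ V) from θ.app V m) := by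
  unfold adjHom
  change ((Scheme.Modules.pullbackPushforwardAdjunction f).counit.app N).app U
    (((Scheme.Modules.pullback f).map θ).app U (pbSec f M e m)) = _
  rw [pbSec_naturality]
  exact counit_pbSec f N e _

end Adj




section Tw
open Groth.Agent.LD.QC Groth.Agent.LD.TW Twist

variable {R R' A B : Type u} [CommRing R'] [CommRing R]
    [CommRing B] [Algebra R' B] {ℬ : ℕ → Submodule R' B} [GradedAlgebra ℬ]
    [CommRing A] [Algebra R A] {𝒜 : ℕ → Submodule R A} [GradedAlgebra 𝒜]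
    (φ : ℬ →+*ᵍ 𝒜)
    (hφ : HomogeneousIdeal.irrelevant 𝒜 ≤ (HomogeneousIdeal.irrelevant ℬ).map φ)

/-- the canonical map `O_ℬ(n) ⟶ Φ_* O_𝒜(n)` for `Φ = Proj.map φ`. -/
noncomputable def twComap (n : ℤ) :
    twist ℬ n ⟶ (Scheme.Modules.pushforward (Proj.map φ hφ)).obj (twist 𝒜 n) :=
  GrTwist.comap φ hφ n

lemma twComap_app_val (n : ℤ) (V : (Proj ℬ).Opens) (s : sectN (𝒜 := ℬ) n (op V))
    (y : (Proj.map φ hφ ⁻¹ᵁ V : (Proj 𝒜).Opens)) :
    ((((twComap φ hφ n).app V) s : sectN (𝒜 := 𝒜) n _).1 y : Loc 𝒜 y.1) =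
      GrTwist.locMap φ hφ y.1 (s.1 ⟨ProjectiveSpectrum.comap φ hφ y.1, y.2⟩).1 := rfl

/-- the canonical map `Φ^* O_ℬ(n) ⟶ O_𝒜(n)`. -/
noncomputable def twPull (n : ℤ) :
    (Scheme.Modules.pullback (Proj.map φ hφ)).obj (twist ℬ n) ⟶ twist 𝒜 n :=
  adjHom (Proj.map φ hφ) (twComap φ hφ n)

lemma isUnitSec_twComap {n : ℤ} {V : (Proj ℬ).Opens} {u : sectN (𝒜 := ℬ) n (op V)}
    (hu : IsUnitSec u) :
    IsUnitSec (show sectN (𝒜 := 𝒜) n (op (Proj.map φ hφ ⁻¹ᵁ V)) from
      (twComap φ hφ n).app V u) := by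
  obtain ⟨v, hv⟩ := hu
  refine ⟨show sectN (𝒜 := 𝒜) (-n) (op (Proj.map φ hφ ⁻¹ᵁ V)) from
      (twComap φ hφ (-n)).app V v, fun y => ?_⟩
  have h1 := twComap_app_val φ hφ n V u y
  have h2 := twComap_app_val φ hφ (-n) V v y
  refine (congrArg₂ (· * ·) h1 h2).trans ?_
  rw [← map_mul, hv ⟨ProjectiveSpectrum.comap φ hφ y.1, y.2⟩, map_one]

theorem isIso_twPull {s : Set B} (hs1 : ∀ f ∈ s, f ∈ ℬ 1)
    (hgen : (HomogeneousIdeal.irrelevant ℬ).toIdeal = Ideal.span s) (n : ℤ) :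
    IsIso (twPull φ hφ n) := by
  have : (twist ℬ n).IsQuasicoherent :=
    qc_of_isInvertible _ (isInvertible_twist_of_span hs1 hgen n)
  apply isIso_of_forall_isBasisOver
  intro x
  obtain ⟨f, hfs, hxf, u, hu⟩ := exists_isUnitSec_of_span hs1 hgen n (Proj.map φ hφ x)
  refine ⟨Proj.map φ hφ ⁻¹ᵁ Proj.basicOpen ℬ f,
    pbSec (Proj.map φ hφ) (twist ℬ n) le_rfl (show Γ(twist ℬ n, Proj.basicOpen ℬ f) from u),
    hxf, hu.isBasisOver.pullback (Proj.map φ hφ) le_rfl, ?_⟩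
  have h1 := adjHom_app_pbSec (Proj.map φ hφ) (twComap φ hφ n)
    (le_refl (Proj.map φ hφ ⁻¹ᵁ Proj.basicOpen ℬ f))
    (show Γ(twist ℬ n, Proj.basicOpen ℬ f) from u)
  change IsBasisOver _ _ ((adjHom (Proj.map φ hφ) (twComap φ hφ n)).app _ _)
  rw [h1]
  have h2 := (isUnitSec_twComap φ hφ hu).isBasisOver
  convert h2 using 1
  exact res_self _ _ _

end Tw




section Poly
open Groth.Agent.LD.QC Groth.Agent.LD.TW Twist

variable (N : ℕ) {A B : Type u} [CommRing A] [CommRing B] (φ : A →+* B)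

/-- the graded ring homomorphism `A[X₀..X_N] → B[X₀..X_N]` induced by `φ : A → B`. -/
noncomputable def polyMap : CohB1.polyGrading N A →+*ᵍ CohB1.polyGrading N B where
  toRingHom := MvPolynomial.map φ
  map_mem {i x} hx := by
    change (MvPolynomial.map φ x).IsHomogeneous i
    exact MvPolynomial.IsHomogeneous.map hx φ

@[simp] lemma polyMap_apply (p : MvPolynomial (Fin (N + 1)) A) :
    polyMap N φ p = MvPolynomial.map φ p := rfl

lemma irrelevant_le_polyMap :
    HomogeneousIdeal.irrelevant (CohB1.polyGrading N B) ≤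
      (HomogeneousIdeal.irrelevant (CohB1.polyGrading N A)).map (polyMap N φ) := by
  rw [← _root_.toIdeal_le_toIdeal_iff, HomogeneousIdeal.toIdeal_map,
    Groth.Agent.LD.PN.irrelevant_eq_span, Ideal.span_le]
  rintro _ ⟨i, rfl⟩
  have h1 : (MvPolynomial.X i : MvPolynomial (Fin (N + 1)) A) ∈
      (HomogeneousIdeal.irrelevant (CohB1.polyGrading N A)).toIdeal := by
    rw [Groth.Agent.LD.PN.irrelevant_eq_span]
    exact Ideal.subset_span ⟨i, rfl⟩
  have h2 : (MvPolynomial.X i : MvPolynomial (Fin (N + 1)) B) = polyMap N φ (MvPolynomial.X i) := by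
    simp
  rw [h2]
  exact Ideal.mem_map_of_mem _ h1

/-- the base change morphism `P^N_B ⟶ P^N_A`. -/
noncomputable def projBC : CohB1.ProjSpace N B ⟶ CohB1.ProjSpace N A :=
  Proj.map (polyMap N φ) (irrelevant_le_polyMap N φ)

attribute [local instance] MvPolynomial.algebraMvPolynomial in
theorem isPullback_projBC :
    IsPullback (projBC N φ) (CohB1.ProjSpace.toSpec N B) (CohB1.ProjSpace.toSpec N A)
      (Spec.map (CommRingCat.ofHom φ)) := by
  let _ := φ.toAlgebra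
  exact Groth.Agent.H1.ProjBC.isPullback_proj_map (CohB1.polyGrading N A) (CohB1.polyGrading N B)
    (polyMap N φ) (fun b => rfl) (irrelevant_le_polyMap N φ)

/-- the canonical map `(projBC)^* O(n) ⟶ O(n)`. -/
noncomputable def projBCTwist (n : ℤ) :
    (Scheme.Modules.pullback (projBC N φ)).obj (twist (CohB1.polyGrading N A) n) ⟶
      twist (CohB1.polyGrading N B) n :=
  twPull (polyMap N φ) (irrelevant_le_polyMap N φ) n

instance isIso_projBCTwist (n : ℤ) : IsIso (projBCTwist N φ n) :=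
  isIso_twPull (polyMap N φ) (irrelevant_le_polyMap N φ)
    (Groth.Agent.LD.PN.X_range_mem N A) (Groth.Agent.LD.PN.irrelevant_eq_span N A) n

/-- `(projBC)^* O(n) ≅ O(n)`. -/
noncomputable def projBCTwistIso (n : ℤ) :
    (Scheme.Modules.pullback (projBC N φ)).obj (twist (CohB1.polyGrading N A) n) ≅
      twist (CohB1.polyGrading N B) n :=
  asIso (projBCTwist N φ n)

end Poly

end Groth.Agent.H1.ProjTw
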