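import Mathlib
import Groth.Prelude.Def_FGA

set_option autoImplicit false
universe u
open CategoryTheory CategoryTheory.Limits AlgebraicGeometry

namespace Groth.Agent.H1.HilbImm

variable {W X S : Scheme.{u}} (f : X ⟶ S) (ι : W ⟶ X) (T : Over S)

/-- the induced map `W ×_S T ⟶ X ×_S T` -/
noncomputable abbrev mm : pullback (ι ≫ f) T.hom ⟶ pullback f T.hom :=
  pullback.map (ι ≫ f) T.hom f T.hom ι (𝟙 T.left) (𝟙 S)
    (Category.comp_id _) ((Category.comp_id _).trans (Category.id_comp _).symm)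

theorem mm_eq : mm f ι T =
    (pullbackRightPullbackFstIso f T.hom ι).inv ≫ pullback.snd ι (pullback.fst f T.hom) := by
  have e1 : mm f ι T ≫ pullback.fst f T.hom = pullback.fst (ι ≫ f) T.hom ≫ ι :=
    pullback.lift_fst _ _ _
  have e2 : mm f ι T ≫ pullback.snd f T.hom = pullback.snd (ι ≫ f) T.hom ≫ 𝟙 _ :=
    pullback.lift_snd _ _ _
  apply pullback.hom_ext
  · rw [e1]; simp
  · rw [e2]; simp

instance [IsImmersion ι] : IsImmersion (mm f ι T) := by
  rw [mm_eq]; infer_instance

theorem isClosedImmersion_comp [IsSeparated f] [IsImmersion ι] (V : FGA.HilbSet (ι ≫ f) T) :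
    IsClosedImmersion (V.1.subschemeι ≫ mm f ι T) := by
  rw [IsClosedImmersion.iff_isProper_and_mono]
  refine ⟨?_, inferInstance⟩
  have h1 : (V.1.subschemeι ≫ mm f ι T) ≫ pullback.snd f T.hom =
      V.1.subschemeι ≫ PicF.XTproj (ι ≫ f) T := by
    rw [Category.assoc]
    congr 1
    exact (pullback.lift_snd _ _ _).trans (Category.comp_id _)
  haveI : IsProper ((V.1.subschemeι ≫ mm f ι T) ≫ pullback.snd f T.hom) := by
    rw [h1]; exact V.2.1
  exact IsProper.of_comp _ (pullback.snd f T.hom)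

theorem injective_ker [IsSeparated f] [IsImmersion ι] :
    Function.Injective (fun V : FGA.HilbSet (ι ≫ f) T => (V.1.subschemeι ≫ mm f ι T).ker) := by
  have key : ∀ V V' : FGA.HilbSet (ι ≫ f) T,
      (V.1.subschemeι ≫ mm f ι T).ker ≤ (V'.1.subschemeι ≫ mm f ι T).ker → V.1 ≤ V'.1 := by
    intro V V' h
    haveI := isClosedImmersion_comp f ι T V
    have h1 := IsClosedImmersion.lift_fac (V.1.subschemeι ≫ mm f ι T)
      (V'.1.subschemeι ≫ mm f ι T) h
    have h2 : IsClosedImmersion.lift _ _ h ≫ V.1.subschemeι = V'.1.subschemeι := by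
      rw [← cancel_mono (mm f ι T), Category.assoc]; exact h1
    calc V.1 = V.1.subschemeι.ker := V.1.ker_subschemeι.symm
      _ ≤ (IsClosedImmersion.lift _ _ h ≫ V.1.subschemeι).ker := Scheme.Hom.le_ker_comp _ _
      _ = V'.1 := by rw [h2, V'.1.ker_subschemeι]
  intro V V' h
  apply Subtype.ext
  exact le_antisymm (key V V' (le_of_eq h)) (key V' V (le_of_eq h.symm))

end Groth.Agent.H1.HilbImm
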