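import Mathlib
import Groth.Prelude.Def_Curv2
import Groth.Agent.Lib.Helper1.GalActSch
import Groth.Agent.Lib.Helper1.GeomIrr

/-! Helper1: Galois-stable irreducible components of `X_{k^sep}` (Stacks 04KY). -/

set_option autoImplicit false
set_option linter.style.haveILetI false
universe u
open CategoryTheory CategoryTheory.Limits AlgebraicGeometry IsLocalRing TensorProduct TopologicalSpace

namespace Groth.Agent.H1.GalActSch

open Groth.Agent.H1.BCTower Groth.Agent.H1.GeomConnSch

/-- over a separably closed field, irreducibility of spectra is preserved by field extension. -/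
theorem irreducibleSpace_tensor_of_isSepClosed (k : Type u) [Field k] [IsSepClosed k]
    (R : Type u) [CommRing R] [Algebra k R] [IrreducibleSpace (PrimeSpectrum R)]
    (k' : Type u) [Field k'] [Algebra k k'] : IrreducibleSpace (PrimeSpectrum (k' ⊗[k] R)) := by
  haveI : IrreducibleSpace (PrimeSpectrum (AlgebraicClosure k ⊗[k] R)) := by
    have h := PrimeSpectrum.isHomeomorph_comap_of_isPurelyInseparable k (AlgebraicClosure k) R
    let e := Algebra.TensorProduct.comm k (AlgebraicClosure k) R
    rw [(PrimeSpectrum.homeomorphOfRingEquiv e.toRingEquiv).irreducibleSpace_iff]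
    exact (IsHomeomorph.homeomorph _ h).irreducibleSpace_iff.mpr inferInstance
  exact Groth.Agent.H1.GeomIrr.irr_of_algClosure k'

instance geometricallyIrreducible_specMap (Ω : Type u) [Field Ω] [IsSepClosed Ω] (L : Type u)
    [Field L] [Algebra Ω L] :
    GeometricallyIrreducible (Spec.map (CommRingCat.ofHom (algebraMap Ω L))) := by
  rw [GeometricallyIrreducible.eq_geometrically,
    geometrically_iff_of_commRing_of_isClosedUnderIsomorphisms]
  intro M _ _
  haveI : IrreducibleSpace (PrimeSpectrum (L ⊗[Ω] M)) :=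
    irreducibleSpace_tensor_of_isSepClosed Ω M L
  have e := pullbackSpecIso Ω L M
  show IrreducibleSpace ↥(pullback (Spec.map (CommRingCat.ofHom (algebraMap Ω L)))
    (Spec.map (CommRingCat.ofHom (algebraMap Ω M))))
  rw [e.hom.homeomorph.irreducibleSpace_iff]
  show IrreducibleSpace (PrimeSpectrum (L ⊗[Ω] M))
  infer_instance

variable (k : Type u) [Field k] (X : Scheme.{u}) [X.Over (Spec (CommRingCat.of k))]

instance geometricallyIrreducible_bcFst [IsSepClosed k] (K : Type u) [Field K] [Algebra k K] :
    GeometricallyIrreducible (Curv2.bcFst k X K) :=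
  MorphismProperty.pullback_fst _ _ inferInstance

/-- if the preimage of `T` in `X_Ω` is irreducible for a separably closed extension `Ω`, it is
irreducible in every `X_K`. -/
theorem isIrreducible_preimage_of_sepClosed (Ω : Type u) [Field Ω] [Algebra k Ω] [IsSepClosed Ω]
    (T : Set ↥X) (hT : IsIrreducible ((Curv2.bcFst k X Ω).base ⁻¹' T))
    (K : Type u) [Field K] [Algebra k K] : IsIrreducible ((Curv2.bcFst k X K).base ⁻¹' T) := by
  obtain ⟨L, _, _, _, _, _, _⟩ := exists_composite k K Ω
  letI := overK k X Ω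
  have h1 : IsIrreducible ((Curv2.bcFst Ω (Curv2.bc k X Ω) L).base ⁻¹'
      ((Curv2.bcFst k X Ω).base ⁻¹' T)) :=
    (Curv2.bcFst Ω (Curv2.bc k X Ω) L).isIrreducible_preimage
      (Curv2.bcFst Ω (Curv2.bc k X Ω) L).isOpenMap hT
  -- transfer to `X_L`
  have h2 : IsIrreducible ((Curv2.bcFst k X L).base ⁻¹' T) := by
    have himg : (Curv2.bcFst k X L).base ⁻¹' T = (towerIso k X Ω L).hom.base ''
        ((Curv2.bcFst Ω (Curv2.bc k X Ω) L).base ⁻¹' ((Curv2.bcFst k X Ω).base ⁻¹' T)) := by
      ext y
      constructor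
      · intro hy
        refine ⟨(towerIso k X Ω L).inv y, ?_, ?_⟩
        · show (Curv2.bcFst k X Ω) ((Curv2.bcFst Ω (Curv2.bc k X Ω) L)
            ((towerIso k X Ω L).inv y)) ∈ T
          rw [← Scheme.Hom.comp_apply, ← Scheme.Hom.comp_apply, towerIso_inv_fst_assoc,
            towerMap_fst]
          exact hy
        · rw [← Scheme.Hom.comp_apply, Iso.inv_hom_id]
          rfl
      · rintro ⟨z, hz, rfl⟩
        show (Curv2.bcFst k X L) ((towerIso k X Ω L).hom z) ∈ T
        have : (Curv2.bcFst k X L) ((towerIso k X Ω L).hom z) =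
            (Curv2.bcFst k X Ω) ((Curv2.bcFst Ω (Curv2.bc k X Ω) L) z) := by
          rw [← towerIso_hom_towerMap, ← towerMap_fst k X Ω L]
          rfl
        rw [this]
        exact hz
    rw [himg]
    exact h1.image _ (towerIso k X Ω L).hom.continuous.continuousOn
  have himg2 : (Curv2.bcFst k X K).base ⁻¹' T = (towerMap k X K L).base ''
      ((Curv2.bcFst k X L).base ⁻¹' T) := by
    ext y
    constructor
    · intro hy
      obtain ⟨z, rfl⟩ := (towerMap k X K L).surjective y
      refine ⟨z, ?_, rfl⟩
      show (Curv2.bcFst k X L) z ∈ T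
      rw [← towerMap_fst k X K L]
      exact hy
    · rintro ⟨z, hz, rfl⟩
      show (Curv2.bcFst k X K) ((towerMap k X K L) z) ∈ T
      rw [← Scheme.Hom.comp_apply, towerMap_fst]
      exact hz
  rw [himg2]
  exact h2.image _ (towerMap k X K L).continuous.continuousOn

/-- the image of an irreducible component under a closed generalizing continuous map is an
irreducible component. -/
theorem image_mem_irreducibleComponents {Y : Scheme.{u}} (p : Y ⟶ X) (hcl : IsClosedMap p.base)
    (hgen : GeneralizingMap p.base) (Z : Set ↥Y) (hZ : Z ∈ irreducibleComponents ↥Y) :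
    p.base '' Z ∈ irreducibleComponents ↥X := by
  have hZc : IsClosed Z := isClosed_of_mem_irreducibleComponents _ hZ
  obtain ⟨ξ, hξ⟩ := QuasiSober.sober hZ.1 hZc
  have hTc : IsClosed (p.base '' Z) := hcl _ hZc
  refine ⟨hZ.1.image _ p.continuous.continuousOn, ?_⟩
  intro T1 hT1 hle
  obtain ⟨η1, hη1⟩ := QuasiSober.sober hT1.closure isClosed_closure
  have hξT : p.base ξ ∈ closure T1 := subset_closure (hle ⟨ξ, hξ.mem, rfl⟩)
  have hspec : η1 ⤳ p.base ξ := by
    rw [specializes_iff_mem_closure, hη1.def]
    exact hξT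
  obtain ⟨ξ1, hξ1, hpξ1⟩ := hgen hspec
  have hZsub : Z ⊆ closure {ξ1} := by
    rw [← hξ.def]
    exact closure_minimal (Set.singleton_subset_iff.mpr
      (specializes_iff_mem_closure.mp hξ1)) isClosed_closure
  have hsub : closure {ξ1} ⊆ Z := hZ.2 isIrreducible_singleton.closure hZsub
  have hξ1Z : ξ1 ∈ Z := hsub (subset_closure rfl)
  have hη1T : η1 ∈ p.base '' Z := ⟨ξ1, hξ1Z, hpξ1⟩
  calc T1 ⊆ closure T1 := subset_closure
    _ = closure {η1} := hη1.def.symm
    _ ⊆ p.base '' Z := closure_minimal (Set.singleton_subset_iff.mpr hη1T) hTc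

theorem s7597
    (Z : Set ↥(Curv2.bc k X (SeparableClosure k)))
    (hZ : Z ∈ irreducibleComponents ↥(Curv2.bc k X (SeparableClosure k))) :
    (∀ σ : SeparableClosure k ≃ₐ[k] SeparableClosure k,
        (Curv2.galAct k X (SeparableClosure k) σ).base '' Z = Z) ↔
      ∃ T ∈ irreducibleComponents ↥X, (Curv2.bcFst k X (SeparableClosure k)).base ⁻¹' T = Z ∧
        ∀ (K : Type u) [Field K] [Algebra k K], IsIrreducible ((Curv2.bcFst k X K).base ⁻¹' T) := by
  haveI : Normal k (SeparableClosure k) := inferInstance
  constructor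
  · intro hinv
    have hpre := preimage_image_eq_of_invariant k X (SeparableClosure k) Z hinv
    refine ⟨(Curv2.bcFst k X (SeparableClosure k)).base '' Z, ?_, hpre, ?_⟩
    · exact image_mem_irreducibleComponents X (Curv2.bcFst k X (SeparableClosure k))
        (Curv2.bcFst k X (SeparableClosure k)).isClosedMap
        (Flat.generalizingMap (Curv2.bcFst k X (SeparableClosure k))) Z hZ
    · intro K _ _
      apply isIrreducible_preimage_of_sepClosed k X (SeparableClosure k)
      rw [hpre]
      exact hZ.1
  · rintro ⟨T, -, rfl, -⟩ σ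
    ext y
    constructor
    · rintro ⟨z, hz, rfl⟩
      show (Curv2.bcFst k X (SeparableClosure k)) (Curv2.galAct k X (SeparableClosure k) σ z) ∈ T
      rw [bcFst_galAct]
      exact hz
    · intro hy
      refine ⟨Curv2.galAct k X (SeparableClosure k) σ⁻¹ y, ?_, galAct_apply_inv k X _ σ y⟩
      show (Curv2.bcFst k X (SeparableClosure k))
        (Curv2.galAct k X (SeparableClosure k) σ⁻¹ y) ∈ T
      rw [bcFst_galAct]
      exact hy

end Groth.Agent.H1.GalActSch
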