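import Mathlib
import Groth.Agent.Lib.Helper1.FlatRelDim
import Groth.Agent.Lib.Helper1.FibDimTot
import Groth.Agent.Lib.Helper1.EquiDim

/-! Helper1: for a flat morphism `f : X ⟶ Y` of schemes locally of finite type over a field,
`dim_x X = dim_{f x} Y + dim_x X_{f x}`; consequences for the dimensions of irreducible components
of the total space and of the fibres. -/

set_option autoImplicit false
set_option linter.style.haveILetI false
universe u
open AlgebraicGeometry CategoryTheory TopologicalSpace

namespace Groth.Agent.H1.FlatFibDim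

open Groth.Agent.H1.DimFormula

section

variable {k : Type u} [Field k] {X Y : Scheme.{u}} (q : Y ⟶ Spec (CommRingCat.of k))
  (f : X ⟶ Y)

/-- **The local dimension formula for flat morphisms** between schemes locally of finite type
over a field. -/
theorem localDim_eq_add_fibreDimAt [LocallyOfFiniteType q] [LocallyOfFiniteType f] [Flat f]
    (x : X) :
    FlatMor.localDim X x = FlatMor.localDim Y (f x) + FlatMor.fibreDimAt f x := by
  haveI : IsLocallyNoetherian Y := LocallyOfFiniteType.isLocallyNoetherian q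
  obtain ⟨t1, ht1, h1⟩ := exists_localDim_eq_stalk_add_trdeg (f ≫ q) x
  obtain ⟨t2, ht2, h2⟩ := exists_localDim_eq_stalk_add_trdeg q (f x)
  obtain ⟨t3, ht3, h3⟩ := exists_fibreDimAt_eq_stalk_add_trdeg f x
  have hadd := Groth.Agent.H1.FibDimTot.trdeg_residueField_add q f x
  rw [ht1, ht2, ht3] at hadd
  have h : t1 = t2 + t3 := by exact_mod_cast hadd.symm
  rw [h1, h2, h3, Groth.Agent.H1.FlatRelDim.stalk_dim_eq_add_fiber_of_flat f x
    (Flat.stalkMap f x), h]
  push_cast
  abel

/-- the local fibre dimension is nonnegative. -/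
theorem fibreDimAt_nonneg [LocallyOfFiniteType f] (x : X) : 0 ≤ FlatMor.fibreDimAt f x := by
  obtain ⟨t3, -, h3⟩ := exists_fibreDimAt_eq_stalk_add_trdeg f x
  rw [h3]
  exact add_nonneg ringKrullDim_nonneg_of_nontrivial (Nat.cast_nonneg t3)

end

/-- cancellation of a natural number in `WithBot ℕ∞`. -/
theorem natCast_add_cancel {d : ℕ} {a b : WithBot ℕ∞} (h : (d : WithBot ℕ∞) + a = d + b) :
    a = b := by
  induction a with
  | bot =>
    induction b with
    | bot => rfl
    | coe b =>
      exfalso
      rw [WithBot.add_bot] at h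
      have : ((d : ℕ∞) : WithBot ℕ∞) + ((b : ℕ∞) : WithBot ℕ∞) = ⊥ := h.symm
      rw [← WithBot.coe_add] at this
      exact WithBot.coe_ne_bot this
  | coe a =>
    induction b with
    | bot =>
      exfalso
      rw [WithBot.add_bot] at h
      have : ((d : ℕ∞) : WithBot ℕ∞) + ((a : ℕ∞) : WithBot ℕ∞) = ⊥ := h
      rw [← WithBot.coe_add] at this
      exact WithBot.coe_ne_bot this
    | coe b =>
      have h' : (((d : ℕ∞) + a : ℕ∞) : WithBot ℕ∞) = (((d : ℕ∞) + b : ℕ∞) : WithBot ℕ∞) := by
        rw [WithBot.coe_add, WithBot.coe_add]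
        exact h
      have h2 : (d : ℕ∞) + a = (d : ℕ∞) + b := WithBot.coe_injective h'
      rw [(ENat.add_right_injective_of_ne_top (ENat.coe_ne_top d)) h2]

section Field

variable {k : Type u} [Field k] {Z : Scheme.{u}} (g : Z ⟶ Spec (CommRingCat.of k))
  [LocallyOfFiniteType g]

include g in
/-- the local dimension of a scheme locally of finite type over a field is a natural number. -/
theorem exists_localDim_eq_natCast (z : Z) : ∃ d : ℕ, FlatMor.localDim Z z = (d : WithBot ℕ∞) := by
  haveI : IsLocallyNoetherian Z := LocallyOfFiniteType.isLocallyNoetherian g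
  obtain ⟨t, -, h⟩ := exists_localDim_eq_stalk_add_trdeg g z
  have hlt : ringKrullDim (Z.presheaf.stalk z) < ⊤ := ringKrullDim_lt_top
  have hge : 0 ≤ ringKrullDim (Z.presheaf.stalk z) := ringKrullDim_nonneg_of_nontrivial
  obtain ⟨s, hs⟩ : ∃ s : ℕ, ringKrullDim (Z.presheaf.stalk z) = (s : WithBot ℕ∞) := by
    revert hlt hge
    refine Groth.Agent.H1.FlatRelDim.withBot_enat_cases
      (fun c => c < ⊤ → 0 ≤ c → ∃ s : ℕ, c = (s : WithBot ℕ∞)) ?_ ?_ ?_ _
    · intro _ h0
      exact absurd h0 (by simp)
    · intro h1 _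
      exact absurd h1 (lt_irrefl _)
    · intro m _ _
      exact ⟨m, rfl⟩
  exact ⟨s + t, by rw [h, hs]; push_cast; rfl⟩

end Field

section Main

variable {k : Type u} [Field k] {X Y : Scheme.{u}} (q : Y ⟶ Spec (CommRingCat.of k))
  (f : X ⟶ Y) [LocallyOfFiniteType q] [LocallyOfFiniteType f] [Flat f]

include q in
/-- **equidimensional base**: if every irreducible component of `Y` has dimension `d`, then every
irreducible component of `X` has dimension `d + n` iff every irreducible component of every fibre
has dimension `n`. -/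
theorem forall_dim_irreducibleComponents_iff_hasRelDim (d n : ℕ)
    (hY : ∀ Z ∈ irreducibleComponents (Y : Type u), topologicalKrullDim Z = (d : WithBot ℕ∞)) :
    (∀ Z ∈ irreducibleComponents (X : Type u),
        topologicalKrullDim Z = ((d + n : ℕ) : WithBot ℕ∞)) ↔
      ∀ (y : Y), ∀ Z ∈ irreducibleComponents (f.fiber y : Type u),
        topologicalKrullDim Z = (n : WithBot ℕ∞) := by
  have hYloc := (Groth.Agent.H1.RelDim.forall_dim_irreducibleComponents_iff q _).mp hY
  rw [Groth.Agent.H1.RelDim.forall_dim_irreducibleComponents_iff (f ≫ q)]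
  change _ ↔ Cyc.HasRelDim f n
  rw [Groth.Agent.H1.RelDim.hasRelDim_iff]
  constructor
  · intro h x
    have h1 := localDim_eq_add_fibreDimAt q f x
    rw [h x, hYloc (f x)] at h1
    push_cast at h1
    exact (natCast_add_cancel h1).symm
  · intro h x
    rw [localDim_eq_add_fibreDimAt q f x, h x, hYloc (f x)]
    push_cast
    rfl

include q in
/-- **irreducible total space and base**: all the local fibre dimensions are equal to one natural
number `m`, and `dim X = dim Y + m`. -/
theorem exists_forall_fibreDimAt_eq [IrreducibleSpace X] [IrreducibleSpace Y] :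
    ∃ m : ℕ, (∀ x : X, FlatMor.fibreDimAt f x = (m : WithBot ℕ∞)) ∧
      topologicalKrullDim X = topologicalKrullDim Y + (m : WithBot ℕ∞) := by
  obtain ⟨x₀⟩ : Nonempty X := inferInstance
  obtain ⟨d, hd⟩ := exists_localDim_eq_natCast q (f x₀)
  rw [Groth.Agent.H1.EquiDim.localDim_eq_dim q] at hd
  have hX : ∀ x : X, topologicalKrullDim X = (d : WithBot ℕ∞) + FlatMor.fibreDimAt f x := by
    intro x
    rw [← Groth.Agent.H1.EquiDim.localDim_eq_dim (f ≫ q) x, localDim_eq_add_fibreDimAt q f x,
      Groth.Agent.H1.EquiDim.localDim_eq_dim q, hd]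
  obtain ⟨m, hm⟩ : ∃ m : ℕ, FlatMor.fibreDimAt f x₀ = (m : WithBot ℕ∞) := by
    haveI hlft : LocallyOfFiniteType (f.fiberToSpecResidueField (f x₀)) :=
      Groth.Agent.H1.Chev.locallyOfFiniteType_fiberToSpecResidueField f (f x₀)
    exact @exists_localDim_eq_natCast (Y.residueField (f x₀)) _ _
      (f.fiberToSpecResidueField (f x₀)) hlft (f.asFiber x₀)
  refine ⟨m, fun x => ?_, ?_⟩
  · have h1 := hX x
    rw [hX x₀, hm] at h1
    exact (natCast_add_cancel h1).symm
  · rw [hX x₀, hm, hd]

end Main

end Groth.Agent.H1.FlatFibDim
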