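import Mathlib
import Groth.Prelude.Def_AlgGrp
import Groth.Agent.Lib.Helper1.FibDimBC
import Groth.Agent.Lib.Helper1.CMQF
import Groth.Agent.Lib.Helper1.DimFormula4
import Groth.Agent.Lib.Helper1.DimFormula3
import Groth.Agent.Lib.Helper1.RelDim
import Groth.Agent.Lib.Helper3.TopDim

/-! Group schemes locally of finite type over a field are equidimensional (helper1): the local
dimension is constant, via the shear automorphism `(x, y) ↦ (x, x y)` of `G × G` over `G` and
invariance of fibre dimension under base change. -/

set_option autoImplicit false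
universe u

namespace Groth.Agent.H1.GrpEquidim

open CategoryTheory MonoidalCategory CartesianMonoidalCategory MonObj AlgebraicGeometry Limits

section Cat

variable {C : Type*} [Category C] [CartesianMonoidalCategory C] (G : C) [GrpObj G]

/-- the shear morphism `(x, y) ↦ (x, x y)`. -/
def shear : G ⊗ G ⟶ G ⊗ G := lift (fst G G) (fst G G * snd G G)

/-- its inverse `(x, y) ↦ (x, x⁻¹ y)`. -/
def shearInv : G ⊗ G ⟶ G ⊗ G := lift (fst G G) ((fst G G)⁻¹ * snd G G)

theorem shear_fst : shear G ≫ fst G G = fst G G := lift_fst _ _

theorem shear_snd : shear G ≫ snd G G = fst G G * snd G G := lift_snd _ _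

theorem shearInv_fst : shearInv G ≫ fst G G = fst G G := lift_fst _ _

theorem shearInv_snd : shearInv G ≫ snd G G = (fst G G)⁻¹ * snd G G := lift_snd _ _

theorem shear_shearInv : shear G ≫ shearInv G = 𝟙 _ := by
  apply CartesianMonoidalCategory.hom_ext
  · rw [Category.assoc, shearInv_fst, shear_fst, Category.id_comp]
  · rw [Category.assoc, shearInv_snd, MonObj.comp_mul, GrpObj.comp_inv, shear_fst, shear_snd,
      inv_mul_cancel_left, Category.id_comp]

theorem shearInv_shear : shearInv G ≫ shear G = 𝟙 _ := by
  apply CartesianMonoidalCategory.hom_ext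
  · rw [Category.assoc, shear_fst, shearInv_fst, Category.id_comp]
  · rw [Category.assoc, shear_snd, MonObj.comp_mul, shearInv_fst, shearInv_snd,
      mul_inv_cancel_left, Category.id_comp]

instance : IsIso (shear G) := ⟨shearInv G, shear_shearInv G, shearInv_shear G⟩

/-- the section `x ↦ (x, 1)`. -/
def sec : G ⟶ G ⊗ G := lift (𝟙 G) 1

theorem sec_fst : sec G ≫ fst G G = 𝟙 G := lift_fst _ _

theorem sec_snd : sec G ≫ snd G G = 1 := lift_snd _ _

theorem sec_shear_snd : sec G ≫ shear G ≫ snd G G = 𝟙 G := by
  rw [shear_snd, MonObj.comp_mul, sec_fst, sec_snd, _root_.mul_one]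

end Cat

section Main

variable (k : Type u) [Field k] (G : Over (Spec (CommRingCat.of k))) [GrpObj G]
  [LocallyOfFiniteType G.hom]

theorem localDim_eq_localDim_one (a : G.left) :
    FlatMor.localDim G.left a = FlatMor.localDim G.left ((1 : G ⟶ G).left a) := by
  have hsq : IsPullback (snd G G).left (fst G G).left G.hom G.hom :=
    (IsPullback.of_hasPullback G.hom G.hom).flip
  haveI : IsIso (shear G).left :=
    inferInstanceAs (IsIso ((Over.forget _).map (shear G)))
  have h1 : FlatMor.fibreDimAt (fst G G).left ((sec G).left a) =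
      FlatMor.localDim G.left ((1 : G ⟶ G).left a) := by
    rw [FibDimBC.fibreDimAt_eq_of_isPullback G.hom G.hom (snd G G).left (fst G G).left hsq,
      DimFormula.fibreDimAt_eq_localDim_of_field]
    congr 1
    rw [← Scheme.Hom.comp_apply, ← Over.comp_left, sec_snd]
  have h2 : FlatMor.fibreDimAt (fst G G).left ((shear G).left ((sec G).left a)) =
      FlatMor.localDim G.left a := by
    rw [FibDimBC.fibreDimAt_eq_of_isPullback G.hom G.hom (snd G G).left (fst G G).left hsq,
      DimFormula.fibreDimAt_eq_localDim_of_field]
    congr 1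
    rw [← Scheme.Hom.comp_apply, ← Scheme.Hom.comp_apply, ← Over.comp_left, ← Over.comp_left,
      sec_shear_snd]
    rfl
  have h3 : FlatMor.fibreDimAt (fst G G).left ((shear G).left ((sec G).left a)) =
      FlatMor.fibreDimAt (fst G G).left ((sec G).left a) := by
    rw [← CMQF.fibreDimAt_comp_isOpenImmersion (shear G).left (fst G G).left ((sec G).left a),
      ← Over.comp_left, shear_fst]
  rw [← h2, h3, h1]

theorem one_left_apply_eq (a a' : G.left) : (1 : G ⟶ G).left a = (1 : G ⟶ G).left a' := by
  have h : (1 : G ⟶ G).left = G.hom ≫ η[G].left := by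
    rw [Hom.one_def, Over.comp_left]
    rfl
  rw [h, Scheme.Hom.comp_apply, Scheme.Hom.comp_apply]
  congr 1
  exact @Subsingleton.elim (PrimeSpectrum k) inferInstance _ _

theorem localDim_const (a a' : G.left) :
    FlatMor.localDim G.left a = FlatMor.localDim G.left a' := by
  rw [localDim_eq_localDim_one k G a, localDim_eq_localDim_one k G a',
    one_left_apply_eq k G a a']

theorem s5341 :
    (∀ Z ∈ irreducibleComponents ↥G.left, topologicalKrullDim ↥Z = topologicalKrullDim ↥G.left) ∧
    (∀ g : G.left, FlatMor.localDim ↥G.left g = topologicalKrullDim ↥G.left) := by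
  have h2 : ∀ g : G.left, FlatMor.localDim ↥G.left g = topologicalKrullDim ↥G.left := by
    intro g
    rw [Groth.Agent.H3.TopDim.dim_eq_iSup_localDim]
    have hfun : (fun x : G.left => FlatMor.localDim ↥G.left x) =
        fun _ => FlatMor.localDim ↥G.left g := funext fun x => localDim_const k G x g
    haveI : Nonempty G.left := ⟨g⟩
    rw [hfun, iSup_const]
  exact ⟨(RelDim.forall_dim_irreducibleComponents_iff G.hom _).mpr h2, h2⟩

theorem s0354 (g : G.left) (hg : IsClosed ({g} : Set G.left)) :
    ringKrullDim (G.left.presheaf.stalk g) = topologicalKrullDim G.left := by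
  rw [← (s5341 k G).2 g]
  exact (DimFormula.localDim_eq_stalk_of_isClosed G.hom g hg).symm

end Main

end Groth.Agent.H1.GrpEquidim
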