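import Mathlib
import Groth.Agent.Lib.Helper1.AlgSpDim3
import Groth.Agent.Lib.Helper1.FibDimFP

/-! More chart lemmas: predicates of the fibre dimension are étale local; compact opens of `|F|` lift
to compact opens of a chart. -/

set_option autoImplicit false
universe u
open CategoryTheory CategoryTheory.Limits AlgebraicGeometry
open AlgSp

namespace Groth.Agent.H1.AlgSpDim

theorem etLocal_fibreDimAt_pred (P : WithBot ℕ∞ → Prop) :
    EtLocal (fun _ _ h u => P (FlatMor.fibreDimAt h u)) := by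
  intro U V U'' V'' h h'' p q hp hq comm _ _ r
  beta_reduce
  rw [Groth.Agent.H1.FibDimEt.fibreDimAt_eq_of_etale_square h h'' p q comm r]

variable {S : Scheme.{u}} {F : Sp S}

/-- A compact open of `|F|` contained in the image of an étale chart is the image of a compact open
of the chart. -/
theorem exists_compact_opens_image_eq {U : Over S} (a : (yon S).obj U ⟶ F) (ha : RepWith @Etale a)
    (V : Set (Points F)) (hV : IsOpen V) (hVc : IsCompact V) (hsub : V ⊆ Set.range (Points.ofPt a)) :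
    ∃ K : U.left.Opens, IsCompact (K : Set ↥U.left) ∧ Points.ofPt a '' (K : Set ↥U.left) = V := by
  classical
  let O : U.left.Opens := ⟨Points.ofPt a ⁻¹' V, hV.preimage (Points.continuous_ofPt a)⟩
  have hch : ∀ u : O, ∃ W : U.left.Opens, IsAffineOpen W ∧ u.1 ∈ W ∧ W.1 ⊆ O :=
    fun u => exists_isAffineOpen_mem_and_subset (U := O) u.2
  choose W hWa hWm hWs using hch
  have hcov : V ⊆ ⋃ u : O, Points.ofPt a '' (W u : Set ↥U.left) := by
    intro x hx
    obtain ⟨u, rfl⟩ := hsub hx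
    exact Set.mem_iUnion.2 ⟨⟨u, hx⟩, u, hWm ⟨u, hx⟩, rfl⟩
  obtain ⟨t, ht⟩ := hVc.elim_finite_subcover (fun u : O => Points.ofPt a '' (W u : Set ↥U.left))
    (fun u => Groth.Agent.H5.AlgSp.isOpenMap_ofPt_of_etale ha _ (W u).2) hcov
  refine ⟨⨆ u ∈ t, W u, ?_, ?_⟩
  · have : ((⨆ u ∈ t, W u : U.left.Opens) : Set ↥U.left) = ⋃ u ∈ t, (W u : Set ↥U.left) := by
      simp
    rw [this]
    exact t.finite_toSet.isCompact_biUnion fun u _ => (hWa u).isCompact
  · have : ((⨆ u ∈ t, W u : U.left.Opens) : Set ↥U.left) = ⋃ u ∈ t, (W u : Set ↥U.left) := by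
      simp
    rw [this]
    apply Set.Subset.antisymm
    · rintro _ ⟨u, hu, rfl⟩
      obtain ⟨i, hi, hui⟩ := Set.mem_iUnion₂.1 hu
      exact hWs i hui
    · intro x hx
      obtain ⟨i, hi, u, hu, rfl⟩ := Set.mem_iUnion₂.1 (ht hx)
      exact ⟨u, Set.mem_iUnion₂.2 ⟨i, hi, hu⟩, rfl⟩

end Groth.Agent.H1.AlgSpDim
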