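import Mathlib
import Groth.Agent.Lib.Helper1.AlgSpDim4
import Groth.Agent.Lib.Helper1.FibDimBC
import Groth.Agent.Lib.Helper5.AlgSp.FibreProduct

/-! Base change invariance of pointwise predicates `HasAtMor Q` on morphisms of algebraic spaces. -/

set_option autoImplicit false
universe u
open CategoryTheory CategoryTheory.Limits AlgebraicGeometry MorphismProperty Topology

namespace Groth.Agent.H1.AlgSpDim
open _root_.AlgSp Groth.Agent.H5.EtSrc Groth.Agent.H5.AlgSp

variable {S : Scheme.{u}} {F G H : Sp S}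

/-- `Q` is invariant under base change of schemes. -/
def BCLocal (Q : ∀ (U V : Scheme.{u}), (U ⟶ V) → ↥U → Prop) : Prop :=
  ∀ ⦃U V U' V' : Scheme.{u}⦄ (h : U ⟶ V) (k : V' ⟶ V) (k' : U' ⟶ U) (h' : U' ⟶ V'),
    IsPullback k' h' h k → LocallyOfFiniteType h → ∀ r : U', Q _ _ h' r ↔ Q _ _ h (k' r)

theorem bcLocal_fibreDimAt_pred (P : WithBot ℕ∞ → Prop) :
    BCLocal (fun _ _ h u => P (FlatMor.fibreDimAt h u)) := by
  intro U V U' V' h k k' h' sq _ r
  beta_reduce
  rw [Groth.Agent.H1.FibDimBC.fibreDimAt_eq_of_isPullback h k k' h' sq r]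

lemma etale_le_lft : (@Etale : MorphismProperty Scheme.{u}) ≤ @LocallyOfFiniteType :=
  fun _ _ g (_ : Etale g) => (inferInstance : LocallyOfFiniteType g)

/-- Step A: base change along an étale chart of the target. -/
theorem hasAtMor_etale_base {Q : ∀ (U V : Scheme.{u}), (U ⟶ V) → ↥U → Prop} (hQ : EtLocal Q)
    {P : Sp S} {V : Over S} (hF : IsAlgSpace F) (hG : IsAlgSpace G) {f : F ⟶ G}
    (hf : LocP @LocallyOfFiniteType f) {b : (yon S).obj V ⟶ G} (hbe : RepWith @Etale b)
    {fst : P ⟶ F} {snd : P ⟶ (yon S).obj V} (sq : IsPullback fst snd f b) (z : Points P) :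
    HasAtMor Q snd z ↔ HasAtMor Q f (Points.map fst z) := by
  have hP : IsAlgSpace P := isAlgSpace_pullback hG.diag hF (IsAlgSpace.yon_obj V) sq
  have hsnd : LocP @LocallyOfFiniteType snd := locP_of_isPullback_etale sq hbe hf
  obtain ⟨U, c, h, hce, hcs, comm⟩ :=
    exists_chart_diagram_surj hP snd (repWith_id @Etale V) (repWith_id @Surjective V)
  obtain ⟨u, rfl⟩ := ofPt_surjective_of_repWith hcs z
  have hfste : RepWith @Etale fst := MorphismProperty.of_isPullback (P := RepWith @Etale) sq.flip hbe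
  have hae : RepWith @Etale (c ≫ fst) := (RepWith @Etale).comp_mem _ _ hce hfste
  have comm' : (c ≫ fst) ≫ f = (yon S).map h ≫ b := by
    rw [Category.assoc, sq.w, ← Category.assoc, comm, Category.assoc, Category.id_comp]
  rw [Points.map_ofPt]
  constructor
  · intro hz
    have := hasAtMor_chart hQ hsnd c (𝟙 _) h hce (repWith_id @Etale V) comm u hz
    exact ⟨U, V, c ≫ fst, b, h, u, hae, hbe, comm', rfl, this⟩
  · intro hz
    have := hasAtMor_chart hQ hf (c ≫ fst) b h hae hbe comm' u hz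
    exact ⟨U, V, c, 𝟙 _, h, u, hce, repWith_id @Etale V, comm, rfl, this⟩

/-- Step B: base change of a morphism to a scheme along a morphism of schemes. -/
theorem hasAtMor_scheme_base {Q : ∀ (U V : Scheme.{u}), (U ⟶ V) → ↥U → Prop} (hQ : EtLocal Q)
    (hQ' : BCLocal Q) {F' : Sp S} {V V' : Over S} (hF : IsAlgSpace F)
    {f : F ⟶ (yon S).obj V} (hf : LocP @LocallyOfFiniteType f) (k : V' ⟶ V) {fst : F' ⟶ F}
    {f' : F' ⟶ (yon S).obj V'} (sq : IsPullback fst f' f ((yon S).map k)) (z : Points F') :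
    HasAtMor Q f' z ↔ HasAtMor Q f (Points.map fst z) := by
  have hf' : LocP @LocallyOfFiniteType f' := locP_baseChange_scheme etale_le_lft sq hF hf
  obtain ⟨U, c, hce, hcs⟩ := hF.atlas
  obtain ⟨h, hh⟩ := (yon S).map_surjective (c ≫ f)
  have sqO : IsPullback (pullback.fst h k) (pullback.snd h k) h k := IsPullback.of_hasPullback h k
  have sqY := sqO.map (yon S)
  have sqL := sqO.map (Over.forget S)
  have hw : ((yon S).map (pullback.fst h k) ≫ c) ≫ f = (yon S).map (pullback.snd h k) ≫ (yon S).map k := by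
    rw [Category.assoc, ← hh]
    exact sqY.w
  have left : IsPullback (sq.lift _ _ hw) ((yon S).map (pullback.fst h k)) fst c := by
    apply IsPullback.of_right (h₁₂ := f') (h₂₂ := f) _ (sq.lift_fst _ _ _) sq.flip
    rw [sq.lift_snd, ← hh]
    exact sqY.flip
  have hae : RepWith @Etale (sq.lift _ _ hw) :=
    MorphismProperty.of_isPullback (P := RepWith @Etale) left.flip hce
  have has : RepWith @Surjective (sq.lift _ _ hw) :=
    MorphismProperty.of_isPullback (P := RepWith @Surjective) left.flip hcs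
  obtain ⟨u', rfl⟩ := ofPt_surjective_of_repWith has z
  have comm' : sq.lift _ _ hw ≫ f' = (yon S).map (pullback.snd h k) ≫ 𝟙 _ := by
    rw [sq.lift_snd, Category.comp_id]
  have comm : c ≫ f = (yon S).map h ≫ 𝟙 _ := by rw [hh, Category.comp_id]
  haveI : LocallyOfFiniteType h.left := hf c (𝟙 _) h hce (repWith_id @Etale V) comm
  rw [Points.map_ofPt, sq.lift_fst, ofPt_yon_map_comp]
  have hbc := hQ' h.left k.left (pullback.fst h k).left (pullback.snd h k).left sqL inferInstance u'
  constructor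
  · intro hz
    have := hasAtMor_chart hQ hf' _ (𝟙 _) _ hae (repWith_id @Etale V') comm' u' hz
    exact ⟨U, V, c, 𝟙 _, h, _, hce, repWith_id @Etale V, comm, rfl, hbc.1 this⟩
  · intro hz
    have := hasAtMor_chart hQ hf c (𝟙 _) h hce (repWith_id @Etale V) comm _ hz
    exact ⟨_, V', _, 𝟙 _, _, u', hae, repWith_id @Etale V', comm', rfl, hbc.2 this⟩

/-- **Base change invariance** of `HasAtMor Q` for étale-local, base-change-invariant `Q`. -/
theorem hasAtMor_base_change {Q : ∀ (U V : Scheme.{u}), (U ⟶ V) → ↥U → Prop} (hQ : EtLocal Q)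
    (hQ' : BCLocal Q) {X Y Y' X' : Sp S} (hX : IsAlgSpace X) (hY : IsAlgSpace Y)
    (hY' : IsAlgSpace Y') {f : X ⟶ Y} {g : Y' ⟶ Y} {g' : X' ⟶ X} {f' : X' ⟶ Y'}
    (sq : IsPullback g' f' f g) (hf : LocP @LocallyOfFiniteType f) (x' : Points X') :
    HasAtMor Q f' x' ↔ HasAtMor Q f (Points.map g' x') := by
  obtain ⟨V, b, hbe, hbs⟩ := hY.atlas
  obtain ⟨V', b', k, hb'e, hb's, comm⟩ := exists_chart_diagram_surj hY' g hbe hbs
  have sq₀ := IsPullback.of_hasPullback f b
  have sq' := IsPullback.of_hasPullback f' b'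
  have hX' : IsAlgSpace X' := isAlgSpace_pullback hY.diag hX hY' sq
  have hf' : LocP @LocallyOfFiniteType f' := locP_of_isPullback etale_le_lft sq hX hY hY' hf
  have hQ₀ : IsAlgSpace (pullback f b) := isAlgSpace_pullback hY.diag hX (IsAlgSpace.yon_obj V) sq₀
  have h₀ : LocP @LocallyOfFiniteType (pullback.snd f b) := locP_of_isPullback_etale sq₀ hbe hf
  have big : IsPullback (pullback.fst f' b' ≫ g') (pullback.snd f' b') f (b' ≫ g) :=
    sq'.paste_horiz sq
  have hw : (pullback.fst f' b' ≫ g') ≫ f = (pullback.snd f' b' ≫ (yon S).map k) ≫ b := by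
    rw [Category.assoc, Category.assoc, ← comm]
    exact big.w
  have left : IsPullback (sq₀.lift _ _ hw) (pullback.snd f' b') (pullback.snd f b)
      ((yon S).map k) := by
    apply IsPullback.of_right (h₁₂ := pullback.fst f b) (h₂₂ := b) _ (sq₀.lift_snd _ _ _) sq₀
    rw [sq₀.lift_fst, ← comm]
    exact big
  -- a point of `X' ×_{Y'} V'` over `x'`
  obtain ⟨v', hv'⟩ := ofPt_surjective_of_repWith hb's (Points.map f' x')
  obtain ⟨z', hz'1, -⟩ := points_pullback_surjective sq' x' (Points.ofScheme V' v')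
    (by rw [← Points.ofPt_eq_map_ofScheme, hv'])
  rw [← hz'1, ← hasAtMor_etale_base hQ hX' hY' hf' hb'e sq' z',
    hasAtMor_scheme_base hQ hQ' hQ₀ h₀ k left z',
    hasAtMor_etale_base hQ hX hY hf hbe sq₀ (Points.map (sq₀.lift _ _ hw) z'),
    ← Points.map_comp, ← Points.map_comp, sq₀.lift_fst]

end Groth.Agent.H1.AlgSpDim
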