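import Mathlib
import Groth.Agent.Lib.Helper1.FibGen
import Groth.Agent.Lib.Helper1.DimFormula2
import Groth.Agent.Lib.Helper1.FibDimBC
import Groth.Agent.Lib.Helper1.FibDimFP
import Groth.Agent.Lib.Helper1.AlgSpDim3
import Groth.Agent.Lib.Helper1.Chev3
import Groth.Agent.Lib.Helper5.AG.LocalDim

open MvPolynomial AlgebraicGeometry CategoryTheory CategoryTheory.Limits IsLocalRing Topology

set_option linter.style.haveILetI false

namespace Groth.Agent.H1.ValDim

universe u




/-- In a valuation ring, a finite nonempty set has an element dividing all the others. -/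
theorem exists_dvd_all {R : Type*} [CommRing R] [IsDomain R] [ValuationRing R] (s : Finset R)
    (hs : s.Nonempty) : ∃ c ∈ s, ∀ x ∈ s, c ∣ x := by
  induction hs using Finset.Nonempty.cons_induction with
  | singleton a => exact ⟨a, by simp, by simp⟩
  | cons a s ha hs ih =>
    obtain ⟨c, hc, hcs⟩ := ih
    rcases ValuationRing.dvd_total a c with h | h
    · refine ⟨a, by simp, fun x hx => ?_⟩
      rcases Finset.mem_cons.mp hx with rfl | hx
      · exact dvd_rfl
      · exact h.trans (hcs x hx)
    · refine ⟨c, by simp [hc], fun x hx => ?_⟩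
      rcases Finset.mem_cons.mp hx with rfl | hx
      · exact h
      · exact hcs x hx

/-- Key lemma: lifting algebraic independence from the residue field of a local ring dominating a
valuation ring to any field receiving the local ring in which the valuation ring injects. -/
theorem algebraicIndependent_of_residue
    {R B k₀ κ L : Type*} [CommRing R] [IsDomain R] [ValuationRing R] [CommRing B] [IsLocalRing B]
    [Algebra R B] [Field k₀] [Field κ] [Field L] [Algebra k₀ κ]
    (ρ : R →+* k₀) (π : B →+* κ) [IsLocalHom π] (φ : B →+* L)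
    (hcomp : (algebraMap k₀ κ).comp ρ = π.comp (algebraMap R B))
    (hinj : Function.Injective (φ.comp (algebraMap R B)))
    {ι : Type*} (a : ι → B) (ha : AlgebraicIndependent k₀ (π ∘ a)) :
    @AlgebraicIndependent ι R L (φ ∘ a) _ _ (φ.comp (algebraMap R B)).toAlgebra := by
  classical
  letI : Algebra R L := (φ.comp (algebraMap R B)).toAlgebra
  have htower : ∀ r : R, algebraMap R L r = φ (algebraMap R B r) := fun r => rfl
  let φa : B →ₐ[R] L := { φ with commutes' := fun r => rfl }
  rw [algebraicIndependent_iff]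
  intro p hp
  by_contra hp0
  -- the coefficients of `p`
  have hsupp : p.support.Nonempty := by
    rwa [Finset.nonempty_iff_ne_empty, Ne, MvPolynomial.support_eq_empty]
  obtain ⟨c, hc, hcs⟩ := exists_dvd_all (p.support.image p.coeff) (hsupp.image _)
  obtain ⟨m₀, hm₀, rfl⟩ := Finset.mem_image.mp hc
  have hc0 : p.coeff m₀ ≠ 0 := MvPolynomial.mem_support_iff.mp hm₀
  have hdvd : C (p.coeff m₀) ∣ p := by
    rw [MvPolynomial.C_dvd_iff_dvd_coeff]
    intro m
    by_cases hm : m ∈ p.support
    · exact hcs _ (Finset.mem_image_of_mem _ hm)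
    · rw [MvPolynomial.notMem_support_iff.mp hm]; exact dvd_zero _
  obtain ⟨p₂, hp₂⟩ := hdvd
  have h1 : p₂.coeff m₀ = 1 := by
    have := congrArg (MvPolynomial.coeff m₀) hp₂
    rw [MvPolynomial.coeff_C_mul] at this
    exact (mul_left_cancel₀ hc0 (by rw [mul_one]; exact this)).symm
  -- evaluate
  have hev : aeval (φ ∘ a) p₂ = 0 := by
    have h2 : aeval (φ ∘ a) p = algebraMap R L (p.coeff m₀) * aeval (φ ∘ a) p₂ := by
      conv_lhs => rw [hp₂]
      rw [map_mul, MvPolynomial.aeval_C]
    rw [hp] at h2
    rcases mul_eq_zero.mp h2.symm with h3 | h3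
    · exact absurd (hinj (by rw [map_zero]; exact h3)) hc0
    · exact h3
  have hev' : φ (aeval a p₂) = 0 := by
    have : aeval (φ ∘ a) p₂ = φa (aeval a p₂) := by
      rw [MvPolynomial.comp_aeval_apply]; rfl
    rw [← hev, this]; rfl
  have hnu : ¬ IsUnit (aeval a p₂) := fun hu => (hu.map φ).ne_zero hev'
  have hπ : π (aeval a p₂) = 0 := by
    by_contra hne
    exact hnu (IsUnit.of_map π _ (isUnit_iff_ne_zero.mpr hne))
  have hπ' : π (aeval a p₂) = aeval (π ∘ a) (MvPolynomial.map ρ p₂) := by
    rw [MvPolynomial.aeval_def, MvPolynomial.aeval_def, MvPolynomial.eval₂_map, hcomp,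
      MvPolynomial.eval₂_comp_left π]
  rw [hπ'] at hπ
  have hz : MvPolynomial.map ρ p₂ = 0 := by
    rw [algebraicIndependent_iff] at ha
    exact ha _ hπ
  have := congrArg (MvPolynomial.coeff m₀) hz
  rw [MvPolynomial.coeff_map, h1, map_one, MvPolynomial.coeff_zero] at this
  exact one_ne_zero this




section ev
variable (A : Type u) [CommRing A]

/-- Evaluation `A → κ(p)` for a point `p` of `Spec A`. -/
noncomputable def ev (p : Spec (CommRingCat.of A)) :
    A →+* (Spec (CommRingCat.of A)).residueField p :=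
  ((Scheme.ΓSpecIso (CommRingCat.of A)).inv ≫
    (Spec (CommRingCat.of A)).presheaf.germ ⊤ p trivial ≫
      (Spec (CommRingCat.of A)).residue p).hom

set_option backward.isDefEq.respectTransparency false in
theorem ev_eq (p : Spec (CommRingCat.of A)) :
    ev A p = ((Scheme.Spec.residueFieldIso (CommRingCat.of A) p).inv.hom).comp
      (algebraMap A p.asIdeal.ResidueField) := by
  have := Scheme.Spec.algebraMap_residueFieldIso_inv (CommRingCat.of A) p
  exact (congrArg CommRingCat.Hom.hom this).symm

set_option backward.isDefEq.respectTransparency false in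
theorem ker_ev (p : Spec (CommRingCat.of A)) : RingHom.ker (ev A p) = p.asIdeal := by
  rw [ev_eq, ← RingHom.comap_ker]
  have : RingHom.ker (Scheme.Spec.residueFieldIso (CommRingCat.of A) p).inv.hom = ⊥ :=
    (RingHom.injective_iff_ker_eq_bot _).mp
      (ConcreteCategory.bijective_of_isIso (Scheme.Spec.residueFieldIso (CommRingCat.of A) p).inv).1
  rw [this, ← RingHom.ker_eq_comap_bot, Ideal.ker_algebraMap_residueField]

set_option backward.isDefEq.respectTransparency false in
theorem isAlgebraic_ev [IsDomain A] (p : Spec (CommRingCat.of A)) (hp : p.asIdeal = ⊥) :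
    @Algebra.IsAlgebraic A ((Spec (CommRingCat.of A)).residueField p) _ _ (ev A p).toAlgebra := by
  letI : Algebra A ((Spec (CommRingCat.of A)).residueField p) := (ev A p).toAlgebra
  haveI : Algebra.IsAlgebraic A p.asIdeal.ResidueField := by
    obtain ⟨I, hI⟩ := p
    change I = ⊥ at hp
    subst hp
    exact IsLocalization.isAlgebraic _ (nonZeroDivisors A)
  refine Algebra.IsAlgebraic.ringHom_of_comp_eq (RingHom.id A)
    (Scheme.Spec.residueFieldIso (CommRingCat.of A) p).inv.hom Function.injective_id
    (ConcreteCategory.bijective_of_isIso (Scheme.Spec.residueFieldIso (CommRingCat.of A) p).inv).2 ?_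
  exact (RingHom.comp_id _).trans (ev_eq A p)

end ev




section V
variable {A : Type u} [CommRing A] [IsDomain A] [ValuationRing A] {P : Scheme.{u}}
  (q : P ⟶ Spec (CommRingCat.of A))

set_option backward.isDefEq.respectTransparency false in
/-- Over a valuation ring, the transcendence degree of residue field extensions can only go up
under generization to a point over the generic point. -/
theorem trdeg_le_of_specializes (z ξ : P) (h : ξ ⤳ z) (hξ : (q ξ).asIdeal = ⊥) :
    @Algebra.trdeg ((Spec (CommRingCat.of A)).residueField (q z)) (P.residueField z) _ _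
        (q.residueFieldMap z).hom.toAlgebra ≤
      @Algebra.trdeg ((Spec (CommRingCat.of A)).residueField (q ξ)) (P.residueField ξ) _ _
        (q.residueFieldMap ξ).hom.toAlgebra := by
  letI algz : Algebra ((Spec (CommRingCat.of A)).residueField (q z)) (P.residueField z) :=
    (q.residueFieldMap z).hom.toAlgebra
  letI algξ : Algebra ((Spec (CommRingCat.of A)).residueField (q ξ)) (P.residueField ξ) :=
    (q.residueFieldMap ξ).hom.toAlgebra
  obtain ⟨ι, ā, hā⟩ := exists_isTranscendenceBasis'
    ((Spec (CommRingCat.of A)).residueField (q z)) (P.residueField z)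
  rw [← hā.cardinalMk_eq_trdeg]
  have hsurj := P.residue_surjective z
  choose a ha using fun i => hsurj (ā i)
  let ψ : A →+* P.presheaf.stalk z :=
    ((Scheme.ΓSpecIso (CommRingCat.of A)).inv ≫
      (Spec (CommRingCat.of A)).presheaf.germ ⊤ (q z) trivial ≫ q.stalkMap z).hom
  letI : Algebra A (P.presheaf.stalk z) := ψ.toAlgebra
  let φ : P.presheaf.stalk z →+* P.residueField ξ :=
    (P.presheaf.stalkSpecializes h ≫ P.residue ξ).hom
  have F1 : (algebraMap ((Spec (CommRingCat.of A)).residueField (q z)) (P.residueField z)).comp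
      (ev A (q z)) = (P.residue z).hom.comp (algebraMap A (P.presheaf.stalk z)) := by
    have F1cat : ((Scheme.ΓSpecIso (CommRingCat.of A)).inv ≫
        (Spec (CommRingCat.of A)).presheaf.germ ⊤ (q z) trivial ≫
          (Spec (CommRingCat.of A)).residue (q z)) ≫ q.residueFieldMap z =
        ((Scheme.ΓSpecIso (CommRingCat.of A)).inv ≫
          (Spec (CommRingCat.of A)).presheaf.germ ⊤ (q z) trivial ≫ q.stalkMap z) ≫
          P.residue z := by
      simp only [Category.assoc, Scheme.residue_residueFieldMap]
    exact congrArg CommRingCat.Hom.hom F1cat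
  have F2 : φ.comp (algebraMap A (P.presheaf.stalk z)) =
      (q.residueFieldMap ξ).hom.comp (ev A (q ξ)) := by
    have F2cat : ((Scheme.ΓSpecIso (CommRingCat.of A)).inv ≫
          (Spec (CommRingCat.of A)).presheaf.germ ⊤ (q z) trivial ≫ q.stalkMap z) ≫
          (P.presheaf.stalkSpecializes h ≫ P.residue ξ) =
        ((Scheme.ΓSpecIso (CommRingCat.of A)).inv ≫
        (Spec (CommRingCat.of A)).presheaf.germ ⊤ (q ξ) trivial ≫
          (Spec (CommRingCat.of A)).residue (q ξ)) ≫ q.residueFieldMap ξ := by
      simp only [Category.assoc]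
      rw [← Scheme.Hom.stalkSpecializes_stalkMap_assoc q ξ z h,
        TopCat.Presheaf.germ_stalkSpecializes_assoc, Scheme.residue_residueFieldMap]
    exact congrArg CommRingCat.Hom.hom F2cat
  have hinj : Function.Injective (φ.comp (algebraMap A (P.presheaf.stalk z))) := by
    rw [F2, RingHom.coe_comp]
    refine (RingHom.injective _).comp ?_
    rw [RingHom.injective_iff_ker_eq_bot, ker_ev, hξ]
  haveI : IsLocalHom (P.residue z).hom := by
    change IsLocalHom (IsLocalRing.residue _)
    infer_instance
  have hā' : AlgebraicIndependent ((Spec (CommRingCat.of A)).residueField (q z))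
      ((P.residue z).hom ∘ a) := by
    have : (P.residue z).hom ∘ a = ā := funext ha
    rw [this]; exact hā.1
  have key := algebraicIndependent_of_residue (ev A (q z)) (P.residue z).hom φ F1 hinj a hā'
  letI : Algebra A ((Spec (CommRingCat.of A)).residueField (q ξ)) := (ev A (q ξ)).toAlgebra
  letI : Algebra A (P.residueField ξ) := (φ.comp (algebraMap A (P.presheaf.stalk z))).toAlgebra
  haveI : IsScalarTower A ((Spec (CommRingCat.of A)).residueField (q ξ)) (P.residueField ξ) :=
    .of_algebraMap_eq fun r => congrArg (fun g : A →+* P.residueField ξ => g r) F2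
  haveI := isAlgebraic_ev A (q ξ) hξ
  have key2 := key.extendScalars ((Spec (CommRingCat.of A)).residueField (q ξ))
  exact key2.cardinalMk_le_trdeg

end V




set_option backward.isDefEq.respectTransparency false in
/-- A specialization `y' ⤳ y` in a scheme is witnessed by a morphism from the spectrum of a
valuation ring. -/
theorem exists_valuationRing_of_specializes {S : Scheme.{u}} {y' y : S} (h : y' ⤳ y) :
    ∃ (A : Type u) (_ : CommRing A) (_ : IsDomain A) (_ : ValuationRing A)
      (g : Spec (CommRingCat.of A) ⟶ S) (η : Spec (CommRingCat.of A)),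
      g (closedPoint A) = y ∧ g η = y' ∧ η.asIdeal = ⊥ := by
  let φ₀ : S.presheaf.stalk y ⟶ S.residueField y' :=
    S.presheaf.stalkSpecializes h ≫ S.residue y'
  obtain ⟨A, hA, hA_local⟩ := exists_factor_valuationRing φ₀.hom
  let stalk_to_A : S.presheaf.stalk y ⟶ CommRingCat.of A :=
    CommRingCat.ofHom (φ₀.hom.codRestrict _ hA)
  let g : Spec (CommRingCat.of A) ⟶ S := Spec.map stalk_to_A ≫ S.fromSpecStalk y
  let ι : Spec (S.residueField y') ⟶ Spec (CommRingCat.of A) :=
    Spec.map (CommRingCat.ofHom (algebraMap A (S.residueField y')))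
  have w : ι ≫ g = S.fromSpecResidueField y' := by
    have e1 : stalk_to_A ≫ CommRingCat.ofHom (algebraMap A (S.residueField y')) = φ₀ := rfl
    simp only [ι, g, ← Spec.map_comp_assoc, e1]
    simp only [φ₀, Spec.map_comp, Category.assoc, Scheme.SpecMap_stalkSpecializes_fromSpecStalk]
    rfl
  refine ⟨A, inferInstance, inferInstance, inferInstance, g, ι default, ?_, ?_, ?_⟩
  · have : Spec.map stalk_to_A (closedPoint A) = closedPoint (S.presheaf.stalk y) :=
      comap_closedPoint (S := A) (φ₀.hom.codRestrict A.toSubring hA)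
    simp only [g, Scheme.Hom.comp_base, TopCat.coe_comp, Function.comp_apply]
    rw [this, S.fromSpecStalk_closedPoint]
  · rw [← Scheme.Hom.comp_apply, w, Scheme.fromSpecResidueField_apply]
  · change Ideal.comap (algebraMap A (S.residueField y')) _ = ⊥
    have : ((default : Spec (S.residueField y'))).asIdeal = ⊥ :=
      Ideal.eq_bot_of_prime _
    rw [this]
    exact Ideal.comap_bot_of_injective _ (FaithfulSMul.algebraMap_injective _ _)




open Groth.Agent.H1.DimFormula Groth.Agent.H1.FibGen Groth.Agent.H1.FibDimBC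

set_option backward.isDefEq.respectTransparency false in
/-- Stacks 0D4H: for a flat morphism locally of finite type, the local fibre dimension at `x` is
attained at a generization of `x` over any prescribed generization of `f x`. -/
theorem exists_generization_fibreDimAt_ge {X S : Scheme.{u}} (f : X ⟶ S) [Flat f]
    [LocallyOfFiniteType f] (x : X) (y' : S) (h : y' ⤳ f x) :
    ∃ x' : X, f x' = y' ∧ x' ⤳ x ∧ FlatMor.fibreDimAt f x ≤ FlatMor.fibreDimAt f x' := by
  obtain ⟨A, _, _, _, g, η, hg1, hg2, hη⟩ := exists_valuationRing_of_specializes h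
  let fst := pullback.fst f g
  let snd := pullback.snd f g
  have hsq : IsPullback fst snd f g := IsPullback.of_hasPullback f g
  obtain ⟨p₀, hp1, hp2⟩ := Scheme.Pullback.exists_preimage_pullback (f := f) (g := g) x
    (closedPoint A : Spec (CommRingCat.of A)) hg1.symm
  obtain ⟨z, hz1, hz2, hz3, hz4⟩ := exists_fibre_generic_fibreDimAt_eq snd p₀
  obtain ⟨t, ht1, ht2⟩ := fibreDimAt_eq_trdeg_of_generic snd z
    (fun z' hz' => hz3 z' (hz'.trans hz1))
  have hηz : η ⤳ snd z := by
    rw [hz1]
    change η ⤳ pullback.snd f g p₀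
    rw [hp2]
    exact specializes_closedPoint η
  obtain ⟨ξ, hξ1, hξ2⟩ := (Flat.generalizingMap (f := snd)) hηz
  have hV := trdeg_le_of_specializes snd z ξ hξ1 (by rw [hξ2]; exact hη)
  obtain ⟨t', ht'1, ht'2⟩ := exists_fibreDimAt_eq_stalk_add_trdeg snd ξ
  rw [ht1, ht'1] at hV
  have htt' : t ≤ t' := by exact_mod_cast hV
  refine ⟨fst ξ, ?_, ?_, ?_⟩
  · rw [← Scheme.Hom.comp_apply, hsq.w, Scheme.Hom.comp_apply, hξ2, hg2]
  · rw [← hp1]
    exact (hξ1.trans hz2).map fst.continuous
  · rw [← fibreDimAt_eq_of_isPullback f g fst snd hsq ξ, ← hp1,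
      ← fibreDimAt_eq_of_isPullback f g fst snd hsq p₀, ← hz4, ht2, ht'2]
    have h0 : (0 : WithBot ℕ∞) ≤
        ringKrullDim ((snd.fiber (snd ξ)).presheaf.stalk (snd.asFiber ξ)) :=
      ringKrullDim_nonneg_of_nontrivial
    calc ((t : ℕ) : WithBot ℕ∞) ≤ (t' : WithBot ℕ∞) := by exact_mod_cast htt'
      _ = 0 + (t' : WithBot ℕ∞) := (zero_add _).symm
      _ ≤ _ := add_le_add_left h0 _




set_option backward.isDefEq.respectTransparency false in
/-- A locally constructible subset of a scheme stable under generalization is open. -/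
theorem isOpen_of_stableUnderGeneralization_of_isLocallyConstructible {S : Scheme.{u}}
    {T : Set S} (h1 : StableUnderGeneralization T) (h2 : IsLocallyConstructible T) :
    IsOpen T := by
  rw [isOpen_iff_forall_mem_open]
  intro y hy
  obtain ⟨i, y₀, rfl⟩ := S.affineCover.exists_eq y
  let fi := S.affineCover.f i
  have hopen : IsOpen (fi ⁻¹' T) := by
    refine PrimeSpectrum.isOpen_of_stableUnderGeneralization_of_isConstructible
      (h1.preimage fi.continuous) ?_
    exact (h2.preimage_of_isOpenEmbedding fi.isOpenEmbedding).isConstructible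
  refine ⟨fi '' (fi ⁻¹' T), Set.image_preimage_subset _ _, fi.isOpenEmbedding.isOpenMap _ hopen,
    ⟨y₀, hy, rfl⟩⟩

/-- A locally constructible subset of a scheme stable under specialization is closed. -/
theorem isClosed_of_stableUnderSpecialization_of_isLocallyConstructible {S : Scheme.{u}}
    {T : Set S} (h1 : StableUnderSpecialization T) (h2 : IsLocallyConstructible T) :
    IsClosed T := by
  rw [← isOpen_compl_iff]
  refine isOpen_of_stableUnderGeneralization_of_isLocallyConstructible h1.compl fun x => ?_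
  obtain ⟨U, hU, hU', hc⟩ := h2 x
  exact ⟨U, hU, hU', by simpa using hc.compl⟩




open Groth.Agent.H1.Chev Groth.Agent.H1.FibDimFP Groth.Agent.H1.FibDimBC Groth.Agent.H1.QFDim

variable {X S : Scheme.{u}} (f : X ⟶ S)

/-- For `f` flat, of finite presentation and quasi-compact, the set of points of the base
over which the local fibre dimension exceeds `n` somewhere is open. -/
theorem isOpen_image_fibreDimAt_gt [Flat f] [LocallyOfFinitePresentation f] [QuasiCompact f]
    (n : ℕ) : IsOpen (f '' {x : X | ¬ FlatMor.fibreDimAt f x ≤ n}) := by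
  refine isOpen_of_stableUnderGeneralization_of_isLocallyConstructible ?_ ?_
  · rintro y y' hy ⟨x, hx, rfl⟩
    obtain ⟨x', hx'1, -, hx'2⟩ := exists_generization_fibreDimAt_ge f x y' hy
    exact ⟨x', fun h => hx (hx'2.trans h), hx'1⟩
  · refine f.isLocallyConstructible_image ?_
    have h1 := (isRetrocompact_fibreDimAt_le f n).isConstructible (isOpen_fibreDimAt_le f n)
    exact h1.compl.isLocallyConstructible

theorem isClosed_image_fibreDimAt_gt [LocallyOfFiniteType f] (hf : IsClosedMap f)
    (n : ℕ) : IsClosed (f '' {x : X | ¬ FlatMor.fibreDimAt f x ≤ n}) :=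
  hf _ (isOpen_fibreDimAt_le f n).isClosed_compl

theorem fibreDimAt_morphismRestrict [LocallyOfFiniteType f] (U : S.Opens)
    (x' : (f ⁻¹ᵁ U : X.Opens)) :
    FlatMor.fibreDimAt (f ∣_ U) x' = FlatMor.fibreDimAt f x'.1 :=
  fibreDimAt_eq_of_isPullback f U.ι (f ⁻¹ᵁ U).ι (f ∣_ U) (isPullback_morphismRestrict f U).flip x'

/-- S0450 -/
theorem s0450 [Flat f] [IsProper f] [LocallyOfFinitePresentation f] (U : S.Opens)
    (hU : Dense (U : Set ↑S)) [IsFinite (f ∣_ U)] : IsFinite f := by
  rw [IsFinite.iff_isProper_and_locallyQuasiFinite]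
  refine ⟨inferInstance, ?_⟩
  rw [locallyQuasiFinite_iff_fibreDimAt]
  intro x
  refine le_antisymm ?_ (zero_le_fibreDimAt f x)
  by_contra hx
  have hne : (f '' {x : X | ¬ FlatMor.fibreDimAt f x ≤ (0 : ℕ)}).Nonempty := ⟨f x, x, hx, rfl⟩
  obtain ⟨y, ⟨x₁, hx₁, rfl⟩, hyU⟩ :=
    hU.inter_open_nonempty _ (isOpen_image_fibreDimAt_gt f 0) hne
  apply hx₁
  have : FlatMor.fibreDimAt (f ∣_ U) ⟨x₁, hyU⟩ = 0 :=
    (locallyQuasiFinite_iff_fibreDimAt (f ∣_ U)).mp inferInstance _
  rw [fibreDimAt_morphismRestrict] at this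
  exact this.le

/-- S10889 -/
theorem s10889 {X Y : Scheme.{u}} (f : X ⟶ Y) [IsProper f] [Flat f]
    [LocallyOfFinitePresentation f] :
    IsClopen {y : Y | topologicalKrullDim (f.base ⁻¹' {y}) = 0} ∧
      ∀ U : Y.Opens, (U : Set Y) ⊆ {y : Y | topologicalKrullDim (f.base ⁻¹' {y}) = 0} →
        IsFinite (f ∣_ U) := by
  have hdim : ∀ y : Y, topologicalKrullDim (f.base ⁻¹' {y}) = 0 ↔
      (y ∈ Set.range f ∧ y ∉ f '' {x : X | ¬ FlatMor.fibreDimAt f x ≤ (0 : ℕ)}) := by
    intro y
    have e : topologicalKrullDim ↥(f ⁻¹' {y}) = topologicalKrullDim ↥(f.fiber y) :=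
      (IsHomeomorph.topologicalKrullDim_eq _ (f.fiberHomeo y).isHomeomorph).symm
    change topologicalKrullDim ↥(f ⁻¹' {y}) = 0 ↔ _
    rw [e, le_antisymm_iff, fiber_dim_le_iff]
    constructor
    · rintro ⟨h1, h2⟩
      refine ⟨?_, ?_⟩
      · have hne : Nonempty (f.fiber y) := by
          by_contra hne
          rw [not_nonempty_iff] at hne
          have : topologicalKrullDim (f.fiber y) = ⊥ := by
            unfold topologicalKrullDim
            haveI : IsEmpty (TopologicalSpace.IrreducibleCloseds (f.fiber y)) :=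
              ⟨fun s => hne.elim s.isIrreducible'.nonempty.some⟩
            exact Order.krullDim_eq_bot
          rw [this] at h2
          exact absurd h2 (not_le.2 (WithBot.bot_lt_coe (0 : ℕ∞)))
        obtain ⟨z⟩ := hne
        exact ⟨f.fiberι y z, Groth.Agent.H1.GenFib.fiberι_apply_mem f y z⟩
      · rintro ⟨x, hx, rfl⟩
        exact hx (h1 x rfl)
    · rintro ⟨⟨x, rfl⟩, h2⟩
      refine ⟨fun x' hx' => ?_, ?_⟩
      · by_contra hc
        exact h2 ⟨x', hc, hx'⟩
      · haveI : Nonempty (f.fiber (f x)) := ⟨f.asFiber x⟩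
        exact Groth.Agent.H5.AG.topologicalKrullDim_nonneg _
  have hcl : IsClosedMap f := f.isClosedMap
  have hop : IsOpenMap f := isOpenMap_of_generalizingMap f (Flat.generalizingMap f)
  have hset : {y : Y | topologicalKrullDim (f.base ⁻¹' {y}) = 0} =
      Set.range f ∩ (f '' {x : X | ¬ FlatMor.fibreDimAt f x ≤ (0 : ℕ)})ᶜ := by
    ext y; exact hdim y
  refine ⟨?_, fun U hUV => ?_⟩
  · rw [hset]
    refine ⟨(hcl.isClosed_range).inter (isOpen_image_fibreDimAt_gt f 0).isClosed_compl,
      hop.isOpen_range.inter (isClosed_image_fibreDimAt_gt f hcl 0).isOpen_compl⟩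
  · rw [IsFinite.iff_isProper_and_locallyQuasiFinite]
    refine ⟨inferInstance, ?_⟩
    rw [locallyQuasiFinite_iff_fibreDimAt]
    intro x'
    refine le_antisymm ?_ (zero_le_fibreDimAt _ x')
    refine (fibreDimAt_morphismRestrict f U x').le.trans ?_
    have hy : f x'.1 ∈ (U : Set Y) := x'.2
    have := ((hdim _).mp (hUV hy)).2
    by_contra hc
    exact this ⟨x'.1, hc, rfl⟩

end Groth.Agent.H1.ValDim
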