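import Mathlib
import Groth.Agent.Lib.Helper1.ValDim
import Groth.Agent.Lib.Helper1.FibDimEt
import Groth.Agent.Lib.Helper5.QcClosure
import Groth.Agent.Lib.Helper1.AlgSpBC
import Groth.Agent.Lib.Helper5.AlgSp.QCompact
import Groth.Prelude.Def_AlgSp4
import Groth.Prelude.Def_AlgSpDec
import Groth.Prelude.Def_Flat

open AlgebraicGeometry CategoryTheory CategoryTheory.Limits IsLocalRing Topology

set_option linter.style.haveILetI false

namespace Groth.Agent.H1.ValDim2

universe u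




open Groth.Agent.H1.ValDim Groth.Agent.H1.FibDimEt

variable {X Y : Scheme.{u}} (f : X ⟶ Y)

set_option backward.isDefEq.respectTransparency false in
/-- For `f` flat and locally of finite presentation, the set of points of the base over which
the local fibre dimension exceeds `n` somewhere is open. -/
theorem isOpen_image_fibreDimAt_gt' [Flat f] [LocallyOfFinitePresentation f]
    (n : ℕ) : IsOpen (f '' {x : X | ¬ FlatMor.fibreDimAt f x ≤ n}) := by
  rw [isOpen_iff_forall_mem_open]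
  rintro _ ⟨x, hx, rfl⟩
  obtain ⟨W, hW, hyW⟩ : ∃ W : Y.Opens, IsAffineOpen W ∧ f x ∈ W := by
    obtain ⟨_, ⟨W, hW, rfl⟩, hyW, -⟩ :=
      Y.isBasis_affineOpens.exists_subset_of_mem_open (Set.mem_univ (f x)) isOpen_univ
    exact ⟨W, hW, hyW⟩
  obtain ⟨U, hU, hxU, hUW⟩ : ∃ U : X.Opens, IsAffineOpen U ∧ x ∈ U ∧ U ≤ f ⁻¹ᵁ W := by
    obtain ⟨_, ⟨U, hU, rfl⟩, hxU, hUW⟩ := X.isBasis_affineOpens.exists_subset_of_mem_open
      (show x ∈ (f ⁻¹ᵁ W : Set X) from hyW) (f ⁻¹ᵁ W).isOpen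
    exact ⟨U, hU, hxU, hUW⟩
  let g : (U : Scheme.{u}) ⟶ W := f.resLE W U hUW
  have hcomm : g ≫ W.ι = U.ι ≫ f := Scheme.Hom.resLE_comp_ι f hUW
  haveI : IsAffine (U : Scheme.{u}) := hU
  haveI : IsAffine (W : Scheme.{u}) := hW
  haveI : QuasiCompact g := by
    rw [HasAffineProperty.iff_of_isAffine (P := @QuasiCompact)]
    infer_instance
  have hdim : ∀ u : (U : Scheme.{u}), FlatMor.fibreDimAt f (U.ι u) = FlatMor.fibreDimAt g u :=
    fun u => fibreDimAt_eq_of_etale_square f g U.ι W.ι hcomm u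
  have hopen := isOpen_image_fibreDimAt_gt g n
  refine ⟨W.ι '' (g '' {u | ¬ FlatMor.fibreDimAt g u ≤ n}), ?_,
    W.ι.isOpenEmbedding.isOpenMap _ hopen, ?_⟩
  · rintro _ ⟨_, ⟨u, hu, rfl⟩, rfl⟩
    refine ⟨U.ι u, ?_, ?_⟩
    · change ¬ _ ≤ _
      rw [hdim]; exact hu
    · rw [← Scheme.Hom.comp_apply, ← hcomm, Scheme.Hom.comp_apply]
  · let u₀ : (U : Scheme.{u}) := ⟨x, hxU⟩
    refine ⟨g u₀, ⟨u₀, ?_, rfl⟩, ?_⟩
    · change ¬ FlatMor.fibreDimAt g u₀ ≤ _
      rw [← hdim]; exact hx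
    · rw [← Scheme.Hom.comp_apply, hcomm, Scheme.Hom.comp_apply]; rfl

/-- Stacks 0D4I-type statement: for a flat morphism locally of finite type, if the local fibre
dimension is at most `d` over a dense open of the base, and either the morphism is locally of
finite presentation or the open is retrocompact, then it is at most `d` everywhere. -/
theorem fibreDimAt_le_of_dense_open [Flat f] [LocallyOfFiniteType f] (V : Y.Opens)
    (hV : Dense (V : Set Y)) (d : ℕ)
    (hd : ∀ x : X, f x ∈ V → FlatMor.fibreDimAt f x ≤ d)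
    (h : LocallyOfFinitePresentation f ∨ QuasiCompact V.ι) (x : X) :
    FlatMor.fibreDimAt f x ≤ d := by
  by_contra hx
  rcases h with h | h
  · have hne : (f '' {x : X | ¬ FlatMor.fibreDimAt f x ≤ d}).Nonempty := ⟨f x, x, hx, rfl⟩
    obtain ⟨y, ⟨x₁, hx₁, rfl⟩, hyV⟩ :=
      hV.inter_open_nonempty _ (isOpen_image_fibreDimAt_gt' f d) hne
    exact hx₁ (hd x₁ hyV)
  · have hcl : f x ∈ closure (Set.range V.ι.base) := by
      rw [Scheme.Opens.range_ι, hV.closure_eq]; trivial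
    obtain ⟨v, hv⟩ := Groth.Agent.H5.exists_specializes_of_mem_closure_range V.ι (f x) hcl
    obtain ⟨x', hx'1, -, hx'2⟩ := exists_generization_fibreDimAt_ge f x _ hv
    exact hx (hx'2.trans (hd x' (by rw [hx'1]; exact v.2)))




open _root_.AlgSp Groth.Agent.H5.EtSrc Groth.Agent.H5.AlgSp Groth.Agent.H1.AlgSpDim

set_option backward.isDefEq.respectTransparency false in
theorem s10653 {S : Scheme.{u}} {X Y V : AlgSp.Space S} (f : X ⟶ Y) (j : V ⟶ Y) (d : ℕ)
    (hf1 : AlgSp.LocP @Flat f.hom) (hf2 : AlgSp.LocP @LocallyOfFiniteType f.hom)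
    (hj1 : AlgSp.RepWith @IsOpenImmersion j.hom) (hj2 : Dense (Set.range (AlgSp.Points.map j.hom)))
    (P : AlgSp.Space S) (fst : P ⟶ X) (snd : P ⟶ V) (hP : IsPullback fst.hom snd.hom f.hom j.hom)
    (hV : ∀ x, AlgSp.HasAtMor (fun _ _ h u => FlatMor.fibreDimAt h u ≤ (d : WithBot ℕ∞)) snd.hom x)
    (h : AlgSp.LocP @LocallyOfFinitePresentation f.hom ∨ AlgSp.IsQuasiCompactMor j.hom) :
    ∀ x, AlgSp.HasAtMor (fun _ _ h u => FlatMor.fibreDimAt h u ≤ (d : WithBot ℕ∞)) f.hom x := by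
  intro x
  have hQ : EtLocal (fun _ _ h u => FlatMor.fibreDimAt h u ≤ (d : WithBot ℕ∞)) :=
    etLocal_fibreDimAt_pred (fun t => t ≤ (d : WithBot ℕ∞))
  have hQ' : BCLocal (fun _ _ h u => FlatMor.fibreDimAt h u ≤ (d : WithBot ℕ∞)) :=
    bcLocal_fibreDimAt_pred (fun t => t ≤ (d : WithBot ℕ∞))
  obtain ⟨W, b, hbe, hbs⟩ := Y.property.atlas
  obtain ⟨U, a, hh, hae, has, comm⟩ := exists_chart_diagram_surj X.property f.hom hbe hbs
  obtain ⟨u, rfl⟩ := ofPt_surjective_of_repWith has x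
  refine ⟨U, W, a, b, hh, u, hae, hbe, comm, rfl, ?_⟩
  haveI : Flat hh.left := hf1 a b hh hae hbe comm
  haveI : LocallyOfFiniteType hh.left := hf2 a b hh hae hbe comm
  obtain ⟨W', i, p, sq⟩ := ((repWith_iff _ _).mp hj1).1 b
  haveI : IsOpenImmersion i.left := ((repWith_iff _ _).mp hj1).2 b p i sq
  let WV : W.left.Opens := i.left.opensRange
  have hmem : ∀ w : W.left, w ∈ WV ↔ Points.ofPt b w ∈ Set.range (Points.map j.hom) := by
    intro w
    constructor
    · rintro ⟨w', rfl⟩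
      refine ⟨Points.ofPt p w', ?_⟩
      rw [Points.map_ofPt, sq.w, ofPt_yon_map_comp]
    · rintro ⟨y, hy⟩
      obtain ⟨v, hv, -⟩ := exists_point_of_isPullback sq y w hy
      exact ⟨v, hv⟩
  have hdense : Dense (WV : Set W.left) := by
    rw [dense_iff_inter_open]
    intro O hO hOne
    obtain ⟨_, ⟨w, hwO, rfl⟩, hw⟩ := hj2.inter_open_nonempty _
      (isOpenMap_ofPt_of_etale hbe O hO) (hOne.image _)
    exact ⟨w, hwO, (hmem w).mpr hw⟩
  have hd : ∀ u' : U.left, hh.left u' ∈ WV →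
      FlatMor.fibreDimAt hh.left u' ≤ (d : WithBot ℕ∞) := by
    intro u' hu'
    have e1 : Points.map f.hom (Points.ofPt a u') = Points.ofPt b (hh.left u') :=
      map_ofPt_chart a b hh comm u'
    obtain ⟨y, hy⟩ := (hmem _).mp hu'
    obtain ⟨z, hz1, -⟩ := points_pullback_surjective hP (Points.ofPt a u') y (e1.trans hy.symm)
    have := (hasAtMor_base_change hQ hQ' X.property Y.property V.property hP hf2 z).mp (hV z)
    rw [hz1] at this
    exact hasAtMor_chart hQ hf2 a b hh hae hbe comm u' this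
  refine fibreDimAt_le_of_dense_open hh.left WV hdense d hd ?_ u
  rcases h with h | h
  · left; exact h a b hh hae hbe comm
  · right
    have h1 := repWith_quasiCompact_of_isQuasiCompactMor ((repWith_iff _ _).mp hj1).1 h
    haveI hqc : QuasiCompact i.left := ((repWith_iff _ _).mp h1).2 b p i sq
    have e : WV.ι = i.left.isoOpensRange.inv ≫ i.left := by
      rw [Iso.eq_inv_comp]; exact Scheme.Hom.isoOpensRange_hom_ι _
    rw [e]
    infer_instance

end Groth.Agent.H1.ValDim2
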