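import Mathlib
import Groth.Prelude.Def_AlgGrp
import Groth.Agent.Lib.Helper1.GrpEquidim
import Groth.Agent.Lib.Helper1.ValDim2
import Groth.Agent.Lib.Helper1.ValDimB
import Groth.Agent.Lib.Helper1.Chev2
import Groth.Agent.Lib.Helper1.FlatFibDim

/-! Fibres of a group scheme over an arbitrary base are group schemes over the residue fields
(helper1); consequence: for `G` flat and locally of finite presentation over `S`, the fibre
dimension `s ↦ dim G_s` is locally constant (SGA3 VI_B 4.3). -/

set_option autoImplicit false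
universe u

namespace Groth.Agent.H1.GrpFib

open CategoryTheory MonoidalCategory CartesianMonoidalCategory MonObj AlgebraicGeometry Limits

variable {S : Scheme.{u}} (G : Over S) [GrpObj G]

/-- The fibre of a group scheme over a point, as an object over the residue field. -/
noncomputable abbrev fib (s : S) : Over (Spec (CommRingCat.of (S.residueField s))) :=
  (Over.pullback (S.fromSpecResidueField s)).obj G

noncomputable instance (s : S) : GrpObj (fib G s) := Functor.grpObjObj

instance (s : S) [LocallyOfFiniteType G.hom] : LocallyOfFiniteType (fib G s).hom := by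
  dsimp [fib]; infer_instance

set_option backward.isDefEq.respectTransparency false in
/-- The local fibre dimension of a group scheme at any point is the dimension of the fibre. -/
theorem fibreDimAt_eq_dim_fiber [LocallyOfFiniteType G.hom] (x : G.left) :
    FlatMor.fibreDimAt G.hom x = topologicalKrullDim ↥(G.hom.fiber (G.hom x)) :=
  (GrpEquidim.s5341 (S.residueField (G.hom x)) (fib G (G.hom x))).2 (G.hom.asFiber x)

theorem fibreDimAt_eq_dim_preimage [LocallyOfFiniteType G.hom] (x : G.left) :
    FlatMor.fibreDimAt G.hom x = topologicalKrullDim ↥(G.hom.base ⁻¹' {G.hom x}) := by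
  rw [fibreDimAt_eq_dim_fiber G x, ValDim.dim_fiber_eq_dim_preimage]

theorem exists_fibreDimAt_eq_natCast {X Y : Scheme.{u}} (f : X ⟶ Y) [LocallyOfFiniteType f]
    (x : X) : ∃ n : ℕ, FlatMor.fibreDimAt f x = (n : WithBot ℕ∞) := by
  have h : LocallyOfFiniteType (f.fiberToSpecResidueField (f x)) := by
    unfold Scheme.Hom.fiberToSpecResidueField
    exact MorphismProperty.pullback_snd _ _ inferInstance
  exact @FlatFibDim.exists_localDim_eq_natCast (Y.residueField (f x)) _ _
    (f.fiberToSpecResidueField (f x)) h (f.asFiber x)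

/-- the unit section -/
noncomputable abbrev unitSec : S ⟶ G.left := η[G].left

theorem unitSec_comp : unitSec G ≫ G.hom = 𝟙 S := by
  exact Over.w η[G]

theorem hom_unitSec (s : S) : G.hom (unitSec G s) = s := by
  rw [← Scheme.Hom.comp_apply, unitSec_comp]; rfl

theorem dim_preimage_eq [LocallyOfFiniteType G.hom] (s : S) :
    topologicalKrullDim ↥(G.hom.base ⁻¹' {s}) = FlatMor.fibreDimAt G.hom (unitSec G s) := by
  rw [fibreDimAt_eq_dim_preimage G (unitSec G s), hom_unitSec]

theorem dim_preimage_eq' [LocallyOfFiniteType G.hom] (x : G.left) :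
    topologicalKrullDim ↥(G.hom.base ⁻¹' {G.hom x}) = FlatMor.fibreDimAt G.hom x :=
  (fibreDimAt_eq_dim_preimage G x).symm

set_option backward.isDefEq.respectTransparency false in
theorem s3022 [Flat G.hom] [LocallyOfFinitePresentation G.hom] :
    IsLocallyConstant (fun s : S => topologicalKrullDim ↥(G.hom.base ⁻¹' {s})) := by
  rw [IsLocallyConstant.iff_exists_open]
  intro s
  obtain ⟨n, hn⟩ := exists_fibreDimAt_eq_natCast G.hom (unitSec G s)
  have hU1 : IsOpen ((unitSec G) ⁻¹' {x | FlatMor.fibreDimAt G.hom x ≤ (n : WithBot ℕ∞)}) :=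
    (Chev.isOpen_fibreDimAt_le G.hom n).preimage (unitSec G).continuous
  have hs1 : s ∈ (unitSec G) ⁻¹' {x | FlatMor.fibreDimAt G.hom x ≤ (n : WithBot ℕ∞)} := by
    change FlatMor.fibreDimAt G.hom (unitSec G s) ≤ _
    rw [hn]
  rcases Nat.eq_zero_or_pos n with h0 | hpos
  · subst h0
    refine ⟨_, hU1, hs1, ?_⟩
    intro s' hs'
    change FlatMor.fibreDimAt G.hom (unitSec G s') ≤ _ at hs'
    rw [dim_preimage_eq G s', dim_preimage_eq G s, hn]
    exact le_antisymm hs' (FlatFibDim.fibreDimAt_nonneg G.hom _)
  · obtain ⟨m, rfl⟩ : ∃ m, n = m + 1 := ⟨n - 1, by omega⟩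
    have hU2 := ValDim2.isOpen_image_fibreDimAt_gt' G.hom m
    refine ⟨_, hU1.inter hU2, ⟨hs1, unitSec G s, ?_, hom_unitSec G s⟩, ?_⟩
    · change ¬ FlatMor.fibreDimAt G.hom (unitSec G s) ≤ _
      rw [hn]
      intro h
      have : m + 1 ≤ m := by exact_mod_cast h
      omega
    · rintro s' ⟨hs'1, x, hx, rfl⟩
      change FlatMor.fibreDimAt G.hom (unitSec G (G.hom x)) ≤ _ at hs'1
      change ¬ FlatMor.fibreDimAt G.hom x ≤ _ at hx
      rw [dim_preimage_eq G s, hn]
      rw [← dim_preimage_eq G (G.hom x)] at hs'1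
      rw [dim_preimage_eq' G x] at hs'1 ⊢
      obtain ⟨k, hk⟩ := exists_fibreDimAt_eq_natCast G.hom x
      rw [hk] at hs'1 hx ⊢
      have h1 : k ≤ m + 1 := by exact_mod_cast hs'1
      have h2 : ¬ k ≤ m := fun h => hx (by exact_mod_cast h)
      have : k = m + 1 := by omega
      rw [this]

end Groth.Agent.H1.GrpFib
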