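import Mathlib
import Groth.Prelude.Def_AlgGrp
import Groth.Prelude.Def_MoreMor
import Groth.Agent.Lib.Helper1.CritFib4
import Groth.Agent.Lib.Helper9.Misc.FLH4
import Groth.Agent.Lib.Helper9.AlgGrpAct
import Groth.Agent.Lib.Helper1.GrpFib
import Groth.Agent.Lib.Helper1.AlgSpDim3
import Groth.Agent.S0386

/-! Homomorphisms of group schemes over a base, fibre by fibre (helper1): the flat locus and the
quasi-finite locus of a homomorphism `u : G ⟶ H` are inverse images of opens of the base
(SGA3 VI_B 2.5). -/

set_option autoImplicit false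
universe u

namespace Groth.Agent.H1.GrpFibHom

open CategoryTheory CategoryTheory.Limits MonoidalCategory CartesianMonoidalCategory MonObj GrpObj
  AlgebraicGeometry
open Groth.Agent.H1.CritFib Groth.Agent.H9.FLH

set_option backward.isDefEq.respectTransparency false in
/-- fibrewise flatness criterion, square form -/
theorem crit_square {X Y S : Scheme.{u}} (f : X ⟶ Y) (g : Y ⟶ S) (h : X ⟶ S) (hfg : f ≫ g = h)
    [LocallyOfFinitePresentation h] [LocallyOfFiniteType g] (x : X)
    (fs : h.fiber (h x) ⟶ g.fiber (h x))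
    (h1 : fs ≫ g.fiberι (h x) = h.fiberι (h x) ≫ f)
    (h2 : fs ≫ g.fiberToSpecResidueField (h x) = h.fiberToSpecResidueField (h x)) :
    ((h.stalkMap x).hom.Flat ∧ (fs.stalkMap (h.asFiber x)).hom.Flat) ↔
      ((g.stalkMap (f x)).hom.Flat ∧ (f.stalkMap x).hom.Flat) := by
  subst hfg
  have hfs : fs = MoreMor.fiberMap f g (g (f x)) := by
    apply pullback.hom_ext
    · exact h1.trans (fiberMap_fiberι f g _).symm
    · exact h2.trans (fiberMap_fiberToSpecResidueField f g _).symm
  subst hfs
  exact crit_stalk_iff f g x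

section Fib

variable {S : Scheme.{u}} {G H : Over S} (u : G ⟶ H)

/-- the map induced by `u` on the fibres over `s`. -/
noncomputable abbrev fibHom (s : S) : GrpFib.fib G s ⟶ GrpFib.fib H s :=
  (Over.pullback (S.fromSpecResidueField s)).map u

theorem fibHom_fiberι (s : S) :
    (fibHom u s).left ≫ H.hom.fiberι s = G.hom.fiberι s ≫ u.left := by
  simp only [fibHom, Over.pullback, Scheme.Hom.fiberι, Over.homMk_left]
  exact pullback.lift_fst _ _ _

theorem fibHom_fiberToSpec (s : S) :
    (fibHom u s).left ≫ H.hom.fiberToSpecResidueField s = G.hom.fiberToSpecResidueField s := by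
  simp only [fibHom, Over.pullback, Scheme.Hom.fiberToSpecResidueField, Over.homMk_left]
  exact pullback.lift_snd _ _ _

theorem isPullback_fibHom (s : S) :
    IsPullback (G.hom.fiberι s) (fibHom u s).left u.left (H.hom.fiberι s) := by
  have P1 : IsPullback (G.hom.fiberι s) (G.hom.fiberToSpecResidueField s) G.hom
      (S.fromSpecResidueField s) := IsPullback.of_hasPullback _ _
  have Q1 : IsPullback (H.hom.fiberι s) (H.hom.fiberToSpecResidueField s) H.hom
      (S.fromSpecResidueField s) := IsPullback.of_hasPullback _ _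
  refine (IsPullback.of_right ?_ (fibHom_fiberι u s) Q1.flip).flip
  rw [fibHom_fiberToSpec, Over.w u]
  exact P1.flip

theorem exists_fiberι_eq {X Y : Scheme.{u}} (f : X ⟶ Y) (x : X) (s : Y) (hx : f x = s) :
    ∃ x' : f.fiber s, f.fiberι s x' = x := by
  have : x ∈ Set.range (f.fiberι s) := by
    rw [Scheme.Hom.range_fiberι]
    exact hx
  exact this

end Fib

section Flat

variable {S : Scheme.{u}} {G H : Over S} [GrpObj G] [GrpObj H] (u : G ⟶ H) [IsMonHom u]

set_option backward.isDefEq.respectTransparency false in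
theorem flat_fibHom_iff [Flat G.hom] [LocallyOfFinitePresentation G.hom]
    [LocallyOfFiniteType H.hom] (x : G.left) :
    (u.left.stalkMap x).hom.Flat ↔ Flat (fibHom u (G.hom x)).left := by
  haveI hfl : Flat (u.left ≫ H.hom) := by rw [Over.w u]; infer_instance
  have hGx : (G.hom.stalkMap x).hom.Flat := Flat.stalkMap G.hom x
  have crit := crit_square u.left H.hom G.hom (Over.w u) x (fibHom u (G.hom x)).left
    (fibHom_fiberι u _) (fibHom_fiberToSpec u _)
  constructor
  · intro hu
    have hH : (H.hom.stalkMap (u.left x)).hom.Flat :=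
      FlatAt.of_comp u.left H.hom x hu (Flat.stalkMap (u.left ≫ H.hom) x)
    have h3 := (crit.mpr ⟨hH, hu⟩).2
    haveI : Subsingleton ↥(Spec (CommRingCat.of (S.residueField (G.hom x)))) :=
      inferInstanceAs (Subsingleton (PrimeSpectrum (S.residueField (G.hom x))))
    haveI : Flat (GrpFib.fib G (G.hom x)).hom := by dsimp [GrpFib.fib]; infer_instance
    exact flat_hom (fibHom u (G.hom x)) (G.hom.asFiber x) h3
  · intro hfl
    exact (crit.mp ⟨hGx, Flat.stalkMap _ _⟩).2

set_option backward.isDefEq.respectTransparency false in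
theorem s5312 [Flat G.hom] [LocallyOfFinitePresentation G.hom] [LocallyOfFiniteType H.hom] :
    IsOpen {s : S | Flat (fibHom u s).left} ∧
    {x : G.left | (u.left.stalkMap x).hom.Flat} =
      G.hom.base ⁻¹' {s : S | Flat (fibHom u s).left} := by
  have h2 : {x : G.left | (u.left.stalkMap x).hom.Flat} =
      G.hom.base ⁻¹' {s : S | Flat (fibHom u s).left} := by
    ext x; exact flat_fibHom_iff u x
  refine ⟨?_, h2⟩
  haveI : LocallyOfFinitePresentation u.left := by
    haveI : LocallyOfFinitePresentation (u.left ≫ H.hom) := by rw [Over.w u]; infer_instance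
    exact locallyOfFinitePresentation_of_comp u.left H.hom
  have hW : IsOpen {x : G.left | (u.left.stalkMap x).hom.Flat} := Groth.Agent.S0386.result u.left
  have hU : {s : S | Flat (fibHom u s).left} =
      (GrpFib.unitSec G).base ⁻¹' {x : G.left | (u.left.stalkMap x).hom.Flat} := by
    ext s
    rw [h2]
    simp only [Set.mem_preimage, Set.mem_ofPred_eq]
    have hs := GrpFib.hom_unitSec G s
    constructor
    · intro h; rw [hs]; exact h
    · intro h; rw [hs] at h; exact h
  rw [hU]
  exact hW.preimage (GrpFib.unitSec G).continuous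

end Flat

section QF

variable {S : Scheme.{u}} {G H : Over S} [GrpObj G] [GrpObj H] (v : G ⟶ H) [IsMonHom v]

theorem shear_comm : shear (regAction G) ≫ (G ◁ v) = (G ◁ v) ≫ shear (homAction v) := by
  apply CartesianMonoidalCategory.hom_ext
  · simp [shear]
  · rw [Category.assoc, whiskerLeft_snd, ← Category.assoc, shear_snd, Category.assoc, shear_snd]
    show μ[G] ≫ v = (G ◁ v) ≫ (v ▷ H) ≫ μ[H]
    rw [← Category.assoc, ← tensorHom_def', IsMonHom.mul_hom]

set_option backward.isDefEq.respectTransparency false in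
/-- the local fibre dimension of a homomorphism of group schemes over a one-point base is
constant. -/
theorem fibreDimAt_hom_const [Subsingleton S] [LocallyOfFiniteType v.left] (g g₀ : G.left) :
    FlatMor.fibreDimAt v.left g = FlatMor.fibreDimAt v.left g₀ := by
  have hsq : IsPullback (snd G G).left (G ◁ v).left v.left (snd G H).left :=
    (Groth.Agent.H9.AlgGrpAct.isPullback_whiskerLeft G v).flip
  haveI : LocallyOfFiniteType (G ◁ v).left :=
    MorphismProperty.of_isPullback (P := @LocallyOfFiniteType) hsq inferInstance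
  have key : ∀ w : (G ⊗ G).left, FlatMor.fibreDimAt (G ◁ v).left w =
      FlatMor.fibreDimAt v.left ((snd G G).left w) := fun w =>
    Groth.Agent.H1.FibDimBC.fibreDimAt_eq_of_isPullback v.left (snd G H).left (snd G G).left
      (G ◁ v).left hsq w
  haveI : IsIso (shear (regAction G)) :=
    ⟨shearInv (regAction G), shear_shearInv _, shearInv_shear _⟩
  haveI : IsIso (shear (regAction G)).left :=
    inferInstanceAs (IsIso ((Over.forget _).map (shear (regAction G))))
  haveI : IsIso (shear (homAction v)) :=
    ⟨shearInv (homAction v), shear_shearInv _, shearInv_shear _⟩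
  haveI : IsIso (shear (homAction v)).left :=
    inferInstanceAs (IsIso ((Over.forget _).map (shear (homAction v))))
  have hz : ∀ z : (G ⊗ G).left, FlatMor.fibreDimAt v.left (μ[G].left z) =
      FlatMor.fibreDimAt v.left ((snd G G).left z) := by
    intro z
    have e1 : μ[G].left z = (snd G G).left ((shear (regAction G)).left z) := by
      rw [← Scheme.Hom.comp_apply, ← Over.comp_left, shear_snd]
      rfl
    rw [e1, ← key, ← Groth.Agent.H1.CMQF.fibreDimAt_comp_isOpenImmersion, ← Over.comp_left,
      shear_comm, Over.comp_left, Groth.Agent.H1.CMQF.fibreDimAt_comp_iso, key]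
  obtain ⟨z, hz1, hz2⟩ := exists_mul_eq (G := G) g g₀
  rw [← hz1, ← hz2]
  exact hz z

set_option backward.isDefEq.respectTransparency false in
theorem s5315 (u : G ⟶ H) [IsMonHom u] [LocallyOfFiniteType u.left] :
    IsOpen {s : S | LocallyQuasiFinite (fibHom u s).left} ∧
    {x : G.left | ∃ W : G.left.Opens, x ∈ W ∧ LocallyQuasiFinite (W.ι ≫ u.left)} =
      G.hom.base ⁻¹' {s : S | LocallyQuasiFinite (fibHom u s).left} := by
  have hlft : ∀ s, LocallyOfFiniteType (fibHom u s).left := fun s =>
    MorphismProperty.of_isPullback (P := @LocallyOfFiniteType) (isPullback_fibHom u s) inferInstance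
  have hb : ∀ (s : S) (x' : G.hom.fiber s), FlatMor.fibreDimAt (fibHom u s).left x' =
      FlatMor.fibreDimAt u.left (G.hom.fiberι s x') := fun s x' =>
    Groth.Agent.H1.FibDimBC.fibreDimAt_eq_of_isPullback u.left (H.hom.fiberι s) (G.hom.fiberι s)
      (fibHom u s).left (isPullback_fibHom u s) x'
  have hd : ∀ (s : S) (x : G.left), G.hom x = s →
      (FlatMor.fibreDimAt u.left x = 0 ↔ LocallyQuasiFinite (fibHom u s).left) := by
    intro s x hx
    obtain ⟨x', hx'⟩ := exists_fiberι_eq G.hom x s hx
    haveI := hlft s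
    haveI : Subsingleton ↥(Spec (CommRingCat.of (S.residueField s))) :=
      inferInstanceAs (Subsingleton (PrimeSpectrum (S.residueField s)))
    rw [Groth.Agent.H1.QFDim.locallyQuasiFinite_iff_fibreDimAt]
    constructor
    · intro h0 y'
      rw [fibreDimAt_hom_const (fibHom u s) y' x', hb, hx', h0]
    · intro h
      rw [← hx', ← hb]
      exact h x'
  have hnn : ∀ x : G.left, (0 : WithBot ℕ∞) ≤ FlatMor.fibreDimAt u.left x :=
    fun x => Groth.Agent.H1.FlatFibDim.fibreDimAt_nonneg u.left x
  have hopen : IsOpen {x : G.left | FlatMor.fibreDimAt u.left x ≤ 0} := by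
    have := Groth.Agent.H1.Chev.isOpen_fibreDimAt_le u.left 0
    simpa using this
  have h2 : {x : G.left | ∃ W : G.left.Opens, x ∈ W ∧ LocallyQuasiFinite (W.ι ≫ u.left)} =
      G.hom.base ⁻¹' {s : S | LocallyQuasiFinite (fibHom u s).left} := by
    ext x
    simp only [Set.mem_preimage, Set.mem_ofPred_eq]
    rw [← hd (G.hom x) x rfl]
    constructor
    · rintro ⟨W, hxW, hW⟩
      have h1 := (Groth.Agent.H1.QFDim.locallyQuasiFinite_iff_fibreDimAt (W.ι ≫ u.left)).mp hW
        ⟨x, hxW⟩
      rw [Groth.Agent.H1.CMQF.fibreDimAt_comp_isOpenImmersion] at h1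
      exact h1
    · intro h0
      refine ⟨⟨_, hopen⟩, h0.le, ?_⟩
      rw [Groth.Agent.H1.QFDim.locallyQuasiFinite_iff_fibreDimAt]
      intro p
      rw [Groth.Agent.H1.CMQF.fibreDimAt_comp_isOpenImmersion]
      exact le_antisymm p.2 (hnn _)
  refine ⟨?_, h2⟩
  have hU : {s : S | LocallyQuasiFinite (fibHom u s).left} =
      (GrpFib.unitSec G).base ⁻¹' {x : G.left | FlatMor.fibreDimAt u.left x ≤ 0} := by
    ext s
    simp only [Set.mem_preimage, Set.mem_ofPred_eq]
    rw [← hd s (GrpFib.unitSec G s) (GrpFib.hom_unitSec G s)]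
    exact ⟨fun h => h.le, fun h => le_antisymm h (hnn _)⟩
  rw [hU]
  exact hopen.preimage (GrpFib.unitSec G).continuous

end QF

end Groth.Agent.H1.GrpFibHom
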