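import Mathlib
import Groth.Prelude.Def_AlgGrp
import Groth.Prelude.Def_SGA3x
import Groth.Prelude.Def_Red
import Groth.Agent.Lib.Helper1.SecCompA
import Groth.Agent.Lib.Helper1.GrpFib

/-! The union `G⁰` of the neutral components of the fibres of a group scheme (helper1). -/

set_option autoImplicit false
universe u

namespace Groth.Agent.H1.GrpNeut

open CategoryTheory CategoryTheory.Limits MonoidalCategory CartesianMonoidalCategory MonObj GrpObj
  AlgebraicGeometry

variable {S : Scheme.{u}} (G : Over S) [GrpObj G]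

theorem neutralSet_eq :
    SGA3x.neutralSet G = MoreMor.sectionComponents G.hom (GrpFib.unitSec G) := by
  ext x
  constructor
  · intro hx
    obtain ⟨p, hp⟩ := Set.mem_iUnion.mp hx
    have h0 : x ∈ G.hom.base ⁻¹' {(𝟙_ (Over S)).hom.base p} := connectedComponentIn_subset _ _ hp
    have h1 : G.hom.base x = p := h0
    show x ∈ connectedComponentIn (G.hom ⁻¹' {G.hom x}) ((GrpFib.unitSec G) (G.hom x))
    rw [show G.hom x = p from h1]
    exact hp
  · intro hx
    exact Set.mem_iUnion.mpr ⟨G.hom x, hx⟩

theorem bc_one_fst {S' : Scheme.{u}} (f : S' ⟶ S) :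
    η[Red.bc f G].left ≫ pullback.fst G.hom f = f ≫ η[G].left := by
  have : η[Red.bc f G] =
      Functor.LaxMonoidal.ε (Over.pullback f) ≫ (Over.pullback f).map η[G] := rfl
  rw [this]
  simp only [Over.comp_left]
  simp
  rw [pullback.lift_fst, ← Category.assoc, ← pullback.condition, Category.comp_id]

theorem s5322 {S' : Scheme.{u}} (f : S' ⟶ S) :
    SGA3x.neutralSet (Red.bc f G) = (pullback.fst G.hom f).base ⁻¹' SGA3x.neutralSet G := by
  rw [neutralSet_eq, neutralSet_eq]
  exact Groth.Agent.H1.SecComp.s1324 G.hom (GrpFib.unitSec G) (GrpFib.unitSec_comp G)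
    (Red.bc f G).hom (pullback.fst G.hom f) f (IsPullback.of_hasPullback G.hom f)
    (GrpFib.unitSec (Red.bc f G)) (GrpFib.unitSec_comp (Red.bc f G)) (bc_one_fst G f)

end Groth.Agent.H1.GrpNeut
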