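import Mathlib
import Groth.Agent.Lib.Helper1.ChevSchB
import Groth.Agent.Lib.Helper1.OpenGen
import Groth.Agent.Lib.Helper8.DimFib.B

set_option autoImplicit false
set_option linter.style.haveILetI false
universe u

namespace Groth.Agent.H1.ChevEq

open CategoryTheory AlgebraicGeometry CategoryTheory.Limits IsLocalRing TensorProduct
open Groth.Agent.H1.DVRCrit Groth.Agent.H1.ChevSch

section

variable (A₀ B₀ : Type u) [CommRing A₀] [CommRing B₀] [Algebra A₀ B₀] [IsNoetherianRing A₀]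
  [Algebra.FiniteType A₀ B₀] [Algebra.QuasiFinite A₀ B₀]
  (q : Ideal B₀) [hq : q.IsPrime] (p₀ : Ideal A₀) [p₀.IsPrime]

set_option backward.isDefEq.respectTransparency false in
include hq in
/-- going down at `q` for a quasi-finite algebra over a geometrically unibranch point whose minimal
primes below `q` contract to minimal primes. -/
theorem exists_prime_le_of_le (hp₀ : q.comap (algebraMap A₀ B₀) = p₀)
    (hGU : CAlg2.IsGeomUnibranch (Localization.AtPrime p₀))
    (H : ∀ 𝔮 ∈ minimalPrimes B₀, 𝔮 ≤ q → 𝔮.comap (algebraMap A₀ B₀) ∈ minimalPrimes A₀)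
    (p₁ : Ideal A₀) [hp₁ : p₁.IsPrime] (hle : p₁ ≤ p₀) :
    ∃ q₁ : Ideal B₀, q₁.IsPrime ∧ q₁ ≤ q ∧ q₁.comap (algebraMap A₀ B₀) = p₁ := by
  let x₀ : Spec (CommRingCat.of B₀) := (⟨q, hq⟩ : PrimeSpectrum B₀)
  have hd := dvrCond_affine A₀ B₀ x₀ p₀ hp₀ hGU H
  let g₀ := Spec.map (CommRingCat.ofHom (algebraMap A₀ B₀))
  haveI : LocallyOfFiniteType g₀ := by
    rw [HasRingHomProperty.Spec_iff (P := @LocallyOfFiniteType)]
    exact RingHom.finiteType_algebraMap.mpr inferInstance
  haveI : IsNoetherianRing (CommRingCat.of A₀) := ‹_›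
  have hopen := isOpenAt_of_dvrCond g₀ x₀ hd
  let y₁ : Spec (CommRingCat.of A₀) := (⟨p₁, hp₁⟩ : PrimeSpectrum A₀)
  have hsp : y₁ ⤳ g₀.base x₀ := by
    apply (PrimeSpectrum.le_iff_specializes (y₁ : PrimeSpectrum A₀) (g₀.base x₀)).mp
    show p₁ ≤ q.comap (algebraMap A₀ B₀)
    rw [hp₀]; exact hle
  obtain ⟨z, hz, hzc⟩ := Groth.Agent.H1.OpenGen.exists_generization_of_isOpenAt g₀ x₀ hopen y₁ hsp
  exact ⟨(z : PrimeSpectrum B₀).asIdeal, (z : PrimeSpectrum B₀).isPrime,
    (PrimeSpectrum.le_iff_specializes (z : PrimeSpectrum B₀) x₀).mpr hz,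
    congrArg PrimeSpectrum.asIdeal hzc⟩

set_option maxHeartbeats 800000 in
include hq in
/-- all the components through `q` have the dimension of the base. -/
theorem height_map_mk_eq (hp₀ : q.comap (algebraMap A₀ B₀) = p₀)
    (hGU : CAlg2.IsGeomUnibranch (Localization.AtPrime p₀))
    (H : ∀ 𝔮 ∈ minimalPrimes B₀, 𝔮 ≤ q → 𝔮.comap (algebraMap A₀ B₀) ∈ minimalPrimes A₀)
    (q₀ : Ideal B₀) (hq₀ : q₀ ∈ minimalPrimes B₀) (hq₀le : q₀ ≤ q) :
    (q.map (Ideal.Quotient.mk q₀)).height = p₀.height := by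
  haveI hq₀p : q₀.IsPrime := hq₀.1.1
  haveI : IsDomain (B₀ ⧸ q₀) := Ideal.Quotient.isDomain q₀
  have hmk : Function.Surjective (Ideal.Quotient.mk q₀) := Ideal.Quotient.mk_surjective
  haveI hqbp : (q.map (Ideal.Quotient.mk q₀)).IsPrime :=
    Ideal.map_isPrime_of_surjective hmk (by rw [Ideal.mk_ker]; exact hq₀le)
  have hqbc : (q.map (Ideal.Quotient.mk q₀)).comap (Ideal.Quotient.mk q₀) = q := by
    rw [Ideal.comap_map_of_surjective _ hmk, sup_eq_left, ← RingHom.ker_eq_comap_bot, Ideal.mk_ker]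
    exact hq₀le
  have halg : algebraMap A₀ (B₀ ⧸ q₀) = (Ideal.Quotient.mk q₀).comp (algebraMap A₀ B₀) := rfl
  have hqbA : (q.map (Ideal.Quotient.mk q₀)).comap (algebraMap A₀ (B₀ ⧸ q₀)) = p₀ := by
    rw [halg, ← Ideal.comap_comap, hqbc, hp₀]
  haveI : Algebra.FiniteType A₀ (B₀ ⧸ q₀) :=
    Algebra.FiniteType.of_surjective (Ideal.Quotient.mkₐ A₀ q₀) (Ideal.Quotient.mkₐ_surjective A₀ q₀)
  haveI : IsNoetherianRing B₀ := Algebra.FiniteType.isNoetherianRing A₀ B₀
  have HD : ∀ 𝔮 ∈ minimalPrimes (B₀ ⧸ q₀), 𝔮 ≤ q.map (Ideal.Quotient.mk q₀) →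
      𝔮.comap (algebraMap A₀ (B₀ ⧸ q₀)) ∈ minimalPrimes A₀ := by
    intro 𝔮 h𝔮 _
    rw [IsDomain.minimalPrimes_eq_singleton_bot, Set.mem_singleton_iff] at h𝔮
    subst h𝔮
    have h1 : (⊥ : Ideal (B₀ ⧸ q₀)).comap (algebraMap A₀ (B₀ ⧸ q₀)) =
        q₀.comap (algebraMap A₀ B₀) := by
      rw [halg, ← Ideal.comap_comap, ← RingHom.ker_eq_comap_bot, Ideal.mk_ker]
    rw [h1]; exact H q₀ hq₀ hq₀le
  -- the local rings
  let φ : Localization.AtPrime p₀ →+* Localization.AtPrime (q.map (Ideal.Quotient.mk q₀)) :=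
    Localization.localRingHom p₀ (q.map (Ideal.Quotient.mk q₀)) (algebraMap A₀ (B₀ ⧸ q₀)) hqbA.symm
  have hφ : ∀ a : A₀, φ (algebraMap A₀ (Localization.AtPrime p₀) a) =
      algebraMap (B₀ ⧸ q₀) (Localization.AtPrime (q.map (Ideal.Quotient.mk q₀)))
        (algebraMap A₀ (B₀ ⧸ q₀) a) := fun a => Localization.localRingHom_to_map _ _ _ _ a
  have hcomapφ : ∀ J : Ideal (Localization.AtPrime (q.map (Ideal.Quotient.mk q₀))),
      (J.comap φ).comap (algebraMap A₀ (Localization.AtPrime p₀)) =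
        (J.comap (algebraMap (B₀ ⧸ q₀) _)).comap (algebraMap A₀ (B₀ ⧸ q₀)) := by
    intro J
    ext a
    simp only [Ideal.mem_comap, hφ]
  -- primes above the maximal ideal of the base
  have hfib : ∀ Q : Ideal (Localization.AtPrime (q.map (Ideal.Quotient.mk q₀))), Q.IsPrime →
      (maximalIdeal (Localization.AtPrime p₀)).map φ ≤ Q → Q = maximalIdeal _ := by
    intro Q hQ hQle
    haveI : (Q.comap (algebraMap (B₀ ⧸ q₀) _)).IsPrime := Ideal.comap_isPrime _ _
    have hQ₁le : Q.comap (algebraMap (B₀ ⧸ q₀) _) ≤ q.map (Ideal.Quotient.mk q₀) := by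
      have h1 := Ideal.comap_mono (f := algebraMap (B₀ ⧸ q₀)
        (Localization.AtPrime (q.map (Ideal.Quotient.mk q₀)))) (IsLocalRing.le_maximalIdeal hQ.ne_top)
      have h2 := IsLocalization.AtPrime.under_maximalIdeal
        (Localization.AtPrime (q.map (Ideal.Quotient.mk q₀))) (q.map (Ideal.Quotient.mk q₀))
      rw [Ideal.under_def] at h2
      rwa [h2] at h1
    have hQ₁A : (Q.comap (algebraMap (B₀ ⧸ q₀) _)).comap (algebraMap A₀ (B₀ ⧸ q₀)) = p₀ := by
      apply le_antisymm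
      · rw [← hqbA]; exact Ideal.comap_mono hQ₁le
      · intro a ha
        rw [← hcomapφ, Ideal.mem_comap, Ideal.mem_comap]
        apply hQle
        apply Ideal.mem_map_of_mem
        rw [← Localization.AtPrime.map_eq_maximalIdeal]
        exact Ideal.mem_map_of_mem _ ha
    have hQ₁eq : Q.comap (algebraMap (B₀ ⧸ q₀) _) = q.map (Ideal.Quotient.mk q₀) :=
      Algebra.QuasiFinite.eq_of_le_of_under_eq (R := A₀) _ _ hQ₁le (by
        rw [Ideal.under_def, Ideal.under_def, hQ₁A, hqbA])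
    rw [← IsLocalization.map_comap (q.map (Ideal.Quotient.mk q₀)).primeCompl _ Q,
      ← Localization.AtPrime.map_eq_maximalIdeal]
    exact congrArg _ hQ₁eq
  -- the condition
  have hc : Groth.Agent.H8.DimFib.Cond φ := by
    apply Groth.Agent.H1.OpenGen.cond_of_lift
    intro Q hQ p hp
    haveI := hp
    have hQeq := hfib Q hQ.1.1 hQ.1.2
    have hp₁le : p.comap (algebraMap A₀ (Localization.AtPrime p₀)) ≤ p₀ := by
      have h1 := Ideal.comap_mono (f := algebraMap A₀ (Localization.AtPrime p₀))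
        (IsLocalRing.le_maximalIdeal hp.ne_top)
      have h2 := IsLocalization.AtPrime.under_maximalIdeal (Localization.AtPrime p₀) p₀
      rw [Ideal.under_def] at h2
      rwa [h2] at h1
    haveI : (p.comap (algebraMap A₀ (Localization.AtPrime p₀))).IsPrime := Ideal.comap_isPrime _ _
    obtain ⟨q₁, hq₁p, hq₁le, hq₁c⟩ := exists_prime_le_of_le A₀ (B₀ ⧸ q₀)
      (q.map (Ideal.Quotient.mk q₀)) p₀ hqbA hGU HD _ hp₁le
    have hdisj : Disjoint ((q.map (Ideal.Quotient.mk q₀)).primeCompl : Set (B₀ ⧸ q₀)) (q₁ : Set _) := by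
      rw [Set.disjoint_left]
      intro t ht1 ht2
      exact ht1 (hq₁le ht2)
    refine ⟨q₁.map (algebraMap (B₀ ⧸ q₀) _), ?_, ?_, ?_⟩
    · exact IsLocalization.isPrime_of_isPrime_disjoint (q.map (Ideal.Quotient.mk q₀)).primeCompl _ _
        hq₁p hdisj
    · rw [hQeq]
      apply IsLocalRing.le_maximalIdeal
      exact (IsLocalization.isPrime_of_isPrime_disjoint (q.map (Ideal.Quotient.mk q₀)).primeCompl _ _
        hq₁p hdisj).ne_top
    · have h3 : ((q₁.map (algebraMap (B₀ ⧸ q₀)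
          (Localization.AtPrime (q.map (Ideal.Quotient.mk q₀))))).comap φ).comap
          (algebraMap A₀ (Localization.AtPrime p₀)) =
          p.comap (algebraMap A₀ (Localization.AtPrime p₀)) := by
        have e3 := IsLocalization.comap_map_of_isPrime_disjoint
          (q.map (Ideal.Quotient.mk q₀)).primeCompl
          (Localization.AtPrime (q.map (Ideal.Quotient.mk q₀))) hq₁p hdisj
        rw [Ideal.under_def] at e3
        rw [hcomapφ, e3, hq₁c]
      have e1 := IsLocalization.map_comap p₀.primeCompl (Localization.AtPrime p₀)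
        ((q₁.map (algebraMap (B₀ ⧸ q₀)
          (Localization.AtPrime (q.map (Ideal.Quotient.mk q₀))))).comap φ)
      have e2 := IsLocalization.map_comap p₀.primeCompl (Localization.AtPrime p₀) p
      rw [← e1, ← e2]
      exact congrArg _ h3
  -- the fibre has dimension zero
  have hdim0 : ringKrullDim (Localization.AtPrime (q.map (Ideal.Quotient.mk q₀)) ⧸
      (maximalIdeal (Localization.AtPrime p₀)).map φ) = 0 := by
    have hIle : (maximalIdeal (Localization.AtPrime p₀)).map φ ≤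
        maximalIdeal (Localization.AtPrime (q.map (Ideal.Quotient.mk q₀))) := by
      exact ((local_hom_TFAE φ).out 0 2).mp
        (Localization.isLocalHom_localRingHom p₀ (q.map (Ideal.Quotient.mk q₀))
          (algebraMap A₀ (B₀ ⧸ q₀)) hqbA.symm)
    haveI : Nontrivial (Localization.AtPrime (q.map (Ideal.Quotient.mk q₀)) ⧸
        (maximalIdeal (Localization.AtPrime p₀)).map φ) := by
      rw [Ideal.Quotient.nontrivial_iff]
      intro htop
      rw [htop] at hIle
      exact (maximalIdeal.isMaximal _).ne_top (top_le_iff.mp hIle)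
    haveI : Ring.KrullDimLE 0 (Localization.AtPrime (q.map (Ideal.Quotient.mk q₀)) ⧸
        (maximalIdeal (Localization.AtPrime p₀)).map φ) := by
      rw [Ring.krullDimLE_zero_iff]
      intro J hJ
      have hJc : J.comap (Ideal.Quotient.mk _) = maximalIdeal _ := by
        apply hfib _ (Ideal.comap_isPrime _ _)
        intro t ht
        rw [Ideal.mem_comap, Ideal.Quotient.eq_zero_iff_mem.mpr ht]
        exact J.zero_mem
      have hJm : (J.comap (Ideal.Quotient.mk
          ((maximalIdeal (Localization.AtPrime p₀)).map φ))).IsMaximal := by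
        rw [hJc]; exact maximalIdeal.isMaximal _
      have := Ideal.map_eq_top_or_isMaximal_of_surjective (Ideal.Quotient.mk
        ((maximalIdeal (Localization.AtPrime p₀)).map φ)) Ideal.Quotient.mk_surjective hJm
      rw [Ideal.map_comap_of_surjective _ Ideal.Quotient.mk_surjective] at this
      exact this.resolve_left hJ.ne_top
    exact le_antisymm (Ring.krullDimLE_iff.mp inferInstance) ringKrullDim_nonneg_of_nontrivial
  haveI : IsNoetherianRing (B₀ ⧸ q₀) := inferInstance
  have hmain := Groth.Agent.H8.DimFib.main (Localization.AtPrime p₀)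
    (Localization.AtPrime (q.map (Ideal.Quotient.mk q₀))) φ hc
  rw [hdim0, add_zero, IsLocalization.AtPrime.ringKrullDim_eq_height (q.map (Ideal.Quotient.mk q₀)),
    IsLocalization.AtPrime.ringKrullDim_eq_height p₀] at hmain
  exact_mod_cast hmain

end

end Groth.Agent.H1.ChevEq
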