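import Mathlib
import Groth.Agent.Lib.Helper1.EtNhd
import Groth.Agent.Lib.Helper1.FlatSource
set_option autoImplicit false
universe u
open CategoryTheory AlgebraicGeometry IsLocalRing

namespace Groth.Agent.H1.EtNhd

theorem stalk_of_etale_nhd {X Y : Scheme.{u}} (f : X ⟶ Y) (x : X)
    (h : ∃ U : X.Opens, x ∈ U ∧ Etale (U.ι ≫ f)) :
    (f.stalkMap x).hom.Flat ∧ (f.stalkMap x).hom.FormallyUnramified := by
  obtain ⟨U, hxU, hU⟩ := h
  have h1 : ((U.ι ≫ f).stalkMap ⟨x, hxU⟩).hom.Flat := Flat.stalkMap (U.ι ≫ f) ⟨x, hxU⟩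
  have h2 : ((U.ι ≫ f).stalkMap ⟨x, hxU⟩).hom.FormallyUnramified :=
    FormallyUnramified.stalkMap (U.ι ≫ f) ⟨x, hxU⟩
  exact ⟨stalkMap_prop_of_restrict f U.ι ⟨x, hxU⟩ _ RingHom.Flat.respectsIso h1,
    stalkMap_prop_of_restrict f U.ι ⟨x, hxU⟩ _ RingHom.FormallyUnramified.respectsIso h2⟩

theorem stalk_of_unramified_nhd {X Y : Scheme.{u}} (f : X ⟶ Y) (x : X)
    (h : ∃ U : X.Opens, x ∈ U ∧ FormallyUnramified (U.ι ≫ f)) :
    (f.stalkMap x).hom.FormallyUnramified := by
  obtain ⟨U, hxU, hU⟩ := h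
  have h2 : ((U.ι ≫ f).stalkMap ⟨x, hxU⟩).hom.FormallyUnramified :=
    FormallyUnramified.stalkMap (U.ι ≫ f) ⟨x, hxU⟩
  exact stalkMap_prop_of_restrict f U.ι ⟨x, hxU⟩ _ RingHom.FormallyUnramified.respectsIso h2

/-- Formal unramifiedness descends along a flat local homomorphism (essentially of finite type
setting). -/
theorem formallyUnramified_of_comp_flat (A B C : Type u) [CommRing A] [CommRing B] [CommRing C]
    [IsLocalRing A] [IsLocalRing B] [IsLocalRing C]
    [Algebra A B] [Algebra B C] [Algebra A C] [IsScalarTower A B C]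
    [IsLocalHom (algebraMap A B)] [IsLocalHom (algebraMap B C)]
    [Module.Flat B C] [Algebra.EssFiniteType A B] [Algebra.EssFiniteType A C]
    [Algebra.FormallyUnramified A C] : Algebra.FormallyUnramified A B := by
  haveI : IsLocalHom (algebraMap A C) := by
    rw [IsScalarTower.algebraMap_eq A B C]
    exact RingHom.isLocalHom_comp _ _
  haveI : Module.FaithfullyFlat B C := Module.FaithfullyFlat.of_flat_of_isLocalHom
  have hC := (Algebra.FormallyUnramified.iff_map_maximalIdeal_eq (R := A) (S := C)).mp inferInstance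
  rw [Algebra.FormallyUnramified.iff_map_maximalIdeal_eq]
  obtain ⟨hsep, hmap⟩ := hC
  refine ⟨?_, ?_⟩
  · haveI : IsScalarTower (ResidueField A) (ResidueField B) (ResidueField C) := by
      refine IsScalarTower.of_algebraMap_eq fun x ↦ ?_
      obtain ⟨x, rfl⟩ := IsLocalRing.residue_surjective x
      simp only [← ResidueField.algebraMap_eq, ← IsScalarTower.algebraMap_apply]
    exact Algebra.isSeparable_tower_bot_of_isSeparable (ResidueField A) (ResidueField B)
      (ResidueField C)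
  · have h1 : ((maximalIdeal A).map (algebraMap A B)).map (algebraMap B C) =
        (maximalIdeal B).map (algebraMap B C) := by
      apply le_antisymm
      · exact Ideal.map_mono (((local_hom_TFAE (algebraMap A B)).out 0 2 rfl rfl).mp inferInstance)
      · rw [Ideal.map_map, ← IsScalarTower.algebraMap_eq, hmap]
        exact ((local_hom_TFAE (algebraMap B C)).out 0 2 rfl rfl).mp inferInstance
    rw [← Ideal.comap_map_eq_self_of_faithfullyFlat (B := C) ((maximalIdeal A).map (algebraMap A B)),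
      h1, Ideal.comap_map_eq_self_of_faithfullyFlat]

end Groth.Agent.H1.EtNhd

namespace Groth.Agent.H1.EtNhd

theorem stalk_formallyUnramified_of_comp {X Y S : Scheme.{u}} (f : Y ⟶ S) (g : X ⟶ Y)
    [LocallyOfFiniteType f] [LocallyOfFiniteType (g ≫ f)] (x : X)
    (hg : (g.stalkMap x).hom.Flat)
    (hunr : ((g ≫ f).stalkMap x).hom.FormallyUnramified) :
    (f.stalkMap (g x)).hom.FormallyUnramified := by
  have he1 := LocallyOfFiniteType.stalkMap f (g x)
  have he2 := LocallyOfFiniteType.stalkMap (g ≫ f) x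
  rw [Scheme.Hom.stalkMap_comp] at hunr he2
  let φ : S.presheaf.stalk (f (g x)) →+* Y.presheaf.stalk (g x) := (f.stalkMap (g x)).hom
  let ψ : Y.presheaf.stalk (g x) →+* X.presheaf.stalk x := (g.stalkMap x).hom
  have hunr' : (ψ.comp φ).FormallyUnramified := hunr
  have he2' : (ψ.comp φ).EssFiniteType := he2
  have he1' : φ.EssFiniteType := he1
  have hg' : ψ.Flat := hg
  algebraize [φ, ψ, ψ.comp φ]
  have : IsLocalHom (algebraMap (Y.presheaf.stalk (g x)) (X.presheaf.stalk x)) := by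
    change IsLocalHom ψ
    infer_instance
  have : IsLocalHom (algebraMap (S.presheaf.stalk (f (g x))) (Y.presheaf.stalk (g x))) := by
    change IsLocalHom φ
    infer_instance
  change φ.FormallyUnramified
  rw [RingHom.FormallyUnramified, ← RingHom.algebraMap_toAlgebra φ]
  exact formallyUnramified_of_comp_flat (S.presheaf.stalk (f (g x))) (Y.presheaf.stalk (g x))
    (X.presheaf.stalk x)

theorem stalk_flat_of_comp {X Y S : Scheme.{u}} (f : Y ⟶ S) (g : X ⟶ Y) (x : X)
    (hg : (g.stalkMap x).hom.Flat)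
    (hflat : ((g ≫ f).stalkMap x).hom.Flat) :
    (f.stalkMap (g x)).hom.Flat := by
  rw [Scheme.Hom.stalkMap_comp] at hflat
  let φ : S.presheaf.stalk (f (g x)) →+* Y.presheaf.stalk (g x) := (f.stalkMap (g x)).hom
  let ψ : Y.presheaf.stalk (g x) →+* X.presheaf.stalk x := (g.stalkMap x).hom
  have h2' : (ψ.comp φ).Flat := hflat
  have hg' : ψ.Flat := hg
  algebraize [φ, ψ, ψ.comp φ]
  have : IsLocalHom (algebraMap (Y.presheaf.stalk (g x)) (X.presheaf.stalk x)) := by
    change IsLocalHom ψ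
    infer_instance
  have : Module.FaithfullyFlat (Y.presheaf.stalk (g x)) (X.presheaf.stalk x) :=
    Module.FaithfullyFlat.of_flat_of_isLocalHom
  exact Groth.Agent.H1.flat_of_flat_of_faithfullyFlat _ (Y.presheaf.stalk (g x)) (X.presheaf.stalk x)

/-- S2806 -/
theorem etale_nhd_of_comp {X Y S : Scheme.{u}} (f : Y ⟶ S)
    [LocallyOfFinitePresentation f] (g : X ⟶ Y) [LocallyOfFinitePresentation (g ≫ f)]
    (x : X) (hg : (g.stalkMap x).hom.Flat)
    (hh : ∃ U : X.Opens, x ∈ U ∧ Etale (U.ι ≫ g ≫ f)) :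
    ∃ V : Y.Opens, g.base x ∈ V ∧ Etale (V.ι ≫ f) := by
  obtain ⟨h1, h2⟩ := stalk_of_etale_nhd (g ≫ f) x hh
  exact exists_etale_nhd f (g x) (stalk_flat_of_comp f g x hg h1)
    (stalk_formallyUnramified_of_comp f g x hg h2)

/-- S2807 -/
theorem unramified_nhd_of_comp {X Y S : Scheme.{u}} (f : Y ⟶ S)
    [LocallyOfFiniteType f] (g : X ⟶ Y) [LocallyOfFiniteType (g ≫ f)]
    (x : X) (hg : (g.stalkMap x).hom.Flat)
    (hh : ∃ U : X.Opens, x ∈ U ∧ FormallyUnramified (U.ι ≫ g ≫ f)) :
    ∃ V : Y.Opens, g.base x ∈ V ∧ FormallyUnramified (V.ι ≫ f) := by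
  have h2 := stalk_of_unramified_nhd (g ≫ f) x hh
  exact exists_unramified_nhd f (g x) (stalk_formallyUnramified_of_comp f g x hg h2)

end Groth.Agent.H1.EtNhd
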