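import Mathlib
import Groth.Prelude.Def_MoreMor
import Groth.Agent.Lib.Helper2.FibDepth
import Groth.Agent.Lib.Helper1.FlatDimLocal
import Groth.Agent.Lib.Helper5.JacDim.A
import Groth.Agent.Lib.Helper5.CA.Nilp031L
import Groth.Agent.Lib.Helper6.Liai3
import Groth.Agent.Lib.Helper1.FibreStalk
import Groth.Agent.Lib.Helper1.EtNhd2

set_option autoImplicit false
set_option linter.style.haveILetI false
universe u

namespace Groth.Agent.H1.CMFib

open IsLocalRing

/-- depth is at most the dimension, for a Noetherian local ring. -/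
theorem depth_le_ringKrullDim (R : Type u) [CommRing R] [IsNoetherianRing R] [IsLocalRing R] :
    ((LocCoh.depth R R : ℕ∞) : WithBot ℕ∞) ≤ ringKrullDim R := by
  obtain ⟨P, hP⟩ := associatedPrimes.nonempty R R
  refine (Groth.Agent.H6.CM.depth_le_ringKrullDim_quotient R P hP).trans ?_
  exact ringKrullDim_le_of_surjective (Ideal.Quotient.mk P) Ideal.Quotient.mk_surjective

/-- a Noetherian local ring is Cohen–Macaulay iff its dimension is at most its depth. -/
theorem cm_iff_dim_le_depth (R : Type u) [CommRing R] [IsNoetherianRing R] [IsLocalRing R] :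
    LocCoh.IsCohenMacaulayLocalRing R ↔
      ringKrullDim R ≤ ((LocCoh.depth R R : ℕ∞) : WithBot ℕ∞) := by
  constructor
  · intro h
    have := h.supportDim_eq_depth
    rw [Module.supportDim_self_eq_ringKrullDim] at this
    exact this.le
  · intro h
    refine { supportDim_eq_depth := ?_ }
    rw [Module.supportDim_self_eq_ringKrullDim]
    exact le_antisymm h (depth_le_ringKrullDim R)

/-- **Cohen–Macaulayness along a flat local homomorphism**: for a flat local homomorphism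
`A → B` of Noetherian local rings with closed fibre `F`, `B` is Cohen–Macaulay iff `A` and `F`
are. -/
theorem cm_iff_of_flat_local {A B F : Type u} [CommRing A] [CommRing B] [CommRing F]
    [IsNoetherianRing A] [IsNoetherianRing B] [IsLocalRing A] [IsLocalRing B]
    (φ : A →+* B) [IsLocalHom φ] (hφ : φ.Flat) (e : (B ⧸ (maximalIdeal A).map φ) ≃+* F) :
    LocCoh.IsCohenMacaulayLocalRing B ↔
      LocCoh.IsCohenMacaulayLocalRing A ∧ LocCoh.IsCohenMacaulayLocalRing F := by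
  letI := φ.toAlgebra
  haveI : IsLocalHom (algebraMap A B) := ‹IsLocalHom φ›
  haveI : Module.Flat A B := hφ
  have e' : (B ⧸ (maximalIdeal A).map (algebraMap A B)) ≃+* F := e
  haveI : IsLocalRing F := e'.isLocalRing
  haveI : IsNoetherianRing F := isNoetherianRing_of_ringEquiv _ e'
  obtain ⟨hdepth, hdimF⟩ := Groth.Agent.H2.FibDepth.depth_eq_add A B F e'
  have hdim := Groth.Agent.H1.FlatDim.ringKrullDim_eq_add_fiber_of_flat A B
  rw [← hdimF] at hdim
  obtain ⟨a, ha⟩ := Groth.Agent.H5.JacDim.exists_nat_ringKrullDim A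
  obtain ⟨c, hc⟩ := Groth.Agent.H5.JacDim.exists_nat_ringKrullDim F
  have hA := depth_le_ringKrullDim A
  have hF := depth_le_ringKrullDim F
  rw [ha] at hA
  rw [hc] at hF
  have hA' : LocCoh.depth A A ≤ (a : ℕ∞) := by exact_mod_cast hA
  have hF' : LocCoh.depth F F ≤ (c : ℕ∞) := by exact_mod_cast hF
  obtain ⟨a', ha'⟩ := ENat.ne_top_iff_exists.mp (ne_top_of_le_ne_top (ENat.natCast_ne_top a) hA')
  obtain ⟨c', hc'⟩ := ENat.ne_top_iff_exists.mp (ne_top_of_le_ne_top (ENat.natCast_ne_top c) hF')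
  rw [← ha'] at hA'
  rw [← hc'] at hF'
  have hA'' : a' ≤ a := by exact_mod_cast hA'
  have hF'' : c' ≤ c := by exact_mod_cast hF'
  rw [cm_iff_dim_le_depth B, cm_iff_dim_le_depth A, cm_iff_dim_le_depth F, hdim, hdepth, ha, hc,
    ← ha', ← hc']
  have e1 : ((a : WithBot ℕ∞) + (c : WithBot ℕ∞) ≤ (((a' : ℕ∞) + (c' : ℕ∞) : ℕ∞) : WithBot ℕ∞)) ↔
      a + c ≤ a' + c' := by
    constructor
    · intro h; exact_mod_cast h
    · intro h; exact_mod_cast h
  have e2 : ((a : WithBot ℕ∞) ≤ (((a' : ℕ∞) : ℕ∞) : WithBot ℕ∞)) ↔ a ≤ a' := by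
    constructor
    · intro h; exact_mod_cast h
    · intro h; exact_mod_cast h
  have e3 : ((c : WithBot ℕ∞) ≤ (((c' : ℕ∞) : ℕ∞) : WithBot ℕ∞)) ↔ c ≤ c' := by
    constructor
    · intro h; exact_mod_cast h
    · intro h; exact_mod_cast h
  rw [e1, e2, e3]
  omega



open IsLocalRing

section LA3

variable {A B C : Type u} [CommRing A] [CommRing B] [CommRing C] [IsLocalRing A] [IsLocalRing B]
  [IsLocalRing C] (φ : A →+* B) (ψ : B →+* C) [IsLocalHom φ] [IsLocalHom ψ]

theorem map_maximalIdeal_le' : (maximalIdeal A).map φ ≤ maximalIdeal B :=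
  ((IsLocalRing.local_hom_TFAE φ).out 0 2 rfl rfl).mp inferInstance

/-- the maximal ideal of a quotient of a local ring. -/
theorem maximalIdeal_quotient (I : Ideal B) [IsLocalRing (B ⧸ I)] :
    maximalIdeal (B ⧸ I) = (maximalIdeal B).map (Ideal.Quotient.mk I) := by
  have hsurj : Function.Surjective (Ideal.Quotient.mk I) := Ideal.Quotient.mk_surjective
  haveI : IsLocalHom (Ideal.Quotient.mk I) := IsLocalHom.of_surjective _ hsurj
  rw [← IsLocalRing.maximalIdeal_comap (Ideal.Quotient.mk I),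
    Ideal.map_comap_of_surjective _ hsurj]

theorem isLocalRing_quotient (I : Ideal B) (hI : I ≤ maximalIdeal B) : IsLocalRing (B ⧸ I) := by
  haveI : Nontrivial (B ⧸ I) := Ideal.Quotient.nontrivial_iff.mpr (fun h => by
    rw [h] at hI
    exact (maximalIdeal.isMaximal B).ne_top (top_le_iff.mp hI))
  exact IsLocalRing.of_surjective' (Ideal.Quotient.mk I) Ideal.Quotient.mk_surjective

/-- **transitivity of Cohen–Macaulayness of closed fibres**: for local homomorphisms
`A → B → C` with `B → C` flat, the closed fibre of `A → C` is Cohen–Macaulay iff those of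
`A → B` and `B → C` are (closed fibres of `A → B`, `A → C` Noetherian). -/
theorem cm_fiber_comp_iff (hψ : ψ.Flat)
    [IsNoetherianRing (B ⧸ (maximalIdeal A).map φ)]
    [IsNoetherianRing (C ⧸ ((maximalIdeal A).map φ).map ψ)] :
    LocCoh.IsCohenMacaulayLocalRing (C ⧸ ((maximalIdeal A).map φ).map ψ) ↔
      LocCoh.IsCohenMacaulayLocalRing (B ⧸ (maximalIdeal A).map φ) ∧
        LocCoh.IsCohenMacaulayLocalRing (C ⧸ (maximalIdeal B).map ψ) := by
  set I := (maximalIdeal A).map φ with hI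
  have hIB : I ≤ maximalIdeal B := map_maximalIdeal_le' φ
  have hJC : I.map ψ ≤ maximalIdeal C :=
    (Ideal.map_mono hIB).trans (map_maximalIdeal_le' ψ)
  have hJK : I.map ψ ≤ (maximalIdeal B).map ψ := Ideal.map_mono hIB
  haveI := isLocalRing_quotient I hIB
  haveI := isLocalRing_quotient (I.map ψ) hJC
  let ψbar : B ⧸ I →+* C ⧸ I.map ψ := Ideal.quotientMap (I.map ψ) ψ Ideal.le_comap_map
  have hflat : ψbar.Flat := Groth.Agent.H5.Nilp031L.flat_quotientMap ψ hψ I
  have hmap : (maximalIdeal (B ⧸ I)).map ψbar =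
      ((maximalIdeal B).map ψ).map (Ideal.Quotient.mk (I.map ψ)) := by
    rw [maximalIdeal_quotient I, Ideal.map_map (Ideal.Quotient.mk I) ψbar,
      Ideal.map_map ψ (Ideal.Quotient.mk (I.map ψ))]
    congr 1
  haveI : IsLocalHom ψbar := by
    refine ((IsLocalRing.local_hom_TFAE ψbar).out 0 2 rfl rfl).mpr ?_
    rw [hmap, maximalIdeal_quotient (I.map ψ)]
    exact Ideal.map_mono (map_maximalIdeal_le' ψ)
  let e : ((C ⧸ I.map ψ) ⧸ (maximalIdeal (B ⧸ I)).map ψbar) ≃+* C ⧸ (maximalIdeal B).map ψ :=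
    (Ideal.quotEquivOfEq hmap).trans (DoubleQuot.quotQuotEquivQuotOfLE hJK)
  exact cm_iff_of_flat_local ψbar hflat e

end LA3



open IsLocalRing AlgebraicGeometry CategoryTheory Groth.Agent.H1.FibreStalk

theorem s9768 {X Y : Scheme.{u}} (f : X ⟶ Y) [IsLocallyNoetherian X] [IsLocallyNoetherian Y]
    [Flat f]
    (hX : ∀ x : X, LocCoh.IsCohenMacaulayLocalRing ↑(X.presheaf.stalk x)) (x : X) :
    MoreMor.IsCMAt f x ∧ LocCoh.IsCohenMacaulayLocalRing ↑(Y.presheaf.stalk (f x)) := by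
  have h := (cm_iff_of_flat_local (f.stalkMap x).hom (Flat.stalkMap f x)
    (fiberStalkEquiv f x)).mp (hX x)
  exact ⟨⟨Flat.stalkMap f x, h.2⟩, h.1⟩

variable {X Y Z : Scheme.{u}}

/-- the closed fibre of the stalk map of a composition. -/
theorem map_map_stalkMap (f : X ⟶ Y) (g : Y ⟶ Z) (x : X) :
    ((maximalIdeal (Z.presheaf.stalk (g (f x)))).map (g.stalkMap (f x)).hom).map
      (f.stalkMap x).hom =
      (maximalIdeal (Z.presheaf.stalk ((f ≫ g) x))).map ((f ≫ g).stalkMap x).hom := by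
  rw [Scheme.Hom.stalkMap_comp, Ideal.map_map]
  rfl

theorem cm_fiber_comp_iff_sch (f : X ⟶ Y) (g : Y ⟶ Z) (x : X) (hfl : (f.stalkMap x).hom.Flat)
    [IsNoetherianRing ((g.fiber (g (f x))).presheaf.stalk (g.asFiber (f x)))]
    [IsNoetherianRing (((f ≫ g).fiber ((f ≫ g) x)).presheaf.stalk ((f ≫ g).asFiber x))] :
    LocCoh.IsCohenMacaulayLocalRing
        (((f ≫ g).fiber ((f ≫ g) x)).presheaf.stalk ((f ≫ g).asFiber x)) ↔
      LocCoh.IsCohenMacaulayLocalRing ((g.fiber (g (f x))).presheaf.stalk (g.asFiber (f x))) ∧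
        LocCoh.IsCohenMacaulayLocalRing ((f.fiber (f x)).presheaf.stalk (f.asFiber x)) := by
  have e₁ := fiberStalkEquiv (f ≫ g) x
  have e₂ := fiberStalkEquiv g (f x)
  have e₃ := fiberStalkEquiv f x
  haveI n₂ : IsNoetherianRing (Y.presheaf.stalk (f x) ⧸
      (maximalIdeal (Z.presheaf.stalk (g (f x)))).map (g.stalkMap (f x)).hom) :=
    isNoetherianRing_of_ringEquiv _ e₂.symm
  let e₁' : (X.presheaf.stalk x ⧸ ((maximalIdeal (Z.presheaf.stalk (g (f x)))).map
      (g.stalkMap (f x)).hom).map (f.stalkMap x).hom) ≃+*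
      (((f ≫ g).fiber ((f ≫ g) x)).presheaf.stalk ((f ≫ g).asFiber x)) :=
    (Ideal.quotEquivOfEq (map_map_stalkMap f g x)).trans e₁
  haveI n₃ : IsNoetherianRing (X.presheaf.stalk x ⧸
      ((maximalIdeal (Z.presheaf.stalk (g (f x)))).map
      (g.stalkMap (f x)).hom).map (f.stalkMap x).hom) :=
    isNoetherianRing_of_ringEquiv _ e₁'.symm
  have key := cm_fiber_comp_iff (g.stalkMap (f x)).hom (f.stalkMap x).hom hfl
  have c₁ : LocCoh.IsCohenMacaulayLocalRing (X.presheaf.stalk x ⧸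
      ((maximalIdeal (Z.presheaf.stalk (g (f x)))).map
      (g.stalkMap (f x)).hom).map (f.stalkMap x).hom) ↔ LocCoh.IsCohenMacaulayLocalRing
        (((f ≫ g).fiber ((f ≫ g) x)).presheaf.stalk ((f ≫ g).asFiber x)) :=
    ⟨fun h => Groth.Agent.H6.Liai.cmLocal_of_ringEquiv e₁',
      fun h => Groth.Agent.H6.Liai.cmLocal_of_ringEquiv e₁'.symm⟩
  have c₂ : LocCoh.IsCohenMacaulayLocalRing (Y.presheaf.stalk (f x) ⧸
      (maximalIdeal (Z.presheaf.stalk (g (f x)))).map (g.stalkMap (f x)).hom) ↔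
      LocCoh.IsCohenMacaulayLocalRing ((g.fiber (g (f x))).presheaf.stalk (g.asFiber (f x))) :=
    ⟨fun h => Groth.Agent.H6.Liai.cmLocal_of_ringEquiv e₂,
      fun h => Groth.Agent.H6.Liai.cmLocal_of_ringEquiv e₂.symm⟩
  have c₃ : LocCoh.IsCohenMacaulayLocalRing (X.presheaf.stalk x ⧸
      (maximalIdeal (Y.presheaf.stalk (f x))).map (f.stalkMap x).hom) ↔
      LocCoh.IsCohenMacaulayLocalRing ((f.fiber (f x)).presheaf.stalk (f.asFiber x)) :=
    ⟨fun h => Groth.Agent.H6.Liai.cmLocal_of_ringEquiv e₃,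
      fun h => Groth.Agent.H6.Liai.cmLocal_of_ringEquiv e₃.symm⟩
  rw [← c₁, ← c₂, ← c₃]
  exact key

theorem flat_stalkMap_comp' (f : X ⟶ Y) (g : Y ⟶ Z) (x : X) (hf : (f.stalkMap x).hom.Flat)
    (hg : (g.stalkMap (f x)).hom.Flat) : ((f ≫ g).stalkMap x).hom.Flat := by
  have e : ((f ≫ g).stalkMap x).hom = (f.stalkMap x).hom.comp (g.stalkMap (f x)).hom := by
    rw [Scheme.Hom.stalkMap_comp]; rfl
  rw [e]
  exact RingHom.Flat.comp hg hf

theorem s9766 (f : X ⟶ Y) (g : Y ⟶ Z) (x : X)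
    (hN : IsLocallyNoetherian ((f ≫ g).fiber (g (f x))))
    (hf : MoreMor.IsCMAt f x) (hg : MoreMor.IsCMAt g (f x)) : MoreMor.IsCMAt (f ≫ g) x := by
  haveI : IsNoetherianRing ((g.fiber (g (f x))).presheaf.stalk (g.asFiber (f x))) :=
    hg.2.toIsNoetherian
  haveI : IsLocallyNoetherian ((f ≫ g).fiber ((f ≫ g) x)) := hN
  haveI : IsNoetherianRing (((f ≫ g).fiber ((f ≫ g) x)).presheaf.stalk ((f ≫ g).asFiber x)) :=
    inferInstance
  exact ⟨flat_stalkMap_comp' f g x hf.1 hg.1,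
    (cm_fiber_comp_iff_sch f g x hf.1).mpr ⟨hg.2, hf.2⟩⟩

theorem s9767 (f : X ⟶ Y) (g : Y ⟶ Z) (x : X)
    (hNf : IsLocallyNoetherian (f.fiber (f x))) (hNg : IsLocallyNoetherian (g.fiber (g (f x))))
    (h : MoreMor.IsCMAt (f ≫ g) x) (hfl : (f.stalkMap x).hom.Flat) :
    MoreMor.IsCMAt f x ∧ MoreMor.IsCMAt g (f x) := by
  haveI : IsNoetherianRing ((g.fiber (g (f x))).presheaf.stalk (g.asFiber (f x))) := inferInstance
  haveI : IsNoetherianRing (((f ≫ g).fiber ((f ≫ g) x)).presheaf.stalk ((f ≫ g).asFiber x)) :=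
    h.2.toIsNoetherian
  have hcm := (cm_fiber_comp_iff_sch f g x hfl).mp h.2
  have hgfl : (g.stalkMap (f x)).hom.Flat :=
    Groth.Agent.H1.EtNhd.stalk_flat_of_comp g f x hfl h.1
  exact ⟨⟨hfl, hcm.2⟩, ⟨hgfl, hcm.1⟩⟩

end Groth.Agent.H1.CMFib
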