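import Mathlib
import Groth.Prelude.Def_EGA43
import Groth.Prelude.Def_EGA4b
import Groth.Agent.Lib.Helper1.OpenGen
import Groth.Agent.Lib.Helper1.EquidimLocC
import Groth.Agent.Lib.Helper1.CMQF
import Groth.Agent.Lib.Helper1.CMFib
import Groth.Agent.Lib.Helper1.Miracle
import Groth.Agent.Lib.Helper3.UnivOpenAt

/-!
# EGA IV 14.2: consequences of the dimension formula for morphisms open at generic points of
fibre components (helper1)
-/

set_option autoImplicit false
universe u

namespace Groth.Agent.H1.EGA142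

open AlgebraicGeometry CategoryTheory IsLocalRing TopologicalSpace Topology

/-- the local rings of an irreducible scheme are equidimensional (they have a single minimal
prime). -/
theorem isEquidim_stalk_of_irreducibleSpace {X : Scheme.{u}} [IrreducibleSpace X] (x : X) :
    EGA4.IsEquidim (X.presheaf.stalk x) := by
  obtain ⟨qξ, hqξ⟩ : ∃ q : PrimeSpectrum (X.presheaf.stalk x),
      X.fromSpecStalk x q = genericPoint X := by
    have : genericPoint X ∈ Set.range (X.fromSpecStalk x) := by
      rw [Scheme.range_fromSpecStalk]; exact genericPoint_specializes x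
    exact this
  have hle : ∀ q : PrimeSpectrum (X.presheaf.stalk x), qξ ≤ q := by
    intro q
    rw [PrimeSpectrum.le_iff_specializes]
    have h5 : X.fromSpecStalk x qξ ⤳ X.fromSpecStalk x q := by
      rw [hqξ]; exact genericPoint_specializes _
    exact (X.fromSpecStalk x).isEmbedding.isInducing.specializes_iff.1 h5
  intro p hp
  have hpeq : p = qξ.asIdeal :=
    le_antisymm (hp.2 ⟨qξ.isPrime, bot_le⟩ (hle ⟨p, hp.1.1⟩)) (hle ⟨p, hp.1.1⟩)
  rw [ringKrullDim_quotient]
  have huniv : PrimeSpectrum.zeroLocus (p : Set (X.presheaf.stalk x)) = Set.univ := by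
    rw [Set.eq_univ_iff_forall]; intro q
    rw [PrimeSpectrum.mem_zeroLocus, hpeq]; exact hle q
  exact Order.krullDim_eq_of_orderIso ((OrderIso.setCongr _ _ huniv).trans OrderIso.Set.univ)

variable {X Y : Scheme.{u}}

/-- **EGA IV 14.2.3?** (S4918). -/
theorem s4918 [IsLocallyNoetherian Y] (f : X ⟶ Y)
    [LocallyOfFiniteType f] (x : X) (hX : EGA4.IsEquidim (X.presheaf.stalk x))
    (h : ∀ z : ↥(f.fiber (f.base x)), f.asFiber x ∈ closure {z} →
      (∀ z' : ↥(f.fiber (f.base x)), z ∈ closure {z'} → z' = z) →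
      EGA43.IsOpenAt f.base ((f.fiberι (f.base x)).base z)) :
    EGA43.IsEquidimAt f x := by
  haveI : IsLocallyNoetherian X := LocallyOfFiniteType.isLocallyNoetherian f
  exact Groth.Agent.H1.EquidimLoc.isEquidimAt_of_isEquidim_stalk f x hX
    (Groth.Agent.H1.OpenGen.s2559 f x h)

/-- (S4917). -/
theorem s4917 [IsLocallyNoetherian Y] [IrreducibleSpace X] (f : X ⟶ Y) [LocallyOfFiniteType f]
    (x : X)
    (h : ∀ z : ↥(f.fiber (f.base x)), f.asFiber x ∈ closure {z} →
      (∀ z' : ↥(f.fiber (f.base x)), z ∈ closure {z'} → z' = z) →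
      EGA43.IsOpenAt f.base ((f.fiberι (f.base x)).base z)) :
    EGA43.IsEquidimAt f x :=
  s4918 f x (isEquidim_stalk_of_irreducibleSpace x) h

/-- **EGA IV 15.4.2-like** (S3440). -/
theorem s3440 [IsLocallyNoetherian Y] (f : X ⟶ Y)
    [LocallyOfFiniteType f] (x : X) (hreg : IsRegularLocalRing (Y.presheaf.stalk (f.base x)))
    (hCM : LocCoh.IsCohenMacaulayLocalRing (X.presheaf.stalk x)) :
    List.TFAE [
      (f.stalkMap x).hom.Flat ∧
        LocCoh.IsCohenMacaulayLocalRing ((f.fiber (f.base x)).presheaf.stalk (f.asFiber x)),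
      (f.stalkMap x).hom.Flat,
      ∃ U : X.Opens, x ∈ U ∧ UniversallyOpen (U.ι ≫ f),
      (∀ z : ↥(f.fiber (f.base x)), f.asFiber x ∈ closure {z} →
          (∀ z' : ↥(f.fiber (f.base x)), z ∈ closure {z'} → z' = z) →
          EGA43.IsOpenAt f.base ((f.fiberι (f.base x)).base z)),
      ringKrullDim (X.presheaf.stalk x) =
        ringKrullDim (Y.presheaf.stalk (f.base x)) +
          ringKrullDim ((f.fiber (f.base x)).presheaf.stalk (f.asFiber x)) ] := by
  haveI : IsLocallyNoetherian X := LocallyOfFiniteType.isLocallyNoetherian f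
  tfae_have 1 → 2 := fun h => h.1
  tfae_have 2 → 3 := by
    intro h
    obtain ⟨U, hxU, hU⟩ := Groth.Agent.H1.CMQF.exists_flat_nhd f x h
    exact ⟨U, hxU, inferInstance⟩
  tfae_have 3 → 4 := by
    rintro ⟨U, hxU, hU⟩ z hz _
    have hzx : f.fiberι (f x) z ⤳ x := by
      have h1 : z ⤳ f.asFiber x := specializes_iff_mem_closure.mpr hz
      have := h1.map (f.fiberι (f x)).continuous
      rwa [f.fiberι_asFiber x] at this
    have hzU : f.fiberι (f x) z ∈ U := hzx.mem_open U.2 hxU
    have hop : EGA43.IsOpenAt ((f.base : X → Y) ∘ (U.ι.base : U.toScheme → X))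
        (⟨f.fiberι (f x) z, hzU⟩ : U.toScheme) :=
      Groth.Agent.H3.isOpenAt_of_isOpenMap _ (U.ι ≫ f).isOpenMap _
    exact Groth.Agent.H3.isOpenAt_of_comp _ _ U.ι.continuous _ hop
  tfae_have 4 → 5 := fun h => Groth.Agent.H1.OpenGen.s2559 f x h
  tfae_have 5 → 1 := by
    intro hdim
    have hflat : (f.stalkMap x).hom.Flat := by
      letI := (f.stalkMap x).hom.toAlgebra
      haveI : IsLocalHom (algebraMap (Y.presheaf.stalk (f x)) (X.presheaf.stalk x)) :=
        inferInstanceAs (IsLocalHom (f.stalkMap x).hom)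
      have hCM' : LocCoh.IsCohenMacaulayModule (X.presheaf.stalk x) (X.presheaf.stalk x) :=
        hCM.supportDim_eq_depth
      have hIeq : (((maximalIdeal (Y.presheaf.stalk (f x))).map
          (algebraMap (Y.presheaf.stalk (f x)) (X.presheaf.stalk x))) •
            (⊤ : Submodule (X.presheaf.stalk x) (X.presheaf.stalk x))) =
          (maximalIdeal (Y.presheaf.stalk (f x))).map
            (algebraMap (Y.presheaf.stalk (f x)) (X.presheaf.stalk x)) := by
        rw [smul_eq_mul, Ideal.mul_top]
      change Module.Flat (Y.presheaf.stalk (f x)) (X.presheaf.stalk x)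
      apply Groth.Agent.H1.Miracle.flat_of_cm (A := Y.presheaf.stalk (f x))
        (B := X.presheaf.stalk x) (X.presheaf.stalk x) hCM'
      rw [Module.supportDim_self_eq_ringKrullDim,
        Module.supportDim_eq_of_equiv (Submodule.quotEquivOfEq _ _ hIeq),
        Module.supportDim_quotient_eq_ringKrullDim, hdim]
      congr 1
      exact (ringKrullDim_eq_of_ringEquiv (Groth.Agent.H1.FibreStalk.fiberStalkEquiv f x)).symm
    refine ⟨hflat, ?_⟩
    exact ((Groth.Agent.H1.CMFib.cm_iff_of_flat_local (f.stalkMap x).hom hflat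
      (Groth.Agent.H1.FibreStalk.fiberStalkEquiv f x)).mp hCM).2
  tfae_finish

end Groth.Agent.H1.EGA142
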