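import Mathlib
import Groth.Prelude.Def_EGA43
import Groth.Prelude.Def_EGA4b
import Groth.Agent.Lib.Helper1.ChevEqA
import Groth.Agent.Lib.Helper1.ChevSchC
import Groth.Agent.Lib.Helper1.EGA142
import Groth.Agent.Lib.Helper1.EquidimLocB

set_option autoImplicit false
set_option linter.style.haveILetI false
universe u

namespace Groth.Agent.H1.ChevEq

open CategoryTheory AlgebraicGeometry CategoryTheory.Limits IsLocalRing TensorProduct
open Groth.Agent.H1.DVRCrit Groth.Agent.H3 Groth.Agent.H8.Hens Groth.Agent.H1.ChevSch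
  Groth.Agent.H1.EquidimQF Groth.Agent.H1.EquidimLoc Groth.Agent.H1.DimLoc

set_option backward.isDefEq.respectTransparency false in
/-- in the situation of the quasi-finite case of Chevalley's criterion the local ring of the
source is equidimensional. -/
theorem isEquidim_stalk_of_quasiFinite {U P : Scheme.{u}} [IsLocallyNoetherian P] (g : U ⟶ P)
    [LocallyOfFiniteType g] [LocallyQuasiFinite g] (x : U)
    (hGU : CAlg2.IsGeomUnibranch (P.presheaf.stalk (g.base x)))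
    (H : ∀ ξ : U, (∀ z : U, z ⤳ ξ → z = ξ) → ξ ⤳ x → ∀ w : P, w ⤳ g.base ξ → w = g.base ξ) :
    EGA4.IsEquidim (U.presheaf.stalk x) := by
  obtain ⟨W, hW, hgxW, -⟩ := exists_affine_nhd_le (g.base x) ⊤ trivial
  obtain ⟨V, hV, hxV, e⟩ := exists_affine_nhd_le x (g ⁻¹ᵁ W) hgxW
  letI : Algebra Γ(P, W) Γ(U, V) := (g.appLE W V e).hom.toAlgebra
  haveI : Algebra.FiniteType Γ(P, W) Γ(U, V) := g.finiteType_appLE hW hV e
  haveI : Algebra.QuasiFinite Γ(P, W) Γ(U, V) := LocallyQuasiFinite.quasiFinite_appLE hW hV e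
  haveI : IsNoetherianRing Γ(P, W) := IsLocallyNoetherian.component_noetherian ⟨W, hW⟩
  haveI : IsNoetherianRing Γ(U, V) := Algebra.FiniteType.isNoetherianRing Γ(P, W) Γ(U, V)
  let g₀ : Spec Γ(U, V) ⟶ Spec Γ(P, W) := Spec.map (g.appLE W V e)
  have hcomm : g₀ ≫ hW.fromSpec = hV.fromSpec ≫ g := IsAffineOpen.SpecMap_appLE_fromSpec g hW hV e
  let x₀ : Spec Γ(U, V) := hV.primeIdealOf ⟨x, hxV⟩
  have hx₀ : hV.fromSpec.base x₀ = x := hV.fromSpec_primeIdealOf ⟨x, hxV⟩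
  let p₀ : Ideal Γ(P, W) := (hW.primeIdealOf ⟨g.base x, hgxW⟩).asIdeal
  have hp₀ : (x₀ : PrimeSpectrum Γ(U, V)).asIdeal.comap (algebraMap Γ(P, W) Γ(U, V)) = p₀ :=
    congrArg PrimeSpectrum.asIdeal
      (IsAffineOpen.comap_primeIdealOf_appLE (f := g) W hW V hV e hxV)
  have hGU' : CAlg2.IsGeomUnibranch (Localization.AtPrime p₀) := by
    letI := P.presheaf.algebra_section_stalk (⟨g.base x, hgxW⟩ : W)
    haveI : IsLocalization.AtPrime (P.presheaf.stalk (g.base x)) p₀ :=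
      hW.isLocalization_stalk ⟨g.base x, hgxW⟩
    exact isGeomUnibranch_of_ringEquiv
      (IsLocalization.algEquiv p₀.primeCompl (P.presheaf.stalk (g.base x))
        (Localization.AtPrime p₀)).toRingEquiv hGU
  have H₀ : ∀ 𝔮 ∈ minimalPrimes Γ(U, V), 𝔮 ≤ (x₀ : PrimeSpectrum Γ(U, V)).asIdeal →
      𝔮.comap (algebraMap Γ(P, W) Γ(U, V)) ∈ minimalPrimes Γ(P, W) := by
    intro 𝔮 h𝔮 h𝔮le
    haveI h𝔮p : 𝔮.IsPrime := h𝔮.1.1
    let ξ₀ : Spec Γ(U, V) := (⟨𝔮, h𝔮p⟩ : PrimeSpectrum Γ(U, V))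
    have hξV : hV.fromSpec.base ξ₀ ∈ (V : Set U) := by
      rw [← hV.range_fromSpec]; exact ⟨ξ₀, rfl⟩
    have hmax : ∀ z : U, z ⤳ hV.fromSpec.base ξ₀ → z = hV.fromSpec.base ξ₀ := by
      intro z hz
      have hzV : z ∈ (V : Set U) := hz.mem_open V.isOpen hξV
      let z₀ : Spec Γ(U, V) := hV.primeIdealOf ⟨z, hzV⟩
      have hz₀ : hV.fromSpec.base z₀ = z := hV.fromSpec_primeIdealOf ⟨z, hzV⟩
      have h5 : hV.fromSpec.base z₀ ⤳ hV.fromSpec.base ξ₀ := by rw [hz₀]; exact hz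
      have h6 : z₀ ⤳ ξ₀ := (hV.fromSpec.isEmbedding.isInducing.specializes_iff).1 h5
      have h7 : (z₀ : PrimeSpectrum Γ(U, V)).asIdeal ≤ 𝔮 :=
        (PrimeSpectrum.le_iff_specializes (z₀ : PrimeSpectrum Γ(U, V)) ξ₀).mpr h6
      have h8 : 𝔮 ≤ (z₀ : PrimeSpectrum Γ(U, V)).asIdeal :=
        h𝔮.2 ⟨(z₀ : PrimeSpectrum Γ(U, V)).isPrime, bot_le⟩ h7
      have h9 : z₀ = ξ₀ := PrimeSpectrum.ext (le_antisymm h7 h8)
      rw [← hz₀, h9]
    have hsp : hV.fromSpec.base ξ₀ ⤳ x := by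
      rw [← hx₀]
      have h5 : ξ₀ ⤳ x₀ :=
        (PrimeSpectrum.le_iff_specializes (ξ₀ : PrimeSpectrum Γ(U, V)) x₀).mp h𝔮le
      exact h5.map hV.fromSpec.continuous
    have hgmax := H _ hmax hsp
    have hgξ : g.base (hV.fromSpec.base ξ₀) = hW.fromSpec.base (g₀.base ξ₀) := by
      show g (hV.fromSpec ξ₀) = hW.fromSpec (g₀ ξ₀)
      rw [← Scheme.Hom.comp_apply, ← Scheme.Hom.comp_apply, hcomm]
    refine ⟨⟨Ideal.comap_isPrime _ _, bot_le⟩, ?_⟩
    rintro 𝔯 ⟨h𝔯p, -⟩ h𝔯le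
    let w₀ : Spec Γ(P, W) := (⟨𝔯, h𝔯p⟩ : PrimeSpectrum Γ(P, W))
    have h5 : w₀ ⤳ g₀.base ξ₀ :=
      (PrimeSpectrum.le_iff_specializes (w₀ : PrimeSpectrum Γ(P, W)) (g₀.base ξ₀)).mp h𝔯le
    have h6 : hW.fromSpec.base w₀ ⤳ g.base (hV.fromSpec.base ξ₀) := by
      rw [hgξ]; exact h5.map hW.fromSpec.continuous
    have h7 := hgmax _ h6
    rw [hgξ] at h7
    have h8 : w₀ = g₀.base ξ₀ := hW.fromSpec.isOpenEmbedding.injective h7
    have h9 : 𝔯 = 𝔮.comap (algebraMap Γ(P, W) Γ(U, V)) := congrArg PrimeSpectrum.asIdeal h8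
    exact h9.ge
  obtain ⟨eX⟩ := nonempty_stalk_ringEquiv_localization hV x hxV
  refine isEquidim_of_ringEquiv eX.symm ?_
  apply isEquidim_localization_of_forall_height_eq
  intro q₀ hq₀ q₀' hq₀' hle hle'
  rw [height_map_mk_eq Γ(P, W) Γ(U, V) _ p₀ hp₀ hGU' H₀ q₀ hq₀ hle,
    height_map_mk_eq Γ(P, W) Γ(U, V) _ p₀ hp₀ hGU' H₀ q₀' hq₀' hle']

variable {X Y : Scheme.{u}}

theorem isOpenAt_of_isUnivOpenAt (f : X ⟶ Y) (x : X) (h : EGA43.IsUnivOpenAt f x) :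
    EGA43.IsOpenAt f.base x :=
  isOpenAt_snd_of_isPullback (fst := 𝟙 X) (snd := f) (f := f) (g := 𝟙 Y) h
    IsPullback.of_id_fst x rfl

set_option backward.isDefEq.respectTransparency false in
/-- `O_{X,x}` is equidimensional when `f` is equidimensional at `x` and `f x` is geometrically
unibranch. -/
theorem isEquidim_stalk_of_isEquidimAt_of_geomUnibranch [IsLocallyNoetherian Y] (f : X ⟶ Y)
    [LocallyOfFiniteType f] (x : X) (hGU : CAlg2.IsGeomUnibranch (Y.presheaf.stalk (f.base x)))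
    (h : EGA43.IsEquidimAt f x) : EGA4.IsEquidim (X.presheaf.stalk x) := by
  obtain ⟨e, U, g, hxU, hg, hqf, hcomp⟩ := exists_of_isEquidimAt f x h
  haveI : LocallyOfFiniteType (g ≫ (𝔸(ULift.{u} (Fin e); Y) ↘ Y)) := by
    rw [hg]; infer_instance
  haveI : LocallyOfFiniteType g :=
    locallyOfFiniteType_of_comp g (𝔸(ULift.{u} (Fin e); Y) ↘ Y)
  haveI : IsLocallyNoetherian (𝔸(ULift.{u} (Fin e); Y)) :=
    LocallyOfFiniteType.isLocallyNoetherian (𝔸(ULift.{u} (Fin e); Y) ↘ Y)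
  let x₁ : (U : Scheme.{u}) := ⟨x, hxU⟩
  have hbase : (𝔸(ULift.{u} (Fin e); Y) ↘ Y).base (g.base x₁) = f.base x := by
    have := congrArg (fun φ : (U : Scheme.{u}) ⟶ Y => φ x₁) hg
    exact this
  have hGU' : CAlg2.IsGeomUnibranch ((𝔸(ULift.{u} (Fin e); Y)).presheaf.stalk (g.base x₁)) := by
    rw [Groth.Agent.H8.Brnch.isGeomUnibranch_stalk_iff_of_smooth (𝔸(ULift.{u} (Fin e); Y) ↘ Y)
      (g.base x₁)]
    exact (isGeomUnibranch_stalk_congr hbase).mpr hGU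
  have H : ∀ ξ : (U : Scheme.{u}), (∀ z : (U : Scheme.{u}), z ⤳ ξ → z = ξ) → ξ ⤳ x₁ →
      ∀ w : 𝔸(ULift.{u} (Fin e); Y), w ⤳ g.base ξ → w = g.base ξ := by
    intro ξ hξ _
    have hZ : closure ({ξ} : Set U.toScheme) ∈ irreducibleComponents (U.toScheme : Type u) :=
      Groth.Agent.H1.GenPts.closure_singleton_mem_irreducibleComponents ξ hξ
    have h1 := hcomp _ hZ
    rw [closure_image_closure_singleton _ g.continuous ξ] at h1
    exact eq_of_specializes_of_closure_mem_irreducibleComponents _ h1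
  have h1 := isEquidim_stalk_of_quasiFinite g x₁ hGU' H
  exact isEquidim_of_ringEquiv (U.stalkIso x₁).commRingCatIsoToRingEquiv h1

/-- **EGA IV 14.4.6** (S4939). -/
theorem s4939 [IsLocallyNoetherian Y] (f : X ⟶ Y)
    [LocallyOfFiniteType f] (x : X) (hy : CAlg2.IsGeomUnibranch (Y.presheaf.stalk (f.base x))) :
    List.TFAE [EGA43.IsEquidimAt f x,
      EGA4.IsEquidim (X.presheaf.stalk x) ∧ (∀ z : ↥(f.fiber (f.base x)), f.asFiber x ∈ closure {z} →
        (∀ z' : ↥(f.fiber (f.base x)), z ∈ closure {z'} → z' = z) →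
          EGA43.IsOpenAt f.base ((f.fiberι (f.base x)).base z)),
      EGA4.IsEquidim (X.presheaf.stalk x) ∧ (∀ z : ↥(f.fiber (f.base x)), f.asFiber x ∈ closure {z} →
        (∀ z' : ↥(f.fiber (f.base x)), z ∈ closure {z'} → z' = z) →
          EGA43.IsUnivOpenAt f ((f.fiberι (f.base x)).base z))] := by
  tfae_have 1 → 3 := by
    intro h
    refine ⟨isEquidim_stalk_of_isEquidimAt_of_geomUnibranch f x hy h, ?_⟩
    intro z hz _
    have hzsp : z ⤳ f.asFiber x := specializes_iff_mem_closure.mpr hz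
    have hz'x : (f.fiberι (f.base x)).base z ⤳ x := by
      have := hzsp.map (f.fiberι (f.base x)).continuous
      rwa [f.fiberι_asFiber x] at this
    have hfz : f.base ((f.fiberι (f.base x)).base z) = f.base x :=
      Groth.Agent.H1.GenFib.fiberι_apply_mem f (f.base x) z
    obtain ⟨e, U, hxU, hcomp, hfib⟩ := h
    have hz'U : (f.fiberι (f.base x)).base z ∈ U := hz'x.mem_open U.isOpen hxU
    have hEq : EGA43.IsEquidimAt f ((f.fiberι (f.base x)).base z) := by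
      refine ⟨e, U, hz'U, ?_, hfib⟩
      intro Z hZ
      obtain ⟨W, hW, hfxW, hcl⟩ := hcomp Z hZ
      exact ⟨W, hW, by rw [hfz]; exact hfxW, hcl⟩
    exact isUnivOpenAt_of_isEquidimAt f _ ((isGeomUnibranch_stalk_congr hfz).mpr hy) hEq
  tfae_have 3 → 2 := by
    rintro ⟨h1, h2⟩
    exact ⟨h1, fun z hz hmax => isOpenAt_of_isUnivOpenAt f _ (h2 z hz hmax)⟩
  tfae_have 2 → 1 := by
    rintro ⟨h1, h2⟩
    exact Groth.Agent.H1.EGA142.s4918 f x h1 h2
  tfae_finish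

end Groth.Agent.H1.ChevEq
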