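import Mathlib
import Groth.Prelude.Def_EGA43
import Groth.Agent.Lib.Helper1.GIrrS

/-!
# Section components: the universally open case over a locally Noetherian base (helper1)
-/

set_option autoImplicit false
set_option linter.style.haveILetI false
universe u

open TopologicalSpace Topology AlgebraicGeometry CategoryTheory CategoryTheory.Limits IsLocalRing

namespace Groth.Agent.H1.GIrr

/-! ### algebra: regularity of a parameter from reducedness and generizations -/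

theorem mem_nonZeroDivisors_of_isRadical_of_generizations {B : Type*} [CommRing B]
    [IsNoetherianRing B] [IsLocalRing B] (π : B) (hπ : π ∈ maximalIdeal B)
    (hrad : (Ideal.span {π}).IsRadical)
    (hgen : ∀ ξ : Ideal B, ξ.IsPrime → π ∈ ξ → ∃ 𝔮 : Ideal B, 𝔮.IsPrime ∧ 𝔮 ≤ ξ ∧ π ∉ 𝔮) :
    π ∈ nonZeroDivisors B := by
  obtain ⟨N, hNdef⟩ : ∃ N : Ideal B, N = RingHom.ker (algebraMap B (Localization.Away π)) :=
    ⟨_, rfl⟩
  have hN : ∀ b, b ∈ N ↔ ∃ k : ℕ, π ^ k * b = 0 := by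
    intro b
    rw [hNdef, RingHom.mem_ker, IsLocalization.map_eq_zero_iff (Submonoid.powers π)]
    constructor
    · rintro ⟨⟨_, k, rfl⟩, hk⟩
      exact ⟨k, hk⟩
    · rintro ⟨k, hk⟩
      exact ⟨⟨π ^ k, k, rfl⟩, hk⟩
  have hstep : N ≤ Ideal.span {π} • N := by
    intro b hb
    obtain ⟨k, hk⟩ := (hN b).mp hb
    have hbrad : b ∈ (Ideal.span {π}).radical := by
      rw [Ideal.radical_eq_sInf, Ideal.mem_sInf]
      rintro ξ ⟨hξ1, hξ2⟩
      obtain ⟨𝔮, h𝔮, h𝔮ξ, hπ𝔮⟩ := hgen ξ hξ2 (hξ1 (Ideal.subset_span rfl))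
      have h0 : π ^ k * b ∈ 𝔮 := by rw [hk]; exact 𝔮.zero_mem
      rcases h𝔮.mem_or_mem h0 with h | h
      · exact absurd (h𝔮.mem_of_pow_mem k h) hπ𝔮
      · exact h𝔮ξ h
    have hbπ : b ∈ Ideal.span {π} := hrad hbrad
    obtain ⟨c, hc⟩ := Ideal.mem_span_singleton'.mp hbπ
    have hcN : c ∈ N := by
      rw [hN]
      refine ⟨k + 1, ?_⟩
      rw [pow_succ, mul_assoc, mul_comm π c, hc, hk]
    rw [← hc, mul_comm, ← smul_eq_mul]
    exact Submodule.smul_mem_smul (Ideal.subset_span rfl) hcN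
  have hjac : Ideal.span {π} ≤ Ideal.jacobson ⊥ := by
    rw [IsLocalRing.jacobson_eq_maximalIdeal ⊥ bot_ne_top, Ideal.span_singleton_le_iff_mem]
    exact hπ
  have hNbot : N = ⊥ :=
    Submodule.eq_bot_of_le_smul_of_le_jacobson_bot (Ideal.span {π}) N
      (IsNoetherian.noetherian N) hstep hjac
  rw [mem_nonZeroDivisors_iff_right]
  intro b hb
  have hbN : b ∈ N := by
    rw [hN]
    exact ⟨1, by rw [pow_one, mul_comm]; exact hb⟩
  rw [hNbot] at hbN
  exact (Submodule.mem_bot B).mp hbN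

/-! ### transfer along open immersions -/

theorem isPullback_comp_mono {C : Type*} [Category C] {P X Y Z Z' : C} {fst : P ⟶ X}
    {snd : P ⟶ Y} {f : X ⟶ Z} {g : Y ⟶ Z} (h : IsPullback fst snd f g) (m : Z ⟶ Z') [Mono m] :
    IsPullback fst snd (f ≫ m) (g ≫ m) := by
  refine ⟨⟨by rw [← Category.assoc, h.w, Category.assoc]⟩, ⟨PullbackCone.IsLimit.mk _
    (fun s => h.lift s.fst s.snd ((cancel_mono m).mp (by
      simpa only [Category.assoc] using s.condition)))
    (fun s => h.lift_fst _ _ _) (fun s => h.lift_snd _ _ _)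
    (fun s l h1 h2 => h.hom_ext (by rw [h1, h.lift_fst]) (by rw [h2, h.lift_snd]))⟩⟩

theorem stalkHom_comp {R : Type u} [CommRing R] {W₂ W : Scheme.{u}} (j : W₂ ⟶ W)
    (p : W ⟶ Spec (CommRingCat.of R)) (z : W₂) (r : R) :
    stalkHom (j ≫ p) z r = (j.stalkMap z).hom (stalkHom p (j z) r) := by
  unfold stalkHom
  rw [Scheme.Hom.stalkMap_comp]
  rfl

theorem good_of_isOpenImmersion {R : Type u} [CommRing R] {W₂ W : Scheme.{u}} (j : W₂ ⟶ W)
    [IsOpenImmersion j] (p : W ⟶ Spec (CommRingCat.of R)) (p₂ : W₂ ⟶ Spec (CommRingCat.of R))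
    (hjp : j ≫ p = p₂) (z : W₂) (ϖ : R)
    (h : stalkHom p (j z) ϖ ∈ nonZeroDivisors (W.presheaf.stalk (j z)) ∧
      (Ideal.span {stalkHom p (j z) ϖ}).IsRadical) :
    stalkHom p₂ z ϖ ∈ nonZeroDivisors (W₂.presheaf.stalk z) ∧
      (Ideal.span {stalkHom p₂ z ϖ}).IsRadical := by
  subst hjp
  have hb : Function.Bijective (j.stalkMap z).hom :=
    ConcreteCategory.bijective_of_isIso (j.stalkMap z)
  obtain ⟨h1, h2⟩ := h
  rw [stalkHom_comp]
  constructor
  · rw [mem_nonZeroDivisors_iff_right]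
    intro b' hb'
    obtain ⟨b, rfl⟩ := hb.2 b'
    rw [← map_mul] at hb'
    have h3 : b * stalkHom p (j z) ϖ = 0 := hb.1 (by rw [hb', map_zero])
    rw [(mem_nonZeroDivisors_iff_right.mp h1) b h3, map_zero]
  · intro x' hx'
    obtain ⟨x, rfl⟩ := hb.2 x'
    obtain ⟨n, hn⟩ := hx'
    obtain ⟨c', hc'⟩ := Ideal.mem_span_singleton'.mp hn
    obtain ⟨c, rfl⟩ := hb.2 c'
    rw [← map_pow, ← map_mul] at hc'
    have h3 : c * stalkHom p (j z) ϖ = x ^ n := hb.1 hc'
    have h4 : x ∈ Ideal.span {stalkHom p (j z) ϖ} :=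
      h2 ⟨n, Ideal.mem_span_singleton'.mpr ⟨c, h3⟩⟩
    obtain ⟨d, hd⟩ := Ideal.mem_span_singleton'.mp h4
    rw [Ideal.mem_span_singleton']
    exact ⟨(j.stalkMap z).hom d, by rw [← map_mul, hd]⟩

/-! ### the abstract hypothesis and the Noetherian quasi-compact case -/

/-- the hypothesis of the discrete valuation ring case, at a point `x` of `X` -/
def DvrGood {X Y : Scheme.{u}} (f : X ⟶ Y) (x : X) : Prop :=
  ∀ (R : Type u) [CommRing R] [IsDomain R] [IsDiscreteValuationRing R]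
    (h : Spec (CommRingCat.of R) ⟶ Y) (z : ↥(pullback f h)) (ϖ : R), Irreducible ϖ →
    pullback.fst f h z = x → pullback.snd f h z = closedPoint R →
    stalkHom (pullback.snd f h) z ϖ ∈ nonZeroDivisors ((pullback f h).presheaf.stalk z) ∧
      (Ideal.span {stalkHom (pullback.snd f h) z ϖ}).IsRadical

theorem sectionComponents_mem_nhds_of_noetherian' {X Y : Scheme.{u}} [IsNoetherian Y] (f : X ⟶ Y)
    [LocallyOfFiniteType f] [QuasiCompact f] (s : Y ⟶ X) (hs : s ≫ f = 𝟙 Y) (x : X)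
    (hx : x ∈ MoreMor.sectionComponents f s)
    (hgood : ∀ x₁ ∈ MoreMor.sectionComponents f s, f x₁ = f x → DvrGood f x₁) :
    MoreMor.sectionComponents f s ∈ 𝓝 x := by
  haveI : IsLocallyNoetherian X := LocallyOfFiniteType.isLocallyNoetherian f
  have hcons := isConstructible_sectionComponents_of_noetherian f s hs
  refine mem_nhds_of_forall_specializes hcons.isLocallyConstructible ?_
  intro x' hx'
  by_cases hne : x' = x
  · rw [hne]
    exact hx
  obtain ⟨R, _, _, _, g₀, hg₀c, hg₀η⟩ := Groth.Agent.H8.DVRSch.exists_dvr_of_specializes hx' hne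
  obtain ⟨ϖ, hϖ⟩ := IsDiscreteValuationRing.exists_irreducible R
  obtain ⟨c, hcdef⟩ : ∃ c : Spec (CommRingCat.of R), c = closedPoint R := ⟨_, rfl⟩
  obtain ⟨η, hηdef⟩ : ∃ η : Spec (CommRingCat.of R), η = (⊥ : PrimeSpectrum R) := ⟨_, rfl⟩
  rw [← hcdef] at hg₀c
  rw [← hηdef] at hg₀η
  obtain ⟨h, hh⟩ : ∃ h : Spec (CommRingCat.of R) ⟶ Y, h = g₀ ≫ f := ⟨_, rfl⟩
  have hc := IsPullback.of_hasPullback f h
  obtain ⟨p, hp⟩ : ∃ p : pullback f h ⟶ Spec (CommRingCat.of R), p = pullback.snd f h := ⟨_, rfl⟩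
  obtain ⟨fst, hfst⟩ : ∃ fst : pullback f h ⟶ X, fst = pullback.fst f h := ⟨_, rfl⟩
  rw [← hp, ← hfst] at hc
  haveI : LocallyOfFiniteType p := by rw [hp]; infer_instance
  have hw1 : (h ≫ s) ≫ f = 𝟙 _ ≫ h := by
    rw [Category.assoc, hs, Category.comp_id, Category.id_comp]
  have hw2 : g₀ ≫ f = 𝟙 _ ≫ h := by rw [Category.id_comp, hh]
  have hσp : hc.lift (h ≫ s) (𝟙 _) hw1 ≫ p = 𝟙 _ := hc.lift_snd _ _ _
  have hσf : hc.lift (h ≫ s) (𝟙 _) hw1 ≫ fst = h ≫ s := hc.lift_fst _ _ _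
  have hτp : hc.lift g₀ (𝟙 _) hw2 ≫ p = 𝟙 _ := hc.lift_snd _ _ _
  have hτf : hc.lift g₀ (𝟙 _) hw2 ≫ fst = g₀ := hc.lift_fst _ _ _
  obtain ⟨σ, hσ⟩ : ∃ σ : Spec (CommRingCat.of R) ⟶ pullback f h,
    σ = hc.lift (h ≫ s) (𝟙 _) hw1 := ⟨_, rfl⟩
  obtain ⟨τ, hτ⟩ : ∃ τ : Spec (CommRingCat.of R) ⟶ pullback f h,
    τ = hc.lift g₀ (𝟙 _) hw2 := ⟨_, rfl⟩
  rw [← hσ] at hσp hσf
  rw [← hτ] at hτp hτf
  have hE := Groth.Agent.H1.SecComp.s1324 f s hs p fst h hc σ hσp hσf
  have hpτ : ∀ t, p (τ t) = t := fun t => by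
    change (τ ≫ p) t = t
    rw [hτp]
    rfl
  have hfτ : ∀ t, fst (τ t) = g₀ t := fun t => by
    change (τ ≫ fst) t = _
    rw [hτf]
  have hmem : ∀ (w : ↥(pullback f h)) (t : Spec (CommRingCat.of R)), p w = t →
      (w ∈ MoreMor.sectionComponents p σ ↔ w ∈ connectedComponentIn (p ⁻¹' {t}) (σ t)) := by
    intro w t ht
    subst ht
    rfl
  have hτc : τ c ∈ connectedComponentIn (p ⁻¹' {c}) (σ c) := by
    rw [← hmem (τ c) c (hpτ c), hE]
    change fst (τ c) ∈ MoreMor.sectionComponents f s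
    rw [hfτ, hg₀c]
    exact hx
  have H : ∀ z ∈ connectedComponentIn (p ⁻¹' {c}) (σ c),
      stalkHom p z ϖ ∈ nonZeroDivisors ((pullback f h).presheaf.stalk z) ∧
        (Ideal.span {stalkHom p z ϖ}).IsRadical := by
    intro z hz
    have hpz0 : z ∈ p ⁻¹' {c} := connectedComponentIn_subset _ _ hz
    have hpz : p z = c := hpz0
    have hzE : z ∈ MoreMor.sectionComponents p σ := (hmem z c hpz).mpr hz
    rw [hE] at hzE
    have hfz : f (fst z) = f x := by
      have h1 : f (fst z) = h (p z) := apply_eq_of_comp_eq hc.w z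
      rw [h1, hpz, hh]
      change f (g₀ c) = f x
      rw [hg₀c]
    have hG := hgood (fst z) hzE hfz R h
    subst hp hfst
    exact hG z ϖ hϖ rfl (hpz.trans hcdef)
  have hfin := dvr_core p σ τ hσp hτp hϖ c η hcdef hηdef H hτc
  rw [← hmem (τ η) η (hpτ η), hE] at hfin
  have h2 : fst (τ η) ∈ MoreMor.sectionComponents f s := hfin
  rw [hfτ, hg₀η] at h2
  exact h2


/-! ### restriction of the hypothesis to opens -/

theorem dvrGood_resLE {X Y : Scheme.{u}} (f : X ⟶ Y) (V : Y.Opens) (U : X.Opens)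
    (hUV : U ≤ f ⁻¹ᵁ V) (u : ↥U) (hgood : DvrGood f (U.ι u)) : DvrGood (f.resLE V U hUV) u := by
  intro R _ _ _ h₂ z ϖ hϖ hz1 hz2
  have hw : (pullback.fst (f.resLE V U hUV) h₂ ≫ U.ι) ≫ f =
      pullback.snd (f.resLE V U hUV) h₂ ≫ h₂ ≫ V.ι := by
    rw [Category.assoc, ← Scheme.Hom.resLE_comp_ι f hUV, ← Category.assoc, pullback.condition,
      Category.assoc]
  obtain ⟨k, hk⟩ : ∃ k : pullback (f.resLE V U hUV) h₂ ⟶ pullback f (h₂ ≫ V.ι),
      k = pullback.lift (pullback.fst (f.resLE V U hUV) h₂ ≫ U.ι)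
        (pullback.snd (f.resLE V U hUV) h₂) hw := ⟨_, rfl⟩
  have hk1 : k ≫ pullback.fst f (h₂ ≫ V.ι) = pullback.fst (f.resLE V U hUV) h₂ ≫ U.ι := by
    rw [hk]; exact pullback.lift_fst _ _ _
  have hk2 : k ≫ pullback.snd f (h₂ ≫ V.ι) = pullback.snd (f.resLE V U hUV) h₂ := by
    rw [hk]; exact pullback.lift_snd _ _ _
  -- `k` is an open immersion
  have houter : IsPullback (k ≫ pullback.snd f (h₂ ≫ V.ι)) (pullback.fst (f.resLE V U hUV) h₂)
      (h₂ ≫ V.ι) (U.ι ≫ f) := by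
    rw [hk2, ← Scheme.Hom.resLE_comp_ι f hUV]
    exact isPullback_comp_mono (IsPullback.of_hasPullback (f.resLE V U hUV) h₂).flip V.ι
  have hleft : IsPullback k (pullback.fst (f.resLE V U hUV) h₂) (pullback.fst f (h₂ ≫ V.ι)) U.ι :=
    IsPullback.of_right houter hk1 (IsPullback.of_hasPullback f (h₂ ≫ V.ι)).flip
  haveI : IsOpenImmersion k :=
    MorphismProperty.of_isPullback (P := @IsOpenImmersion) hleft.flip inferInstance
  have hfk : pullback.fst f (h₂ ≫ V.ι) (k z) = U.ι u := by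
    rw [apply_eq_of_comp_eq hk1 z, hz1]
  have hpk : pullback.snd f (h₂ ≫ V.ι) (k z) = closedPoint R := by
    rw [apply_eq_of_comp_eq (hk2.trans (Category.id_comp _).symm) z]
    exact hz2
  exact good_of_isOpenImmersion k (pullback.snd f (h₂ ≫ V.ι)) _ hk2 z ϖ
    (hgood R (h₂ ≫ V.ι) (k z) ϖ hϖ hfk hpk)

/-! ### the hypothesis from universal openness and geometric reducedness -/

theorem dvrGood_of_univOpen {X Y : Scheme.{u}} [IsLocallyNoetherian Y] (f : X ⟶ Y)
    [LocallyOfFiniteType f] (s : Y ⟶ X) (y : Y)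
    (hyp : ∀ x₁ ∈ connectedComponentIn (f ⁻¹' {y}) (s y), EGA43.IsUnivOpenAt f x₁ ∧ GRat f x₁)
    (x₁ : X) (hx₁ : x₁ ∈ connectedComponentIn (f ⁻¹' {y}) (s y)) : DvrGood f x₁ := by
  intro R _ _ _ h z ϖ hϖ hz1 hz2
  have hc := IsPullback.of_hasPullback f h
  haveI : IsLocallyNoetherian X := LocallyOfFiniteType.isLocallyNoetherian f
  haveI : IsLocallyNoetherian (pullback f h) :=
    LocallyOfFiniteType.isLocallyNoetherian (pullback.snd f h)
  have hx₁y : f x₁ = y := by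
    have h0 : x₁ ∈ f ⁻¹' {y} := connectedComponentIn_subset _ _ hx₁
    exact h0
  have hG : GRat f (pullback.fst f h z) := by
    rw [hz1]
    exact (hyp x₁ hx₁).2
  have hrad : (Ideal.span {stalkHom (pullback.snd f h) z ϖ}).IsRadical := by
    rw [← span_stalkHom_eq (pullback.snd f h) z hz2 hϖ, Ideal.isRadical_iff_quotient_reduced]
    exact isReduced_quotient_stalk hc z hG
  refine ⟨?_, hrad⟩
  apply mem_nonZeroDivisors_of_isRadical_of_generizations _ ?_ hrad ?_
  · have h1 : Ideal.span {stalkHom (pullback.snd f h) z ϖ} ≤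
        maximalIdeal ((pullback f h).presheaf.stalk z) := by
      rw [← span_stalkHom_eq (pullback.snd f h) z hz2 hϖ]
      exact ((local_hom_TFAE ((pullback.snd f h).stalkMap z).hom).out 0 2 rfl rfl).mp
        inferInstance
    exact h1 (Ideal.subset_span rfl)
  · intro ξ hξ hπξ
    obtain ⟨η, hηdef⟩ : ∃ η : Spec (CommRingCat.of R), η = (⊥ : PrimeSpectrum R) := ⟨_, rfl⟩
    obtain ⟨ξ', hξ'def⟩ : ∃ ξ' : ↥(pullback f h),
      ξ' = (pullback f h).fromSpecStalk z (⟨ξ, hξ⟩ : PrimeSpectrum _) := ⟨_, rfl⟩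
    have hrange : ∀ w : ↥(pullback f h), w ⤳ z ↔ w ∈ Set.range ((pullback f h).fromSpecStalk z) := by
      intro w
      rw [Scheme.range_fromSpecStalk]
      rfl
    have hξ'z : ξ' ⤳ z := (hrange ξ').mpr ⟨_, hξ'def.symm⟩
    have hpξ' : pullback.snd f h ξ' = closedPoint R := by
      rcases eq_bot_or_eq_closedPoint (pullback.snd f h ξ' : PrimeSpectrum R) with hbot | hcl
      · exfalso
        have h1 : (pullback.snd f h ξ' : PrimeSpectrum R).asIdeal = ⊥ := by rw [hbot]; rfl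
        rw [hξ'def, apply_fromSpecStalk] at h1
        have h2 : ϖ ∈ Ideal.comap (stalkHom (pullback.snd f h) z) ξ := hπξ
        rw [h1] at h2
        exact hϖ.ne_zero ((Submodule.mem_bot R).mp h2)
      · exact hcl
    have hfξ' : f (pullback.fst f h ξ') = y := by
      rw [apply_eq_of_comp_eq hc.w ξ', hpξ', ← hz2, ← apply_eq_of_comp_eq hc.w z, hz1, hx₁y]
    have hfstspec : pullback.fst f h ξ' ⤳ x₁ := by
      have := hξ'z.map (pullback.fst f h).continuous
      rwa [hz1] at this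
    have hξ'C : pullback.fst f h ξ' ∈ connectedComponentIn (f ⁻¹' {y}) (s y) := by
      have hT : _root_.IsPreconnected (closure {pullback.fst f h ξ'} ∩ f ⁻¹' {y}) :=
        isPreconnected_singleton.subset_closure
          (Set.singleton_subset_iff.mpr ⟨subset_closure rfl, hfξ'⟩) Set.inter_subset_left
      have hx₁T : x₁ ∈ closure {pullback.fst f h ξ'} ∩ f ⁻¹' {y} :=
        ⟨specializes_iff_mem_closure.mp hfstspec, hx₁y⟩
      have h1 := hT.subset_connectedComponentIn hx₁T Set.inter_subset_right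
      rw [connectedComponentIn_eq hx₁]
      exact h1 ⟨subset_closure rfl, hfξ'⟩
    have hUO := (hyp _ hξ'C).1
    have hopen : EGA43.IsOpenAt (pullback.snd f h).base ξ' := hUO _ h ξ' rfl
    have hspec : η ⤳ (pullback.snd f h ξ') := by
      rw [hηdef, hpξ']
      exact (PrimeSpectrum.le_iff_specializes _ _).mp bot_le
    have hcl : ξ' ∈ closure (pullback.snd f h ⁻¹' {η}) := by
      rw [mem_closure_iff_nhds]
      intro N hN
      have h1 : (pullback.snd f h).base '' N ∈ 𝓝 ((pullback.snd f h).base ξ') := hopen N hN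
      have h2 : (pullback.snd f h).base '' N ∈ 𝓝 η := hspec h1
      obtain ⟨n, hnN, hpn⟩ := mem_of_mem_nhds h2
      exact ⟨n, hnN, hpn⟩
    have hηo : IsOpen (pullback.snd f h ⁻¹' {η}) := by
      rw [hηdef]
      exact isOpen_singleton_bot.preimage (pullback.snd f h).continuous
    obtain ⟨w, hwη, hwξ'⟩ := exists_specializes_of_mem_closure_of_isOpen hηo hcl
    obtain ⟨𝔮, rfl⟩ := (hrange w).mp (hwξ'.trans hξ'z)
    refine ⟨𝔮.asIdeal, 𝔮.isPrime, ?_, ?_⟩
    · rw [hξ'def] at hwξ'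
      have h1 := ((pullback f h).fromSpecStalk z).isEmbedding.isInducing.specializes_iff.mp hwξ'
      exact (PrimeSpectrum.le_iff_specializes 𝔮 ⟨ξ, hξ⟩).mpr h1
    · haveI := 𝔮.isPrime
      have h1 : (pullback.snd f h ((pullback f h).fromSpecStalk z 𝔮) : PrimeSpectrum R).asIdeal =
          ⊥ := by
        have h0 : pullback.snd f h ((pullback f h).fromSpecStalk z 𝔮) = η := hwη
        rw [h0, hηdef]
        rfl
      rw [apply_fromSpecStalk, eq_bot_iff_notMem hϖ] at h1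
      exact h1

/-! ### the theorem -/

theorem sectionComponents_mem_nhds_of_univOpen {X Y : Scheme.{u}} [IsLocallyNoetherian Y]
    (f : X ⟶ Y) [LocallyOfFiniteType f] (g : Y ⟶ X) (hg : g ≫ f = 𝟙 Y) (y : Y)
    (hyp : ∀ x₁ ∈ connectedComponentIn (f ⁻¹' {y}) (g y), EGA43.IsUnivOpenAt f x₁ ∧ GRat f x₁)
    (x : X) (hx : x ∈ connectedComponentIn (f ⁻¹' {y}) (g y)) :
    MoreMor.sectionComponents f g ∈ 𝓝 x := by
  have hfx : f x = y := by
    have h0 : x ∈ f ⁻¹' {y} := connectedComponentIn_subset _ _ hx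
    exact h0
  obtain ⟨V, U, hV, hUc, hUV, hVU, hyV, hxU, hpre⟩ :=
    exists_opens_of_mem_connectedComponentIn f g hg y x hx
  haveI : IsAffine V.toScheme := hV
  haveI : IsLocallyNoetherian V.toScheme := isLocallyNoetherian_of_isOpenImmersion V.ι
  haveI : IsNoetherian V.toScheme := {}
  haveI : CompactSpace ↥(U.toScheme) := isCompact_iff_compactSpace.mp hUc
  haveI : QuasiSeparatedSpace ↥(V.toScheme) := inferInstance
  haveI : QuasiCompact (f.resLE V U hUV) := quasiCompact_of_compactSpace _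
  haveI : LocallyOfFiniteType (f.resLE V U hUV) := inferInstance
  have hs₂ := resLE_section f g hg V U hUV hVU
  have hmem := mem_sectionComponents_resLE f g hg V U hUV hVU x hxU (by rw [hfx]; exact hpre)
  have hVinj : Function.Injective V.ι := V.ι.isOpenEmbedding.injective
  have hgood₂ : ∀ u ∈ MoreMor.sectionComponents (f.resLE V U hUV) (g.resLE U V hVU),
      f.resLE V U hUV u = f.resLE V U hUV ⟨x, hxU⟩ → DvrGood (f.resLE V U hUV) u := by
    intro u hu hfu
    have huE := sectionComponents_resLE_subset f g hg V U hUV hVU u hu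
    have hfu' : f (U.ι u) = y := by
      rw [← apply_resLE f V U hUV u, hfu, apply_resLE f V U hUV]
      exact hfx
    have huC : U.ι u ∈ connectedComponentIn (f ⁻¹' {y}) (g y) := by
      have h1 : U.ι u ∈ connectedComponentIn (f ⁻¹' {f (U.ι u)}) (g (f (U.ι u))) := huE
      rwa [hfu'] at h1
    exact dvrGood_resLE f V U hUV u (dvrGood_of_univOpen f g y hyp (U.ι u) huC)
  have hnhds := sectionComponents_mem_nhds_of_noetherian' (f.resLE V U hUV) (g.resLE U V hVU) hs₂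
    ⟨x, hxU⟩ hmem hgood₂
  exact mem_nhds_of_resLE f g V U hUV hVU x hxU
    (sectionComponents_resLE_subset f g hg V U hUV hVU) hnhds

theorem isUnivOpenAt_of_universallyOpen {X Y : Scheme.{u}} (f : X ⟶ Y) [UniversallyOpen f]
    (x : X) : EGA43.IsUnivOpenAt f x := by
  intro Y' g x' _ N hN
  exact (pullback.snd f g).isOpenMap.image_mem_nhds hN

/-- **S3420**. -/
theorem main3420 {X Y : Scheme.{u}} [IsLocallyNoetherian Y] (f : X ⟶ Y)
    [LocallyOfFiniteType f] (g : Y ⟶ X) (hg : g ≫ f = 𝟙 Y) :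
    (∀ y : Y, (∀ x ∈ connectedComponentIn (f.base ⁻¹' {y}) (g.base y), EGA43.IsUnivOpenAt f x ∧
        FBase.IsGeomReducedAt (f.fiberToSpecResidueField (f.base x)) (f.asFiber x)) →
      connectedComponentIn (f.base ⁻¹' {y}) (g.base y) ⊆ interior (MoreMor.sectionComponents f g)) ∧
    (UniversallyOpen f → (∀ x ∈ MoreMor.sectionComponents f g,
        FBase.IsGeomReducedAt (f.fiberToSpecResidueField (f.base x)) (f.asFiber x)) →
      IsOpen (MoreMor.sectionComponents f g)) := by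
  have part1 : ∀ y : Y, (∀ x ∈ connectedComponentIn (f ⁻¹' {y}) (g y), EGA43.IsUnivOpenAt f x ∧
        FBase.IsGeomReducedAt (f.fiberToSpecResidueField (f x)) (f.asFiber x)) →
      ∀ x ∈ connectedComponentIn (f ⁻¹' {y}) (g y), MoreMor.sectionComponents f g ∈ 𝓝 x := by
    intro y hyp x hx
    exact sectionComponents_mem_nhds_of_univOpen f g hg y
      (fun x₁ hx₁ => ⟨(hyp x₁ hx₁).1, gRat_of_asFiber f x₁ (hyp x₁ hx₁).2⟩) x hx
  refine ⟨fun y hyp x hx => ?_, fun hUO hyp => ?_⟩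
  · rw [mem_interior_iff_mem_nhds]
    exact part1 y hyp x hx
  · rw [isOpen_iff_mem_nhds]
    intro x hx
    have hxC : x ∈ connectedComponentIn (f ⁻¹' {f x}) (g (f x)) := hx
    refine part1 (f x) (fun x₁ hx₁ => ⟨isUnivOpenAt_of_universallyOpen f x₁, hyp x₁ ?_⟩) x hxC
    have h0 : x₁ ∈ f ⁻¹' {f x} := connectedComponentIn_subset _ _ hx₁
    have h1 : f x₁ = f x := h0
    change x₁ ∈ connectedComponentIn (f ⁻¹' {f x₁}) (g (f x₁))
    rw [h1]
    exact hx₁

end Groth.Agent.H1.GIrr
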