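import Mathlib
import Groth.Prelude.Def_Curv2
import Groth.Prelude.Def_FDesc
import Groth.Agent.Lib.Helper1.BCStalkRed
import Groth.Agent.Lib.Helper1.BCTowerApp
import Groth.Agent.Lib.Helper2.ReducedNhd

/-! Helper1: the geometrically reduced locus of a locally Noetherian scheme over a field is open. -/

set_option autoImplicit false
set_option linter.style.haveILetI false
universe u
open CategoryTheory CategoryTheory.Limits AlgebraicGeometry IsLocalRing TensorProduct TopologicalSpace

namespace Groth.Agent.H1.GeomRedOpen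

attribute [local instance] Curv2.resAlgebra Curv2.stalkAlgebra

/-- irreducible components of a locally Noetherian scheme are locally finite. -/
theorem locallyFinite_irreducibleComponents (X : Scheme.{u}) [IsLocallyNoetherian X] :
    LocallyFinite (fun T : ↥(irreducibleComponents ↥X) => (T.1 : Set ↥X)) := by
  intro x
  obtain ⟨U, hU, hxU, -⟩ := exists_isAffineOpen_mem_and_subset (x := x) (U := ⊤) trivial
  have hN : IsNoetherianRing Γ(X, U) := IsLocallyNoetherian.component_noetherian ⟨U, hU⟩
  have hNU : NoetherianSpace (↥(U : Set X)) := noetherianSpace_of_isAffineOpen U hU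
  refine ⟨U, U.2.mem_nhds hxU, ?_⟩
  have hj : Topology.IsOpenEmbedding (Subtype.val : ↥U → ↥X) := U.2.isOpenEmbedding_subtypeVal
  have hfin : Finite ↥(irreducibleComponents ↥U) :=
    (@NoetherianSpace.finite_irreducibleComponents (↥(U : Set X)) _ hNU).to_subtype
  let S : Set ↥(irreducibleComponents ↥X) := {T | ((T.1 : Set ↥X) ∩ (U : Set X)).Nonempty}
  have hmeet : ∀ T : S, ((T.1.1 : Set ↥X) ∩ Set.range (Subtype.val : ↥U → ↥X)).Nonempty := by
    rintro ⟨T, hT⟩
    obtain ⟨z, hz, hzU⟩ := hT
    exact ⟨z, hz, ⟨⟨z, hzU⟩, rfl⟩⟩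
  let g : S → ↥(irreducibleComponents ↥U) := fun T =>
    ⟨(Subtype.val : ↥U → ↥X) ⁻¹' T.1.1, preimage_mem_irreducibleComponents T.1.2 hj (hmeet T)⟩
  have hg : Function.Injective g := by
    intro T T' h
    have h' : (Subtype.val : ↥U → ↥X) ⁻¹' T.1.1 = (Subtype.val : ↥U → ↥X) ⁻¹' T'.1.1 :=
      congrArg Subtype.val h
    have e1 := closure_image_preimage_of_isPreirreducible (Subtype.val : ↥U → ↥X) hj.isOpenMap
      T.1.1 (by
        obtain ⟨z, hz, ⟨v, rfl⟩⟩ := hmeet T
        exact ⟨v, hz⟩) T.1.2.1.2 (isClosed_of_mem_irreducibleComponents _ T.1.2)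
    have e2 := closure_image_preimage_of_isPreirreducible (Subtype.val : ↥U → ↥X) hj.isOpenMap
      T'.1.1 (by
        obtain ⟨z, hz, ⟨v, rfl⟩⟩ := hmeet T'
        exact ⟨v, hz⟩) T'.1.2.1.2 (isClosed_of_mem_irreducibleComponents _ T'.1.2)
    rw [h'] at e1
    have : T.1.1 = T'.1.1 := e1.symm.trans e2
    exact Subtype.ext (Subtype.ext this)
  have : Finite S := Finite.of_injective g hg
  exact Set.toFinite S

/-- the reduced locus of a locally Noetherian scheme is open. -/
theorem isOpen_isReduced_stalk (X : Scheme.{u}) [IsLocallyNoetherian X] :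
    IsOpen {x : X | IsReduced (X.presheaf.stalk x)} := by
  rw [isOpen_iff_forall_mem_open]
  intro x hx
  haveI : IsReduced (X.presheaf.stalk x) := hx
  obtain ⟨U, hxU, hU⟩ := Groth.Agent.H2.exists_reduced_nhd_of_isReduced_stalk X x
  refine ⟨U, ?_, U.2, hxU⟩
  intro y hy
  haveI := hU
  let e : X.presheaf.stalk y ≃+* (U : Scheme.{u}).presheaf.stalk ⟨y, hy⟩ :=
    RingEquiv.ofBijective (U.ι.stalkMap ⟨y, hy⟩).hom
      (ConcreteCategory.bijective_of_isIso (U.ι.stalkMap ⟨y, hy⟩))
  haveI : IsReduced ((U : Scheme.{u}).presheaf.stalk ⟨y, hy⟩) := inferInstance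
  exact isReduced_of_injective e.toRingHom e.injective

variable (k : Type u) [Field k] (X : Scheme.{u}) [X.Over (Spec (CommRingCat.of k))]

open Groth.Agent.H1.BCStalk in
/-- pointwise criterion: a point with reduced local ring is geometrically reduced as soon as all the
generic points of the irreducible components through it are. -/
theorem isGeomReducedAt_of_minimalPrimes (y : X) [IsReduced (X.presheaf.stalk y)]
    (h : ∀ (p : Ideal (X.presheaf.stalk y)) (hp : p ∈ minimalPrimes (X.presheaf.stalk y)),
      Curv2.IsGeomReducedAt k X (X.fromSpecStalk y ⟨p, hp.1.1⟩)) :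
    Curv2.IsGeomReducedAt k X y := by
  rw [s1541]
  apply isGeometricallyReduced_of_minimalPrimes
  intro p hp
  obtain ⟨η, hη⟩ : ∃ η, X.fromSpecStalk y ⟨p, hp.1.1⟩ = η := ⟨_, rfl⟩
  have hηx : η ⤳ y := hη ▸ Groth.Agent.H1.StalkGen.fromSpecStalk_specializes y _
  have hgr : Curv2.IsGeomReducedAt k X η := hη ▸ h p hp
  rw [s1541] at hgr
  refine ⟨X.presheaf.stalk η, inferInstance, inferInstance,
    { toRingHom := (X.presheaf.stalkSpecializes hηx).hom
      commutes' := fun c => congr($(stalkSpecializes_comp_stalkMap k X hηx) c) }, hgr, ?_⟩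
  intro a ha
  have h1 : Groth.Agent.H1.StalkGen.primeOf hηx = ⟨p, hp.1.1⟩ := by
    subst hη
    exact Groth.Agent.H1.StalkGen.primeOf_fromSpecStalk y _
  have h2 : a ∈ (Groth.Agent.H1.StalkGen.primeOf hηx).asIdeal := by
    show (X.presheaf.stalkSpecializes hηx).hom a ∈ IsLocalRing.maximalIdeal _
    have : (X.presheaf.stalkSpecializes hηx).hom a = 0 := ha
    rw [this]
    exact zero_mem _
  rw [h1] at h2
  exact h2

open Groth.Agent.H1.BCStalk in
theorem isOpen_isGeomReducedAt [IsLocallyNoetherian X] :
    IsOpen {x : X | Curv2.IsGeomReducedAt k X x} := by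
  classical
  -- the bad components
  let F : ↥(irreducibleComponents ↥X) → Set ↥X := fun T =>
    if ∀ η : X, IsGenericPoint η T.1 → Curv2.IsGeomReducedAt k X η then ∅ else T.1
  have hFsub : ∀ T, F T ⊆ T.1 := by
    intro T
    simp only [F]
    split_ifs
    · exact Set.empty_subset _
    · exact subset_rfl
  have hFclosed : ∀ T, IsClosed (F T) := by
    intro T
    simp only [F]
    split_ifs
    · exact isClosed_empty
    · exact isClosed_of_mem_irreducibleComponents _ T.2
  have hLF : LocallyFinite F := (locallyFinite_irreducibleComponents X).subset hFsub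
  have hB : IsClosed (⋃ T, F T) := hLF.isClosed_iUnion hFclosed
  have heq : {x : X | Curv2.IsGeomReducedAt k X x} =
      {x : X | IsReduced (X.presheaf.stalk x)} ∩ (⋃ T, F T)ᶜ := by
    ext x
    simp only [Set.mem_ofPred_eq, Set.mem_inter_iff, Set.mem_compl_iff, Set.mem_iUnion, not_exists]
    constructor
    · intro hx
      refine ⟨?_, ?_⟩
      · haveI h1 := (s1541 k X x).mp hx
        exact Algebra.isReduced_of_isGeometricallyReduced k
      · intro T hxT
        simp only [F] at hxT
        split_ifs at hxT with hT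
        · exact hxT
        · apply hT
          intro η hη
          have : η ⤳ x := by
            rw [specializes_iff_mem_closure, hη.def]
            exact hxT
          exact s1542 k X x η this hx
    · rintro ⟨hred, hB'⟩
      haveI := hred
      apply isGeomReducedAt_of_minimalPrimes
      intro p hp
      have hT := closure_mem_irreducibleComponents X x p hp
      have hxT : x ∈ closure {X.fromSpecStalk x ⟨p, hp.1.1⟩} :=
        specializes_iff_mem_closure.mp
          (Groth.Agent.H1.StalkGen.fromSpecStalk_specializes x _)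
      have h1 := hB' ⟨_, hT⟩
      simp only [F] at h1
      split_ifs at h1 with hT'
      · exact hT' _ isGenericPoint_closure
      · exact (h1 hxT).elim
  rw [heq]
  exact (isOpen_isReduced_stalk X).inter hB.isOpen_compl

theorem s2522 {k : Type u} [Field k] {X : Scheme.{u}} [IsLocallyNoetherian X]
    (f : X ⟶ Spec (CommRingCat.of k)) : IsOpen {x : X | FBase.IsGeomReducedAt f x} := by
  letI : X.Over (Spec (CommRingCat.of k)) := ⟨f⟩
  exact isOpen_isGeomReducedAt k X

end Groth.Agent.H1.GeomRedOpen
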