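import Mathlib
import Groth.Prelude.Def_Wider
import Groth.Agent.Lib.Helper1.DepthConn

universe u
open TopologicalSpace Topology AlgebraicGeometry CategoryTheory

namespace Groth.Agent.H1.DepthConn

section Sch

variable (X : Scheme.{u}) [IsLocallyNoetherian X]

theorem locNoeth : LocNoeth X := by
  intro x
  obtain ⟨_, ⟨W, hW : IsAffineOpen W, rfl⟩, hxW, -⟩ :=
    X.isBasis_affineOpens.exists_subset_of_mem_open (Set.mem_univ x) isOpen_univ
  have hN : IsNoetherianRing Γ(X, W) := IsLocallyNoetherian.component_noetherian ⟨W, hW⟩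
  have h1 : NoetherianSpace W := noetherianSpace_of_isAffineOpen W hW
  have h2 : QuasiSober W := inferInstanceAs (QuasiSober (W : Scheme.{u}))
  exact ⟨W, W.2, hxW, h1, h2⟩

omit [IsLocallyNoetherian X] in
theorem fromSpecStalk_injective (x : X) : Function.Injective (X.fromSpecStalk x) :=
  (Scheme.Hom.isEmbedding (X.fromSpecStalk x)).injective

omit [IsLocallyNoetherian X] in
theorem exists_eq_fromSpecStalk {x y : X} (h : y ⤳ x) : ∃ z, X.fromSpecStalk x z = y := by
  have : y ∈ Set.range (X.fromSpecStalk x) := by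
    rw [Scheme.range_fromSpecStalk]; exact h
  exact this

omit [IsLocallyNoetherian X] in
theorem fromSpecStalk_specializes (x : X) (z) : X.fromSpecStalk x z ⤳ x := by
  have : X.fromSpecStalk x z ∈ Set.range (X.fromSpecStalk x) := ⟨z, rfl⟩
  rw [Scheme.range_fromSpecStalk] at this
  exact this

variable {X} (U : X.Opens)
  (h : ∀ x : X, x ∉ (U : Set X) →
    (2 : ℕ∞) ≤ LocCoh.depth (X.presheaf.stalk x) (X.presheaf.stalk x))

include h in
/-- every point has a generization in `U`. -/
theorem exists_specializes_mem (x : X) : ∃ η ∈ U, η ⤳ x := by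
  obtain ⟨q, hq, -⟩ := Ideal.exists_minimalPrimes_le (I := (⊥ : Ideal (X.presheaf.stalk x)))
    (J := IsLocalRing.maximalIdeal (X.presheaf.stalk x)) bot_le
  have hqp : q.IsPrime := hq.1.1
  let z : PrimeSpectrum (X.presheaf.stalk x) := ⟨q, hqp⟩
  refine ⟨X.fromSpecStalk x z, ?_, fromSpecStalk_specializes X x z⟩
  by_contra hηU
  have hd := h _ hηU
  have hd1 : (1 : ℕ∞) ≤ LocCoh.depth (X.presheaf.stalk (X.fromSpecStalk x z))
      (X.presheaf.stalk (X.fromSpecStalk x z)) := le_trans (by norm_num) hd
  obtain ⟨r, hrm, hrn⟩ := exists_not_nilpotent _ hd1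
  have hrn' : r ∉ nilradical (X.presheaf.stalk (X.fromSpecStalk x z)) := hrn
  rw [nilradical_eq_sInf, Ideal.mem_sInf] at hrn'
  push Not at hrn'
  obtain ⟨q', hq', hrq'⟩ := hrn'
  let z' : PrimeSpectrum (X.presheaf.stalk (X.fromSpecStalk x z)) := ⟨q', hq'⟩
  have hz' : z' ≠ IsLocalRing.closedPoint _ := by
    intro he
    apply hrq'
    have : q' = IsLocalRing.maximalIdeal _ := congrArg PrimeSpectrum.asIdeal he
    rw [this]
    exact hrm
  have hy1 := fromSpecStalk_specializes X (X.fromSpecStalk x z) z'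
  have hy2 := hy1.trans (fromSpecStalk_specializes X x z)
  obtain ⟨z'', hz''⟩ := exists_eq_fromSpecStalk X hy2
  rw [← hz''] at hy1
  have h3 : z'' ⤳ z :=
    (Scheme.Hom.isEmbedding (X.fromSpecStalk x)).isInducing.specializes_iff.mp hy1
  have h4 : z''.asIdeal ≤ q := (PrimeSpectrum.le_iff_specializes z'' z).mpr h3
  have h5 : q ≤ z''.asIdeal := hq.2 ⟨z''.2, bot_le⟩ h4
  have h6 : z'' = z := PrimeSpectrum.ext (le_antisymm h4 h5)
  rw [h6] at hz''
  apply hz'
  apply fromSpecStalk_injective X
  rw [← hz'']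
  exact Scheme.fromSpecStalk_closedPoint.symm

include h in
theorem mem_closure_union (W W₂ : Set X) (hU : (U : Set X) = W ∪ W₂) (y : X) :
    y ∈ closure W ∪ closure W₂ := by
  obtain ⟨η, hηU, hηy⟩ := exists_specializes_mem U h y
  have : η ∈ W ∪ W₂ := hU ▸ hηU
  rcases this with h1 | h1
  · exact Or.inl (hηy.mem_closed isClosed_closure (subset_closure h1))
  · exact Or.inr (hηy.mem_closed isClosed_closure (subset_closure h1))

omit [IsLocallyNoetherian X] in
/-- a nonempty closed subset has a point without proper generizations inside it -/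
theorem exists_minimal_point (F : Set X) (hFc : IsClosed F) (x : X) (hx : x ∈ F) :
    ∃ ξ ∈ F, ∀ y ∈ F, y ⤳ ξ → y = ξ := by
  have hpre : IsClosed ({z : PrimeSpectrum (X.presheaf.stalk x) | X.fromSpecStalk x z ∈ F}) :=
    hFc.preimage (X.fromSpecStalk x).continuous
  obtain ⟨J, hJ⟩ := (PrimeSpectrum.isClosed_iff_zeroLocus_ideal _).mp hpre
  have hJm : J ≤ IsLocalRing.maximalIdeal (X.presheaf.stalk x) := by
    have : IsLocalRing.closedPoint (X.presheaf.stalk x) ∈
        ({z : PrimeSpectrum (X.presheaf.stalk x) | X.fromSpecStalk x z ∈ F}) := by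
      show X.fromSpecStalk x (IsLocalRing.closedPoint (X.presheaf.stalk x)) ∈ F
      rw [Scheme.fromSpecStalk_closedPoint]; exact hx
    rw [hJ, PrimeSpectrum.mem_zeroLocus, SetLike.coe_subset_coe] at this
    exact this
  obtain ⟨q, hq, -⟩ := Ideal.exists_minimalPrimes_le hJm
  have hqp : q.IsPrime := hq.1.1
  have hmemJ : ∀ z' : PrimeSpectrum (X.presheaf.stalk x),
      X.fromSpecStalk x z' ∈ F ↔ J ≤ z'.asIdeal := by
    intro z'
    have : z' ∈ ({z : PrimeSpectrum (X.presheaf.stalk x) | X.fromSpecStalk x z ∈ F}) ↔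
        J ≤ z'.asIdeal := by
      rw [hJ, PrimeSpectrum.mem_zeroLocus, SetLike.coe_subset_coe]
    exact this
  refine ⟨X.fromSpecStalk x (⟨q, hqp⟩ : PrimeSpectrum (X.presheaf.stalk x)),
    (hmemJ ⟨q, hqp⟩).mpr hq.1.2, ?_⟩
  intro y hyF hyξ
  obtain ⟨z', rfl⟩ := exists_eq_fromSpecStalk X (hyξ.trans (fromSpecStalk_specializes X x _))
  have h3 : z' ⤳ (⟨q, hqp⟩ : PrimeSpectrum (X.presheaf.stalk x)) :=
    (Scheme.Hom.isEmbedding (X.fromSpecStalk x)).isInducing.specializes_iff.mp hyξ
  have h4 : z'.asIdeal ≤ q := (PrimeSpectrum.le_iff_specializes z' ⟨q, hqp⟩).mpr h3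
  have h5 : q ≤ z'.asIdeal := hq.2 ⟨z'.2, (hmemJ z').mp hyF⟩ h4
  rw [show z' = (⟨q, hqp⟩ : PrimeSpectrum (X.presheaf.stalk x)) from
    PrimeSpectrum.ext (le_antisymm h4 h5)]

include h in
/-- closures of complementary open pieces of `U` are disjoint -/
theorem closure_inter_closure_eq_empty (W W₂ : Set X) (hW : IsOpen W) (hW₂ : IsOpen W₂)
    (hdisj : W ∩ W₂ = ∅) (hU : (U : Set X) = W ∪ W₂) : closure W ∩ closure W₂ = ∅ := by
  by_contra hne
  obtain ⟨x, hx⟩ := Set.nonempty_iff_ne_empty.mpr hne
  have hFc : IsClosed (closure W ∩ closure W₂) := isClosed_closure.inter isClosed_closure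
  obtain ⟨ξ, hξF, hmin⟩ := exists_minimal_point (closure W ∩ closure W₂) hFc x hx
  -- `ξ ∉ U`
  have hξU : ξ ∉ (U : Set X) := by
    intro hmem
    rw [hU] at hmem
    rcases hmem with h1 | h1
    · obtain ⟨y, hy1, hy2⟩ := mem_closure_iff.mp hξF.2 W hW h1
      have : y ∈ W ∩ W₂ := ⟨hy1, hy2⟩
      rw [hdisj] at this
      exact this
    · obtain ⟨y, hy1, hy2⟩ := mem_closure_iff.mp hξF.1 W₂ hW₂ h1
      have : y ∈ W ∩ W₂ := ⟨hy2, hy1⟩
      rw [hdisj] at this
      exact this
  have hP := isPreconnected_punctured _ (h _ hξU)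
  rw [isPreconnected_closed_iff] at hP
  have hne1 : ∀ (V : Set X), IsOpen V → V ⊆ (U : Set X) → ξ ∈ closure V →
      (({IsLocalRing.closedPoint (X.presheaf.stalk ξ)}ᶜ :
        Set (PrimeSpectrum (X.presheaf.stalk ξ))) ∩
        {z : PrimeSpectrum (X.presheaf.stalk ξ) | X.fromSpecStalk ξ z ∈ closure V}).Nonempty := by
    intro V hV hVU hξV
    obtain ⟨w, hwV, hwξ⟩ := exists_specializes_of_mem_closure (locNoeth X) hV hξV
    obtain ⟨z, hz⟩ := exists_eq_fromSpecStalk X hwξ
    refine ⟨z, ?_, ?_⟩
    · intro hzc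
      apply hξU
      have hzc' : z = IsLocalRing.closedPoint (X.presheaf.stalk ξ) := hzc
      rw [hzc', Scheme.fromSpecStalk_closedPoint] at hz
      rw [hz]
      exact hVU hwV
    · show X.fromSpecStalk ξ z ∈ closure V
      rw [hz]
      exact subset_closure hwV
  obtain ⟨z, hzP, hz1, hz2⟩ := hP
    {z : PrimeSpectrum (X.presheaf.stalk ξ) | X.fromSpecStalk ξ z ∈ closure W}
    {z : PrimeSpectrum (X.presheaf.stalk ξ) | X.fromSpecStalk ξ z ∈ closure W₂}
    (isClosed_closure.preimage (X.fromSpecStalk _).continuous)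
    (isClosed_closure.preimage (X.fromSpecStalk _).continuous)
    (fun z _ => mem_closure_union U h W W₂ hU _)
    (hne1 W hW (hU ▸ Set.subset_union_left) hξF.1)
    (hne1 W₂ hW₂ (hU ▸ Set.subset_union_right) hξF.2)
  have h7 := hmin _ ⟨hz1, hz2⟩ (fromSpecStalk_specializes X _ z)
  apply hzP
  show z = IsLocalRing.closedPoint (X.presheaf.stalk ξ)
  apply fromSpecStalk_injective X
  rw [h7]
  exact Scheme.fromSpecStalk_closedPoint.symm

include h in
theorem connectedComponentsMap_bijective :
    Function.Bijective (Continuous.connectedComponentsMap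
      (continuous_subtype_val : Continuous (fun x : U => (x : X)))) := by
  constructor
  · intro a b hab
    obtain ⟨u₁, rfl⟩ := ConnectedComponents.surjective_coe a
    obtain ⟨u₂, rfl⟩ := ConnectedComponents.surjective_coe b
    rw [Continuous.connectedComponentsMap_mk, Continuous.connectedComponentsMap_mk,
      ConnectedComponents.coe_eq_coe'] at hab
    rw [ConnectedComponents.coe_eq_coe']
    by_contra hcon
    have hDo : IsOpen (connectedComponent u₂) :=
      isOpen_connectedComponent (locNoeth (U : Scheme.{u})) u₂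
    have hDc : IsClosed (connectedComponent u₂) := isClosed_connectedComponent
    have hW : IsOpen (Subtype.val '' (connectedComponent u₂) : Set X) :=
      U.2.isOpenMap_subtype_val _ hDo
    have hW₂ : IsOpen (Subtype.val '' (connectedComponent u₂)ᶜ : Set X) :=
      U.2.isOpenMap_subtype_val _ hDc.isOpen_compl
    have hdisj : (Subtype.val '' (connectedComponent u₂) : Set X) ∩
        Subtype.val '' (connectedComponent u₂)ᶜ = ∅ := by
      rw [← Set.image_inter Subtype.val_injective, Set.inter_compl_self, Set.image_empty]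
    have hUeq : (U : Set X) = (Subtype.val '' (connectedComponent u₂) : Set X) ∪
        Subtype.val '' (connectedComponent u₂)ᶜ := by
      rw [← Set.image_union, Set.union_compl_self, Set.image_univ, Subtype.range_coe]
    have hcl := closure_inter_closure_eq_empty U h _ _ hW hW₂ hdisj hUeq
    have hclopen : IsClopen (closure (Subtype.val '' (connectedComponent u₂) : Set X)) := by
      refine ⟨isClosed_closure, ?_⟩
      have : closure (Subtype.val '' (connectedComponent u₂) : Set X) =
          (closure (Subtype.val '' (connectedComponent u₂)ᶜ : Set X))ᶜ := by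
        ext y
        constructor
        · intro hy hy2
          have : y ∈ closure (Subtype.val '' (connectedComponent u₂) : Set X) ∩
            closure (Subtype.val '' (connectedComponent u₂)ᶜ : Set X) := ⟨hy, hy2⟩
          rw [hcl] at this
          exact this
        · intro hy
          rcases mem_closure_union U h _ _ hUeq y with h1 | h1
          · exact h1
          · exact absurd h1 hy
      rw [this]
      exact isClosed_closure.isOpen_compl
    have h2 : (u₂ : X) ∈ closure (Subtype.val '' (connectedComponent u₂) : Set X) :=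
      subset_closure ⟨u₂, mem_connectedComponent, rfl⟩
    have h1 : (u₁ : X) ∈ closure (Subtype.val '' (connectedComponent u₂) : Set X) :=
      hclopen.connectedComponent_subset h2 hab
    have h1' : (u₁ : X) ∈ closure (Subtype.val '' (connectedComponent u₂)ᶜ : Set X) :=
      subset_closure ⟨u₁, hcon, rfl⟩
    have : (u₁ : X) ∈ closure (Subtype.val '' (connectedComponent u₂) : Set X) ∩
      closure (Subtype.val '' (connectedComponent u₂)ᶜ : Set X) := ⟨h1, h1'⟩
    rw [hcl] at this
    exact this
  · intro c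
    obtain ⟨x, rfl⟩ := ConnectedComponents.surjective_coe c
    obtain ⟨η, hηU, hηx⟩ := exists_specializes_mem U h x
    refine ⟨(⟨η, hηU⟩ : U), ?_⟩
    rw [Continuous.connectedComponentsMap_mk, ConnectedComponents.coe_eq_coe']
    have hx : x ∈ connectedComponent η :=
      (isPreconnected_singleton.closure).subset_connectedComponent
        (subset_closure (Set.mem_singleton η)) hηx.mem_closure
    rw [← connectedComponent_eq hx]
    exact mem_connectedComponent

end Sch

end Groth.Agent.H1.DepthConn
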