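import Mathlib
import Groth.Prelude.Def_EGA43
import Groth.Agent.Lib.Helper1.UO14E
import Groth.Agent.Lib.Helper1.FibCompA
import Groth.Agent.Lib.Helper1.EquidimComp
import Groth.Agent.Lib.Helper1.DepthConn2
import Groth.Agent.Lib.Helper1.UOVal

/-!
# EGA IV 15.6.?: the components of the fibres through a section under generization (helper1)
-/

set_option autoImplicit false
set_option linter.style.haveILetI false
universe u

namespace Groth.Agent.H1.SecComp

open AlgebraicGeometry CategoryTheory CategoryTheory.Limits TopologicalSpace Topology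
open Groth.Agent.H1.DimFormula Groth.Agent.H3 Groth.Agent.H1.UO14

variable {X Y : Scheme.{u}}

theorem homeomorph_image_connectedComponent {A B : Type*} [TopologicalSpace A]
    [TopologicalSpace B] (e : A ≃ₜ B) (x : A) :
    e '' connectedComponent x = connectedComponent (e x) := by
  apply subset_antisymm (e.continuous.image_connectedComponent_subset x)
  intro b hb
  have h1 := e.symm.continuous.image_connectedComponent_subset (e x) ⟨b, hb, rfl⟩
  rw [e.symm_apply_apply] at h1
  exact ⟨e.symm b, h1, e.apply_symm_apply b⟩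

/-- the connected components of the fibres of a morphism locally of finite type are open in the
fibre. -/
theorem exists_open_connectedComponentIn_fibre (f : X ⟶ Y) [LocallyOfFiniteType f] (y : Y)
    (x₀ : X) (hx₀ : f.base x₀ = y) :
    ∃ N : X.Opens, x₀ ∈ N ∧
      connectedComponentIn (f.base ⁻¹' {y}) x₀ = (N : Set X) ∩ f.base ⁻¹' {y} := by
  have hx₀F : x₀ ∈ f.base ⁻¹' {y} := hx₀
  haveI : LocallyOfFiniteType (f.fiberToSpecResidueField y) :=
    Groth.Agent.H1.Chev.locallyOfFiniteType_fiberToSpecResidueField f _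
  haveI : IsLocallyNoetherian (f.fiber y) :=
    LocallyOfFiniteType.isLocallyNoetherian (f.fiberToSpecResidueField y)
  have hLN : Groth.Agent.H1.DepthConn.LocNoeth ↥(f.fiber y) :=
    Groth.Agent.H1.DepthConn.locNoeth (f.fiber y)
  have hopen : IsOpen (connectedComponent (⟨x₀, hx₀F⟩ : ↥(f.base ⁻¹' {y}))) := by
    have h1 := Groth.Agent.H1.DepthConn.isOpen_connectedComponent hLN
      ((f.fiberHomeo y).symm ⟨x₀, hx₀F⟩)
    have h2 := homeomorph_image_connectedComponent (f.fiberHomeo y)
      ((f.fiberHomeo y).symm ⟨x₀, hx₀F⟩)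
    rw [(f.fiberHomeo y).apply_symm_apply] at h2
    rw [← h2]
    exact (f.fiberHomeo y).isOpenMap _ h1
  obtain ⟨N, hN, hNeq⟩ := isOpen_induced_iff.mp hopen
  refine ⟨⟨N, hN⟩, ?_, ?_⟩
  · have : (⟨x₀, hx₀F⟩ : ↥(f.base ⁻¹' {y})) ∈ Subtype.val ⁻¹' N := by
      rw [hNeq]; exact mem_connectedComponent
    exact this
  · rw [connectedComponentIn_eq_image hx₀F, ← hNeq, Subtype.image_preimage_coe]
    exact Set.inter_comm _ _

theorem s4952 (f : X ⟶ Y) [LocallyOfFiniteType f] (g : Y ⟶ X) (hg : g ≫ f = 𝟙 Y)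
    (y y' : Y) (hy : y' ⤳ y)
    (hZ : ∃ Z : Set X, Z ⊆ f.base ⁻¹' {y'} ∧ IsIrreducible Z ∧
      (∀ Z' : Set X, IsIrreducible Z' → Z' ⊆ f.base ⁻¹' {y'} → Z ⊆ Z' → Z' = Z) ∧
      g.base y' ∈ Z ∧
      topologicalKrullDim ↥Z =
        topologicalKrullDim ↥(connectedComponentIn (f.base ⁻¹' {y'}) (g.base y'))) :
    topologicalKrullDim ↥(connectedComponentIn (f.base ⁻¹' {y'}) (g.base y')) ≤
        topologicalKrullDim ↥(connectedComponentIn (f.base ⁻¹' {y}) (g.base y)) ∧
      (IsIrreducible (connectedComponentIn (f.base ⁻¹' {y}) (g.base y)) →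
        topologicalKrullDim ↥(connectedComponentIn (f.base ⁻¹' {y}) (g.base y)) =
          topologicalKrullDim ↥(connectedComponentIn (f.base ⁻¹' {y'}) (g.base y')) →
        connectedComponentIn (f.base ⁻¹' {y}) (g.base y) ⊆
          closure (connectedComponentIn (f.base ⁻¹' {y'}) (g.base y'))) := by
  obtain ⟨Z, hZF, hZirr, hZmax, hx₀'Z, hZdim⟩ := hZ
  have hfg : ∀ t : Y, f.base (g.base t) = t := by
    intro t
    have := congrArg (fun ψ : Y ⟶ Y => ψ.base t) hg
    simpa using this
  obtain ⟨ζ, hζZ, hfζ, hZeq, hζmax, hZζ⟩ :=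
    Groth.Agent.H1.FibComp.exists_generic_of_fibre_component f y' Z hZF hZirr hZmax
  have hζx₀' : ζ ⤳ g.base y' := by
    rw [specializes_iff_mem_closure]
    have h1 : g.base y' ∈ closure ({ζ} : Set X) ∩ f.base ⁻¹' {y'} := hZeq ▸ hx₀'Z
    exact h1.1
  have hx₀'x₀ : g.base y' ⤳ g.base y := hy.map g.continuous
  have hζx₀ : ζ ⤳ g.base y := hζx₀'.trans hx₀'x₀
  have hx₀W : g.base y ∈ closure ({ζ} : Set X) := specializes_iff_mem_closure.mp hζx₀
  have hA' := Groth.Agent.H1.EquidimComp.fibreDimAt_le_localDim_closed f (closure {ζ})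
    isClosed_closure ζ (g.base y) (subset_closure rfl) hx₀W hζx₀ hζmax
  obtain ⟨N, hx₀N, hCeq⟩ := exists_open_connectedComponentIn_fibre f y (g.base y) (hfg y)
  have hset : closure ({ζ} : Set X) ∩ f.base ⁻¹' {f.base (g.base y)} =
      closure ({ζ} : Set X) ∩ f.base ⁻¹' {y} := by rw [hfg y]
  have hx₀WF : g.base y ∈ closure ({ζ} : Set X) ∩ f.base ⁻¹' {y} := ⟨hx₀W, hfg y⟩
  have hA : FlatMor.fibreDimAt f ζ ≤
      FlatMor.localDim ↥(closure ({ζ} : Set X) ∩ f.base ⁻¹' {y}) ⟨g.base y, hx₀WF⟩ := by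
    have h1 := localDim_congr_set hset (g.base y) ⟨hx₀W, rfl⟩
    exact hA'.trans h1.le
  have hkey : FlatMor.fibreDimAt f ζ ≤ topologicalKrullDim
      ↥(closure ({ζ} : Set X) ∩ connectedComponentIn (f.base ⁻¹' {y}) (g.base y)) := by
    refine hA.trans ?_
    rw [localDim_subtype]
    refine (iInf_le _ (⟨N, hx₀N⟩ : {N : Opens X // g.base y ∈ N})).trans ?_
    refine le_of_eq (congrArg (fun B : Set X => topologicalKrullDim ↥B) ?_)
    rw [hCeq]
    ext a
    simp only [Set.mem_inter_iff]
    tauto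
  refine ⟨?_, ?_⟩
  · rw [← hZdim, hZζ]
    exact hkey.trans (Groth.Agent.H1.UOVal.dim_mono' Set.inter_subset_right)
  · intro hCirr hdimeq
    have hsub : connectedComponentIn (f.base ⁻¹' {y}) (g.base y) ⊆ closure ({ζ} : Set X) := by
      by_contra hns
      haveI : IrreducibleSpace ↥(connectedComponentIn (f.base ⁻¹' {y}) (g.base y)) :=
        Subtype.irreducibleSpace hCirr
      obtain ⟨t, -, ht⟩ := fibreDimAt_eq_trdeg_of_generic f ζ hζmax
      have hfin : topologicalKrullDim ↥(connectedComponentIn (f.base ⁻¹' {y}) (g.base y)) ≠ ⊤ := by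
        rw [hdimeq, ← hZdim, hZζ, ht]
        intro h'
        have h'' : ((t : ℕ∞) : WithBot ℕ∞) = ((⊤ : ℕ∞) : WithBot ℕ∞) := h'
        exact ENat.natCast_ne_top t (WithBot.coe_injective h'')
      have hlt := Groth.Agent.H3.TopDim.dim_lt_of_isClosed_ne_univ hfin
        (Subtype.val ⁻¹' closure ({ζ} : Set X))
        (isClosed_closure.preimage continuous_subtype_val) (by
          intro huniv
          apply hns
          intro c hc
          have h1 : (⟨c, hc⟩ : ↥(connectedComponentIn (f.base ⁻¹' {y}) (g.base y))) ∈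
              Subtype.val ⁻¹' closure ({ζ} : Set X) := by rw [huniv]; trivial
          exact h1)
      have hpre := Groth.Agent.H1.RelDim.dim_preimage_eq_of_isEmbedding
        (IsEmbedding.subtypeVal
          (p := fun a => a ∈ connectedComponentIn (f.base ⁻¹' {y}) (g.base y)))
        (closure ({ζ} : Set X))
      rw [Subtype.range_coe] at hpre
      rw [hpre] at hlt
      have h2 := hkey.trans_lt hlt
      rw [hdimeq, ← hZdim, hZζ] at h2
      exact lt_irrefl _ h2
    refine hsub.trans (closure_mono ?_)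
    have hZC' : Z ⊆ connectedComponentIn (f.base ⁻¹' {y'}) (g.base y') :=
      hZirr.isConnected.isPreconnected.subset_connectedComponentIn hx₀'Z hZF
    exact Set.singleton_subset_iff.mpr (hZC' hζZ)

end Groth.Agent.H1.SecComp
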