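import Mathlib
import Groth.Prelude.Def_EGA43
import Groth.Agent.Lib.Helper1.SecComp
import Groth.Agent.Lib.Helper1.FibCompC

/-!
# EGA IV 15.6.?: irreducible section components (helper1)
-/

set_option autoImplicit false
set_option linter.style.haveILetI false
universe u

namespace Groth.Agent.H1.SecComp

open AlgebraicGeometry CategoryTheory CategoryTheory.Limits TopologicalSpace Topology

variable {X Y : Scheme.{u}}

theorem s3419 (f : X ⟶ Y) [LocallyOfFiniteType f] (g : Y ⟶ X) (hg : g ≫ f = 𝟙 Y)
    (hirr : ∀ y : Y, IsIrreducible (connectedComponentIn (f.base ⁻¹' {y}) (g.base y))) :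
    UpperSemicontinuous (fun y : Y =>
        topologicalKrullDim ↥(connectedComponentIn (f.base ⁻¹' {y}) (g.base y))) ∧
      ∀ y : Y, (∃ V ∈ nhds y, ∀ z ∈ V,
          topologicalKrullDim ↥(connectedComponentIn (f.base ⁻¹' {z}) (g.base z)) =
            topologicalKrullDim ↥(connectedComponentIn (f.base ⁻¹' {y}) (g.base y))) →
        ∀ y' : Y, y' ⤳ y → connectedComponentIn (f.base ⁻¹' {y}) (g.base y) ⊆
          closure (connectedComponentIn (f.base ⁻¹' {y'}) (g.base y')) := by
  have hfg : ∀ t : Y, f.base (g.base t) = t := by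
    intro t
    have := congrArg (fun ψ : Y ⟶ Y => ψ.base t) hg
    simpa using this
  have hdim : ∀ y : Y, topologicalKrullDim ↥(connectedComponentIn (f.base ⁻¹' {y}) (g.base y)) =
      FlatMor.fibreDimAt f (g.base y) := fun y =>
    Groth.Agent.H1.FibComp.dim_connectedComponentIn_eq f (g.base y) y (hfg y) (hirr y)
  refine ⟨?_, ?_⟩
  · intro y c hc
    have hopen : IsOpen {x : X | FlatMor.fibreDimAt f x ≤ FlatMor.fibreDimAt f (g.base y)} :=
      Groth.Agent.H1.FibComp.isOpen_fibreDimAt_le' f _
    have hmem : g.base ⁻¹' {x : X | FlatMor.fibreDimAt f x ≤ FlatMor.fibreDimAt f (g.base y)} ∈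
        nhds y := by
      refine (hopen.preimage g.continuous).mem_nhds ?_
      show FlatMor.fibreDimAt f (g.base y) ≤ FlatMor.fibreDimAt f (g.base y)
      exact le_refl _
    filter_upwards [hmem] with z hz
    show topologicalKrullDim ↥(connectedComponentIn (f.base ⁻¹' {z}) (g.base z)) < c
    have hc' : topologicalKrullDim ↥(connectedComponentIn (f.base ⁻¹' {y}) (g.base y)) < c := hc
    rw [hdim z]
    rw [hdim y] at hc'
    exact lt_of_le_of_lt hz hc'
  · rintro y ⟨V, hV, hVeq⟩ y' hy'
    have hy'' : nhds y' ≤ nhds y := hy'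
    have hy'V : y' ∈ V := mem_of_mem_nhds (hy'' hV)
    have hx₀'F : g.base y' ∈ f.base ⁻¹' {y'} := hfg y'
    have hx₀'C : g.base y' ∈ connectedComponentIn (f.base ⁻¹' {y'}) (g.base y') :=
      mem_connectedComponentIn hx₀'F
    refine (s4952 f g hg y y' hy' ⟨connectedComponentIn (f.base ⁻¹' {y'}) (g.base y'),
      connectedComponentIn_subset _ _, hirr y', ?_, hx₀'C, rfl⟩).2 (hirr y) (hVeq y' hy'V).symm
    intro Z' hZ' hZ'F hCZ'
    exact subset_antisymm
      (hZ'.isConnected.isPreconnected.subset_connectedComponentIn (hCZ' hx₀'C) hZ'F) hCZ'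

end Groth.Agent.H1.SecComp
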