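import Mathlib
import Groth.Prelude.Def_EGA43
import Groth.Prelude.Def_FDesc
import Groth.Agent.Lib.Helper1.SecCompB
import Groth.Agent.Lib.Helper1.DVRCrit
import Groth.Agent.Lib.Helper3.FBaseDim

/-!
# EGA IV 15.6.6: geometrically irreducible section components of constant dimension (helper1)
-/

set_option autoImplicit false
set_option linter.style.haveILetI false
universe u

namespace Groth.Agent.H1.SecComp

open AlgebraicGeometry CategoryTheory CategoryTheory.Limits TopologicalSpace Topology

theorem dim_image_eq_of_isEmbedding {A B : Type*} [TopologicalSpace A] [TopologicalSpace B]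
    {e : A → B} (he : IsEmbedding e) (S : Set A) :
    topologicalKrullDim ↥(e '' S) = topologicalKrullDim ↥S :=
  (IsHomeomorph.topologicalKrullDim_eq _ (he.homeomorphImage S).isHomeomorph).symm

/-- the section component of a fibre as the image of a connected component of the fibre scheme. -/
theorem connectedComponentIn_fibre_eq {X Y : Scheme.{u}} (f : X ⟶ Y) (y : Y) (x₀ : X)
    (a : ↥(f.fiber y)) (ha : (f.fiberι y).base a = x₀) :
    connectedComponentIn (f.base ⁻¹' {y}) x₀ = (f.fiberι y).base '' connectedComponent a := by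
  have hx₀F : x₀ ∈ f.base ⁻¹' {y} := by
    rw [← ha]; exact Groth.Agent.H1.ValDim.base_fiberι f y a
  have hea : f.fiberHomeo y a = ⟨x₀, hx₀F⟩ := Subtype.ext ha
  rw [connectedComponentIn_eq_image hx₀F, ← hea,
    ← homeomorph_image_connectedComponent (f.fiberHomeo y) a, Set.image_image]
  rfl

theorem sectionComponent_bc {X Y T XA : Scheme.{u}} (f : X ⟶ Y) [LocallyOfFiniteType f]
    (g : Y ⟶ X) (hg : g ≫ f = 𝟙 Y) (h : T ⟶ Y) (p : XA ⟶ X) (fA : XA ⟶ T)
    (sq : IsPullback p fA f h) (gA : T ⟶ XA) (hgA : gA ≫ fA = 𝟙 T) (hgAp : gA ≫ p = h ≫ g)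
    (t : T)
    (hgi : ∀ (K : Type u) [Field K]
      [Algebra (IsLocalRing.ResidueField (Y.presheaf.stalk (h.base t))) K],
      IsIrreducible ((FBase.bcπ (f.fiberToSpecResidueField (h.base t)) K ≫
        f.fiberι (h.base t)).base ⁻¹'
          connectedComponentIn (f.base ⁻¹' {h.base t}) (g.base (h.base t)))) :
    IsIrreducible (connectedComponentIn (fA.base ⁻¹' {t}) (gA.base t)) ∧
    topologicalKrullDim ↥(connectedComponentIn (fA.base ⁻¹' {t}) (gA.base t)) =
      topologicalKrullDim ↥(connectedComponentIn (f.base ⁻¹' {h.base t}) (g.base (h.base t))) ∧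
    ∀ x' : XA, fA.base x' = t →
      p.base x' ∈ connectedComponentIn (f.base ⁻¹' {h.base t}) (g.base (h.base t)) →
      x' ∈ connectedComponentIn (fA.base ⁻¹' {t}) (gA.base t) := by
  have hfg : ∀ z : Y, f.base (g.base z) = z := by
    intro z
    have := congrArg (fun ψ : Y ⟶ Y => ψ.base z) hg
    simpa using this
  have hfgA : ∀ z : T, fA.base (gA.base z) = z := by
    intro z
    have := congrArg (fun ψ : T ⟶ T => ψ.base z) hgA
    simpa using this
  have hpg : ∀ z : T, p.base (gA.base z) = g.base (h.base z) := by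
    intro z
    have := congrArg (fun ψ : T ⟶ X => ψ.base z) hgAp
    simpa using this
  have hx₀F : g.base (h.base t) ∈ f.base ⁻¹' {h.base t} := hfg _
  have hxAF : gA.base t ∈ fA.base ⁻¹' {t} := hfgA t
  obtain ⟨r, hr, hrι⟩ := Groth.Agent.H1.FibDimBC.fiber_isPullback' f h fA p sq t
  have hemb : IsEmbedding (f.fiberι (h.base t)).base := (f.fiberι (h.base t)).isEmbedding
  have hembT : IsEmbedding (fA.fiberι t).base := (fA.fiberι t).isEmbedding
  have hrangeT : Set.range (fA.fiberι t).base = fA.base ⁻¹' {t} := Scheme.Hom.range_fiberι fA t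
  have hrι' : ∀ a' : ↥(fA.fiber t),
      (f.fiberι (h.base t)).base (r.base a') = p.base ((fA.fiberι t).base a') := by
    intro a'
    have := congrArg (fun ψ : fA.fiber t ⟶ X => ψ.base a') hrι
    simpa using this
  -- the base points
  let a : ↥(f.fiber (h.base t)) := (f.fiberHomeo (h.base t)).symm ⟨g.base (h.base t), hx₀F⟩
  have hιa : (f.fiberι (h.base t)).base a = g.base (h.base t) :=
    f.fiberι_fiberHomeo_symm (h.base t) ⟨_, hx₀F⟩
  let aT : ↥(fA.fiber t) := (fA.fiberHomeo t).symm ⟨gA.base t, hxAF⟩
  have hιaT : (fA.fiberι t).base aT = gA.base t := fA.fiberι_fiberHomeo_symm t ⟨_, hxAF⟩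
  have hC := connectedComponentIn_fibre_eq f (h.base t) (g.base (h.base t)) a hιa
  have hCA := connectedComponentIn_fibre_eq fA t (gA.base t) aT hιaT
  have hraT : r.base aT = a := by
    apply hemb.injective
    rw [hrι', hιaT, hpg, hιa]
  -- the preimage of `C` in the fibre scheme is the connected component of `a`
  have hD : (f.fiberι (h.base t)).base ⁻¹'
      connectedComponentIn (f.base ⁻¹' {h.base t}) (g.base (h.base t)) = connectedComponent a := by
    rw [hC, Set.preimage_image_eq _ hemb.injective]
  -- local noetherianity of the fibre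
  haveI : LocallyOfFiniteType (f.fiberToSpecResidueField (h.base t)) :=
    Groth.Agent.H1.Chev.locallyOfFiniteType_fiberToSpecResidueField f _
  haveI : IsLocallyNoetherian (f.fiber (h.base t)) :=
    LocallyOfFiniteType.isLocallyNoetherian (f.fiberToSpecResidueField (h.base t))
  have hopenD : IsOpen (connectedComponent a) :=
    Groth.Agent.H1.DepthConn.isOpen_connectedComponent
      (Groth.Agent.H1.DepthConn.locNoeth (f.fiber (h.base t))) a
  have hclopen : IsClopen (r.base ⁻¹' connectedComponent a) :=
    ⟨isClosed_connectedComponent.preimage r.continuous, hopenD.preimage r.continuous⟩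
  -- irreducibility of the preimage, from the hypothesis
  letI algK : Algebra (IsLocalRing.ResidueField (Y.presheaf.stalk (h.base t)))
      ↑(T.residueField t) := (h.residueFieldMap t).hom.toAlgebra
  have hgiK := hgi ↑(T.residueField t)
  have hr' : IsPullback r (fA.fiberToSpecResidueField t) (f.fiberToSpecResidueField (h.base t))
      (Spec.map (CommRingCat.ofHom (algebraMap
        (IsLocalRing.ResidueField (Y.presheaf.stalk (h.base t))) ↑(T.residueField t)))) := hr
  have hbc := Groth.Agent.H3.FBaseDim.isPullback_bc (f.fiberToSpecResidueField (h.base t))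
    ↑(T.residueField t)
  let e := hr'.isoIsPullback _ _ hbc
  have he : e.hom ≫ FBase.bcπ (f.fiberToSpecResidueField (h.base t)) ↑(T.residueField t) = r :=
    IsPullback.isoIsPullback_hom_fst _ _ hr' hbc
  have hpre : r.base ⁻¹' connectedComponent a = e.inv.base ''
      ((FBase.bcπ (f.fiberToSpecResidueField (h.base t)) ↑(T.residueField t) ≫
        f.fiberι (h.base t)).base ⁻¹'
          connectedComponentIn (f.base ⁻¹' {h.base t}) (g.base (h.base t))) := by
    ext a'
    have h1 : ∀ b, r.base (e.inv.base b) =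
        (FBase.bcπ (f.fiberToSpecResidueField (h.base t)) ↑(T.residueField t)).base b := by
      intro b
      have := congrArg (fun ψ : FBase.bc (f.fiberToSpecResidueField (h.base t))
        ↑(T.residueField t) ⟶ f.fiber (h.base t) => ψ.base b)
        (show e.inv ≫ r = FBase.bcπ (f.fiberToSpecResidueField (h.base t)) ↑(T.residueField t)
          by rw [← he, Iso.inv_hom_id_assoc])
      simpa using this
    have h2 : e.inv.base (e.hom.base a') = a' := by
      have := congrArg (fun ψ : fA.fiber t ⟶ fA.fiber t => ψ.base a') e.hom_inv_id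
      simpa using this
    constructor
    · intro ha'
      refine ⟨e.hom.base a', ?_, h2⟩
      show (f.fiberι (h.base t)).base
        ((FBase.bcπ (f.fiberToSpecResidueField (h.base t)) ↑(T.residueField t)).base
          (e.hom.base a')) ∈ connectedComponentIn (f.base ⁻¹' {h.base t}) (g.base (h.base t))
      rw [← h1, h2]
      have h3 : r.base a' ∈ (f.fiberι (h.base t)).base ⁻¹'
          connectedComponentIn (f.base ⁻¹' {h.base t}) (g.base (h.base t)) := by
        rw [hD]; exact ha'
      exact h3
    · rintro ⟨b, hb, rfl⟩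
      show r.base (e.inv.base b) ∈ connectedComponent a
      rw [h1, ← hD]
      exact hb
  have hirrpre : IsIrreducible (r.base ⁻¹' connectedComponent a) := by
    rw [hpre]
    exact hgiK.image _ e.inv.continuous.continuousOn
  have hccT : connectedComponent aT = r.base ⁻¹' connectedComponent a := by
    have haTmem : aT ∈ r.base ⁻¹' connectedComponent a := by
      show r.base aT ∈ connectedComponent a
      rw [hraT]; exact mem_connectedComponent
    exact subset_antisymm (hclopen.connectedComponent_subset haTmem)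
      (hirrpre.isConnected.isPreconnected.subset_connectedComponent haTmem)
  refine ⟨?_, ?_, ?_⟩
  · rw [hCA, hccT]
    exact hirrpre.image _ (fA.fiberι t).continuous.continuousOn
  · rw [hCA, hC, dim_image_eq_of_isEmbedding hembT, dim_image_eq_of_isEmbedding hemb, hccT]
    exact @Groth.Agent.H1.UOVal.dim_preimage_closed_of_isPullback_field
      (Y.residueField (h.base t)) (T.residueField t) _ _ (h.residueFieldMap t) _ _
      (f.fiberToSpecResidueField (h.base t)) (fA.fiberToSpecResidueField t) r hr inferInstance _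
      isClosed_connectedComponent
  · intro x' hx't hx'C
    have hx'r : x' ∈ Set.range (fA.fiberι t).base := by rw [hrangeT]; exact hx't
    obtain ⟨a', rfl⟩ := hx'r
    rw [hCA, hccT]
    refine ⟨a', ?_, rfl⟩
    show r.base a' ∈ connectedComponent a
    rw [← hD]
    show (f.fiberι (h.base t)).base (r.base a') ∈
      connectedComponentIn (f.base ⁻¹' {h.base t}) (g.base (h.base t))
    rw [hrι']
    exact hx'C

theorem s3458 {X Y : Scheme.{u}} [IsLocallyNoetherian Y]
    (f : X ⟶ Y) [LocallyOfFiniteType f] (g : Y ⟶ X) (hg : g ≫ f = 𝟙 Y)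
    (hgi : ∀ (y : Y) (K : Type u) [Field K]
      [Algebra (IsLocalRing.ResidueField (Y.presheaf.stalk y)) K],
      IsIrreducible ((FBase.bcπ (f.fiberToSpecResidueField y) K ≫ f.fiberι y).base ⁻¹'
        (connectedComponentIn (f.base ⁻¹' {y}) (g.base y))))
    (y : Y)
    (hc : ∃ V ∈ nhds y, ∀ z ∈ V,
      topologicalKrullDim ↥(connectedComponentIn (f.base ⁻¹' {z}) (g.base z)) =
        topologicalKrullDim ↥(connectedComponentIn (f.base ⁻¹' {y}) (g.base y))) :
    ∀ x ∈ connectedComponentIn (f.base ⁻¹' {y}) (g.base y), EGA43.IsUnivOpenAt f x := by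
  intro x hx
  obtain ⟨V, hV, hVeq⟩ := hc
  have hfx0 : x ∈ f.base ⁻¹' {y} := connectedComponentIn_subset (f.base ⁻¹' {y}) (g.base y) hx
  have hfx : f.base x = y := hfx0
  apply Groth.Agent.H1.DVRCrit.isUnivOpenAt_of_dvrCond
  intro A _ _ _ h hcl x' hx'1 hx'2
  let η : Spec (CommRingCat.of A) := (⊥ : PrimeSpectrum A)
  have hηt₀ : η ⤳ IsLocalRing.closedPoint A :=
    (PrimeSpectrum.le_iff_specializes (⊥ : PrimeSpectrum A) (IsLocalRing.closedPoint A)).mp bot_le
  have sq := IsPullback.of_hasPullback f h
  let gA : Spec (CommRingCat.of A) ⟶ pullback f h :=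
    pullback.lift (h ≫ g) (𝟙 _) (by rw [Category.assoc, hg, Category.comp_id, Category.id_comp])
  have hgA : gA ≫ pullback.snd f h = 𝟙 _ := pullback.lift_snd _ _ _
  have hgAp : gA ≫ pullback.fst f h = h ≫ g := pullback.lift_fst _ _ _
  obtain ⟨hirr0, hdim0, hmem0⟩ := sectionComponent_bc f g hg h _ _ sq gA hgA hgAp
    (IsLocalRing.closedPoint A) (fun K _ _ => hgi (h.base (IsLocalRing.closedPoint A)) K)
  obtain ⟨hirrη, hdimη, -⟩ := sectionComponent_bc f g hg h _ _ sq gA hgA hgAp η
    (fun K _ _ => hgi (h.base η) K)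
  have hht₀ : h.base (IsLocalRing.closedPoint A) = y := hcl.trans hfx
  have hhη : h.base η ∈ V := by
    have h1 : h.base η ⤳ h.base (IsLocalRing.closedPoint A) := hηt₀.map h.continuous
    rw [hht₀] at h1
    have h1' : nhds (h.base η) ≤ nhds y := h1
    exact mem_of_mem_nhds (h1' hV)
  have hfgA : ∀ z, (pullback.snd f h).base (gA.base z) = z := by
    intro z
    have := congrArg (fun ψ : Spec (CommRingCat.of A) ⟶ Spec (CommRingCat.of A) => ψ.base z) hgA
    simpa using this
  have hxηC : gA.base η ∈ connectedComponentIn ((pullback.snd f h).base ⁻¹' {η}) (gA.base η) :=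
    mem_connectedComponentIn (hfgA η)
  have key := (s4952 (pullback.snd f h) gA hgA (IsLocalRing.closedPoint A) η hηt₀
    ⟨connectedComponentIn ((pullback.snd f h).base ⁻¹' {η}) (gA.base η),
      connectedComponentIn_subset _ _, hirrη, (by
        intro Z' hZ' hZ'F hCZ'
        exact subset_antisymm
          (hZ'.isConnected.isPreconnected.subset_connectedComponentIn (hCZ' hxηC) hZ'F) hCZ'),
      hxηC, rfl⟩).2 hirr0 (by
        rw [hdim0, hdimη, hVeq _ hhη, hht₀])
  have hx'C : x' ∈ connectedComponentIn ((pullback.snd f h).base ⁻¹' {IsLocalRing.closedPoint A})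
      (gA.base (IsLocalRing.closedPoint A)) := by
    refine hmem0 x' hx'2 ?_
    rw [hx'1, hht₀]
    exact hx
  have hx'cl := key hx'C
  obtain ⟨ξ, hξ⟩ := QuasiSober.sober hirrη.closure isClosed_closure
  refine ⟨ξ, hξ.specializes hx'cl, ?_⟩
  obtain ⟨c, hc⟩ := hirrη.nonempty
  have h1 : ξ ⤳ c := hξ.specializes (subset_closure hc)
  have h2 : (pullback.snd f h).base ξ ⤳ (pullback.snd f h).base c :=
    h1.map (pullback.snd f h).continuous
  have h30 : c ∈ (pullback.snd f h).base ⁻¹' {η} :=
    connectedComponentIn_subset ((pullback.snd f h).base ⁻¹' {η}) (gA.base η) hc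
  have h3 : (pullback.snd f h).base c = η := h30
  rw [h3] at h2
  intro hcon
  rw [hcon] at h2
  have h4 : (IsLocalRing.closedPoint A).asIdeal ≤ (⊥ : Ideal A) :=
    (PrimeSpectrum.le_iff_specializes (IsLocalRing.closedPoint A) (⊥ : PrimeSpectrum A)).mpr h2
  exact IsDiscreteValuationRing.not_a_field A (le_bot_iff.mp h4)

end Groth.Agent.H1.SecComp
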