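import Mathlib
import Groth.Prelude.Def_EGA43
import Groth.Prelude.Def_FDesc
import Groth.Agent.Lib.Helper1.GIrrT
import Groth.Agent.Lib.Helper1.SecCompC
import Groth.Agent.Lib.Helper1.FibCompC
import Groth.Agent.Lib.Helper1.ChevEqB
import Groth.Agent.Lib.Helper1.BCStalkApp
import Groth.Agent.Lib.Helper1.GeomRedOpen

/-!
# Section components: constancy of `dim X_y^0` (EGA IV 15.6.6, 15.6.7; locally Noetherian base)
(helper1)
-/

set_option autoImplicit false
set_option linter.style.haveILetI false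
universe u

open TopologicalSpace Topology AlgebraicGeometry CategoryTheory CategoryTheory.Limits IsLocalRing

namespace Groth.Agent.H1.GIrr

/-! ### a variant of the DVR case along a preconnected set of good points -/

section DVR

variable {R : Type u} [CommRing R] [IsDomain R] [IsDiscreteValuationRing R]

theorem dvr_core' {W : Scheme.{u}} (p : W ⟶ Spec (CommRingCat.of R)) [LocallyOfFiniteType p]
    (σ τ : Spec (CommRingCat.of R) ⟶ W) (hσ : σ ≫ p = 𝟙 _) (hτ : τ ≫ p = 𝟙 _)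
    {ϖ : R} (hϖ : Irreducible ϖ) (c η : Spec (CommRingCat.of R)) (hc : c = closedPoint R)
    (hη : η = (⊥ : PrimeSpectrum R))
    (S₀ : Set W) (hS₀pre : _root_.IsPreconnected S₀) (hσcS : σ c ∈ S₀) (hτc : τ c ∈ S₀)
    (H : ∀ z ∈ S₀,
      stalkHom p z ϖ ∈ nonZeroDivisors (W.presheaf.stalk z) ∧
        (Ideal.span {stalkHom p z ϖ}).IsRadical) :
    τ η ∈ connectedComponentIn (p ⁻¹' {η}) (σ η) := by
  classical
  haveI : IsLocallyNoetherian W := LocallyOfFiniteType.isLocallyNoetherian p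
  haveI : LocallyConnectedSpace W := locallyConnectedSpace_of_isLocallyNoetherian W
  have hpσ : ∀ t, p (σ t) = t := fun t => by
    change (σ ≫ p) t = t
    rw [hσ]
    rfl
  have hpτ : ∀ t, p (τ t) = t := fun t => by
    change (τ ≫ p) t = t
    rw [hτ]
    rfl
  have hGo : IsOpen (p ⁻¹' {η}) := by
    rw [hη]
    exact isOpen_singleton_bot.preimage p.continuous
  obtain ⟨G, hG⟩ : ∃ G : Set W, G = p ⁻¹' {η} := ⟨_, rfl⟩
  rw [← hG] at hGo ⊢
  have hσG : σ η ∈ G := by rw [hG]; exact hpσ η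
  obtain ⟨C, hC⟩ : ∃ C : Set W, C = connectedComponentIn G (σ η) := ⟨_, rfl⟩
  rw [← hC]
  have hCo : IsOpen C := by rw [hC]; exact hGo.connectedComponentIn
  have hCG : C ⊆ G := by rw [hC]; exact connectedComponentIn_subset _ _
  have hσC : σ η ∈ C := by rw [hC]; exact mem_connectedComponentIn hσG
  have hCpre : _root_.IsPreconnected C := by rw [hC]; exact isPreconnected_connectedComponentIn
  have hCcl : G ∩ closure C ⊆ C := by
    have h1 : _root_.IsPreconnected (G ∩ closure C) :=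
      hCpre.subset_closure (Set.subset_inter hCG subset_closure) Set.inter_subset_right
    have h2 := h1.subset_connectedComponentIn (x := σ η) (F := G)
      ⟨hσG, subset_closure hσC⟩ Set.inter_subset_left
    rwa [← hC] at h2
  obtain ⟨C', hC'⟩ : ∃ C' : Set W, C' = G \ C := ⟨_, rfl⟩
  have hC'o : IsOpen C' := by
    have : C' = G ∩ (closure C)ᶜ := by
      rw [hC']
      ext w
      constructor
      · rintro ⟨hwG, hwC⟩
        exact ⟨hwG, fun h => hwC (hCcl ⟨hwG, h⟩)⟩
      · rintro ⟨hwG, hwC⟩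
        exact ⟨hwG, fun h => hwC (subset_closure h)⟩
    rw [this]
    exact hGo.inter isClosed_closure.isOpen_compl
  have hC'G : C' ⊆ G := by rw [hC']; exact Set.sdiff_subset
  have hdisj : Disjoint C C' := by rw [hC']; exact Set.disjoint_sdiff_right
  have hGeq : G = C ∪ C' := by rw [hC']; exact (Set.union_sdiff_cancel hCG).symm
  -- the key local statement
  have key : ∀ z ∈ S₀, (z ∈ closure C ∨ z ∈ closure C') ∧
      ¬ (z ∈ closure C ∧ z ∈ closure C') := by
    intro z hz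
    obtain ⟨hnzd, hrad⟩ := H z hz
    have hDpre := isPreconnected_basicOpen (stalkHom p z ϖ) hnzd hrad
    have hDne := nonempty_basicOpen (stalkHom p z ϖ) hnzd
    have hpre : ∀ q : PrimeSpectrum (W.presheaf.stalk z), W.fromSpecStalk z q ∈ G ↔
        q ∈ (PrimeSpectrum.basicOpen (stalkHom p z ϖ) : Set (PrimeSpectrum (W.presheaf.stalk z))) := by
      intro q
      haveI := q.isPrime
      have h1 : p (W.fromSpecStalk z q) = η ↔
          (p (W.fromSpecStalk z q) : PrimeSpectrum R).asIdeal = ⊥ := by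
        rw [hη]
        exact PrimeSpectrum.ext_iff
      have h2 : (p (W.fromSpecStalk z q) : PrimeSpectrum R).asIdeal = ⊥ ↔
          stalkHom p z ϖ ∉ q.asIdeal := by
        rw [apply_fromSpecStalk, eq_bot_iff_notMem hϖ]
        rfl
      rw [hG]
      exact h1.trans h2
    have hrange : ∀ w : W, w ⤳ z ↔ w ∈ Set.range (W.fromSpecStalk z) := by
      intro w
      rw [Scheme.range_fromSpecStalk]
      rfl
    have hsub : (PrimeSpectrum.basicOpen (stalkHom p z ϖ) : Set (PrimeSpectrum (W.presheaf.stalk z))) ⊆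
        (W.fromSpecStalk z) ⁻¹' C ∪ (W.fromSpecStalk z) ⁻¹' C' := by
      intro q hq
      have h1 : W.fromSpecStalk z q ∈ G := (hpre q).mpr hq
      rw [hGeq] at h1
      exact h1
    have hor := hDpre.subset_or_subset (hCo.preimage (W.fromSpecStalk z).continuous)
      (hC'o.preimage (W.fromSpecStalk z).continuous) (hdisj.preimage (W.fromSpecStalk z)) hsub
    have hgen : ∀ {T : Set W}, IsOpen T → T ⊆ G → z ∈ closure T →
        ∃ q ∈ (PrimeSpectrum.basicOpen (stalkHom p z ϖ) : Set (PrimeSpectrum (W.presheaf.stalk z))),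
          W.fromSpecStalk z q ∈ T := by
      intro T hT hTG hzT
      obtain ⟨z₁, hz₁T, hz₁z⟩ := exists_specializes_of_mem_closure_of_isOpen hT hzT
      obtain ⟨q, rfl⟩ := (hrange z₁).mp hz₁z
      exact ⟨q, (hpre q).mp (hTG hz₁T), hz₁T⟩
    constructor
    · obtain ⟨q, hq⟩ := hDne
      have hqz : W.fromSpecStalk z q ⤳ z := (hrange _).mpr ⟨q, rfl⟩
      rcases hsub hq with h | h
      · left
        exact hqz.mem_closed isClosed_closure (subset_closure h)
      · right
        exact hqz.mem_closed isClosed_closure (subset_closure h)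
    · rintro ⟨h1, h2⟩
      obtain ⟨q₁, hq₁D, hq₁⟩ := hgen hCo hCG h1
      obtain ⟨q₂, hq₂D, hq₂⟩ := hgen hC'o hC'G h2
      rcases hor with h | h
      · exact (Set.disjoint_left.mp hdisj) (h hq₂D) hq₂
      · exact (Set.disjoint_left.mp hdisj) hq₁ (h hq₁D)
  have hspec : η ⤳ c := by
    rw [hη, hc]
    exact (PrimeSpectrum.le_iff_specializes _ _).mp bot_le
  have hσcC : σ c ∈ closure C :=
    (hspec.map σ.continuous).mem_closed isClosed_closure (subset_closure hσC)
  have hempty : ¬ (S₀ ∩ closure C').Nonempty := by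
    intro hne
    obtain ⟨z, hzS, hz⟩ := (isPreconnected_closed_iff.mp hS₀pre) (closure C) (closure C')
      isClosed_closure isClosed_closure (fun z hz => (key z hz).1) ⟨σ c, hσcS, hσcC⟩ hne
    exact (key z hzS).2 hz
  have hτG : τ η ∈ G := by rw [hG]; exact hpτ η
  rw [hGeq] at hτG
  rcases hτG with h | h
  · exact h
  · exfalso
    have h1 : τ c ∈ closure C' :=
      (hspec.map τ.continuous).mem_closed isClosed_closure (subset_closure h)
    exact hempty ⟨τ c, hτc, h1⟩

end DVR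

/-! ### generization of geometric reducedness in a fibre -/

theorem gRat_of_specializes {X Y : Scheme.{u}} (f : X ⟶ Y) {x x' : X} (hG : GRat f x)
    (hsp : x' ⤳ x) (hf : f x' = f x) : GRat f x' := by
  intro y a' ha'
  have hy : f x' = y := by rw [← ha']; exact apply_fiberι f y a'
  have hxr : x ∈ Set.range (f.fiberι y) := by
    rw [Scheme.Hom.range_fiberι]
    exact hf.symm.trans hy
  obtain ⟨a, ha⟩ := hxr
  have hsp' : a' ⤳ a :=
    (f.fiberι y).isEmbedding.isInducing.specializes_iff.mp (by rw [ha', ha]; exact hsp)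
  have h1 := hG y a ha
  letI : (f.fiber y).Over (Spec (CommRingCat.of (IsLocalRing.ResidueField (Y.presheaf.stalk y)))) :=
    ⟨f.fiberToSpecResidueField y⟩
  exact Groth.Agent.H1.BCStalk.s1542 (IsLocalRing.ResidueField (Y.presheaf.stalk y)) (f.fiber y)
    a a' hsp' h1

/-! ### the hypothesis of the DVR case from universal openness on the component and geometric
reducedness at the point -/

theorem dvrGood_of_univOpen' {X Y : Scheme.{u}} [IsLocallyNoetherian Y] (f : X ⟶ Y)
    [LocallyOfFiniteType f] (s : Y ⟶ X) (y : Y)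
    (hUO₀ : ∀ x₁ ∈ connectedComponentIn (f ⁻¹' {y}) (s y), EGA43.IsUnivOpenAt f x₁)
    (x₁ : X) (hx₁ : x₁ ∈ connectedComponentIn (f ⁻¹' {y}) (s y)) (hG₁ : GRat f x₁) :
    DvrGood f x₁ := by
  intro R _ _ _ h z ϖ hϖ hz1 hz2
  have hc := IsPullback.of_hasPullback f h
  haveI : IsLocallyNoetherian X := LocallyOfFiniteType.isLocallyNoetherian f
  haveI : IsLocallyNoetherian (pullback f h) :=
    LocallyOfFiniteType.isLocallyNoetherian (pullback.snd f h)
  have hx₁y : f x₁ = y := by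
    have h0 : x₁ ∈ f ⁻¹' {y} := connectedComponentIn_subset _ _ hx₁
    exact h0
  have hG : GRat f (pullback.fst f h z) := by
    rw [hz1]
    exact hG₁
  have hrad : (Ideal.span {stalkHom (pullback.snd f h) z ϖ}).IsRadical := by
    rw [← span_stalkHom_eq (pullback.snd f h) z hz2 hϖ, Ideal.isRadical_iff_quotient_reduced]
    exact isReduced_quotient_stalk hc z hG
  refine ⟨?_, hrad⟩
  apply mem_nonZeroDivisors_of_isRadical_of_generizations _ ?_ hrad ?_
  · have h1 : Ideal.span {stalkHom (pullback.snd f h) z ϖ} ≤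
        maximalIdeal ((pullback f h).presheaf.stalk z) := by
      rw [← span_stalkHom_eq (pullback.snd f h) z hz2 hϖ]
      exact ((local_hom_TFAE ((pullback.snd f h).stalkMap z).hom).out 0 2 rfl rfl).mp
        inferInstance
    exact h1 (Ideal.subset_span rfl)
  · intro ξ hξ hπξ
    obtain ⟨η, hηdef⟩ : ∃ η : Spec (CommRingCat.of R), η = (⊥ : PrimeSpectrum R) := ⟨_, rfl⟩
    obtain ⟨ξ', hξ'def⟩ : ∃ ξ' : ↥(pullback f h),
      ξ' = (pullback f h).fromSpecStalk z (⟨ξ, hξ⟩ : PrimeSpectrum _) := ⟨_, rfl⟩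
    have hrange : ∀ w : ↥(pullback f h), w ⤳ z ↔ w ∈ Set.range ((pullback f h).fromSpecStalk z) := by
      intro w
      rw [Scheme.range_fromSpecStalk]
      rfl
    have hξ'z : ξ' ⤳ z := (hrange ξ').mpr ⟨_, hξ'def.symm⟩
    have hpξ' : pullback.snd f h ξ' = closedPoint R := by
      rcases eq_bot_or_eq_closedPoint (pullback.snd f h ξ' : PrimeSpectrum R) with hbot | hcl
      · exfalso
        have h1 : (pullback.snd f h ξ' : PrimeSpectrum R).asIdeal = ⊥ := by rw [hbot]; rfl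
        rw [hξ'def, apply_fromSpecStalk] at h1
        have h2 : ϖ ∈ Ideal.comap (stalkHom (pullback.snd f h) z) ξ := hπξ
        rw [h1] at h2
        exact hϖ.ne_zero ((Submodule.mem_bot R).mp h2)
      · exact hcl
    have hfξ' : f (pullback.fst f h ξ') = y := by
      rw [apply_eq_of_comp_eq hc.w ξ', hpξ', ← hz2, ← apply_eq_of_comp_eq hc.w z, hz1, hx₁y]
    have hfstspec : pullback.fst f h ξ' ⤳ x₁ := by
      have := hξ'z.map (pullback.fst f h).continuous
      rwa [hz1] at this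
    have hξ'C : pullback.fst f h ξ' ∈ connectedComponentIn (f ⁻¹' {y}) (s y) := by
      have hT : _root_.IsPreconnected (closure {pullback.fst f h ξ'} ∩ f ⁻¹' {y}) :=
        isPreconnected_singleton.subset_closure
          (Set.singleton_subset_iff.mpr ⟨subset_closure rfl, hfξ'⟩) Set.inter_subset_left
      have hx₁T : x₁ ∈ closure {pullback.fst f h ξ'} ∩ f ⁻¹' {y} :=
        ⟨specializes_iff_mem_closure.mp hfstspec, hx₁y⟩
      have h1 := hT.subset_connectedComponentIn hx₁T Set.inter_subset_right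
      rw [connectedComponentIn_eq hx₁]
      exact h1 ⟨subset_closure rfl, hfξ'⟩
    have hUO := hUO₀ _ hξ'C
    have hopen : EGA43.IsOpenAt (pullback.snd f h).base ξ' := hUO _ h ξ' rfl
    have hspec : η ⤳ (pullback.snd f h ξ') := by
      rw [hηdef, hpξ']
      exact (PrimeSpectrum.le_iff_specializes _ _).mp bot_le
    have hcl : ξ' ∈ closure (pullback.snd f h ⁻¹' {η}) := by
      rw [mem_closure_iff_nhds]
      intro N hN
      have h1 : (pullback.snd f h).base '' N ∈ 𝓝 ((pullback.snd f h).base ξ') := hopen N hN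
      have h2 : (pullback.snd f h).base '' N ∈ 𝓝 η := hspec h1
      obtain ⟨n, hnN, hpn⟩ := mem_of_mem_nhds h2
      exact ⟨n, hnN, hpn⟩
    have hηo : IsOpen (pullback.snd f h ⁻¹' {η}) := by
      rw [hηdef]
      exact isOpen_singleton_bot.preimage (pullback.snd f h).continuous
    obtain ⟨w, hwη, hwξ'⟩ := exists_specializes_of_mem_closure_of_isOpen hηo hcl
    obtain ⟨𝔮, rfl⟩ := (hrange w).mp (hwξ'.trans hξ'z)
    refine ⟨𝔮.asIdeal, 𝔮.isPrime, ?_, ?_⟩
    · rw [hξ'def] at hwξ'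
      have h1 := ((pullback f h).fromSpecStalk z).isEmbedding.isInducing.specializes_iff.mp hwξ'
      exact (PrimeSpectrum.le_iff_specializes 𝔮 ⟨ξ, hξ⟩).mpr h1
    · haveI := 𝔮.isPrime
      have h1 : (pullback.snd f h ((pullback f h).fromSpecStalk z 𝔮) : PrimeSpectrum R).asIdeal =
          ⊥ := by
        have h0 : pullback.snd f h ((pullback f h).fromSpecStalk z 𝔮) = η := hwη
        rw [h0, hηdef]
        rfl
      rw [apply_fromSpecStalk, eq_bot_iff_notMem hϖ] at h1
      exact h1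

/-! ### generic points of section components of base changes -/

theorem exists_generic_bc {X Y T XA : Scheme.{u}} (f : X ⟶ Y) [LocallyOfFiniteType f]
    (g : Y ⟶ X) (hg : g ≫ f = 𝟙 Y) (h : T ⟶ Y) (p : XA ⟶ X) (fA : XA ⟶ T)
    (sq : IsPullback p fA f h) (gA : T ⟶ XA) (hgA : gA ≫ fA = 𝟙 T) (hgAp : gA ≫ p = h ≫ g)
    (t : T)
    (hgi : ∀ (K : Type u) [Field K]
      [Algebra (IsLocalRing.ResidueField (Y.presheaf.stalk (h.base t))) K],
      IsIrreducible ((FBase.bcπ (f.fiberToSpecResidueField (h.base t)) K ≫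
        f.fiberι (h.base t)).base ⁻¹'
          connectedComponentIn (f.base ⁻¹' {h.base t}) (g.base (h.base t)))) :
    ∃ ζ' : XA, ζ' ∈ connectedComponentIn (fA ⁻¹' {t}) (gA t) ∧
      (∀ z ∈ connectedComponentIn (fA ⁻¹' {t}) (gA t), ζ' ⤳ z) ∧
      (∀ z ∈ connectedComponentIn (fA ⁻¹' {t}) (gA t),
        p z ∈ connectedComponentIn (f ⁻¹' {h t}) (g (h t))) ∧
      connectedComponentIn (f ⁻¹' {h t}) (g (h t)) ⊆ closure {p ζ'} ∧
      (∀ x' : XA, fA x' = t → p x' ∈ connectedComponentIn (f ⁻¹' {h t}) (g (h t)) →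
        x' ∈ connectedComponentIn (fA ⁻¹' {t}) (gA t)) := by
  haveI : LocallyOfFiniteType fA :=
    MorphismProperty.of_isPullback (P := @LocallyOfFiniteType) sq inferInstance
  obtain ⟨hirr0, -, hmem0⟩ :=
    Groth.Agent.H1.SecComp.sectionComponent_bc f g hg h p fA sq gA hgA hgAp t hgi
  have hfgA : fA (gA t) = t := by
    have := congrArg (fun ψ : T ⟶ T => ψ.base t) hgA
    simpa using this
  obtain ⟨S₀, hS₀⟩ : ∃ S₀ : Set XA, S₀ = connectedComponentIn (fA ⁻¹' {t}) (gA t) := ⟨_, rfl⟩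
  rw [← hS₀] at hirr0 hmem0 ⊢
  have hS₀F : S₀ ⊆ fA ⁻¹' {t} := by rw [hS₀]; exact connectedComponentIn_subset _ _
  have hgS₀ : gA t ∈ S₀ := by rw [hS₀]; exact mem_connectedComponentIn hfgA
  have hmaxC : ∀ Z' : Set XA, IsIrreducible Z' → Z' ⊆ fA.base ⁻¹' {t} → S₀ ⊆ Z' → Z' = S₀ := by
    intro Z' hZ' hZ'F hCZ'
    refine subset_antisymm ?_ hCZ'
    rw [hS₀]
    exact hZ'.isConnected.isPreconnected.subset_connectedComponentIn (hCZ' hgS₀) hZ'F
  obtain ⟨ζ', hζ'S, -, hSeq, -, -⟩ :=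
    Groth.Agent.H1.FibComp.exists_generic_of_fibre_component fA t S₀ hS₀F hirr0 hmaxC
  have hspec : ∀ z ∈ S₀, ζ' ⤳ z := by
    intro z hz
    rw [hSeq] at hz
    exact specializes_iff_mem_closure.mpr hz.1
  have hfp : ∀ z : XA, f (p z) = h (fA z) := fun z => apply_eq_of_comp_eq sq.w z
  have hpS₀ : p '' S₀ ⊆ connectedComponentIn (f ⁻¹' {h t}) (g (h t)) := by
    have hpre : _root_.IsPreconnected (p '' S₀) := by
      rw [hS₀]
      exact isPreconnected_connectedComponentIn.image _ p.continuous.continuousOn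
    apply hpre.subset_connectedComponentIn
    · exact ⟨gA t, hgS₀, apply_eq_of_comp_eq hgAp t⟩
    · rintro _ ⟨z, hz, rfl⟩
      show f (p z) = h t
      rw [hfp]
      exact congrArg h (hS₀F hz)
  refine ⟨ζ', hζ'S, hspec, fun z hz => hpS₀ ⟨z, hz, rfl⟩, ?_, hmem0⟩
  intro x₁ hx₁
  have hfx₁ : f x₁ = h t := connectedComponentIn_subset (f ⁻¹' {h t}) (g (h t)) hx₁
  obtain ⟨z, hz1, hz2⟩ := Groth.Agent.H3.exists_preimage_of_isPullback sq x₁ t hfx₁
  have hzS : z ∈ S₀ := hmem0 z hz2 (by rw [hz1]; exact hx₁)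
  have h3 := (hspec z hzS).map p.continuous
  rw [hz1] at h3
  exact specializes_iff_mem_closure.mp h3

/-! ### universal openness at all points of the component -/

theorem isUnivOpenAt_of_generic {X Y : Scheme.{u}} [IsLocallyNoetherian Y] (f : X ⟶ Y)
    [LocallyOfFiniteType f] (g : Y ⟶ X) (hg : g ≫ f = 𝟙 Y)
    (hgi : ∀ (y : Y) (K : Type u) [Field K]
      [Algebra (IsLocalRing.ResidueField (Y.presheaf.stalk y)) K],
      IsIrreducible ((FBase.bcπ (f.fiberToSpecResidueField y) K ≫ f.fiberι y).base ⁻¹'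
        (connectedComponentIn (f.base ⁻¹' {y}) (g.base y))))
    (y₀ : Y)
    (hopen : ∀ ξ ∈ connectedComponentIn (f.base ⁻¹' {y₀}) (g.base y₀),
      connectedComponentIn (f.base ⁻¹' {y₀}) (g.base y₀) ⊆ closure {ξ} → EGA43.IsUnivOpenAt f ξ)
    (x : X) (hx : x ∈ connectedComponentIn (f.base ⁻¹' {y₀}) (g.base y₀)) :
    EGA43.IsUnivOpenAt f x := by
  have hfx : f.base x = y₀ := connectedComponentIn_subset (f.base ⁻¹' {y₀}) (g.base y₀) hx
  apply Groth.Agent.H1.DVRCrit.isUnivOpenAt_of_dvrCond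
  intro A _ _ _ h hcl x' hx'1 hx'2
  have sq := IsPullback.of_hasPullback f h
  obtain ⟨gA, hgAdef⟩ : ∃ gA : Spec (CommRingCat.of A) ⟶ pullback f h,
      gA = pullback.lift (h ≫ g) (𝟙 _)
        (by rw [Category.assoc, hg, Category.comp_id, Category.id_comp]) := ⟨_, rfl⟩
  have hgA : gA ≫ pullback.snd f h = 𝟙 _ := by rw [hgAdef]; exact pullback.lift_snd _ _ _
  have hgAp : gA ≫ pullback.fst f h = h ≫ g := by rw [hgAdef]; exact pullback.lift_fst _ _ _
  obtain ⟨c, hc⟩ : ∃ c : Spec (CommRingCat.of A), c = closedPoint A := ⟨_, rfl⟩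
  rw [← hc] at hcl hx'2
  have hht : h.base c = y₀ := hcl.trans hfx
  subst hht
  obtain ⟨ζ', hζ'S, hspec, hpS, hgen, hmem0⟩ :=
    exists_generic_bc f g hg h _ _ sq gA hgA hgAp c (fun K _ _ => hgi (h.base c) K)
  have hUO := hopen _ (hpS ζ' hζ'S) hgen
  have hcond := Groth.Agent.H1.DVRCrit.dvrCond_of_isUnivOpenAt f _ hUO
  have hx'S : x' ∈ connectedComponentIn ((pullback.snd f h) ⁻¹' {c}) (gA c) :=
    hmem0 x' hx'2 (by rw [hx'1]; exact hx)
  have hfζ' : (pullback.snd f h).base ζ' = c :=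
    connectedComponentIn_subset ((pullback.snd f h) ⁻¹' {c}) (gA c) hζ'S
  have hcl' : h.base (closedPoint A) = f.base ((pullback.fst f h).base ζ') := by
    rw [← hc, ← hfζ']
    exact (apply_eq_of_comp_eq sq.w ζ').symm
  obtain ⟨z', hz'ζ', hz'ne⟩ := hcond A h hcl' ζ' rfl (hfζ'.trans hc)
  exact ⟨z', hz'ζ'.trans (hspec x' hx'S), hz'ne⟩

/-! ### generizations of the generic point of the component lie in `X^0` -/

theorem mem_sectionComponents_of_specializes {X Y : Scheme.{u}} [IsLocallyNoetherian Y]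
    (f : X ⟶ Y) [LocallyOfFiniteType f] (g : Y ⟶ X) (hg : g ≫ f = 𝟙 Y)
    (hgi : ∀ (y : Y) (K : Type u) [Field K]
      [Algebra (IsLocalRing.ResidueField (Y.presheaf.stalk y)) K],
      IsIrreducible ((FBase.bcπ (f.fiberToSpecResidueField y) K ≫ f.fiberι y).base ⁻¹'
        (connectedComponentIn (f.base ⁻¹' {y}) (g.base y))))
    (y₀ : Y)
    (hUO : ∀ x₁ ∈ connectedComponentIn (f ⁻¹' {y₀}) (g y₀), EGA43.IsUnivOpenAt f x₁)
    (hG : GRat f (g y₀))
    (ζ : X) (hζC : ζ ∈ connectedComponentIn (f ⁻¹' {y₀}) (g y₀))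
    (hζgen : connectedComponentIn (f ⁻¹' {y₀}) (g y₀) ⊆ closure {ζ})
    (ξ : X) (hξζ : ξ ⤳ ζ) : ξ ∈ MoreMor.sectionComponents f g := by
  haveI : IsLocallyNoetherian X := LocallyOfFiniteType.isLocallyNoetherian f
  have hfg : ∀ y : Y, f (g y) = y := fun y => by
    change (g ≫ f) y = y
    rw [hg]
    rfl
  have hfζ : f ζ = y₀ := connectedComponentIn_subset (f ⁻¹' {y₀}) (g y₀) hζC
  by_cases hne : ξ = ζ
  · rw [hne]
    show ζ ∈ connectedComponentIn (f ⁻¹' {f ζ}) (g (f ζ))
    rw [hfζ]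
    exact hζC
  obtain ⟨R, _, _, _, g₀, hg₀c, hg₀η⟩ := Groth.Agent.H8.DVRSch.exists_dvr_of_specializes hξζ hne
  obtain ⟨ϖ, hϖ⟩ := IsDiscreteValuationRing.exists_irreducible R
  obtain ⟨c, hcdef⟩ : ∃ c : Spec (CommRingCat.of R), c = closedPoint R := ⟨_, rfl⟩
  obtain ⟨η, hηdef⟩ : ∃ η : Spec (CommRingCat.of R), η = (⊥ : PrimeSpectrum R) := ⟨_, rfl⟩
  rw [← hcdef] at hg₀c
  rw [← hηdef] at hg₀η
  obtain ⟨h, hh⟩ : ∃ h : Spec (CommRingCat.of R) ⟶ Y, h = g₀ ≫ f := ⟨_, rfl⟩
  have hc := IsPullback.of_hasPullback f h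
  obtain ⟨p, hp⟩ : ∃ p : pullback f h ⟶ Spec (CommRingCat.of R), p = pullback.snd f h := ⟨_, rfl⟩
  obtain ⟨fst, hfst⟩ : ∃ fst : pullback f h ⟶ X, fst = pullback.fst f h := ⟨_, rfl⟩
  rw [← hp, ← hfst] at hc
  haveI : LocallyOfFiniteType p := by rw [hp]; infer_instance
  have hw1 : (h ≫ g) ≫ f = 𝟙 _ ≫ h := by
    rw [Category.assoc, hg, Category.comp_id, Category.id_comp]
  have hw2 : g₀ ≫ f = 𝟙 _ ≫ h := by rw [Category.id_comp, hh]
  have hσp : hc.lift (h ≫ g) (𝟙 _) hw1 ≫ p = 𝟙 _ := hc.lift_snd _ _ _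
  have hσf : hc.lift (h ≫ g) (𝟙 _) hw1 ≫ fst = h ≫ g := hc.lift_fst _ _ _
  have hτp : hc.lift g₀ (𝟙 _) hw2 ≫ p = 𝟙 _ := hc.lift_snd _ _ _
  have hτf : hc.lift g₀ (𝟙 _) hw2 ≫ fst = g₀ := hc.lift_fst _ _ _
  obtain ⟨σ, hσ⟩ : ∃ σ : Spec (CommRingCat.of R) ⟶ pullback f h,
    σ = hc.lift (h ≫ g) (𝟙 _) hw1 := ⟨_, rfl⟩
  obtain ⟨τ, hτ⟩ : ∃ τ : Spec (CommRingCat.of R) ⟶ pullback f h,
    τ = hc.lift g₀ (𝟙 _) hw2 := ⟨_, rfl⟩
  rw [← hσ] at hσp hσf
  rw [← hτ] at hτp hτf
  have hE := Groth.Agent.H1.SecComp.s1324 f g hg p fst h hc σ hσp hσf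
  have hpτ : ∀ t, p (τ t) = t := fun t => by
    change (τ ≫ p) t = t
    rw [hτp]
    rfl
  have hpσ : ∀ t, p (σ t) = t := fun t => by
    change (σ ≫ p) t = t
    rw [hσp]
    rfl
  have hfτ : ∀ t, fst (τ t) = g₀ t := fun t => by
    change (τ ≫ fst) t = _
    rw [hτf]
  have hfσ : ∀ t, fst (σ t) = g (h t) := fun t => by
    change (σ ≫ fst) t = _
    rw [hσf]
    rfl
  have hmem : ∀ (w : ↥(pullback f h)) (t : Spec (CommRingCat.of R)), p w = t →
      (w ∈ MoreMor.sectionComponents p σ ↔ w ∈ connectedComponentIn (p ⁻¹' {t}) (σ t)) := by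
    intro w t ht
    subst ht
    rfl
  have hhc : h c = y₀ := by
    rw [hh]
    change f (g₀ c) = y₀
    rw [hg₀c]
    exact hfζ
  obtain ⟨ζ', hζ'S, hspec, hpS, -, hmem0⟩ :=
    exists_generic_bc f g hg h fst p hc σ hσp hσf c (fun K _ _ => hgi (h.base c) K)
  rw [hhc] at hpS hmem0
  -- the three points
  have hσS : σ c ∈ connectedComponentIn (p ⁻¹' {c}) (σ c) := mem_connectedComponentIn (hpσ c)
  have hτS : τ c ∈ connectedComponentIn (p ⁻¹' {c}) (σ c) := by
    apply hmem0 (τ c) (hpτ c)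
    rw [hfτ, hg₀c]
    exact hζC
  obtain ⟨S, hSdef⟩ : ∃ S : Set ↥(pullback f h), S = {ζ', τ c, σ c} := ⟨_, rfl⟩
  have hSsub : S ⊆ connectedComponentIn (p ⁻¹' {c}) (σ c) := by
    rw [hSdef]
    intro z hz
    rcases hz with rfl | rfl | rfl
    · exact hζ'S
    · exact hτS
    · exact hσS
  have hSpre : _root_.IsPreconnected S := by
    apply isPreconnected_singleton.subset_closure (s := {ζ'})
    · rw [hSdef]
      intro z hz
      rw [Set.mem_singleton_iff] at hz
      rw [hz]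
      exact Set.mem_insert _ _
    · intro z hz
      exact specializes_iff_mem_closure.mp (hspec z (hSsub hz))
  have hσcS : σ c ∈ S := by
    rw [hSdef]
    exact Set.mem_insert_of_mem _ (Set.mem_insert_of_mem _ rfl)
  have hτcS : τ c ∈ S := by
    rw [hSdef]
    exact Set.mem_insert_of_mem _ (Set.mem_insert _ _)
  have hgy₀ : g y₀ ∈ connectedComponentIn (f ⁻¹' {y₀}) (g y₀) :=
    mem_connectedComponentIn (hfg y₀)
  have hspS : ∀ z ∈ S, fst z ⤳ g y₀ := by
    intro z hz
    rw [hSdef] at hz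
    rcases hz with rfl | rfl | rfl
    · have h1 := (hspec (σ c) hσS).map fst.continuous
      rw [hfσ, hhc] at h1
      exact h1
    · rw [hfτ, hg₀c]
      exact specializes_iff_mem_closure.mpr (hζgen hgy₀)
    · rw [hfσ, hhc]
  have H : ∀ z ∈ S,
      stalkHom p z ϖ ∈ nonZeroDivisors ((pullback f h).presheaf.stalk z) ∧
        (Ideal.span {stalkHom p z ϖ}).IsRadical := by
    intro z hz
    have hzS₀ := hSsub hz
    have hpz : p z = c := connectedComponentIn_subset (p ⁻¹' {c}) (σ c) hzS₀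
    have hfzC : fst z ∈ connectedComponentIn (f ⁻¹' {y₀}) (g y₀) := hpS z hzS₀
    have hfz : f (fst z) = y₀ := connectedComponentIn_subset (f ⁻¹' {y₀}) (g y₀) hfzC
    have hGz : GRat f (fst z) :=
      gRat_of_specializes f hG (hspS z hz) (hfz.trans (hfg y₀).symm)
    have hgood := dvrGood_of_univOpen' f g y₀ hUO (fst z) hfzC hGz R h
    subst hp hfst
    exact hgood z ϖ hϖ rfl (hpz.trans hcdef)
  have hfin := dvr_core' p σ τ hσp hτp hϖ c η hcdef hηdef S hSpre hσcS hτcS H
  rw [← hmem (τ η) η (hpτ η), hE] at hfin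
  have h2 : fst (τ η) ∈ MoreMor.sectionComponents f g := hfin
  rw [hfτ, hg₀η] at h2
  exact h2

/-! ### the theorem on constancy of the dimension -/

theorem main5927 {X Y : Scheme.{u}} [IsLocallyNoetherian Y] (f : X ⟶ Y)
    [LocallyOfFiniteType f] (g : Y ⟶ X) (hg : g ≫ f = 𝟙 Y)
    (hirr : ∀ y : Y, (∀ (K : Type u) [Field K] [Algebra (IsLocalRing.ResidueField (Y.presheaf.stalk y)) K],
        IsIrreducible ((FBase.bcπ (f.fiberToSpecResidueField y) K ≫ f.fiberι y).base ⁻¹' connectedComponentIn (f.base ⁻¹' {y}) (g.base y))))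
    (y₀ : Y) (hopen : ∀ ξ ∈ connectedComponentIn (f.base ⁻¹' {y₀}) (g.base y₀), connectedComponentIn (f.base ⁻¹' {y₀}) (g.base y₀) ⊆ closure {ξ} → EGA43.IsUnivOpenAt f ξ)
    (hαβ : FBase.IsGeomReducedAt (f.fiberToSpecResidueField (f.base (g.base y₀))) (f.asFiber (g.base y₀)) ∨
      (∀ y' : Y, y₀ ∈ closure {y'} → closure {y'} ∈ irreducibleComponents (Y : Type u) →
        topologicalKrullDim ↥(f.fiber y') = topologicalKrullDim ↥(connectedComponentIn (f.base ⁻¹' {y'}) (g.base y')))) :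
    (∃ V ∈ nhds y₀, ∀ z ∈ V, topologicalKrullDim ↥(connectedComponentIn (f.base ⁻¹' {z}) (g.base z)) = topologicalKrullDim ↥(connectedComponentIn (f.base ⁻¹' {y₀}) (g.base y₀))) := by
  classical
  haveI : IsLocallyNoetherian X := LocallyOfFiniteType.isLocallyNoetherian f
  have hfg : ∀ y : Y, f.base (g.base y) = y := fun y => by
    change (g ≫ f) y = y
    rw [hg]
    rfl
  have hirr' : ∀ y, IsIrreducible (connectedComponentIn (f.base ⁻¹' {y}) (g.base y)) :=
    fun y => Groth.Agent.H1.FibComp.isIrreducible_of_geom f y _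
      (connectedComponentIn_subset _ _) (hirr y)
  obtain ⟨d, hddef⟩ : ∃ d : Y → WithBot ℕ∞, d = fun y : Y =>
      topologicalKrullDim ↥(connectedComponentIn (f.base ⁻¹' {y}) (g.base y)) := ⟨_, rfl⟩
  have hdz : ∀ y, d y =
      topologicalKrullDim ↥(connectedComponentIn (f.base ⁻¹' {y}) (g.base y)) :=
    fun y => by rw [hddef]
  have hdfib : ∀ y, d y = FlatMor.fibreDimAt f (g.base y) := fun y => by
    rw [hdz]
    exact Groth.Agent.H1.FibComp.dim_connectedComponentIn_eq f (g.base y) y (hfg y) (hirr' y)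
  have husc : UpperSemicontinuous d := by
    rw [hddef]
    exact Groth.Agent.H1.FibComp.upperSemicontinuous_dim_sectionComponent f g hg hirr'
  have hmono : ∀ {a b : Y}, a ⤳ b → d a ≤ d b := by
    intro a b hab
    by_contra hlt
    rw [not_le] at hlt
    have h1 : ∀ᶠ x' in 𝓝 b, d x' < d a := husc b (d a) hlt
    have hab' : 𝓝 a ≤ 𝓝 b := hab
    have h2 : {x' : Y | d x' < d a} ∈ 𝓝 a := hab' h1
    have h3 : a ∈ {x' : Y | d x' < d a} := mem_of_mem_nhds h2
    have h4 : d a < d a := h3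
    exact lt_irrefl _ h4
  -- the generic point of the component over `y₀`
  obtain ⟨C₀, hC₀⟩ : ∃ C₀ : Set X, C₀ = connectedComponentIn (f.base ⁻¹' {y₀}) (g.base y₀) :=
    ⟨_, rfl⟩
  have hgC₀ : g.base y₀ ∈ C₀ := by rw [hC₀]; exact mem_connectedComponentIn (hfg y₀)
  have hC₀F : C₀ ⊆ f.base ⁻¹' {y₀} := by rw [hC₀]; exact connectedComponentIn_subset _ _
  have hmaxC : ∀ Z' : Set X, IsIrreducible Z' → Z' ⊆ f.base ⁻¹' {y₀} → C₀ ⊆ Z' → Z' = C₀ := by
    intro Z' hZ' hZ'F hCZ'
    refine subset_antisymm ?_ hCZ'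
    rw [hC₀]
    exact hZ'.isConnected.isPreconnected.subset_connectedComponentIn (hCZ' hgC₀) hZ'F
  obtain ⟨ζ, hζC, hfζ, hCeq, hmax, hdimζ⟩ :=
    Groth.Agent.H1.FibComp.exists_generic_of_fibre_component f y₀ C₀ hC₀F
      (by rw [hC₀]; exact hirr' y₀) hmaxC
  have hC₀cl : C₀ ⊆ closure {ζ} := by
    intro x hx
    rw [hCeq] at hx
    exact hx.1
  rw [← hC₀] at hopen
  have hUOζ : EGA43.IsUnivOpenAt f ζ := hopen ζ hζC hC₀cl
  have hOζ : EGA43.IsOpenAt f.base ζ := Groth.Agent.H1.ChevEq.isOpenAt_of_isUnivOpenAt f ζ hUOζ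
  have hd₀ : d y₀ = FlatMor.fibreDimAt f ζ := by
    rw [hdz, ← hC₀]
    exact hdimζ
  -- the key inequality at maximal generizations
  have hkey : ∀ η : Y, η ⤳ y₀ → closure {η} ∈ irreducibleComponents (Y : Type u) →
      d y₀ ≤ d η := by
    intro η hη hηmax
    obtain ⟨ξ, hξζ, hfξ, -, hdξ⟩ :=
      Groth.Agent.H1.FibComp.exists_generization_fibreDimAt_eq f ζ hmax hOζ η
        (by rw [hfζ]; exact hη)
    rcases hαβ with hα | hβ
    · have hUOall : ∀ x₁ ∈ connectedComponentIn (f ⁻¹' {y₀}) (g y₀), EGA43.IsUnivOpenAt f x₁ := by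
        intro x₁ hx₁
        refine isUnivOpenAt_of_generic f g hg (fun y K _ _ => hirr y K) y₀ ?_ x₁ hx₁
        rw [← hC₀]
        exact hopen
      have hξX0 : ξ ∈ MoreMor.sectionComponents f g :=
        mem_sectionComponents_of_specializes f g hg (fun y K _ _ => hirr y K) y₀ hUOall
          (gRat_of_asFiber f (g y₀) hα) ζ (by rw [← hC₀]; exact hζC)
          (by rw [← hC₀]; exact hC₀cl) ξ hξζ
      have hξC : ξ ∈ connectedComponentIn (f.base ⁻¹' {η}) (g.base η) := by
        have h1 : ξ ∈ connectedComponentIn (f.base ⁻¹' {f.base ξ}) (g.base (f.base ξ)) := hξX0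
        rwa [hfξ] at h1
      have h2 := Groth.Agent.H1.FibComp.dim_connectedComponentIn_eq f ξ η hfξ
        (by rw [← connectedComponentIn_eq hξC]; exact hirr' η)
      rw [hd₀, hdz η, connectedComponentIn_eq hξC, h2, hdξ]
    · have h1 := hβ η (specializes_iff_mem_closure.mp hη) hηmax
      rw [hd₀, hdz η, ← h1, ← hdξ]
      exact Groth.Agent.H1.FibComp.fibreDimAt_le_dim_fiber f ξ η hfξ
  -- the neighbourhood
  let F : ↥(irreducibleComponents ↥Y) → Set ↥Y := fun T => if y₀ ∈ T.1 then ∅ else T.1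
  have hFsub : ∀ T, F T ⊆ T.1 := by
    intro T
    simp only [F]
    split_ifs
    · exact Set.empty_subset _
    · exact subset_rfl
  have hFclosed : ∀ T, IsClosed (F T) := by
    intro T
    simp only [F]
    split_ifs
    · exact isClosed_empty
    · exact isClosed_of_mem_irreducibleComponents _ T.2
  have hLF : LocallyFinite F :=
    (Groth.Agent.H1.GeomRedOpen.locallyFinite_irreducibleComponents Y).subset hFsub
  have hB : IsClosed (⋃ T, F T) := hLF.isClosed_iUnion hFclosed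
  have hy₀B : y₀ ∉ ⋃ T, F T := by
    simp only [Set.mem_iUnion, not_exists]
    intro T hT
    simp only [F] at hT
    split_ifs at hT with hy
    · exact hT
    · exact hy hT
  obtain ⟨n, hn⟩ := Groth.Agent.H1.CMQF.exists_nat_fibreDimAt f (g.base y₀)
  have hop : IsOpen {x : X | FlatMor.fibreDimAt f x ≤ (n : WithBot ℕ∞)} :=
    Groth.Agent.H1.Chev.isOpen_fibreDimAt_le f n
  have hop' := hop.preimage g.continuous
  refine ⟨(⋃ T, F T)ᶜ ∩ g.base ⁻¹' {x : X | FlatMor.fibreDimAt f x ≤ (n : WithBot ℕ∞)},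
    Filter.inter_mem (hB.isOpen_compl.mem_nhds hy₀B)
      (hop'.mem_nhds (show y₀ ∈ g.base ⁻¹' {x : X | FlatMor.fibreDimAt f x ≤ (n : WithBot ℕ∞)}
        from hn.le)), ?_⟩
  rintro z ⟨hzB, hzn⟩
  rw [← hdz z, ← hdz y₀]
  apply le_antisymm
  · have h1 : FlatMor.fibreDimAt f (g.base z) ≤ (n : WithBot ℕ∞) := hzn
    rw [hdfib z, hdfib y₀, hn]
    exact h1
  · have hT := irreducibleComponent_mem_irreducibleComponents z
    have hy₀T : y₀ ∈ irreducibleComponent z := by
      by_contra hy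
      apply hzB
      rw [Set.mem_iUnion]
      refine ⟨⟨irreducibleComponent z, hT⟩, ?_⟩
      simp only [F]
      rw [if_neg hy]
      exact mem_irreducibleComponent
    obtain ⟨η, hη⟩ := QuasiSober.sober hT.1 (isClosed_of_mem_irreducibleComponents _ hT)
    have hηd : closure ({η} : Set Y) = irreducibleComponent z := hη.def
    have hηy₀ : η ⤳ y₀ := by rw [specializes_iff_mem_closure, hηd]; exact hy₀T
    have hηz : η ⤳ z := by
      rw [specializes_iff_mem_closure, hηd]; exact mem_irreducibleComponent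
    exact (hkey η hηy₀ (by rw [hηd]; exact hT)).trans (hmono hηz)

/-! ### EGA IV 15.6.7 (ii) over a locally Noetherian base -/

theorem main4975 {X Y : Scheme.{u}}
    [IsLocallyNoetherian Y] (f : X ⟶ Y) [LocallyOfFiniteType f] (g : Y ⟶ X) (hg : g ≫ f = 𝟙 Y)
    (hint : ∀ y : Y, (∀ (K : Type u) [Field K] [Algebra (IsLocalRing.ResidueField (Y.presheaf.stalk y)) K],
        IsIrreducible ((FBase.bcπ (f.fiberToSpecResidueField y) K ≫ f.fiberι y).base ⁻¹' connectedComponentIn (f.base ⁻¹' {y}) (g.base y)) ∧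
        ∀ x' : ↥(FBase.bc (f.fiberToSpecResidueField y) K),
          (FBase.bcπ (f.fiberToSpecResidueField y) K ≫ f.fiberι y).base x' ∈ connectedComponentIn (f.base ⁻¹' {y}) (g.base y) →
          _root_.IsReduced ((FBase.bc (f.fiberToSpecResidueField y) K).presheaf.stalk x'))) :
    (IsLocallyConstant (fun y : Y => topologicalKrullDim ↥(connectedComponentIn (f.base ⁻¹' {y}) (g.base y))) ↔ ∀ x ∈ MoreMor.sectionComponents f g, EGA43.IsUnivOpenAt f x) ∧
      (IsLocallyConstant (fun y : Y => topologicalKrullDim ↥(connectedComponentIn (f.base ⁻¹' {y}) (g.base y))) → IsOpen (MoreMor.sectionComponents f g)) := by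
  have hfg : ∀ y : Y, f.base (g.base y) = y := fun y => by
    change (g ≫ f) y = y
    rw [hg]
    rfl
  have hirr : ∀ y : Y, (∀ (K : Type u) [Field K]
      [Algebra (IsLocalRing.ResidueField (Y.presheaf.stalk y)) K],
      IsIrreducible ((FBase.bcπ (f.fiberToSpecResidueField y) K ≫ f.fiberι y).base ⁻¹'
        connectedComponentIn (f.base ⁻¹' {y}) (g.base y))) := fun y K _ _ => (hint y K).1
  -- geometric reducedness at the points of `X^0`
  have hGR : ∀ (y : Y) (x : X), x ∈ connectedComponentIn (f.base ⁻¹' {y}) (g.base y) →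
      GRat f x := by
    intro y x hx y' a ha K _ _ x'' hx''
    have hfx : f.base x = y := connectedComponentIn_subset (f.base ⁻¹' {y}) (g.base y) hx
    have hy' : f.base x = y' := by rw [← ha]; exact apply_fiberι f y' a
    have hyy : y' = y := hy'.symm.trans hfx
    subst hyy
    apply (hint y' K).2 x''
    show (f.fiberι y').base ((FBase.bcπ (f.fiberToSpecResidueField y') K).base x'') ∈ _
    rw [hx'', ha]
    exact hx
  have hGR' : ∀ x ∈ MoreMor.sectionComponents f g,
      FBase.IsGeomReducedAt (f.fiberToSpecResidueField (f.base x)) (f.asFiber x) := by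
    intro x hx
    exact hGR (f.base x) x hx (f.base x) (f.asFiber x) (f.fiberι_asFiber x)
  have h1 : IsLocallyConstant (fun y : Y => topologicalKrullDim
      ↥(connectedComponentIn (f.base ⁻¹' {y}) (g.base y))) →
      ∀ x ∈ MoreMor.sectionComponents f g, EGA43.IsUnivOpenAt f x := by
    intro hLC x hx
    refine Groth.Agent.H1.SecComp.s3458 f g hg (fun y K _ _ => hirr y K) (f.base x) ?_ x hx
    exact ⟨_, hLC.eventually_eq (f.base x), fun z hz => hz⟩
  refine ⟨⟨h1, fun hUO => ?_⟩, fun hLC => ?_⟩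
  · rw [IsLocallyConstant.iff_eventually_eq]
    intro y₀
    obtain ⟨V, hV, hVeq⟩ := main5927 f g hg hirr y₀
      (fun ξ hξ _ => hUO ξ (by
        have hfξ : f.base ξ = y₀ := connectedComponentIn_subset (f.base ⁻¹' {y₀}) (g.base y₀) hξ
        show ξ ∈ connectedComponentIn (f.base ⁻¹' {f.base ξ}) (g.base (f.base ξ))
        rw [hfξ]
        exact hξ))
      (Or.inl (hGR' (g.base y₀) (by
        show g.base y₀ ∈ connectedComponentIn (f.base ⁻¹' {f.base (g.base y₀)})
          (g.base (f.base (g.base y₀)))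
        rw [hfg y₀]
        exact mem_connectedComponentIn (hfg y₀))))
    exact Filter.mem_of_superset hV hVeq
  · have hUO := h1 hLC
    have h3420 := (main3420 f g hg).1
    rw [← subset_interior_iff_isOpen]
    intro x hx
    refine h3420 (f.base x) (fun x₁ hx₁ => ?_) hx
    have hfx₁ : f.base x₁ = f.base x :=
      connectedComponentIn_subset (f.base ⁻¹' {f.base x}) (g.base (f.base x)) hx₁
    have hx₁X : x₁ ∈ MoreMor.sectionComponents f g := by
      show x₁ ∈ connectedComponentIn (f.base ⁻¹' {f.base x₁}) (g.base (f.base x₁))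
      rw [hfx₁]
      exact hx₁
    exact ⟨hUO x₁ hx₁X, hGR' x₁ hx₁X⟩

end Groth.Agent.H1.GIrr
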