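import Mathlib
import Groth.Prelude.Def_EGA43
import Groth.Prelude.Def_FDesc
import Groth.Agent.Lib.Helper1.GIrrU
import Groth.Agent.Lib.Helper1.UOVal
import Groth.Agent.Lib.Helper1.FibDimFP
import Groth.Agent.Lib.Helper3.UnivOpenAt
import Groth.Agent.Lib.Helper1.FlatFibDim

/-!
# Section components: constancy of `dim X_y^0` for morphisms of finite presentation
(EGA IV 15.6.6 (ii), non-Noetherian base) (helper1)
-/

set_option autoImplicit false
set_option linter.style.haveILetI false
universe u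

open TopologicalSpace Topology AlgebraicGeometry CategoryTheory CategoryTheory.Limits IsLocalRing

namespace Groth.Agent.H1.GIrr

/-! ### pointwise form of EGA IV 14.3.? over a valuation ring -/

theorem dim_closedFibre_le' {A : Type u} [CommRing A] [IsDomain A] [ValuationRing A]
    {X : Scheme.{u}} (f : X ⟶ Spec (CommRingCat.of A)) [LocallyOfFiniteType f] [QuasiCompact f]
    (E₀ : Set X) (t₀ η : Spec (CommRingCat.of A))
    (hη : ∀ t : Spec (CommRingCat.of A), η ⤳ t)
    (hgen : ∀ x ∈ E₀, f x = t₀ → ∃ x' : X, f x' = η ∧ x' ⤳ x) :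
    topologicalKrullDim ↥(f ⁻¹' {t₀} ∩ closure (E₀ ∩ f ⁻¹' {t₀})) ≤
      topologicalKrullDim ↥(f ⁻¹' {η}) := by
  have h := Groth.Agent.H1.UOVal.dim_closedFibre_le f (E₀ ∪ f ⁻¹' {η}) t₀ η hη ?_
  · refine le_trans (Groth.Agent.H1.UOVal.dim_mono' ?_)
      (h.trans (Groth.Agent.H1.UOVal.dim_mono' Set.inter_subset_left))
    exact Set.inter_subset_inter_right _
      (closure_mono (Set.inter_subset_inter_left _ Set.subset_union_left))
  · intro x hx hxt
    rcases hx with hx | hx
    · obtain ⟨x', h1, h2⟩ := hgen x hx hxt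
      exact ⟨x', Or.inr h1, h1, h2⟩
    · exact ⟨x, Or.inr hx, hx, specializes_rfl⟩

/-- **Pointwise form of EGA IV 14.3.? (S4972)**: if `f` is universally open at the points of `E`,
the dimension of the closure of `E` in a fibre is at most the dimension of the fibres over
generizations. -/
theorem dim_le_of_isUnivOpenAt {X S : Scheme.{u}} (f : X ⟶ S) [LocallyOfFiniteType f]
    [QuasiCompact f] (E : Set X) (hE : ∀ x ∈ E, EGA43.IsUnivOpenAt f x) (s s' : S)
    (hs : s' ⤳ s) :
    topologicalKrullDim ↥(f ⁻¹' {s} ∩ closure (E ∩ f ⁻¹' {s})) ≤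
      topologicalKrullDim ↥(f ⁻¹' {s'}) := by
  obtain ⟨A, _, _, _, h, t₀, η, hη, ht₀, hηs'⟩ :=
    Groth.Agent.H1.UOVal.exists_valuationRing_of_specializes hs
  have sq := IsPullback.of_hasPullback f h
  have bc := Groth.Agent.H1.UOVal.dim_closure_inter_fibre_bc f h (pullback.fst f h)
    (pullback.snd f h) sq
  have bc1 := bc E t₀
  have bc2 := bc Set.univ η
  have e : ∀ {T : Type u} [TopologicalSpace T] (F : Set T),
      F ∩ closure (Set.univ ∩ F) = F := by
    intro T _ F
    rw [Set.univ_inter]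
    exact Set.inter_eq_left.mpr subset_closure
  rw [Set.preimage_univ, e, e, hηs'] at bc2
  rw [ht₀] at bc1
  rw [← bc1, ← bc2]
  apply dim_closedFibre_le' (pullback.snd f h) ((pullback.fst f h) ⁻¹' E) t₀ η hη
  intro x hxE hxt
  have hop := Groth.Agent.H3.isOpenAt_snd_of_isPullback (hE _ hxE) sq x rfl
  have hcl : x ∈ closure ((pullback.snd f h) ⁻¹' {η}) := by
    rw [mem_closure_iff_nhds]
    intro U hU
    have h1 := hop U hU
    have h2 : 𝓝 η ≤ 𝓝 ((pullback.snd f h).base x) := hη _
    obtain ⟨u, huU, huη⟩ := mem_of_mem_nhds (h2 h1)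
    exact ⟨u, huU, huη⟩
  haveI : NoetherianSpace ↥((pullback.snd f h) ⁻¹' {η}) :=
    Groth.Agent.H1.UOVal.noetherianSpace_preimage_singleton (pullback.snd f h) η
  obtain ⟨C, ξ, hCQ, ⟨c, hc⟩, hgenξ, hsp⟩ :=
    Groth.Agent.H1.UOVal.exists_generic_of_mem_closure ((pullback.snd f h) ⁻¹' {η}) x hcl
  refine ⟨ξ, ?_, hsp⟩
  have h4 : ξ ⤳ c := hgenξ.specializes (subset_closure hc)
  have h5 : (pullback.snd f h) ξ ⤳ (pullback.snd f h) c := h4.map (pullback.snd f h).continuous
  have h6 : (pullback.snd f h) c = η := hCQ hc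
  rw [h6] at h5
  exact ((hη _).antisymm h5).eq.symm

/-! ### geometric irreducibility of section components is stable under base change -/

theorem hirr_of_isPullback {X Y X' Y' : Scheme.{u}} {f : X ⟶ Y} {f' : X' ⟶ Y'} {g' : X' ⟶ X}
    {g : Y' ⟶ Y} (hc : IsPullback g' f' f g) [LocallyOfFiniteType f] (s : Y ⟶ X)
    (hs : s ≫ f = 𝟙 Y) (s' : Y' ⟶ X') (hs' : s' ≫ f' = 𝟙 Y') (hss : s' ≫ g' = g ≫ s) (y' : Y')
    (hgi : ∀ (K : Type u) [Field K]
      [Algebra (IsLocalRing.ResidueField (Y.presheaf.stalk (g.base y'))) K],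
      IsIrreducible ((FBase.bcπ (f.fiberToSpecResidueField (g.base y')) K ≫
        f.fiberι (g.base y')).base ⁻¹'
          connectedComponentIn (f.base ⁻¹' {g.base y'}) (s.base (g.base y'))))
    (K : Type u) [Field K] [Algebra (IsLocalRing.ResidueField (Y'.presheaf.stalk y')) K] :
    IsIrreducible ((FBase.bcπ (f'.fiberToSpecResidueField y') K ≫ f'.fiberι y').base ⁻¹'
        connectedComponentIn (f'.base ⁻¹' {y'}) (s'.base y')) := by
  obtain ⟨-, -, -, hpS, -, hmem0⟩ := exists_generic_bc f s hs g g' f' hc s' hs' hss y' hgi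
  have hfib := isPullback_fiberToSpecResidueField_of_isPullback hc y'
  obtain ⟨m, hm⟩ : ∃ m : f'.fiber y' ⟶ f.fiber (g y'), m = pullback.map _ _ _ _ g'
      (Spec.map (g.residueFieldMap y')) g hc.w.symm (by simp) := ⟨_, rfl⟩
  rw [← hm] at hfib
  have hmι : m ≫ f.fiberι (g y') = f'.fiberι y' ≫ g' := by
    rw [hm]
    exact pullback.lift_fst _ _ _
  letI alg : Algebra (ResidueField (Y.presheaf.stalk (g y'))) K :=
    ((algebraMap (ResidueField (Y'.presheaf.stalk y')) K).comp (g.residueFieldMap y').hom).toAlgebra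
  have hbot : Spec.map (CommRingCat.ofHom (algebraMap (ResidueField (Y'.presheaf.stalk y')) K)) ≫
      Spec.map (g.residueFieldMap y') =
      Spec.map (CommRingCat.ofHom (algebraMap (ResidueField (Y.presheaf.stalk (g y'))) K)) := by
    rw [← Spec.map_comp]
    rfl
  have big : IsPullback (pullback.fst (f'.fiberToSpecResidueField y')
        (Spec.map (CommRingCat.ofHom (algebraMap (ResidueField (Y'.presheaf.stalk y')) K))) ≫ m)
      (pullback.snd (f'.fiberToSpecResidueField y')
        (Spec.map (CommRingCat.ofHom (algebraMap (ResidueField (Y'.presheaf.stalk y')) K))))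
      (f.fiberToSpecResidueField (g y'))
      (Spec.map (CommRingCat.ofHom (algebraMap (ResidueField (Y.presheaf.stalk (g y'))) K))) :=
    isPullback_congr_bot' ((IsPullback.of_hasPullback (f'.fiberToSpecResidueField y')
      (Spec.map (CommRingCat.ofHom (algebraMap (ResidueField (Y'.presheaf.stalk y')) K)))).paste_horiz
        hfib) hbot
  have he1 : big.isoPullback.hom ≫ pullback.fst (f.fiberToSpecResidueField (g y'))
      (Spec.map (CommRingCat.ofHom (algebraMap (ResidueField (Y.presheaf.stalk (g y'))) K))) =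
      pullback.fst (f'.fiberToSpecResidueField y')
        (Spec.map (CommRingCat.ofHom (algebraMap (ResidueField (Y'.presheaf.stalk y')) K))) ≫ m :=
    big.isoPullback_hom_fst
  have key : ∀ x'' : ↥(FBase.bc (f'.fiberToSpecResidueField y') K),
      (FBase.bcπ (f.fiberToSpecResidueField (g y')) K ≫ f.fiberι (g y')).base
          (big.isoPullback.hom.base x'') =
        g'.base ((FBase.bcπ (f'.fiberToSpecResidueField y') K ≫ f'.fiberι y').base x'') := by
    intro x''
    have e1 := apply_eq_of_comp_eq he1 x''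
    have e2 := apply_eq_of_comp_eq hmι
      ((pullback.fst (f'.fiberToSpecResidueField y')
        (Spec.map (CommRingCat.ofHom (algebraMap (ResidueField (Y'.presheaf.stalk y')) K)))) x'')
    show (f.fiberι (g y')) ((pullback.fst (f.fiberToSpecResidueField (g y'))
      (Spec.map (CommRingCat.ofHom (algebraMap (ResidueField (Y.presheaf.stalk (g y'))) K))))
        (big.isoPullback.hom x'')) = _
    rw [e1]
    exact e2
  have hset : (FBase.bcπ (f'.fiberToSpecResidueField y') K ≫ f'.fiberι y').base ⁻¹'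
        connectedComponentIn (f'.base ⁻¹' {y'}) (s'.base y') =
      big.isoPullback.hom.base ⁻¹' ((FBase.bcπ (f.fiberToSpecResidueField (g y')) K ≫
        f.fiberι (g y')).base ⁻¹'
          connectedComponentIn (f.base ⁻¹' {g.base y'}) (s.base (g.base y'))) := by
    ext x''
    constructor
    · intro hx
      have h0 := hpS ((FBase.bcπ (f'.fiberToSpecResidueField y') K ≫ f'.fiberι y').base x'') hx
      have h1 := Set.mem_of_eq_of_mem (key x'') h0
      exact h1
    · intro hx
      have hx' : (FBase.bcπ (f.fiberToSpecResidueField (g y')) K ≫ f.fiberι (g y')).base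
          (big.isoPullback.hom.base x'') ∈
            connectedComponentIn (f.base ⁻¹' {g.base y'}) (s.base (g.base y')) := hx
      have h1 := Set.mem_of_eq_of_mem (key x'').symm hx'
      exact hmem0 _ (apply_fiberι f' y' _) h1
  rw [hset]
  have h1 := hgi K
  have h2 := h1.image big.isoPullback.inv.base big.isoPullback.inv.continuous.continuousOn
  have hL : Function.LeftInverse big.isoPullback.hom.base big.isoPullback.inv.base := by
    intro w
    have := congrArg (fun ψ => ψ.base w) big.isoPullback.inv_hom_id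
    simpa using this
  have hR : Function.RightInverse big.isoPullback.hom.base big.isoPullback.inv.base := by
    intro w
    have := congrArg (fun ψ => ψ.base w) big.isoPullback.hom_inv_id
    simpa using this
  rw [← congrFun (Set.image_eq_preimage_of_inverse hL hR) _]
  exact h2

/-! ### case (α): reduction to the Noetherian local ring of the base -/

theorem dim_eq_of_noetherian_stalk {X Y : Scheme.{u}} (f : X ⟶ Y) [LocallyOfFiniteType f]
    (g : Y ⟶ X) (hg : g ≫ f = 𝟙 Y)
    (hirr : ∀ y : Y, (∀ (K : Type u) [Field K]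
      [Algebra (IsLocalRing.ResidueField (Y.presheaf.stalk y)) K],
        IsIrreducible ((FBase.bcπ (f.fiberToSpecResidueField y) K ≫ f.fiberι y).base ⁻¹'
          connectedComponentIn (f.base ⁻¹' {y}) (g.base y))))
    (y₀ : Y)
    (hopen : ∀ ξ ∈ connectedComponentIn (f.base ⁻¹' {y₀}) (g.base y₀),
      connectedComponentIn (f.base ⁻¹' {y₀}) (g.base y₀) ⊆ closure {ξ} → EGA43.IsUnivOpenAt f ξ)
    (hα : FBase.IsGeomReducedAt (f.fiberToSpecResidueField (f.base (g.base y₀)))
      (f.asFiber (g.base y₀)))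
    (hN : IsNoetherianRing (Y.presheaf.stalk y₀)) (η : Y) (hη : η ⤳ y₀) :
    topologicalKrullDim ↥(connectedComponentIn (f.base ⁻¹' {η}) (g.base η)) =
      topologicalKrullDim ↥(connectedComponentIn (f.base ⁻¹' {y₀}) (g.base y₀)) := by
  classical
  obtain ⟨h, hhdef⟩ : ∃ h : Spec (Y.presheaf.stalk y₀) ⟶ Y, h = Y.fromSpecStalk y₀ := ⟨_, rfl⟩
  haveI : IsLocallyNoetherian (Spec (Y.presheaf.stalk y₀)) := inferInstance
  have sq := IsPullback.of_hasPullback f h
  obtain ⟨g₁, hg₁def⟩ : ∃ g₁ : Spec (Y.presheaf.stalk y₀) ⟶ pullback f h,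
      g₁ = pullback.lift (h ≫ g) (𝟙 _)
        (by rw [Category.assoc, hg, Category.comp_id, Category.id_comp]) := ⟨_, rfl⟩
  have hg₁ : g₁ ≫ pullback.snd f h = 𝟙 _ := by rw [hg₁def]; exact pullback.lift_snd _ _ _
  have hg₁p : g₁ ≫ pullback.fst f h = h ≫ g := by rw [hg₁def]; exact pullback.lift_fst _ _ _
  obtain ⟨c, hcdef⟩ : ∃ c : Spec (Y.presheaf.stalk y₀),
      c = IsLocalRing.closedPoint (Y.presheaf.stalk y₀) := ⟨_, rfl⟩
  have hhc : h.base c = y₀ := by rw [hhdef, hcdef]; exact Y.fromSpecStalk_closedPoint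
  have hdim : ∀ z : Spec (Y.presheaf.stalk y₀),
      topologicalKrullDim ↥(connectedComponentIn ((pullback.snd f h).base ⁻¹' {z}) (g₁.base z)) =
        topologicalKrullDim ↥(connectedComponentIn (f.base ⁻¹' {h.base z}) (g.base (h.base z))) :=
    fun z => (Groth.Agent.H1.SecComp.sectionComponent_bc f g hg h (pullback.fst f h)
      (pullback.snd f h) sq g₁ hg₁ hg₁p z (fun K _ _ => hirr (h.base z) K)).2.1
  have hopen' : ∀ ξ ∈ connectedComponentIn (f.base ⁻¹' {h.base c}) (g.base (h.base c)),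
      connectedComponentIn (f.base ⁻¹' {h.base c}) (g.base (h.base c)) ⊆ closure {ξ} →
        EGA43.IsUnivOpenAt f ξ := by
    rw [hhc]; exact hopen
  obtain ⟨ζ', hζ'S, hspec, hpS, hgen, hmem0⟩ :=
    exists_generic_bc f g hg h _ _ sq g₁ hg₁ hg₁p c (fun K _ _ => hirr (h.base c) K)
  have hop : ∀ ξ ∈ connectedComponentIn ((pullback.snd f h).base ⁻¹' {c}) (g₁.base c),
      connectedComponentIn ((pullback.snd f h).base ⁻¹' {c}) (g₁.base c) ⊆ closure {ξ} →
        EGA43.IsUnivOpenAt (pullback.snd f h) ξ := by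
    intro ξ hξ hξcl
    have h1 : (pullback.fst f h).base ξ ∈
        connectedComponentIn (f.base ⁻¹' {h.base c}) (g.base (h.base c)) := hpS ξ hξ
    have h3 : ξ ⤳ ζ' := specializes_iff_mem_closure.mpr (hξcl hζ'S)
    have h4 : (pullback.fst f h).base ξ ⤳ (pullback.fst f h).base ζ' :=
      h3.map (pullback.fst f h).continuous
    have h5 : connectedComponentIn (f.base ⁻¹' {h.base c}) (g.base (h.base c)) ⊆
        closure {(pullback.fst f h).base ξ} := by
      intro x hx
      have h6 : (pullback.fst f h).base ζ' ⤳ x := specializes_iff_mem_closure.mpr (hgen hx)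
      exact specializes_iff_mem_closure.mp (h4.trans h6)
    exact Groth.Agent.H3.isUnivOpenAt_snd_of_isPullback (hopen' _ h1 h5) sq ξ rfl
  have hal : FBase.IsGeomReducedAt
      ((pullback.snd f h).fiberToSpecResidueField ((pullback.snd f h).base (g₁.base c)))
      ((pullback.snd f h).asFiber (g₁.base c)) := by
    have hG : GRat f (g.base y₀) := gRat_of_asFiber f (g.base y₀) hα
    have hpg : (pullback.fst f h).base (g₁.base c) = g.base y₀ := by
      exact (apply_eq_of_comp_eq hg₁p c).trans (congrArg g.base hhc)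
    have hG₁ : GRat (pullback.snd f h) (g₁.base c) :=
      gRat_of_isPullback sq (g₁.base c) (by rw [hpg]; exact hG)
    exact hG₁ _ _ ((pullback.snd f h).fiberι_asFiber (g₁.base c))
  have hmain := main5927 (pullback.snd f h) g₁ hg₁
    (fun y₁ K _ _ => hirr_of_isPullback sq g hg g₁ hg₁ hg₁p y₁
      (fun K _ _ => hirr (h.base y₁) K) K) c hop (Or.inl hal)
  obtain ⟨V, hV, hVeq⟩ := hmain
  have hall : ∀ z : Spec (Y.presheaf.stalk y₀), z ∈ V := by
    intro z
    have hz : z ⤳ c := by rw [hcdef]; exact IsLocalRing.specializes_closedPoint z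
    have hz' : 𝓝 z ≤ 𝓝 c := hz
    exact mem_of_mem_nhds (hz' hV)
  obtain ⟨z, hz⟩ : η ∈ Set.range h.base := by
    rw [hhdef, Scheme.range_fromSpecStalk]; exact hη
  rw [← hz, ← hdim z, hVeq z (hall z), hdim c, hhc]

/-! ### the theorem for morphisms of finite presentation -/

theorem natCast_succ_le_iff (m k : ℕ) :
    ((m + 1 : ℕ) : WithBot ℕ∞) ≤ (k : WithBot ℕ∞) ↔ ¬ (k : WithBot ℕ∞) ≤ (m : WithBot ℕ∞) := by
  rw [Nat.cast_le, Nat.cast_le]
  omega

theorem main4956 {X Y : Scheme.{u}} (f : X ⟶ Y)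
    [LocallyOfFinitePresentation f] [QuasiCompact f] (g : Y ⟶ X) (hg : g ≫ f = 𝟙 Y)
    (hirr : ∀ y : Y, (∀ (K : Type u) [Field K]
      [Algebra (IsLocalRing.ResidueField (Y.presheaf.stalk y)) K],
        IsIrreducible ((FBase.bcπ (f.fiberToSpecResidueField y) K ≫ f.fiberι y).base ⁻¹'
          connectedComponentIn (f.base ⁻¹' {y}) (g.base y))))
    (y₀ : Y)
    (hopen : ∀ ξ ∈ connectedComponentIn (f.base ⁻¹' {y₀}) (g.base y₀),
      connectedComponentIn (f.base ⁻¹' {y₀}) (g.base y₀) ⊆ closure {ξ} → EGA43.IsUnivOpenAt f ξ)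
    (hαβ : (FBase.IsGeomReducedAt (f.fiberToSpecResidueField (f.base (g.base y₀)))
        (f.asFiber (g.base y₀)) ∧ IsNoetherianRing (Y.presheaf.stalk y₀)) ∨
      (∀ y' : Y, y₀ ∈ closure {y'} → closure {y'} ∈ irreducibleComponents (Y : Type u) →
        topologicalKrullDim ↥(f.fiber y') =
          topologicalKrullDim ↥(connectedComponentIn (f.base ⁻¹' {y'}) (g.base y')))) :
    ∃ V ∈ nhds y₀, ∀ z ∈ V,
      topologicalKrullDim ↥(connectedComponentIn (f.base ⁻¹' {z}) (g.base z)) =
        topologicalKrullDim ↥(connectedComponentIn (f.base ⁻¹' {y₀}) (g.base y₀)) := by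
  classical
  have hfg : ∀ y : Y, f.base (g.base y) = y := fun y => by
    change (g ≫ f) y = y
    rw [hg]
    rfl
  have hirr' : ∀ y, IsIrreducible (connectedComponentIn (f.base ⁻¹' {y}) (g.base y)) :=
    fun y => Groth.Agent.H1.FibComp.isIrreducible_of_geom f y _
      (connectedComponentIn_subset _ _) (hirr y)
  obtain ⟨d, hddef⟩ : ∃ d : Y → WithBot ℕ∞, d = fun y : Y =>
      topologicalKrullDim ↥(connectedComponentIn (f.base ⁻¹' {y}) (g.base y)) := ⟨_, rfl⟩
  have hdz : ∀ y, d y =
      topologicalKrullDim ↥(connectedComponentIn (f.base ⁻¹' {y}) (g.base y)) :=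
    fun y => by rw [hddef]
  have hdfib : ∀ y, d y = FlatMor.fibreDimAt f (g.base y) := fun y => by
    rw [hdz]
    exact Groth.Agent.H1.FibComp.dim_connectedComponentIn_eq f (g.base y) y (hfg y) (hirr' y)
  have husc : UpperSemicontinuous d := by
    rw [hddef]
    exact Groth.Agent.H1.FibComp.upperSemicontinuous_dim_sectionComponent f g hg hirr'
  have hmono : ∀ {a b : Y}, a ⤳ b → d a ≤ d b := by
    intro a b hab
    by_contra hlt
    rw [not_le] at hlt
    have h1 : ∀ᶠ x' in 𝓝 b, d x' < d a := husc b (d a) hlt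
    have hab' : 𝓝 a ≤ 𝓝 b := hab
    have h2 : {x' : Y | d x' < d a} ∈ 𝓝 a := hab' h1
    have h3 : a ∈ {x' : Y | d x' < d a} := mem_of_mem_nhds h2
    have h4 : d a < d a := h3
    exact lt_irrefl _ h4
  -- the key inequality at all generizations
  have hkey : ∀ η : Y, η ⤳ y₀ → d y₀ ≤ d η := by
    intro η hη
    rcases hαβ with ⟨hα, hN⟩ | hβ
    · rw [hdz, hdz]
      exact (dim_eq_of_noetherian_stalk f g hg hirr y₀ hopen hα hN η hη).ge
    · -- the generic point of the component over `y₀`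
      obtain ⟨C₀, hC₀⟩ : ∃ C₀ : Set X,
          C₀ = connectedComponentIn (f.base ⁻¹' {y₀}) (g.base y₀) := ⟨_, rfl⟩
      have hgC₀ : g.base y₀ ∈ C₀ := by rw [hC₀]; exact mem_connectedComponentIn (hfg y₀)
      have hC₀F : C₀ ⊆ f.base ⁻¹' {y₀} := by rw [hC₀]; exact connectedComponentIn_subset _ _
      have hmaxC : ∀ Z' : Set X, IsIrreducible Z' → Z' ⊆ f.base ⁻¹' {y₀} → C₀ ⊆ Z' →
          Z' = C₀ := by
        intro Z' hZ' hZ'F hCZ'
        refine subset_antisymm ?_ hCZ'
        rw [hC₀]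
        exact hZ'.isConnected.isPreconnected.subset_connectedComponentIn (hCZ' hgC₀) hZ'F
      obtain ⟨ζ, hζC, hfζ, hCeq, -, -⟩ :=
        Groth.Agent.H1.FibComp.exists_generic_of_fibre_component f y₀ C₀ hC₀F
          (by rw [hC₀]; exact hirr' y₀) hmaxC
      have hC₀cl : C₀ ⊆ closure {ζ} := by
        intro x hx
        rw [hCeq] at hx
        exact hx.1
      rw [← hC₀] at hopen
      have hUOζ : EGA43.IsUnivOpenAt f ζ := hopen ζ hζC hC₀cl
      -- a maximal generization of `η`
      have hT := irreducibleComponent_mem_irreducibleComponents η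
      obtain ⟨η', hη'⟩ := QuasiSober.sober hT.1 (isClosed_of_mem_irreducibleComponents _ hT)
      have hη'd : closure ({η'} : Set Y) = irreducibleComponent η := hη'.def
      have hη'η : η' ⤳ η := by
        rw [specializes_iff_mem_closure, hη'd]; exact mem_irreducibleComponent
      have hη'y₀ : η' ⤳ y₀ := hη'η.trans hη
      have h1 := hβ η' (specializes_iff_mem_closure.mp hη'y₀) (by rw [hη'd]; exact hT)
      have h2 := dim_le_of_isUnivOpenAt f {ζ}
        (fun x hx => by rw [Set.mem_singleton_iff.mp hx]; exact hUOζ) y₀ η' hη'y₀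
      have h3 : f.base ⁻¹' {y₀} ∩ closure ({ζ} ∩ f.base ⁻¹' {y₀}) = C₀ := by
        have h4 : ({ζ} : Set X) ∩ f.base ⁻¹' {y₀} = {ζ} :=
          Set.inter_eq_left.mpr (Set.singleton_subset_iff.mpr hfζ)
        rw [h4, hCeq, Set.inter_comm]
      rw [h3] at h2
      rw [hdz y₀, ← hC₀]
      refine h2.trans ?_
      rw [← Groth.Agent.H1.ValDim.dim_fiber_eq_dim_preimage f η', h1, ← hdz η']
      exact hmono hη'η
  -- the neighbourhood
  obtain ⟨n, hn⟩ := Groth.Agent.H1.CMQF.exists_nat_fibreDimAt f (g.base y₀)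
  have hop : IsOpen {x : X | FlatMor.fibreDimAt f x ≤ (n : WithBot ℕ∞)} :=
    Groth.Agent.H1.Chev.isOpen_fibreDimAt_le f n
  have hop' := hop.preimage g.continuous
  have hE : {y : Y | (n : WithBot ℕ∞) ≤ FlatMor.fibreDimAt f (g.base y)} ∈ 𝓝 y₀ := by
    rcases Nat.eq_zero_or_pos n with h0 | hpos
    · have : {y : Y | (n : WithBot ℕ∞) ≤ FlatMor.fibreDimAt f (g.base y)} = Set.univ := by
        ext y
        simp only [Set.mem_ofPred_eq, Set.mem_univ, iff_true, h0, Nat.cast_zero]
        exact Groth.Agent.H1.FlatFibDim.fibreDimAt_nonneg f (g.base y)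
      rw [this]
      exact Filter.univ_mem
    · obtain ⟨m, rfl⟩ : ∃ m, n = m + 1 := ⟨n - 1, by omega⟩
      have hW : IsLocallyConstructible {x : X | FlatMor.fibreDimAt f x ≤ (m : WithBot ℕ∞)} :=
        (Groth.Agent.H1.FibDimFP.isRetrocompact_fibreDimAt_le f m).isLocallyConstructible
          (Groth.Agent.H1.Chev.isOpen_fibreDimAt_le f m)
      have hW' : IsLocallyConstructible
          (g.base ⁻¹' {x : X | FlatMor.fibreDimAt f x ≤ (m : WithBot ℕ∞)}) := by
        intro x
        obtain ⟨U, hxU, hU, hc⟩ := hW (g.base x)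
        let U' : X.Opens := ⟨U, hU⟩
        refine ⟨g.base ⁻¹' U, g.continuous.continuousAt.preimage_mem_nhds hxU,
          hU.preimage g.continuous, ?_⟩
        have h1 : IsConstructible ((g ∣_ U').base ⁻¹' (Subtype.val ⁻¹'
            {x : X | FlatMor.fibreDimAt f x ≤ (m : WithBot ℕ∞)} : Set ↥U')) :=
          (g ∣_ U').isConstructible_preimage hc
        have e : (Subtype.val ⁻¹' (g.base ⁻¹'
            {x : X | FlatMor.fibreDimAt f x ≤ (m : WithBot ℕ∞)}) : Set ↥(g ⁻¹ᵁ U')) =
            (g ∣_ U').base ⁻¹' (Subtype.val ⁻¹'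
              {x : X | FlatMor.fibreDimAt f x ≤ (m : WithBot ℕ∞)} : Set ↥U') := by
          ext y
          change FlatMor.fibreDimAt f (g.base y.1) ≤ _ ↔
            FlatMor.fibreDimAt f ((g ∣_ U').base y).1 ≤ _
          rw [morphismRestrict_base_coe]
        exact e ▸ h1
      have hEq : {y : Y | ((m + 1 : ℕ) : WithBot ℕ∞) ≤ FlatMor.fibreDimAt f (g.base y)} =
          (g.base ⁻¹' {x : X | FlatMor.fibreDimAt f x ≤ (m : WithBot ℕ∞)})ᶜ := by
        ext y
        obtain ⟨k, hk⟩ := Groth.Agent.H1.CMQF.exists_nat_fibreDimAt f (g.base y)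
        simp only [Set.mem_ofPred_eq, Set.mem_compl_iff, Set.mem_preimage]
        rw [hk]
        exact natCast_succ_le_iff m k
      rw [hEq]
      apply mem_nhds_of_forall_specializes (isLocallyConstructible_compl hW')
      intro η hη
      rw [← hEq]
      show ((m + 1 : ℕ) : WithBot ℕ∞) ≤ FlatMor.fibreDimAt f (g.base η)
      rw [← hn, ← hdfib y₀, ← hdfib η]
      exact hkey η hη
  refine ⟨{y : Y | (n : WithBot ℕ∞) ≤ FlatMor.fibreDimAt f (g.base y)} ∩
      g.base ⁻¹' {x : X | FlatMor.fibreDimAt f x ≤ (n : WithBot ℕ∞)},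
    Filter.inter_mem hE (hop'.mem_nhds
      (show y₀ ∈ g.base ⁻¹' {x : X | FlatMor.fibreDimAt f x ≤ (n : WithBot ℕ∞)} from hn.le)), ?_⟩
  rintro z ⟨hz1, hz2⟩
  rw [← hdz z, ← hdz y₀, hdfib z, hdfib y₀, hn]
  exact le_antisymm hz2 hz1

end Groth.Agent.H1.GIrr
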