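import Mathlib
import Groth.Prelude.Def_EGA43
import Groth.Agent.Lib.Helper1.UO14E
import Groth.Agent.Lib.Helper1.UOVal

/-!
# EGA IV 14.3.13 without Noetherian hypotheses (helper1)
-/

set_option autoImplicit false
set_option linter.style.haveILetI false
universe u

namespace Groth.Agent.H1.UO14

open AlgebraicGeometry CategoryTheory CategoryTheory.Limits TopologicalSpace Topology
open Groth.Agent.H1.DimFormula Groth.Agent.H3

variable {X Y : Scheme.{u}}

/-- **Lemma T**: a morphism to the spectrum of a domain which is open at `w` lifts the generic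
point to a generization of `w`. -/
theorem exists_generization_over_generic {A : Type u} [CommRing A] [IsDomain A] {W : Scheme.{u}}
    (fT : W ⟶ Spec (CommRingCat.of A)) (w : W) (hopen : EGA43.IsOpenAt fT.base w)
    (η : Spec (CommRingCat.of A)) (hη : ∀ t : Spec (CommRingCat.of A), η ⤳ t) :
    ∃ u : W, u ⤳ w ∧ fT u = η := by
  obtain ⟨_, ⟨U, hU, rfl⟩, hwU, -⟩ :=
    W.isBasis_affineOpens.exists_subset_of_mem_open (Set.mem_univ w) isOpen_univ
  set j := hU.fromSpec with hj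
  haveI : IsOpenImmersion j := hU.isOpenImmersion_fromSpec
  set θ : CommRingCat.of A ⟶ Γ(W, U) := Spec.preimage (j ≫ fT) with hθ
  have hθ' : Spec.map θ = j ≫ fT := Spec.map_preimage _
  set q₀ : Spec Γ(W, U) := hU.primeIdealOf ⟨w, hwU⟩ with hq₀
  have hjq₀ : j q₀ = w := hU.fromSpec_primeIdealOf ⟨w, hwU⟩
  haveI : q₀.asIdeal.IsPrime := q₀.isPrime
  have hηbot : η.asIdeal = ⊥ := by
    have h1 : η.asIdeal ≤ (⊥ : Ideal A) :=
      (PrimeSpectrum.le_iff_specializes η (⟨⊥, Ideal.isPrime_bot⟩ : PrimeSpectrum A)).mpr (hη _)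
    exact le_bot_iff.mp h1
  have hopen' : ∀ N ∈ nhds q₀, η ∈ (Spec.map θ) '' N := by
    intro N hN
    have h1 : j '' N ∈ nhds w := by
      rw [← hjq₀]; exact (j.isOpenEmbedding.image_mem_nhds).mpr hN
    have h2 := hopen _ h1
    have h3 : nhds η ≤ nhds (fT.base w) := hη _
    have h4 := mem_of_mem_nhds (h3 h2)
    obtain ⟨_, ⟨n, hn, rfl⟩, hn2⟩ := h4
    refine ⟨n, hn, ?_⟩
    rw [hθ']; exact hn2
  set M : Submonoid Γ(W, U) :=
    q₀.asIdeal.primeCompl ⊔ Submonoid.map θ.hom (nonZeroDivisors A) with hM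
  have h0 : (0 : Γ(W, U)) ∉ M := by
    intro h0
    obtain ⟨b, hb, c, hc, hbc⟩ := Submonoid.mem_sup.mp h0
    obtain ⟨a, ha, rfl⟩ := Submonoid.mem_map.mp hc
    have hN : (PrimeSpectrum.basicOpen b : Set (PrimeSpectrum Γ(W, U))) ∈ nhds q₀ :=
      (PrimeSpectrum.basicOpen b).isOpen.mem_nhds hb
    obtain ⟨q₁, hq₁, hq₁η⟩ := hopen' _ hN
    haveI : q₁.asIdeal.IsPrime := q₁.isPrime
    have h5 : b * θ.hom a ∈ q₁.asIdeal := by rw [hbc]; exact q₁.asIdeal.zero_mem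
    have h6 : θ.hom a ∈ q₁.asIdeal := (q₁.isPrime.mem_or_mem h5).resolve_left hq₁
    have h7 : a ∈ η.asIdeal := by
      rw [← hq₁η]; exact h6
    rw [hηbot] at h7
    exact nonZeroDivisors.ne_zero ha ((Ideal.mem_bot).mp h7)
  obtain ⟨q', hq'prime, -, hq'disj⟩ :=
    Ideal.exists_le_prime_disjoint (⊥ : Ideal Γ(W, U)) M (by
      rw [Set.disjoint_left]
      intro r hr hrM
      have : r = 0 := Ideal.mem_bot.mp hr
      exact h0 (this ▸ hrM))
  have hq'le : q' ≤ q₀.asIdeal := by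
    intro r hr
    by_contra hrq
    exact Set.disjoint_left.mp hq'disj hr (Submonoid.mem_sup_left hrq)
  have hq'comap : Ideal.comap θ.hom q' = ⊥ := by
    rw [eq_bot_iff]
    intro a ha
    by_contra ha0
    have ha' : a ∈ nonZeroDivisors A := mem_nonZeroDivisors_of_ne_zero ha0
    exact Set.disjoint_left.mp hq'disj ha
      (Submonoid.mem_sup_right (Submonoid.mem_map_of_mem _ ha'))
  refine ⟨j ⟨q', hq'prime⟩, ?_, ?_⟩
  · rw [← hjq₀]
    exact ((PrimeSpectrum.le_iff_specializes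
      (⟨q', hq'prime⟩ : PrimeSpectrum Γ(W, U)) q₀).mp hq'le).map j.continuous
  · have h8 : fT (j ⟨q', hq'prime⟩) = Spec.map θ ⟨q', hq'prime⟩ := by rw [hθ']; rfl
    rw [h8]
    apply PrimeSpectrum.ext
    show Ideal.comap θ.hom q' = η.asIdeal
    rw [hq'comap, hηbot]

/-- **Lemma F**: the closure of a Noetherian subspace is covered by the closures of finitely many
points, each the generic point of the closure of an irreducible subset of the subspace. -/
theorem exists_finite_generic {T : Type*} [TopologicalSpace T] [QuasiSober T] [T0Space T]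
    (Q : Set T) [NoetherianSpace ↥Q] :
    ∃ Ξ : Set T, Ξ.Finite ∧
      (∀ ξ ∈ Ξ, ∃ C : Set T, C ⊆ Q ∧ C.Nonempty ∧ IsGenericPoint ξ (closure C)) ∧
      ∀ z ∈ closure Q, ∃ ξ ∈ Ξ, ξ ⤳ z := by
  have hfin : (irreducibleComponents ↥Q).Finite := NoetherianSpace.finite_irreducibleComponents
  refine ⟨⋃ C ∈ irreducibleComponents ↥Q,
    {ξ | IsGenericPoint ξ (closure (Subtype.val '' C : Set T))}, ?_, ?_, ?_⟩
  · refine hfin.biUnion (fun C _ => Set.Subsingleton.finite ?_)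
    intro a ha b hb
    exact IsGenericPoint.eq ha hb
  · intro ξ hξ
    obtain ⟨C, hC, hξC⟩ := Set.mem_iUnion₂.mp hξ
    refine ⟨Subtype.val '' C, ?_, (hC.1.nonempty).image _, hξC⟩
    rintro _ ⟨q, -, rfl⟩
    exact q.2
  · intro z hz
    have h1 : Q = ⋃ C ∈ irreducibleComponents ↥Q, (Subtype.val '' C : Set T) := by
      ext x
      constructor
      · intro hx
        exact Set.mem_iUnion₂.mpr ⟨irreducibleComponent (⟨x, hx⟩ : ↥Q),
          irreducibleComponent_mem_irreducibleComponents _,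
          ⟨⟨x, hx⟩, mem_irreducibleComponent, rfl⟩⟩
      · intro hx
        obtain ⟨C, -, ⟨q, -, rfl⟩⟩ := Set.mem_iUnion₂.mp hx
        exact q.2
    have hz' : z ∈ closure (⋃ C ∈ irreducibleComponents ↥Q, (Subtype.val '' C : Set T)) := by
      rw [← h1]; exact hz
    rw [hfin.closure_biUnion] at hz'
    obtain ⟨C, hC, hzC⟩ := Set.mem_iUnion₂.mp hz'
    have hirr : IsIrreducible (Subtype.val '' C : Set T) :=
      (hC.1).image _ continuous_subtype_val.continuousOn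
    obtain ⟨ξ, hξ⟩ := QuasiSober.sober hirr.closure isClosed_closure
    exact ⟨ξ, Set.mem_iUnion₂.mpr ⟨C, hC, hξ⟩, hξ.specializes hzC⟩

theorem noetherianSpace_preimage_singleton' {U Y : Scheme.{u}} (g : U ⟶ Y)
    [LocallyOfFiniteType g] [CompactSpace U] (y : Y) : NoetherianSpace ↥(g ⁻¹' {y}) := by
  haveI : Subsingleton ↥(Spec (Y.residueField y)) :=
    inferInstanceAs (Subsingleton (PrimeSpectrum (Y.residueField y)))
  haveI : QuasiCompact (Y.fromSpecResidueField y) :=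
    ⟨fun V _ _ => (Set.subsingleton_of_subsingleton).isCompact⟩
  haveI : CompactSpace ↥(g.fiber y) :=
    inferInstanceAs (CompactSpace ↥(pullback g (Y.fromSpecResidueField y)))
  haveI : LocallyOfFiniteType (g.fiberToSpecResidueField y) :=
    Groth.Agent.H1.Chev.locallyOfFiniteType_fiberToSpecResidueField g _
  haveI : IsNoetherian (g.fiber y) :=
    { __ := LocallyOfFiniteType.isLocallyNoetherian (g.fiberToSpecResidueField y) }
  exact (noetherianSpace_iff_of_homeomorph (g.fiberHomeo y)).mp inferInstance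

theorem noetherianSpace_inter_preimage (f : X ⟶ Y) [LocallyOfFiniteType f] (U₁ : X.Opens)
    (hU₁ : IsCompact (U₁ : Set X)) (η : Y) :
    NoetherianSpace ↥((U₁ : Set X) ∩ f.base ⁻¹' {η}) := by
  haveI : CompactSpace ↥(U₁ : Scheme.{u}) := isCompact_iff_compactSpace.mp hU₁
  haveI := noetherianSpace_preimage_singleton' (U₁.ι ≫ f) η
  let φ : ↥((U₁ : Set X) ∩ f.base ⁻¹' {η}) → ↥((U₁.ι ≫ f) ⁻¹' {η}) :=
    fun q => ⟨⟨q.1, q.2.1⟩, q.2.2⟩
  have hφ : Continuous φ := (continuous_subtype_val.subtype_mk _).subtype_mk _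
  let ψ : ↥((U₁.ι ≫ f) ⁻¹' {η}) → X := fun u => u.1.1
  have hψ : Continuous ψ := continuous_subtype_val.comp continuous_subtype_val
  have hind : IsInducing φ := IsInducing.of_comp hφ hψ IsInducing.subtypeVal
  exact hind.noetherianSpace

/-- (b′ ⇒ ζ), without Noetherian hypotheses. -/
theorem exists_maxPt_of_dim_ge' (f : X ⟶ Y) [LocallyOfFiniteType f]
    (x : X) (d : ℕ) (η : Y) (hη : ∀ η' : Y, η' ⤳ η → η' = η)
    (h : ∀ U : X.Opens, x ∈ U →
      (d : WithBot ℕ∞) ≤ topologicalKrullDim ↥((U : Set X) ∩ f.base ⁻¹' {η})) :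
    ∃ ζ : X, (∀ z : X, z ⤳ ζ → z = ζ) ∧ ζ ⤳ x ∧ f.base ζ = η ∧
      (d : WithBot ℕ∞) ≤ FlatMor.fibreDimAt f ζ := by
  obtain ⟨_, ⟨U₁, hU₁, rfl⟩, hxU₁, -⟩ :=
    X.isBasis_affineOpens.exists_subset_of_mem_open (Set.mem_univ x) isOpen_univ
  haveI : NoetherianSpace ↥((U₁ : Set X) ∩ f.base ⁻¹' {η}) :=
    noetherianSpace_inter_preimage f U₁ hU₁.isCompact η
  obtain ⟨Ξ, hΞfin, hΞgen, hΞcov⟩ := exists_finite_generic ((U₁ : Set X) ∩ f.base ⁻¹' {η})
  have hBcl : IsClosed (⋃ ξ ∈ {ξ ∈ Ξ | ¬ ξ ⤳ x}, closure ({ξ} : Set X)) :=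
    (hΞfin.subset (Set.sep_subset _ _)).isClosed_biUnion (fun _ _ => isClosed_closure)
  have hxB : x ∉ ⋃ ξ ∈ {ξ ∈ Ξ | ¬ ξ ⤳ x}, closure ({ξ} : Set X) := by
    intro hx
    obtain ⟨ξ, ⟨-, hξx⟩, hxξ⟩ := Set.mem_iUnion₂.mp hx
    exact hξx (specializes_iff_mem_closure.mpr hxξ)
  obtain ⟨U₀, hU₀⟩ : ∃ U₀ : X.Opens, (U₀ : Set X) =
      (U₁ : Set X) ∩ (⋃ ξ ∈ {ξ ∈ Ξ | ¬ ξ ⤳ x}, closure ({ξ} : Set X))ᶜ :=
    ⟨⟨_, U₁.isOpen.inter hBcl.isOpen_compl⟩, rfl⟩
  have hmemU₀ : ∀ a : X, a ∈ U₀ ↔ a ∈ (U₁ : Set X) ∧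
      a ∉ ⋃ ξ ∈ {ξ ∈ Ξ | ¬ ξ ⤳ x}, closure ({ξ} : Set X) := by
    intro a
    have : a ∈ U₀ ↔ a ∈ (U₀ : Set X) := Iff.rfl
    rw [this, hU₀]; rfl
  have hxU₀ : x ∈ U₀ := (hmemU₀ x).mpr ⟨hxU₁, hxB⟩
  have hgen : ∀ ζ : X, ζ ∈ U₀ → f.base ζ = η →
      (∀ z' : X, f z' = f ζ → z' ⤳ ζ → z' = ζ) → ζ ⤳ x := by
    intro ζ hζU hfζ hζmax
    by_contra hns
    obtain ⟨hζU₁, hζB⟩ := (hmemU₀ ζ).mp hζU
    have hζQ : ζ ∈ (U₁ : Set X) ∩ f.base ⁻¹' {η} := ⟨hζU₁, hfζ⟩
    obtain ⟨ξ, hξΞ, hξζ⟩ := hΞcov ζ (subset_closure hζQ)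
    obtain ⟨C, hCQ, ⟨c, hc⟩, hgenξ⟩ := hΞgen ξ hξΞ
    have h4 : ξ ⤳ c := hgenξ.specializes (subset_closure hc)
    have h5 : f.base ξ ⤳ f.base c := h4.map f.continuous
    have h6 : f.base c = η := (hCQ hc).2
    rw [h6] at h5
    have h7 : f.base ξ = η := hη _ h5
    have h8 : ξ = ζ := hζmax ξ (h7.trans hfζ.symm) hξζ
    subst h8
    exact hζB (Set.mem_iUnion₂.mpr ⟨ξ, ⟨hξΞ, hns⟩, subset_closure rfl⟩)
  have h1 := h U₀ hxU₀
  rw [Groth.Agent.H3.TopDim.dim_eq_iSup_localDim] at h1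
  obtain ⟨⟨u, huU, huF⟩, hu⟩ := exists_le_of_le_iSup
    (fun p : ↥((U₀ : Set X) ∩ f.base ⁻¹' {η}) =>
      FlatMor.localDim ↥((U₀ : Set X) ∩ f.base ⁻¹' {η}) p) d h1
  have hu' : (d : WithBot ℕ∞) ≤
      FlatMor.localDim ↥((U₀ : Set X) ∩ f.base ⁻¹' {η}) ⟨u, ⟨huU, huF⟩⟩ := hu
  have h2 := localDim_open_inter U₀ (f.base ⁻¹' {η}) u huU huF
  rw [h2, ← fibreDimAt_eq_localDim_preimage f u η huF] at hu'
  obtain ⟨ζ, hζ1, hζu, hζmax, hζdim⟩ :=
    Groth.Agent.H1.FibGen.exists_fibre_generic_fibreDimAt_eq f u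
  have hfζ : f.base ζ = η := hζ1.trans huF
  have hmaxX : ∀ z : X, z ⤳ ζ → z = ζ := by
    intro z hz
    apply hζmax z _ hz
    have h3 : f.base z ⤳ f.base ζ := hz.map f.continuous
    rw [hfζ] at h3
    exact (hη _ h3).trans huF.symm
  refine ⟨ζ, hmaxX, ?_, hfζ, ?_⟩
  · exact hgen ζ (hζu.mem_open U₀.isOpen huU) hfζ
      (fun z' h1 h2 => hζmax z' (h1.trans hζ1) h2)
  · rw [hζdim]; exact hu'

/-- (b′ ⇒ b), without Noetherian hypotheses. -/
theorem exists_component_of_dim_ge' (f : X ⟶ Y) [LocallyOfFiniteType f]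
    (x z : X) (hfz : f.base z = f.base x) (hzx : z ⤳ x)
    (hmax : ∀ z' : X, f z' = f z → z' ⤳ z → z' = z)
    (hdim : FlatMor.fibreDimAt f z = FlatMor.fibreDimAt f x)
    (Y₀ : Set Y) (hY₀ : Y₀ ∈ irreducibleComponents (Y : Type u))
    (h : ∀ η : Y, closure ({η} : Set Y) = Y₀ → ∀ U : X.Opens, z ∈ U →
      FlatMor.fibreDimAt f z ≤ topologicalKrullDim ↥((U : Set X) ∩ f.base ⁻¹' {η})) :
    ∃ Z ∈ irreducibleComponents (X : Type u), ∃ hx : x ∈ Z, closure (f.base '' Z) = Y₀ ∧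
      ∀ η : Y, closure ({η} : Set Y) = Y₀ →
        FlatMor.localDim ↥(Z ∩ f.base ⁻¹' {f.base x}) ⟨x, ⟨hx, rfl⟩⟩ =
          topologicalKrullDim ↥(Z ∩ f.base ⁻¹' {η}) := by
  obtain ⟨η, hη⟩ := QuasiSober.sober hY₀.1 (isClosed_of_mem_irreducibleComponents _ hY₀)
  have hηd : closure ({η} : Set Y) = Y₀ := hη.def
  have hηcomp : closure ({η} : Set Y) ∈ irreducibleComponents (Y : Type u) := by
    rw [hηd]; exact hY₀
  have hηmax : ∀ η' : Y, η' ⤳ η → η' = η :=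
    Groth.Agent.H1.EquidimLoc.eq_of_specializes_of_closure_mem_irreducibleComponents η hηcomp
  obtain ⟨d, -, hd⟩ := fibreDimAt_eq_trdeg_of_generic f z hmax
  obtain ⟨ζ, hζmax, hζz, hfζ, hdle⟩ := exists_maxPt_of_dim_ge' f z d η hηmax
    (fun U hU => by rw [← hd]; exact h η hηd U hU)
  have hZ := Groth.Agent.H1.GenPts.closure_singleton_mem_irreducibleComponents ζ hζmax
  have hzZ : z ∈ closure ({ζ} : Set X) := specializes_iff_mem_closure.mp hζz
  have hxZ : x ∈ closure ({ζ} : Set X) := specializes_iff_mem_closure.mp (hζz.trans hzx)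
  refine ⟨closure {ζ}, hZ, hxZ, ?_, ?_⟩
  · rw [Groth.Agent.H1.EquidimQF.closure_image_closure_singleton f.base f.continuous ζ, hfζ]
    exact hηd
  · intro η' hη'
    have hηη : η' = η := IsGenericPoint.eq (show IsGenericPoint η' Y₀ from hη') hη
    subst hηη
    have h1 := localDim_inter_fibre_eq f x z hzx hfz hmax hdim (closure {ζ}) isClosed_closure
      hzZ hxZ
    have h2 : topologicalKrullDim ↥(closure ({ζ} : Set X) ∩ f.base ⁻¹' {η'}) =
        FlatMor.fibreDimAt f ζ :=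
      Groth.Agent.H1.GenComp.dim_closure_inter_fibre f ζ hζmax η' hfζ
    have h3 : FlatMor.fibreDimAt f ζ = FlatMor.fibreDimAt f x := by
      apply le_antisymm
      · exact Groth.Agent.H1.EquidimLoc.fibreDimAt_le_of_specializes f (hζz.trans hzx)
      · rw [← hdim, hd]; exact hdle
    exact h1.trans (h3.symm.trans h2.symm)

/-- a) ⇒ b′) -/
theorem s4933_part1 (f : X ⟶ Y) [LocallyOfFiniteType f] (x : X)
    (hmax : ∀ x' : X, f.base x' = f.base x → x ∈ closure {x'} → x' = x)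
    (hUO : EGA43.IsUnivOpenAt f x) (U : X.Opens) (hxU : x ∈ U) (y' : Y)
    (hy' : y' ⤳ f.base x) :
    FlatMor.fibreDimAt f x ≤ topologicalKrullDim ↥((U : Set X) ∩ f.base ⁻¹' {y'}) := by
  obtain ⟨A, _, _, _, h, t₀, η, hη, ht₀, hηy'⟩ :=
    Groth.Agent.H1.UOVal.exists_valuationRing_of_specializes hy'
  have sq := IsPullback.of_hasPullback f h
  obtain ⟨xT, hxT1, hxT2⟩ := Scheme.Pullback.exists_preimage_pullback (f := f) (g := h) x t₀
    ht₀.symm
  have e1 := Groth.Agent.H1.FibDimBC.fibreDimAt_eq_of_isPullback f h (pullback.fst f h)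
    (pullback.snd f h) sq xT
  rw [hxT1] at e1
  obtain ⟨zT, hzT1, hzT2, hzTmax, hzTdim⟩ :=
    Groth.Agent.H1.FibGen.exists_fibre_generic_fibreDimAt_eq (pullback.snd f h) xT
  have hpz : (pullback.fst f h) zT = x := by
    apply hmax
    · have hc := congrArg (fun ψ : pullback f h ⟶ Y => ψ zT)
        (pullback.condition (f := f) (g := h))
      have hc' : f ((pullback.fst f h) zT) = h ((pullback.snd f h) zT) := hc
      show f ((pullback.fst f h) zT) = f x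
      rw [hc', hzT1, hxT2, ht₀]
    · have := hzT2.map (pullback.fst f h).continuous
      rw [hxT1] at this
      exact specializes_iff_mem_closure.mp this
  have hopen : EGA43.IsOpenAt (pullback.snd f h).base zT := hUO _ h zT hpz
  obtain ⟨u', hu'z, hu'η⟩ :=
    exists_generization_over_generic (pullback.snd f h) zT hopen η hη
  have e2 := Groth.Agent.H1.ValDim.fibreDimAt_le_of_specializes_of_fibreMax (pullback.snd f h)
    hu'z (fun z' h1 h2 => hzTmax z' (h1.trans hzT1) h2)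
  have e3 := Groth.Agent.H1.FibDimBC.fibreDimAt_eq_of_isPullback f h (pullback.fst f h)
    (pullback.snd f h) sq u'
  have hu : (pullback.fst f h) u' ⤳ x := by
    have := hu'z.map (pullback.fst f h).continuous
    rw [hpz] at this
    exact this
  have huU : (pullback.fst f h) u' ∈ U := hu.mem_open U.isOpen hxU
  have hfu : f.base ((pullback.fst f h) u') = y' := by
    have hc := congrArg (fun ψ : pullback f h ⟶ Y => ψ u')
      (pullback.condition (f := f) (g := h))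
    have hc' : f ((pullback.fst f h) u') = h ((pullback.snd f h) u') := hc
    show f ((pullback.fst f h) u') = y'
    rw [hc', hu'η, hηy']
  calc FlatMor.fibreDimAt f x = FlatMor.fibreDimAt (pullback.snd f h) xT := e1.symm
    _ = FlatMor.fibreDimAt (pullback.snd f h) zT := hzTdim.symm
    _ ≤ FlatMor.fibreDimAt (pullback.snd f h) u' := e2
    _ = FlatMor.fibreDimAt f ((pullback.fst f h) u') := e3
    _ ≤ _ := fibreDimAt_le_dim_inter f _ y' hfu U huU

theorem s4933 (f : X ⟶ Y) [LocallyOfFiniteType f]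
    (x : X) (hmax : ∀ x' : X, f.base x' = f.base x → x ∈ closure {x'} → x' = x) :
    (EGA43.IsUnivOpenAt f x → (∀ U : X.Opens, x ∈ U → ∀ y' : Y, y' ⤳ f.base x →
        FlatMor.fibreDimAt f x ≤ topologicalKrullDim ↥((U : Set X) ∩ f.base ⁻¹' {y'}))) ∧
    ((∀ U : X.Opens, x ∈ U → ∀ y' : Y, y' ⤳ f.base x →
        FlatMor.fibreDimAt f x ≤ topologicalKrullDim ↥((U : Set X) ∩ f.base ⁻¹' {y'})) →
      (∀ Y₀ ∈ irreducibleComponents (Y : Type u), f.base x ∈ Y₀ →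
        ∃ Z ∈ irreducibleComponents (X : Type u), ∃ hx : x ∈ Z, closure (f.base '' Z) = Y₀ ∧
          ∀ η : Y, closure ({η} : Set Y) = Y₀ →
            FlatMor.fibreDimAt f x = FlatMor.localDim ↥(Z ∩ f.base ⁻¹' {f.base x}) ⟨x, ⟨hx, rfl⟩⟩ ∧
            FlatMor.localDim ↥(Z ∩ f.base ⁻¹' {f.base x}) ⟨x, ⟨hx, rfl⟩⟩ =
              topologicalKrullDim ↥(Z ∩ f.base ⁻¹' {η}))) := by
  have hmax' : ∀ z' : X, f z' = f x → z' ⤳ x → z' = x :=
    fun z' h1 h2 => hmax z' h1 (specializes_iff_mem_closure.mp h2)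
  refine ⟨fun hUO U hxU y' hy' => s4933_part1 f x hmax hUO U hxU y' hy', ?_⟩
  intro hb' Y₀ hY₀ hxY₀
  obtain ⟨Z, hZ, hx, hcl, hZη⟩ := exists_component_of_dim_ge' f x x rfl specializes_rfl hmax' rfl
    Y₀ hY₀ (fun η hη U hU => hb' U hU η (by
      rw [specializes_iff_mem_closure, hη]; exact hxY₀))
  refine ⟨Z, hZ, hx, hcl, fun η hη => ⟨?_, hZη η hη⟩⟩
  exact (localDim_inter_fibre_of_isMaxPt f x (f.base x) rfl hmax' Z
    (isClosed_of_mem_irreducibleComponents _ hZ) hx).symm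

end Groth.Agent.H1.UO14
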