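import Mathlib
import Groth.Agent.Lib.Helper1.EquidimLocB

/-!
# EGA IV 15.?: base change of the dominant component (helper1)
-/

set_option autoImplicit false
set_option linter.style.haveILetI false
universe u

namespace Groth.Agent.H1.IntBC

open AlgebraicGeometry CategoryTheory CategoryTheory.Limits TopologicalSpace Topology

theorem map_genericPoint_of_isDominant {Y Y₀ : Scheme.{u}} [IrreducibleSpace Y]
    [IrreducibleSpace Y₀] (g : Y ⟶ Y₀) [IsDominant g] :
    g.base (genericPoint Y) = genericPoint Y₀ := by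
  have h1 : closure (g.base '' closure ({genericPoint Y} : Set Y)) =
      closure (g.base '' {genericPoint Y}) := closure_image_closure g.continuous
  have hd : closure (Set.range g.base) = Set.univ := g.denseRange.closure_range
  rw [genericPoint_closure, Set.image_univ, hd, Set.image_singleton] at h1
  exact IsGenericPoint.eq (isGenericPoint_def.mpr h1.symm) (genericPoint_spec _)

theorem s4973 {X₀ Y₀ Y : Scheme.{u}} [IsIntegral Y₀] [IsIntegral Y]
    (g : Y ⟶ Y₀) [IsDominant g] (f₀ : X₀ ⟶ Y₀)
    (hirr : IsIrreducible (f₀.base ⁻¹' {genericPoint Y₀}))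
    (C : TopologicalSpace.Closeds X₀) (hC : (C : Set X₀) ∈ irreducibleComponents (X₀ : Type u))
    (hCη : ((C : Set X₀) ∩ f₀.base ⁻¹' {genericPoint Y₀}).Nonempty) [IsIntegral (pullback f₀ g)]
    (e₁ : ((Scheme.IdealSheafData.vanishingIdeal C).subschemeι ≫ f₀) ≫ 𝟙 Y₀ =
      (Scheme.IdealSheafData.vanishingIdeal C).subschemeι ≫ f₀) (e₂ : g ≫ 𝟙 Y₀ = 𝟙 Y ≫ g) :
    IsIso (pullback.map ((Scheme.IdealSheafData.vanishingIdeal C).subschemeι ≫ f₀) g f₀ g
      (Scheme.IdealSheafData.vanishingIdeal C).subschemeι (𝟙 Y) (𝟙 Y₀) e₁ e₂) := by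
  have hr : Set.range (Scheme.IdealSheafData.vanishingIdeal C).subschemeι.base = (C : Set X₀) :=
    (Scheme.IdealSheafData.range_subschemeι _).trans
      (Scheme.IdealSheafData.coe_support_vanishingIdeal _)
  generalize hι : (Scheme.IdealSheafData.vanishingIdeal C).subschemeι = ι at *
  haveI : IsClosedImmersion ι := by rw [← hι]; infer_instance
  generalize hj : pullback.map (ι ≫ f₀) g f₀ g ι (𝟙 Y) (𝟙 Y₀) e₁ e₂ = j
  have hj1 : j ≫ pullback.fst f₀ g = pullback.fst (ι ≫ f₀) g ≫ ι := by
    rw [← hj]; exact pullback.lift_fst _ _ _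
  have hj2 : j ≫ pullback.snd f₀ g = pullback.snd (ι ≫ f₀) g := by
    rw [← hj]
    exact (pullback.lift_snd _ _ _).trans (Category.comp_id _)
  have sqbig : IsPullback (pullback.fst (ι ≫ f₀) g) (j ≫ pullback.snd f₀ g) (ι ≫ f₀) g := by
    rw [hj2]; exact IsPullback.of_hasPullback _ _
  have sq : IsPullback (pullback.fst (ι ≫ f₀) g) j ι (pullback.fst f₀ g) :=
    IsPullback.of_bot sqbig hj1.symm (IsPullback.of_hasPullback f₀ g)
  haveI : IsClosedImmersion j :=
    MorphismProperty.of_isPullback (P := @IsClosedImmersion) sq inferInstance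
  -- the range of `j`
  have hrange : Set.range j.base = (pullback.fst f₀ g).base ⁻¹' (C : Set X₀) := by
    have h1 : sq.isoPullback.hom ≫ pullback.snd ι (pullback.fst f₀ g) = j :=
      IsPullback.isoPullback_hom_snd sq
    have h2 : Set.range j.base = Set.range (pullback.snd ι (pullback.fst f₀ g)).base := by
      rw [← h1]
      ext a
      constructor
      · rintro ⟨b, rfl⟩
        exact ⟨sq.isoPullback.hom.base b, rfl⟩
      · rintro ⟨b, rfl⟩
        obtain ⟨b', rfl⟩ := sq.isoPullback.hom.surjective b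
        exact ⟨b', rfl⟩
    rw [h2, ← hr]
    exact Scheme.Pullback.range_snd ι (pullback.fst f₀ g)
  -- the generic point of the product maps into `C`
  obtain ⟨c, hcC, hcF⟩ := hCη
  have hcF' : f₀.base c = genericPoint Y₀ := hcF
  have hgη : g.base (genericPoint Y) = genericPoint Y₀ := map_genericPoint_of_isDominant g
  obtain ⟨x, hx1, hx2⟩ := Scheme.Pullback.exists_preimage_pullback (f := f₀) (g := g) c
    (genericPoint Y) (hcF'.trans hgη.symm)
  have hqξ : (pullback.snd f₀ g).base (genericPoint ↥(pullback f₀ g)) = genericPoint Y := by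
    have h1 : genericPoint ↥(pullback f₀ g) ⤳ x := genericPoint_specializes x
    have h2 := h1.map (pullback.snd f₀ g).continuous
    have hx2' : (pullback.snd f₀ g).base x = genericPoint Y := hx2
    rw [hx2'] at h2
    exact ((genericPoint_specializes _).antisymm h2).eq.symm
  have hfpξ : f₀.base ((pullback.fst f₀ g).base (genericPoint ↥(pullback f₀ g))) =
      genericPoint Y₀ := by
    have hc := congrArg (fun ψ : pullback f₀ g ⟶ Y₀ => ψ.base (genericPoint ↥(pullback f₀ g)))
      (pullback.condition (f := f₀) (g := g))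
    have hc' : f₀.base ((pullback.fst f₀ g).base (genericPoint ↥(pullback f₀ g))) =
        g.base ((pullback.snd f₀ g).base (genericPoint ↥(pullback f₀ g))) := hc
    rw [hc', hqξ, hgη]
  -- the generic fibre lies in `C`
  have hFC : f₀.base ⁻¹' {genericPoint Y₀} ⊆ (C : Set X₀) := by
    obtain ⟨ζ, hζ⟩ := QuasiSober.sober hC.1 C.isClosed
    have hζc : ζ ⤳ c := hζ.specializes hcC
    have hfζ : f₀.base ζ = genericPoint Y₀ := by
      have h2 := hζc.map f₀.continuous
      rw [hcF'] at h2
      exact ((genericPoint_specializes _).antisymm h2).eq.symm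
    obtain ⟨φ, hφ⟩ := QuasiSober.sober hirr.closure isClosed_closure
    have hφζ : φ ⤳ ζ := hφ.specializes (subset_closure hfζ)
    have hζmax : φ = ζ :=
      Groth.Agent.H1.EquidimLoc.eq_of_specializes_of_closure_mem_irreducibleComponents ζ
        (by rw [hζ.def]; exact hC) φ hφζ
    intro a ha
    have h3 : a ∈ closure (f₀.base ⁻¹' {genericPoint Y₀}) := subset_closure ha
    rw [← hφ.def, hζmax, hζ.def] at h3
    exact h3
  have hξC : genericPoint ↥(pullback f₀ g) ∈ (pullback.fst f₀ g).base ⁻¹' (C : Set X₀) :=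
    hFC hfpξ
  haveI : Surjective j := by
    refine ⟨fun a => ?_⟩
    have hcl : IsClosed ((pullback.fst f₀ g).base ⁻¹' (C : Set X₀)) :=
      C.isClosed.preimage (pullback.fst f₀ g).continuous
    have h1 : closure ({genericPoint ↥(pullback f₀ g)} : Set ↥(pullback f₀ g)) ⊆
        (pullback.fst f₀ g).base ⁻¹' (C : Set X₀) :=
      closure_minimal (Set.singleton_subset_iff.mpr hξC) hcl
    rw [genericPoint_closure] at h1
    have h2 : a ∈ Set.range j.base := by rw [hrange]; exact h1 (Set.mem_univ a)
    exact h2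
  exact isIso_of_isClosedImmersion_of_surjective j

end Groth.Agent.H1.IntBC
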