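import Mathlib

set_option autoImplicit false
set_option linter.style.haveILetI false

/-! Going down at a quasi-finite prime over an integrally closed domain. -/

namespace Groth.Agent.H1.QFGD

open TensorProduct

/-- Going down at a quasi-finite prime over an integrally closed domain (domain case):
Zariski's main theorem reduces this to the integral case. -/
theorem exists_prime_le_of_domain {N B : Type*} [CommRing N] [IsDomain N] [IsIntegrallyClosed N]
    [CommRing B] [IsDomain B] [Algebra N B] [FaithfulSMul N B] [Algebra.FiniteType N B]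
    (q : Ideal B) [q.IsPrime] [Algebra.QuasiFiniteAt N q]
    (P' : Ideal N) [P'.IsPrime] (hP' : P' ≤ q.under N) :
    ∃ q' : Ideal B, q'.IsPrime ∧ q' ≤ q ∧ q'.under N = P' := by
  obtain ⟨r, hrq, hr, hpow⟩ := Algebra.zariskisMainProperty_iff.mp
    (Algebra.ZariskisMainProperty.of_finiteType (R := N) q)
  let C : Subalgebra N B := integralClosure N B
  haveI : FaithfulSMul N C := (faithfulSMul_iff_algebraMap_injective N C).mpr (by
    intro a b hab
    apply FaithfulSMul.algebraMap_injective N B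
    exact congrArg (fun c : C => (c : B)) hab)
  let Q : Ideal C := q.under C
  haveI : Q.IsPrime := inferInstance
  haveI : Q.LiesOver (q.under N) := ⟨(Ideal.under_under (A := N) (B := C) q).symm⟩
  obtain ⟨Q', hQ'Q, hQ'prime, hQ'over⟩ :=
    Ideal.exists_ideal_le_liesOver_of_le (p := P') (q := q.under N) Q hP'
  let rC : C := ⟨r, hr⟩
  have hrQ' : rC ∉ Q' := fun h => hrq (by
    have h1 : rC ∈ Q := hQ'Q h
    exact h1)
  let q' : Ideal B :=
    { carrier := {b | ∃ m : ℕ, ∃ c : C, (c : B) = r ^ m * b ∧ c ∈ Q'}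
      zero_mem' := ⟨0, 0, by simp, Q'.zero_mem⟩
      add_mem' := by
        rintro a b ⟨m, c, hc, hcQ⟩ ⟨n, d, hd, hdQ⟩
        refine ⟨m + n, rC ^ n * c + rC ^ m * d, ?_,
          Q'.add_mem (Q'.mul_mem_left _ hcQ) (Q'.mul_mem_left _ hdQ)⟩
        have h1 : ((rC ^ n * c + rC ^ m * d : C) : B) = r ^ n * (c : B) + r ^ m * (d : B) := by
          push_cast; rfl
        rw [h1, hc, hd]; ring
      smul_mem' := by
        rintro s b ⟨m, c, hc, hcQ⟩
        obtain ⟨k, hk⟩ := hpow s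
        refine ⟨k + m, (⟨r ^ k * s, hk⟩ : C) * c, ?_, Q'.mul_mem_left _ hcQ⟩
        have h1 : (((⟨r ^ k * s, hk⟩ : C) * c : C) : B) = (r ^ k * s) * (c : B) := rfl
        rw [h1, hc, smul_eq_mul]; ring }
  have hmem : ∀ b : B, b ∈ q' ↔ ∃ m : ℕ, ∃ c : C, (c : B) = r ^ m * b ∧ c ∈ Q' :=
    fun b => Iff.rfl
  have hq'prime : q'.IsPrime := by
    rw [Ideal.isPrime_iff]
    refine ⟨?_, ?_⟩
    · intro htop
      have h1 : (1 : B) ∈ q' := (Ideal.eq_top_iff_one q').mp htop
      obtain ⟨m, c, hc, hcQ⟩ := (hmem 1).mp h1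
      have h2 : c = rC ^ m := Subtype.ext (by rw [hc, mul_one]; push_cast; rfl)
      rw [h2] at hcQ
      exact hrQ' (hQ'prime.mem_of_pow_mem m hcQ)
    · intro a b hab
      obtain ⟨m, c, hc, hcQ⟩ := (hmem _).mp hab
      obtain ⟨k, hk⟩ := hpow a
      obtain ⟨l, hl⟩ := hpow b
      have h2 : (⟨r ^ k * a, hk⟩ : C) * ⟨r ^ l * b, hl⟩ * rC ^ m = rC ^ (k + l) * c := by
        apply Subtype.ext
        have h3 : (((⟨r ^ k * a, hk⟩ : C) * ⟨r ^ l * b, hl⟩ * rC ^ m : C) : B) =
            (r ^ k * a) * (r ^ l * b) * r ^ m := by push_cast; rfl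
        have h4 : ((rC ^ (k + l) * c : C) : B) = r ^ (k + l) * (c : B) := by push_cast; rfl
        rw [h3, h4, hc]; ring
      have h3 : (⟨r ^ k * a, hk⟩ : C) * ⟨r ^ l * b, hl⟩ * rC ^ m ∈ Q' := by
        rw [h2]; exact Q'.mul_mem_left _ hcQ
      rcases hQ'prime.mem_or_mem h3 with h4 | h4
      · rcases hQ'prime.mem_or_mem h4 with h5 | h5
        · left; exact (hmem a).mpr ⟨k, _, rfl, h5⟩
        · right; exact (hmem b).mpr ⟨l, _, rfl, h5⟩
      · exact absurd (hQ'prime.mem_of_pow_mem m h4) hrQ'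
  refine ⟨q', hq'prime, ?_, ?_⟩
  · intro b hb
    obtain ⟨m, c, hc, hcQ⟩ := (hmem b).mp hb
    have h1 : c ∈ Q := hQ'Q hcQ
    have h2 : (c : B) ∈ q := h1
    rw [hc] at h2
    rcases Ideal.IsPrime.mem_or_mem inferInstance h2 with h3 | h3
    · exact absurd (Ideal.IsPrime.mem_of_pow_mem inferInstance m h3) hrq
    · exact h3
  · ext a
    rw [Ideal.under_def, Ideal.mem_comap, hmem]
    constructor
    · rintro ⟨m, c, hc, hcQ⟩
      have h1 : c = rC ^ m * algebraMap N C a := Subtype.ext (by rw [hc]; push_cast; rfl)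
      rw [h1] at hcQ
      rcases hQ'prime.mem_or_mem hcQ with h2 | h2
      · exact absurd (hQ'prime.mem_of_pow_mem m h2) hrQ'
      · rw [hQ'over.over]; exact h2
    · intro ha
      rw [hQ'over.over] at ha
      exact ⟨0, algebraMap N C a, by simp, ha⟩

/-- Going down at a quasi-finite prime along a base change to an integrally closed domain `N`:
`W` is a domain receiving compatible maps from `N` (injective) and `S`. -/
theorem exists_prime_le_of_tensor {R S N W : Type*} [CommRing R] [CommRing S] [Algebra R S]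
    [Algebra.FiniteType R S] (q : Ideal S) [q.IsPrime] [Algebra.QuasiFiniteAt R q]
    [CommRing N] [IsDomain N] [IsIntegrallyClosed N] [Algebra R N]
    [CommRing W] [IsDomain W] [Algebra R W] (α : N →ₐ[R] W) (σ : S →ₐ[R] W)
    (hα : Function.Injective α) (𝔪 : Ideal W) [𝔪.IsPrime] (hσ : 𝔪.comap σ.toRingHom = q)
    (P' : Ideal N) [P'.IsPrime] (hP' : P' ≤ 𝔪.comap α.toRingHom) :
    ∃ q' : Ideal S, q'.IsPrime ∧ q' ≤ q ∧ q'.under R = P'.under R := by
  let β : N ⊗[R] S →ₐ[R] W := Algebra.TensorProduct.productMap α σ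
  let I : Ideal (N ⊗[R] S) := RingHom.ker β.toRingHom
  haveI : I.IsPrime := RingHom.ker_isPrime β.toRingHom
  let mk : N ⊗[R] S →+* (N ⊗[R] S) ⧸ I := Ideal.Quotient.mk I
  let βbar : (N ⊗[R] S) ⧸ I →+* W := RingHom.kerLift β.toRingHom
  have hβbar : ∀ t : N ⊗[R] S, βbar (mk t) = β t := fun t => RingHom.kerLift_mk β.toRingHom t
  have hβN : ∀ a : N, βbar (algebraMap N ((N ⊗[R] S) ⧸ I) a) = α a := by
    intro a
    have h1 : algebraMap N ((N ⊗[R] S) ⧸ I) a = mk (a ⊗ₜ[R] (1 : S)) := rfl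
    rw [h1, hβbar]
    exact Algebra.TensorProduct.productMap_left_apply α σ a
  have hβS : ∀ s : S, βbar (mk ((1 : N) ⊗ₜ[R] s)) = σ s := by
    intro s
    rw [hβbar]
    exact Algebra.TensorProduct.productMap_right_apply α σ s
  haveI : IsDomain ((N ⊗[R] S) ⧸ I) := Ideal.Quotient.isDomain I
  haveI : FaithfulSMul N ((N ⊗[R] S) ⧸ I) :=
    (faithfulSMul_iff_algebraMap_injective N _).mpr (by
      intro a b hab
      apply hα
      rw [← hβN, ← hβN, hab])
  haveI : Algebra.FiniteType N ((N ⊗[R] S) ⧸ I) :=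
    Algebra.FiniteType.of_surjective (Ideal.Quotient.mkₐ N I) (Ideal.Quotient.mkₐ_surjective N I)
  let qB : Ideal (N ⊗[R] S) := 𝔪.comap β.toRingHom
  haveI : qB.IsPrime := Ideal.comap_isPrime _ _
  have hqB : q = qB.comap
      (Algebra.TensorProduct.includeRight : S →ₐ[R] N ⊗[R] S).toRingHom := by
    ext s
    rw [← hσ]
    show σ s ∈ 𝔪 ↔ β ((1 : N) ⊗ₜ[R] s) ∈ 𝔪
    rw [Algebra.TensorProduct.productMap_right_apply]
  haveI : Algebra.QuasiFiniteAt N qB := Algebra.QuasiFiniteAt.baseChange (R := R) q qB hqB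
  let qbar : Ideal ((N ⊗[R] S) ⧸ I) := 𝔪.comap βbar
  haveI : qbar.IsPrime := Ideal.comap_isPrime _ _
  have hqbar : qB = qbar.comap (Ideal.Quotient.mkₐ N I).toRingHom := by
    ext t
    show β t ∈ 𝔪 ↔ βbar (mk t) ∈ 𝔪
    rw [hβbar]
  haveI : Algebra.QuasiFiniteAt N qbar :=
    Algebra.QuasiFiniteAt.of_surjectiveOnStalks qB (Ideal.Quotient.mkₐ N I)
      (RingHom.surjectiveOnStalks_of_surjective (Ideal.Quotient.mkₐ_surjective N I)) qbar hqbar
  have hP'' : P' ≤ qbar.under N := by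
    intro a ha
    have h1 : α a ∈ 𝔪 := hP' ha
    show βbar (algebraMap N ((N ⊗[R] S) ⧸ I) a) ∈ 𝔪
    rw [hβN]; exact h1
  obtain ⟨qbar', hprime, hle, hunder⟩ := exists_prime_le_of_domain qbar P' hP''
  let ιS : S →+* (N ⊗[R] S) ⧸ I :=
    mk.comp (Algebra.TensorProduct.includeRight : S →ₐ[R] N ⊗[R] S).toRingHom
  have hιS : ∀ s : S, ιS s = mk ((1 : N) ⊗ₜ[R] s) := fun s => rfl
  refine ⟨qbar'.comap ιS, Ideal.comap_isPrime _ _, ?_, ?_⟩
  · intro s hs
    have h1 : ιS s ∈ qbar := hle hs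
    have h2 : βbar (ιS s) ∈ 𝔪 := h1
    rw [hιS, hβS] at h2
    rw [← hσ]; exact h2
  · ext r
    rw [Ideal.under_def, Ideal.under_def, Ideal.mem_comap, Ideal.mem_comap, Ideal.mem_comap,
      ← hunder, Ideal.under_def, Ideal.mem_comap]
    have h1 : ιS (algebraMap R S r) =
        algebraMap N ((N ⊗[R] S) ⧸ I) (algebraMap R N r) := by
      have h2 : algebraMap N ((N ⊗[R] S) ⧸ I) (algebraMap R N r) =
          mk ((algebraMap R N r) ⊗ₜ[R] (1 : S)) := rfl
      rw [hιS, h2]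
      congr 1
      rw [Algebra.algebraMap_eq_smul_one, Algebra.algebraMap_eq_smul_one,
        TensorProduct.tmul_smul, TensorProduct.smul_tmul']
    rw [h1]

end Groth.Agent.H1.QFGD
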