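import Mathlib
import Groth.Prelude.Def_CAlg2
import Groth.Agent.Lib.Helper1.QFGD

set_option autoImplicit false
set_option linter.style.haveILetI false

/-! Going down at a quasi-finite prime over a unibranch local ring. -/

universe u

namespace Groth.Agent.H1.UniGD

set_option maxHeartbeats 800000 in
theorem goingDown_of_isUnibranch {R S O : Type u} [CommRing R] [CommRing S] [Algebra R S]
    [Algebra.FiniteType R S] (q : Ideal S) [q.IsPrime] [Algebra.QuasiFiniteAt R q]
    (q₀ : Ideal S) [q₀.IsPrime] (hq₀q : q₀ ≤ q) (hq₀R : q₀.under R ≤ nilradical R)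
    [CommRing O] [IsLocalRing O] [Algebra R O] [IsLocalization.AtPrime O (q.under R)]
    (hO : CAlg2.IsUnibranch O) (p' : Ideal R) [p'.IsPrime] (hp' : p' ≤ q.under R) :
    ∃ q' : Ideal S, q'.IsPrime ∧ q' ≤ q ∧ q'.under R = p' := by
  classical
  -- the field `L = Frac (S / q₀)`
  let L := FractionRing (S ⧸ q₀)
  let σL : S →+* L := (algebraMap (S ⧸ q₀) L).comp (Ideal.Quotient.mk q₀)
  have hσL : ∀ s : S, σL s = 0 ↔ s ∈ q₀ := by
    intro s
    show algebraMap (S ⧸ q₀) L (Ideal.Quotient.mk q₀ s) = 0 ↔ _
    rw [map_eq_zero_iff _ (IsFractionRing.injective (S ⧸ q₀) L), Ideal.Quotient.eq_zero_iff_mem]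
  have hunit : ∀ s : q.primeCompl, IsUnit (σL s) := by
    intro s
    rw [isUnit_iff_ne_zero, Ne, hσL]
    exact fun h => s.2 (hq₀q h)
  let φq : Localization.AtPrime q →+* L := IsLocalization.lift (M := q.primeCompl) hunit
  have hφq : ∀ s : S, φq (algebraMap S (Localization.AtPrime q) s) = σL s :=
    fun s => IsLocalization.lift_eq hunit s
  obtain ⟨W, hW, hloc⟩ := IsLocalRing.exists_factor_valuationRing φq
  let φW : Localization.AtPrime q →+* W := φq.codRestrict W.toSubring hW
  let σ : S →+* W := φW.comp (algebraMap S (Localization.AtPrime q))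
  have hσcoe : ∀ s : S, ((σ s : W) : L) = σL s := fun s => hφq s
  let 𝔪 : Ideal W := IsLocalRing.maximalIdeal W
  haveI h𝔪 : 𝔪.IsPrime := (IsLocalRing.maximalIdeal.isMaximal W).isPrime
  have hσ𝔪 : 𝔪.comap σ = q := by
    have h1 : 𝔪.comap φW = IsLocalRing.maximalIdeal (Localization.AtPrime q) :=
      ((IsLocalRing.local_hom_TFAE φW).out 0 4).mp hloc
    show 𝔪.comap (φW.comp (algebraMap S (Localization.AtPrime q))) = q
    rw [← Ideal.comap_comap, h1]
    exact IsLocalization.AtPrime.under_maximalIdeal (Localization.AtPrime q) q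
  -- `O → S_q → W`
  set p := q.under R with hp
  have hle : p.primeCompl ≤ q.primeCompl.comap (algebraMap R S) := by
    intro r hr
    exact fun h => hr (by rw [hp]; exact h)
  let ψ : O →+* Localization.AtPrime q :=
    IsLocalization.map (Localization.AtPrime q) (algebraMap R S) hle
  have hψ : ∀ r : R, ψ (algebraMap R O r) =
      algebraMap S (Localization.AtPrime q) (algebraMap R S r) :=
    fun r => IsLocalization.map_eq hle r
  let θ : O →+* W := φW.comp ψ
  have hθR : ∀ r : R, θ (algebraMap R O r) = σ (algebraMap R S r) := by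
    intro r
    show φW (ψ (algebraMap R O r)) = φW (algebraMap S _ (algebraMap R S r))
    rw [hψ]
  -- `D = O_red`, `K = Frac D`, `Nt` the normalisation
  haveI hD : IsDomain (CAlg2.red O) := hO.1
  haveI hNloc : IsLocalRing (CAlg2.normRed O) := hO.2
  have hθnil : ∀ a ∈ nilradical O, θ a = 0 := by
    intro a ha
    exact (IsNilpotent.map (mem_nilradical.mp ha) θ).eq_zero
  let θD : CAlg2.red O →+* W := Ideal.Quotient.lift (nilradical O) θ hθnil
  have hθD : ∀ a : O, θD (Ideal.Quotient.mk (nilradical O) a) = θ a :=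
    fun a => Ideal.Quotient.lift_mk _ _ _
  have hθDinj : Function.Injective θD := by
    rw [injective_iff_map_eq_zero]
    intro d hd
    obtain ⟨a, rfl⟩ := Ideal.Quotient.mk_surjective d
    rw [hθD] at hd
    rw [Ideal.Quotient.eq_zero_iff_mem, mem_nilradical]
    obtain ⟨r, s, hrs⟩ := IsLocalization.exists_mk'_eq p.primeCompl a
    have h0 : a * algebraMap R O s = algebraMap R O r := by
      rw [← hrs]; exact IsLocalization.mk'_spec _ _ _
    have h1 : σ (algebraMap R S r) = 0 := by
      rw [← hθR, ← h0, map_mul, hd, zero_mul]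
    have h2 : algebraMap R S r ∈ q₀ := by
      rw [← hσL, ← hσcoe, h1]; rfl
    have h3 : r ∈ nilradical R := hq₀R h2
    obtain ⟨n, hn⟩ := mem_nilradical.mp h3
    refine ⟨n, ?_⟩
    rw [← hrs, ← IsLocalization.mk'_pow, hn]
    exact IsLocalization.mk'_zero _
  let θL : CAlg2.red O →+* L := (algebraMap W L).comp θD
  have hθLinj : Function.Injective θL := (IsFractionRing.injective W L).comp hθDinj
  let θK : FractionRing (CAlg2.red O) →+* L := IsFractionRing.lift hθLinj
  have hθK : ∀ d : CAlg2.red O,
      θK (algebraMap (CAlg2.red O) (FractionRing (CAlg2.red O)) d) = θL d :=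
    fun d => IsFractionRing.lift_algebraMap hθLinj d
  have hαmem : ∀ z : CAlg2.normRed O,
      (θK.comp (algebraMap (CAlg2.normRed O) (FractionRing (CAlg2.red O)))) z ∈ W.toSubring := by
    intro z
    have hz : IsIntegral (CAlg2.red O) (z : FractionRing (CAlg2.red O)) := z.2
    have h1 : IsIntegral W (θK (z : FractionRing (CAlg2.red O))) :=
      hz.map_of_comp_eq θD θK (by ext d; exact (hθK d).symm)
    obtain ⟨w, hw⟩ := IsIntegrallyClosed.isIntegral_iff.mp h1
    show θK (z : FractionRing (CAlg2.red O)) ∈ W.toSubring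
    rw [← hw]; exact w.2
  let α : CAlg2.normRed O →+* W :=
    (θK.comp (algebraMap (CAlg2.normRed O) (FractionRing (CAlg2.red O)))).codRestrict
      W.toSubring hαmem
  have hαL : ∀ z : CAlg2.normRed O,
      ((α z : W) : L) = θK (z : FractionRing (CAlg2.red O)) := fun z => rfl
  have hαinj : Function.Injective α := by
    intro z z' h
    have h1 : θK (z : FractionRing (CAlg2.red O)) = θK (z' : FractionRing (CAlg2.red O)) := by
      rw [← hαL, ← hαL, h]
    exact Subtype.ext (θK.injective h1)
  -- algebra structures over `R`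
  let ρ : R →+* CAlg2.normRed O :=
    (algebraMap (CAlg2.red O) (CAlg2.normRed O)).comp
      ((Ideal.Quotient.mk (nilradical O)).comp (algebraMap R O))
  letI algN : Algebra R (CAlg2.normRed O) := ρ.toAlgebra
  letI algW : Algebra R W := (σ.comp (algebraMap R S)).toAlgebra
  have hcompat : ∀ r : R, α (ρ r) = σ (algebraMap R S r) := by
    intro r
    apply Subtype.ext
    rw [hαL]
    show θK (algebraMap (CAlg2.red O) (FractionRing (CAlg2.red O))
      (Ideal.Quotient.mk (nilradical O) (algebraMap R O r))) = _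
    rw [hθK]
    show ((θD (Ideal.Quotient.mk (nilradical O) (algebraMap R O r)) : W) : L) = _
    rw [hθD, hθR]
  let αA : CAlg2.normRed O →ₐ[R] W := { α with commutes' := hcompat }
  let σA : S →ₐ[R] W := { σ with commutes' := fun r => rfl }
  haveI : IsIntegrallyClosed (CAlg2.normRed O) :=
    integralClosure.isIntegrallyClosedOfFiniteExtension (FractionRing (CAlg2.red O))
  -- a prime of `Nt` over `p'`
  have hdisj : Disjoint (p.primeCompl : Set R) (p' : Set R) := by
    rw [Set.disjoint_left]
    intro r hr hr'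
    exact hr (hp' hr')
  let PO : Ideal O := p'.map (algebraMap R O)
  haveI hPO : PO.IsPrime :=
    IsLocalization.isPrime_of_isPrime_disjoint p.primeCompl O p' inferInstance hdisj
  have hPOc : PO.under R = p' :=
    IsLocalization.under_map_of_isPrime_disjoint p.primeCompl O inferInstance hdisj
  have hkerPO : RingHom.ker (Ideal.Quotient.mk (nilradical O)) ≤ PO := by
    rw [Ideal.mk_ker]; exact nilradical_le_prime PO
  let PD : Ideal (CAlg2.red O) := PO.map (Ideal.Quotient.mk (nilradical O))
  haveI hPD : PD.IsPrime := Ideal.map_isPrime_of_surjective Ideal.Quotient.mk_surjective hkerPO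
  have hPDc : PD.comap (Ideal.Quotient.mk (nilradical O)) = PO := by
    rw [Ideal.comap_map_of_surjective _ Ideal.Quotient.mk_surjective, ← RingHom.ker_eq_comap_bot]
    exact sup_eq_left.mpr hkerPO
  have hinjDN : Function.Injective (algebraMap (CAlg2.red O) (CAlg2.normRed O)) := by
    intro a b hab
    apply IsFractionRing.injective (CAlg2.red O) (FractionRing (CAlg2.red O))
    exact congrArg (fun c : CAlg2.normRed O => (c : FractionRing (CAlg2.red O))) hab
  obtain ⟨PN, hPNprime, hPNc⟩ := Ideal.exists_ideal_over_prime_of_isIntegral_of_isDomain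
    (S := CAlg2.normRed O) PD
    (by rw [(RingHom.injective_iff_ker_eq_bot _).mp hinjDN]; exact bot_le)
  haveI := hPNprime
  have hPNR : PN.under R = p' := by
    show PN.comap ((algebraMap (CAlg2.red O) (CAlg2.normRed O)).comp
      ((Ideal.Quotient.mk (nilradical O)).comp (algebraMap R O))) = p'
    rw [← Ideal.comap_comap, ← Ideal.comap_comap, hPNc, hPDc]
    exact hPOc
  -- the contraction of `𝔪` to `Nt` is the maximal ideal
  have hm' : 𝔪.comap α = IsLocalRing.maximalIdeal (CAlg2.normRed O) := by
    haveI : (𝔪.comap α).IsPrime := Ideal.comap_isPrime _ _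
    apply IsLocalRing.eq_maximalIdeal
    apply Ideal.isMaximal_of_isIntegral_of_isMaximal_comap (R := CAlg2.red O)
    have h1 : (𝔪.comap α).comap (algebraMap (CAlg2.red O) (CAlg2.normRed O)) = 𝔪.comap θD := by
      rw [Ideal.comap_comap]
      congr 1
      refine RingHom.ext fun d => Subtype.ext ?_
      show ((α (algebraMap (CAlg2.red O) (CAlg2.normRed O) d) : W) : L) = ((θD d : W) : L)
      rw [hαL]
      exact hθK d
    rw [h1]
    have h2 : (𝔪.comap θD).comap (Ideal.Quotient.mk (nilradical O)) =
        IsLocalRing.maximalIdeal O := by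
      rw [Ideal.comap_comap]
      have h3 : θD.comp (Ideal.Quotient.mk (nilradical O)) = θ := RingHom.ext fun a => hθD a
      rw [h3]
      have h4 : (𝔪.comap θ).under R = p := by
        have h5 : θ.comp (algebraMap R O) = σ.comp (algebraMap R S) := RingHom.ext fun r => hθR r
        calc (𝔪.comap θ).under R = 𝔪.comap (θ.comp (algebraMap R O)) := Ideal.comap_comap _ _
          _ = 𝔪.comap (σ.comp (algebraMap R S)) := by rw [h5]
          _ = (𝔪.comap σ).comap (algebraMap R S) := (Ideal.comap_comap _ _).symm
          _ = p := by rw [hσ𝔪, hp, Ideal.under_def]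
      have e1 := IsLocalization.map_under p.primeCompl O (𝔪.comap θ)
      have e2 := IsLocalization.map_under p.primeCompl O (IsLocalRing.maximalIdeal O)
      have e3 : (IsLocalRing.maximalIdeal O).under R = p :=
        IsLocalization.AtPrime.under_maximalIdeal O p
      rw [← e1, ← e2, h4, e3]
    rw [← Ideal.map_comap_of_surjective (Ideal.Quotient.mk (nilradical O))
      Ideal.Quotient.mk_surjective (𝔪.comap θD), h2]
    exact Ideal.IsMaximal.map_of_surjective_of_ker_le Ideal.Quotient.mk_surjective
      (by rw [Ideal.mk_ker]; exact nilradical_le_prime _)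
  have hPNle : PN ≤ 𝔪.comap αA.toRingHom := by
    show PN ≤ 𝔪.comap α
    rw [hm']
    exact IsLocalRing.le_maximalIdeal hPNprime.ne_top
  obtain ⟨q', h1, h2, h3⟩ :=
    Groth.Agent.H1.QFGD.exists_prime_le_of_tensor q αA σA hαinj 𝔪 hσ𝔪 PN hPNle
  exact ⟨q', h1, h2, h3.trans hPNR⟩

end Groth.Agent.H1.UniGD
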