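import Mathlib
import Groth.Prelude.Def_EGA43
import Groth.Prelude.Def_CAlg2
import Groth.Agent.Lib.Helper1.UniGD
import Groth.Agent.Lib.Helper1.DVRCrit
import Groth.Agent.Lib.Helper1.DimLocC
import Groth.Agent.Lib.Helper1.DimIneqE
import Groth.Agent.Lib.Helper1.IntBC
import Groth.Agent.Lib.Helper5.CIcrit.D

set_option autoImplicit false
set_option linter.style.haveILetI false

/-! Openness of dominant quasi-finite morphisms at points over unibranch points (EGA IV 14.4.1). -/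

universe u

namespace Groth.Agent.H1.UniOpen

open AlgebraicGeometry CategoryTheory CategoryTheory.Limits TopologicalSpace Topology

variable {X Y : Scheme.{u}}

set_option backward.isDefEq.respectTransparency false in
/-- Openness at a point from lifting of generizations, for morphisms locally of finite
presentation. -/
theorem isOpenAt_of_forall_generization (f : X ⟶ Y) [LocallyOfFinitePresentation f] (x : X)
    (hgen : ∀ η : Y, η ⤳ f.base x → ∃ z : X, z ⤳ x ∧ f.base z = η) :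
    EGA43.IsOpenAt f.base x := by
  intro U₁ hU₁
  obtain ⟨V, hV, hxV⟩ : ∃ V : Y.Opens, IsAffineOpen V ∧ f.base x ∈ V := by
    obtain ⟨_, ⟨V, hV, rfl⟩, hx, -⟩ :=
      Y.isBasis_affineOpens.exists_subset_of_mem_open (Set.mem_univ (f.base x)) isOpen_univ
    exact ⟨V, hV, hx⟩
  obtain ⟨U, hU, hxU, hUle⟩ : ∃ U : X.Opens, IsAffineOpen U ∧ x ∈ U ∧
      (U : Set X) ⊆ (f ⁻¹ᵁ V : Set X) ∩ interior U₁ := by
    obtain ⟨_, ⟨U, hU, rfl⟩, hx, hsub⟩ := X.isBasis_affineOpens.exists_subset_of_mem_open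
      (⟨hxV, mem_interior_iff_mem_nhds.mpr hU₁⟩ : x ∈ (f ⁻¹ᵁ V : Set X) ∩ interior U₁)
      ((f ⁻¹ᵁ V).isOpen.inter isOpen_interior)
    exact ⟨U, hU, hx, hsub⟩
  have hUV : U ≤ f ⁻¹ᵁ V := fun z hz => (hUle hz).1
  have hφ' : (f.appLE V U hUV).hom.FinitePresentation :=
    HasRingHomProperty.appLE (P := @LocallyOfFinitePresentation) (f := f) inferInstance
      ⟨V, hV⟩ ⟨U, hU⟩ hUV
  let E : Set (PrimeSpectrum Γ(Y, V)) := Set.range (PrimeSpectrum.comap (f.appLE V U hUV).hom)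
  have hE : Topology.IsConstructible E := PrimeSpectrum.isConstructible_range_comap hφ'
  have sqc := IsAffineOpen.SpecMap_appLE_fromSpec f hV hU hUV
  obtain ⟨x₀, hx₀⟩ : ∃ x₀, hU.fromSpec.base x₀ = x := by
    have h0 : x ∈ Set.range hU.fromSpec.base := by rw [hU.range_fromSpec]; exact hxU
    exact h0
  have hy₀ : hV.fromSpec.base ((Spec.map (f.appLE V U hUV)).base x₀) = f.base x := by
    rw [← Scheme.Hom.comp_apply, sqc, Scheme.Hom.comp_apply, hx₀]
  have hEn : E ∈ nhds ((Spec.map (f.appLE V U hUV)).base x₀) := by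
    apply Groth.Agent.H1.DVRCrit.mem_nhds_of_isConstructible hE
    intro η hη
    have h1 : hV.fromSpec.base η ⤳ f.base x := by
      rw [← hy₀]; exact hη.map hV.fromSpec.continuous
    obtain ⟨z, hz, hzη⟩ := hgen _ h1
    have hzU : z ∈ U := hz.mem_open U.isOpen hxU
    obtain ⟨z₀, rfl⟩ : ∃ z₀, hU.fromSpec.base z₀ = z := by
      have h0 : z ∈ Set.range hU.fromSpec.base := by rw [hU.range_fromSpec]; exact hzU
      exact h0
    refine ⟨z₀, ?_⟩
    apply hV.fromSpec.isOpenEmbedding.injective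
    rw [← hzη, ← Scheme.Hom.comp_apply, ← sqc, Scheme.Hom.comp_apply]
    rfl
  have h3 : ⇑hV.fromSpec.base '' E ∈ nhds (f.base x) := by
    rw [← hy₀]; exact hV.fromSpec.isOpenEmbedding.isOpenMap.image_mem_nhds hEn
  refine Filter.mem_of_superset h3 ?_
  rintro _ ⟨_, ⟨z₀, rfl⟩, rfl⟩
  refine ⟨hU.fromSpec.base z₀, ?_, ?_⟩
  · have h0 : hU.fromSpec.base z₀ ∈ (U : Set X) := by
      rw [← hU.range_fromSpec]; exact ⟨_, rfl⟩
    exact interior_subset (hUle h0).2
  · rw [← Scheme.Hom.comp_apply, ← sqc, Scheme.Hom.comp_apply]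
    rfl

set_option backward.isDefEq.respectTransparency false in
/-- Lifting of generizations for a dominant quasi-finite morphism of irreducible schemes at a
point over a unibranch point. -/
theorem exists_generization [IrreducibleSpace X] [IrreducibleSpace Y] (f : X ⟶ Y)
    [LocallyOfFiniteType f] [LocallyQuasiFinite f] [IsDominant f] (x : X)
    (hy : CAlg2.IsUnibranch (Y.presheaf.stalk (f.base x))) (η : Y) (hη : η ⤳ f.base x) :
    ∃ z : X, z ⤳ x ∧ f.base z = η := by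
  obtain ⟨V, hV, hxV⟩ : ∃ V : Y.Opens, IsAffineOpen V ∧ f.base x ∈ V := by
    obtain ⟨_, ⟨V, hV, rfl⟩, hx, -⟩ :=
      Y.isBasis_affineOpens.exists_subset_of_mem_open (Set.mem_univ (f.base x)) isOpen_univ
    exact ⟨V, hV, hx⟩
  obtain ⟨U, hU, hxU, hUV⟩ : ∃ U : X.Opens, IsAffineOpen U ∧ x ∈ U ∧ U ≤ f ⁻¹ᵁ V := by
    obtain ⟨_, ⟨U, hU, rfl⟩, hx, hsub⟩ := X.isBasis_affineOpens.exists_subset_of_mem_open
      (hxV : x ∈ (f ⁻¹ᵁ V : Set X)) (f ⁻¹ᵁ V).isOpen
    exact ⟨U, hU, hx, hsub⟩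
  have hηV : η ∈ V := hη.mem_open V.isOpen hxV
  have hξx : genericPoint X ⤳ x := genericPoint_specializes x
  have hξU : genericPoint X ∈ U := hξx.mem_open U.isOpen hxU
  letI alg : Algebra Γ(Y, V) Γ(X, U) := (f.appLE V U hUV).hom.toAlgebra
  haveI hft : Algebra.FiniteType Γ(Y, V) Γ(X, U) :=
    HasRingHomProperty.appLE (P := @LocallyOfFiniteType) (f := f) inferInstance
      ⟨V, hV⟩ ⟨U, hU⟩ hUV
  haveI hqf : Algebra.QuasiFinite Γ(Y, V) Γ(X, U) :=
    HasRingHomProperty.appLE (P := @LocallyQuasiFinite) (f := f) inferInstance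
      ⟨V, hV⟩ ⟨U, hU⟩ hUV
  have hq₀q : (hU.primeIdealOf ⟨genericPoint X, hξU⟩).asIdeal ≤
      (hU.primeIdealOf ⟨x, hxU⟩).asIdeal :=
    Groth.Agent.H1.DimLoc.primeIdealOf_le_of_specializes hU x (genericPoint X) hxU hξU hξx
  have hp'p : (hV.primeIdealOf ⟨η, hηV⟩).asIdeal ≤
      (hV.primeIdealOf ⟨f.base x, hxV⟩).asIdeal :=
    Groth.Agent.H1.DimLoc.primeIdealOf_le_of_specializes hV (f.base x) η hxV hηV hη
  have hqp : (hU.primeIdealOf ⟨x, hxU⟩).asIdeal.under Γ(Y, V) =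
      (hV.primeIdealOf ⟨f.base x, hxV⟩).asIdeal :=
    ((Groth.Agent.H1.DimIneq.liesOver_primeIdealOf f hU hV hUV x hxU).over).symm
  have hq₀p : (hU.primeIdealOf ⟨genericPoint X, hξU⟩).asIdeal.under Γ(Y, V) =
      (hV.primeIdealOf ⟨f.base (genericPoint X), hUV hξU⟩).asIdeal :=
    ((Groth.Agent.H1.DimIneq.liesOver_primeIdealOf f hU hV hUV (genericPoint X) hξU).over).symm
  have hq₀R : (hU.primeIdealOf ⟨genericPoint X, hξU⟩).asIdeal.under Γ(Y, V) ≤
      nilradical Γ(Y, V) := by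
    rw [hq₀p, nilradical_eq_sInf]
    refine le_sInf fun J hJ => ?_
    obtain ⟨y₁, hy₁V, hy₁⟩ := Groth.Agent.H5.CIcrit.exists_primeIdealOf_eq hV ⟨J, hJ⟩
    have hfξ : f.base (genericPoint X) = genericPoint Y :=
      Groth.Agent.H1.IntBC.map_genericPoint_of_isDominant f
    have h1 : f.base (genericPoint X) ⤳ y₁ := by rw [hfξ]; exact genericPoint_specializes y₁
    have h2 := Groth.Agent.H1.DimLoc.primeIdealOf_le_of_specializes hV y₁
      (f.base (genericPoint X)) hy₁V (hUV hξU) h1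
    rw [hy₁] at h2
    exact h2
  letI algO : Algebra Γ(Y, V) (Y.presheaf.stalk (f.base x)) :=
    TopCat.Presheaf.algebra_section_stalk Y.presheaf ⟨f.base x, hxV⟩
  haveI hloc : IsLocalization.AtPrime (Y.presheaf.stalk (f.base x))
      ((hU.primeIdealOf ⟨x, hxU⟩).asIdeal.under Γ(Y, V)) := by
    have h0 := hV.isLocalization_stalk ⟨f.base x, hxV⟩
    have hM : (Ideal.under Γ(Y, V) (hU.primeIdealOf ⟨x, hxU⟩).asIdeal).primeCompl =
        (hV.primeIdealOf ⟨f.base x, hxV⟩).asIdeal.primeCompl := by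
      ext r
      show r ∉ _ ↔ r ∉ _
      rw [hqp]
    show IsLocalization (Ideal.under Γ(Y, V) (hU.primeIdealOf ⟨x, hxU⟩).asIdeal).primeCompl _
    rw [hM]; exact h0
  obtain ⟨q', hq'prime, hq'q, hq'R⟩ :=
    Groth.Agent.H1.UniGD.goingDown_of_isUnibranch (hU.primeIdealOf ⟨x, hxU⟩).asIdeal
      (hU.primeIdealOf ⟨genericPoint X, hξU⟩).asIdeal hq₀q hq₀R hy
      (hV.primeIdealOf ⟨η, hηV⟩).asIdeal (by rw [hqp]; exact hp'p)
  let z₀ : PrimeSpectrum Γ(X, U) := ⟨q', hq'prime⟩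
  refine ⟨hU.fromSpec.base z₀, ?_, ?_⟩
  · have h1 : z₀ ⤳ hU.primeIdealOf ⟨x, hxU⟩ :=
      (PrimeSpectrum.le_iff_specializes z₀ (hU.primeIdealOf ⟨x, hxU⟩)).mp hq'q
    have h2 := h1.map hU.fromSpec.continuous
    have h3 : hU.fromSpec.base (hU.primeIdealOf ⟨x, hxU⟩) = x :=
      hU.fromSpec_primeIdealOf ⟨x, hxU⟩
    rw [h3] at h2
    exact h2
  · have sqc := IsAffineOpen.SpecMap_appLE_fromSpec f hV hU hUV
    have h1 : (hU.fromSpec ≫ f).base z₀ =
        (Spec.map (f.appLE V U hUV) ≫ hV.fromSpec).base z₀ := by rw [sqc]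
    rw [Scheme.Hom.comp_apply, Scheme.Hom.comp_apply] at h1
    rw [h1]
    have h2 : (Spec.map (f.appLE V U hUV)).base z₀ = hV.primeIdealOf ⟨η, hηV⟩ := by
      apply PrimeSpectrum.ext
      show q'.comap (f.appLE V U hUV).hom = (hV.primeIdealOf ⟨η, hηV⟩).asIdeal
      exact hq'R
    rw [h2]
    exact hV.fromSpec_primeIdealOf ⟨η, hηV⟩

/-- **EGA IV 14.4.1** (quasi-finite case, plain unibranch). -/
theorem s4937 [IrreducibleSpace X] [IrreducibleSpace Y] (f : X ⟶ Y)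
    [LocallyOfFinitePresentation f] [LocallyQuasiFinite f] [IsDominant f]
    (x : X) (hy : CAlg2.IsUnibranch (Y.presheaf.stalk (f.base x))) :
    EGA43.IsOpenAt f.base x :=
  isOpenAt_of_forall_generization f x (fun η hη => exists_generization f x hy η hη)

end Groth.Agent.H1.UniOpen
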