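import Mathlib
import Groth.Prelude.Def_EGA43
import Groth.Prelude.Def_FDesc
import Groth.Agent.Lib.Helper1.GIrrV
import Groth.Agent.Lib.Helper1.UniOpen
import Groth.Agent.Lib.Helper1.UOMax

/-!
# A valuative criterion for universal openness at a point (morphisms locally of finite
presentation, arbitrary base), and applications (EGA IV 14.3.7, 15.6.6 (i) fp case) (helper1)
-/

set_option autoImplicit false
set_option linter.style.haveILetI false
universe u

open TopologicalSpace Topology AlgebraicGeometry CategoryTheory CategoryTheory.Limits IsLocalRing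

namespace Groth.Agent.H1.UOValCrit

open Groth.Agent.H1.GIrr

/-! ### valuation rings through a specialization, closed point version -/

set_option backward.isDefEq.respectTransparency.types false in
theorem exists_valuationRing_of_specializes' {Y : Scheme.{u}} {y y' : Y} (h : y' ⤳ y) :
    ∃ (A : Type u) (_ : CommRing A) (_ : IsDomain A) (_ : ValuationRing A)
      (g : Spec (CommRingCat.of A) ⟶ Y) (η : Spec (CommRingCat.of A)),
      (∀ t : Spec (CommRingCat.of A), η ⤳ t) ∧ g (IsLocalRing.closedPoint A) = y ∧ g η = y' := by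
  let φ : Y.presheaf.stalk y ⟶ Y.residueField y' :=
    Y.presheaf.stalkSpecializes h ≫ Y.residue y'
  obtain ⟨A, hA, hA_local⟩ := IsLocalRing.exists_factor_valuationRing φ.hom
  let ψ : Y.presheaf.stalk y ⟶ CommRingCat.of A :=
    CommRingCat.ofHom (φ.hom.codRestrict _ hA)
  let ιK : CommRingCat.of A ⟶ Y.residueField y' :=
    CommRingCat.ofHom (algebraMap A (Y.residueField y'))
  have w : Y.fromSpecResidueField y' = Spec.map ιK ≫ Spec.map ψ ≫ Y.fromSpecStalk y := by
    rw [Scheme.fromSpecResidueField, ← Scheme.SpecMap_stalkSpecializes_fromSpecStalk h]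
    simp_rw [← Spec.map_comp_assoc]
    rfl
  let pt : Spec (Y.residueField y') := IsLocalRing.closedPoint (Y.residueField y')
  refine ⟨A, inferInstance, inferInstance, inferInstance, Spec.map ψ ≫ Y.fromSpecStalk y,
    Spec.map ιK pt, ?_, ?_, ?_⟩
  · intro t
    have h0 : (Spec.map ιK pt).asIdeal = ⊥ := by
      have h1 : (Spec.map ιK pt).asIdeal = Ideal.comap ιK.hom pt.asIdeal := rfl
      have h2 : pt.asIdeal = ⊥ := IsLocalRing.maximalIdeal_eq_bot
      rw [h1, h2]
      exact Ideal.comap_bot_of_injective _ (IsFractionRing.injective A (Y.residueField y'))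
    refine (PrimeSpectrum.le_iff_specializes _ _).mp ?_
    show (Spec.map ιK pt).asIdeal ≤ t.asIdeal
    rw [h0]; exact bot_le
  · rw [Scheme.Hom.comp_apply]
    have : Spec.map ψ (IsLocalRing.closedPoint A) =
        IsLocalRing.closedPoint (Y.presheaf.stalk y) :=
      IsLocalRing.comap_closedPoint (S := A) (φ.hom.codRestrict A.toSubring hA)
    rw [this, Y.fromSpecStalk_closedPoint]
  · have h1 : (Spec.map ψ ≫ Y.fromSpecStalk y) (Spec.map ιK pt) =
        (Y.fromSpecResidueField y') pt := by
      rw [w]; rfl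
    rw [h1]
    exact Scheme.fromSpecResidueField_apply y' pt

/-! ### the valuative criterion -/

/-- universal openness at `x` lifts the generic point of any valuation ring (indeed any domain)
through `f x`. -/
theorem valuative_of_isUnivOpenAt {X Y : Scheme.{u}} (f : X ⟶ Y) (x : X)
    (hf : EGA43.IsUnivOpenAt f x) (A : Type u) [CommRing A] [IsDomain A]
    (h : Spec (CommRingCat.of A) ⟶ Y) (P : Scheme.{u}) (fst : P ⟶ X)
    (snd : P ⟶ Spec (CommRingCat.of A)) (sq : IsPullback fst snd f h)
    (η : Spec (CommRingCat.of A)) (hη : ∀ t : Spec (CommRingCat.of A), η ⤳ t) (p : P)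
    (hp : fst.base p = x) : ∃ z : P, z ⤳ p ∧ snd.base z = η := by
  have hop := Groth.Agent.H3.isOpenAt_snd_of_isPullback hf sq p hp
  exact Groth.Agent.H1.UO14.exists_generization_over_generic snd p hop η hη

/-- **Valuative criterion of universal openness at a point** for morphisms locally of finite
presentation. -/
theorem isUnivOpenAt_of_valuative {X Y : Scheme.{u}} (f : X ⟶ Y)
    [LocallyOfFinitePresentation f] (x : X)
    (H : ∀ (A : Type u) [CommRing A] [IsDomain A] [ValuationRing A]
      (h : Spec (CommRingCat.of A) ⟶ Y) (P : Scheme.{u}) (fst : P ⟶ X)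
      (snd : P ⟶ Spec (CommRingCat.of A)) (_ : IsPullback fst snd f h)
      (η : Spec (CommRingCat.of A)) (_ : ∀ t : Spec (CommRingCat.of A), η ⤳ t) (p : P),
      fst.base p = x → snd.base p = IsLocalRing.closedPoint A →
      ∃ z : P, z ⤳ p ∧ snd.base z = η) : EGA43.IsUnivOpenAt f x := by
  intro Y' g x' hx'
  haveI : LocallyOfFinitePresentation (pullback.snd f g) := inferInstance
  apply Groth.Agent.H1.UniOpen.isOpenAt_of_forall_generization (pullback.snd f g) x'
  intro t' ht'
  obtain ⟨A, _, _, _, k, η, hη, hk1, hk2⟩ := exists_valuationRing_of_specializes' ht'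
  have sq1 := IsPullback.of_hasPullback (pullback.snd f g) k
  have sq0 := IsPullback.of_hasPullback f g
  have sq2 : IsPullback (pullback.fst (pullback.snd f g) k ≫ pullback.fst f g)
      (pullback.snd (pullback.snd f g) k) f (k ≫ g) := sq1.paste_horiz sq0
  obtain ⟨p, hp1, hp2⟩ := Groth.Agent.H3.exists_preimage_of_isPullback sq1 x'
    (IsLocalRing.closedPoint A) hk1.symm
  obtain ⟨z, hz1, hz2⟩ := H A (k ≫ g) _ _ _ sq2 η hη p
    (by
      show (pullback.fst f g).base ((pullback.fst (pullback.snd f g) k).base p) = x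
      rw [hp1]; exact hx') hp2
  refine ⟨(pullback.fst (pullback.snd f g) k).base z, ?_, ?_⟩
  · rw [← hp1]
    exact hz1.map (pullback.fst (pullback.snd f g) k).continuous
  · have h1 := apply_eq_of_comp_eq sq1.w z
    have h2 : (pullback.snd f g).base ((pullback.fst (pullback.snd f g) k).base z) =
        k.base ((pullback.snd (pullback.snd f g) k).base z) := h1
    rw [h2, hz2]
    exact hk2

/-! ### EGA IV 14.3.? : universal openness at a point is local on the base (S4928) -/

theorem exists_factor {A : Type u} [CommRing A] [IsLocalRing A] {Y : Scheme.{u}}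
    (h : Spec (CommRingCat.of A) ⟶ Y) (y : Y) (hy : h.base (IsLocalRing.closedPoint A) = y) :
    ∃ k : Spec (CommRingCat.of A) ⟶ Spec (Y.presheaf.stalk y), k ≫ Y.fromSpecStalk y = h := by
  subst hy
  exact ⟨Spec.map (Scheme.stalkClosedPointTo h), Scheme.Spec_stalkClosedPointTo_fromSpecStalk h⟩

theorem s4928 {X Y : Scheme.{u}} (f : X ⟶ Y) [LocallyOfFinitePresentation f]
    (x : X) (x₁ : ↥(pullback f (Y.fromSpecStalk (f.base x))))
    (hx₁ : (pullback.fst f (Y.fromSpecStalk (f.base x))).base x₁ = x) :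
    EGA43.IsUnivOpenAt f x ↔
      EGA43.IsUnivOpenAt (pullback.snd f (Y.fromSpecStalk (f.base x))) x₁ := by
  constructor
  · intro hf
    exact Groth.Agent.H3.isUnivOpenAt_snd_of_isPullback hf (IsPullback.of_hasPullback _ _) x₁ hx₁
  · intro h₁
    apply isUnivOpenAt_of_valuative f x
    intro A _ _ _ h P fst snd sq η hη p hp1 hp2
    have hhc : h.base (IsLocalRing.closedPoint A) = f.base x := by
      have h0 := apply_eq_of_comp_eq sq.w p
      have h0' : f.base (fst.base p) = h.base (snd.base p) := h0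
      rw [hp1, hp2] at h0'
      exact h0'.symm
    obtain ⟨k, hk⟩ := exists_factor h (f.base x) hhc
    have sq₁ := IsPullback.of_hasPullback f (Y.fromSpecStalk (f.base x))
    obtain ⟨ℓ, hℓ1, hℓ2⟩ : ∃ ℓ : P ⟶ pullback f (Y.fromSpecStalk (f.base x)),
        ℓ ≫ pullback.fst f (Y.fromSpecStalk (f.base x)) = fst ∧
        ℓ ≫ pullback.snd f (Y.fromSpecStalk (f.base x)) = snd ≫ k :=
      ⟨pullback.lift fst (snd ≫ k) (by rw [sq.w, Category.assoc, hk]),
        pullback.lift_fst _ _ _, pullback.lift_snd _ _ _⟩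
    have sqL : IsPullback ℓ snd (pullback.snd f (Y.fromSpecStalk (f.base x))) k := by
      refine IsPullback.of_right (h₁₂ := pullback.fst f (Y.fromSpecStalk (f.base x)))
        (h₂₂ := Y.fromSpecStalk (f.base x)) (v₁₃ := f) ?_ hℓ2 sq₁
      rw [hℓ1, hk]
      exact sq
    have hinj : Function.Injective (pullback.fst f (Y.fromSpecStalk (f.base x))).base :=
      (pullback.fst f (Y.fromSpecStalk (f.base x))).isEmbedding.injective
    have hℓp : ℓ.base p = x₁ := by
      apply hinj
      have e1 : (pullback.fst f (Y.fromSpecStalk (f.base x))).base (ℓ.base p) = fst.base p :=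
        apply_eq_of_comp_eq (b' := 𝟙 X) (by rw [hℓ1, Category.comp_id]) p
      exact e1.trans (hp1.trans hx₁.symm)
    have hop := Groth.Agent.H3.isOpenAt_snd_of_isPullback h₁ sqL p hℓp
    exact Groth.Agent.H1.UO14.exists_generization_over_generic snd p hop η hη

/-! ### EGA IV 15.6.6 (i), finite presentation case -/

theorem isUnivOpenAt_of_dim_const {X Y : Scheme.{u}} (f : X ⟶ Y)
    [LocallyOfFinitePresentation f] (g : Y ⟶ X) (hg : g ≫ f = 𝟙 Y)
    (hirr : ∀ y : Y, (∀ (K : Type u) [Field K]
      [Algebra (IsLocalRing.ResidueField (Y.presheaf.stalk y)) K],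
        IsIrreducible ((FBase.bcπ (f.fiberToSpecResidueField y) K ≫ f.fiberι y).base ⁻¹'
          connectedComponentIn (f.base ⁻¹' {y}) (g.base y))))
    (y : Y)
    (hc : ∃ V ∈ nhds y, ∀ z ∈ V,
      topologicalKrullDim ↥(connectedComponentIn (f.base ⁻¹' {z}) (g.base z)) =
        topologicalKrullDim ↥(connectedComponentIn (f.base ⁻¹' {y}) (g.base y))) :
    ∀ x ∈ connectedComponentIn (f.base ⁻¹' {y}) (g.base y), EGA43.IsUnivOpenAt f x := by
  intro x hx
  have hfx : f.base x = y := connectedComponentIn_subset (f.base ⁻¹' {y}) (g.base y) hx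
  apply isUnivOpenAt_of_valuative f x
  intro A _ _ _ h P fst snd sq η hη p hp1 hp2
  obtain ⟨gA, hgA1, hgA2⟩ : ∃ gA : Spec (CommRingCat.of A) ⟶ P,
      gA ≫ snd = 𝟙 _ ∧ gA ≫ fst = h ≫ g :=
    ⟨sq.lift (h ≫ g) (𝟙 _) (by rw [Category.assoc, hg, Category.comp_id, Category.id_comp]),
      sq.lift_snd _ _ _, sq.lift_fst _ _ _⟩
  haveI : LocallyOfFiniteType snd :=
    MorphismProperty.of_isPullback (P := @LocallyOfFiniteType) sq inferInstance
  obtain ⟨c, hcdef⟩ : ∃ c : Spec (CommRingCat.of A), c = IsLocalRing.closedPoint A := ⟨_, rfl⟩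
  rw [← hcdef] at hp2
  have hhc : h.base c = y := by
    have h0 := apply_eq_of_comp_eq sq.w p
    have h0' : f.base (fst.base p) = h.base (snd.base p) := h0
    rw [hp1, hp2] at h0'
    exact h0'.symm.trans hfx
  have hbc := fun t => Groth.Agent.H1.SecComp.sectionComponent_bc f g hg h fst snd sq gA hgA1 hgA2 t
    (fun K _ _ => hirr (h.base t) K)
  have hpC : p ∈ connectedComponentIn (snd.base ⁻¹' {c}) (gA.base c) :=
    (hbc c).2.2 p hp2 (by rw [hp1, hhc]; exact hx)
  obtain ⟨V, hV, hVeq⟩ := hc
  have hηy : h.base η ⤳ y := by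
    rw [← hhc]; exact (hη c).map h.continuous
  have hηy' : 𝓝 (h.base η) ≤ 𝓝 y := hηy
  have hηV : h.base η ∈ V := mem_of_mem_nhds (hηy' hV)
  have hdimeq : topologicalKrullDim ↥(connectedComponentIn (snd.base ⁻¹' {c}) (gA.base c)) =
      topologicalKrullDim ↥(connectedComponentIn (snd.base ⁻¹' {η}) (gA.base η)) := by
    rw [(hbc c).2.1, (hbc η).2.1, hhc, hVeq _ hηV]
  have hfgA : ∀ t : Spec (CommRingCat.of A), snd.base (gA.base t) = t := by
    intro t
    have := congrArg (fun ψ : Spec (CommRingCat.of A) ⟶ Spec (CommRingCat.of A) => ψ.base t) hgA1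
    simpa using this
  have hmaxC : ∀ Z' : Set P, IsIrreducible Z' → Z' ⊆ snd.base ⁻¹' {η} →
      connectedComponentIn (snd.base ⁻¹' {η}) (gA.base η) ⊆ Z' →
      Z' = connectedComponentIn (snd.base ⁻¹' {η}) (gA.base η) := by
    intro Z' hZ' hZ'F hCZ'
    refine subset_antisymm ?_ hCZ'
    exact hZ'.isConnected.isPreconnected.subset_connectedComponentIn
      (hCZ' (mem_connectedComponentIn (hfgA η))) hZ'F
  have h52 := Groth.Agent.H1.SecComp.s4952 snd gA hgA1 c η (hη c)
    ⟨connectedComponentIn (snd.base ⁻¹' {η}) (gA.base η), connectedComponentIn_subset _ _,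
      (hbc η).1, hmaxC, mem_connectedComponentIn (hfgA η), rfl⟩
  have hsub := h52.2 (hbc c).1 hdimeq
  obtain ⟨ξ, -, hfξ, hCeq, -, -⟩ :=
    Groth.Agent.H1.FibComp.exists_generic_of_fibre_component snd η
      (connectedComponentIn (snd.base ⁻¹' {η}) (gA.base η)) (connectedComponentIn_subset _ _)
      (hbc η).1 hmaxC
  have hcl : closure (connectedComponentIn (snd.base ⁻¹' {η}) (gA.base η)) ⊆ closure {ξ} := by
    apply closure_minimal _ isClosed_closure
    intro a ha
    rw [hCeq] at ha
    exact ha.1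
  exact ⟨ξ, specializes_iff_mem_closure.mpr (hcl (hsub hpC)), hfξ⟩

end Groth.Agent.H1.UOValCrit
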