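import Mathlib
import Groth.Prelude.Def_EGA43
import Groth.Prelude.Def_FDesc
import Groth.Prelude.Def_SGA3x
import Groth.Agent.Lib.Helper1.UOValCrit
import Groth.Agent.Lib.Helper1.GrpFib
import Groth.Agent.Lib.Helper9.Misc.GZA5
import Groth.Agent.Lib.Helper9.Misc.GZB2

/-!
# Universal openness along the neutral component of a group scheme and constancy of the fibre
dimension (SGA3 VI_B 4.3 / EGA IV 15.6.6 for group schemes, arbitrary base) (helper1)
-/

set_option autoImplicit false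
set_option linter.style.haveILetI false
universe u

open TopologicalSpace Topology AlgebraicGeometry CategoryTheory CategoryTheory.Limits IsLocalRing
open MonoidalCategory CartesianMonoidalCategory MonObj

namespace Groth.Agent.H1.GrpUO

open Groth.Agent.H1.GIrr Groth.Agent.H1.DimFormula Groth.Agent.H1.FibGen Groth.Agent.H1.FibDimBC

/-! ### a neighbourhood lemma for the fibre dimension along a section -/

theorem exists_nhds_fibreDimAt_eq {X Y : Scheme.{u}} (f : X ⟶ Y) [LocallyOfFinitePresentation f]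
    (g : Y ⟶ X) (y₀ : Y)
    (hkey : ∀ θ : Y, θ ⤳ y₀ →
      FlatMor.fibreDimAt f (g.base y₀) ≤ FlatMor.fibreDimAt f (g.base θ)) :
    ∃ V ∈ 𝓝 y₀, ∀ z ∈ V,
      FlatMor.fibreDimAt f (g.base z) = FlatMor.fibreDimAt f (g.base y₀) := by
  obtain ⟨n, hn⟩ := Groth.Agent.H1.CMQF.exists_nat_fibreDimAt f (g.base y₀)
  have hop : IsOpen {x : X | FlatMor.fibreDimAt f x ≤ (n : WithBot ℕ∞)} :=
    Groth.Agent.H1.Chev.isOpen_fibreDimAt_le f n
  have hop' := hop.preimage g.continuous
  have hE : {y : Y | (n : WithBot ℕ∞) ≤ FlatMor.fibreDimAt f (g.base y)} ∈ 𝓝 y₀ := by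
    rcases Nat.eq_zero_or_pos n with h0 | hpos
    · have : {y : Y | (n : WithBot ℕ∞) ≤ FlatMor.fibreDimAt f (g.base y)} = Set.univ := by
        ext y
        simp only [Set.mem_ofPred_eq, Set.mem_univ, iff_true, h0, Nat.cast_zero]
        exact Groth.Agent.H1.FlatFibDim.fibreDimAt_nonneg f (g.base y)
      rw [this]
      exact Filter.univ_mem
    · obtain ⟨m, rfl⟩ : ∃ m, n = m + 1 := ⟨n - 1, by omega⟩
      have hW : IsLocallyConstructible {x : X | FlatMor.fibreDimAt f x ≤ (m : WithBot ℕ∞)} :=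
        (Groth.Agent.H1.FibDimFP.isRetrocompact_fibreDimAt_le f m).isLocallyConstructible
          (Groth.Agent.H1.Chev.isOpen_fibreDimAt_le f m)
      have hW' : IsLocallyConstructible
          (g.base ⁻¹' {x : X | FlatMor.fibreDimAt f x ≤ (m : WithBot ℕ∞)}) := by
        intro x
        obtain ⟨U, hxU, hU, hc⟩ := hW (g.base x)
        let U' : X.Opens := ⟨U, hU⟩
        refine ⟨g.base ⁻¹' U, g.continuous.continuousAt.preimage_mem_nhds hxU,
          hU.preimage g.continuous, ?_⟩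
        have h1 : IsConstructible ((g ∣_ U').base ⁻¹' (Subtype.val ⁻¹'
            {x : X | FlatMor.fibreDimAt f x ≤ (m : WithBot ℕ∞)} : Set ↥U')) :=
          (g ∣_ U').isConstructible_preimage hc
        have e : (Subtype.val ⁻¹' (g.base ⁻¹'
            {x : X | FlatMor.fibreDimAt f x ≤ (m : WithBot ℕ∞)}) : Set ↥(g ⁻¹ᵁ U')) =
            (g ∣_ U').base ⁻¹' (Subtype.val ⁻¹'
              {x : X | FlatMor.fibreDimAt f x ≤ (m : WithBot ℕ∞)} : Set ↥U') := by
          ext y
          change FlatMor.fibreDimAt f (g.base y.1) ≤ _ ↔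
            FlatMor.fibreDimAt f ((g ∣_ U').base y).1 ≤ _
          rw [morphismRestrict_base_coe]
        exact e ▸ h1
      have hEq : {y : Y | ((m + 1 : ℕ) : WithBot ℕ∞) ≤ FlatMor.fibreDimAt f (g.base y)} =
          (g.base ⁻¹' {x : X | FlatMor.fibreDimAt f x ≤ (m : WithBot ℕ∞)})ᶜ := by
        ext y
        obtain ⟨k, hk⟩ := Groth.Agent.H1.CMQF.exists_nat_fibreDimAt f (g.base y)
        simp only [Set.mem_ofPred_eq, Set.mem_compl_iff, Set.mem_preimage]
        rw [hk]
        exact natCast_succ_le_iff m k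
      rw [hEq]
      apply mem_nhds_of_forall_specializes (isLocallyConstructible_compl hW')
      intro θ hθ
      rw [← hEq]
      show ((m + 1 : ℕ) : WithBot ℕ∞) ≤ FlatMor.fibreDimAt f (g.base θ)
      rw [← hn]
      exact hkey θ hθ
  refine ⟨{y : Y | (n : WithBot ℕ∞) ≤ FlatMor.fibreDimAt f (g.base y)} ∩
      g.base ⁻¹' {x : X | FlatMor.fibreDimAt f x ≤ (n : WithBot ℕ∞)},
    Filter.inter_mem hE (hop'.mem_nhds
      (show y₀ ∈ g.base ⁻¹' {x : X | FlatMor.fibreDimAt f x ≤ (n : WithBot ℕ∞)} from hn.le)), ?_⟩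
  rintro z ⟨hz1, hz2⟩
  rw [hn]
  exact le_antisymm hz2 hz1

/-! ### generization of maximal points of fibres at points of universal openness -/

set_option backward.isDefEq.respectTransparency false in
/-- EGA IV 14.3.? without Noetherian hypotheses: at a maximal point `x` of its fibre where `f`
is universally open, the fibre dimension is attained at a generization of `x` over any
prescribed generization of `f x`. -/
theorem exists_generization_fibreDimAt_ge_of_isUnivOpenAt {X S : Scheme.{u}} (f : X ⟶ S)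
    [LocallyOfFiniteType f] (x : X) (hmax : ∀ z : X, f z = f x → z ⤳ x → z = x)
    (hUO : EGA43.IsUnivOpenAt f x) (y' : S) (h : y' ⤳ f x) :
    ∃ x' : X, f x' = y' ∧ x' ⤳ x ∧ FlatMor.fibreDimAt f x ≤ FlatMor.fibreDimAt f x' := by
  obtain ⟨A, _, _, _, g, θ, hg1, hg2, hθ⟩ :=
    Groth.Agent.H1.ValDim.exists_valuationRing_of_specializes h
  let fst := pullback.fst f g
  let snd := pullback.snd f g
  have hsq : IsPullback fst snd f g := IsPullback.of_hasPullback f g
  obtain ⟨p₀, hp1, hp2⟩ := Scheme.Pullback.exists_preimage_pullback (f := f) (g := g) x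
    (closedPoint A : Spec (CommRingCat.of A)) hg1.symm
  obtain ⟨z, hz1, hz2, hz3, hz4⟩ := exists_fibre_generic_fibreDimAt_eq snd p₀
  obtain ⟨t, ht1, ht2⟩ := fibreDimAt_eq_trdeg_of_generic snd z
    (fun z' hz' => hz3 z' (hz'.trans hz1))
  have hfz : fst z = x := by
    apply hmax
    · rw [← Scheme.Hom.comp_apply, hsq.w, Scheme.Hom.comp_apply, hz1]
      change g (pullback.snd f g p₀) = f x
      rw [hp2, hg1]
    · rw [← hp1]
      exact hz2.map fst.continuous
  have hθall : ∀ t : Spec (CommRingCat.of A), θ ⤳ t := by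
    intro t
    refine (PrimeSpectrum.le_iff_specializes _ _).mp ?_
    show θ.asIdeal ≤ t.asIdeal
    rw [hθ]; exact bot_le
  obtain ⟨ξ, hξ1, hξ2⟩ := Groth.Agent.H1.UOValCrit.valuative_of_isUnivOpenAt f x hUO A g _
    fst snd hsq θ hθall z hfz
  have hV := Groth.Agent.H1.ValDim.trdeg_le_of_specializes snd z ξ hξ1 (by rw [hξ2]; exact hθ)
  obtain ⟨t', ht'1, ht'2⟩ := exists_fibreDimAt_eq_stalk_add_trdeg snd ξ
  rw [ht1, ht'1] at hV
  have htt' : t ≤ t' := by exact_mod_cast hV
  refine ⟨fst ξ, ?_, ?_, ?_⟩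
  · rw [← Scheme.Hom.comp_apply, hsq.w, Scheme.Hom.comp_apply, hξ2, hg2]
  · rw [← hp1]
    exact (hξ1.trans hz2).map fst.continuous
  · rw [← fibreDimAt_eq_of_isPullback f g fst snd hsq ξ, ← hp1,
      ← fibreDimAt_eq_of_isPullback f g fst snd hsq p₀, ← hz4, ht2, ht'2]
    have h0 : (0 : WithBot ℕ∞) ≤
        ringKrullDim ((snd.fiber (snd ξ)).presheaf.stalk (snd.asFiber ξ)) :=
      ringKrullDim_nonneg_of_nontrivial
    calc ((t : ℕ) : WithBot ℕ∞) ≤ (t' : WithBot ℕ∞) := by exact_mod_cast htt'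
      _ = 0 + (t' : WithBot ℕ∞) := (zero_add _).symm
      _ ≤ _ := add_le_add_left h0 _

/-! ### the fibres of a group scheme -/

section Grp

variable {S : Scheme.{u}} (G : Over S) [GrpObj G]

theorem fib_one_fst (s : S) :
    η[Groth.Agent.H1.GrpFib.fib G s].left ≫ pullback.fst G.hom (S.fromSpecResidueField s) =
      S.fromSpecResidueField s ≫ η[G].left := by
  have : η[Groth.Agent.H1.GrpFib.fib G s] =
      Functor.LaxMonoidal.ε (Over.pullback (S.fromSpecResidueField s)) ≫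
      (Over.pullback (S.fromSpecResidueField s)).map η[G] := rfl
  rw [this]
  simp only [Over.comp_left]
  simp
  rw [pullback.lift_fst, ← Category.assoc, ← pullback.condition, Category.comp_id]

theorem hirr_grp [LocallyOfFiniteType G.hom] (s : S) (K : Type u) [Field K]
    [Algebra (IsLocalRing.ResidueField (S.presheaf.stalk s)) K] :
    IsIrreducible ((FBase.bcπ (G.hom.fiberToSpecResidueField s) K ≫ G.hom.fiberι s).base ⁻¹'
      connectedComponentIn (G.hom.base ⁻¹' {s}) ((Groth.Agent.H1.GrpFib.unitSec G).base s)) := by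
  have ha : (G.hom.fiberι s).base (Groth.Agent.H9.GZA.ePt (Groth.Agent.H1.GrpFib.fib G s)) =
      (Groth.Agent.H1.GrpFib.unitSec G).base s := by
    have h1 := congrArg (fun ψ : Spec (CommRingCat.of (S.residueField s)) ⟶ G.left =>
      ψ.base (closedPoint (S.residueField s))) (fib_one_fst G s)
    have h2 : (S.fromSpecResidueField s).base (closedPoint (S.residueField s)) = s :=
      Scheme.fromSpecResidueField_apply s _
    simp only [Scheme.Hom.comp_base, TopCat.hom_comp, ContinuousMap.comp_apply] at h1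
    rw [h2] at h1
    exact h1
  have hCC := Groth.Agent.H1.SecComp.connectedComponentIn_fibre_eq G.hom s
    ((Groth.Agent.H1.GrpFib.unitSec G).base s)
    (Groth.Agent.H9.GZA.ePt (Groth.Agent.H1.GrpFib.fib G s)) ha
  have hZ₀irr : IsIrreducible (connectedComponent
      (Groth.Agent.H9.GZA.ePt (Groth.Agent.H1.GrpFib.fib G s))) :=
    (Groth.Agent.H9.GZB.S0355_main (Groth.Agent.H1.GrpFib.fib G s)).1
  have hZ₀ : connectedComponent (Groth.Agent.H9.GZA.ePt (Groth.Agent.H1.GrpFib.fib G s)) ∈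
      irreducibleComponents ↥(Groth.Agent.H1.GrpFib.fib G s).left := by
    refine ⟨hZ₀irr, fun Z' hZ' hsub => ?_⟩
    exact hZ'.isConnected.isPreconnected.subset_connectedComponent (hsub mem_connectedComponent)
  letI : Algebra ↑(S.residueField s) K :=
    inferInstanceAs (Algebra (IsLocalRing.ResidueField (S.presheaf.stalk s)) K)
  have h := Groth.Agent.H9.GZA.isIrreducible_preimage_component
    (Groth.Agent.H1.GrpFib.fib G s) (L := K) _ hZ₀ mem_connectedComponent
  have key : (FBase.bcπ (G.hom.fiberToSpecResidueField s) K ≫ G.hom.fiberι s).base ⁻¹'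
      connectedComponentIn (G.hom.base ⁻¹' {s}) ((Groth.Agent.H1.GrpFib.unitSec G).base s) =
      (FBase.bcπ (G.hom.fiberToSpecResidueField s) K).base ⁻¹'
        connectedComponent (Groth.Agent.H9.GZA.ePt (Groth.Agent.H1.GrpFib.fib G s)) := by
    rw [hCC]
    ext w
    constructor
    · rintro ⟨a', ha', hEq⟩
      have h3 : a' = (FBase.bcπ (G.hom.fiberToSpecResidueField s) K).base w :=
        (G.hom.fiberι s).isEmbedding.injective hEq
      rw [Set.mem_preimage, ← h3]
      exact ha'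
    · intro hw
      exact ⟨_, hw, rfl⟩
  rw [key]
  exact h

theorem neutralSet_inter_fibre (s : S) :
    SGA3x.neutralSet G ∩ G.hom.base ⁻¹' {s} =
      connectedComponentIn (G.hom.base ⁻¹' {s}) ((Groth.Agent.H1.GrpFib.unitSec G).base s) := by
  ext x
  constructor
  · rintro ⟨hx, hxs⟩
    obtain ⟨p, hp⟩ := Set.mem_iUnion.mp hx
    have h0 : x ∈ G.hom.base ⁻¹' {(𝟙_ (Over S)).hom.base p} := connectedComponentIn_subset _ _ hp
    have h1 : G.hom.base x = (𝟙_ (Over S)).hom.base p := h0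
    have h2 : s = (𝟙_ (Over S)).hom.base p := hxs.symm.trans h1
    subst h2
    exact hp
  · intro hx
    exact ⟨Set.mem_iUnion.mpr ⟨s, hx⟩, connectedComponentIn_subset _ _ hx⟩

/-- **SGA3 VI_B 4.3 for group schemes** (S5330). -/
theorem s5330 [LocallyOfFinitePresentation G.hom] (s : S) :
    ((∀ x ∈ (SGA3x.neutralSet G ∩ G.hom.base ⁻¹' {s}), EGA43.IsUnivOpenAt G.hom x) ↔
      ∃ W : G.left.Opens, (∀ p : ↥(𝟙_ (Over S)).left, (𝟙_ (Over S)).hom.base p = s →
          η[G].left.base p ∈ W) ∧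
        ∀ x ∈ (SGA3x.neutralSet G ∩ G.hom.base ⁻¹' {s}), x ∈ W → EGA43.IsUnivOpenAt G.hom x) ∧
    ((∀ x ∈ (SGA3x.neutralSet G ∩ G.hom.base ⁻¹' {s}), EGA43.IsUnivOpenAt G.hom x) ↔
      ∃ U : Set S, U ∈ nhds s ∧ ∀ t ∈ U, topologicalKrullDim ↥(G.hom.base ⁻¹' {t}) =
        topologicalKrullDim ↥(G.hom.base ⁻¹' {s})) := by
  classical
  have hfe : ∀ t : S, G.hom.base ((Groth.Agent.H1.GrpFib.unitSec G).base t) = t :=
    fun t => Groth.Agent.H1.GrpFib.hom_unitSec G t
  have hirr := fun (y : S) (K : Type u) [Field K]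
      [Algebra (IsLocalRing.ResidueField (S.presheaf.stalk y)) K] => hirr_grp G y K
  have hirr' : ∀ t : S, IsIrreducible (connectedComponentIn (G.hom.base ⁻¹' {t})
      ((Groth.Agent.H1.GrpFib.unitSec G).base t)) :=
    fun t => Groth.Agent.H1.FibComp.isIrreducible_of_geom G.hom t _
      (connectedComponentIn_subset _ _) (fun K _ _ => hirr_grp G t K)
  have hdimCC : ∀ t : S, topologicalKrullDim ↥(connectedComponentIn (G.hom.base ⁻¹' {t})
      ((Groth.Agent.H1.GrpFib.unitSec G).base t)) = topologicalKrullDim ↥(G.hom.base ⁻¹' {t}) := by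
    intro t
    rw [Groth.Agent.H1.FibComp.dim_connectedComponentIn_eq G.hom
      ((Groth.Agent.H1.GrpFib.unitSec G).base t) t (hfe t) (hirr' t),
      Groth.Agent.H1.GrpFib.dim_preimage_eq G t]
  -- (ii) ⇒ (i)
  have hC : (∃ U : Set S, U ∈ nhds s ∧ ∀ t ∈ U, topologicalKrullDim ↥(G.hom.base ⁻¹' {t}) =
        topologicalKrullDim ↥(G.hom.base ⁻¹' {s})) →
      ∀ x ∈ (SGA3x.neutralSet G ∩ G.hom.base ⁻¹' {s}), EGA43.IsUnivOpenAt G.hom x := by
    rintro ⟨U, hU, hUeq⟩ x hx
    rw [neutralSet_inter_fibre G s] at hx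
    refine Groth.Agent.H1.UOValCrit.isUnivOpenAt_of_dim_const G.hom
      (Groth.Agent.H1.GrpFib.unitSec G) (Groth.Agent.H1.GrpFib.unitSec_comp G)
      (fun y K _ _ => hirr_grp G y K) s ⟨U, hU, fun z hz => ?_⟩ x hx
    rw [hdimCC z, hdimCC s]
    exact hUeq z hz
  -- (i bis) ⇒ (ii)
  have hB : (∃ W : G.left.Opens, (∀ p : ↥(𝟙_ (Over S)).left, (𝟙_ (Over S)).hom.base p = s →
          η[G].left.base p ∈ W) ∧
        ∀ x ∈ (SGA3x.neutralSet G ∩ G.hom.base ⁻¹' {s}), x ∈ W →
          EGA43.IsUnivOpenAt G.hom x) →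
      ∃ U : Set S, U ∈ nhds s ∧ ∀ t ∈ U, topologicalKrullDim ↥(G.hom.base ⁻¹' {t}) =
        topologicalKrullDim ↥(G.hom.base ⁻¹' {s}) := by
    rintro ⟨W, hW1, hW2⟩
    have heW : (Groth.Agent.H1.GrpFib.unitSec G).base s ∈ W := hW1 s rfl
    have hesC : (Groth.Agent.H1.GrpFib.unitSec G).base s ∈
        connectedComponentIn (G.hom.base ⁻¹' {s}) ((Groth.Agent.H1.GrpFib.unitSec G).base s) :=
      mem_connectedComponentIn (hfe s)
    have hmaxC : ∀ Z' : Set G.left, IsIrreducible Z' → Z' ⊆ G.hom.base ⁻¹' {s} →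
        connectedComponentIn (G.hom.base ⁻¹' {s}) ((Groth.Agent.H1.GrpFib.unitSec G).base s) ⊆ Z' →
        Z' = connectedComponentIn (G.hom.base ⁻¹' {s})
          ((Groth.Agent.H1.GrpFib.unitSec G).base s) := by
      intro Z' hZ' hZ'F hCZ'
      refine subset_antisymm ?_ hCZ'
      exact hZ'.isConnected.isPreconnected.subset_connectedComponentIn (hCZ' hesC) hZ'F
    obtain ⟨ζ, hζC, hfζ, hCeq, hmax, -⟩ :=
      Groth.Agent.H1.FibComp.exists_generic_of_fibre_component G.hom s _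
        (connectedComponentIn_subset _ _) (hirr' s) hmaxC
    have hζe : ζ ⤳ (Groth.Agent.H1.GrpFib.unitSec G).base s := by
      rw [specializes_iff_mem_closure]
      have h1 := hesC
      rw [hCeq] at h1
      exact h1.1
    have hζW : ζ ∈ W := hζe.mem_open W.isOpen heW
    have hUOζ : EGA43.IsUnivOpenAt G.hom ζ :=
      hW2 ζ (by rw [neutralSet_inter_fibre G s]; exact hζC) hζW
    have hkey : ∀ θ : S, θ ⤳ s →
        FlatMor.fibreDimAt G.hom ((Groth.Agent.H1.GrpFib.unitSec G).base s) ≤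
          FlatMor.fibreDimAt G.hom ((Groth.Agent.H1.GrpFib.unitSec G).base θ) := by
      intro θ hθ
      obtain ⟨ξ, hξ1, -, hξ3⟩ := exists_generization_fibreDimAt_ge_of_isUnivOpenAt G.hom ζ hmax
        hUOζ θ (by rw [hfζ]; exact hθ)
      have h1 : FlatMor.fibreDimAt G.hom ζ =
          FlatMor.fibreDimAt G.hom ((Groth.Agent.H1.GrpFib.unitSec G).base s) := by
        rw [← Groth.Agent.H1.GrpFib.dim_preimage_eq' G ζ, hfζ,
          Groth.Agent.H1.GrpFib.dim_preimage_eq G s]
      have h2 : FlatMor.fibreDimAt G.hom ξ =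
          FlatMor.fibreDimAt G.hom ((Groth.Agent.H1.GrpFib.unitSec G).base θ) := by
        rw [← Groth.Agent.H1.GrpFib.dim_preimage_eq' G ξ, hξ1,
          Groth.Agent.H1.GrpFib.dim_preimage_eq G θ]
      rw [← h1, ← h2]
      exact hξ3
    obtain ⟨V, hV, hVeq⟩ := exists_nhds_fibreDimAt_eq G.hom (Groth.Agent.H1.GrpFib.unitSec G) s hkey
    refine ⟨V, hV, fun t ht => ?_⟩
    rw [Groth.Agent.H1.GrpFib.dim_preimage_eq G t, Groth.Agent.H1.GrpFib.dim_preimage_eq G s,
      hVeq t ht]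
  -- (i) ⇒ (i bis)
  have hA : (∀ x ∈ (SGA3x.neutralSet G ∩ G.hom.base ⁻¹' {s}), EGA43.IsUnivOpenAt G.hom x) →
      ∃ W : G.left.Opens, (∀ p : ↥(𝟙_ (Over S)).left, (𝟙_ (Over S)).hom.base p = s →
          η[G].left.base p ∈ W) ∧
        ∀ x ∈ (SGA3x.neutralSet G ∩ G.hom.base ⁻¹' {s}), x ∈ W →
          EGA43.IsUnivOpenAt G.hom x :=
    fun h => ⟨⊤, fun _ _ => trivial, fun x hx _ => h x hx⟩
  exact ⟨⟨hA, fun h => hC (hB h)⟩, ⟨fun h => hB (hA h), hC⟩⟩

end Grp

end Groth.Agent.H1.GrpUO
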