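import Mathlib
import Groth.Prelude.Def_AlgGrp
import Groth.Prelude.Def_SGA3x
import Groth.Prelude.Def_Red
import Groth.Prelude.Def_ActBC
import Groth.Agent.Lib.Helper1.GrpNeut
import Groth.Agent.Lib.Helper1.GrpUO
import Groth.Agent.Lib.Helper9.Misc.GZB2

/-! The union `G⁰` of the neutral components of the fibres of a group scheme, II (helper1):
every point of `G⁰` is a product `u · v⁻¹` with `u, v` in any given open neighbourhood of the unit
section; consequences (SGA3 VI_B 3.4–3.6): quasi-compactness of `G⁰`, quasi-compactness of groups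
with connected fibres, open subgroups contain `G⁰`. -/

set_option autoImplicit false
set_option linter.style.haveILetI false
universe u

namespace Groth.Agent.H1.GrpNeutB

open CategoryTheory CategoryTheory.Limits MonoidalCategory CartesianMonoidalCategory MonObj GrpObj
  AlgebraicGeometry IsLocalRing

variable {S : Scheme.{u}} (G : Over S) [GrpObj G]

theorem mem_neutralSet_iff (x : G.left) :
    x ∈ SGA3x.neutralSet G ↔
      x ∈ connectedComponentIn (G.hom.base ⁻¹' {G.hom.base x})
        ((GrpFib.unitSec G).base (G.hom.base x)) := by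
  rw [GrpNeut.neutralSet_eq]; rfl

theorem inv_inv_apply (u : G.left) : ι[G].left.base (ι[G].left.base u) = u := by
  have h : ι[G].left ≫ ι[G].left = 𝟙 G.left := by
    rw [← Over.comp_left, GrpObj.inv_comp_inv]; rfl
  rw [← Scheme.Hom.comp_apply, h]; rfl

theorem fiberι_ePt (s : S) :
    (G.hom.fiberι s).base (Groth.Agent.H9.GZA.ePt (GrpFib.fib G s)) =
      (GrpFib.unitSec G).base s := by
  have h1 := congrArg (fun ψ : Spec (CommRingCat.of (S.residueField s)) ⟶ G.left =>
    ψ.base (closedPoint (S.residueField s))) (Groth.Agent.H1.GrpUO.fib_one_fst G s)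
  have h2 : (S.fromSpecResidueField s).base (closedPoint (S.residueField s)) = s :=
    Scheme.fromSpecResidueField_apply s _
  simp only [Scheme.Hom.comp_base, TopCat.hom_comp, ContinuousMap.comp_apply] at h1
  rw [h2] at h1
  exact h1

/-- the comparison map from the product of the fibres to the product -/
noncomputable def Φ (s : S) :
    (GrpFib.fib G s ⊗ GrpFib.fib G s).left ⟶ (G ⊗ G).left :=
  (Functor.LaxMonoidal.μ (Over.pullback (S.fromSpecResidueField s)) G G).left ≫
    pullback.fst (G ⊗ G).hom (S.fromSpecResidueField s)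

omit [GrpObj G] in
lemma Φ_fst (s : S) : Φ G s ≫ (fst G G).left =
    (fst (GrpFib.fib G s) (GrpFib.fib G s)).left ≫ G.hom.fiberι s := by
  unfold Φ
  rw [Over.fst_left, Over.fst_left, Category.assoc]
  exact ActBC.μ_left_fst_fst _ _ _

omit [GrpObj G] in
lemma Φ_snd (s : S) : Φ G s ≫ (snd G G).left =
    (snd (GrpFib.fib G s) (GrpFib.fib G s)).left ≫ G.hom.fiberι s := by
  unfold Φ
  rw [Over.snd_left, Over.snd_left, Category.assoc]
  exact ActBC.μ_left_fst_snd _ _ _

lemma Φ_mul (s : S) : Φ G s ≫ μ[G].left = μ[GrpFib.fib G s].left ≫ G.hom.fiberι s := by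
  unfold Φ
  have h1 : μ[GrpFib.fib G s] =
      Functor.LaxMonoidal.μ (Over.pullback (S.fromSpecResidueField s)) G G ≫
        (Over.pullback (S.fromSpecResidueField s)).map μ[G] := rfl
  rw [h1, Over.comp_left, Category.assoc, Category.assoc]
  congr 1
  exact (ActBC.pullback_map_left_fst _ _).symm

lemma fib_inv (s : S) :
    ι[GrpFib.fib G s].left ≫ G.hom.fiberι s = G.hom.fiberι s ≫ ι[G].left := by
  have h1 : ι[GrpFib.fib G s] = (Over.pullback (S.fromSpecResidueField s)).map ι[G] := rfl
  rw [h1]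
  exact ActBC.pullback_map_left_fst _ _

omit [GrpObj G] in
lemma Φ_fst_apply (s : S) (w : (GrpFib.fib G s ⊗ GrpFib.fib G s).left) :
    (fst G G).left.base ((Φ G s).base w) =
      (G.hom.fiberι s).base ((fst (GrpFib.fib G s) (GrpFib.fib G s)).left.base w) := by
  exact congrArg (fun ψ : (GrpFib.fib G s ⊗ GrpFib.fib G s).left ⟶ G.left => ψ.base w)
    (Φ_fst G s)

omit [GrpObj G] in
lemma Φ_snd_apply (s : S) (w : (GrpFib.fib G s ⊗ GrpFib.fib G s).left) :
    (snd G G).left.base ((Φ G s).base w) =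
      (G.hom.fiberι s).base ((snd (GrpFib.fib G s) (GrpFib.fib G s)).left.base w) := by
  exact congrArg (fun ψ : (GrpFib.fib G s ⊗ GrpFib.fib G s).left ⟶ G.left => ψ.base w)
    (Φ_snd G s)

lemma Φ_mul_apply (s : S) (w : (GrpFib.fib G s ⊗ GrpFib.fib G s).left) :
    μ[G].left.base ((Φ G s).base w) =
      (G.hom.fiberι s).base (μ[GrpFib.fib G s].left.base w) := by
  exact congrArg (fun ψ : (GrpFib.fib G s ⊗ GrpFib.fib G s).left ⟶ G.left => ψ.base w)
    (Φ_mul G s)

lemma fib_inv_apply (s : S) (v : (GrpFib.fib G s).left) :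
    (G.hom.fiberι s).base (ι[GrpFib.fib G s].left.base v) =
      ι[G].left.base ((G.hom.fiberι s).base v) := by
  exact congrArg (fun ψ : (GrpFib.fib G s).left ⟶ G.left => ψ.base v) (fib_inv G s)

/-- **Key lemma**: every point of the neutral component of a fibre is of the form `u · v⁻¹` with
`u`, `v` in any prescribed open neighbourhood of the unit point of the fibre. -/
theorem exists_mul_of_mem (s : S) (U : Set G.left) (hU : IsOpen U)
    (he : (GrpFib.unitSec G).base s ∈ U) (x : G.left)
    (hx : x ∈ connectedComponentIn (G.hom.base ⁻¹' {s}) ((GrpFib.unitSec G).base s)) :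
    ∃ w : (G ⊗ G).left, (fst G G).left.base w ∈ U ∧
      ι[G].left.base ((snd G G).left.base w) ∈ U ∧ μ[G].left.base w = x := by
  have ha := fiberι_ePt G s
  rw [Groth.Agent.H1.SecComp.connectedComponentIn_fibre_eq G.hom s _ _ ha] at hx
  obtain ⟨x', hx', rfl⟩ := hx
  have hx'' : x' ∈ Groth.Agent.H9.GZB.Z0 (GrpFib.fib G s) := by
    rw [← Groth.Agent.H9.GZB.connectedComponent_eq_Z0]; exact hx'
  have hU' : IsOpen ((G.hom.fiberι s).base ⁻¹' U) := hU.preimage (G.hom.fiberι s).continuous
  have he' : Groth.Agent.H9.GZA.ePt (GrpFib.fib G s) ∈ (G.hom.fiberι s).base ⁻¹' U := by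
    show (G.hom.fiberι s).base (Groth.Agent.H9.GZA.ePt (GrpFib.fib G s)) ∈ U
    rw [ha]; exact he
  obtain ⟨w', ⟨h1, ⟨u, hu, h2⟩⟩, h3⟩ :=
    Groth.Agent.H9.GZB.Z0_subset_star (GrpFib.fib G s) _ hU' he' hx''
  refine ⟨(Φ G s).base w', ?_, ?_, ?_⟩
  · rw [Φ_fst_apply]; exact h1
  · rw [Φ_snd_apply, ← h2, ← fib_inv_apply, Groth.Agent.H9.GZB.inv_inv_apply]; exact hu
  · rw [Φ_mul_apply, h3]

/-- a compact subset of a scheme is contained in a quasi-compact open subset -/
theorem exists_compact_open_superset {X : Scheme.{u}} (K : Set X) (hK : IsCompact K) :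
    ∃ U : X.Opens, IsCompact (U : Set X) ∧ K ⊆ U := by
  have hA : ∀ x : X, ∃ W : X.Opens, IsAffineOpen W ∧ x ∈ W := fun x => by
    obtain ⟨_, ⟨W, hW, rfl⟩, hxW, -⟩ :=
      X.isBasis_affineOpens.exists_subset_of_mem_open (Set.mem_univ x) isOpen_univ
    exact ⟨W, hW, hxW⟩
  choose A hAaff hAx using hA
  obtain ⟨t, -, ht⟩ := hK.elim_nhds_subcover (fun x => (A x : Set X))
    (fun x _ => (A x).isOpen.mem_nhds (hAx x))
  refine ⟨⟨⋃ x ∈ t, (A x : Set X), isOpen_biUnion (fun x _ => (A x).isOpen)⟩, ?_, ht⟩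
  exact t.isCompact_biUnion (fun x _ => (hAaff x).isCompact)

/-- SGA3 VI_B 3.4/3.5: over a quasi-compact quasi-separated base, `G⁰` is contained in a
quasi-compact open subset of `G`. -/
theorem s5323 [CompactSpace S] [QuasiSeparatedSpace S] :
    ∃ U : G.left.Opens, IsCompact (U : Set G.left) ∧ SGA3x.neutralSet G ⊆ U := by
  obtain ⟨U₀, hU₀c, hU₀⟩ := exists_compact_open_superset (Set.range (GrpFib.unitSec G).base)
    (isCompact_range (GrpFib.unitSec G).continuous)
  have hiso : IsIso ι[G].left := (inferInstance : IsIso ((Over.forget _).map ι[G]))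
  let U' : G.left.Opens := ι[G].left ⁻¹ᵁ U₀
  have hU'c : IsCompact (U' : Set G.left) :=
    QuasiCompact.isCompact_preimage (f := ι[G].left) _ U₀.isOpen hU₀c
  have : CompactSpace (U₀ : Scheme.{u}) := isCompact_iff_compactSpace.mp hU₀c
  have : CompactSpace (U' : Scheme.{u}) := isCompact_iff_compactSpace.mp hU'c
  let m := pullback.map (U₀.ι ≫ G.hom) (U'.ι ≫ G.hom) G.hom G.hom U₀.ι U'.ι (𝟙 S)
    (by simp) (by simp)
  have hr : Set.range m.base = (fst G G).left.base ⁻¹' (U₀ : Set G.left) ∩
      (snd G G).left.base ⁻¹' (U' : Set G.left) := by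
    rw [Over.fst_left, Over.snd_left]
    have := Scheme.Pullback.range_map (f := U₀.ι ≫ G.hom) (g := U'.ι ≫ G.hom) G.hom G.hom
      U₀.ι U'.ι (𝟙 S) (by simp) (by simp)
    rw [Scheme.Opens.range_ι, Scheme.Opens.range_ι] at this
    exact this
  have hWc : IsCompact (Set.range m.base) := isCompact_range m.continuous
  have hV₁ : IsCompact (μ[G].left.base '' Set.range m.base) := hWc.image μ[G].left.continuous
  obtain ⟨U, hUc, hU⟩ := exists_compact_open_superset _ hV₁
  refine ⟨U, hUc, fun x hx => hU ?_⟩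
  have hx' := (mem_neutralSet_iff G x).1 hx
  obtain ⟨w, h1, h2, h3⟩ :=
    exists_mul_of_mem G (G.hom.base x) U₀ U₀.isOpen (hU₀ ⟨_, rfl⟩) x hx'
  refine ⟨w, ?_, h3⟩
  rw [hr]
  exact ⟨h1, h2⟩

theorem neutralSet_eq_univ (hconn : ∀ s : S, _root_.IsConnected (G.hom.base ⁻¹' {s})) :
    SGA3x.neutralSet G = Set.univ := by
  ext x
  simp only [Set.mem_univ, iff_true]
  rw [mem_neutralSet_iff]
  have hx : x ∈ G.hom.base ⁻¹' {G.hom.base x} := rfl
  have he : (GrpFib.unitSec G).base (G.hom.base x) ∈ G.hom.base ⁻¹' {G.hom.base x} :=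
    GrpFib.hom_unitSec G _
  rw [(hconn (G.hom.base x)).isPreconnected.connectedComponentIn he]
  exact hx

/-- SGA3 VI_B 3.6: a group scheme with connected fibres is quasi-compact over the base. -/
theorem s5324 (hconn : ∀ s : S, _root_.IsConnected (G.hom.base ⁻¹' {s})) : QuasiCompact G.hom := by
  rw [quasiCompact_iff_forall_isAffineOpen]
  intro V hV
  have : IsAffine (V : Scheme.{u}) := hV
  obtain ⟨U, hUc, hU⟩ := s5323 (Red.bc V.ι G)
  rw [GrpNeut.s5322, neutralSet_eq_univ G hconn, Set.preimage_univ] at hU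
  have hUuniv : (U : Set (Red.bc V.ι G).left) = Set.univ := Set.eq_univ_of_univ_subset hU
  have hc : CompactSpace ↥(pullback G.hom V.ι) := ⟨hUuniv ▸ hUc⟩
  have hr : ((G.hom ⁻¹ᵁ V : G.left.Opens) : Set G.left) =
      Set.range (pullback.fst G.hom V.ι).base := by
    rw [Scheme.Pullback.range_fst, Scheme.Opens.range_ι]; rfl
  rw [hr]
  exact isCompact_range (pullback.fst G.hom V.ι).continuous

/-- SGA3 VI_B 3.? : an open subgroup scheme contains `G⁰`, and `G⁰ = i(H⁰)`. -/
theorem s5327 (H : Over S) [GrpObj H] (i : H ⟶ G) [IsMonHom i] [IsOpenImmersion i.left] :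
    SGA3x.neutralSet G ⊆ Set.range i.left.base ∧
      i.left.base '' SGA3x.neutralSet H = SGA3x.neutralSet G := by
  have hunit : ∀ s : S, i.left.base ((GrpFib.unitSec H).base s) = (GrpFib.unitSec G).base s := by
    intro s
    have h : η[H] ≫ i = η[G] := IsMonHom.one_hom i
    have h' : η[H].left ≫ i.left = η[G].left := by rw [← Over.comp_left, h]
    rw [← Scheme.Hom.comp_apply, h']
  have hhom : ∀ y : H.left, G.hom.base (i.left.base y) = H.hom.base y := by
    intro y
    rw [← Scheme.Hom.comp_apply, Over.w i]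
  have hopen : IsOpen (Set.range i.left.base) := i.left.isOpenEmbedding.isOpen_range
  have hA : SGA3x.neutralSet G ⊆ Set.range i.left.base := by
    intro x hx
    have hx' := (mem_neutralSet_iff G x).1 hx
    obtain ⟨w, h1, h2, h3⟩ := exists_mul_of_mem G (G.hom.base x) _ hopen ⟨_, hunit _⟩ x hx'
    have h2' : (snd G G).left.base w ∈ Set.range i.left.base := by
      obtain ⟨b, hb⟩ := h2
      refine ⟨ι[H].left.base b, ?_⟩
      have hinv : ι[H].left ≫ i.left = i.left ≫ ι[G].left := by
        rw [← Over.comp_left, GrpObj.inv_hom, Over.comp_left]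
      rw [← Scheme.Hom.comp_apply, hinv, Scheme.Hom.comp_apply, hb, inv_inv_apply]
    have hw : w ∈ Set.range (i ⊗ₘ i).left.base := by
      rw [Over.tensorHom_left, Scheme.Pullback.range_map]
      exact ⟨h1, h2'⟩
    obtain ⟨w', rfl⟩ := hw
    refine ⟨μ[H].left.base w', ?_⟩
    have hmul : μ[H].left ≫ i.left = (i ⊗ₘ i).left ≫ μ[G].left := by
      rw [← Over.comp_left, IsMonHom.mul_hom, Over.comp_left]
    rw [← Scheme.Hom.comp_apply, hmul, Scheme.Hom.comp_apply, h3]
  refine ⟨hA, ?_⟩
  apply Set.Subset.antisymm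
  · rintro _ ⟨y, hy, rfl⟩
    rw [mem_neutralSet_iff] at hy ⊢
    rw [hhom, ← hunit]
    have hpre : _root_.IsPreconnected (i.left.base '' connectedComponentIn
        (H.hom.base ⁻¹' {H.hom.base y}) ((GrpFib.unitSec H).base (H.hom.base y))) :=
      isPreconnected_connectedComponentIn.image _ i.left.continuous.continuousOn
    refine hpre.subset_connectedComponentIn ⟨_, mem_connectedComponentIn ?_, rfl⟩ ?_ ⟨y, hy, rfl⟩
    · exact GrpFib.hom_unitSec H _
    · rintro _ ⟨z, hz, rfl⟩
      have hz' : z ∈ H.hom.base ⁻¹' {H.hom.base y} := connectedComponentIn_subset _ _ hz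
      show G.hom.base (i.left.base z) = _
      rw [hhom]; exact hz'
  · intro x hx
    obtain ⟨y, rfl⟩ := hA hx
    refine ⟨y, ?_, rfl⟩
    rw [mem_neutralSet_iff] at hx ⊢
    rw [hhom, ← hunit] at hx
    have hCsub : connectedComponentIn (G.hom.base ⁻¹' {H.hom.base y})
        (i.left.base ((GrpFib.unitSec H).base (H.hom.base y))) ⊆ Set.range i.left.base := by
      intro c hc
      apply hA
      rw [mem_neutralSet_iff]
      have hcs' : c ∈ G.hom.base ⁻¹' {H.hom.base y} := connectedComponentIn_subset _ _ hc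
      have hcs : G.hom.base c = H.hom.base y := hcs'
      rw [hcs, ← hunit]; exact hc
    have hpre : _root_.IsPreconnected (i.left.base ⁻¹' connectedComponentIn
        (G.hom.base ⁻¹' {H.hom.base y})
        (i.left.base ((GrpFib.unitSec H).base (H.hom.base y)))) := by
      rw [← i.left.isOpenEmbedding.isInducing.isPreconnected_image,
        Set.image_preimage_eq_of_subset hCsub]
      exact isPreconnected_connectedComponentIn
    refine hpre.subset_connectedComponentIn ?_ ?_ hx
    · rw [Set.mem_preimage]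
      refine mem_connectedComponentIn ?_
      show G.hom.base (i.left.base _) = _
      rw [hhom]; exact GrpFib.hom_unitSec H _
    · intro z hz
      have hz' : i.left.base z ∈ G.hom.base ⁻¹' {H.hom.base y} :=
        connectedComponentIn_subset _ _ hz
      show H.hom.base z = _
      rw [← hhom]; exact hz'

end Groth.Agent.H1.GrpNeutB
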