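import Mathlib
import Groth.Prelude.Def_AlgGrp
import Groth.Prelude.Def_SGA3x
import Groth.Agent.Lib.Helper1.GrpNeutB
import Groth.Agent.Lib.Helper1.GIrrO
import Groth.Agent.Lib.Helper9.Misc.GSE0

/-! The union `G⁰` of the neutral components of the fibres of a group scheme, III (helper1):
`G⁰` is stable under multiplication, inversion and conjugation by arbitrary points
(pointwise statements on `G ×_S G`); SGA3 VI_A 2.3 for local artinian bases. -/

set_option autoImplicit false
set_option linter.style.haveILetI false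
universe u

namespace Groth.Agent.H1.GrpNeutC

open CategoryTheory CategoryTheory.Limits MonoidalCategory CartesianMonoidalCategory MonObj GrpObj
  AlgebraicGeometry IsLocalRing Groth.Agent.H1.GrpNeutB Groth.Agent.H9.GSA

variable {S : Scheme.{u}} (G : Over S) [GrpObj G]

theorem inter_fibre_eq (s : S) :
    SGA3x.neutralSet G ∩ G.hom.base ⁻¹' {s} =
      (G.hom.fiberι s).base '' Groth.Agent.H9.GZB.Z0 (GrpFib.fib G s) := by
  ext x
  rw [GrpUO.neutralSet_inter_fibre,
    Groth.Agent.H1.SecComp.connectedComponentIn_fibre_eq G.hom s _ _ (fiberι_ePt G s)]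
  constructor
  · rintro ⟨x', hx', rfl⟩
    exact ⟨x', by rw [← Groth.Agent.H9.GZB.connectedComponent_eq_Z0]; exact hx', rfl⟩
  · rintro ⟨x', hx', rfl⟩
    have : x' ∈ connectedComponent (Groth.Agent.H9.GZA.ePt (GrpFib.fib G s)) := by
      rw [Groth.Agent.H9.GZB.connectedComponent_eq_Z0]; exact hx'
    exact ⟨x', this, rfl⟩

theorem fiberι_mem_iff (s : S) (x' : (GrpFib.fib G s).left) :
    (G.hom.fiberι s).base x' ∈ SGA3x.neutralSet G ↔
      x' ∈ Groth.Agent.H9.GZB.Z0 (GrpFib.fib G s) := by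
  constructor
  · intro h
    have h2 : (G.hom.fiberι s).base x' ∈ SGA3x.neutralSet G ∩ G.hom.base ⁻¹' {s} :=
      ⟨h, Groth.Agent.H1.ValDim.base_fiberι G.hom s x'⟩
    rw [inter_fibre_eq] at h2
    obtain ⟨x'', hx'', he⟩ := h2
    have : x'' = x' := (G.hom.fiberι s).isEmbedding.injective he
    rw [← this]; exact hx''
  · intro h
    have h2 : (G.hom.fiberι s).base x' ∈ SGA3x.neutralSet G ∩ G.hom.base ⁻¹' {s} := by
      rw [inter_fibre_eq]; exact ⟨x', h, rfl⟩
    exact h2.1

theorem surj_of_isIso {X Y : Scheme.{u}} (f : X ⟶ Y) [IsIso f] (y : Y) : ∃ x, f.base x = y :=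
  ⟨(inv f).base y, by rw [← Scheme.Hom.comp_apply, IsIso.inv_hom_id]; rfl⟩

omit [GrpObj G] in
theorem hom_tensor (w : (G ⊗ G).left) :
    (G ⊗ G).hom.base w = G.hom.base ((fst G G).left.base w) := by
  have e1 : (G ⊗ G).hom = (fst G G).left ≫ G.hom := (Over.w (fst G G)).symm
  rw [e1]; rfl

omit [GrpObj G] in
theorem exists_Φ_eq (s : S) (w : (G ⊗ G).left) (hw : (G ⊗ G).hom.base w = s) :
    ∃ w' : (GrpFib.fib G s ⊗ GrpFib.fib G s).left, (Φ G s).base w' = w := by
  have h1 : w ∈ Set.range (pullback.fst (G ⊗ G).hom (S.fromSpecResidueField s)).base := by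
    rw [Scheme.Pullback.range_fst, Scheme.range_fromSpecResidueField]
    exact hw
  obtain ⟨v, rfl⟩ := h1
  have hiso : IsIso (Functor.LaxMonoidal.μ (Over.pullback (S.fromSpecResidueField s)) G G).left :=
    (inferInstance : IsIso ((Over.forget _).map
      (Functor.LaxMonoidal.μ (Over.pullback (S.fromSpecResidueField s)) G G)))
  obtain ⟨w', hw'⟩ := surj_of_isIso
    (Functor.LaxMonoidal.μ (Over.pullback (S.fromSpecResidueField s)) G G).left v
  refine ⟨w', ?_⟩
  show (pullback.fst (G ⊗ G).hom (S.fromSpecResidueField s)).base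
    ((Functor.LaxMonoidal.μ (Over.pullback (S.fromSpecResidueField s)) G G).left.base w') = _
  rw [hw']

/-- **Geometric connectedness of the neutral component**: the slice `{x} × G⁰` of `G ×_S G`
is preconnected. -/
theorem isPreconnected_slice' (s : S) (x' : (GrpFib.fib G s).left) :
    _root_.IsPreconnected ((fst G G).left.base ⁻¹' {(G.hom.fiberι s).base x'} ∩
      (snd G G).left.base ⁻¹' SGA3x.neutralSet G) := by
  let ψ : (ptT (GrpFib.fib G s) x' ⊗ GrpFib.fib G s).left → (G ⊗ G).left :=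
    fun p => (Φ G s).base ((ptHom (GrpFib.fib G s) x' ▷ GrpFib.fib G s).left.base p)
  have hψ : Continuous ψ :=
    (Φ G s).continuous.comp (ptHom (GrpFib.fib G s) x' ▷ GrpFib.fib G s).left.continuous
  have hE : _root_.IsPreconnected ((snd (ptT (GrpFib.fib G s) x') (GrpFib.fib G s)).left.base ⁻¹'
      Groth.Agent.H9.GZB.Z0 (GrpFib.fib G s)) := by
    rw [← (Groth.Agent.H9.GZB.omega_spec (GrpFib.fib G s) x').def]
    exact isIrreducible_singleton.closure.isConnected.isPreconnected
  have hset : (fst G G).left.base ⁻¹' {(G.hom.fiberι s).base x'} ∩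
      (snd G G).left.base ⁻¹' SGA3x.neutralSet G =
      ψ '' ((snd (ptT (GrpFib.fib G s) x') (GrpFib.fib G s)).left.base ⁻¹'
        Groth.Agent.H9.GZB.Z0 (GrpFib.fib G s)) := by
    ext w
    constructor
    · rintro ⟨h1, h2⟩
      have h1' : (fst G G).left.base w = (G.hom.fiberι s).base x' := h1
      have hw : (G ⊗ G).hom.base w = s := by
        rw [hom_tensor, h1']
        exact Groth.Agent.H1.ValDim.base_fiberι G.hom s x'
      obtain ⟨w', rfl⟩ := exists_Φ_eq G s w hw
      have h1'' : (fst (GrpFib.fib G s) (GrpFib.fib G s)).left.base w' = x' := by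
        apply (G.hom.fiberι s).isEmbedding.injective
        rw [← Φ_fst_apply]; exact h1'
      obtain ⟨p, rfl⟩ := Groth.Agent.H9.GSD.exists_lift_left (GrpFib.fib G s) x' w' h1''
      refine ⟨p, ?_, rfl⟩
      show (snd (ptT (GrpFib.fib G s) x') (GrpFib.fib G s)).left.base p ∈
        Groth.Agent.H9.GZB.Z0 (GrpFib.fib G s)
      rw [← Groth.Agent.H9.GZB.snd_whisker, ← fiberι_mem_iff, ← Φ_snd_apply]
      exact h2
    · rintro ⟨p, hp, rfl⟩
      refine ⟨?_, ?_⟩
      · show (fst G G).left.base ((Φ G s).base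
          ((ptHom (GrpFib.fib G s) x' ▷ GrpFib.fib G s).left.base p)) = _
        rw [Φ_fst_apply, Groth.Agent.H9.GZB.fst_whisker]
      · show (snd G G).left.base ((Φ G s).base
          ((ptHom (GrpFib.fib G s) x' ▷ GrpFib.fib G s).left.base p)) ∈ SGA3x.neutralSet G
        rw [Φ_snd_apply, Groth.Agent.H9.GZB.snd_whisker, fiberι_mem_iff]
        exact hp
  rw [hset]
  exact hE.image ψ hψ.continuousOn

theorem isPreconnected_slice (x : G.left) :
    _root_.IsPreconnected ((fst G G).left.base ⁻¹' {x} ∩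
      (snd G G).left.base ⁻¹' SGA3x.neutralSet G) := by
  have hx : x ∈ Set.range (G.hom.fiberι (G.hom.base x)).base := by
    rw [Scheme.Hom.range_fiberι]; rfl
  obtain ⟨x', hx'⟩ := hx
  have := isPreconnected_slice' G (G.hom.base x) x'
  rw [hx'] at this
  exact this

/-- the point `(x, e)` of `G ×_S G` -/
noncomputable def pt1 (x : G.left) : (G ⊗ G).left :=
  (lift (𝟙 G) (toUnit G ≫ η[G])).left.base x

theorem fst_pt1 (x : G.left) : (fst G G).left.base (pt1 G x) = x := by
  show (fst G G).left.base ((lift (𝟙 G) (toUnit G ≫ η[G])).left.base x) = x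
  rw [← Scheme.Hom.comp_apply, ← Over.comp_left, lift_fst]
  rfl

theorem snd_pt1 (x : G.left) :
    (snd G G).left.base (pt1 G x) = (GrpFib.unitSec G).base (G.hom.base x) := by
  show (snd G G).left.base ((lift (𝟙 G) (toUnit G ≫ η[G])).left.base x) = _
  rw [← Scheme.Hom.comp_apply, ← Over.comp_left, lift_snd, Over.comp_left,
    Scheme.Hom.comp_apply]
  rfl

theorem mul_pt1 (x : G.left) : μ[G].left.base (pt1 G x) = x := by
  show μ[G].left.base ((lift (𝟙 G) (toUnit G ≫ η[G])).left.base x) = x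
  rw [← Scheme.Hom.comp_apply, ← Over.comp_left, MonObj.lift_comp_one_right]
  rfl

theorem conj_pt1 (x : G.left) :
    (GrpObj.conj G).left.base (pt1 G x) = (GrpFib.unitSec G).base (G.hom.base x) := by
  show (GrpObj.conj G).left.base ((lift (𝟙 G) (toUnit G ≫ η[G])).left.base x) = _
  have h : lift (𝟙 G) (toUnit G ≫ η[G]) ≫ GrpObj.conj G = toUnit G ≫ η[G] := by
    rw [GrpObj.lift_conj_eq_mul_mul_inv, ← Hom.one_def, _root_.mul_one, _root_.mul_inv_cancel]
  rw [← Scheme.Hom.comp_apply, ← Over.comp_left, h, Over.comp_left, Scheme.Hom.comp_apply]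
  rfl

theorem unitSec_mem (s : S) : (GrpFib.unitSec G).base s ∈ SGA3x.neutralSet G := by
  have h : (GrpFib.unitSec G).base s ∈ SGA3x.neutralSet G ∩ G.hom.base ⁻¹' {s} := by
    rw [GrpUO.neutralSet_inter_fibre]
    exact mem_connectedComponentIn
      (show (GrpFib.unitSec G).base s ∈ G.hom.base ⁻¹' {s} from GrpFib.hom_unitSec G s)
  exact h.1

theorem pt1_mem (x : G.left) : pt1 G x ∈ (fst G G).left.base ⁻¹' {x} ∩
    (snd G G).left.base ⁻¹' SGA3x.neutralSet G := by
  refine ⟨fst_pt1 G x, ?_⟩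
  rw [Set.mem_preimage, snd_pt1]
  exact unitSec_mem G _

/-- a preconnected subset of a fibre of `G` meeting `G⁰` lies in `G⁰` -/
theorem subset_neutralSet_of_isPreconnected (s : S) (T : Set G.left) (hT : _root_.IsPreconnected T)
    (hTs : T ⊆ G.hom.base ⁻¹' {s}) (y : G.left) (hyT : y ∈ T) (hy : y ∈ SGA3x.neutralSet G) :
    T ⊆ SGA3x.neutralSet G := by
  have hy' : y ∈ connectedComponentIn (G.hom.base ⁻¹' {s}) ((GrpFib.unitSec G).base s) := by
    rw [← GrpUO.neutralSet_inter_fibre]; exact ⟨hy, hTs hyT⟩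
  have h1 : connectedComponentIn (G.hom.base ⁻¹' {s}) y =
      connectedComponentIn (G.hom.base ⁻¹' {s}) ((GrpFib.unitSec G).base s) :=
    (connectedComponentIn_eq hy').symm
  have h2 : T ⊆ connectedComponentIn (G.hom.base ⁻¹' {s}) y :=
    hT.subset_connectedComponentIn hyT hTs
  intro t ht
  have h3 : t ∈ SGA3x.neutralSet G ∩ G.hom.base ⁻¹' {s} := by
    rw [GrpUO.neutralSet_inter_fibre, ← h1]; exact h2 ht
  exact h3.1

theorem mul_mem (w : (G ⊗ G).left) (h1 : (fst G G).left.base w ∈ SGA3x.neutralSet G)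
    (h2 : (snd G G).left.base w ∈ SGA3x.neutralSet G) :
    μ[G].left.base w ∈ SGA3x.neutralSet G := by
  set x := (fst G G).left.base w with hx
  have hpre := (isPreconnected_slice G x).image μ[G].left.base μ[G].left.continuous.continuousOn
  have hsub : μ[G].left.base '' ((fst G G).left.base ⁻¹' {x} ∩
      (snd G G).left.base ⁻¹' SGA3x.neutralSet G) ⊆ G.hom.base ⁻¹' {G.hom.base x} := by
    rintro _ ⟨z, ⟨hz1, -⟩, rfl⟩
    have hz1' : (fst G G).left.base z = x := hz1
    show G.hom.base (μ[G].left.base z) = G.hom.base x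
    rw [← hz1', ← hom_tensor, ← Scheme.Hom.comp_apply, Over.w μ[G]]
  exact subset_neutralSet_of_isPreconnected G _ _ hpre hsub x
    ⟨pt1 G x, pt1_mem G x, mul_pt1 G x⟩ h1 ⟨w, ⟨rfl, h2⟩, rfl⟩

theorem conj_mem (w : (G ⊗ G).left) (h2 : (snd G G).left.base w ∈ SGA3x.neutralSet G) :
    (GrpObj.conj G).left.base w ∈ SGA3x.neutralSet G := by
  set x := (fst G G).left.base w with hx
  have hpre := (isPreconnected_slice G x).image (GrpObj.conj G).left.base
    (GrpObj.conj G).left.continuous.continuousOn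
  have hsub : (GrpObj.conj G).left.base '' ((fst G G).left.base ⁻¹' {x} ∩
      (snd G G).left.base ⁻¹' SGA3x.neutralSet G) ⊆ G.hom.base ⁻¹' {G.hom.base x} := by
    rintro _ ⟨z, ⟨hz1, -⟩, rfl⟩
    have hz1' : (fst G G).left.base z = x := hz1
    show G.hom.base ((GrpObj.conj G).left.base z) = G.hom.base x
    rw [← hz1', ← hom_tensor, ← Scheme.Hom.comp_apply, Over.w (GrpObj.conj G)]
  exact subset_neutralSet_of_isPreconnected G _ _ hpre hsub _
    ⟨pt1 G x, pt1_mem G x, conj_pt1 G x⟩ (unitSec_mem G _) ⟨w, ⟨rfl, h2⟩, rfl⟩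

theorem inv_mem (x : G.left) (h : x ∈ SGA3x.neutralSet G) :
    ι[G].left.base x ∈ SGA3x.neutralSet G := by
  set s := G.hom.base x with hs
  have hx : x ∈ connectedComponentIn (G.hom.base ⁻¹' {s}) ((GrpFib.unitSec G).base s) :=
    (mem_neutralSet_iff G x).1 h
  have hpre := (isPreconnected_connectedComponentIn (F := G.hom.base ⁻¹' {s})
    (x := (GrpFib.unitSec G).base s)).image ι[G].left.base ι[G].left.continuous.continuousOn
  have hsub : ι[G].left.base '' connectedComponentIn (G.hom.base ⁻¹' {s})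
      ((GrpFib.unitSec G).base s) ⊆ G.hom.base ⁻¹' {s} := by
    rintro _ ⟨z, hz, rfl⟩
    have hz' : z ∈ G.hom.base ⁻¹' {s} := connectedComponentIn_subset _ _ hz
    show G.hom.base (ι[G].left.base z) = s
    rw [← Scheme.Hom.comp_apply, Over.w ι[G]]
    exact hz'
  have hone : ι[G].left.base ((GrpFib.unitSec G).base s) = (GrpFib.unitSec G).base s := by
    show ι[G].left.base (η[G].left.base s) = η[G].left.base s
    rw [← Scheme.Hom.comp_apply, ← Over.comp_left, GrpObj.one_inv]
  exact subset_neutralSet_of_isPreconnected G s _ hpre hsub _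
    ⟨_, mem_connectedComponentIn (GrpFib.hom_unitSec G s), hone⟩ (unitSec_mem G s)
    ⟨x, hx, rfl⟩

end Groth.Agent.H1.GrpNeutC
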