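import Mathlib
import Groth.Prelude.Def_ProCons
import Groth.Agent.Lib.Helper1.GrpNeutC
import Groth.Agent.Lib.Helper1.GIrrN
import Groth.Agent.Lib.Helper1.CritFib2
import Groth.Agent.Lib.Helper1.GrpFibHom

/-! SGA3 VI_B 3.x: `G⁰` is ind-constructible; constructible / locally constructible when `G` is
quasi-separated over `S` (helper1). -/

set_option autoImplicit false
universe u

namespace Groth.Agent.H1.GrpICons

open CategoryTheory CategoryTheory.Limits MonoidalCategory CartesianMonoidalCategory MonObj GrpObj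
  AlgebraicGeometry Topology
open scoped Set.Notation

theorem exists_affineOpen_between {X : Scheme.{u}} (x : X) (O : Set X) (hO : IsOpen O)
    (hx : x ∈ O) : ∃ W : X.Opens, IsAffineOpen W ∧ x ∈ W ∧ (W : Set X) ⊆ O := by
  obtain ⟨_, ⟨W, hW, rfl⟩, hxW, hWO⟩ := X.isBasis_affineOpens.exists_subset_of_mem_open hx hO
  exact ⟨W, hW, hxW, hWO⟩

/-- a compact subset of an open subset of a scheme is contained in a quasi-compact open subset
of that open subset. -/
theorem exists_compact_open_between {X : Scheme.{u}} (K O : Set X) (hK : IsCompact K)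
    (hO : IsOpen O) (hKO : K ⊆ O) :
    ∃ U : X.Opens, IsCompact (U : Set X) ∧ K ⊆ U ∧ (U : Set X) ⊆ O := by
  classical
  have hA : ∀ x : X, ∃ W : X.Opens, IsCompact (W : Set X) ∧ (x ∈ O → x ∈ W) ∧
      (W : Set X) ⊆ O := fun x => by
    by_cases hx : x ∈ O
    · obtain ⟨_, ⟨W, hW, rfl⟩, hxW, hWO⟩ :=
        X.isBasis_affineOpens.exists_subset_of_mem_open hx hO
      exact ⟨W, hW.isCompact, fun _ => hxW, hWO⟩
    · exact ⟨⊥, by simp, fun h => absurd h hx, by simp⟩
  choose A hAc hAx hAO using hA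
  obtain ⟨t, -, ht⟩ := hK.elim_nhds_subcover (fun x => (A x : Set X))
    (fun x hx => (A x).isOpen.mem_nhds (hAx x (hKO hx)))
  refine ⟨⟨⋃ x ∈ t, (A x : Set X), isOpen_biUnion (fun x _ => (A x).isOpen)⟩, ?_, ht, ?_⟩
  · exact t.isCompact_biUnion (fun x _ => hAc x)
  · exact Set.iUnion₂_subset (fun x _ => hAO x)

/-- the connected component of a point in a fibre of a morphism locally of finite type is the
trace on the fibre of an open subset. -/
theorem exists_open_inter_fibre {X Y : Scheme.{u}} (f : X ⟶ Y) [LocallyOfFiniteType f] (y : Y)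
    (x : X) (hx : f.base x = y) :
    ∃ O : Set X, IsOpen O ∧
      O ∩ f.base ⁻¹' {y} = connectedComponentIn (f.base ⁻¹' {y}) x := by
  obtain ⟨a, ha⟩ := GrpFibHom.exists_fiberι_eq f x y hx
  haveI : LocallyOfFiniteType (f.fiberToSpecResidueField y) :=
    MorphismProperty.pullback_snd _ _ inferInstance
  haveI : IsLocallyNoetherian (f.fiber y) :=
    LocallyOfFiniteType.isLocallyNoetherian (f.fiberToSpecResidueField y)
  haveI := Groth.Agent.H1.GIrr.locallyConnectedSpace_of_isLocallyNoetherian (f.fiber y)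
  have hop : IsOpen (connectedComponent a) := isOpen_connectedComponent
  obtain ⟨O, hO, hOe⟩ := (f.fiberι y).isEmbedding.isInducing.isOpen_iff.1 hop
  refine ⟨O, hO, ?_⟩
  rw [Groth.Agent.H1.SecComp.connectedComponentIn_fibre_eq f y x a ha]
  ext b
  constructor
  · rintro ⟨hbO, hby⟩
    obtain ⟨b', rfl⟩ := GrpFibHom.exists_fiberι_eq f b y hby
    have : b' ∈ (f.fiberι y).base ⁻¹' O := hbO
    rw [hOe] at this
    exact ⟨b', this, rfl⟩
  · rintro ⟨b', hb', rfl⟩
    refine ⟨?_, Groth.Agent.H1.ValDim.base_fiberι f y b'⟩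
    have : b' ∈ (f.fiberι y).base ⁻¹' O := by rw [hOe]; exact hb'
    exact this

variable {S : Scheme.{u}} (G : Over S) [GrpObj G]

/-- Local structure of `G⁰`: near every point of `S`, `G⁰` is the image of a constructible subset
of a quasi-compact scheme under a morphism locally of finite presentation. -/
theorem local_data [LocallyOfFinitePresentation G.hom] (s : S) :
    ∃ (V : S.Opens) (P : Scheme.{u}) (m : P ⟶ G.left) (D : Set P),
      s ∈ V ∧ IsAffineOpen V ∧ CompactSpace P ∧ LocallyOfFinitePresentation m ∧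
      IsConstructible D ∧ (∀ z : P, G.hom.base (m.base z) ∈ V) ∧
      m.base '' D = SGA3x.neutralSet G ∩ G.hom.base ⁻¹' (V : Set S) := by
  classical
  have hes : GrpFib.unitSec G ≫ G.hom = 𝟙 S := GrpFib.unitSec_comp G
  obtain ⟨U₁, hU₁, hsU₁, -⟩ := exists_affineOpen_between ((GrpFib.unitSec G).base s) Set.univ
    isOpen_univ (Set.mem_univ _)
  obtain ⟨V, hV, hsV, hVU⟩ := exists_affineOpen_between s ((GrpFib.unitSec G) ⁻¹ᵁ U₁ : Set S)
    ((GrpFib.unitSec G) ⁻¹ᵁ U₁).isOpen hsU₁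
  obtain ⟨U₀, hU₀c, hVU₀, hU₀s⟩ := exists_compact_open_between
    ((GrpFib.unitSec G).base '' (V : Set S))
    ((U₁ : Set G.left) ∩ G.hom.base ⁻¹' (V : Set S)) (hV.isCompact.image (GrpFib.unitSec G).continuous)
    (U₁.isOpen.inter (V.isOpen.preimage G.hom.continuous)) (by
      rintro _ ⟨v, hv, rfl⟩
      refine ⟨hVU hv, ?_⟩
      show G.hom.base ((GrpFib.unitSec G).base v) ∈ (V : Set S)
      rw [GrpFib.hom_unitSec]; exact hv)
  haveI : IsAffine (V : Scheme.{u}) := hV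
  haveI : CompactSpace (U₀ : Scheme.{u}) := isCompact_iff_compactSpace.mp hU₀c
  haveI : QuasiSeparatedSpace (U₀ : Scheme.{u}) :=
    (isQuasiSeparated_iff_quasiSeparatedSpace _ U₀.isOpen).1
      (hU₁.isQuasiSeparated.of_subset (fun x hx => (hU₀s hx).1))
  let f₀ : (U₀ : Scheme.{u}) ⟶ V := IsOpenImmersion.lift V.ι (U₀.ι ≫ G.hom) (by
    rw [Scheme.Opens.range_ι]
    rintro _ ⟨a, rfl⟩
    exact (hU₀s a.2).2)
  have hf₀ : f₀ ≫ V.ι = U₀.ι ≫ G.hom := IsOpenImmersion.lift_fac _ _ _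
  let e₀ : (V : Scheme.{u}) ⟶ U₀ := IsOpenImmersion.lift U₀.ι (V.ι ≫ GrpFib.unitSec G) (by
    rw [Scheme.Opens.range_ι]
    rintro _ ⟨v, rfl⟩
    exact hVU₀ ⟨v.1, v.2, rfl⟩)
  have he₀ : e₀ ≫ U₀.ι = V.ι ≫ GrpFib.unitSec G := IsOpenImmersion.lift_fac _ _ _
  have he₀f₀ : e₀ ≫ f₀ = 𝟙 _ := by
    rw [← cancel_mono V.ι, Category.assoc, hf₀, ← Category.assoc, he₀, Category.assoc, hes,
      Category.comp_id, Category.id_comp]
  haveI : LocallyOfFinitePresentation (f₀ ≫ V.ι) := by rw [hf₀]; infer_instance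
  haveI : LocallyOfFinitePresentation f₀ :=
    Groth.Agent.H1.CritFib.locallyOfFinitePresentation_of_comp f₀ V.ι
  haveI : QuasiSeparated f₀ := (quasiSeparated_iff_quasiSeparatedSpace f₀).2 inferInstance
  have hC₀ : IsConstructible (MoreMor.sectionComponents f₀ e₀) :=
    (Groth.Agent.H1.GIrr.main1326 f₀ e₀ he₀f₀).isConstructible
  have hGv : ∀ z : (U₀ : Scheme.{u}), G.hom.base (U₀.ι.base z) = V.ι.base (f₀.base z) := fun z =>
    (congrArg (fun ψ : (U₀ : Scheme.{u}) ⟶ S => ψ.base z) hf₀).symm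
  have hev : ∀ v : (V : Scheme.{u}), U₀.ι.base (e₀.base v) = (GrpFib.unitSec G).base (V.ι.base v) := fun v =>
    congrArg (fun ψ : (V : Scheme.{u}) ⟶ G.left => ψ.base v) he₀
  have hmem : ∀ v : (V : Scheme.{u}), e₀.base v ∈ f₀.base ⁻¹' {v} := fun v =>
    congrArg (fun ψ : (V : Scheme.{u}) ⟶ V => ψ.base v) he₀f₀
  -- F1
  have F1 : ∀ c ∈ MoreMor.sectionComponents f₀ e₀, U₀.ι.base c ∈ SGA3x.neutralSet G := by
    intro c hc
    rw [GrpNeutB.mem_neutralSet_iff]
    have hc' : c ∈ connectedComponentIn (f₀.base ⁻¹' {f₀.base c}) (e₀.base (f₀.base c)) := hc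
    obtain ⟨v, hv⟩ : ∃ v, f₀.base c = v := ⟨_, rfl⟩
    rw [hv] at hc'
    have hpre := (isPreconnected_connectedComponentIn (F := f₀.base ⁻¹' {v})
      (x := e₀.base v)).image U₀.ι.base U₀.ι.continuous.continuousOn
    have hsub : U₀.ι.base '' connectedComponentIn (f₀.base ⁻¹' {v}) (e₀.base v) ⊆
        G.hom.base ⁻¹' {G.hom.base (U₀.ι.base c)} := by
      rintro _ ⟨z, hz, rfl⟩
      have hz'' : z ∈ f₀.base ⁻¹' {v} := connectedComponentIn_subset _ _ hz
      have hz' : f₀.base z = v := hz''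
      show G.hom.base (U₀.ι.base z) = G.hom.base (U₀.ι.base c)
      rw [hGv, hGv, hz', hv]
    have h3 := hpre.subset_connectedComponentIn (x := U₀.ι.base (e₀.base v))
      ⟨_, mem_connectedComponentIn (hmem v), rfl⟩ hsub
    have h4 : U₀.ι.base (e₀.base v) =
        (GrpFib.unitSec G).base (G.hom.base (U₀.ι.base c)) := by
      rw [hGv, hv]; exact hev v
    rw [h4] at h3
    exact h3 ⟨c, hc', rfl⟩
  -- F2
  have F2 : ∀ v : (V : Scheme.{u}), ∃ O₀ : Set (U₀ : Scheme.{u}), IsOpen O₀ ∧ e₀.base v ∈ O₀ ∧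
      ∀ a ∈ O₀, f₀.base a = v → a ∈ MoreMor.sectionComponents f₀ e₀ := by
    intro v
    obtain ⟨O, hO, hOeq⟩ := exists_open_inter_fibre f₀ v (e₀.base v) (hmem v)
    refine ⟨O, hO, ?_, ?_⟩
    · have : e₀.base v ∈ O ∩ f₀.base ⁻¹' {v} := by
        rw [hOeq]; exact mem_connectedComponentIn (hmem v)
      exact this.1
    · intro a ha hav
      have h1 : a ∈ O ∩ f₀.base ⁻¹' {v} := ⟨ha, hav⟩
      rw [hOeq] at h1
      show a ∈ connectedComponentIn (f₀.base ⁻¹' {f₀.base a}) (e₀.base (f₀.base a))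
      rw [hav]; exact h1
  -- the scheme `P`
  have hiso : IsIso ι[G].left := (inferInstance : IsIso ((Over.forget _).map ι[G]))
  let U₀' : G.left.Opens := ι[G].left ⁻¹ᵁ U₀
  have hU₀'c : IsCompact (U₀' : Set G.left) :=
    QuasiCompact.isCompact_preimage (f := ι[G].left) _ U₀.isOpen hU₀c
  haveI : CompactSpace (U₀' : Scheme.{u}) := isCompact_iff_compactSpace.mp hU₀'c
  have hGι : ∀ a : G.left, G.hom.base (ι[G].left.base a) = G.hom.base a := fun a =>
    congrArg (fun ψ : G.left ⟶ S => ψ.base a) (Over.w ι[G])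
  let f₀' : (U₀' : Scheme.{u}) ⟶ V := IsOpenImmersion.lift V.ι (U₀'.ι ≫ G.hom) (by
    rw [Scheme.Opens.range_ι]
    rintro _ ⟨a, rfl⟩
    have h1 : G.hom.base (ι[G].left.base a.1) ∈ (V : Set S) := (hU₀s a.2).2
    rw [hGι] at h1; exact h1)
  have hf₀' : f₀' ≫ V.ι = U₀'.ι ≫ G.hom := IsOpenImmersion.lift_fac _ _ _
  haveI : LocallyOfFinitePresentation (f₀' ≫ V.ι) := by rw [hf₀']; infer_instance
  haveI : LocallyOfFinitePresentation f₀' :=
    Groth.Agent.H1.CritFib.locallyOfFinitePresentation_of_comp f₀' V.ι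
  let ι₀ : (U₀' : Scheme.{u}) ⟶ U₀ := ι[G].left ∣_ U₀
  have hι₀ : ι₀ ≫ U₀.ι = U₀'.ι ≫ ι[G].left := morphismRestrict_ι _ _
  let j : pullback f₀ f₀' ⟶ (G ⊗ G).left :=
    pullback.map f₀ f₀' G.hom G.hom U₀.ι U₀'.ι V.ι hf₀ hf₀'
  have hr : Set.range j.base = (fst G G).left.base ⁻¹' (U₀ : Set G.left) ∩
      (snd G G).left.base ⁻¹' (U₀' : Set G.left) := by
    rw [Over.fst_left, Over.snd_left]
    have := Scheme.Pullback.range_map (f := f₀) (g := f₀') G.hom G.hom U₀.ι U₀'.ι V.ι hf₀ hf₀'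
    rw [Scheme.Opens.range_ι, Scheme.Opens.range_ι] at this
    exact this
  have hj1 : j ≫ (fst G G).left = pullback.fst f₀ f₀' ≫ U₀.ι := by
    rw [Over.fst_left]; exact pullback.lift_fst _ _ _
  have hj2 : j ≫ (snd G G).left = pullback.snd f₀ f₀' ≫ U₀'.ι := by
    rw [Over.snd_left]; exact pullback.lift_snd _ _ _
  let m : pullback f₀ f₀' ⟶ G.left := j ≫ μ[G].left
  have hmG : m ≫ G.hom = pullback.fst f₀ f₀' ≫ f₀ ≫ V.ι := by
    show (j ≫ μ[G].left) ≫ G.hom = _
    rw [Category.assoc, Over.w μ[G], ← Over.w (fst G G), ← Category.assoc, hj1, Category.assoc,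
      hf₀]
  haveI : LocallyOfFinitePresentation (m ≫ G.hom) := by rw [hmG]; infer_instance
  haveI : LocallyOfFinitePresentation m :=
    Groth.Agent.H1.CritFib.locallyOfFinitePresentation_of_comp m G.hom
  have hmV : ∀ z : ↥(pullback f₀ f₀'), G.hom.base (m.base z) ∈ V := by
    intro z
    have h1 : G.hom.base (m.base z) = V.ι.base (f₀.base ((pullback.fst f₀ f₀').base z)) :=
      congrArg (fun ψ : pullback f₀ f₀' ⟶ S => ψ.base z) hmG
    rw [h1]
    exact (f₀.base ((pullback.fst f₀ f₀').base z)).2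
  have hfw : ∀ z : ↥(pullback f₀ f₀'), (fst G G).left.base (j.base z) =
      U₀.ι.base ((pullback.fst f₀ f₀').base z) := fun z =>
    congrArg (fun ψ : pullback f₀ f₀' ⟶ G.left => ψ.base z) hj1
  have hsw : ∀ z : ↥(pullback f₀ f₀'), (snd G G).left.base (j.base z) =
      U₀'.ι.base ((pullback.snd f₀ f₀').base z) := fun z =>
    congrArg (fun ψ : pullback f₀ f₀' ⟶ G.left => ψ.base z) hj2
  have hι₀' : ∀ b : (U₀' : Scheme.{u}), U₀.ι.base (ι₀.base b) = ι[G].left.base (U₀'.ι.base b) := fun b =>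
    congrArg (fun ψ : (U₀' : Scheme.{u}) ⟶ G.left => ψ.base b) hι₀
  refine ⟨V, pullback f₀ f₀', m,
    (pullback.fst f₀ f₀').base ⁻¹' MoreMor.sectionComponents f₀ e₀ ∩
      (pullback.snd f₀ f₀' ≫ ι₀).base ⁻¹' MoreMor.sectionComponents f₀ e₀,
    hsV, hV, inferInstance, inferInstance,
    ((pullback.fst f₀ f₀').isConstructible_preimage hC₀).inter
      ((pullback.snd f₀ f₀' ≫ ι₀).isConstructible_preimage hC₀), hmV, ?_⟩
  apply Set.Subset.antisymm
  · rintro _ ⟨z, ⟨hz1, hz2⟩, rfl⟩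
    refine ⟨?_, hmV z⟩
    have h1 : (fst G G).left.base (j.base z) ∈ SGA3x.neutralSet G := by
      rw [hfw]; exact F1 _ hz1
    have h2 : ι[G].left.base ((snd G G).left.base (j.base z)) ∈ SGA3x.neutralSet G := by
      rw [hsw, ← hι₀']; exact F1 _ hz2
    have h2' : (snd G G).left.base (j.base z) ∈ SGA3x.neutralSet G := by
      have := GrpNeutC.inv_mem G _ h2
      rwa [GrpNeutB.inv_inv_apply] at this
    exact GrpNeutC.mul_mem G (j.base z) h1 h2'
  · rintro x ⟨hxN, hxV⟩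
    obtain ⟨O₀, hO₀, heO₀, hO₀C⟩ := F2 ⟨G.hom.base x, hxV⟩
    have hUo : IsOpen (U₀.ι.base '' O₀) := U₀.ι.isOpenEmbedding.isOpenMap _ hO₀
    have he : (GrpFib.unitSec G).base (G.hom.base x) ∈ U₀.ι.base '' O₀ :=
      ⟨_, heO₀, hev ⟨G.hom.base x, hxV⟩⟩
    obtain ⟨w, ⟨a, haO, hafw⟩, ⟨b, hbO, hb⟩, h3⟩ := GrpNeutB.exists_mul_of_mem G (G.hom.base x)
      (U₀.ι.base '' O₀) hUo he x ((GrpNeutB.mem_neutralSet_iff G x).1 hxN)
    have hGw : (G ⊗ G).hom.base w = G.hom.base x := by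
      rw [← h3]
      exact (congrArg (fun ψ : (G ⊗ G).left ⟶ S => ψ.base w) (Over.w μ[G])).symm
    have hGs : G.hom.base ((snd G G).left.base w) = (G ⊗ G).hom.base w :=
      congrArg (fun ψ : (G ⊗ G).left ⟶ S => ψ.base w) (Over.w (snd G G))
    have hfa : f₀.base a = ⟨G.hom.base x, hxV⟩ := by
      apply Subtype.ext
      show V.ι.base (f₀.base a) = G.hom.base x
      rw [← hGv, hafw, ← GrpNeutC.hom_tensor, hGw]
    have hfb : f₀.base b = ⟨G.hom.base x, hxV⟩ := by
      apply Subtype.ext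
      show V.ι.base (f₀.base b) = G.hom.base x
      rw [← hGv, hb, hGι, hGs, hGw]
    have haC := hO₀C a haO hfa
    have hbC := hO₀C b hbO hfb
    have hw : w ∈ Set.range j.base := by
      rw [hr]
      refine ⟨?_, ?_⟩
      · show (fst G G).left.base w ∈ (U₀ : Set G.left)
        rw [← hafw]; exact a.2
      · show ι[G].left.base ((snd G G).left.base w) ∈ (U₀ : Set G.left)
        rw [← hb]; exact b.2
    obtain ⟨z, rfl⟩ := hw
    refine ⟨z, ⟨?_, ?_⟩, h3⟩
    · have : (pullback.fst f₀ f₀').base z = a :=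
        U₀.ι.isOpenEmbedding.injective (by rw [hafw]; exact (hfw z).symm)
      show (pullback.fst f₀ f₀').base z ∈ MoreMor.sectionComponents f₀ e₀
      rw [this]; exact haC
    · have : ι₀.base ((pullback.snd f₀ f₀').base z) = b :=
        U₀.ι.isOpenEmbedding.injective (by rw [hb, hι₀', ← hsw])
      show ι₀.base ((pullback.snd f₀ f₀').base z) ∈ MoreMor.sectionComponents f₀ e₀
      rw [this]; exact hbC

/-- SGA3 VI_B 3.x (i): `G⁰` is ind-constructible. -/
theorem isIndConstructible [LocallyOfFinitePresentation G.hom] :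
    ProCons.IsIndConstructible (SGA3x.neutralSet G) := by
  intro x
  obtain ⟨V, P, m, D, hsV, hV, hPc, hm, hD, hmV, hmD⟩ := local_data G (G.hom.base x)
  obtain ⟨W, hW, hxW, hWV⟩ := exists_affineOpen_between x (G.hom ⁻¹ᵁ V : Set G.left)
    (G.hom ⁻¹ᵁ V).isOpen hsV
  haveI : IsAffine (W : Scheme.{u}) := hW
  refine ⟨(W : Set G.left), W.isOpen, hxW,
    {T | ∃ (Q : P.Opens) (hQW : Q ≤ m ⁻¹ᵁ W), IsAffineOpen Q ∧
      T = (m.resLE W Q hQW).base '' (Q.ι.base ⁻¹' D)}, ?_, ?_⟩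
  · rintro T ⟨Q, hQW, hQ, rfl⟩
    haveI : IsAffine (Q : Scheme.{u}) := hQ
    haveI : LocallyOfFinitePresentation (m.resLE W Q hQW ≫ W.ι) := by
      rw [Scheme.Hom.resLE_comp_ι]; infer_instance
    haveI := Groth.Agent.H1.CritFib.locallyOfFinitePresentation_of_comp (m.resLE W Q hQW) W.ι
    exact (m.resLE W Q hQW).isLocallyConstructible_image
      (Q.ι.isConstructible_preimage hD).isLocallyConstructible
  · have hres : ∀ (Q : P.Opens) (hQW : Q ≤ m ⁻¹ᵁ W) (q : ↥Q),
        W.ι.base ((m.resLE W Q hQW).base q) = m.base (Q.ι.base q) := fun Q hQW q =>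
      congrArg (fun ψ : (Q : Scheme.{u}) ⟶ G.left => ψ.base q) (Scheme.Hom.resLE_comp_ι m hQW)
    ext y
    constructor
    · intro hy
      have hy' : y.1 ∈ SGA3x.neutralSet G ∩ G.hom.base ⁻¹' (V : Set S) := ⟨hy, hWV y.2⟩
      rw [← hmD] at hy'
      obtain ⟨z, hzD, hzy⟩ := hy'
      obtain ⟨Q, hQ, hzQ, hQW⟩ := exists_affineOpen_between z (m ⁻¹ᵁ W : Set P)
        (m ⁻¹ᵁ W).isOpen (by
            show m.base z ∈ (W : Set G.left)
            rw [hzy]; exact y.2)
      refine ⟨_, ⟨Q, hQW, hQ, rfl⟩, ⟨z, hzQ⟩, hzD, ?_⟩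
      apply Subtype.ext
      show W.ι.base ((m.resLE W Q hQW).base ⟨z, hzQ⟩) = y.1
      rw [hres]; exact hzy
    · rintro ⟨T, ⟨Q, hQW, hQ, rfl⟩, ⟨q, hqD, rfl⟩⟩
      show W.ι.base ((m.resLE W Q hQW).base q) ∈ SGA3x.neutralSet G
      rw [hres]
      have : m.base (Q.ι.base q) ∈ m.base '' D := ⟨_, hqD, rfl⟩
      rw [hmD] at this
      exact this.1

/-- SGA3 VI_B 3.x (iii): `G⁰` is locally constructible when `G` is quasi-separated over `S`. -/
theorem isLocallyConstructible [LocallyOfFinitePresentation G.hom] [QuasiSeparated G.hom] :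
    IsLocallyConstructible (SGA3x.neutralSet G) := by
  choose V P m D hsV hV hPc hm hD hmV hmD using local_data G
  refine IsLocallyConstructible.of_isOpenCover (U := fun s : S => G.hom ⁻¹ᵁ V s) ?_ ?_
  · refine TopologicalSpace.IsOpenCover.mk ?_
    rw [eq_top_iff]
    intro x _
    exact TopologicalSpace.Opens.mem_iSup.2 ⟨G.hom.base x, hsV _⟩
  · intro s
    haveI := hPc s
    haveI := hm s
    haveI : QuasiSeparatedSpace ((G.hom ⁻¹ᵁ V s : G.left.Opens) : Scheme.{u}) :=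
      (isQuasiSeparated_iff_quasiSeparatedSpace _ (G.hom ⁻¹ᵁ V s).isOpen).1
        (Scheme.Hom.isQuasiSeparated_preimage (f := G.hom) (hV s).isQuasiSeparated)
    let mW : P s ⟶ (G.hom ⁻¹ᵁ V s : Scheme.{u}) :=
      IsOpenImmersion.lift (G.hom ⁻¹ᵁ V s).ι (m s) (by
        rw [Scheme.Opens.range_ι]
        rintro _ ⟨z, rfl⟩
        exact hmV s z)
    have hmW : mW ≫ (G.hom ⁻¹ᵁ V s).ι = m s := IsOpenImmersion.lift_fac _ _ _
    haveI : LocallyOfFinitePresentation (mW ≫ (G.hom ⁻¹ᵁ V s).ι) := by rw [hmW]; infer_instance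
    haveI := Groth.Agent.H1.CritFib.locallyOfFinitePresentation_of_comp mW (G.hom ⁻¹ᵁ V s).ι
    have hres : ∀ z : ↥(P s), (G.hom ⁻¹ᵁ V s).ι.base (mW.base z) = (m s).base z := fun z =>
      congrArg (fun ψ : P s ⟶ G.left => ψ.base z) hmW
    have heq : (((G.hom ⁻¹ᵁ V s : G.left.Opens) : Set G.left) ↓∩ SGA3x.neutralSet G) =
        mW.base '' D s := by
      ext y
      constructor
      · intro hy
        have hy' : y.1 ∈ SGA3x.neutralSet G ∩ G.hom.base ⁻¹' (V s : Set S) := ⟨hy, y.2⟩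
        rw [← hmD s] at hy'
        obtain ⟨z, hzD, hzy⟩ := hy'
        refine ⟨z, hzD, ?_⟩
        apply Subtype.ext
        show (G.hom ⁻¹ᵁ V s).ι.base (mW.base z) = y.1
        rw [hres]; exact hzy
      · rintro ⟨z, hzD, rfl⟩
        show (G.hom ⁻¹ᵁ V s).ι.base (mW.base z) ∈ SGA3x.neutralSet G
        rw [hres]
        have : (m s).base z ∈ (m s).base '' D s := ⟨_, hzD, rfl⟩
        rw [hmD s] at this
        exact this.1
    rw [heq]
    exact mW.isLocallyConstructible_image (hD s).isLocallyConstructible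

/-- SGA3 VI_B 3.x (ii). -/
theorem isConstructible [LocallyOfFinitePresentation G.hom] [QuasiSeparated G.hom]
    [CompactSpace S] [QuasiSeparatedSpace S] :
    IsConstructible (SGA3x.neutralSet G) := by
  obtain ⟨U, hUc, hU⟩ := GrpNeutB.s5323 G
  haveI : QuasiSeparatedSpace G.left := quasiSeparatedSpace_of_quasiSeparated G.hom
  exact (isLocallyConstructible G).isConstructible_of_subset_of_isCompact hU hUc

theorem s5325 [LocallyOfFinitePresentation G.hom] :
    ProCons.IsIndConstructible (SGA3x.neutralSet G) ∧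
    (QuasiSeparated G.hom → CompactSpace S → QuasiSeparatedSpace S →
      Topology.IsConstructible (SGA3x.neutralSet G)) ∧
    (QuasiSeparated G.hom → Topology.IsLocallyConstructible (SGA3x.neutralSet G)) :=
  ⟨isIndConstructible G, fun _ _ _ => isConstructible G, fun _ => isLocallyConstructible G⟩

end Groth.Agent.H1.GrpICons
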