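import Mathlib
import Groth.Prelude.Def_Cyc

/-! # Functoriality of proper pushforward of cycles. -/

set_option autoImplicit false
set_option linter.style.haveILetI false
universe u
open CategoryTheory AlgebraicGeometry

namespace Groth.Agent.H1.CycPush

theorem finsum_mem_fiberwise {α β M : Type*} [AddCommMonoid M] (φ : α → β) (t : Set β) (F : α → M)
    (hfin : (φ ⁻¹' t ∩ Function.support F).Finite) :
    ∑ᶠ y ∈ t, ∑ᶠ x ∈ φ ⁻¹' {y}, F x = ∑ᶠ x ∈ φ ⁻¹' t, F x := by
  classical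
  set T := hfin.toFinset with hT
  have hmemT : ∀ x, x ∈ T ↔ φ x ∈ t ∧ F x ≠ 0 := by
    intro x
    rw [hT, Set.Finite.mem_toFinset]
    rfl
  have hR : ∑ᶠ x ∈ φ ⁻¹' t, F x = ∑ x ∈ T, F x := by
    apply finsum_mem_eq_sum_of_inter_support_eq
    ext x
    simp only [Set.mem_inter_iff, Set.mem_preimage, Function.mem_support, Finset.mem_coe, hmemT]
    tauto
  set G : β → M := fun y => ∑ᶠ x ∈ φ ⁻¹' {y}, F x with hG
  have hL : ∑ᶠ y ∈ t, G y = ∑ y ∈ T.image φ, G y := by
    apply finsum_mem_eq_sum_of_inter_support_eq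
    ext y
    simp only [Set.mem_inter_iff, Function.mem_support, Finset.coe_image, Set.mem_image,
      Finset.mem_coe]
    constructor
    · rintro ⟨hy, hGy⟩
      obtain ⟨x, hx, hFx⟩ := exists_ne_zero_of_finsum_mem_ne_zero hGy
      have hx' : φ x = y := hx
      exact ⟨⟨x, (hmemT x).2 ⟨by rw [hx']; exact hy, hFx⟩, hx'⟩, hGy⟩
    · rintro ⟨⟨x, hxT, rfl⟩, hGy⟩
      exact ⟨((hmemT x).1 hxT).1, hGy⟩
  change ∑ᶠ y ∈ t, G y = _
  rw [hL, hR]
  apply Finset.sum_image'
  intro x hx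
  apply finsum_mem_eq_sum_of_inter_support_eq
  ext j
  simp only [Set.mem_inter_iff, Set.mem_preimage, Set.mem_singleton_iff, Function.mem_support,
    Finset.coe_filter, Set.mem_ofPred_eq, hmemT]
  constructor
  · rintro ⟨h1, h2⟩
    exact ⟨⟨⟨by rw [h1]; exact ((hmemT x).1 hx).1, h2⟩, h1⟩, h2⟩
  · rintro ⟨⟨_, h1⟩, h2⟩
    exact ⟨h1, h2⟩

variable {X Y Z : Scheme.{u}}

theorem residueDegree_comp (f : X ⟶ Y) (g : Y ⟶ Z) (x : X) :
    (f ≫ g).residueDegree x = g.residueDegree (f x) * f.residueDegree x := by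
  unfold Scheme.Hom.residueDegree
  letI a1 := (f.residueFieldMap x).hom.toAlgebra
  letI a2 := (g.residueFieldMap (f x)).hom.toAlgebra
  letI a3 : Algebra (Z.residueField (g (f x))) (X.residueField x) :=
    ((f ≫ g).residueFieldMap x).hom.toAlgebra
  haveI : IsScalarTower (Z.residueField (g (f x))) (Y.residueField (f x)) (X.residueField x) := by
    apply IsScalarTower.of_algebraMap_eq'
    change ((f ≫ g).residueFieldMap x).hom = (f.residueFieldMap x).hom.comp (g.residueFieldMap (f x)).hom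
    rw [Scheme.residueFieldMap_comp]
    rfl
  exact (Module.finrank_mul_finrank (Z.residueField (g (f x))) (Y.residueField (f x))
    (X.residueField x)).symm

theorem mapCoeff_comp (f : X ⟶ Y) (g : Y ⟶ Z) (δX : X → ℤ) (δY : Y → ℤ) (δZ : Z → ℤ)
    (hf : Cyc.DeltaCompat f δX δY) (hg : Cyc.DeltaCompat g δY δZ) (x : X) :
    AlgebraicCycle.mapCoeff (f ≫ g) δX δZ x =
      AlgebraicCycle.mapCoeff f δX δY x * AlgebraicCycle.mapCoeff g δY δZ (f x) := by
  obtain ⟨n₁, -, h1⟩ := hf x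
  obtain ⟨n₂, -, h2⟩ := hg (f x)
  unfold AlgebraicCycle.mapCoeff
  have e : (f ≫ g).base x = g.base (f.base x) := rfl
  by_cases c1 : δX x = δY (f.base x)
  · by_cases c2 : δY (f.base x) = δZ (g.base (f.base x))
    · rw [if_pos c1, if_pos c2, if_pos (by rw [e, c1, c2]), residueDegree_comp, mul_comm]
    · rw [if_pos c1, if_neg c2, if_neg, mul_zero]
      rw [e, c1]; exact c2
  · rw [if_neg c1, zero_mul, if_neg]
    rw [e]
    intro h
    apply c1
    have h1' : δX x = δY (f.base x) + n₁ := h1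
    have h2' : δY (f.base x) = δZ (g.base (f.base x)) + n₂ := h2
    omega

theorem map_map (f : X ⟶ Y) (g : Y ⟶ Z) [QuasiCompact f] [QuasiCompact g] (δX : X → ℤ)
    (δY : Y → ℤ) (δZ : Z → ℤ)
    (hf : Cyc.DeltaCompat f δX δY) (hg : Cyc.DeltaCompat g δY δZ) (α : AlgebraicCycle X ℤ) :
    AlgebraicCycle.map g δY δZ (AlgebraicCycle.map f δX δY α) =
      AlgebraicCycle.map (f ≫ g) δX δZ α := by
  ext z
  unfold AlgebraicCycle.map
  rw [Function.locallyFinsupp.map_apply, Function.locallyFinsupp.map_apply]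
  simp only [Function.locallyFinsupp.map_apply]
  set F : X → ℤ := fun x => α x * (AlgebraicCycle.mapCoeff f δX δY x : ℤ) *
    (AlgebraicCycle.mapCoeff g δY δZ (f x) : ℤ) with hF
  have h1 : ∀ y : Y, (∑ᶠ x ∈ (⇑f ⁻¹' {y}), α x * (AlgebraicCycle.mapCoeff f δX δY x : ℤ)) *
      (AlgebraicCycle.mapCoeff g δY δZ y : ℤ) = ∑ᶠ x ∈ (⇑f ⁻¹' {y}), F x := by
    intro y
    rw [finsum_mem_mul]
    apply finsum_mem_congr rfl
    intro x hx
    have : f x = y := hx
    rw [hF]
    simp only [this]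
  simp only [h1]
  have hfin : ((⇑f ⁻¹' (⇑g ⁻¹' {z})) ∩ Function.support F).Finite := by
    have h2 := α.locallyFiniteSupport.finite_inter_support_of_isCompact
      ((f ≫ g).isCompact_preimage_singleton z)
    refine h2.subset ?_
    rintro x ⟨hx1, hx2⟩
    refine ⟨hx1, ?_⟩
    intro h0
    apply hx2
    have : α x = 0 := h0
    simp [hF, this]
  rw [finsum_mem_fiberwise (⇑f) (⇑g ⁻¹' {z}) F hfin]
  apply finsum_mem_congr rfl
  intro x hx
  rw [hF, mapCoeff_comp f g δX δY δZ hf hg x]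
  push_cast
  ring

end Groth.Agent.H1.CycPush
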