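import Mathlib
import Groth.Agent.Lib.Helper3.ConsP.MorInd
import Groth.Agent.Lib.Helper3.FlatDesc
import Groth.Agent.Lib.Helper6.GenFin
import Groth.Agent.Lib.Helper8.ConstructibleNoeth
import Groth.Agent.Lib.Helper1.CritFib4
import Groth.Agent.Lib.Helper1.CMBaseChange
import Groth.Agent.Lib.Helper1.EtNhd
import Groth.Agent.Lib.Helper1.ValDimB
import Groth.Agent.Lib.Helper2.UnrLoc6
import Groth.Agent.Lib.Helper5.Cons.C2
import Groth.Agent.S1386

/-!
# The locus where the fibre maps are flat / open immersions / isomorphisms / étale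
-/

set_option autoImplicit false
set_option linter.style.haveILetI false

universe u

open AlgebraicGeometry CategoryTheory CategoryTheory.Limits Topology MorphismProperty

namespace Groth.Agent.H1.ConsFib

open Groth.Agent.H3.ConsP H5.Cons

/-- if `f` is flat at all points of `X` over `s`, the fibre map `X_s → Y_s` is flat. -/
theorem flat_fiberMap_of_forall_stalk {X Y S : Scheme.{u}} (f : X ⟶ Y) (g : Y ⟶ S) (s : S)
    (h : ∀ x : X, g (f x) = s → (f.stalkMap x).hom.Flat) : Flat (MoreMor.fiberMap f g s) := by
  rw [Flat.iff_flat_stalkMap]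
  intro z
  refine Groth.Agent.H1.CMBC.flat_stalkMap_of_isPullback
    (Groth.Agent.H1.CritFib.isPullback_fiberMap f g s) z (h _ ?_)
  exact Groth.Agent.H1.ValDim.base_fiberι (f ≫ g) s z

theorem interior_compl_flat {X Y S : Scheme.{u}} (f : X ⟶ Y) (g : Y ⟶ S)
    [IsIntegral S] [IsNoetherian S]
    [LocallyOfFiniteType g] [QuasiCompact g] [LocallyOfFiniteType (f ≫ g)] [QuasiCompact (f ≫ g)]
    (hgen : genericPoint S ∉ ConsProp.locusMor (fun _ _ _ f _ => Flat f) f g) :
    (interior (ConsProp.locusMor (fun _ _ _ f _ => Flat f) f g)ᶜ).Nonempty := by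
  change ¬ Flat (MoreMor.fiberMap f g (genericPoint S)) at hgen
  change (interior {s : S | Flat (MoreMor.fiberMap f g s)}ᶜ).Nonempty
  haveI : LocallyOfFinitePresentation (f ≫ g) :=
    Groth.Agent.H1.EtNhd.lfp_of_lft_of_noetherian (f ≫ g)
  set η := genericPoint S with hη
  obtain ⟨U₀, hne, hU₀⟩ := Groth.Agent.H6.GenFin.exists_open_flat_stalk (f ≫ g)
  set O : Set X := {x : X | (g.stalkMap (f x)).hom.Flat ∧ (f.stalkMap x).hom.Flat} with hO
  have hOopen : IsOpen O := (Groth.Agent.S1386.result f g).2
  haveI : IsLocallyNoetherian X := LocallyOfFiniteType.isLocallyNoetherian (f ≫ g)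
  haveI : CompactSpace X := QuasiCompact.compactSpace_of_compactSpace (f ≫ g)
  haveI : IsNoetherian X := {}
  have hOc : IsConstructible Oᶜ :=
    Groth.Agent.H8.CNoeth.isConstructible_of_isClosed hOopen.isClosed_compl
  set D : Set S := (f ≫ g) '' Oᶜ with hD
  have hDc : IsConstructible D := (f ≫ g).isConstructible_image hOc
  have hηD : η ∈ D := by
    by_contra hcon
    apply hgen
    apply flat_fiberMap_of_forall_stalk
    intro x hx
    by_contra hx'
    apply hcon
    exact ⟨x, fun hxO => hx' hxO.2, hx⟩
  rcases Groth.Agent.H8.CNoeth.dichotomy (Y := Set.univ) (IrreducibleSpace.isIrreducible_univ S)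
    hDc with ⟨V, hV, hVne, hVsub⟩ | ⟨V, hV, hVne, hVsub⟩
  swap
  · exfalso
    have hηV : η ∈ V := by
      obtain ⟨v, hv, -⟩ := hVne
      exact (genericPoint_specializes v).mem_open hV hv
    exact hVsub ⟨hηV, Set.mem_univ _⟩ hηD
  · have hVne' : V.Nonempty := hVne.mono Set.inter_subset_left
    obtain ⟨s₀, hs₀U, hs₀V⟩ := nonempty_preirreducible_inter U₀.isOpen hV hne hVne'
    refine ⟨s₀, ?_⟩
    refine interior_maximal ?_ (U₀.isOpen.inter hV) ⟨hs₀U, hs₀V⟩
    rintro s ⟨hsU, hsV⟩ hsflat
    obtain ⟨x, hxO, hxs⟩ := hVsub ⟨hsV, Set.mem_univ _⟩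
    apply hxO
    have hs' : g (f x) = s := hxs
    subst hs'
    haveI : Flat (MoreMor.fiberMap f g (g (f x))) := hsflat
    exact (Groth.Agent.H1.CritFib.crit_stalk_iff f g x).mp ⟨hU₀ x hsU, Flat.stalkMap _ _⟩

/-- flatness is a constructible property of morphisms of algebraic schemes (EGA IV 9.4/11.1). -/
theorem isConsMor_flat : ConsProp.IsConsMor.{u} (fun _ _ _ f _ => Flat f) := by
  haveI := Groth.Agent.H3.FlatDesc.flat_descendsAlong_fpqc.{u}
  have hfs : ConsProp.IsFieldStableMor.{u} (fun _ _ _ f _ => Flat f) :=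
    isFieldStableMor_of_descendsAlong (Q := @Flat)
  refine ⟨hfs, ?_⟩
  intro X Y S f g _ _ _ _ _ _
  by_cases hgen : genericPoint S ∈ ConsProp.locusMor (fun _ _ _ f _ => Flat f) f g
  · exact Or.inl (interior_locusMor_of_coreDescent (Q := @Flat) coreDescent_flat hfs f g hgen)
  · exact Or.inr (interior_compl_flat f g hgen)

section Main

variable {X Y S : Scheme.{u}} (f : X ⟶ Y) (g : Y ⟶ S)
  [LocallyOfFinitePresentation g] [QuasiCompact g] [QuasiSeparated g]
  [LocallyOfFinitePresentation (f ≫ g)] [QuasiCompact (f ≫ g)] [QuasiSeparated (f ≫ g)]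

theorem isLocallyConstructible_flat_fibMap :
    IsLocallyConstructible {s : S | Flat (fibMap f g s)} :=
  isLocallyConstructible_locusMor_of_fp f g isConsMor_flat

theorem main2584 : IsLocallyConstructible {s : S | IsOpenImmersion (fibMap f g s)} := by
  haveI : LocallyOfFinitePresentation f :=
    Groth.Agent.H5.EtSrc.locallyOfFinitePresentation_of_comp f g inferInstance inferInstance
  have h1 := isLocallyConstructible_flat_fibMap f g
  have h2 := Groth.Agent.H2.UnrLoc.main3426 f g
  convert h1.inter h2 using 1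
  ext s
  haveI : LocallyOfFinitePresentation (fibMap f g s) :=
    MorphismProperty.of_isPullback (P := @LocallyOfFinitePresentation) (isPullback_fibMap f g s)
      inferInstance
  constructor
  · intro h
    haveI : IsOpenImmersion (fibMap f g s) := h
    refine ⟨?_, ?_⟩
    · show Flat (fibMap f g s)
      infer_instance
    · show Mono (fibMap f g s)
      infer_instance
  · rintro ⟨h1, h2⟩
    haveI : Flat (fibMap f g s) := h1
    haveI : Mono (fibMap f g s) := h2
    exact IsOpenImmersion.of_flat_of_mono _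

theorem main2575 : IsLocallyConstructible {s : S | IsIso (fibMap f g s)} := by
  have h1 := main2584 f g
  have h2 := H5.Cons.main3443 f g
  convert h1.inter h2 using 1
  ext s
  constructor
  · intro h
    have h' := (isIso_iff_isOpenImmersion_and_surjective _).mp h
    exact ⟨h'.1, h'.2.surj⟩
  · rintro ⟨h1, h2⟩
    exact (isIso_iff_isOpenImmersion_and_surjective _).mpr ⟨h1, ⟨h2⟩⟩

omit [LocallyOfFinitePresentation g] [QuasiCompact g] [QuasiSeparated g]
  [LocallyOfFinitePresentation (f ≫ g)] [QuasiCompact (f ≫ g)] [QuasiSeparated (f ≫ g)] in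
theorem fibMap_iff_snd (P : MorphismProperty Scheme.{u}) [P.IsStableUnderBaseChange] (s : S) :
    P (fibMap f g s) ↔ P (pullback.snd f (g.fiberι s)) := by
  set i := (Groth.Agent.H1.CritFib.isPullback_fiberMap f g s).isoPullback with hi
  have e : fibMap f g s = i.hom ≫ pullback.snd f (g.fiberι s) :=
    Groth.Agent.H1.CritFib.fiberMap_eq f g s
  rw [e]
  exact P.cancel_left_of_respectsIso i.hom _

theorem isLocallyConstructible_etale_fibMap :
    IsLocallyConstructible {s : S | Etale (fibMap f g s)} := by
  haveI : LocallyOfFinitePresentation f :=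
    Groth.Agent.H5.EtSrc.locallyOfFinitePresentation_of_comp f g inferInstance inferInstance
  have h1 := isLocallyConstructible_flat_fibMap f g
  have h2 := Groth.Agent.H2.UnrLoc.isLocallyConstructible_fibMap_formallyUnramified f g
  convert h1.inter h2 using 1
  ext s
  haveI : LocallyOfFinitePresentation (fibMap f g s) :=
    MorphismProperty.of_isPullback (P := @LocallyOfFinitePresentation) (isPullback_fibMap f g s)
      inferInstance
  constructor
  · intro h
    have h' := Etale.iff_flat_and_formallyUnramified.mp h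
    exact ⟨h'.1, h'.2.1⟩
  · rintro ⟨h1, h2⟩
    exact Etale.iff_flat_and_formallyUnramified.mpr ⟨h1, h2, inferInstance⟩

theorem main2777 :
    IsLocallyConstructible {s : S | Etale (pullback.snd f (g.fiberι s))} ∧
      IsLocallyConstructible {s : S | FormallyUnramified (pullback.snd f (g.fiberι s))} := by
  constructor
  · convert isLocallyConstructible_etale_fibMap f g using 1
    ext s
    exact (fibMap_iff_snd f g @Etale s).symm
  · convert Groth.Agent.H2.UnrLoc.isLocallyConstructible_fibMap_formallyUnramified f g using 1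
    ext s
    exact (fibMap_iff_snd f g @FormallyUnramified s).symm

end Main

end Groth.Agent.H1.ConsFib
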