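import Mathlib
import Groth.Agent.Lib.Helper1.ConsFibF
import Groth.Agent.Lib.Helper5.DF.DF11
import Groth.Agent.Lib.Helper5.Lim.DescendProps

/-!
# The locus where the fibre maps are smooth
-/

set_option autoImplicit false
set_option linter.style.haveILetI false

universe u

open AlgebraicGeometry CategoryTheory CategoryTheory.Limits Topology MorphismProperty

namespace Groth.Agent.H1.ConsFib

open Groth.Agent.H3.ConsP H5.Cons

theorem coreDescent_smooth : CoreDescent.{u} @Smooth :=
  coreDescent_of_affineSystemDescent Groth.Agent.H5.Lim.affineSystemDescent_smooth hΦ_lfp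

/-- smoothness at a point is stable under base change. -/
theorem formallySmooth_stalkMap_of_isPullback {X S X' S' : Scheme.{u}} {f : X ⟶ S} {g : S' ⟶ S}
    {f' : X' ⟶ S'} {g' : X' ⟶ X} (h : IsPullback g' f' f g) [LocallyOfFinitePresentation f]
    (x' : X') (hx : (f.stalkMap (g' x')).hom.FormallySmooth) :
    (f'.stalkMap x').hom.FormallySmooth := by
  haveI : LocallyOfFinitePresentation f' := MorphismProperty.of_isPullback h inferInstance
  obtain ⟨U, hxU, hsm⟩ := (H5.DS.exists_smooth_nhd_iff_lfp f (g' x')).2 hx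
  have := H5.DF.nhd_baseChange @Smooth h U hsm
  exact (H5.DS.exists_smooth_nhd_iff_lfp f' x').1 ⟨g' ⁻¹ᵁ U, hxU, this⟩

theorem smooth_fiberMap_of_forall_stalk {X Y S : Scheme.{u}} (f : X ⟶ Y) (g : Y ⟶ S) (s : S)
    [LocallyOfFinitePresentation f]
    (h : ∀ x : X, g (f x) = s → (f.stalkMap x).hom.FormallySmooth) :
    Smooth (MoreMor.fiberMap f g s) := by
  haveI : LocallyOfFinitePresentation (MoreMor.fiberMap f g s) :=
    MorphismProperty.of_isPullback (Groth.Agent.H1.CritFib.isPullback_fiberMap f g s) inferInstance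
  refine Scheme.Hom.smoothLocus_eq_top_iff.mp ?_
  rw [← top_le_iff]
  rintro z -
  exact formallySmooth_stalkMap_of_isPullback (Groth.Agent.H1.CritFib.isPullback_fiberMap f g s) z
    (h _ (Groth.Agent.H1.ValDim.base_fiberι (f ≫ g) s z))

theorem interior_compl_smooth {X Y S : Scheme.{u}} (f : X ⟶ Y) (g : Y ⟶ S)
    [IsIntegral S] [IsNoetherian S]
    [LocallyOfFiniteType g] [QuasiCompact g] [LocallyOfFiniteType (f ≫ g)] [QuasiCompact (f ≫ g)]
    (hgen : genericPoint S ∉ ConsProp.locusMor (fun _ _ _ f _ => Smooth f) f g) :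
    (interior (ConsProp.locusMor (fun _ _ _ f _ => Smooth f) f g)ᶜ).Nonempty := by
  change ¬ Smooth (MoreMor.fiberMap f g (genericPoint S)) at hgen
  change (interior {s : S | Smooth (MoreMor.fiberMap f g s)}ᶜ).Nonempty
  haveI : LocallyOfFinitePresentation (f ≫ g) :=
    Groth.Agent.H1.EtNhd.lfp_of_lft_of_noetherian (f ≫ g)
  haveI : LocallyOfFinitePresentation f :=
    Groth.Agent.H1.CritFib.locallyOfFinitePresentation_of_comp f g
  set η := genericPoint S with hη
  obtain ⟨U₀, hne, hU₀⟩ := Groth.Agent.H6.GenFin.exists_open_flat_stalk (f ≫ g)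
  set O : Set X := (f.smoothLocus : Set X) with hO
  have hOopen : IsOpen O := f.smoothLocus.isOpen
  haveI : IsLocallyNoetherian X := LocallyOfFiniteType.isLocallyNoetherian (f ≫ g)
  haveI : CompactSpace X := QuasiCompact.compactSpace_of_compactSpace (f ≫ g)
  haveI : IsNoetherian X := {}
  have hOc : IsConstructible Oᶜ :=
    Groth.Agent.H8.CNoeth.isConstructible_of_isClosed hOopen.isClosed_compl
  set D : Set S := (f ≫ g) '' Oᶜ with hD
  have hDc : IsConstructible D := (f ≫ g).isConstructible_image hOc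
  have hηD : η ∈ D := by
    by_contra hcon
    apply hgen
    apply smooth_fiberMap_of_forall_stalk
    intro x hx
    by_contra hx'
    exact hcon ⟨x, hx', hx⟩
  rcases Groth.Agent.H8.CNoeth.dichotomy (Y := Set.univ) (IrreducibleSpace.isIrreducible_univ S)
    hDc with ⟨V, hV, hVne, hVsub⟩ | ⟨V, hV, hVne, hVsub⟩
  swap
  · exfalso
    have hηV : η ∈ V := by
      obtain ⟨v, hv, -⟩ := hVne
      exact (genericPoint_specializes v).mem_open hV hv
    exact hVsub ⟨hηV, Set.mem_univ _⟩ hηD
  · have hVne' : V.Nonempty := hVne.mono Set.inter_subset_left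
    obtain ⟨s₀, hs₀U, hs₀V⟩ := nonempty_preirreducible_inter U₀.isOpen hV hne hVne'
    refine ⟨s₀, ?_⟩
    refine interior_maximal ?_ (U₀.isOpen.inter hV) ⟨hs₀U, hs₀V⟩
    rintro s ⟨hsU, hsV⟩ hssm
    obtain ⟨x, hxO, hxs⟩ := hVsub ⟨hsV, Set.mem_univ _⟩
    apply hxO
    have hs' : g (f x) = s := hxs
    subst hs'
    haveI hsm : Smooth (MoreMor.fiberMap f g (g (f x))) := hssm
    have hflat : (f.stalkMap x).hom.Flat :=
      ((Groth.Agent.H1.CritFib.crit_stalk_iff f g x).mp ⟨hU₀ x hsU, Flat.stalkMap _ _⟩).2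
    have h1 : Smooth (pullback.snd f (g.fiberι (g (f x)))) :=
      (fibMap_iff_snd f g @Smooth (g (f x))).mp hsm
    haveI h2 : Smooth (f.fiberToSpecResidueField (f x)) :=
      Groth.Agent.H1.CritFib.fiberToSpecResidueField_of_snd @Smooth f g (f x) h1
    haveI : LocallyOfFinitePresentation (f.fiberToSpecResidueField (f x)) := inferInstance
    have h3 : f.asFiber x ∈ (f.fiberToSpecResidueField (f x)).smoothLocus := by
      rw [Scheme.Hom.smoothLocus_eq_top]
      trivial
    exact (Groth.Agent.S2156.result f x).mpr ⟨hflat, h3⟩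

/-- smoothness is a constructible property of morphisms of algebraic schemes. -/
theorem isConsMor_smooth : ConsProp.IsConsMor.{u} (fun _ _ _ f _ => Smooth f) := by
  have hfs : ConsProp.IsFieldStableMor.{u} (fun _ _ _ f _ => Smooth f) :=
    isFieldStableMor_of_descendsAlong (Q := @Smooth)
  refine ⟨hfs, ?_⟩
  intro X Y S f g _ _ _ _ _ _
  by_cases hgen : genericPoint S ∈ ConsProp.locusMor (fun _ _ _ f _ => Smooth f) f g
  · exact Or.inl (interior_locusMor_of_coreDescent (Q := @Smooth) coreDescent_smooth hfs f g hgen)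
  · exact Or.inr (interior_compl_smooth f g hgen)

section Main

variable {X Y S : Scheme.{u}} (f : X ⟶ Y) (g : Y ⟶ S)
  [LocallyOfFinitePresentation g] [QuasiCompact g] [QuasiSeparated g]
  [LocallyOfFinitePresentation (f ≫ g)] [QuasiCompact (f ≫ g)] [QuasiSeparated (f ≫ g)]

theorem isLocallyConstructible_smooth_fibMap :
    IsLocallyConstructible {s : S | Smooth (fibMap f g s)} :=
  isLocallyConstructible_locusMor_of_fp f g isConsMor_smooth

theorem main2776 :
    IsLocallyConstructible {s : S | Smooth (pullback.snd f (g.fiberι s))} := by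
  convert isLocallyConstructible_smooth_fibMap f g using 1
  ext s
  exact (fibMap_iff_snd f g @Smooth s).symm

end Main

end Groth.Agent.H1.ConsFib
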