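import Mathlib
import Groth.Prelude.Def_AlgGrp
import Groth.Agent.Lib.Helper1.GrpFibHom
import Groth.Agent.Lib.Helper5.DF.DF9
import Groth.Agent.Lib.Helper5.DF.DF11
import Groth.Agent.Lib.Helper5.DS.DS5
import Groth.Agent.Lib.Helper6.FibSm
import Groth.Agent.Lib.Helper3.EtGraph
import Groth.Agent.Lib.Helper1.ConsFibS

/-! Homomorphisms of group schemes over a base (helper1): the unramified, étale, smooth and
open-immersion loci of `u : G ⟶ H` are inverse images of opens of the base (SGA3 VI_B 2.5),
by homogeneity under the shear automorphisms and the base-change behaviour of the loci. -/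

set_option autoImplicit false
universe u

namespace Groth.Agent.H1.GrpLoci

open CategoryTheory CategoryTheory.Limits MonoidalCategory CartesianMonoidalCategory MonObj GrpObj
  AlgebraicGeometry
open Groth.Agent.H1.CritFib Groth.Agent.H9.FLH Groth.Agent.H1.GrpFibHom

theorem stalk_iff {X Y : Scheme.{u}} (f : X ⟶ Y)
    (P : ∀ {R S : Type u} [CommRing R] [CommRing S], (R →+* S) → Prop) {x x' : X} (h : x = x') :
    P (f.stalkMap x).hom ↔ P (f.stalkMap x').hom := by
  subst h; exact Iff.rfl

variable {S : Scheme.{u}} {G H : Over S} [GrpObj G] [GrpObj H] (v : G ⟶ H) [IsMonHom v]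

/-- formal homogeneity: a pointwise property of `G` whose pullback to `G × G` along the second
projection is invariant under the shear automorphism is constant along the fibres of `G → S`. -/
theorem homog (Q : G.left → Prop) (R : (G ⊗ G).left → Prop)
    (h1 : ∀ w, R w ↔ Q ((snd G G).left w))
    (h2 : ∀ w, R w ↔ R ((shear (regAction G)).left w)) (x : G.left) :
    Q x ↔ Q (GrpFib.unitSec G (G.hom x)) := by
  let z : (G ⊗ G).left := (lift (𝟙 G) (toUnit G ≫ η[G])).left x
  have hz1 : (snd G G).left z = GrpFib.unitSec G (G.hom x) := by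
    show (snd G G).left ((lift (𝟙 G) (toUnit G ≫ η[G])).left x) = _
    rw [← Scheme.Hom.comp_apply, ← Over.comp_left, lift_snd, Over.comp_left,
      Scheme.Hom.comp_apply]
    rfl
  have hz2 : (snd G G).left ((shear (regAction G)).left z) = x := by
    rw [← Scheme.Hom.comp_apply, ← Over.comp_left, shear_snd]
    show μ[G].left ((lift (𝟙 G) (toUnit G ≫ η[G])).left x) = x
    rw [← Scheme.Hom.comp_apply, ← Over.comp_left, MonObj.lift_comp_one_right]
    rfl
  calc Q x ↔ Q ((snd G G).left ((shear (regAction G)).left z)) := by rw [hz2]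
    _ ↔ R ((shear (regAction G)).left z) := (h1 _).symm
    _ ↔ R z := (h2 z).symm
    _ ↔ Q ((snd G G).left z) := h1 z
    _ ↔ Q (GrpFib.unitSec G (G.hom x)) := by rw [hz1]

omit [GrpObj G] [GrpObj H] [IsMonHom v] in
theorem hsq : IsPullback (snd G G).left (G ◁ v).left v.left (snd G H).left :=
  (Groth.Agent.H9.AlgGrpAct.isPullback_whiskerLeft G v).flip

instance isIso_shear_left {X : Over S} (a : AlgGrp.Action G X) : IsIso (shear a).left := by
  haveI : IsIso (shear a) := ⟨shearInv a, shear_shearInv a, shearInv_shear a⟩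
  exact inferInstanceAs (IsIso ((Over.forget _).map (shear a)))

theorem hsq_shear : IsPullback (shear (regAction G)).left (G ◁ v).left (G ◁ v).left
    (shear (homAction v)).left := by
  refine IsPullback.of_horiz_isIso ⟨?_⟩
  rw [← Over.comp_left, ← Over.comp_left, shear_comm]

section Unram

theorem unram_homog [LocallyOfFiniteType v.left] (x : G.left) :
    (v.left.stalkMap x).hom.FormallyUnramified ↔
      (v.left.stalkMap (GrpFib.unitSec G (G.hom x))).hom.FormallyUnramified := by
  haveI : LocallyOfFiniteType (G ◁ v).left :=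
    MorphismProperty.of_isPullback (P := @LocallyOfFiniteType) (hsq v) inferInstance
  exact homog (fun x => (v.left.stalkMap x).hom.FormallyUnramified)
    (fun w => ((G ◁ v).left.stalkMap w).hom.FormallyUnramified)
    (fun w => H5.DF.formallyUnramified_stalkMap_iff_of_isPullback (hsq v) w)
    (fun w => H5.DF.formallyUnramified_stalkMap_iff_of_isPullback (hsq_shear v) w) x

theorem unram_fib_iff [LocallyOfFiniteType v.left] (s : S) :
    FormallyUnramified (fibHom v s).left ↔
      (v.left.stalkMap (GrpFib.unitSec G s)).hom.FormallyUnramified := by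
  have hP := isPullback_fibHom v s
  constructor
  · intro hu
    haveI := hu
    obtain ⟨x', hx'⟩ := exists_fiberι_eq G.hom (GrpFib.unitSec G s) s (GrpFib.hom_unitSec G s)
    have h0 : ((fibHom v s).left.stalkMap x').hom.FormallyUnramified :=
      FormallyUnramified.stalkMap (fibHom v s).left x'
    have h1 := (H5.DF.formallyUnramified_stalkMap_iff_of_isPullback hP x').1 h0
    exact (stalk_iff v.left (fun φ => φ.FormallyUnramified) hx').1 h1
  · intro he
    refine HasRingHomProperty.of_stalkMap (P := @FormallyUnramified)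
      RingHom.FormallyUnramified.ofLocalizationPrime fun x' => ?_
    refine (H5.DF.formallyUnramified_stalkMap_iff_of_isPullback hP x').2 ?_
    rw [unram_homog v]
    have hs : G.hom (G.hom.fiberι s x') = s := Groth.Agent.H1.ValDim.base_fiberι G.hom s x'
    exact (stalk_iff v.left (fun φ => φ.FormallyUnramified)
      (congrArg (fun t => (GrpFib.unitSec G) t) hs.symm)).1 he

theorem s5316 [LocallyOfFinitePresentation v.left] :
    IsOpen {s : S | FormallyUnramified (fibHom v s).left} ∧
    {x : G.left | ∃ W : G.left.Opens, x ∈ W ∧ FormallyUnramified (W.ι ≫ v.left)} =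
      G.hom.base ⁻¹' {s : S | FormallyUnramified (fibHom v s).left} := by
  have hV : {x : G.left | ∃ W : G.left.Opens, x ∈ W ∧ FormallyUnramified (W.ι ≫ v.left)} =
      {x | (v.left.stalkMap x).hom.FormallyUnramified} := by
    ext x; exact H5.LL.exists_unramified_nhd_iff v.left x
  have hopen : IsOpen {x : G.left | ∃ W : G.left.Opens, x ∈ W ∧
      FormallyUnramified (W.ι ≫ v.left)} := by
    rw [isOpen_iff_forall_mem_open]
    rintro x ⟨W, hxW, hW⟩
    exact ⟨W, fun y hy => ⟨W, hy, hW⟩, W.2, hxW⟩
  have h2 : {x : G.left | (v.left.stalkMap x).hom.FormallyUnramified} =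
      G.hom.base ⁻¹' {s | FormallyUnramified (fibHom v s).left} := by
    ext x
    show (v.left.stalkMap x).hom.FormallyUnramified ↔
      FormallyUnramified (fibHom v (G.hom x)).left
    rw [unram_fib_iff, ← unram_homog]
  refine ⟨?_, hV.trans h2⟩
  have hU : {s : S | FormallyUnramified (fibHom v s).left} =
      (GrpFib.unitSec G).base ⁻¹' {x | (v.left.stalkMap x).hom.FormallyUnramified} := by
    ext s; exact unram_fib_iff v s
  rw [hU, ← hV]
  exact hopen.preimage (GrpFib.unitSec G).continuous

end Unram

section Etale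

variable [Flat G.hom] [LocallyOfFinitePresentation G.hom] [LocallyOfFiniteType H.hom]

omit [GrpObj G] [GrpObj H] [IsMonHom v] [Flat G.hom] in
include v in
theorem lfp_hom : LocallyOfFinitePresentation v.left := by
  haveI : LocallyOfFinitePresentation (v.left ≫ H.hom) := by rw [Over.w v]; infer_instance
  exact locallyOfFinitePresentation_of_comp v.left H.hom

omit [GrpObj G] [GrpObj H] [IsMonHom v] [Flat G.hom] in
theorem etale_fib_iff (s : S) :
    Etale (fibHom v s).left ↔
      Flat (fibHom v s).left ∧ FormallyUnramified (fibHom v s).left := by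
  haveI := lfp_hom v
  haveI : LocallyOfFinitePresentation (fibHom v s).left :=
    MorphismProperty.of_isPullback (P := @LocallyOfFinitePresentation) (isPullback_fibHom v s)
      inferInstance
  rw [Etale.iff_flat_and_formallyUnramified]
  exact ⟨fun h => ⟨h.1, h.2.1⟩, fun h => ⟨h.1, h.2, inferInstance⟩⟩

theorem s5314 :
    IsOpen {s : S | Etale (fibHom v s).left} ∧
    {x : G.left | ∃ W : G.left.Opens, x ∈ W ∧ Etale (W.ι ≫ v.left)} =
      G.hom.base ⁻¹' {s : S | Etale (fibHom v s).left} := by
  haveI := lfp_hom v
  have hfl := s5312 v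
  have hun := s5316 v
  have hset : {s : S | Etale (fibHom v s).left} =
      {s | Flat (fibHom v s).left} ∩ {s | FormallyUnramified (fibHom v s).left} := by
    ext s; exact etale_fib_iff v s
  refine ⟨?_, ?_⟩
  · rw [hset]; exact hfl.1.inter hun.1
  · rw [hset, Set.preimage_inter, ← hfl.2, ← hun.2]
    ext x
    rw [Set.mem_inter_iff]
    refine (Groth.Agent.H6.FibSm.exists_etale_nhd_iff v.left x).trans (and_congr Iff.rfl ?_)
    exact (H5.LL.exists_unramified_nhd_iff v.left x).symm

theorem s5317 [UniversallyInjective v.left] :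
    IsOpen {s : S | IsOpenImmersion (fibHom v s).left} ∧
    ∀ W : S.Opens, (W : Set S) ⊆ {s : S | IsOpenImmersion (fibHom v s).left} →
      IsOpenImmersion ((G.hom ⁻¹ᵁ W).ι ≫ v.left) := by
  haveI := lfp_hom v
  have het := s5314 v
  have hset : {s : S | IsOpenImmersion (fibHom v s).left} =
      {s | Etale (fibHom v s).left} := by
    ext s
    constructor
    · intro h
      haveI : IsOpenImmersion (fibHom v s).left := h
      exact (inferInstance : Etale (fibHom v s).left)
    · intro h
      haveI : Etale (fibHom v s).left := h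
      haveI : UniversallyInjective (fibHom v s).left :=
        MorphismProperty.of_isPullback (P := @UniversallyInjective) (isPullback_fibHom v s)
          inferInstance
      exact Groth.Agent.H3.EtGraph.isOpenImmersion_of_etale_of_universallyInjective _
  refine ⟨by rw [hset]; exact het.1, ?_⟩
  intro W hW
  rw [hset] at hW
  have hpt : ∀ x ∈ G.hom ⁻¹ᵁ W, (v.left.stalkMap x).hom.Flat ∧
      (v.left.stalkMap x).hom.FormallyUnramified := by
    intro x hx
    have hx' : x ∈ G.hom.base ⁻¹' {s | Etale (fibHom v s).left} := hW hx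
    rw [← het.2] at hx'
    exact (Groth.Agent.H6.FibSm.exists_etale_nhd_iff v.left x).1 hx'
  haveI : Flat ((G.hom ⁻¹ᵁ W).ι ≫ v.left) :=
    Groth.Agent.H7.FlatLocBC.flat_restrict_of_forall v.left _ fun a ha => (hpt a ha).1
  haveI : FormallyUnramified ((G.hom ⁻¹ᵁ W).ι ≫ v.left) :=
    HasRingHomProperty.of_stalkMap (P := @FormallyUnramified)
      RingHom.FormallyUnramified.ofLocalizationPrime fun a =>
      (H5.AL.formallyUnramified_stalkMap_comp (G.hom ⁻¹ᵁ W).ι v.left a).1 (hpt _ a.2).2
  haveI : Etale ((G.hom ⁻¹ᵁ W).ι ≫ v.left) := Etale.of_formallyUnramified_of_flat _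
  haveI : UniversallyInjective ((G.hom ⁻¹ᵁ W).ι ≫ v.left) :=
    MorphismProperty.comp_mem _ _ _ inferInstance inferInstance
  exact Groth.Agent.H3.EtGraph.isOpenImmersion_of_etale_of_universallyInjective _

end Etale

section Smooth

theorem smooth_homog [Flat G.hom] [LocallyOfFinitePresentation v.left] (x : G.left) :
    (v.left.stalkMap x).hom.FormallySmooth ↔
      (v.left.stalkMap (GrpFib.unitSec G (G.hom x))).hom.FormallySmooth := by
  haveI : LocallyOfFinitePresentation (G ◁ v).left :=
    MorphismProperty.of_isPullback (P := @LocallyOfFinitePresentation) (hsq v) inferInstance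
  haveI hflat : Flat (snd G H).left := by
    show Flat (pullback.snd G.hom H.hom); infer_instance
  refine homog (fun x => (v.left.stalkMap x).hom.FormallySmooth)
    (fun w => ((G ◁ v).left.stalkMap w).hom.FormallySmooth) ?_ ?_ x
  · intro w
    constructor
    · intro h
      exact H5.DF.formallySmooth_stalkMap_of_isPullback_flat (hsq v) w (Flat.stalkMap _ _) h
    · intro h
      exact Groth.Agent.H1.ConsFib.formallySmooth_stalkMap_of_isPullback (hsq v) w h
  · intro w
    constructor
    · intro h
      exact H5.DF.formallySmooth_stalkMap_of_isPullback_flat (hsq_shear v) w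
        (Flat.stalkMap _ _) h
    · intro h
      exact Groth.Agent.H1.ConsFib.formallySmooth_stalkMap_of_isPullback (hsq_shear v) w h

variable [Flat G.hom] [LocallyOfFinitePresentation G.hom] [LocallyOfFiniteType H.hom]

theorem smooth_fib_iff (s : S) :
    Smooth (fibHom v s).left ↔
      (v.left.stalkMap (GrpFib.unitSec G s)).hom.FormallySmooth := by
  haveI := lfp_hom v
  have hP := isPullback_fibHom v s
  haveI : LocallyOfFinitePresentation (fibHom v s).left :=
    MorphismProperty.of_isPullback (P := @LocallyOfFinitePresentation) hP inferInstance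
  constructor
  · intro hsm
    haveI := hsm
    obtain ⟨x', hx'⟩ := exists_fiberι_eq G.hom (GrpFib.unitSec G s) s (GrpFib.hom_unitSec G s)
    have hs : G.hom (G.hom.fiberι s x') = s := Groth.Agent.H1.ValDim.base_fiberι G.hom s x'
    have hmem : G.hom.fiberι s x' ∈ G.hom.base ⁻¹' {s | Flat (fibHom v s).left} := by
      show Flat (fibHom v (G.hom (G.hom.fiberι s x'))).left
      rw [hs]; infer_instance
    rw [← (s5312 v).2] at hmem
    have hx1 : x' ∈ (fibHom v s).left.smoothLocus := by
      rw [Scheme.Hom.smoothLocus_eq_top]; trivial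
    have hx2 : ((fibHom v s).left.stalkMap x').hom.FormallySmooth :=
      Scheme.Hom.mem_smoothLocus.1 hx1
    have h1 := Groth.Agent.H6.FibSm.mem_smoothLocus_of_isPullback hP x' hmem hx2
    rw [hx'] at h1
    exact Scheme.Hom.mem_smoothLocus.1 h1
  · intro he
    refine Scheme.Hom.smoothLocus_eq_top_iff.mp ?_
    rw [← top_le_iff]
    rintro z -
    refine Groth.Agent.H1.ConsFib.formallySmooth_stalkMap_of_isPullback hP z ?_
    rw [smooth_homog v]
    have hs : G.hom (G.hom.fiberι s z) = s := Groth.Agent.H1.ValDim.base_fiberι G.hom s z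
    exact (stalk_iff v.left (fun φ => φ.FormallySmooth)
      (congrArg (fun t => (GrpFib.unitSec G) t) hs.symm)).1 he

theorem s5313 :
    IsOpen {s : S | Smooth (fibHom v s).left} ∧
    {x : G.left | ∃ W : G.left.Opens, x ∈ W ∧ Smooth (W.ι ≫ v.left)} =
      G.hom.base ⁻¹' {s : S | Smooth (fibHom v s).left} := by
  haveI := lfp_hom v
  have hV : {x : G.left | ∃ W : G.left.Opens, x ∈ W ∧ Smooth (W.ι ≫ v.left)} =
      {x | (v.left.stalkMap x).hom.FormallySmooth} := by
    ext x; exact H5.DS.exists_smooth_nhd_iff_lfp v.left x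
  have hopen : IsOpen {x : G.left | (v.left.stalkMap x).hom.FormallySmooth} :=
    v.left.isOpen_smoothLocus
  have h2 : {x : G.left | (v.left.stalkMap x).hom.FormallySmooth} =
      G.hom.base ⁻¹' {s | Smooth (fibHom v s).left} := by
    ext x
    show (v.left.stalkMap x).hom.FormallySmooth ↔ Smooth (fibHom v (G.hom x)).left
    rw [smooth_fib_iff, ← smooth_homog]
  refine ⟨?_, hV.trans h2⟩
  have hU : {s : S | Smooth (fibHom v s).left} =
      (GrpFib.unitSec G).base ⁻¹' {x | (v.left.stalkMap x).hom.FormallySmooth} := by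
    ext s; exact smooth_fib_iff v s
  rw [hU]
  exact hopen.preimage (GrpFib.unitSec G).continuous

end Smooth

end Groth.Agent.H1.GrpLoci
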