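import Mathlib
open CategoryTheory CategoryTheory.Limits AlgebraicGeometry Opposite
universe u
namespace Groth.Agent.H1.DescDom

/-- Base change of a dominant morphism along an open map is dominant. -/
lemma isDominant_snd_of_isOpenMap {X Y Y' : Scheme.{u}} (f : X ⟶ Y) (g : Y' ⟶ Y)
    (hg : IsOpenMap g) [IsDominant f] : IsDominant (pullback.snd f g) := by
  refine ⟨?_⟩
  rw [DenseRange, dense_iff_inter_open]
  intro U hU hne
  have hgU : IsOpen (g '' U) := hg U hU
  have hne' : (g '' U).Nonempty := hne.image _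
  obtain ⟨y, hy, ⟨x, hx⟩⟩ := (dense_iff_inter_open.mp f.denseRange) _ hgU hne'
  obtain ⟨u, hu, rfl⟩ := hy
  obtain ⟨z, hz1, hz2⟩ := Scheme.Pullback.exists_preimage_pullback x u hx
  exact ⟨u, hu, z, hz2⟩

/-- If `g` is surjective and the base change of `f` along `g` is dominant, then `f` is dominant. -/
lemma isDominant_of_snd_of_jointly {ι : Type*} {X Y : Scheme.{u}} {Y' : ι → Scheme.{u}} (f : X ⟶ Y)
    (g : ∀ i, Y' i ⟶ Y)
    (hg : ∀ y : Y, ∃ i, y ∈ Set.range (g i)) (h : ∀ i, IsDominant (pullback.snd f (g i))) :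
    IsDominant f := by
  refine ⟨?_⟩
  rw [DenseRange, dense_iff_inter_open]
  intro U hU ⟨y, hy⟩
  obtain ⟨i, u, rfl⟩ := hg y
  have hne : ((g i) ⁻¹' U).Nonempty := ⟨u, hy⟩
  obtain ⟨u', hu', ⟨z, rfl⟩⟩ := (dense_iff_inter_open.mp (h i).denseRange) _
    (hU.preimage (g i).continuous) hne
  refine ⟨g i (pullback.snd f (g i) z), hu', pullback.fst f (g i) z, ?_⟩
  rw [← Scheme.Hom.comp_apply, ← Scheme.Hom.comp_apply, pullback.condition]

/-- If a jointly surjective family `g i` has all `g i ≫ f` open maps, then `f` is an open map. -/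
lemma isOpenMap_of_jointly {ι : Type*} {X Y : Scheme.{u}} {Xi : ι → Scheme.{u}} (f : X ⟶ Y)
    (g : ∀ i, Xi i ⟶ X) (hg : ∀ x : X, ∃ i, x ∈ Set.range (g i))
    (h : ∀ i, IsOpenMap (g i ≫ f)) : IsOpenMap f := by
  intro U hU
  have : f '' U = ⋃ i, (g i ≫ f) '' ((g i) ⁻¹' U) := by
    ext y
    simp only [Set.mem_image, Set.mem_iUnion, Set.mem_preimage]
    constructor
    · rintro ⟨x, hx, rfl⟩
      obtain ⟨i, x', rfl⟩ := hg x
      exact ⟨i, x', hx, by simp⟩
    · rintro ⟨i, x', hx', rfl⟩
      exact ⟨g i x', hx', by simp⟩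
  rw [this]
  exact isOpen_iUnion fun i => h i _ (hU.preimage (g i).continuous)

lemma respectsIso_isOpenMap :
    MorphismProperty.RespectsIso (topologically (fun f => IsOpenMap f) : MorphismProperty Scheme.{u}) :=
  MorphismProperty.respectsIso_of_isStableUnderComposition fun _ _ f (_ : IsIso f) ↦
    f.homeomorph.isOpenMap

set_option backward.isDefEq.respectTransparency.types false in
lemma universallyOpen_of_jointly {ι : Type*} {X Y : Scheme.{u}} {Xi : ι → Scheme.{u}} (f : X ⟶ Y)
    (g : ∀ i, Xi i ⟶ X) (hg : ∀ x : X, ∃ i, x ∈ Set.range (g i))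
    (h : ∀ i, UniversallyOpen (g i ≫ f)) : UniversallyOpen f := by
  refine ⟨MorphismProperty.universally_mk' _ _ fun {T} t _ ↦ ?_⟩
  -- the family `a i : pullback (pullback.snd t f) (g i) ⟶ pullback t f` is jointly surjective
  refine isOpenMap_of_jointly (pullback.fst t f)
    (fun i => pullback.fst (pullback.snd t f) (g i)) ?_ ?_
  · intro z
    obtain ⟨i, x', hx'⟩ := hg (pullback.snd t f z)
    obtain ⟨w, hw1, hw2⟩ := Scheme.Pullback.exists_preimage_pullback (f := pullback.snd t f)
      (g := g i) z x' hx'.symm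
    exact ⟨i, w, hw1⟩
  · intro i
    have sq : IsPullback (pullback.fst (pullback.snd t f) (g i) ≫ pullback.fst t f)
        (pullback.snd (pullback.snd t f) (g i)) t (g i ≫ f) :=
      (IsPullback.of_hasPullback (pullback.snd t f) (g i)).paste_horiz (IsPullback.of_hasPullback t f)
    have : UniversallyOpen (pullback.fst (pullback.snd t f) (g i) ≫ pullback.fst t f) :=
      MorphismProperty.of_isPullback sq.flip (h i)
    exact Scheme.Hom.isOpenMap _

end Groth.Agent.H1.DescDom
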