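import Mathlib
import Groth.Agent.Lib.Helper9.Misc.GSE0
import Groth.Agent.Lib.Helper1.DescDom

/-! Products of quasi-compact dominant morphisms over a local artinian ring are dominant
(SGA3 VI_A 2.1.2 / EGA IV 2.3.7 flavour) (helper1). -/

set_option autoImplicit false
set_option linter.style.haveILetI false
universe u

namespace Groth.Agent.H1.ArtProd

open CategoryTheory CategoryTheory.Limits MonoidalCategory CartesianMonoidalCategory
  AlgebraicGeometry

variable {S : Scheme.{u}}

theorem isPullback_whiskerRight_left {A B : Over S} (g : A ⟶ B) (C : Over S) :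
    IsPullback (fst A C).left (g ▷ C).left g.left (fst B C).left := by
  refine (IsPullback.of_right (h₁₂ := (snd B C).left) (v₁₃ := C.hom) (h₂₂ := B.hom) ?_ ?_ ?_).flip
  · have e1 : (g ▷ C).left ≫ (snd B C).left = (snd A C).left := Over.whiskerRight_left_snd g
    have e2 : g.left ≫ B.hom = A.hom := Over.w g
    rw [e1, e2]
    exact (IsPullback.of_hasPullback A.hom C.hom).flip
  · exact Over.whiskerRight_left_fst g
  · exact (IsPullback.of_hasPullback B.hom C.hom).flip

theorem isPullback_whiskerLeft_left (C : Over S) {A B : Over S} (g : A ⟶ B) :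
    IsPullback (snd C A).left (C ◁ g).left g.left (snd C B).left := by
  refine (IsPullback.of_right (h₁₂ := (fst C B).left) (v₁₃ := C.hom) (h₂₂ := B.hom) ?_ ?_ ?_).flip
  · have e1 : (C ◁ g).left ≫ (fst C B).left = (fst C A).left := Over.whiskerLeft_left_fst g
    have e2 : g.left ≫ B.hom = A.hom := Over.w g
    rw [e1, e2]
    exact (IsPullback.of_hasPullback C.hom A.hom)
  · exact Over.whiskerLeft_left_snd g
  · exact (IsPullback.of_hasPullback C.hom B.hom)

/-- base change of a dominant morphism along an open map is dominant (square form) -/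
theorem isDominant_of_isPullback {P X' X Z : Scheme.{u}} {p' : P ⟶ X'} {f' : P ⟶ Z} {f : X' ⟶ X}
    {p : Z ⟶ X} (sq : IsPullback p' f' f p) (hp : IsOpenMap p.base) [IsDominant f] :
    IsDominant f' := by
  have h := Groth.Agent.H1.DescDom.isDominant_snd_of_isOpenMap f p hp
  have e : f' = sq.isoPullback.hom ≫ pullback.snd f p := by simp
  rw [e]
  infer_instance

theorem s5335 (A : Type u) [CommRing A] [IsArtinianRing A] [IsLocalRing A]
    (X X' Y Y' : Over (Spec (CommRingCat.of A)))
    (f : X' ⟶ X) (g : Y' ⟶ Y) [QuasiCompact f.left] [QuasiCompact g.left]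
    (hf : DenseRange f.left.base) (hg : DenseRange g.left.base) :
    DenseRange (f ⊗ₘ g).left.base ∧ QuasiCompact (f ⊗ₘ g).left := by
  have hfd : IsDominant f.left := ⟨hf⟩
  have hgd : IsDominant g.left := ⟨hg⟩
  have hUO : ∀ Z : Over (Spec (CommRingCat.of A)), UniversallyOpen Z.hom :=
    fun Z => Groth.Agent.H9.GSE.UOBase.uo Z.hom
  have hY' := hUO Y'
  have hX := hUO X
  have ho1 : IsOpenMap (fst X Y').left.base := by
    rw [Over.fst_left]
    exact (pullback.fst X.hom Y'.hom).isOpenMap
  have ho2 : IsOpenMap (snd X Y).left.base := by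
    rw [Over.snd_left]
    exact (pullback.snd X.hom Y.hom).isOpenMap
  have h1 : IsDominant (f ▷ Y').left := isDominant_of_isPullback (isPullback_whiskerRight_left f Y') ho1
  have h2 : IsDominant (X ◁ g).left := isDominant_of_isPullback (isPullback_whiskerLeft_left X g) ho2
  have e : (f ⊗ₘ g) = (f ▷ Y') ≫ (X ◁ g) := tensorHom_def f g
  refine ⟨?_, ?_⟩
  · rw [e, Over.comp_left]
    exact (inferInstance : IsDominant ((f ▷ Y').left ≫ (X ◁ g).left)).1
  · rw [Over.tensorHom_left]
    exact MorphismProperty.pullbackMap (P := @QuasiCompact) ‹_› ‹_› (Over.w f).symm (Over.w g).symm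

end Groth.Agent.H1.ArtProd
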