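import Mathlib
import Groth.Agent.Lib.Helper1.IntModelAlg

/-!
# Descent of a faithfully flat finitely presented algebra to a finite type `ℤ`-algebra
-/

set_option autoImplicit false

universe u

open TensorProduct Function

namespace Groth.Agent.H1.FFModel

attribute [local instance] Algebra.TensorProduct.rightAlgebra

/-- the fibre of a base change over a prime is nonempty as soon as the fibre over the
contraction is. -/
theorem mem_range_comap_baseChange {R₀ A₁ S₀ : Type u} [CommRing R₀] [CommRing A₁] [CommRing S₀]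
    [Algebra R₀ A₁] [Algebra R₀ S₀] (P : PrimeSpectrum A₁)
    (h : PrimeSpectrum.comap (algebraMap R₀ A₁) P ∈ Set.range (PrimeSpectrum.comap (algebraMap R₀ S₀))) :
    P ∈ Set.range (PrimeSpectrum.comap (algebraMap A₁ (A₁ ⊗[R₀] S₀))) := by
  set p₀ := PrimeSpectrum.comap (algebraMap R₀ A₁) P with hp₀
  rw [← PrimeSpectrum.nontrivial_iff_mem_rangeComap] at h ⊢
  letI : Algebra p₀.asIdeal.ResidueField P.asIdeal.ResidueField :=
    (Ideal.ResidueField.mapₐ p₀.asIdeal P.asIdeal (Algebra.ofId R₀ A₁) rfl).toRingHom.toAlgebra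
  haveI : IsScalarTower R₀ p₀.asIdeal.ResidueField P.asIdeal.ResidueField :=
    IsScalarTower.of_algebraMap_eq fun x => by
      rw [RingHom.algebraMap_toAlgebra]
      simp [IsScalarTower.algebraMap_apply R₀ A₁ P.asIdeal.ResidueField]
  let e1 := AlgebraTensorModule.cancelBaseChange R₀ A₁ P.asIdeal.ResidueField P.asIdeal.ResidueField S₀
  let e2 := AlgebraTensorModule.cancelBaseChange R₀ p₀.asIdeal.ResidueField P.asIdeal.ResidueField
    P.asIdeal.ResidueField S₀
  have h3 : Nontrivial (P.asIdeal.ResidueField ⊗[p₀.asIdeal.ResidueField]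
      (p₀.asIdeal.ResidueField ⊗[R₀] S₀)) := by
    infer_instance
  exact (e1.trans e2.symm).toEquiv.nontrivial


/-- the span of the image of a finite set is the unit ideal: partition of unity -/
theorem exists_sum_eq_one {R₀ A : Type u} [CommRing R₀] [CommRing A] [Algebra R₀ A]
    (s : Finset R₀) (h : (Ideal.span (s : Set R₀)).map (algebraMap R₀ A) = ⊤) :
    ∃ a : R₀ → A, ∑ i ∈ s, a i * algebraMap R₀ A i = 1 := by
  classical
  rw [Ideal.map_span] at h
  have h1 : (1 : A) ∈ Submodule.span A ((algebraMap R₀ A) '' (s : Set R₀)) := by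
    change (1 : A) ∈ Ideal.span ((algebraMap R₀ A) '' (s : Set R₀))
    rw [h]; trivial
  obtain ⟨l, hl, hl1⟩ := (Finsupp.mem_span_image_iff_linearCombination A).mp h1
  refine ⟨fun i => l i, ?_⟩
  rw [← hl1, Finsupp.linearCombination_apply]
  rw [Finsupp.sum_of_support_subset l ((Finsupp.mem_supported A l).mp hl) _ (by simp)]
  simp [smul_eq_mul]

/-- **Descent of a faithfully flat finitely presented algebra to a finitely generated
`ℤ`-subalgebra**, which can be taken to contain any given finitely generated subalgebra. -/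
theorem exists_ff_model (A B : Type u) [CommRing A] [CommRing B] [Algebra A B]
    [Algebra.FinitePresentation A B] [Module.FaithfullyFlat A B] (T : Subalgebra ℤ A) (hT : T.FG) :
    ∃ (A₁ : Subalgebra ℤ A), T ≤ A₁ ∧ A₁.FG ∧ ∃ (B₁ : Type u) (_ : CommRing B₁)
      (_ : Algebra A₁ B₁) (_ : Algebra B₁ B) (_ : IsScalarTower A₁ B₁ B),
      Algebra.FinitePresentation A₁ B₁ ∧ Module.FaithfullyFlat A₁ B₁ ∧
        Algebra.IsPushout A₁ A B₁ B := by
  classical
  obtain ⟨R₀, hR₀, S₀, _, _, _, _, hfp, hflat, hpush⟩ :=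
    Groth.Agent.H1.IntModel.exists_int_model_algebra A B
  haveI : IsNoetherianRing R₀ := Groth.Agent.H1.LimFlat.isNoetherianRing_of_fg R₀ hR₀
  -- the open image
  set U : Set (PrimeSpectrum R₀) := Set.range (PrimeSpectrum.comap (algebraMap R₀ S₀)) with hU
  have hUo : IsOpen U := by
    rw [hU, ← Set.image_univ]
    exact PrimeSpectrum.isOpenMap_comap_of_hasGoingDown_of_finitePresentation _ isOpen_univ
  set 𝔞 : Ideal R₀ := PrimeSpectrum.vanishingIdeal Uᶜ with h𝔞
  have hz : PrimeSpectrum.zeroLocus (𝔞 : Set R₀) = Uᶜ := by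
    rw [h𝔞, PrimeSpectrum.zeroLocus_vanishingIdeal_eq_closure, hUo.isClosed_compl.closure_eq]
  obtain ⟨s, hs⟩ := (isNoetherianRing_iff_ideal_fg R₀).mp inferInstance 𝔞
  -- extension is the unit ideal
  have htop : 𝔞.map (algebraMap R₀ A) = ⊤ := by
    by_contra hne
    obtain ⟨m, hm, hle⟩ := Ideal.exists_le_maximal _ hne
    obtain ⟨q, hq⟩ := PrimeSpectrum.comap_surjective_of_faithfullyFlat (B := B)
      (⟨m, hm.isPrime⟩ : PrimeSpectrum A)
    have h1 : PrimeSpectrum.comap (algebraMap R₀ A) ⟨m, hm.isPrime⟩ ∈ U := by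
      refine ⟨PrimeSpectrum.comap (algebraMap S₀ B) q, ?_⟩
      rw [← hq, ← PrimeSpectrum.comap_comp_apply, ← PrimeSpectrum.comap_comp_apply,
        ← IsScalarTower.algebraMap_eq, ← IsScalarTower.algebraMap_eq]
    have h2 : PrimeSpectrum.comap (algebraMap R₀ A) ⟨m, hm.isPrime⟩ ∈ Uᶜ := by
      rw [← hz, PrimeSpectrum.mem_zeroLocus]
      intro x hx
      exact hle (Ideal.mem_map_of_mem _ hx)
    exact h2 h1
  rw [← hs] at htop
  obtain ⟨a, ha⟩ := exists_sum_eq_one s htop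
  -- the big subalgebra
  let A₁ : Subalgebra ℤ A := R₀ ⊔ T ⊔ Algebra.adjoin ℤ ((s.image fun i => a i : Finset A) : Set A)
  have hA₁fg : A₁.FG := (hR₀.sup hT).sup (Subalgebra.fg_adjoin_finset _)
  have h01 : R₀ ≤ A₁ := le_sup_left.trans le_sup_left
  have hT1 : T ≤ A₁ := le_sup_right.trans le_sup_left
  have ha1 : ∀ i ∈ s, a i ∈ A₁ := fun i hi =>
    (le_sup_right : _ ≤ A₁) (Algebra.subset_adjoin (by
      simp only [Finset.coe_image, Set.mem_image, Finset.mem_coe]
      exact ⟨i, hi, rfl⟩))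
  letI alg01 : Algebra R₀ A₁ := (Subalgebra.inclusion h01).toAlgebra
  haveI tow01 : IsScalarTower R₀ A₁ A := IsScalarTower.of_algebraMap_eq fun x => rfl
  haveI tow01B : IsScalarTower R₀ A₁ B := IsScalarTower.of_algebraMap_eq fun x => rfl
  let ψ : A₁ ⊗[R₀] S₀ →ₐ[R₀] B := Algebra.TensorProduct.lift (IsScalarTower.toAlgHom R₀ A₁ B)
    (IsScalarTower.toAlgHom R₀ S₀ B) (fun _ _ => Commute.all _ _)
  letI algB₁B : Algebra (A₁ ⊗[R₀] S₀) B := ψ.toRingHom.toAlgebra
  haveI t1 : IsScalarTower A₁ (A₁ ⊗[R₀] S₀) B := IsScalarTower.of_algebraMap_eq fun x => by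
    change _ = ψ (x ⊗ₜ 1)
    simp [ψ]
  haveI t2 : IsScalarTower R₀ (A₁ ⊗[R₀] S₀) B := IsScalarTower.of_algebraMap_eq fun x => by
    change _ = ψ (algebraMap R₀ _ x)
    rw [ψ.commutes]
  haveI t3 : IsScalarTower S₀ (A₁ ⊗[R₀] S₀) B := IsScalarTower.of_algebraMap_eq fun x => by
    change _ = ψ (1 ⊗ₜ x)
    simp [ψ]
  have hpush1 : Algebra.IsPushout A₁ A (A₁ ⊗[R₀] S₀) B :=
    (Algebra.IsPushout.comp_iff R₀ A₁ S₀ (A₁ ⊗[R₀] S₀) (T := A) (T' := B)).mp hpush
  refine ⟨A₁, hT1, hA₁fg, A₁ ⊗[R₀] S₀, inferInstance, inferInstance, algB₁B, t1, inferInstance, ?_,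
    hpush1⟩
  apply Module.FaithfullyFlat.of_comap_surjective
  intro P
  apply mem_range_comap_baseChange (R₀ := R₀) (S₀ := S₀) P
  by_contra hP
  have hP' : PrimeSpectrum.comap (algebraMap R₀ A₁) P ∈ Uᶜ := hP
  rw [← hz, PrimeSpectrum.mem_zeroLocus, ← hs] at hP'
  have hmem : ∀ i ∈ s, algebraMap R₀ A₁ i ∈ P.asIdeal := fun i hi =>
    hP' (Ideal.subset_span hi)
  let a' : R₀ → A₁ := fun i => if h : i ∈ s then ⟨a i, ha1 i h⟩ else 0
  have hone : (∑ i ∈ s, a' i * algebraMap R₀ A₁ i) = 1 := by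
    apply Subtype.ext
    rw [AddSubmonoidClass.coe_finsetSum, OneMemClass.coe_one, ← ha]
    refine Finset.sum_congr rfl fun i hi => ?_
    simp only [a', dif_pos hi, MulMemClass.coe_mul]
    rfl
  have h1P : (1 : A₁) ∈ P.asIdeal := by
    rw [← hone]
    exact Ideal.sum_mem _ fun i hi => Ideal.mul_mem_left _ _ (hmem i hi)
  exact P.2.ne_top ((Ideal.eq_top_iff_one _).mpr h1P)

end Groth.Agent.H1.FFModel
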