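import Mathlib
import Groth.Agent.Lib.Helper1.FFModel

/-!
# Finite type / finite presentation descend along a faithfully flat finitely presented
extension of the source (Stacks 00QP, 00QQ)
-/

set_option autoImplicit false

universe u

open TensorProduct Function

namespace Groth.Agent.H1.FFSource

/-- if the base change of `ι : N' → A` to a faithfully flat algebra is surjective then `ι` is
surjective. Formulated with a pushout. -/
theorem surjective_of_pushout {A₁ A B₁ B : Type u} [CommRing A₁] [CommRing A] [CommRing B₁]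
    [CommRing B] [Algebra A₁ A] [Algebra A₁ B₁] [Algebra A B] [Algebra B₁ B] [Algebra A₁ B]
    [IsScalarTower A₁ A B] [IsScalarTower A₁ B₁ B] [Module.FaithfullyFlat A₁ B₁]
    (hpush : Algebra.IsPushout A₁ A B₁ B) {N' : Type u} [AddCommGroup N'] [Module A₁ N']
    (ι : N' →ₗ[A₁] A)
    (h : ∀ y : B, ∃ w : N' ⊗[A₁] B₁, hpush.out.equiv ((ι.rTensor B₁) w) = y) : Surjective ι := by
  rw [← LinearMap.range_eq_top]
  set N := LinearMap.range ι with hN
  have hsub : Subsingleton ((A ⧸ N) ⊗[A₁] B₁) := by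
    refine ⟨fun z z' => ?_⟩
    suffices hz : ∀ z : (A ⧸ N) ⊗[A₁] B₁, z = 0 by rw [hz z, hz z']
    intro z
    obtain ⟨w, rfl⟩ := LinearMap.rTensor_surjective B₁ (Submodule.mkQ_surjective N) z
    obtain ⟨w', hw'⟩ := h (hpush.out.equiv w)
    have : w = (ι.rTensor B₁) w' := (hpush.out.equiv.injective hw').symm
    rw [this, ← LinearMap.comp_apply, ← LinearMap.rTensor_comp]
    have h0 : N.mkQ ∘ₗ ι = 0 := by
      ext x
      simp only [LinearMap.comp_apply, Submodule.mkQ_apply, LinearMap.zero_apply]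
      exact (Submodule.Quotient.mk_eq_zero N).mpr ⟨x, rfl⟩
    rw [h0, LinearMap.rTensor_zero, LinearMap.zero_apply]
  have : Subsingleton (A ⧸ N) :=
    (Module.FaithfullyFlat.subsingleton_tensorProduct_iff_left A₁ (A ⧸ N)).mp hsub
  exact Submodule.Quotient.subsingleton_iff.mp this


/-- A subring `A₂ ⊆ A` containing the image of `A₁` such that `A₂` and `B₁` generate the
pushout `B = A ⊗_{A₁} B₁` as a ring is all of `A`, when `B₁` is faithfully flat over `A₁`. -/
theorem eq_top_of_closure_eq_top {A₁ A B₁ B : Type u} [CommRing A₁] [CommRing A] [CommRing B₁]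
    [CommRing B] [Algebra A₁ A] [Algebra A₁ B₁] [Algebra A B] [Algebra B₁ B] [Algebra A₁ B]
    [IsScalarTower A₁ A B] [IsScalarTower A₁ B₁ B] [Module.FaithfullyFlat A₁ B₁]
    (hpush : Algebra.IsPushout A₁ A B₁ B) (A₂ : Subalgebra ℤ A)
    (h₁ : ∀ x : A₁, algebraMap A₁ A x ∈ A₂)
    (h₂ : Subring.closure ((algebraMap A B) '' (A₂ : Set A) ∪ Set.range (algebraMap B₁ B)) = ⊤) :
    A₂ = ⊤ := by
  letI alg12 : Algebra A₁ A₂ := ((algebraMap A₁ A).codRestrict A₂ h₁).toAlgebra
  haveI tow : IsScalarTower A₁ A₂ A := IsScalarTower.of_algebraMap_eq fun x => rfl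
  haveI towB : IsScalarTower A₁ A₂ B := IsScalarTower.of_algebraMap_eq fun x => by
    rw [IsScalarTower.algebraMap_apply A₁ A B]; rfl
  let ψ₂ : A₂ ⊗[A₁] B₁ →ₐ[A₁] B := Algebra.TensorProduct.lift (IsScalarTower.toAlgHom A₁ A₂ B)
    (IsScalarTower.toAlgHom A₁ B₁ B) (fun _ _ => Commute.all _ _)
  have hψ : Surjective ψ₂ := by
    rw [← AlgHom.coe_toRingHom, ← RingHom.range_eq_top, eq_top_iff, ← h₂, Subring.closure_le]
    rintro y (⟨a, ha, rfl⟩ | ⟨β, rfl⟩)
    · exact ⟨(⟨a, ha⟩ : A₂) ⊗ₜ 1, by simp [ψ₂]⟩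
    · exact ⟨1 ⊗ₜ β, by simp [ψ₂]⟩
  let ι : A₂ →ₗ[A₁] A := (IsScalarTower.toAlgHom A₁ A₂ A).toLinearMap
  have hcomp : ∀ w : A₂ ⊗[A₁] B₁, hpush.out.equiv ((ι.rTensor B₁) w) = ψ₂ w := by
    intro w
    induction w using TensorProduct.induction_on with
    | zero => simp
    | tmul a β =>
      simp only [LinearMap.rTensor_tmul, IsBaseChange.equiv_tmul, ψ₂, ι,
        Algebra.TensorProduct.lift_tmul]
      simp [Algebra.smul_def]
      rfl
    | add x y hx hy => simp only [map_add, hx, hy]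
  have hsurj : Surjective ι := surjective_of_pushout hpush ι fun y => by
    obtain ⟨w, hw⟩ := hψ y
    exact ⟨w, (hcomp w).trans hw⟩
  rw [eq_top_iff]
  intro a _
  obtain ⟨a', rfl⟩ := hsurj a
  exact a'.2


/-- decomposition of an element of a pushout as a finite sum -/
theorem exists_finset_sum_smul {A₁ A B₁ B : Type u} [CommRing A₁] [CommRing A] [CommRing B₁]
    [CommRing B] [Algebra A₁ A] [Algebra A₁ B₁] [Algebra A B] [Algebra B₁ B] [Algebra A₁ B]
    [IsScalarTower A₁ A B] [IsScalarTower A₁ B₁ B]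
    (hpush : Algebra.IsPushout A₁ A B₁ B) (b : B) :
    ∃ S : Finset (A × B₁), b = ∑ i ∈ S, i.1 • algebraMap B₁ B i.2 := by
  obtain ⟨S, hS⟩ := TensorProduct.exists_finset (hpush.out.equiv.symm b)
  refine ⟨S, ?_⟩
  have := congrArg hpush.out.equiv hS
  rw [LinearEquiv.apply_symm_apply, map_sum] at this
  rw [this]
  refine Finset.sum_congr rfl fun i _ => ?_
  rw [IsBaseChange.equiv_tmul]
  rfl

/-- **Stacks 00QP.** -/
theorem finiteType_of_faithfullyFlat {R A B : Type u} [CommRing R] [CommRing A] [CommRing B]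
    [Algebra R A] [Algebra A B] [Algebra R B] [IsScalarTower R A B] [Algebra.FiniteType R B]
    [Module.FaithfullyFlat A B] [Algebra.FinitePresentation A B] : Algebra.FiniteType R A := by
  classical
  obtain ⟨A₁, -, hA₁fg, B₁, _, _, _, _, hfp₁, hff₁, hpush⟩ :=
    Groth.Agent.H1.FFModel.exists_ff_model A B ⊥ Subalgebra.fg_bot
  obtain ⟨g₁, hg₁⟩ := hA₁fg
  obtain ⟨t, ht⟩ := (Algebra.FiniteType.out : (⊤ : Subalgebra R B).FG)
  choose Sb hSb using fun b : B => exists_finset_sum_smul hpush b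
  let G : Finset A := t.biUnion (fun b => (Sb b).image Prod.fst)
  let A₂ : Subalgebra R A := Algebra.adjoin R ((g₁ ∪ G : Finset A) : Set A)
  have hsub : ∀ y ∈ g₁ ∪ G, y ∈ A₂ := fun y hy => Algebra.subset_adjoin (Finset.mem_coe.mpr hy)
  have hA₁A₂ : ∀ x ∈ A₁, x ∈ A₂ := by
    intro x hx
    rw [← hg₁] at hx
    have : Algebra.adjoin ℤ (g₁ : Set A) ≤ A₂.restrictScalars ℤ := by
      apply Algebra.adjoin_le
      intro y hy
      change y ∈ A₂
      exact hsub y (Finset.mem_union_left _ (Finset.mem_coe.mp hy))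
    exact this hx
  have htop : A₂.restrictScalars ℤ = ⊤ := by
    apply eq_top_of_closure_eq_top hpush (A₂.restrictScalars ℤ) (fun x => hA₁A₂ x.1 x.2)
    rw [eq_top_iff]
    have h3 : (Algebra.adjoin R (t : Set B)).toSubring ≤ Subring.closure
        ((algebraMap A B) '' ((A₂.restrictScalars ℤ : Subalgebra ℤ A) : Set A) ∪
          Set.range (algebraMap B₁ B)) := by
      rw [Algebra.adjoin_eq_ring_closure]
      apply Subring.closure_le.mpr
      rintro y (⟨r, rfl⟩ | hy)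
      · apply Subring.subset_closure
        left
        refine ⟨algebraMap R A r, A₂.algebraMap_mem r, ?_⟩
        rw [← IsScalarTower.algebraMap_apply]
      · rw [hSb y]
        refine Subring.sum_mem _ fun i hi => ?_
        rw [Algebra.smul_def]
        refine Subring.mul_mem _ (Subring.subset_closure (Or.inl ⟨i.1, ?_, rfl⟩))
          (Subring.subset_closure (Or.inr ⟨i.2, rfl⟩))
        change i.1 ∈ A₂
        apply hsub
        apply Finset.mem_union_right
        simp only [G, Finset.mem_biUnion, Finset.mem_image]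
        exact ⟨y, hy, i, hi, rfl⟩
    rw [ht] at h3
    exact h3
  have htop' : A₂ = ⊤ := by
    rw [eq_top_iff]
    intro a _
    have : a ∈ A₂.restrictScalars ℤ := by rw [htop]; trivial
    exact this
  exact ⟨⟨g₁ ∪ G, htop'⟩⟩


section model
attribute [local instance] Algebra.TensorProduct.rightAlgebra

set_option maxHeartbeats 800000 in
/-- **Stacks 00QO-type descent.** A faithfully flat finitely presented `A`-algebra `B`, with `A` an
`R`-algebra, comes from a faithfully flat finitely presented algebra `B₀` over a finitely presented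
`R`-algebra `A₀`; moreover the image of `A₀ → A` can be taken to contain any given finite set. -/
theorem exists_fp_model (R : Type u) {A B : Type u} [CommRing R] [CommRing A] [CommRing B]
    [Algebra R A] [Algebra A B] [Algebra.FinitePresentation A B] [Module.FaithfullyFlat A B]
    (T : Finset A) :
    ∃ (A₀ B₀ : Type u) (_ : CommRing A₀) (_ : CommRing B₀) (_ : Algebra R A₀) (_ : Algebra A₀ A)
      (_ : IsScalarTower R A₀ A) (_ : Algebra A₀ B₀) (_ : Algebra B₀ B) (_ : Algebra A₀ B)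
      (_ : IsScalarTower A₀ B₀ B) (_ : IsScalarTower A₀ A B),
      Algebra.FinitePresentation R A₀ ∧ Algebra.FinitePresentation A₀ B₀ ∧
      Module.FaithfullyFlat A₀ B₀ ∧ Algebra.IsPushout A₀ A B₀ B ∧
      (T : Set A) ⊆ Set.range (algebraMap A₀ A) := by
  classical
  obtain ⟨A₁, hTA₁, hA₁fg, B₁, _, _, _, _, hfp₁, hff₁, hpush⟩ :=
    Groth.Agent.H1.FFModel.exists_ff_model A B (Algebra.adjoin ℤ (T : Set A))
      (Subalgebra.fg_adjoin_finset T)
  haveI : IsNoetherianRing A₁ := Groth.Agent.H1.LimFlat.isNoetherianRing_of_fg A₁ hA₁fg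
  haveI : Algebra.FiniteType ℤ A₁ := (Subalgebra.fg_iff_finiteType A₁).mp hA₁fg
  haveI : Algebra.FinitePresentation ℤ A₁ := Algebra.FinitePresentation.of_finiteType.mp inferInstance
  -- A₀
  let φ₀ : R ⊗[ℤ] A₁ →ₐ[R] A := Algebra.TensorProduct.lift (Algebra.ofId R A) A₁.val
    (fun _ _ => Commute.all _ _)
  letI algA₀A : Algebra (R ⊗[ℤ] A₁) A := φ₀.toRingHom.toAlgebra
  haveI towRA₀A : IsScalarTower R (R ⊗[ℤ] A₁) A := IsScalarTower.of_algebraMap_eq fun r => by
    change _ = φ₀ (algebraMap R _ r)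
    rw [φ₀.commutes]
  haveI towA₁A₀A : IsScalarTower A₁ (R ⊗[ℤ] A₁) A := IsScalarTower.of_algebraMap_eq fun a => by
    change _ = φ₀ (1 ⊗ₜ a)
    simp [φ₀]
  letI algA₀B : Algebra (R ⊗[ℤ] A₁) B := ((algebraMap A B).comp (algebraMap (R ⊗[ℤ] A₁) A)).toAlgebra
  haveI towA₀AB : IsScalarTower (R ⊗[ℤ] A₁) A B := IsScalarTower.of_algebraMap_eq fun _ => rfl
  haveI towA₁A₀B : IsScalarTower A₁ (R ⊗[ℤ] A₁) B := IsScalarTower.of_algebraMap_eq fun a => by
    change _ = algebraMap A B (algebraMap (R ⊗[ℤ] A₁) A (algebraMap A₁ _ a))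
    rw [← IsScalarTower.algebraMap_apply A₁ (R ⊗[ℤ] A₁) A]
    rfl
  let ψ₀ : (R ⊗[ℤ] A₁) ⊗[A₁] B₁ →ₐ[A₁] B :=
    Algebra.TensorProduct.lift (IsScalarTower.toAlgHom A₁ (R ⊗[ℤ] A₁) B)
      (IsScalarTower.toAlgHom A₁ B₁ B) (fun _ _ => Commute.all _ _)
  letI algB₀B : Algebra ((R ⊗[ℤ] A₁) ⊗[A₁] B₁) B := ψ₀.toRingHom.toAlgebra
  have t1' := IsScalarTower.of_algebraMap_eq (R := R ⊗[ℤ] A₁) (S := (R ⊗[ℤ] A₁) ⊗[A₁] B₁) (A := B)
    (fun x => by
      change _ = ψ₀ (x ⊗ₜ 1)
      simp [ψ₀])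
  haveI t1 : IsScalarTower (R ⊗[ℤ] A₁) ((R ⊗[ℤ] A₁) ⊗[A₁] B₁) B := t1'
  have t2' := IsScalarTower.of_algebraMap_eq (R := A₁) (S := (R ⊗[ℤ] A₁) ⊗[A₁] B₁) (A := B)
    (fun x => by
      change _ = ψ₀ (algebraMap A₁ _ x)
      rw [ψ₀.commutes])
  haveI t2 : IsScalarTower A₁ ((R ⊗[ℤ] A₁) ⊗[A₁] B₁) B := t2'
  have t3' := IsScalarTower.of_algebraMap_eq (R := B₁) (S := (R ⊗[ℤ] A₁) ⊗[A₁] B₁) (A := B)
    (fun x => by
      change _ = ψ₀ (1 ⊗ₜ x)
      simp [ψ₀])
  haveI t3 : IsScalarTower B₁ ((R ⊗[ℤ] A₁) ⊗[A₁] B₁) B := t3'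
  have hpush0 : Algebra.IsPushout (R ⊗[ℤ] A₁) A ((R ⊗[ℤ] A₁) ⊗[A₁] B₁) B :=
    (Algebra.IsPushout.comp_iff A₁ (R ⊗[ℤ] A₁) B₁ ((R ⊗[ℤ] A₁) ⊗[A₁] B₁) (T := A) (T' := B)).mp hpush
  refine ⟨R ⊗[ℤ] A₁, (R ⊗[ℤ] A₁) ⊗[A₁] B₁, inferInstance, inferInstance, inferInstance, algA₀A,
    towRA₀A, inferInstance, algB₀B, algA₀B, t1, towA₀AB, inferInstance, inferInstance,
    inferInstance, hpush0, ?_⟩
  intro t ht
  have ht1 : t ∈ A₁ := hTA₁ (Algebra.subset_adjoin ht)
  exact ⟨1 ⊗ₜ ⟨t, ht1⟩, by change φ₀ _ = _; simp [φ₀]⟩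

end model


/-- if the extension of an ideal is finitely generated, it is the extension of a finitely
generated subideal. -/
lemma exists_fg_le_map_eq_of_fg {B F : Type*} [CommRing B] [CommRing F]
    (φ : B →+* F) (I : Ideal B) (hfg : (I.map φ).FG) :
    ∃ J : Ideal B, J.FG ∧ J ≤ I ∧ J.map φ = I.map φ := by
  classical
  obtain ⟨T, hT⟩ := hfg
  have hmem : ∀ t ∈ T, ∃ s : Finset B, (s : Set B) ⊆ I ∧ t ∈ Ideal.span (φ '' (s : Set B)) := by
    intro t ht
    have h1 : t ∈ I.map φ := by rw [← hT]; exact Ideal.subset_span ht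
    rw [Ideal.map, Ideal.span] at h1
    obtain ⟨s', hs', hts'⟩ := Submodule.mem_span_finite_of_mem_span h1
    have : ∀ y ∈ s', ∃ x : B, x ∈ I ∧ φ x = y := fun y hy => hs' hy
    choose! pre hpre using this
    refine ⟨s'.image pre, ?_, ?_⟩
    · intro x hx
      simp only [Finset.coe_image, Set.mem_image, Finset.mem_coe] at hx
      obtain ⟨y, hy, rfl⟩ := hx
      exact (hpre y hy).1
    · refine Submodule.span_mono ?_ hts'
      intro y hy
      refine ⟨pre y, ?_, (hpre y hy).2⟩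
      simp only [Finset.coe_image, Set.mem_image, Finset.mem_coe]
      exact ⟨y, hy, rfl⟩
  choose! s hs using hmem
  refine ⟨Ideal.span (T.biUnion s : Set B), ⟨T.biUnion s, rfl⟩, ?_, ?_⟩
  · rw [Ideal.span_le]
    intro x hx
    simp only [Finset.coe_biUnion, Finset.mem_coe, Set.mem_iUnion, exists_prop] at hx
    obtain ⟨t, ht, hxt⟩ := hx
    exact (hs t ht).1 hxt
  · apply le_antisymm
    · apply Ideal.map_mono
      rw [Ideal.span_le]
      intro x hx
      simp only [Finset.coe_biUnion, Finset.mem_coe, Set.mem_iUnion, exists_prop] at hx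
      obtain ⟨t, ht, hxt⟩ := hx
      exact (hs t ht).1 hxt
    · rw [← hT, Ideal.span_le]
      intro t ht
      rw [Ideal.map_span]
      refine Submodule.span_mono ?_ (hs t ht).2
      apply Set.image_mono
      intro x hx
      simp only [Finset.coe_biUnion, Finset.mem_coe, Set.mem_iUnion, exists_prop]
      exact ⟨t, ht, hx⟩

/-- the kernel of `B₀ → B = A ⊗_{A₀} B₀` for `A₀ → A` surjective is generated by the kernel of
`A₀ → A`. -/
theorem ker_pushout_of_surjective {A₀ A B₀ B : Type u} [CommRing A₀] [CommRing A] [CommRing B₀]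
    [CommRing B] [Algebra A₀ A] [Algebra A₀ B₀] [Algebra A B] [Algebra B₀ B] [Algebra A₀ B]
    [IsScalarTower A₀ A B] [IsScalarTower A₀ B₀ B]
    (hpush : Algebra.IsPushout A₀ A B₀ B) (hsurj : Surjective (algebraMap A₀ A)) :
    Surjective (algebraMap B₀ B) ∧
    RingHom.ker (algebraMap B₀ B) = (RingHom.ker (algebraMap A₀ A)).map (algebraMap A₀ B₀) := by
  set J := RingHom.ker (algebraMap A₀ A) with hJ
  -- the composite `B₀ → A ⊗ B₀ ≃ B`
  have hcomp : ∀ x : B₀, algebraMap B₀ B x = hpush.out.equiv ((1 : A) ⊗ₜ[A₀] x) := by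
    intro x
    rw [IsBaseChange.equiv_tmul, one_smul]
    rfl
  constructor
  · intro y
    obtain ⟨w, rfl⟩ := hpush.out.equiv.surjective y
    induction w using TensorProduct.induction_on with
    | zero => exact ⟨0, by simp⟩
    | tmul a x =>
      obtain ⟨a₀, rfl⟩ := hsurj a
      refine ⟨a₀ • x, ?_⟩
      rw [hcomp, ← TensorProduct.smul_tmul, Algebra.smul_def, mul_one]
    | add w w' hw hw' =>
      obtain ⟨x, hx⟩ := hw
      obtain ⟨x', hx'⟩ := hw'
      exact ⟨x + x', by rw [map_add, hx, hx', map_add]⟩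
  · ext x
    rw [RingHom.mem_ker, hcomp, LinearEquiv.map_eq_zero_iff]
    -- `1 ⊗ x = 0` in `A ⊗ B₀` iff `x ∈ J B₀`
    let e₁ : (A₀ ⧸ J) ≃ₐ[A₀] A := Ideal.quotientKerAlgEquivOfSurjective
      (f := Algebra.ofId A₀ A) hsurj
    let e₂ : (A₀ ⧸ J) ⊗[A₀] B₀ ≃ₗ[A₀] A ⊗[A₀] B₀ :=
      TensorProduct.congr e₁.toLinearEquiv (LinearEquiv.refl A₀ B₀)
    let e₃ := TensorProduct.quotTensorEquivQuotSMul B₀ J
    have h1 : (1 : A) ⊗ₜ[A₀] x = e₂ ((1 : A₀ ⧸ J) ⊗ₜ x) := by
      simp [e₂]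
    rw [h1, LinearEquiv.map_eq_zero_iff, ← LinearEquiv.map_eq_zero_iff e₃]
    have h2 : e₃ ((1 : A₀ ⧸ J) ⊗ₜ x) = Submodule.Quotient.mk x :=
      TensorProduct.quotTensorEquivQuotSMul_mk_one_tmul J x
    rw [h2, Submodule.Quotient.mk_eq_zero, Ideal.smul_top_eq_map]
    rfl


/-- **Stacks 00QQ.** -/
theorem finitePresentation_of_faithfullyFlat {R A B : Type u} [CommRing R] [CommRing A]
    [CommRing B] [Algebra R A] [Algebra A B] [Algebra R B] [IsScalarTower R A B]
    [Algebra.FinitePresentation R B] [Module.FaithfullyFlat A B] [Algebra.FinitePresentation A B] :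
    Algebra.FinitePresentation R A := by
  classical
  haveI : Algebra.FiniteType R A := finiteType_of_faithfullyFlat (R := R) (A := A) (B := B)
  obtain ⟨T, hT⟩ := (Algebra.FiniteType.out : (⊤ : Subalgebra R A).FG)
  obtain ⟨A₀, B₀, _, _, _, _, _, _, _, _, _, _, hfpA₀, hfpB₀, hffB₀, hpush, hTr⟩ :=
    exists_fp_model R (A := A) (B := B) T
  -- `A₀ → A` is surjective
  have hsurj : Surjective (algebraMap A₀ A) := by
    have : (IsScalarTower.toAlgHom R A₀ A).range = ⊤ := by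
      rw [eq_top_iff, ← hT]
      apply Algebra.adjoin_le
      intro t ht
      obtain ⟨x, hx⟩ := hTr ht
      exact ⟨x, hx⟩
    intro a
    have ha : a ∈ (IsScalarTower.toAlgHom R A₀ A).range := by rw [this]; trivial
    obtain ⟨x, hx⟩ := ha
    exact ⟨x, hx⟩
  obtain ⟨hsurjB, hker⟩ := ker_pushout_of_surjective hpush hsurj
  set J := RingHom.ker (algebraMap A₀ A) with hJ
  -- `B₀` is finitely presented over `R`
  letI algRB₀ : Algebra R B₀ := ((algebraMap A₀ B₀).comp (algebraMap R A₀)).toAlgebra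
  haveI towRA₀B₀ : IsScalarTower R A₀ B₀ := IsScalarTower.of_algebraMap_eq fun _ => rfl
  haveI : Algebra.FinitePresentation R B₀ := Algebra.FinitePresentation.trans R A₀ B₀
  haveI towRA₀B : IsScalarTower R A₀ B := IsScalarTower.of_algebraMap_eq fun r => by
    rw [IsScalarTower.algebraMap_apply A₀ A B, ← IsScalarTower.algebraMap_apply R A₀ A,
      ← IsScalarTower.algebraMap_apply R A B]
  haveI towRB₀B : IsScalarTower R B₀ B := IsScalarTower.of_algebraMap_eq fun r => by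
    rw [IsScalarTower.algebraMap_apply R A₀ B₀, ← IsScalarTower.algebraMap_apply A₀ B₀ B,
      ← IsScalarTower.algebraMap_apply R A₀ B]
  have hkerfg : (RingHom.ker (algebraMap B₀ B)).FG :=
    Algebra.FinitePresentation.ker_fG_of_surjective (IsScalarTower.toAlgHom R B₀ B) hsurjB
  rw [hker] at hkerfg
  obtain ⟨J', hJ'fg, hJ'le, hJ'map⟩ := exists_fg_le_map_eq_of_fg (algebraMap A₀ B₀) J hkerfg
  have hJJ' : J = J' := by
    apply le_antisymm _ hJ'le
    calc J = (J.map (algebraMap A₀ B₀)).comap (algebraMap A₀ B₀) :=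
          (Ideal.comap_map_eq_self_of_faithfullyFlat J).symm
      _ = (J'.map (algebraMap A₀ B₀)).comap (algebraMap A₀ B₀) := by rw [hJ'map]
      _ = J' := Ideal.comap_map_eq_self_of_faithfullyFlat J'
      _ ≤ J' := le_rfl
  exact Algebra.FinitePresentation.of_surjective (f := IsScalarTower.toAlgHom R A₀ A) hsurj
    (by
      have h3 : RingHom.ker (IsScalarTower.toAlgHom R A₀ A).toRingHom = J := rfl
      rw [h3, hJJ']
      exact hJ'fg)

end Groth.Agent.H1.FFSource
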