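import Mathlib
import Groth.Prelude.Def_AlgGrp
import Groth.Agent.Lib.Helper1.GrpLoci
import Groth.Agent.S0114

/-! Homomorphisms of group schemes over a one-point base (helper1): a local property of
`u : G ⟶ H` holding on a nonempty open of `G` holds everywhere (SGA3 VI_A 1.3.1 / VI_B 1.3). -/

set_option autoImplicit false
universe u

namespace Groth.Agent.H1.GrpArt

open CategoryTheory CategoryTheory.Limits MonoidalCategory CartesianMonoidalCategory MonObj GrpObj
  AlgebraicGeometry
open Groth.Agent.H1.CritFib Groth.Agent.H9.FLH Groth.Agent.H1.GrpFibHom Groth.Agent.H1.GrpLoci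

/-- descent of "locally of finite presentation on an open" along a flat lfp morphism. -/
theorem lfp_descend {X Y Z : Scheme.{u}} (p : X ⟶ Y) (q : Y ⟶ Z) [Flat p]
    [LocallyOfFinitePresentation p] (N' : X.Opens)
    (h : LocallyOfFinitePresentation (N'.ι ≫ p ≫ q)) :
    ∃ N : Y.Opens, (N : Set Y) = p.base '' (N' : Set X) ∧
      LocallyOfFinitePresentation (N.ι ≫ q) := by
  let N : Y.Opens := ⟨p.base '' (N' : Set X), p.isOpenMap _ N'.2⟩
  have hr : Set.range (N'.ι ≫ p).base ⊆ Set.range N.ι.base := by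
    rintro _ ⟨x, rfl⟩
    rw [Scheme.Opens.range_ι]
    exact ⟨x.1, x.2, rfl⟩
  let f : (N' : Scheme) ⟶ (N : Scheme) := IsOpenImmersion.lift N.ι (N'.ι ≫ p) hr
  have hf : f ≫ N.ι = N'.ι ≫ p := IsOpenImmersion.lift_fac _ _ _
  haveI : Flat f := MorphismProperty.of_postcomp (W := @Flat) f N.ι
    (inferInstance : IsOpenImmersion N.ι) (by rw [hf]; infer_instance)
  haveI : LocallyOfFinitePresentation f :=
    MorphismProperty.of_postcomp (W := @LocallyOfFinitePresentation) f N.ι
      (inferInstance : IsOpenImmersion N.ι) (by rw [hf]; infer_instance)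
  haveI : Surjective f := by
    refine ⟨fun y => ?_⟩
    obtain ⟨x, hx, hxy⟩ := y.2
    refine ⟨⟨x, hx⟩, N.ι.injective ?_⟩
    rw [← Scheme.Hom.comp_apply, hf, Scheme.Hom.comp_apply]
    exact hxy
  haveI : LocallyOfFinitePresentation (f ≫ N.ι ≫ q) := by
    rw [← Category.assoc, hf, Category.assoc]; exact h
  exact ⟨N, rfl, Groth.Agent.S0114.result f (N.ι ≫ q)⟩

variable {S : Scheme.{u}} {G H : Over S} [GrpObj G] [GrpObj H] (v : G ⟶ H) [IsMonHom v]

/-- one-directional transfer over a one-point base. -/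
theorem transfer [Subsingleton S] (Q : G.left → Prop) (R : (G ⊗ G).left → Prop)
    (h1 : ∀ w, R w ↔ Q ((snd G G).left w))
    (h2 : ∀ w, R ((shear (regAction G)).left w) → R w) (x₀ x : G.left) (hx₀ : Q x₀) : Q x := by
  obtain ⟨z, hz1, hz2⟩ := exists_mul_eq (G := G) x₀ x
  have e1 : (snd G G).left ((shear (regAction G)).left z) = x₀ := by
    rw [← Scheme.Hom.comp_apply, ← Over.comp_left, shear_snd]
    exact hz2
  have h3 : R ((shear (regAction G)).left z) := (h1 _).2 (by rw [e1]; exact hx₀)
  have h4 := (h1 z).1 (h2 z h3)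
  rwa [hz1] at h4

/-- the locus where a homomorphism is locally of finite presentation is everything or empty. -/
theorem lfp_of_open [Subsingleton S] [Flat G.hom] [LocallyOfFinitePresentation G.hom]
    (W : G.left.Opens) (hW : (W : Set G.left).Nonempty)
    (h : LocallyOfFinitePresentation (W.ι ≫ v.left)) : LocallyOfFinitePresentation v.left := by
  obtain ⟨x₀, hx₀⟩ := hW
  haveI hflat : Flat (snd G G).left := by
    show Flat (pullback.snd G.hom G.hom); infer_instance
  haveI hlfp : LocallyOfFinitePresentation (snd G G).left := by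
    show LocallyOfFinitePresentation (pullback.snd G.hom G.hom); infer_instance
  haveI hlfpH : LocallyOfFinitePresentation (snd G H).left := by
    show LocallyOfFinitePresentation (pullback.snd G.hom H.hom); infer_instance
  have key : ∀ x : G.left, ∃ N : G.left.Opens, x ∈ N ∧
      LocallyOfFinitePresentation (N.ι ≫ v.left) := by
    intro x
    refine transfer (fun x => ∃ N : G.left.Opens, x ∈ N ∧
        LocallyOfFinitePresentation (N.ι ≫ v.left))
      (fun w => ∃ N' : (G ⊗ G).left.Opens, w ∈ N' ∧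
        LocallyOfFinitePresentation (N'.ι ≫ (G ◁ v).left)) ?_ ?_ x₀ x ⟨W, hx₀, h⟩
    · intro w
      constructor
      · rintro ⟨N', hw, hN'⟩
        have hcomp : LocallyOfFinitePresentation (N'.ι ≫ (snd G G).left ≫ v.left) := by
          rw [(hsq v).w, ← Category.assoc]
          haveI := hN'
          infer_instance
        obtain ⟨N, hN1, hN2⟩ := lfp_descend (snd G G).left v.left N' hcomp
        refine ⟨N, ?_, hN2⟩
        show (snd G G).left w ∈ (N : Set G.left)
        rw [hN1]
        exact ⟨w, hw, rfl⟩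
      · rintro ⟨N, hw, hN⟩
        exact ⟨(snd G G).left ⁻¹ᵁ N, hw,
          H5.DF.nhd_baseChange @LocallyOfFinitePresentation (hsq v) N hN⟩
    · rintro w ⟨N', hw, hN'⟩
      exact ⟨(shear (regAction G)).left ⁻¹ᵁ N', hw,
        H5.DF.nhd_baseChange @LocallyOfFinitePresentation (hsq_shear v) N' hN'⟩
  choose N hN1 hN2 using key
  have hcov : ⨆ x, N x = ⊤ := by
    rw [eq_top_iff]
    intro x _
    exact TopologicalSpace.Opens.mem_iSup.2 ⟨x, hN1 x⟩
  rw [IsZariskiLocalAtSource.iff_of_iSup_eq_top (P := @LocallyOfFinitePresentation) _ hcov]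
  exact hN2

section Main

variable [Subsingleton S] [Flat G.hom] [LocallyOfFinitePresentation G.hom]

omit [Flat G.hom] [LocallyOfFinitePresentation G.hom] in
theorem lqf_of_open [LocallyOfFiniteType v.left] (W : G.left.Opens)
    (hW : (W : Set G.left).Nonempty) (h : LocallyQuasiFinite (W.ι ≫ v.left)) :
    LocallyQuasiFinite v.left := by
  obtain ⟨x₀, hx₀⟩ := hW
  have h1 := (Groth.Agent.H1.QFDim.locallyQuasiFinite_iff_fibreDimAt (W.ι ≫ v.left)).mp h
    ⟨x₀, hx₀⟩
  rw [Groth.Agent.H1.CMQF.fibreDimAt_comp_isOpenImmersion] at h1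
  rw [Groth.Agent.H1.QFDim.locallyQuasiFinite_iff_fibreDimAt]
  intro x
  rw [fibreDimAt_hom_const v x x₀]
  exact h1

omit [Flat G.hom] [LocallyOfFinitePresentation G.hom] in
theorem unram_of_open [LocallyOfFiniteType v.left] (W : G.left.Opens)
    (hW : (W : Set G.left).Nonempty) (h : FormallyUnramified (W.ι ≫ v.left)) :
    FormallyUnramified v.left := by
  obtain ⟨x₀, hx₀⟩ := hW
  have h0 : (v.left.stalkMap x₀).hom.FormallyUnramified :=
    (H5.LL.exists_unramified_nhd_iff v.left x₀).1 ⟨W, hx₀, h⟩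
  refine HasRingHomProperty.of_stalkMap (P := @FormallyUnramified)
    RingHom.FormallyUnramified.ofLocalizationPrime fun x => ?_
  rw [unram_homog v]
  rw [unram_homog v] at h0
  exact (stalk_iff v.left (fun φ => φ.FormallyUnramified)
    (congrArg (fun t => (GrpFib.unitSec G) t) (Subsingleton.elim (G.hom x₀) (G.hom x)))).1 h0

theorem smooth_of_open (W : G.left.Opens)
    (hW : (W : Set G.left).Nonempty) (h : Smooth (W.ι ≫ v.left)) : Smooth v.left := by
  haveI := h
  haveI : LocallyOfFinitePresentation v.left := lfp_of_open v W hW inferInstance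
  obtain ⟨x₀, hx₀⟩ := hW
  have h0 : (v.left.stalkMap x₀).hom.FormallySmooth :=
    (H5.DS.exists_smooth_nhd_iff_lfp v.left x₀).1 ⟨W, hx₀, h⟩
  refine Scheme.Hom.smoothLocus_eq_top_iff.mp ?_
  rw [← top_le_iff]
  rintro x -
  show (v.left.stalkMap x).hom.FormallySmooth
  rw [smooth_homog v]
  rw [smooth_homog v] at h0
  exact (stalk_iff v.left (fun φ => φ.FormallySmooth)
    (congrArg (fun t => (GrpFib.unitSec G) t) (Subsingleton.elim (G.hom x₀) (G.hom x)))).1 h0

theorem etale_of_open (W : G.left.Opens)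
    (hW : (W : Set G.left).Nonempty) (h : Etale (W.ι ≫ v.left)) : Etale v.left := by
  haveI := h
  haveI : LocallyOfFinitePresentation v.left := lfp_of_open v W hW inferInstance
  haveI : FormallyUnramified v.left := unram_of_open v W hW inferInstance
  obtain ⟨x₀, hx₀⟩ := hW
  haveI : Flat v.left := flat_hom v x₀
    (Groth.Agent.H7.FlatLocBC.FlatAt.of_restrict v.left W inferInstance x₀ hx₀)
  exact Etale.of_formallyUnramified_of_flat _

end Main

theorem s5337 (A : Type u) [CommRing A] [IsArtinianRing A] [IsLocalRing A]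
    (G H : Over (Spec (CommRingCat.of A))) [GrpObj G] [GrpObj H]
    [Flat G.hom] [LocallyOfFiniteType G.hom] (u : G ⟶ H) [IsMonHom u] (W : G.left.Opens)
    (hW : (W : Set G.left).Nonempty) :
    (LocallyQuasiFinite (W.ι ≫ u.left) → LocallyQuasiFinite u.left) ∧
    (FormallyUnramified (W.ι ≫ u.left) → LocallyOfFinitePresentation (W.ι ≫ u.left) →
      FormallyUnramified u.left ∧ LocallyOfFinitePresentation u.left) ∧
    (Smooth (W.ι ≫ u.left) → Smooth u.left) ∧ (Etale (W.ι ≫ u.left) → Etale u.left) := by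
  haveI : LocallyOfFinitePresentation G.hom :=
    Groth.Agent.H1.EtNhd.lfp_of_lft_of_noetherian G.hom
  haveI : LocallyOfFiniteType u.left := by
    haveI : LocallyOfFiniteType (u.left ≫ H.hom) := by rw [Over.w u]; infer_instance
    exact locallyOfFiniteType_of_comp u.left H.hom
  refine ⟨lqf_of_open u W hW, ?_, smooth_of_open u W hW, etale_of_open u W hW⟩
  intro h1 h2
  exact ⟨unram_of_open u W hW h1, lfp_of_open u W hW h2⟩

end Groth.Agent.H1.GrpArt
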