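import Mathlib
import Groth.Prelude.Def_AlgGrp
import Groth.Agent.Lib.Helper1.GrpArt
import Groth.Agent.Lib.Helper1.ArtProd

/-! The locus where a homomorphism of group schemes is flat lfp / smooth / étale is an open
subgroup (SGA3 VI_B 2.2) (helper1). -/

set_option autoImplicit false
set_option linter.style.haveILetI false
universe u

namespace Groth.Agent.H1.GrpPLoc

open CategoryTheory CategoryTheory.Limits MonoidalCategory CartesianMonoidalCategory MonObj GrpObj
  AlgebraicGeometry Groth.Agent.H7.FlatLocBC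

/-! ### descent of properties along a flat lfp base change, locally on the source -/

section Desc

variable {XT T X Y : Scheme.{u}} {q : XT ⟶ X} {fT : XT ⟶ T} {f : X ⟶ Y} {p : T ⟶ Y}

theorem FL_desc (sq : IsPullback q fT f p) (hp1 : Flat p)
    (hp2 : LocallyOfFinitePresentation p) (N' : XT.Opens)
    (h1 : Flat (N'.ι ≫ fT)) (h2 : LocallyOfFinitePresentation (N'.ι ≫ fT)) :
    ∃ N : X.Opens, (N : Set X) = q.base '' (N' : Set XT) ∧ Flat (N.ι ≫ f) ∧
      LocallyOfFinitePresentation (N.ι ≫ f) := by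
  haveI := hp1; haveI := hp2
  haveI hq1 : Flat q := MorphismProperty.of_isPullback (P := @Flat) sq.flip hp1
  haveI hq2 : LocallyOfFinitePresentation q :=
    MorphismProperty.of_isPullback (P := @LocallyOfFinitePresentation) sq.flip hp2
  haveI := h1; haveI := h2
  have h3 : LocallyOfFinitePresentation (N'.ι ≫ q ≫ f) := by
    rw [sq.w, ← Category.assoc]; infer_instance
  obtain ⟨N, hN, hlfp⟩ := GrpArt.lfp_descend q f N' h3
  refine ⟨N, hN, ?_, hlfp⟩
  refine flat_restrict_of_forall f N fun a ha => ?_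
  have ha' : a ∈ q.base '' (N' : Set XT) := by rw [← hN]; exact ha
  obtain ⟨w, hw, rfl⟩ := ha'
  have h4 : FlatAt fT w := FlatAt.of_restrict fT N' h1 w hw
  have h5 : FlatAt (fT ≫ p) w := FlatAt.comp fT p w h4 (FlatAt.of_flat p _)
  rw [← sq.w] at h5
  exact FlatAt.of_comp q f w (FlatAt.of_flat q w) h5

theorem restrict_point (q : XT ⟶ X) (N : X.Opens) (w : XT) (ha : q.base w ∈ N) :
    (q ∣_ N).base ⟨w, ha⟩ = ⟨q.base w, ha⟩ :=
  Subtype.ext (morphismRestrict_base_coe q N ⟨w, ha⟩)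

theorem restrict_comp_eq (W N' : XT.Opens) :
    (W.ι ⁻¹ᵁ N').ι ≫ W.ι = (W.ι ∣_ N') ≫ N'.ι := (morphismRestrict_ι W.ι N').symm

theorem smooth_desc (sq : IsPullback q fT f p) (hp1 : Flat p)
    (hp2 : LocallyOfFinitePresentation p) (N' : XT.Opens) (h : Smooth (N'.ι ≫ fT)) :
    ∃ N : X.Opens, (N : Set X) = q.base '' (N' : Set XT) ∧ Smooth (N.ι ≫ f) := by
  haveI := h
  obtain ⟨N, hN, hfl, hlfp⟩ := FL_desc sq hp1 hp2 N' inferInstance inferInstance
  refine ⟨N, hN, ?_⟩
  haveI := hfl; haveI := hlfp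
  have sqN : IsPullback (q ∣_ N) ((q ⁻¹ᵁ N).ι ≫ fT) (N.ι ≫ f) p :=
    (isPullback_morphismRestrict q N).paste_vert sq
  haveI : LocallyOfFinitePresentation ((q ⁻¹ᵁ N).ι ≫ fT) :=
    MorphismProperty.of_isPullback (P := @LocallyOfFinitePresentation) sqN inferInstance
  rw [← Scheme.Hom.smoothLocus_eq_top_iff, eq_top_iff]
  rintro ⟨a, ha⟩ -
  have ha' : a ∈ q.base '' (N' : Set XT) := by rw [← hN]; exact ha
  obtain ⟨w, hw, rfl⟩ := ha'
  have hsm' : (((q ⁻¹ᵁ N).ι ≫ fT).stalkMap ⟨w, ha⟩).hom.FormallySmooth := by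
    rw [← H5.DS.exists_smooth_nhd_iff_lfp]
    refine ⟨(q ⁻¹ᵁ N).ι ⁻¹ᵁ N', hw, ?_⟩
    rw [← Category.assoc, restrict_comp_eq, Category.assoc]
    infer_instance
  have := Groth.Agent.H6.FibSm.mem_smoothLocus_of_isPullback sqN ⟨w, ha⟩ (Flat.stalkMap _ _) hsm'
  rw [restrict_point] at this
  exact this

theorem etale_desc (sq : IsPullback q fT f p) (hp1 : Flat p)
    (hp2 : LocallyOfFinitePresentation p) (N' : XT.Opens) (h : Etale (N'.ι ≫ fT)) :
    ∃ N : X.Opens, (N : Set X) = q.base '' (N' : Set XT) ∧ Etale (N.ι ≫ f) := by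
  haveI := h
  obtain ⟨N, hN, hfl, hlfp⟩ := FL_desc sq hp1 hp2 N' inferInstance inferInstance
  refine ⟨N, hN, ?_⟩
  haveI := hfl; haveI := hlfp
  have sqN : IsPullback (q ∣_ N) ((q ⁻¹ᵁ N).ι ≫ fT) (N.ι ≫ f) p :=
    (isPullback_morphismRestrict q N).paste_vert sq
  haveI : LocallyOfFinitePresentation ((q ⁻¹ᵁ N).ι ≫ fT) :=
    MorphismProperty.of_isPullback (P := @LocallyOfFinitePresentation) sqN inferInstance
  haveI : FormallyUnramified (N.ι ≫ f) := by
    refine HasRingHomProperty.of_stalkMap (P := @FormallyUnramified)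
      RingHom.FormallyUnramified.ofLocalizationPrime fun x => ?_
    obtain ⟨a, ha⟩ := x
    have ha' : a ∈ q.base '' (N' : Set XT) := by rw [← hN]; exact ha
    obtain ⟨w, hw, rfl⟩ := ha'
    have h1 : (((q ⁻¹ᵁ N).ι ≫ fT).stalkMap ⟨w, ha⟩).hom.FormallyUnramified := by
      rw [← H5.LL.exists_unramified_nhd_iff]
      refine ⟨(q ⁻¹ᵁ N).ι ⁻¹ᵁ N', hw, ?_⟩
      rw [← Category.assoc, restrict_comp_eq, Category.assoc]
      infer_instance
    have h2 := (H5.DF.formallyUnramified_stalkMap_iff_of_isPullback sqN ⟨w, ha⟩).1 h1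
    rw [restrict_point] at h2
    exact h2
  rw [Etale.iff_flat_and_formallyUnramified]
  exact ⟨inferInstance, inferInstance, inferInstance⟩

end Desc

/-- the properties handled -/
structure Good (P : MorphismProperty Scheme.{u}) : Prop where
  flat : ∀ {X Y : Scheme.{u}} (f : X ⟶ Y), P f → Flat f
  lfp : ∀ {X Y : Scheme.{u}} (f : X ⟶ Y), P f → LocallyOfFinitePresentation f
  bc : ∀ {X' Y' X Y : Scheme.{u}} {a : X' ⟶ X} {f' : X' ⟶ Y'} {f : X ⟶ Y} {b : Y' ⟶ Y},
    IsPullback a f' f b → P f → P f'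
  isoL : ∀ {X' X Y : Scheme.{u}} (e : X' ⟶ X) [IsOpenImmersion e] (f : X ⟶ Y), P f → P (e ≫ f)
  isoR : ∀ {X Y Y' : Scheme.{u}} (f : X ⟶ Y) (e : Y ⟶ Y') [IsIso e], P f → P (f ≫ e)
  desc : ∀ {XT T X Y : Scheme.{u}} {q : XT ⟶ X} {fT : XT ⟶ T} {f : X ⟶ Y} {p : T ⟶ Y},
    IsPullback q fT f p → Flat p → LocallyOfFinitePresentation p → ∀ N' : XT.Opens,
      P (N'.ι ≫ fT) → ∃ N : X.Opens, (N : Set X) = q.base '' (N' : Set XT) ∧ P (N.ι ≫ f)

/-- flat and locally of finite presentation -/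
def FL : MorphismProperty Scheme.{u} := fun _ _ f => Flat f ∧ LocallyOfFinitePresentation f

theorem good_FL : Good FL.{u} where
  flat f h := h.1
  lfp f h := h.2
  bc sq h := ⟨MorphismProperty.of_isPullback (P := @Flat) sq h.1,
    MorphismProperty.of_isPullback (P := @LocallyOfFinitePresentation) sq h.2⟩
  isoL e _ f h := by
    haveI := h.1; haveI := h.2
    exact ⟨inferInstance, inferInstance⟩
  isoR f e _ h := by
    haveI := h.1; haveI := h.2
    exact ⟨inferInstance, inferInstance⟩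
  desc sq hp1 hp2 N' h := by
    obtain ⟨N, hN, a, b⟩ := FL_desc sq hp1 hp2 N' h.1 h.2
    exact ⟨N, hN, a, b⟩

theorem good_smooth : Good (@Smooth.{u}) where
  flat f h := by haveI := h; infer_instance
  lfp f h := by haveI := h; infer_instance
  bc sq h := MorphismProperty.of_isPullback (P := @Smooth) sq h
  isoL e _ f h := by haveI := h; infer_instance
  isoR f e _ h := by haveI := h; infer_instance
  desc sq hp1 hp2 N' h := smooth_desc sq hp1 hp2 N' h

theorem good_etale : Good (@Etale.{u}) where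
  flat f h := by haveI := h; infer_instance
  lfp f h := by haveI := h; infer_instance
  bc sq h := MorphismProperty.of_isPullback (P := @Etale) sq h
  isoL e _ f h := by haveI := h; infer_instance
  isoR f e _ h := by haveI := h; infer_instance
  desc sq hp1 hp2 N' h := etale_desc sq hp1 hp2 N' h

theorem Good.of_iff {P Q : MorphismProperty Scheme.{u}}
    (h : ∀ (X Y : Scheme.{u}) (f : X ⟶ Y), P f ↔ Q f) (hQ : Good Q) : Good P := by
  have : P = Q := MorphismProperty.ext _ _ fun X Y f => h X Y f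
  rw [this]; exact hQ

/-! ### shear maps -/

section Shear

variable {S : Scheme.{u}} {M K K' : Over S} [GrpObj K] [GrpObj K'] (c : M ⟶ K)

noncomputable def sh : M ⊗ K ⟶ M ⊗ K := lift (fst M K) ((fst M K ≫ c) * snd M K)

noncomputable def shInv : M ⊗ K ⟶ M ⊗ K := lift (fst M K) ((fst M K ≫ c)⁻¹ * snd M K)

theorem sh_fst : sh c ≫ fst M K = fst M K := lift_fst _ _

theorem sh_snd : sh c ≫ snd M K = (fst M K ≫ c) * snd M K := lift_snd _ _

theorem shInv_fst : shInv c ≫ fst M K = fst M K := lift_fst _ _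

theorem shInv_snd : shInv c ≫ snd M K = (fst M K ≫ c)⁻¹ * snd M K := lift_snd _ _

theorem sh_shInv : sh c ≫ shInv c = 𝟙 _ := by
  apply CartesianMonoidalCategory.hom_ext
  · rw [Category.assoc, shInv_fst, sh_fst, Category.id_comp]
  · have h1 : (sh c ≫ shInv c) ≫ snd M K = (fst M K ≫ c)⁻¹ * ((fst M K ≫ c) * snd M K) := by
      rw [Category.assoc, shInv_snd, MonObj.comp_mul, GrpObj.comp_inv, ← Category.assoc, sh_fst,
        sh_snd]
    rw [h1, inv_mul_cancel_left, Category.id_comp]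

theorem shInv_sh : shInv c ≫ sh c = 𝟙 _ := by
  apply CartesianMonoidalCategory.hom_ext
  · rw [Category.assoc, sh_fst, shInv_fst, Category.id_comp]
  · have h1 : (shInv c ≫ sh c) ≫ snd M K = (fst M K ≫ c) * ((fst M K ≫ c)⁻¹ * snd M K) := by
      rw [Category.assoc, sh_snd, MonObj.comp_mul, ← Category.assoc, shInv_fst, shInv_snd]
    rw [h1, mul_inv_cancel_left, Category.id_comp]

theorem sh_comm (v : K ⟶ K') [IsMonHom v] : sh c ≫ (M ◁ v) = (M ◁ v) ≫ sh (c ≫ v) := by
  apply CartesianMonoidalCategory.hom_ext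
  · rw [Category.assoc, whiskerLeft_fst, sh_fst, Category.assoc, sh_fst, whiskerLeft_fst]
  · have hL : (sh c ≫ M ◁ v) ≫ snd M K' = (fst M K ≫ c ≫ v) * (snd M K ≫ v) := by
      rw [Category.assoc, whiskerLeft_snd, ← Category.assoc, sh_snd, MonObj.mul_comp,
        Category.assoc]
    have hR : (M ◁ v ≫ sh (c ≫ v)) ≫ snd M K' = (fst M K ≫ c ≫ v) * (snd M K ≫ v) := by
      rw [Category.assoc, sh_snd, MonObj.comp_mul, whiskerLeft_fst_assoc, whiskerLeft_snd]
    rw [hL, hR]

theorem isIso_sh_left : IsIso (sh c).left :=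
  ⟨(shInv c).left, by rw [← Over.comp_left, sh_shInv]; rfl,
    by rw [← Over.comp_left, shInv_sh]; rfl⟩

end Shear

/-! ### the main theorem -/

section Main

variable {S : Scheme.{u}} {G H : Over S} [GrpObj G] [GrpObj H] (u : G ⟶ H) [IsMonHom u]

theorem main (P : MorphismProperty Scheme.{u}) (hP : Good P)
    (hfl : Flat G.hom ∨ Flat H.hom)
    (hfp : LocallyOfFinitePresentation G.hom ∨ LocallyOfFinitePresentation H.hom)
    (V : G.left.Opens) (hV : P (V.ι ≫ u.left)) (hmax : ∀ W : G.left.Opens, P (W.ι ≫ u.left) → W ≤ V) :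
    IsOpen (G.hom.base '' (V : Set G.left)) ∧
    (∀ g ∈ V, ∀ p : ↥(𝟙_ (Over S)).left, (𝟙_ (Over S)).hom.base p = G.hom.base g →
      η[G].left.base p ∈ V) ∧
    (∀ g ∈ V, ι[G].left.base g ∈ V) ∧
    (∀ z : ↥(G ⊗ G).left, (fst G G).left.base z ∈ V → (snd G G).left.base z ∈ V →
      μ[G].left.base z ∈ V) := by
  haveI hVfl : Flat (V.ι ≫ u.left) := hP.flat _ hV
  haveI hVfp : LocallyOfFinitePresentation (V.ι ≫ u.left) := hP.lfp _ hV
  have hcomp : V.ι ≫ G.hom = (V.ι ≫ u.left) ≫ H.hom := by rw [Category.assoc, Over.w u]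
  have hGVfl : Flat (V.ι ≫ G.hom) := by
    rcases hfl with h | h
    · haveI := h; infer_instance
    · haveI := h; rw [hcomp]; infer_instance
  have hGVfp : LocallyOfFinitePresentation (V.ι ≫ G.hom) := by
    rcases hfp with h | h
    · haveI := h; infer_instance
    · haveI := h; rw [hcomp]; infer_instance
  let GV : Over S := Over.mk (V.ι ≫ G.hom)
  let iV : GV ⟶ G := Over.homMk V.ι rfl
  haveI : Flat GV.hom := hGVfl
  haveI : LocallyOfFinitePresentation GV.hom := hGVfp
  haveI : IsOpenImmersion iV.left := (inferInstance : IsOpenImmersion V.ι)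
  have hV' : P (iV ≫ u).left := hV
  -- (C1)
  have hC1 : IsOpen (G.hom.base '' (V : Set G.left)) := by
    have : G.hom.base '' (V : Set G.left) = Set.range (V.ι ≫ G.hom).base := by
      rw [Scheme.Hom.comp_base, TopCat.coe_comp, Set.range_comp, Scheme.Opens.range_ι]
    rw [this]
    exact (V.ι ≫ G.hom).isOpenMap.isOpen_range
  -- (C4)
  have hC4 : ∀ z : ↥(G ⊗ G).left, (fst G G).left.base z ∈ V → (snd G G).left.base z ∈ V →
      μ[G].left.base z ∈ V := by
    have sq0 := ArtProd.isPullback_whiskerLeft_left GV u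
    haveI := isIso_sh_left iV
    haveI := isIso_sh_left (iV ≫ u)
    have hσ : IsPullback (sh iV).left (GV ◁ u).left (GV ◁ u).left (sh (iV ≫ u)).left :=
      IsPullback.of_horiz_isIso ⟨by rw [← Over.comp_left, ← Over.comp_left, sh_comm]⟩
    have sq1 := hσ.paste_horiz sq0
    haveI hsndfl : Flat (snd GV H).left := by rw [Over.snd_left]; infer_instance
    haveI hsndfp : LocallyOfFinitePresentation (snd GV H).left := by
      rw [Over.snd_left]; infer_instance
    have hp1 : Flat ((sh (iV ≫ u)).left ≫ (snd GV H).left) := inferInstance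
    have hp2 : LocallyOfFinitePresentation ((sh (iV ≫ u)).left ≫ (snd GV H).left) :=
      inferInstance
    haveI hj : IsOpenImmersion (GV ◁ iV).left :=
      MorphismProperty.of_isPullback (P := @IsOpenImmersion)
        (ArtProd.isPullback_whiskerLeft_left GV iV) (inferInstance : IsOpenImmersion iV.left)
    have hPj : P ((GV ◁ iV).left ≫ (GV ◁ u).left) := by
      have e : (GV ◁ iV).left ≫ (GV ◁ u).left = (GV ◁ (iV ≫ u)).left := by
        rw [← Over.comp_left, ← MonoidalCategory.whiskerLeft_comp]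
      rw [e]
      exact hP.bc (ArtProd.isPullback_whiskerLeft_left GV (iV ≫ u)) hV'
    have hPN' : P ((GV ◁ iV).left.opensRange.ι ≫ (GV ◁ u).left) := by
      rw [← Scheme.Hom.isoOpensRange_inv_comp, Category.assoc]
      exact hP.isoL _ _ hPj
    obtain ⟨N, hN, hPN⟩ := hP.desc sq1 hp1 hp2 _ hPN'
    have hNV : N ≤ V := hmax N hPN
    intro z hz1 hz2
    apply hNV
    have hz : z ∈ Set.range (iV ⊗ₘ iV).left.base := by
      rw [Over.tensorHom_left, Scheme.Pullback.range_map]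
      have hr : Set.range iV.left.base = (V : Set G.left) := Scheme.Opens.range_ι V
      rw [hr]
      exact ⟨hz1, hz2⟩
    obtain ⟨z₀, rfl⟩ := hz
    show μ[G].left.base ((iV ⊗ₘ iV).left.base z₀) ∈ (N : Set G.left)
    rw [hN]
    refine ⟨(GV ◁ iV).left.base z₀, ⟨z₀, rfl⟩, ?_⟩
    have e : (GV ◁ iV) ≫ sh iV ≫ snd GV G = (iV ⊗ₘ iV) ≫ μ[G] := by
      rw [sh_snd, MonObj.comp_mul, whiskerLeft_fst_assoc, whiskerLeft_snd, Hom.mul_def,
        lift_fst_comp_snd_comp]
    exact congrArg (fun ψ : GV ⊗ GV ⟶ G => ψ.left.base z₀) e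
  -- (C3)
  have hC3 : ∀ g ∈ V, ι[G].left.base g ∈ V := by
    haveI hiso : IsIso ι[G].left := (inferInstance : IsIso ((Over.forget _).map ι[G]))
    haveI hisoH : IsIso ι[H].left := (inferInstance : IsIso ((Over.forget _).map ι[H]))
    have hinvinv : ι[G].left ≫ ι[G].left = 𝟙 _ := by
      rw [← Over.comp_left, GrpObj.inv_comp_inv]; rfl
    have hcomm : ι[G].left ≫ u.left = u.left ≫ ι[H].left := by
      rw [← Over.comp_left, GrpObj.inv_hom, Over.comp_left]
    have hW : P ((ι[G].left ⁻¹ᵁ V).ι ≫ u.left) := by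
      have e : (ι[G].left ⁻¹ᵁ V).ι ≫ u.left =
          (ι[G].left ∣_ V) ≫ (V.ι ≫ u.left) ≫ ι[H].left := by
        calc (ι[G].left ⁻¹ᵁ V).ι ≫ u.left
            = (ι[G].left ⁻¹ᵁ V).ι ≫ (ι[G].left ≫ ι[G].left) ≫ u.left := by
              rw [hinvinv, Category.id_comp]
          _ = ((ι[G].left ⁻¹ᵁ V).ι ≫ ι[G].left) ≫ ι[G].left ≫ u.left := by
              simp only [Category.assoc]
          _ = ((ι[G].left ∣_ V) ≫ V.ι) ≫ u.left ≫ ι[H].left := by
              rw [morphismRestrict_ι, hcomm]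
          _ = _ := by simp only [Category.assoc]
      rw [e]
      exact hP.isoL _ _ (hP.isoR _ _ hV)
    have hle := hmax _ hW
    intro g hg
    apply hle
    show ι[G].left.base (ι[G].left.base g) ∈ V
    have : ι[G].left.base (ι[G].left.base g) = g := by
      rw [← Scheme.Hom.comp_apply, hinvinv]; rfl
    rw [this]; exact hg
  refine ⟨hC1, ?_, hC3, hC4⟩
  intro g hg p hp
  have hp' : p = G.hom.base g := hp
  subst hp'
  have h1 : (fst G G).left.base ((lift (𝟙 G) ι[G]).left.base g) = g := by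
    rw [← Scheme.Hom.comp_apply, ← Over.comp_left, lift_fst]; rfl
  have h2 : (snd G G).left.base ((lift (𝟙 G) ι[G]).left.base g) = ι[G].left.base g := by
    rw [← Scheme.Hom.comp_apply, ← Over.comp_left, lift_snd]
  have h3 : μ[G].left.base ((lift (𝟙 G) ι[G]).left.base g) = η[G].left.base (G.hom.base g) := by
    rw [← Scheme.Hom.comp_apply, ← Over.comp_left, GrpObj.right_inv G, Over.comp_left,
      Scheme.Hom.comp_apply]
    rfl
  rw [← h3]
  exact hC4 _ (by rw [h1]; exact hg) (by rw [h2]; exact hC3 g hg)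

theorem s5310 (hfl : Flat G.hom ∨ Flat H.hom)
    (hfp : LocallyOfFinitePresentation G.hom ∨ LocallyOfFinitePresentation H.hom)
    (P : MorphismProperty Scheme.{u})
    (hP : (∀ (X Y : Scheme.{u}) (f : X ⟶ Y), P f ↔ (Flat f ∧ LocallyOfFinitePresentation f)) ∨
      (∀ (X Y : Scheme.{u}) (f : X ⟶ Y), P f ↔ Smooth f) ∨
      (∀ (X Y : Scheme.{u}) (f : X ⟶ Y), P f ↔ Etale f))
    (V : G.left.Opens) (hV : P (V.ι ≫ u.left)) (hmax : ∀ W : G.left.Opens, P (W.ι ≫ u.left) → W ≤ V) :
    IsOpen (G.hom.base '' (V : Set G.left)) ∧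
    (∀ g ∈ V, ∀ p : ↥(𝟙_ (Over S)).left, (𝟙_ (Over S)).hom.base p = G.hom.base g →
      η[G].left.base p ∈ V) ∧
    (∀ g ∈ V, ι[G].left.base g ∈ V) ∧
    (∀ z : ↥(G ⊗ G).left, (fst G G).left.base z ∈ V → (snd G G).left.base z ∈ V →
      μ[G].left.base z ∈ V) := by
  have hGood : Good P := by
    rcases hP with h | h | h
    · exact Good.of_iff (Q := FL) h good_FL
    · exact Good.of_iff (Q := @Smooth) h good_smooth
    · exact Good.of_iff (Q := @Etale) h good_etale
  exact main u P hGood hfl hfp V hV hmax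

end Main

end Groth.Agent.H1.GrpPLoc
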