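import Mathlib
import Groth.Prelude.Def_AlgGrp
import Groth.Agent.Lib.Helper1.GrpICons
import Groth.Agent.Lib.Helper1.GIrrS
import Groth.Agent.Lib.Helper1.GrpPLoc
import Groth.Agent.Lib.Helper1.GrpUO

/-! SGA3 VI_B 3.10: if `G` is smooth along the unit section then `G⁰` is open and carries an open
subgroup scheme, smooth and quasi-compact over `S` (helper1).  The construction of the group
structure on a subobject stable under the operations is copied from helper3's `GrpQuot5`. -/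

set_option autoImplicit false
set_option linter.style.haveILetI false
universe u v₁ u₁

namespace Groth.Agent.H1.GrpSmN

open CategoryTheory CategoryTheory.Limits MonoidalCategory CartesianMonoidalCategory MonObj GrpObj
  AlgebraicGeometry

section Sub

variable {𝒮 : Type u₁} [Category.{v₁} 𝒮] [CartesianMonoidalCategory 𝒮] {G : 𝒮} [GrpObj G]

/-- a subobject of a group object which is closed under the group operations -/
structure IsSubgrp (K : Subobject G) : Prop where
  one : K.Factors η[G]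
  mul : ∀ {T : 𝒮} (x y : T ⟶ G), K.Factors x → K.Factors y → K.Factors (x * y)
  inv : ∀ {T : 𝒮} (x : T ⟶ G), K.Factors x → K.Factors x⁻¹

variable {K : Subobject G} (hK : IsSubgrp K)

noncomputable def subOne : 𝟙_ 𝒮 ⟶ (K : 𝒮) := K.factorThru η[G] hK.one

lemma subOne_arrow : subOne hK ≫ K.arrow = η[G] := K.factorThru_arrow _ _

include hK in
lemma factors_mul : K.Factors ((fst (K : 𝒮) (K : 𝒮) ≫ K.arrow) * (snd (K : 𝒮) (K : 𝒮) ≫ K.arrow)) :=
  hK.mul _ _ (Subobject.factors_comp_arrow _) (Subobject.factors_comp_arrow _)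

/-- the multiplication of a subgroup -/
noncomputable def subMul : (K : 𝒮) ⊗ (K : 𝒮) ⟶ (K : 𝒮) := K.factorThru _ (factors_mul hK)

lemma subMul_arrow : subMul hK ≫ K.arrow =
    (fst (K : 𝒮) (K : 𝒮) ≫ K.arrow) * (snd (K : 𝒮) (K : 𝒮) ≫ K.arrow) :=
  K.factorThru_arrow _ _

lemma subMul_arrow' : subMul hK ≫ K.arrow = (K.arrow ⊗ₘ K.arrow) ≫ μ[G] := by
  rw [subMul_arrow, MonObj.mul_eq_mul, MonObj.comp_mul, tensorHom_fst, tensorHom_snd]

/-- the inverse of a subgroup -/
noncomputable def subInv : (K : 𝒮) ⟶ (K : 𝒮) := K.factorThru _ (hK.inv _ K.factors_self)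

lemma subInv_arrow : subInv hK ≫ K.arrow = (K.arrow)⁻¹ := K.factorThru_arrow _ _

lemma comp_subMul_arrow {T : 𝒮} (z : T ⟶ (K : 𝒮) ⊗ (K : 𝒮)) :
    z ≫ subMul hK ≫ K.arrow = (z ≫ fst _ _ ≫ K.arrow) * (z ≫ snd _ _ ≫ K.arrow) := by
  rw [subMul_arrow, MonObj.comp_mul]

/-- the group structure of a subgroup -/
@[instance_reducible]
noncomputable def subGrpObj : GrpObj (K : 𝒮) where
  one := subOne hK
  mul := subMul hK
  one_mul := by
    rw [← cancel_mono K.arrow, Category.assoc, comp_subMul_arrow, whiskerRight_fst_assoc,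
      whiskerRight_snd_assoc, subOne_arrow, leftUnitor_hom]
    have : fst (𝟙_ 𝒮) (K : 𝒮) ≫ η[G] = 1 := by
      rw [Hom.one_def, toUnit_unique (toUnit _) (fst (𝟙_ 𝒮) (K : 𝒮))]
    rw [this, _root_.one_mul]
  mul_one := by
    rw [← cancel_mono K.arrow, Category.assoc, comp_subMul_arrow, whiskerLeft_fst_assoc,
      whiskerLeft_snd_assoc, subOne_arrow, rightUnitor_hom]
    have : snd (K : 𝒮) (𝟙_ 𝒮) ≫ η[G] = 1 := by
      rw [Hom.one_def, toUnit_unique (toUnit _) (snd (K : 𝒮) (𝟙_ 𝒮))]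
    rw [this, _root_.mul_one]
  mul_assoc := by
    rw [← cancel_mono K.arrow, Category.assoc, comp_subMul_arrow, whiskerRight_fst_assoc,
      whiskerRight_snd_assoc, comp_subMul_arrow]
    simp only [Category.assoc]
    rw [comp_subMul_arrow, whiskerLeft_fst_assoc, whiskerLeft_snd_assoc, comp_subMul_arrow,
      MonObj.comp_mul, MonObj.comp_mul, _root_.mul_assoc]
    simp
  inv := subInv hK
  left_inv := by
    rw [← cancel_mono K.arrow, Category.assoc, comp_subMul_arrow, lift_fst_assoc, lift_snd_assoc,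
      subInv_arrow, Category.id_comp, inv_mul_cancel, Category.assoc, subOne_arrow, Hom.one_def]
  right_inv := by
    rw [← cancel_mono K.arrow, Category.assoc, comp_subMul_arrow, lift_fst_assoc, lift_snd_assoc,
      subInv_arrow, Category.id_comp, mul_inv_cancel, Category.assoc, subOne_arrow, Hom.one_def]

lemma isMonHom_arrow : @IsMonHom 𝒮 _ _ _ _ (subGrpObj hK).toMonObj _ K.arrow :=
  @IsMonHom.mk 𝒮 _ _ _ _ (subGrpObj hK).toMonObj _ K.arrow (subOne_arrow hK) (subMul_arrow' hK)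


end Sub

section Main

variable {S : Scheme.{u}} (G : Over S) [GrpObj G]

theorem range_of_isPullback {X' X Y' Y : Scheme.{u}} {a : X' ⟶ X} {f' : X' ⟶ Y'} {f : X ⟶ Y}
    {b : Y' ⟶ Y} (sq : IsPullback a f' f b) :
    Set.range a.base = f.base ⁻¹' Set.range b.base := by
  have h : a = sq.isoPullback.hom ≫ pullback.fst f b := (sq.isoPullback_hom_fst).symm
  have hs : Function.Surjective sq.isoPullback.hom.base :=
    fun y => GrpNeutC.surj_of_isIso _ y
  rw [h, Scheme.Hom.comp_base, TopCat.coe_comp, Set.range_comp, hs.range_eq, Set.image_univ]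
  exact Scheme.Pullback.range_fst f b

omit [GrpObj G] in
/-- the largest open subscheme of `G` smooth over `S`. -/
theorem exists_max_smooth : ∃ V : G.left.Opens, Smooth (V.ι ≫ G.hom) ∧
    ∀ W : G.left.Opens, Smooth (W.ι ≫ G.hom) → W ≤ V := by
  let I := {W : G.left.Opens // Smooth (W.ι ≫ G.hom)}
  let V : G.left.Opens := ⨆ i : I, i.1
  refine ⟨V, ?_, fun W hW => le_iSup (fun i : I => i.1) ⟨W, hW⟩⟩
  have hcov : (⨆ i : I, V.ι ⁻¹ᵁ i.1) = ⊤ := by
    rw [eq_top_iff]
    rintro ⟨x, hx⟩ -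
    have hx' : x ∈ ⨆ i : I, i.1 := hx
    obtain ⟨i, hi⟩ := TopologicalSpace.Opens.mem_iSup.1 hx'
    exact TopologicalSpace.Opens.mem_iSup.2 ⟨i, hi⟩
  refine IsZariskiLocalAtSource.of_iSup_eq_top (P := @Smooth) (fun i : I => V.ι ⁻¹ᵁ i.1) hcov
    fun i => ?_
  rw [← Category.assoc, GrpPLoc.restrict_comp_eq, Category.assoc]
  haveI := i.2
  infer_instance

/-- the smooth locus is stable under inversion and multiplication. -/
theorem smooth_stable (V : G.left.Opens) (hV : Smooth (V.ι ≫ G.hom))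
    (hmax : ∀ W : G.left.Opens, Smooth (W.ι ≫ G.hom) → W ≤ V) :
    (∀ g ∈ V, ι[G].left.base g ∈ V) ∧
    (∀ z : ↥(G ⊗ G).left, (fst G G).left.base z ∈ V → (snd G G).left.base z ∈ V →
      μ[G].left.base z ∈ V) := by
  have hfl : Flat (𝟙_ (Over S)).hom := by
    show Flat (𝟙 S); infer_instance
  have hfp : LocallyOfFinitePresentation (𝟙_ (Over S)).hom := by
    show LocallyOfFinitePresentation (𝟙 S); infer_instance
  have h := GrpPLoc.main (toUnit G) @Smooth GrpPLoc.good_smooth (Or.inr hfl) (Or.inr hfp) V hV hmax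
  exact ⟨h.2.2.1, h.2.2.2⟩

/-- multiplication is open on the part of `G ×_S G` whose first projection lies in an open
subscheme universally open over `S`. -/
theorem isOpen_mul_image (U : G.left.Opens) (hU : UniversallyOpen (U.ι ≫ G.hom))
    (D : Set (G ⊗ G).left) (hD : IsOpen D)
    (hDU : D ⊆ (fst G G).left.base ⁻¹' (U : Set G.left)) :
    IsOpen (μ[G].left.base '' D) := by
  let M : Over S := Over.mk (U.ι ≫ G.hom)
  let c : M ⟶ G := Over.homMk U.ι rfl
  have sq := ArtProd.isPullback_whiskerRight_left c G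
  have hr : Set.range (c ▷ G).left.base = (fst G G).left.base ⁻¹' (U : Set G.left) := by
    rw [range_of_isPullback sq.flip]
    show (fst G G).left.base ⁻¹' Set.range U.ι.base = _
    rw [Scheme.Opens.range_ι]
  have hwk : c ▷ G = lift (fst M G ≫ c) (snd M G) := by
    apply CartesianMonoidalCategory.hom_ext
    · rw [whiskerRight_fst, lift_fst]
    · rw [whiskerRight_snd, lift_snd]
  have key : (c ▷ G) ≫ μ[G] = GrpPLoc.sh c ≫ snd M G := by
    rw [GrpPLoc.sh_snd, Hom.mul_def, hwk]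
  haveI := GrpPLoc.isIso_sh_left c
  have hop1 : IsOpenMap (GrpPLoc.sh c).left.base := (GrpPLoc.sh c).left.homeomorph.isOpenMap
  have hop2 : IsOpenMap (snd M G).left.base := by
    haveI : UniversallyOpen M.hom := hU
    rw [Over.snd_left]
    exact (pullback.snd M.hom G.hom).isOpenMap
  have hD' : IsOpen ((c ▷ G).left.base ⁻¹' D) := hD.preimage (c ▷ G).left.continuous
  have hpt : ∀ z : ↥(M ⊗ G).left, μ[G].left.base ((c ▷ G).left.base z) =
      (snd M G).left.base ((GrpPLoc.sh c).left.base z) := fun z =>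
    congrArg (fun φ : M ⊗ G ⟶ G => φ.left.base z) key
  have himg : μ[G].left.base '' D = (snd M G).left.base ''
      ((GrpPLoc.sh c).left.base '' ((c ▷ G).left.base ⁻¹' D)) := by
    ext x
    constructor
    · rintro ⟨w, hw, rfl⟩
      have hw' : w ∈ Set.range (c ▷ G).left.base := by rw [hr]; exact hDU hw
      obtain ⟨z, rfl⟩ := hw'
      exact ⟨_, ⟨z, hw, rfl⟩, (hpt z).symm⟩
    · rintro ⟨_, ⟨z, hz, rfl⟩, rfl⟩
      exact ⟨_, hz, hpt z⟩
  rw [himg]
  exact hop2 _ (hop1 _ hD')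

/-- local structure of `G⁰` when `G` is smooth along the unit section. -/
theorem local_smooth (U : G.left.Opens) (hU : Smooth (U.ι ≫ G.hom))
    (heU : ∀ s : S, (GrpFib.unitSec G).base s ∈ U) (s : S) :
    ∃ (V : S.Opens) (C : G.left.Opens), s ∈ V ∧ C ≤ U ∧
      (C : Set G.left) ⊆ SGA3x.neutralSet G ∧
      SGA3x.neutralSet G ∩ G.hom.base ⁻¹' (V : Set S) =
        μ[G].left.base '' ((fst G G).left.base ⁻¹' (C : Set G.left) ∩
          (snd G G).left.base ⁻¹' (ι[G].left.base ⁻¹' (C : Set G.left))) := by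
  have hes : GrpFib.unitSec G ≫ G.hom = 𝟙 S := GrpFib.unitSec_comp G
  obtain ⟨U₁, hU₁, hsU₁, -⟩ := GrpICons.exists_affineOpen_between
    ((GrpFib.unitSec G).base s) Set.univ isOpen_univ (Set.mem_univ _)
  let V : S.Opens := (GrpFib.unitSec G) ⁻¹ᵁ (U₁ ⊓ U)
  have hsV : s ∈ V := ⟨hsU₁, heU s⟩
  let U₀ : G.left.Opens := (U₁ ⊓ U) ⊓ G.hom ⁻¹ᵁ V
  have hU₀U : U₀ ≤ U := fun x hx => hx.1.2
  have hU₀V : ∀ x ∈ U₀, G.hom.base x ∈ V := fun x hx => hx.2
  have heV : ∀ v ∈ V, (GrpFib.unitSec G).base v ∈ U₀ := fun v hv => by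
    refine ⟨hv, ?_⟩
    show G.hom.base ((GrpFib.unitSec G).base v) ∈ V
    rw [GrpFib.hom_unitSec]; exact hv
  haveI : QuasiSeparatedSpace (U₀ : Scheme.{u}) :=
    (isQuasiSeparated_iff_quasiSeparatedSpace _ U₀.isOpen).1
      (hU₁.isQuasiSeparated.of_subset (fun x hx => hx.1.1))
  let f₀ : (U₀ : Scheme.{u}) ⟶ V := IsOpenImmersion.lift V.ι (U₀.ι ≫ G.hom) (by
    rw [Scheme.Opens.range_ι]
    rintro _ ⟨a, rfl⟩
    exact hU₀V a.1 a.2)
  have hf₀ : f₀ ≫ V.ι = U₀.ι ≫ G.hom := IsOpenImmersion.lift_fac _ _ _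
  let e₀ : (V : Scheme.{u}) ⟶ U₀ := IsOpenImmersion.lift U₀.ι (V.ι ≫ GrpFib.unitSec G) (by
    rw [Scheme.Opens.range_ι]
    rintro _ ⟨v, rfl⟩
    exact heV v.1 v.2)
  have he₀ : e₀ ≫ U₀.ι = V.ι ≫ GrpFib.unitSec G := IsOpenImmersion.lift_fac _ _ _
  have he₀f₀ : e₀ ≫ f₀ = 𝟙 _ := by
    rw [← cancel_mono V.ι, Category.assoc, hf₀, ← Category.assoc, he₀, Category.assoc, hes,
      Category.comp_id, Category.id_comp]
  haveI : Smooth (U₀.ι ≫ G.hom) := by
    rw [← G.left.homOfLE_ι hU₀U, Category.assoc]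
    haveI := hU
    infer_instance
  haveI : Smooth f₀ := MorphismProperty.of_postcomp (W := @Smooth) (W' := @IsOpenImmersion)
    f₀ V.ι inferInstance (by rw [hf₀]; infer_instance)
  have hC₀ : IsOpen (MoreMor.sectionComponents f₀ e₀) := GIrr.main15351 f₀ e₀ he₀f₀
  have hGv : ∀ z : (U₀ : Scheme.{u}), G.hom.base (U₀.ι.base z) = V.ι.base (f₀.base z) := fun z =>
    (congrArg (fun ψ : (U₀ : Scheme.{u}) ⟶ S => ψ.base z) hf₀).symm
  have hev : ∀ v : (V : Scheme.{u}),
      U₀.ι.base (e₀.base v) = (GrpFib.unitSec G).base (V.ι.base v) := fun v =>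
    congrArg (fun ψ : (V : Scheme.{u}) ⟶ G.left => ψ.base v) he₀
  have hmem : ∀ v : (V : Scheme.{u}), e₀.base v ∈ f₀.base ⁻¹' {v} := fun v =>
    congrArg (fun ψ : (V : Scheme.{u}) ⟶ V => ψ.base v) he₀f₀
  have hGι : ∀ a : G.left, G.hom.base (ι[G].left.base a) = G.hom.base a := fun a =>
    congrArg (fun ψ : G.left ⟶ S => ψ.base a) (Over.w ι[G])
  -- F1
  have F1 : ∀ c ∈ MoreMor.sectionComponents f₀ e₀, U₀.ι.base c ∈ SGA3x.neutralSet G := by
    intro c hc
    rw [GrpNeutB.mem_neutralSet_iff]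
    have hc' : c ∈ connectedComponentIn (f₀.base ⁻¹' {f₀.base c}) (e₀.base (f₀.base c)) := hc
    obtain ⟨v, hv⟩ : ∃ v, f₀.base c = v := ⟨_, rfl⟩
    rw [hv] at hc'
    have hpre := (isPreconnected_connectedComponentIn (F := f₀.base ⁻¹' {v})
      (x := e₀.base v)).image U₀.ι.base U₀.ι.continuous.continuousOn
    have hsub : U₀.ι.base '' connectedComponentIn (f₀.base ⁻¹' {v}) (e₀.base v) ⊆
        G.hom.base ⁻¹' {G.hom.base (U₀.ι.base c)} := by
      rintro _ ⟨z, hz, rfl⟩
      have hz'' : z ∈ f₀.base ⁻¹' {v} := connectedComponentIn_subset _ _ hz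
      have hz' : f₀.base z = v := hz''
      show G.hom.base (U₀.ι.base z) = G.hom.base (U₀.ι.base c)
      rw [hGv, hGv, hz', hv]
    have h3 := hpre.subset_connectedComponentIn (x := U₀.ι.base (e₀.base v))
      ⟨_, mem_connectedComponentIn (hmem v), rfl⟩ hsub
    have h4 : U₀.ι.base (e₀.base v) =
        (GrpFib.unitSec G).base (G.hom.base (U₀.ι.base c)) := by
      rw [hGv, hv]; exact hev v
    rw [h4] at h3
    exact h3 ⟨c, hc', rfl⟩
  -- F2
  have F2 : ∀ v : (V : Scheme.{u}), ∃ O₀ : Set (U₀ : Scheme.{u}), IsOpen O₀ ∧ e₀.base v ∈ O₀ ∧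
      ∀ a ∈ O₀, f₀.base a = v → a ∈ MoreMor.sectionComponents f₀ e₀ := by
    intro v
    obtain ⟨O, hO, hOeq⟩ := GrpICons.exists_open_inter_fibre f₀ v (e₀.base v) (hmem v)
    refine ⟨O, hO, ?_, ?_⟩
    · have : e₀.base v ∈ O ∩ f₀.base ⁻¹' {v} := by
        rw [hOeq]; exact mem_connectedComponentIn (hmem v)
      exact this.1
    · intro a ha hav
      have h1 : a ∈ O ∩ f₀.base ⁻¹' {v} := ⟨ha, hav⟩
      rw [hOeq] at h1
      show a ∈ connectedComponentIn (f₀.base ⁻¹' {f₀.base a}) (e₀.base (f₀.base a))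
      rw [hav]; exact h1
  refine ⟨V, ⟨U₀.ι.base '' MoreMor.sectionComponents f₀ e₀,
    U₀.ι.isOpenEmbedding.isOpenMap _ hC₀⟩, hsV, ?_, ?_, ?_⟩
  · intro x hx
    obtain ⟨c, -, rfl⟩ := hx
    exact hU₀U c.2
  · rintro _ ⟨c, hc, rfl⟩
    exact F1 c hc
  · apply Set.Subset.antisymm
    · rintro x ⟨hxN, hxV⟩
      obtain ⟨O₀, hO₀, heO₀, hO₀C⟩ := F2 ⟨G.hom.base x, hxV⟩
      have hUo : IsOpen (U₀.ι.base '' O₀) := U₀.ι.isOpenEmbedding.isOpenMap _ hO₀
      have he : (GrpFib.unitSec G).base (G.hom.base x) ∈ U₀.ι.base '' O₀ :=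
        ⟨_, heO₀, hev ⟨G.hom.base x, hxV⟩⟩
      obtain ⟨w, ⟨a, haO, hafw⟩, ⟨b, hbO, hb⟩, h3⟩ := GrpNeutB.exists_mul_of_mem G (G.hom.base x)
        (U₀.ι.base '' O₀) hUo he x ((GrpNeutB.mem_neutralSet_iff G x).1 hxN)
      have hGw : (G ⊗ G).hom.base w = G.hom.base x := by
        rw [← h3]
        exact (congrArg (fun ψ : (G ⊗ G).left ⟶ S => ψ.base w) (Over.w μ[G])).symm
      have hGs : G.hom.base ((snd G G).left.base w) = (G ⊗ G).hom.base w :=
        congrArg (fun ψ : (G ⊗ G).left ⟶ S => ψ.base w) (Over.w (snd G G))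
      have hfa : f₀.base a = ⟨G.hom.base x, hxV⟩ := by
        apply Subtype.ext
        show V.ι.base (f₀.base a) = G.hom.base x
        rw [← hGv, hafw, ← GrpNeutC.hom_tensor, hGw]
      have hfb : f₀.base b = ⟨G.hom.base x, hxV⟩ := by
        apply Subtype.ext
        show V.ι.base (f₀.base b) = G.hom.base x
        rw [← hGv, hb, hGι, hGs, hGw]
      refine ⟨w, ⟨⟨a, hO₀C a haO hfa, hafw⟩, ⟨b, hO₀C b hbO hfb, hb⟩⟩, h3⟩
    · rintro _ ⟨w, ⟨⟨a, haC, hafw⟩, ⟨b, hbC, hb⟩⟩, rfl⟩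
      have h1 : (fst G G).left.base w ∈ SGA3x.neutralSet G := by
        rw [← hafw]; exact F1 a haC
      have h2 : ι[G].left.base ((snd G G).left.base w) ∈ SGA3x.neutralSet G := by
        rw [← hb]; exact F1 b hbC
      have h2' : (snd G G).left.base w ∈ SGA3x.neutralSet G := by
        have := GrpNeutC.inv_mem G _ h2
        rwa [GrpNeutB.inv_inv_apply] at this
      refine ⟨GrpNeutC.mul_mem G w h1 h2', ?_⟩
      show G.hom.base (μ[G].left.base w) ∈ V
      have e1 : G.hom.base (μ[G].left.base w) = (G ⊗ G).hom.base w :=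
        congrArg (fun ψ : (G ⊗ G).left ⟶ S => ψ.base w) (Over.w μ[G])
      rw [e1, GrpNeutC.hom_tensor, ← hafw]
      exact hU₀V a.1 a.2

theorem isOpen_neutralSet (U : G.left.Opens) (hU : Smooth (U.ι ≫ G.hom))
    (heU : ∀ s : S, (GrpFib.unitSec G).base s ∈ U) : IsOpen (SGA3x.neutralSet G) := by
  rw [isOpen_iff_mem_nhds]
  intro x hx
  obtain ⟨V, C, hsV, hCU, hCN, heq⟩ := local_smooth G U hU heU (G.hom.base x)
  have hopen : IsOpen (SGA3x.neutralSet G ∩ G.hom.base ⁻¹' (V : Set S)) := by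
    rw [heq]
    haveI := hU
    refine isOpen_mul_image G U inferInstance _ ?_ ?_
    · exact (C.isOpen.preimage (fst G G).left.continuous).inter
        ((C.isOpen.preimage ι[G].left.continuous).preimage (snd G G).left.continuous)
    · rintro w ⟨hw, -⟩
      exact hCU hw
  exact Filter.mem_of_superset (hopen.mem_nhds ⟨hx, hsV⟩) Set.inter_subset_left

theorem s4098 (hsm : ∃ U : G.left.Opens, Smooth (U.ι ≫ G.hom) ∧
      ∀ p : ↥(𝟙_ (Over S)).left, η[G].left.base p ∈ U) :
    IsOpen (SGA3x.neutralSet G) ∧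
    ∃ (G0 : Over S) (_ : GrpObj G0) (i : G0 ⟶ G), IsMonHom i ∧ IsOpenImmersion i.left ∧
      Set.range i.left.base = SGA3x.neutralSet G ∧ Smooth G0.hom ∧ QuasiCompact G0.hom := by
  obtain ⟨U, hU, heU⟩ := hsm
  have heU' : ∀ s : S, (GrpFib.unitSec G).base s ∈ U := fun s => heU s
  have hopen := isOpen_neutralSet G U hU heU'
  refine ⟨hopen, ?_⟩
  obtain ⟨Vsm, hVsm, hmax⟩ := exists_max_smooth G
  obtain ⟨hstι, hstμ⟩ := smooth_stable G Vsm hVsm hmax
  have hUV : U ≤ Vsm := hmax U hU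
  have hNV : SGA3x.neutralSet G ⊆ (Vsm : Set G.left) := by
    intro x hx
    obtain ⟨V, C, hsV, hCU, hCN, heq⟩ := local_smooth G U hU heU' (G.hom.base x)
    have hx' : x ∈ SGA3x.neutralSet G ∩ G.hom.base ⁻¹' (V : Set S) := ⟨hx, hsV⟩
    rw [heq] at hx'
    obtain ⟨w, ⟨hw1, hw2⟩, rfl⟩ := hx'
    refine hstμ w (hUV (hCU hw1)) ?_
    have := hstι _ (hUV (hCU hw2))
    rwa [GrpNeutB.inv_inv_apply] at this
  let Nop : G.left.Opens := ⟨SGA3x.neutralSet G, hopen⟩
  let G0₀ : Over S := Over.mk (Nop.ι ≫ G.hom)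
  let i₀ : G0₀ ⟶ G := Over.homMk Nop.ι rfl
  haveI : Mono i₀.left := (inferInstance : Mono Nop.ι)
  haveI : Mono i₀ := Over.mono_of_mono_left i₀
  have hfac : ∀ (T : Over S) (g : T ⟶ G), (Subobject.mk i₀).Factors g ↔
      Set.range g.left.base ⊆ SGA3x.neutralSet G := by
    intro T g
    constructor
    · intro h
      obtain ⟨h', hh'⟩ := (Subobject.mk_factors_iff i₀ g).1 h
      have hh'' : h' ≫ i₀ = g := hh'
      rintro _ ⟨t, rfl⟩
      rw [← hh'']
      exact (h'.left.base t).2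
    · intro hr
      have hr' : Set.range g.left.base ⊆ Set.range Nop.ι.base := by
        rw [Scheme.Opens.range_ι]; exact hr
      let h' : T ⟶ G0₀ := Over.homMk (IsOpenImmersion.lift Nop.ι g.left hr') (by
        show IsOpenImmersion.lift Nop.ι g.left hr' ≫ Nop.ι ≫ G.hom = T.hom
        rw [← Category.assoc, IsOpenImmersion.lift_fac]; exact Over.w g)
      have hh : h' ≫ i₀ = g := by
        apply Over.OverMorphism.ext
        show IsOpenImmersion.lift Nop.ι g.left hr' ≫ Nop.ι = g.left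
        exact IsOpenImmersion.lift_fac _ _ _
      exact (Subobject.mk_factors_iff i₀ g).2 ⟨h', hh⟩
  have hK : IsSubgrp (Subobject.mk i₀) := by
    refine ⟨?_, ?_, ?_⟩
    · refine (hfac _ _).2 ?_
      rintro _ ⟨p, rfl⟩
      exact GrpNeutC.unitSec_mem G p
    · intro T x y hx hy
      have hx' := (hfac _ _).1 hx
      have hy' := (hfac _ _).1 hy
      refine (hfac _ _).2 ?_
      rintro _ ⟨t, rfl⟩
      have h1 : (x * y).left.base t = μ[G].left.base ((lift x y).left.base t) := by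
        rw [Hom.mul_def]; rfl
      rw [h1]
      refine GrpNeutC.mul_mem G _ ?_ ?_
      · have : (fst G G).left.base ((lift x y).left.base t) = x.left.base t :=
          congrArg (fun φ : T ⟶ G => φ.left.base t) (lift_fst x y)
        rw [this]; exact hx' ⟨t, rfl⟩
      · have : (snd G G).left.base ((lift x y).left.base t) = y.left.base t :=
          congrArg (fun φ : T ⟶ G => φ.left.base t) (lift_snd x y)
        rw [this]; exact hy' ⟨t, rfl⟩
    · intro T x hx
      have hx' := (hfac _ _).1 hx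
      refine (hfac _ _).2 ?_
      rintro _ ⟨t, rfl⟩
      have h1 : (x⁻¹).left.base t = ι[G].left.base (x.left.base t) := by
        rw [Hom.inv_def]; rfl
      rw [h1]
      exact GrpNeutC.inv_mem G _ (hx' ⟨t, rfl⟩)
  letI str : GrpObj ((Subobject.mk i₀ : Subobject G) : Over S) := subGrpObj hK
  have hmon : IsMonHom (Subobject.mk i₀).arrow := isMonHom_arrow hK
  have harrow : (Subobject.mk i₀).arrow = (Subobject.underlyingIso i₀).hom ≫ i₀ :=
    (Subobject.underlyingIso_hom_comp_eq_mk i₀).symm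
  have hleft : (Subobject.mk i₀).arrow.left = (Subobject.underlyingIso i₀).hom.left ≫ Nop.ι := by
    rw [harrow]; rfl
  haveI hisoL : IsIso (Subobject.underlyingIso i₀).hom.left :=
    (inferInstance : IsIso ((Over.forget S).map (Subobject.underlyingIso i₀).hom))
  haveI hoi : IsOpenImmersion (Subobject.mk i₀).arrow.left := by
    rw [hleft]; infer_instance
  have hrange : Set.range (Subobject.mk i₀).arrow.left.base = SGA3x.neutralSet G := by
    have hs : Function.Surjective (Subobject.underlyingIso i₀).hom.left.base :=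
      fun y => GrpNeutC.surj_of_isIso _ y
    rw [hleft, Scheme.Hom.comp_base, TopCat.coe_comp, Set.range_comp, hs.range_eq, Set.image_univ]
    exact Scheme.Opens.range_ι Nop
  refine ⟨((Subobject.mk i₀ : Subobject G) : Over S), str, (Subobject.mk i₀).arrow, hmon, hoi,
    hrange, ?_, ?_⟩
  · have e1 : ((Subobject.mk i₀ : Subobject G) : Over S).hom =
        (Subobject.mk i₀).arrow.left ≫ G.hom := (Over.w (Subobject.mk i₀).arrow).symm
    rw [e1, hleft, Category.assoc]
    haveI : Smooth (Nop.ι ≫ G.hom) := by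
      rw [← G.left.homOfLE_ι (show Nop ≤ Vsm from hNV), Category.assoc]
      haveI := hVsm
      infer_instance
    infer_instance
  · refine GrpNeutB.s5324 ((Subobject.mk i₀ : Subobject G) : Over S) ?_
    intro s
    have hGj : ∀ z, G.hom.base ((Subobject.mk i₀).arrow.left.base z) =
        ((Subobject.mk i₀ : Subobject G) : Over S).hom.base z := fun z =>
      congrArg (fun ψ : ((Subobject.mk i₀ : Subobject G) : Over S).left ⟶ S => ψ.base z)
        (Over.w (Subobject.mk i₀).arrow)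
    have himg : (Subobject.mk i₀).arrow.left.base ''
        (((Subobject.mk i₀ : Subobject G) : Over S).hom.base ⁻¹' {s}) =
        connectedComponentIn (G.hom.base ⁻¹' {s}) ((GrpFib.unitSec G).base s) := by
      rw [← GrpUO.neutralSet_inter_fibre]
      ext x
      constructor
      · rintro ⟨z, hz, rfl⟩
        refine ⟨?_, ?_⟩
        · rw [← hrange]; exact ⟨z, rfl⟩
        · show G.hom.base _ = s
          rw [hGj]; exact hz
      · rintro ⟨hxN, hxs⟩
        rw [← hrange] at hxN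
        obtain ⟨z, rfl⟩ := hxN
        refine ⟨z, ?_, rfl⟩
        show _ = s
        rw [← hGj]; exact hxs
    have hc : _root_.IsConnected ((Subobject.mk i₀).arrow.left.base ''
        (((Subobject.mk i₀ : Subobject G) : Over S).hom.base ⁻¹' {s})) := by
      rw [himg]
      exact isConnected_connectedComponentIn_iff.2 (GrpFib.hom_unitSec G s)
    exact ⟨hc.nonempty.of_image,
      ((Subobject.mk i₀).arrow.left.isOpenEmbedding.isInducing.isPreconnected_image).1
        hc.isPreconnected⟩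

end Main

end Groth.Agent.H1.GrpSmN
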