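import Mathlib
import Groth.Prelude.Def_AlgGrp
import Groth.Prelude.Def_ChGrp
import Groth.Prelude.Def_SGA3x
import Groth.Prelude.Def_Red
import Groth.Agent.Lib.Helper1.GrpUO
import Groth.Agent.Lib.Helper1.GrpICons
import Groth.Agent.Lib.Helper1.GrpSmN
import Groth.Agent.Lib.Helper1.GrpNeutB
import Groth.Agent.Lib.Helper1.GrpLoci
import Groth.Agent.Lib.Helper9.Misc.FLH3
import Groth.Agent.Lib.Helper3.UO4931
import Groth.Agent.S15543
import Groth.Agent.S3399
import Groth.Agent.S3403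

/-! Separatedness of `G⁰·U` (SGA3 VI_B 5.x): for a group scheme `G` locally of finite presentation
over `S`, universally open along `G⁰`, acting on `X`, and `U ⊆ X` open and separated over `S`, the set
`G⁰·U` is open and separated over `S` (helper1). -/

set_option autoImplicit false
set_option linter.style.haveILetI false
universe u

namespace Groth.Agent.H1.GrpSep

open CategoryTheory CategoryTheory.Limits MonoidalCategory CartesianMonoidalCategory MonObj GrpObj
  AlgebraicGeometry Groth.Agent.H9.FLH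

/-! ### separatedness of an open subscheme in terms of the diagonal of the ambient scheme -/

section Sep

variable {X S : Scheme.{u}} (f : X ⟶ S) (U : X.Opens)

/-- the open immersion `U ×_S U ⟶ X ×_S X`. -/
noncomputable def jU : pullback (U.ι ≫ f) (U.ι ≫ f) ⟶ pullback f f :=
  pullback.map (U.ι ≫ f) (U.ι ≫ f) f f U.ι U.ι (𝟙 S) (by simp) (by simp)

instance : IsOpenImmersion (jU f U) := by unfold jU; infer_instance

theorem jU_fst : jU f U ≫ pullback.fst f f = pullback.fst _ _ ≫ U.ι := by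
  unfold jU; exact pullback.lift_fst _ _ _

theorem jU_snd : jU f U ≫ pullback.snd f f = pullback.snd _ _ ≫ U.ι := by
  unfold jU; exact pullback.lift_snd _ _ _

theorem range_jU : Set.range (jU f U).base =
    (pullback.fst f f).base ⁻¹' (U : Set X) ∩ (pullback.snd f f).base ⁻¹' (U : Set X) := by
  unfold jU
  rw [Scheme.Pullback.range_map, Scheme.Opens.range_ι]

theorem diag_jU : pullback.diagonal (U.ι ≫ f) ≫ jU f U = U.ι ≫ pullback.diagonal f := by
  apply pullback.hom_ext
  · rw [Category.assoc, jU_fst, ← Category.assoc, pullback.diagonal_fst, Category.id_comp,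
      Category.assoc, pullback.diagonal_fst, Category.comp_id]
  · rw [Category.assoc, jU_snd, ← Category.assoc, pullback.diagonal_snd, Category.id_comp,
      Category.assoc, pullback.diagonal_snd, Category.comp_id]

theorem range_diag_eq : Set.range (pullback.diagonal (U.ι ≫ f)).base =
    (jU f U).base ⁻¹' Set.range (pullback.diagonal f).base := by
  ext w
  constructor
  · rintro ⟨x, rfl⟩
    refine ⟨U.ι.base x, ?_⟩
    exact (congrArg (fun ψ : (U : Scheme.{u}) ⟶ pullback f f => ψ.base x) (diag_jU f U)).symm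
  · rintro ⟨x, hx⟩
    have h1 : (pullback.fst f f).base ((jU f U).base w) = x := by
      rw [← hx]
      exact congrArg (fun ψ : X ⟶ X => ψ.base x) (pullback.diagonal_fst f)
    have h2 : (pullback.snd f f).base ((jU f U).base w) = x := by
      rw [← hx]
      exact congrArg (fun ψ : X ⟶ X => ψ.base x) (pullback.diagonal_snd f)
    have h1' : U.ι.base ((pullback.fst (U.ι ≫ f) (U.ι ≫ f)).base w) = x :=
      (congrArg (fun ψ : pullback (U.ι ≫ f) (U.ι ≫ f) ⟶ X => ψ.base w) (jU_fst f U)).symm.trans h1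
    have h2' : U.ι.base ((pullback.snd (U.ι ≫ f) (U.ι ≫ f)).base w) = x :=
      (congrArg (fun ψ : pullback (U.ι ≫ f) (U.ι ≫ f) ⟶ X => ψ.base w) (jU_snd f U)).symm.trans h2
    refine ⟨(pullback.fst (U.ι ≫ f) (U.ι ≫ f)).base w, ?_⟩
    apply (jU f U).isOpenEmbedding.injective
    have h4 := congrArg (fun ψ : (U : Scheme.{u}) ⟶ pullback f f =>
      ψ.base ((pullback.fst (U.ι ≫ f) (U.ι ≫ f)).base w)) (diag_jU f U)
    have h5 : (jU f U).base ((pullback.diagonal (U.ι ≫ f)).base
        ((pullback.fst (U.ι ≫ f) (U.ι ≫ f)).base w)) =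
        (pullback.diagonal f).base (U.ι.base ((pullback.fst (U.ι ≫ f) (U.ι ≫ f)).base w)) := h4
    rw [h5, h1', hx]

theorem exists_closed_of_isSeparated (hU : IsSeparated (U.ι ≫ f)) :
    ∃ C : Set ↑(pullback f f), IsClosed C ∧
      (∀ y, (pullback.fst f f).base y ∈ U → (pullback.snd f f).base y ∈ U →
        y ∈ Set.range (pullback.diagonal f).base → y ∈ C) ∧
      (∀ y ∈ C, (pullback.fst f f).base y ∈ U → (pullback.snd f f).base y ∈ U →
        y ∈ Set.range (pullback.diagonal f).base) := by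
  have hcl : IsClosed (Set.range (pullback.diagonal (U.ι ≫ f)).base) :=
    (pullback.diagonal (U.ι ≫ f)).isClosedEmbedding.isClosed_range
  rw [range_diag_eq] at hcl
  have hW : IsOpen ((jU f U).base '' ((jU f U).base ⁻¹' Set.range (pullback.diagonal f).base)ᶜ) :=
    (jU f U).isOpenEmbedding.isOpenMap _ hcl.isOpen_compl
  refine ⟨_, hW.isClosed_compl, ?_, ?_⟩
  · rintro y - - hy ⟨w, hw, rfl⟩
    exact hw hy
  · intro y hy h1 h2
    by_contra hyΔ
    have hyr : y ∈ Set.range (jU f U).base := by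
      rw [range_jU]; exact ⟨h1, h2⟩
    obtain ⟨w, rfl⟩ := hyr
    exact hy ⟨w, hyΔ, rfl⟩

theorem isSeparated_of_forall_nhd (V : X.Opens)
    (h : ∀ z : ↑(pullback f f), (pullback.fst f f).base z ∈ V → (pullback.snd f f).base z ∈ V →
      z ∉ Set.range (pullback.diagonal f).base →
      ∃ O : Set ↑(pullback f f), IsOpen O ∧ z ∈ O ∧
        Disjoint O (Set.range (pullback.diagonal f).base)) :
    IsSeparated (V.ι ≫ f) := by
  refine ⟨IsClosedImmersion.of_isPreimmersion _ ?_⟩
  show IsClosed (Set.range (pullback.diagonal (V.ι ≫ f)).base)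
  rw [range_diag_eq, ← isOpen_compl_iff, isOpen_iff_forall_mem_open]
  intro w hw
  have hr : (jU f V).base w ∈ Set.range (jU f V).base := ⟨w, rfl⟩
  rw [range_jU] at hr
  obtain ⟨O, hO, hzO, hdisj⟩ := h _ hr.1 hr.2 hw
  refine ⟨(jU f V).base ⁻¹' O, ?_, hO.preimage (jU f V).continuous, hzO⟩
  intro w' hw' hw'Δ
  exact Set.disjoint_left.mp hdisj hw' hw'Δ

end Sep

/-! ### universal openness at a point and base change -/

theorem isUnivOpenAt_of_isPullback {X Y X' Y' : Scheme.{u}} {f : X ⟶ Y} {f' : X' ⟶ Y'}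
    {g' : X' ⟶ X} {g : Y' ⟶ Y} (sq : IsPullback g' f' f g) (x' : X')
    (h : EGA43.IsUnivOpenAt f (g'.base x')) : EGA43.IsUnivOpenAt f' x' := by
  intro Y'' k z hz
  have sq1 := IsPullback.of_hasPullback f' k
  have sq2 := sq1.paste_horiz sq
  exact Groth.Agent.H3.isOpenAt_snd_of_isPullback h sq2 z (by
    show g'.base ((pullback.fst f' k).base z) = g'.base x'
    rw [hz])

/-! ### images of `G⁰ ∩ O` -/

section ClaimA

variable {S : Scheme.{u}} (G : Over S) [GrpObj G]

theorem isIrreducible_cc [LocallyOfFiniteType G.hom] (t : S) :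
    IsIrreducible (connectedComponentIn (G.hom.base ⁻¹' {t}) ((GrpFib.unitSec G).base t)) :=
  FibComp.isIrreducible_of_geom G.hom t _ (connectedComponentIn_subset _ _)
    (fun K _ _ => GrpUO.hirr_grp G t K)

theorem dim_cc [LocallyOfFiniteType G.hom] (t : S) :
    topologicalKrullDim ↥(connectedComponentIn (G.hom.base ⁻¹' {t}) ((GrpFib.unitSec G).base t)) =
      topologicalKrullDim ↥(G.hom.base ⁻¹' {t}) := by
  rw [FibComp.dim_connectedComponentIn_eq G.hom ((GrpFib.unitSec G).base t) t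
      (GrpFib.hom_unitSec G t) (isIrreducible_cc G t), GrpFib.dim_preimage_eq G t]

theorem cc_subset_closure [LocallyOfFinitePresentation G.hom]
    (hUO : ∀ x ∈ SGA3x.neutralSet G, EGA43.IsUnivOpenAt G.hom x) (s s' : S) (h : s' ⤳ s) :
    connectedComponentIn (G.hom.base ⁻¹' {s}) ((GrpFib.unitSec G).base s) ⊆
      closure (connectedComponentIn (G.hom.base ⁻¹' {s'}) ((GrpFib.unitSec G).base s')) := by
  obtain ⟨U, hU, hUeq⟩ := (GrpUO.s5330 G s).2.mp (fun x hx => hUO x hx.1)
  have hs'U : s' ∈ U := by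
    have h' : nhds s' ≤ nhds s := h
    exact mem_of_mem_nhds (h' hU)
  have hmaxC : ∀ Z' : Set G.left, IsIrreducible Z' → Z' ⊆ G.hom.base ⁻¹' {s'} →
      connectedComponentIn (G.hom.base ⁻¹' {s'}) ((GrpFib.unitSec G).base s') ⊆ Z' →
      Z' = connectedComponentIn (G.hom.base ⁻¹' {s'}) ((GrpFib.unitSec G).base s') := by
    intro Z' hZ' hZ'F hCZ'
    refine subset_antisymm ?_ hCZ'
    exact hZ'.isConnected.isPreconnected.subset_connectedComponentIn
      (hCZ' (mem_connectedComponentIn (GrpFib.hom_unitSec G s'))) hZ'F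
  have h52 := SecComp.s4952 G.hom (GrpFib.unitSec G) (GrpFib.unitSec_comp G) s s' h
    ⟨_, connectedComponentIn_subset _ _, isIrreducible_cc G s', hmaxC,
      mem_connectedComponentIn (GrpFib.hom_unitSec G s'), rfl⟩
  refine h52.2 (isIrreducible_cc G s) ?_
  rw [dim_cc G s, dim_cc G s', hUeq s' hs'U]

theorem isOpen_image_neutralSet_inter [LocallyOfFinitePresentation G.hom]
    (hUO : ∀ x ∈ SGA3x.neutralSet G, EGA43.IsUnivOpenAt G.hom x) (O : Set G.left) (hO : IsOpen O) :
    IsOpen (G.hom.base '' (SGA3x.neutralSet G ∩ O)) := by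
  have hind : ProCons.IsIndConstructible (G.hom.base '' (SGA3x.neutralSet G ∩ O)) := by
    let Oo : G.left.Opens := ⟨O, hO⟩
    have h1 := Groth.Agent.S15543.result Oo.ι (SGA3x.neutralSet G) (GrpICons.isIndConstructible G)
    have h2 := Groth.Agent.S3399.result (Oo.ι ≫ G.hom) _ h1
    have e : (Oo.ι ≫ G.hom).base '' (Oo.ι.base ⁻¹' SGA3x.neutralSet G) =
        G.hom.base '' (SGA3x.neutralSet G ∩ O) := by
      ext t
      constructor
      · rintro ⟨w, hw, rfl⟩
        exact ⟨Oo.ι.base w, ⟨hw, w.2⟩, rfl⟩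
      · rintro ⟨x, ⟨hx1, hx2⟩, rfl⟩
        exact ⟨⟨x, hx2⟩, hx1, rfl⟩
    rw [← e]; exact h2
  rw [isOpen_iff_mem_nhds]
  intro t ht
  apply mem_interior_iff_mem_nhds.mp
  rw [Groth.Agent.S3403.result S _ hind t]
  intro t' ht'
  obtain ⟨x, ⟨hxN, hxO⟩, rfl⟩ := ht
  have hxC : x ∈ connectedComponentIn (G.hom.base ⁻¹' {G.hom.base x})
      ((GrpFib.unitSec G).base (G.hom.base x)) := by
    rw [← GrpUO.neutralSet_inter_fibre]; exact ⟨hxN, rfl⟩
  have hcl := cc_subset_closure G hUO _ t' ht' hxC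
  obtain ⟨x', hx'O, hx'C⟩ := mem_closure_iff.mp hcl O hO hxO
  rw [← GrpUO.neutralSet_inter_fibre] at hx'C
  exact ⟨x', ⟨hx'C.1, hx'O⟩, hx'C.2⟩

theorem isOpen_snd_image [LocallyOfFinitePresentation G.hom]
    (hUO : ∀ x ∈ SGA3x.neutralSet G, EGA43.IsUnivOpenAt G.hom x) (Y : Over S)
    (O : Set (G ⊗ Y).left) (hO : IsOpen O) :
    IsOpen ((snd G Y).left.base '' ((fst G Y).left.base ⁻¹' SGA3x.neutralSet G ∩ O)) := by
  haveI : LocallyOfFinitePresentation (Red.bc Y.hom G).hom := by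
    show LocallyOfFinitePresentation (pullback.snd G.hom Y.hom)
    infer_instance
  have hUO' : ∀ x ∈ SGA3x.neutralSet (Red.bc Y.hom G),
      EGA43.IsUnivOpenAt (Red.bc Y.hom G).hom x := by
    intro x hx
    rw [GrpNeut.s5322] at hx
    exact isUnivOpenAt_of_isPullback (IsPullback.of_hasPullback G.hom Y.hom) x (hUO _ hx)
  have := isOpen_image_neutralSet_inter (Red.bc Y.hom G) hUO' O hO
  rw [GrpNeut.s5322] at this
  exact this

theorem isPreirreducible_slice [LocallyOfFiniteType G.hom] (Y : Over S) (y : Y.left) :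
    IsPreirreducible
      ((fst G Y).left.base ⁻¹' SGA3x.neutralSet G ∩ (snd G Y).left.base ⁻¹' {y}) := by
  haveI : LocallyOfFiniteType (Red.bc Y.hom G).hom := by
    show LocallyOfFiniteType (pullback.snd G.hom Y.hom)
    infer_instance
  have h := (isIrreducible_cc (Red.bc Y.hom G) y).isPreirreducible
  rw [← GrpUO.neutralSet_inter_fibre, GrpNeut.s5322] at h
  exact h

end ClaimA

/-! ### actions -/

section Act

variable {S : Scheme.{u}} {G : Over S} [GrpObj G]

theorem shear_fst' {Y : Over S} (b : AlgGrp.Action G Y) : shear b ≫ fst G Y = fst G Y :=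
  lift_fst _ _

theorem shear_whisker {Y Z : Over S} (b : AlgGrp.Action G Y) (c : AlgGrp.Action G Z) (p : Y ⟶ Z)
    (hp : b.act ≫ p = (G ◁ p) ≫ c.act) : shear b ≫ (G ◁ p) = (G ◁ p) ≫ shear c := by
  apply CartesianMonoidalCategory.hom_ext
  · rw [Category.assoc, Category.assoc, whiskerLeft_fst, shear_fst', shear_fst', whiskerLeft_fst]
  · rw [Category.assoc, Category.assoc, whiskerLeft_snd, shear_snd, ← Category.assoc, shear_snd, hp]

theorem fst_shear_apply {Y : Over S} (b : AlgGrp.Action G Y) (w : (G ⊗ Y).left) :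
    (fst G Y).left.base ((shear b).left.base w) = (fst G Y).left.base w :=
  congrArg (fun φ : G ⊗ Y ⟶ G => φ.left.base w) (shear_fst' b)

theorem snd_shear_apply {Y : Over S} (b : AlgGrp.Action G Y) (w : (G ⊗ Y).left) :
    (snd G Y).left.base ((shear b).left.base w) = b.act.left.base w :=
  congrArg (fun φ : G ⊗ Y ⟶ Y => φ.left.base w) (shear_snd b)

theorem isOpen_act_image [LocallyOfFinitePresentation G.hom]
    (hUO : ∀ x ∈ SGA3x.neutralSet G, EGA43.IsUnivOpenAt G.hom x) {Y : Over S}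
    (b : AlgGrp.Action G Y) (O : Set (G ⊗ Y).left) (hO : IsOpen O) :
    IsOpen (b.act.left.base '' ((fst G Y).left.base ⁻¹' SGA3x.neutralSet G ∩ O)) := by
  haveI : IsIso (shear b).left := GrpLoci.isIso_shear_left b
  have hopen : IsOpen ((shear b).left.base '' O) :=
    (shear b).left.isOpenEmbedding.isOpenMap _ hO
  have e : b.act.left.base '' ((fst G Y).left.base ⁻¹' SGA3x.neutralSet G ∩ O) =
      (snd G Y).left.base '' ((fst G Y).left.base ⁻¹' SGA3x.neutralSet G ∩
        (shear b).left.base '' O) := by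
    ext x
    constructor
    · rintro ⟨w, ⟨hw1, hw2⟩, rfl⟩
      refine ⟨(shear b).left.base w, ⟨?_, ⟨w, hw2, rfl⟩⟩, snd_shear_apply b w⟩
      show (fst G Y).left.base ((shear b).left.base w) ∈ SGA3x.neutralSet G
      rw [fst_shear_apply]; exact hw1
    · rintro ⟨_, ⟨hw1, ⟨w, hw2, rfl⟩⟩, rfl⟩
      refine ⟨w, ⟨?_, hw2⟩, (snd_shear_apply b w).symm⟩
      have : (fst G Y).left.base ((shear b).left.base w) ∈ SGA3x.neutralSet G := hw1
      rwa [fst_shear_apply] at this
  rw [e]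
  exact isOpen_snd_image G hUO Y _ hopen

variable {X : Over S} (a : AlgGrp.Action G X)

theorem prod_act_fst : (a.prod a).act ≫ fst X X = (G ◁ fst X X) ≫ a.act := by
  rw [AlgGrp.Action.prod_act, lift_fst]

theorem prod_act_snd : (a.prod a).act ≫ snd X X = (G ◁ snd X X) ≫ a.act := by
  rw [AlgGrp.Action.prod_act, lift_snd]

theorem act_diag : a.act ≫ lift (𝟙 X) (𝟙 X) =
    (G ◁ lift (𝟙 X) (𝟙 X)) ≫ (a.prod a).act := by
  apply CartesianMonoidalCategory.hom_ext
  · rw [Category.assoc, Category.assoc, lift_fst, prod_act_fst, ← Category.assoc,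
      ← MonoidalCategory.whiskerLeft_comp, lift_fst, MonoidalCategory.whiskerLeft_id,
      Category.id_comp, Category.comp_id]
  · rw [Category.assoc, Category.assoc, lift_snd, prod_act_snd, ← Category.assoc,
      ← MonoidalCategory.whiskerLeft_comp, lift_snd, MonoidalCategory.whiskerLeft_id,
      Category.id_comp, Category.comp_id]

/-- the set `G⁰·U`. -/
def orbitSet (U : X.left.Opens) : Set X.left :=
  a.act.left.base '' {z : ↥(G ⊗ X).left | (fst G X).left.base z ∈ SGA3x.neutralSet G ∧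
    (snd G X).left.base z ∈ U}

theorem isOpen_orbitSet [LocallyOfFinitePresentation G.hom]
    (hUO : ∀ x ∈ SGA3x.neutralSet G, EGA43.IsUnivOpenAt G.hom x) (U : X.left.Opens) :
    IsOpen (orbitSet a U) := by
  have h := isOpen_act_image hUO a ((snd G X).left.base ⁻¹' (U : Set X.left))
    (U.2.preimage (snd G X).left.continuous)
  exact h

/-- the diagonal is stable under the diagonal action. -/
theorem diag_stable (p : (G ⊗ (X ⊗ X)).left) :
    (a.prod a).act.left.base p ∈ Set.range (lift (𝟙 X) (𝟙 X)).left.base ↔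
      (snd G (X ⊗ X)).left.base p ∈ Set.range (lift (𝟙 X) (𝟙 X)).left.base := by
  haveI : IsIso (shear (a.prod a)).left := GrpLoci.isIso_shear_left _
  haveI : IsIso (shear a).left := GrpLoci.isIso_shear_left _
  have hR : Set.range (G ◁ lift (𝟙 X) (𝟙 X)).left.base =
      (snd G (X ⊗ X)).left.base ⁻¹' Set.range (lift (𝟙 X) (𝟙 X)).left.base :=
    GrpSmN.range_of_isPullback (ArtProd.isPullback_whiskerLeft_left G (lift (𝟙 X) (𝟙 X))).flip
  have hcomm := shear_whisker a (a.prod a) (lift (𝟙 X) (𝟙 X)) (act_diag a)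
  constructor
  · intro h
    have h1 : (shear (a.prod a)).left.base p ∈ Set.range (G ◁ lift (𝟙 X) (𝟙 X)).left.base := by
      rw [hR]
      show (snd G (X ⊗ X)).left.base ((shear (a.prod a)).left.base p) ∈
        Set.range (lift (𝟙 X) (𝟙 X)).left.base
      rw [snd_shear_apply]; exact h
    obtain ⟨q', hq'⟩ := h1
    obtain ⟨q, hq⟩ := GrpNeutC.surj_of_isIso (shear a).left q'
    have h2 : (shear (a.prod a)).left.base ((G ◁ lift (𝟙 X) (𝟙 X)).left.base q) =
        (shear (a.prod a)).left.base p := by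
      have := congrArg (fun φ : G ⊗ X ⟶ G ⊗ (X ⊗ X) => φ.left.base q) hcomm
      have this' : (G ◁ lift (𝟙 X) (𝟙 X)).left.base ((shear a).left.base q) =
          (shear (a.prod a)).left.base ((G ◁ lift (𝟙 X) (𝟙 X)).left.base q) := this
      rw [← this', hq, hq']
    have h3 : (G ◁ lift (𝟙 X) (𝟙 X)).left.base q = p :=
      (shear (a.prod a)).left.isOpenEmbedding.injective h2
    have h4 : p ∈ Set.range (G ◁ lift (𝟙 X) (𝟙 X)).left.base := ⟨q, h3⟩
    rw [hR] at h4
    exact h4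
  · intro h
    have h4 : p ∈ Set.range (G ◁ lift (𝟙 X) (𝟙 X)).left.base := by
      rw [hR]; exact h
    obtain ⟨q, rfl⟩ := h4
    refine ⟨a.act.left.base q, ?_⟩
    exact congrArg (fun φ : G ⊗ X ⟶ X ⊗ X => φ.left.base q) (act_diag a)

/-- a point of `X ×_S X` both of whose projections lie in `G⁰·U` is in `G⁰·(U ×_S U)`. -/
theorem exists_of_mem_orbitSet [LocallyOfFiniteType G.hom] (U : X.left.Opens)
    (z : (X ⊗ X).left) (h1 : (fst X X).left.base z ∈ orbitSet a U)
    (h2 : (snd X X).left.base z ∈ orbitSet a U) :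
    ∃ p : (G ⊗ (X ⊗ X)).left, (fst G (X ⊗ X)).left.base p ∈ SGA3x.neutralSet G ∧
      (fst X X).left.base ((snd G (X ⊗ X)).left.base p) ∈ U ∧
      (snd X X).left.base ((snd G (X ⊗ X)).left.base p) ∈ U ∧
      (a.prod a).act.left.base p = z := by
  haveI : IsIso (shear (a.prod a)).left := GrpLoci.isIso_shear_left _
  haveI : IsIso (shear a).left := GrpLoci.isIso_shear_left _
  have key : ∀ (pr : X ⊗ X ⟶ X), (a.prod a).act ≫ pr = (G ◁ pr) ≫ a.act →
      pr.left.base z ∈ orbitSet a U →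
      (((fst G (X ⊗ X)).left.base ⁻¹' SGA3x.neutralSet G ∩
        (snd G (X ⊗ X)).left.base ⁻¹' {z}) ∩
        (shear (a.prod a)).left.base '' ((snd G (X ⊗ X)).left.base ⁻¹'
          (pr.left.base ⁻¹' (U : Set X.left)))).Nonempty := by
    intro pr hpr hz
    obtain ⟨q, ⟨hq1, hq2⟩, hq3⟩ := hz
    have sqp := ArtProd.isPullback_whiskerLeft_left G pr
    obtain ⟨p', hp'1, hp'2⟩ := Groth.Agent.H3.exists_preimage_of_isPullback sqp z
      ((shear a).left.base q) (by rw [snd_shear_apply]; exact hq3.symm)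
    obtain ⟨p₁, hp₁⟩ := GrpNeutC.surj_of_isIso (shear (a.prod a)).left p'
    have hcomm := shear_whisker (a.prod a) a pr hpr
    have hc : (G ◁ pr).left.base ((shear (a.prod a)).left.base p₁) =
        (shear a).left.base ((G ◁ pr).left.base p₁) :=
      congrArg (fun φ : G ⊗ (X ⊗ X) ⟶ G ⊗ X => φ.left.base p₁) hcomm
    have h3 : (G ◁ pr).left.base p₁ = q := by
      apply (shear a).left.isOpenEmbedding.injective
      rw [← hc, hp₁, hp'2]
    have hf : ∀ w : (G ⊗ (X ⊗ X)).left,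
        (fst G X).left.base ((G ◁ pr).left.base w) = (fst G (X ⊗ X)).left.base w := fun w =>
      congrArg (fun φ : G ⊗ (X ⊗ X) ⟶ G => φ.left.base w) (whiskerLeft_fst G pr)
    have hs : ∀ w : (G ⊗ (X ⊗ X)).left,
        (snd G X).left.base ((G ◁ pr).left.base w) =
          pr.left.base ((snd G (X ⊗ X)).left.base w) := fun w =>
      congrArg (fun φ : G ⊗ (X ⊗ X) ⟶ X => φ.left.base w) (whiskerLeft_snd G pr)
    refine ⟨p', ⟨?_, hp'1⟩, ⟨p₁, ?_, hp₁⟩⟩
    · show (fst G (X ⊗ X)).left.base p' ∈ SGA3x.neutralSet G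
      rw [← hf, hp'2, fst_shear_apply]; exact hq1
    · show pr.left.base ((snd G (X ⊗ X)).left.base p₁) ∈ (U : Set X.left)
      rw [← hs, h3]; exact hq2
  have hirr := isPreirreducible_slice G (X ⊗ X) z
  have hop : ∀ pr : X ⊗ X ⟶ X, IsOpen ((shear (a.prod a)).left.base ''
      ((snd G (X ⊗ X)).left.base ⁻¹' (pr.left.base ⁻¹' (U : Set X.left)))) := fun pr =>
    (shear (a.prod a)).left.isOpenEmbedding.isOpenMap _
      ((U.2.preimage pr.left.continuous).preimage (snd G (X ⊗ X)).left.continuous)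
  obtain ⟨p', hp'F, ⟨p₁, hp₁U, hp₁⟩, ⟨p₂, hp₂U, hp₂⟩⟩ :=
    hirr _ _ (hop (fst X X)) (hop (snd X X)) (key (fst X X) (prod_act_fst a) h1)
      (key (snd X X) (prod_act_snd a) h2)
  have h12 : p₁ = p₂ := (shear (a.prod a)).left.isOpenEmbedding.injective (hp₁.trans hp₂.symm)
  subst h12
  refine ⟨p₁, ?_, hp₁U, hp₂U, ?_⟩
  · rw [← fst_shear_apply (a.prod a), hp₁]; exact hp'F.1
  · rw [← snd_shear_apply (a.prod a), hp₁]; exact hp'F.2

/-- points of `G⁰·U ×_S G⁰·U` off the diagonal have a neighbourhood missing the diagonal. -/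
theorem exists_open_nhd_disjoint_diag [LocallyOfFinitePresentation G.hom]
    (hUO : ∀ x ∈ SGA3x.neutralSet G, EGA43.IsUnivOpenAt G.hom x) (U : X.left.Opens)
    (C : Set (X ⊗ X).left) (hC : IsClosed C)
    (hCU : ∀ y : (X ⊗ X).left, (fst X X).left.base y ∈ U → (snd X X).left.base y ∈ U →
      y ∈ Set.range (lift (𝟙 X) (𝟙 X)).left.base → y ∈ C)
    (hCU' : ∀ y ∈ C, (fst X X).left.base y ∈ U → (snd X X).left.base y ∈ U →
      y ∈ Set.range (lift (𝟙 X) (𝟙 X)).left.base)
    (z : (X ⊗ X).left) (h1 : (fst X X).left.base z ∈ orbitSet a U)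
    (h2 : (snd X X).left.base z ∈ orbitSet a U)
    (hz : z ∉ Set.range (lift (𝟙 X) (𝟙 X)).left.base) :
    ∃ O : Set (X ⊗ X).left, IsOpen O ∧ z ∈ O ∧
      Disjoint O (Set.range (lift (𝟙 X) (𝟙 X)).left.base) := by
  obtain ⟨p, hpN, hpU1, hpU2, rfl⟩ := exists_of_mem_orbitSet a U z h1 h2
  have hyΔ : (snd G (X ⊗ X)).left.base p ∉ Set.range (lift (𝟙 X) (𝟙 X)).left.base :=
    fun h => hz ((diag_stable a p).mpr h)
  have hyC : (snd G (X ⊗ X)).left.base p ∉ C := fun h => hyΔ (hCU' _ h hpU1 hpU2)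
  let O' : Set (X ⊗ X).left :=
    ((fst X X).left.base ⁻¹' (U : Set X.left) ∩ (snd X X).left.base ⁻¹' (U : Set X.left)) ∩ Cᶜ
  have hO' : IsOpen O' :=
    ((U.2.preimage (fst X X).left.continuous).inter
      (U.2.preimage (snd X X).left.continuous)).inter hC.isOpen_compl
  have hO := isOpen_act_image hUO (a.prod a) ((snd G (X ⊗ X)).left.base ⁻¹' O')
    (hO'.preimage (snd G (X ⊗ X)).left.continuous)
  refine ⟨_, hO, ⟨p, ⟨hpN, ⟨⟨hpU1, hpU2⟩, hyC⟩⟩, rfl⟩, ?_⟩
  rw [Set.disjoint_left]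
  rintro _ ⟨p'', ⟨-, ⟨⟨hu1, hu2⟩, hnC⟩⟩, rfl⟩ hΔ
  exact hnC (hCU _ hu1 hu2 ((diag_stable a p'').mp hΔ))

end Act

/-! ### the main results -/

section Main

variable {S : Scheme.{u}} {G X : Over S} [GrpObj G]

theorem diag_left_eq : (lift (𝟙 X) (𝟙 X)).left = pullback.diagonal X.hom := by
  apply pullback.hom_ext
  · rw [pullback.diagonal_fst]
    exact congrArg (fun φ : X ⟶ X => φ.left) (lift_fst (𝟙 X) (𝟙 X))
  · rw [pullback.diagonal_snd]
    exact congrArg (fun φ : X ⟶ X => φ.left) (lift_snd (𝟙 X) (𝟙 X))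

/-- **core**: `G⁰·U` is open and separated over `S`. -/
theorem isSeparated_orbitSet [LocallyOfFinitePresentation G.hom]
    (hUO : ∀ x ∈ SGA3x.neutralSet G, EGA43.IsUnivOpenAt G.hom x) (a : AlgGrp.Action G X)
    (U : X.left.Opens) (hU : IsSeparated (U.ι ≫ X.hom)) (V : X.left.Opens)
    (hV : (V : Set X.left) = orbitSet a U) : IsSeparated (V.ι ≫ X.hom) := by
  obtain ⟨C, hC, hCU, hCU'⟩ := exists_closed_of_isSeparated X.hom U hU
  apply isSeparated_of_forall_nhd X.hom V
  intro z hz1 hz2 hzΔ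
  have hz1' : (fst X X).left.base z ∈ orbitSet a U := by rw [← hV]; exact hz1
  have hz2' : (snd X X).left.base z ∈ orbitSet a U := by rw [← hV]; exact hz2
  rw [← diag_left_eq] at hzΔ hCU hCU' ⊢
  exact exists_open_nhd_disjoint_diag a hUO U C hC hCU hCU' z hz1' hz2' hzΔ

theorem isUnivOpenAt_of_isLocallyConstant [LocallyOfFinitePresentation G.hom]
    (hdim : IsLocallyConstant (fun s : S => topologicalKrullDim ↥(G.hom.base ⁻¹' {s}))) :
    ∀ x ∈ SGA3x.neutralSet G, EGA43.IsUnivOpenAt G.hom x := by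
  intro x hx
  refine (GrpUO.s5330 G (G.hom.base x)).2.mpr ⟨_, hdim.eventually_eq (G.hom.base x), ?_⟩ x
    ⟨hx, rfl⟩
  intro t ht
  exact ht

theorem s5334 [LocallyOfFinitePresentation G.hom]
    (hdim : IsLocallyConstant (fun s : S => topologicalKrullDim ↥(G.hom.base ⁻¹' {s})))
    (a : AlgGrp.Action G X) (U : X.left.Opens) (hU : IsSeparated (U.ι ≫ X.hom)) :
    ∃ V : X.left.Opens, (V : Set X.left) =
        a.act.left.base '' {z : ↥(G ⊗ X).left | (fst G X).left.base z ∈ SGA3x.neutralSet G ∧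
          (snd G X).left.base z ∈ U} ∧
      IsSeparated (V.ι ≫ X.hom) := by
  have hUO := isUnivOpenAt_of_isLocallyConstant hdim
  refine ⟨⟨orbitSet a U, isOpen_orbitSet a hUO U⟩, rfl, ?_⟩
  exact isSeparated_orbitSet hUO a U hU _ rfl

theorem one_act_apply (a : AlgGrp.Action G X) (x : X.left) :
    a.act.left.base ((lift (toUnit X ≫ η[G]) (𝟙 X)).left.base x) = x := by
  have e : lift (toUnit X ≫ η[G]) (𝟙 X) ≫ a.act = 𝟙 X := by
    have h1 : lift (toUnit X ≫ η[G]) (𝟙 X) = lift (toUnit X) (𝟙 X) ≫ (η[G] ▷ X) := by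
      rw [lift_whiskerRight]
    rw [h1, Category.assoc, a.one_act, leftUnitor_hom, lift_snd]
  exact congrArg (fun φ : X ⟶ X => φ.left.base x) e

theorem subset_orbitSet (a : AlgGrp.Action G X) (U : X.left.Opens) :
    (U : Set X.left) ⊆ orbitSet a U := by
  intro x hx
  refine ⟨(lift (toUnit X ≫ η[G]) (𝟙 X)).left.base x, ⟨?_, ?_⟩, one_act_apply a x⟩
  · have e : (fst G X).left.base ((lift (toUnit X ≫ η[G]) (𝟙 X)).left.base x) =
        η[G].left.base ((toUnit X).left.base x) :=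
      congrArg (fun φ : X ⟶ G => φ.left.base x) (lift_fst (toUnit X ≫ η[G]) (𝟙 X))
    show (fst G X).left.base ((lift (toUnit X ≫ η[G]) (𝟙 X)).left.base x) ∈ SGA3x.neutralSet G
    rw [e]
    exact GrpNeutC.unitSec_mem G _
  · have e : (snd G X).left.base ((lift (toUnit X ≫ η[G]) (𝟙 X)).left.base x) = x :=
      congrArg (fun φ : X ⟶ X => φ.left.base x) (lift_snd (toUnit X ≫ η[G]) (𝟙 X))
    show (snd G X).left.base ((lift (toUnit X ≫ η[G]) (𝟙 X)).left.base x) ∈ U
    rw [e]; exact hx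

/-- SGA3 VI_B 5.? (S4100). -/
theorem s4100 [LocallyOfFinitePresentation G.hom] [UniversallyOpen G.hom]
    (hconn : ∀ s : S, _root_.IsConnected (G.hom.base ⁻¹' {s}))
    (a : AlgGrp.Action G X) (hΦ : Surjective (lift a.act (snd G X)).left) :
    IsSeparated X.hom := by
  have hUO : ∀ x ∈ SGA3x.neutralSet G, EGA43.IsUnivOpenAt G.hom x := fun x _ =>
    Groth.Agent.H3.UO4931.isUnivOpenAt_of_universallyOpen G.hom x
  have hN : SGA3x.neutralSet G = Set.univ := GrpNeutB.neutralSet_eq_univ G hconn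
  refine ⟨IsClosedImmersion.of_isPreimmersion _ ?_⟩
  show IsClosed (Set.range (pullback.diagonal X.hom).base)
  rw [← isOpen_compl_iff, isOpen_iff_forall_mem_open]
  intro z hz
  obtain ⟨U, hUaff, hxU, -⟩ := GrpICons.exists_affineOpen_between
    ((snd X X).left.base z) Set.univ isOpen_univ trivial
  haveI : IsAffine (U : Scheme.{u}) := hUaff
  have hU : IsSeparated (U.ι ≫ X.hom) := inferInstance
  have h2 : (snd X X).left.base z ∈ orbitSet a U := subset_orbitSet a U hxU
  have h1 : (fst X X).left.base z ∈ orbitSet a U := by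
    obtain ⟨q, hq⟩ := hΦ.surj z
    refine ⟨q, ⟨?_, ?_⟩, ?_⟩
    · rw [hN]; trivial
    · have e : (snd G X).left.base q =
          (snd X X).left.base ((lift a.act (snd G X)).left.base q) :=
        (congrArg (fun φ : G ⊗ X ⟶ X => φ.left.base q) (lift_snd a.act (snd G X))).symm
      show (snd G X).left.base q ∈ U
      rw [e, hq]; exact hxU
    · have e : a.act.left.base q =
          (fst X X).left.base ((lift a.act (snd G X)).left.base q) :=
        (congrArg (fun φ : G ⊗ X ⟶ X => φ.left.base q) (lift_fst a.act (snd G X))).symm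
      rw [e, hq]
  obtain ⟨C, hC, hCU, hCU'⟩ := exists_closed_of_isSeparated X.hom U hU
  rw [← diag_left_eq] at hz hCU hCU' ⊢
  obtain ⟨O, hO, hzO, hdisj⟩ :=
    exists_open_nhd_disjoint_diag a hUO U C hC hCU hCU' z h1 h2 hz
  exact ⟨O, fun w hw hwΔ => Set.disjoint_left.mp hdisj hw hwΔ, hO, hzO⟩

theorem surjective_regShear (G : Over S) [GrpObj G] :
    Surjective (lift (regAction G).act (snd G G)).left := by
  let θ : G ⊗ G ⟶ G ⊗ G := lift (fst G G * (snd G G)⁻¹) (snd G G)
  have hθ : θ ≫ lift (regAction G).act (snd G G) = 𝟙 _ := by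
    have h1 : θ ≫ μ[G] = fst G G := by
      show lift _ _ ≫ μ[G] = _
      rw [← Hom.mul_def, inv_mul_cancel_right]
    have h2 : θ ≫ snd G G = snd G G := lift_snd _ _
    show θ ≫ lift μ[G] (snd G G) = 𝟙 _
    rw [comp_lift, h1, h2, lift_fst_snd]
  exact ⟨fun w => ⟨θ.left.base w, congrArg (fun φ : G ⊗ G ⟶ G ⊗ G => φ.left.base w) hθ⟩⟩

/-- SGA3 VI_B 5.5 (S3025). -/
theorem s3025 (G : Over S) [GrpObj G] [LocallyOfFinitePresentation G.hom]
    [UniversallyOpen G.hom] (hconn : ∀ s : S, _root_.IsConnected (G.hom.base ⁻¹' {s})) :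
    IsSeparated G.hom ∧ QuasiCompact G.hom :=
  ⟨s4100 hconn (regAction G) (surjective_regShear G), GrpNeutB.s5324 G hconn⟩

theorem mem_orbitSet_regAction (G : Over S) [GrpObj G] (U : G.left.Opens) (x : G.left)
    (hx : x ∈ SGA3x.neutralSet G) (hU : η[G].left.base (G.hom.base x) ∈ U) :
    x ∈ orbitSet (regAction G) U := by
  refine ⟨GrpNeutC.pt1 G x, ⟨?_, ?_⟩, GrpNeutC.mul_pt1 G x⟩
  · show (fst G G).left.base (GrpNeutC.pt1 G x) ∈ SGA3x.neutralSet G
    rw [GrpNeutC.fst_pt1]; exact hx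
  · show (snd G G).left.base (GrpNeutC.pt1 G x) ∈ U
    rw [GrpNeutC.snd_pt1]; exact hU

/-- SGA3 VI_B 5.? (S4140). -/
theorem s4140 (G : Over S) [GrpObj G] [LocallyOfFinitePresentation G.hom]
    (hdim : IsLocallyConstant (fun s : S => topologicalKrullDim ↥(G.hom.base ⁻¹' {s})))
    (σ τ : 𝟙_ (Over S) ⟶ G) (hσ : Set.range σ.left.base ⊆ SGA3x.neutralSet G)
    (hτ : Set.range τ.left.base ⊆ SGA3x.neutralSet G) :
    IsClosedImmersion (pullback.fst (lift σ τ) (lift (𝟙 G) (𝟙 G))).left := by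
  have hUO := isUnivOpenAt_of_isLocallyConstant hdim
  have sq : IsPullback (pullback.fst (lift σ τ) (lift (𝟙 G) (𝟙 G))).left
      (pullback.snd (lift σ τ) (lift (𝟙 G) (𝟙 G))).left (lift σ τ).left
      (lift (𝟙 G) (𝟙 G)).left :=
    (IsPullback.of_hasPullback (lift σ τ) (lift (𝟙 G) (𝟙 G))).map (Over.forget S)
  haveI : IsPreimmersion (lift (𝟙 G) (𝟙 G)).left := by
    rw [diag_left_eq]; infer_instance
  haveI : IsPreimmersion (pullback.fst (lift σ τ) (lift (𝟙 G) (𝟙 G))).left :=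
    MorphismProperty.of_isPullback (P := @IsPreimmersion) sq.flip inferInstance
  refine IsClosedImmersion.of_isPreimmersion _ ?_
  show IsClosed (Set.range (pullback.fst (lift σ τ) (lift (𝟙 G) (𝟙 G))).left.base)
  rw [GrpSmN.range_of_isPullback sq, ← isOpen_compl_iff, isOpen_iff_forall_mem_open]
  intro s hs
  have hσs : G.hom.base (σ.left.base s) = s :=
    congrArg (fun φ : (𝟙_ (Over S)).left ⟶ S => φ.base s) (Over.w σ)
  have hτs : G.hom.base (τ.left.base s) = s :=
    congrArg (fun φ : (𝟙_ (Over S)).left ⟶ S => φ.base s) (Over.w τ)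
  obtain ⟨U, hUaff, hxU, -⟩ := GrpICons.exists_affineOpen_between
    (η[G].left.base s) Set.univ isOpen_univ trivial
  haveI : IsAffine (U : Scheme.{u}) := hUaff
  have hU : IsSeparated (U.ι ≫ G.hom) := inferInstance
  have e1 : (fst G G).left.base ((lift σ τ).left.base s) = σ.left.base s :=
    congrArg (fun φ : 𝟙_ (Over S) ⟶ G => φ.left.base s) (lift_fst σ τ)
  have e2 : (snd G G).left.base ((lift σ τ).left.base s) = τ.left.base s :=
    congrArg (fun φ : 𝟙_ (Over S) ⟶ G => φ.left.base s) (lift_snd σ τ)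
  have h1 : (fst G G).left.base ((lift σ τ).left.base s) ∈ orbitSet (regAction G) U := by
    rw [e1]
    exact mem_orbitSet_regAction G U _ (hσ ⟨s, rfl⟩) (by rw [hσs]; exact hxU)
  have h2 : (snd G G).left.base ((lift σ τ).left.base s) ∈ orbitSet (regAction G) U := by
    rw [e2]
    exact mem_orbitSet_regAction G U _ (hτ ⟨s, rfl⟩) (by rw [hτs]; exact hxU)
  obtain ⟨C, hC, hCU, hCU'⟩ := exists_closed_of_isSeparated G.hom U hU
  rw [← diag_left_eq] at hCU hCU'
  obtain ⟨O, hO, hzO, hdisj⟩ :=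
    exists_open_nhd_disjoint_diag (regAction G) hUO U C hC hCU hCU' _ h1 h2 hs
  exact ⟨(lift σ τ).left.base ⁻¹' O, fun w hw hwΔ => Set.disjoint_left.mp hdisj hw hwΔ,
    hO.preimage (lift σ τ).left.continuous, hzO⟩

end Main

end Groth.Agent.H1.GrpSep
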