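import Mathlib
import Groth.Agent.Lib.Helper1.GrpSep
import Groth.Agent.Lib.Helper1.GrpNeutD
import Groth.Agent.Lib.Helper5.AlgSp.KPoints
import Groth.Agent.Lib.Helper1.UO14C
import Groth.Agent.Lib.Helper1.GIrrO
import Groth.Agent.Lib.Helper1.SecComp

/-! Homogeneous spaces: `G⁰·U = X_s` for `U` fibrewise dense (SGA3 VI_B 5.x), and separatedness
(S5332) (helper1). -/

set_option autoImplicit false
set_option linter.style.haveILetI false
universe u

namespace Groth.Agent.H1.GrpSepB

open CategoryTheory CategoryTheory.Limits MonoidalCategory CartesianMonoidalCategory MonObj GrpObj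
  AlgebraicGeometry Groth.Agent.H9.FLH

/-! ### translations by `T`-points -/

section Tr

variable {S : Scheme.{u}} {G X T : Over S} [GrpObj G] (a : AlgGrp.Action G X)

/-- translation by a `T`-point of `G` on `X ×_S T`. -/
noncomputable def tr (c : T ⟶ G) : X ⊗ T ⟶ X ⊗ T :=
  lift (smul a (snd X T ≫ c) (fst X T)) (snd X T)

theorem tr_fst (c : T ⟶ G) : tr a c ≫ fst X T = smul a (snd X T ≫ c) (fst X T) := lift_fst _ _

theorem tr_snd (c : T ⟶ G) : tr a c ≫ snd X T = snd X T := lift_snd _ _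

theorem tr_tr (c d : T ⟶ G) : tr a c ≫ tr a d = tr a (d * c) := by
  apply CartesianMonoidalCategory.hom_ext
  · have h1 : (tr a c ≫ tr a d) ≫ fst X T =
        smul a (snd X T ≫ d) (smul a (snd X T ≫ c) (fst X T)) := by
      rw [Category.assoc, tr_fst a d, comp_smul, ← Category.assoc, tr_snd, tr_fst]
    rw [h1, tr_fst, ← H9.FLH.mul_smul, MonObj.comp_mul]
  · rw [Category.assoc, tr_snd, tr_snd, tr_snd]

theorem tr_one : tr a (1 : T ⟶ G) = 𝟙 _ := by
  apply CartesianMonoidalCategory.hom_ext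
  · rw [tr_fst, MonObj.comp_one, H9.FLH.one_smul, Category.id_comp]
  · rw [tr_snd, Category.id_comp]

theorem tr_inv_cancel (c : T ⟶ G) : tr a c ≫ tr a c⁻¹ = 𝟙 _ := by
  rw [tr_tr, inv_mul_cancel, tr_one]

theorem tr_cancel_inv (c : T ⟶ G) : tr a c⁻¹ ≫ tr a c = 𝟙 _ := by
  rw [tr_tr, mul_inv_cancel, tr_one]

instance isIso_tr_left (c : T ⟶ G) : IsIso (tr a c).left := by
  haveI : IsIso (tr a c) := ⟨tr a c⁻¹, tr_inv_cancel a c, tr_cancel_inv a c⟩
  exact inferInstanceAs (IsIso ((Over.forget _).map (tr a c)))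

/-- the orbit map of a `T`-point of `X`. -/
noncomputable def orb (xT : T ⟶ X) : G ⊗ T ⟶ X ⊗ T :=
  lift (smul a (fst G T) (snd G T ≫ xT)) (snd G T)

theorem orb_fst (xT : T ⟶ X) : orb a xT ≫ fst X T = smul a (fst G T) (snd G T ≫ xT) :=
  lift_fst _ _

theorem orb_snd (xT : T ⟶ X) : orb a xT ≫ snd X T = snd G T := lift_snd _ _

theorem smul_reg {T' : Over S} (g h : T' ⟶ G) : smul (regAction G) g h = g * h := by
  unfold smul
  rw [Hom.mul_def]
  rfl

theorem tr_orb (c : T ⟶ G) (xT : T ⟶ X) :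
    tr (regAction G) c ≫ orb a xT = orb a xT ≫ tr a c := by
  apply CartesianMonoidalCategory.hom_ext
  · have h1 : (tr (regAction G) c ≫ orb a xT) ≫ fst X T =
        smul a ((snd G T ≫ c) * fst G T) (snd G T ≫ xT) := by
      rw [Category.assoc, orb_fst, comp_smul, tr_fst, smul_reg, ← Category.assoc, tr_snd]
    have h2 : (orb a xT ≫ tr a c) ≫ fst X T =
        smul a (snd G T ≫ c) (smul a (fst G T) (snd G T ≫ xT)) := by
      rw [Category.assoc, tr_fst, comp_smul, ← Category.assoc, orb_snd, orb_fst]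
    rw [h1, h2, H9.FLH.mul_smul]
  · rw [Category.assoc, Category.assoc, orb_snd, tr_snd, tr_snd, orb_snd]

/-- `(g, t) ↦ (g⁻¹, g·x(t))`. -/
noncomputable def theta (xT : T ⟶ X) : G ⊗ T ⟶ G ⊗ X :=
  lift ((fst G T)⁻¹) (orb a xT ≫ fst X T)

theorem theta_act (xT : T ⟶ X) : theta a xT ≫ a.act = snd G T ≫ xT := by
  show smul a ((fst G T)⁻¹) (orb a xT ≫ fst X T) = _
  rw [orb_fst, ← H9.FLH.mul_smul, inv_mul_cancel, H9.FLH.one_smul]

theorem theta_fst (xT : T ⟶ X) : theta a xT ≫ fst G X = (fst G T)⁻¹ := lift_fst _ _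

theorem theta_snd (xT : T ⟶ X) : theta a xT ≫ snd G X = orb a xT ≫ fst X T := lift_snd _ _

theorem isPullback_orb (xT : T ⟶ X) :
    IsPullback (orb a xT) (G ◁ xT) (X ◁ xT) (lift a.act (snd G X)) := by
  have w : orb a xT ≫ (X ◁ xT) = (G ◁ xT) ≫ lift a.act (snd G X) := by
    apply CartesianMonoidalCategory.hom_ext
    · rw [Category.assoc, whiskerLeft_fst, orb_fst, Category.assoc, lift_fst]
      conv_rhs => rw [act_eq_smul a, comp_smul, whiskerLeft_fst, whiskerLeft_snd]
    · rw [Category.assoc, whiskerLeft_snd, ← Category.assoc, orb_snd, Category.assoc, lift_snd,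
        whiskerLeft_snd]
  refine ⟨⟨w⟩, ⟨PullbackCone.IsLimit.mk w
    (fun s => lift (s.snd ≫ fst G X) (s.fst ≫ snd X T)) ?_ ?_ ?_⟩⟩
  · intro s
    have hc1 : s.fst ≫ fst X T = s.snd ≫ a.act := by
      have := congrArg (fun φ => φ ≫ fst X X) s.condition
      simpa only [Category.assoc, whiskerLeft_fst, lift_fst] using this
    have hc2 : s.fst ≫ snd X T ≫ xT = s.snd ≫ snd G X := by
      have := congrArg (fun φ => φ ≫ snd X X) s.condition
      simpa only [Category.assoc, whiskerLeft_snd, lift_snd] using this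
    apply CartesianMonoidalCategory.hom_ext
    · rw [Category.assoc, orb_fst, comp_smul, lift_fst, ← Category.assoc, lift_snd,
        Category.assoc, hc2, ← comp_smul, ← act_eq_smul, hc1]
    · rw [Category.assoc, orb_snd, lift_snd]
  · intro s
    have hc2 : s.fst ≫ snd X T ≫ xT = s.snd ≫ snd G X := by
      have := congrArg (fun φ => φ ≫ snd X X) s.condition
      simpa only [Category.assoc, whiskerLeft_snd, lift_snd] using this
    apply CartesianMonoidalCategory.hom_ext
    · rw [Category.assoc, whiskerLeft_fst, lift_fst]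
    · rw [Category.assoc, whiskerLeft_snd, ← Category.assoc, lift_snd, Category.assoc, hc2]
  · intro s m hm1 hm2
    apply CartesianMonoidalCategory.hom_ext
    · rw [lift_fst, ← hm2, Category.assoc, whiskerLeft_fst]
    · rw [lift_snd, ← hm1, Category.assoc, orb_snd]

theorem surjective_orb (hΦ : Surjective (lift a.act (snd G X)).left) (xT : T ⟶ X) :
    Function.Surjective (orb a xT).left.base := by
  have sq := ((isPullback_orb a xT).map (Over.forget S)).flip
  have h : Surjective (orb a xT).left :=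
    MorphismProperty.of_isPullback (P := @Surjective) sq hΦ
  exact h.surj

end Tr


/-! ### a point lying in every dense open -/

section Generic

theorem exists_mem_all_dense_open (Y : Scheme.{u}) [IsLocallyNoetherian Y] [Nonempty Y] :
    ∃ ξ : Y, ∀ D : Set Y, IsOpen D → Dense D → ξ ∈ D := by
  obtain ⟨y₀⟩ := ‹Nonempty Y›
  obtain ⟨V, hVaff, hyV, -⟩ := GrpICons.exists_affineOpen_between y₀ Set.univ isOpen_univ trivial
  haveI : IsNoetherianRing Γ(Y, V) := IsLocallyNoetherian.component_noetherian ⟨V, hVaff⟩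
  haveI : TopologicalSpace.NoetherianSpace (V : Scheme.{u}) :=
    noetherianSpace_of_isAffineOpen V hVaff
  let v₀ : (V : Scheme.{u}) := ⟨y₀, hyV⟩
  obtain ⟨o, ho, hone, hoZ⟩ :=
    TopologicalSpace.NoetherianSpace.exists_isOpen_nonempty_subset_irreducibleComponent
      (irreducibleComponent v₀) (irreducibleComponent_mem_irreducibleComponents v₀)
  obtain ⟨ξ', hξ'⟩ := QuasiSober.sober (isIrreducible_irreducibleComponent (x := v₀))
    (isClosed_irreducibleComponent (x := v₀))
  refine ⟨V.ι.base ξ', fun D hD hDd => ?_⟩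
  have ho' : IsOpen (V.ι.base '' o) := V.ι.isOpenEmbedding.isOpenMap _ ho
  obtain ⟨_, ⟨w, hwo, rfl⟩, hwD⟩ := hDd.inter_open_nonempty _ ho' (hone.image _)
  exact (hξ'.mem_open_set_iff (hD.preimage V.ι.continuous)).mpr ⟨w, hoZ hwo, hwD⟩

end Generic

/-! ### rational translates of the neutral component over an algebraically closed field -/

section F1

variable {S : Scheme.{u}}

theorem exists_section_over {K : Type u} [Field K] [IsAlgClosed K]
    (t : Spec (CommRingCat.of K) ⟶ S) (Y : Over S) (g : Y ⟶ Over.mk t)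
    (hg : LocallyOfFiniteType g.left) (O : Y.left.Opens) (y : Y.left) (hy : y ∈ O) :
    ∃ σ : Over.mk t ⟶ Y, σ ≫ g = 𝟙 _ ∧ ∀ z, σ.left.base z ∈ O := by
  let f : (O : Scheme.{u}) ⟶ Spec (CommRingCat.of K) := O.ι ≫ g.left
  haveI : LocallyOfFiniteType f := by
    haveI := hg
    show LocallyOfFiniteType (O.ι ≫ g.left)
    infer_instance
  haveI : Nonempty (O : Scheme.{u}) := ⟨⟨y, hy⟩⟩
  obtain ⟨σ, hσ⟩ := Groth.Agent.H5.AlgSp.exists_section_of_nonempty f
  have hσ' : (σ ≫ O.ι) ≫ g.left = 𝟙 _ := by rw [Category.assoc]; exact hσ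
  refine ⟨Over.homMk (σ ≫ O.ι) ?_, ?_, fun z => ?_⟩
  · show (σ ≫ O.ι) ≫ Y.hom = t
    have e : Y.hom = g.left ≫ t := (Over.w g).symm
    rw [e, ← Category.assoc, hσ', Category.id_comp]
  · apply Over.OverMorphism.ext
    exact hσ'
  · exact (σ.base z).2

variable (G : Over S) [GrpObj G]

theorem one_tr {T : Over S} (c : T ⟶ G) :
    lift (1 : T ⟶ G) (𝟙 T) ≫ tr (regAction G) c = lift c (𝟙 T) := by
  apply CartesianMonoidalCategory.hom_ext
  · have h1 : (lift (1 : T ⟶ G) (𝟙 T) ≫ tr (regAction G) c) ≫ fst G T = c := by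
      rw [Category.assoc, tr_fst, comp_smul, lift_fst, ← Category.assoc, lift_snd,
        Category.id_comp, smul_reg, _root_.mul_one]
    rw [h1, lift_fst]
  · rw [Category.assoc, tr_snd, lift_snd, lift_snd]

theorem exists_tr_mem [LocallyOfFiniteType G.hom] {K : Type u} [Field K] [IsAlgClosed K]
    (t : Spec (CommRingCat.of K) ⟶ S) (p : (G ⊗ Over.mk t).left) :
    ∃ (c : Over.mk t ⟶ G) (n : (G ⊗ Over.mk t).left),
      (fst G (Over.mk t)).left.base n ∈ SGA3x.neutralSet G ∧
      (tr (regAction G) c).left.base n = p := by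
  haveI hlft : LocallyOfFiniteType (snd G (Over.mk t)).left := by
    show LocallyOfFiniteType (pullback.snd G.hom t)
    infer_instance
  haveI : IsLocallyNoetherian (G ⊗ Over.mk t).left :=
    LocallyOfFiniteType.isLocallyNoetherian (Y := Spec (CommRingCat.of K))
      (snd G (Over.mk t)).left
  haveI : LocallyConnectedSpace (G ⊗ Over.mk t).left :=
    Groth.Agent.H1.GIrr.locallyConnectedSpace_of_isLocallyNoetherian (G ⊗ Over.mk t).left
  have hopen : IsOpen (connectedComponent p) := isOpen_connectedComponent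
  obtain ⟨σ', hσ'snd, hσ'mem⟩ := exists_section_over t (G ⊗ Over.mk t) (snd G (Over.mk t)) hlft
    ⟨connectedComponent p, hopen⟩ p mem_connectedComponent
  let c : Over.mk t ⟶ G := σ' ≫ fst G (Over.mk t)
  have hσ' : σ' = lift c (𝟙 (Over.mk t)) := by
    apply CartesianMonoidalCategory.hom_ext
    · rw [lift_fst]
    · rw [lift_snd, hσ'snd]
  have key : lift (1 : Over.mk t ⟶ G) (𝟙 (Over.mk t)) ≫ tr (regAction G) c = σ' := by
    rw [hσ', one_tr]
  obtain ⟨t₀⟩ : Nonempty (Spec (CommRingCat.of K)) := inferInstanceAs (Nonempty (PrimeSpectrum K))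
  haveI : Subsingleton (Spec (CommRingCat.of K)) :=
    inferInstanceAs (Subsingleton (PrimeSpectrum K))
  let e' : Over.mk t ⟶ G ⊗ Over.mk t := lift (1 : Over.mk t ⟶ G) (𝟙 (Over.mk t))
  let e₀ : (G ⊗ Over.mk t).left := e'.left.base t₀
  let c₀ : (G ⊗ Over.mk t).left := σ'.left.base t₀
  have hkey : (tr (regAction G) c).left.base e₀ = c₀ :=
    congrArg (fun φ : Over.mk t ⟶ G ⊗ Over.mk t => φ.left.base t₀) key
  have hc₀ : c₀ ∈ connectedComponent p := hσ'mem t₀
  have hp : p ∈ connectedComponent c₀ := by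
    rw [← connectedComponent_eq hc₀]; exact mem_connectedComponent
  let h := (tr (regAction G) c).left.homeomorph
  have himg : h '' connectedComponent e₀ = connectedComponent (h e₀) :=
    Groth.Agent.H1.SecComp.homeomorph_image_connectedComponent h e₀
  have hhe : h e₀ = c₀ := hkey
  rw [hhe] at himg
  rw [← himg] at hp
  obtain ⟨n, hn, hnp⟩ := hp
  refine ⟨c, n, ?_, hnp⟩
  -- identify the connected component of the unit with the neutral set
  have e1 : e'.left ≫ pullback.fst G.hom t = t ≫ η[G].left := by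
    have h : e' ≫ fst G (Over.mk t) = toUnit (Over.mk t) ≫ η[G] :=
      (lift_fst _ _).trans Hom.one_def
    exact congrArg (fun φ : Over.mk t ⟶ G => φ.left) h
  have e2 : e'.left ≫ pullback.snd G.hom t = 𝟙 _ :=
    congrArg (fun φ : Over.mk t ⟶ Over.mk t => φ.left) (lift_snd (1 : Over.mk t ⟶ G) (𝟙 _))
  have e : (η[Red.bc t G].left : Spec (CommRingCat.of K) ⟶ pullback G.hom t) = e'.left := by
    apply pullback.hom_ext
    · exact (GrpNeut.bc_one_fst G t).trans e1.symm
    · exact (GrpFib.unitSec_comp (Red.bc t G)).trans e2.symm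
  have he₀ : (GrpFib.unitSec (Red.bc t G)).base t₀ = e₀ :=
    congrArg (fun φ : Spec (CommRingCat.of K) ⟶ pullback G.hom t => φ.base t₀) e
  have hN := GrpNeutD.neutralSet_eq_connectedComponent (Red.bc t G) t₀
  have hn' : n ∈ SGA3x.neutralSet (Red.bc t G) := by
    rw [hN, he₀]; exact hn
  rw [GrpNeut.s5322 G t] at hn'
  exact hn'

end F1

/-! ### the fibre over a geometric point -/

section Fibre

variable {S : Scheme.{u}} (X : Over S)

theorem exists_isPullback_fibre (s : S) {Z : Scheme.{u}} (t' : Z ⟶ Spec (S.residueField s)) :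
    ∃ h : pullback X.hom (t' ≫ S.fromSpecResidueField s) ⟶ X.hom.fiber s,
      h ≫ X.hom.fiberι s = pullback.fst X.hom (t' ≫ S.fromSpecResidueField s) ∧
      IsPullback h (pullback.snd X.hom (t' ≫ S.fromSpecResidueField s))
        (X.hom.fiberToSpecResidueField s) t' := by
  let r := S.fromSpecResidueField s
  let h : pullback X.hom (t' ≫ r) ⟶ X.hom.fiber s :=
    pullback.lift (pullback.fst X.hom (t' ≫ r)) (pullback.snd X.hom (t' ≫ r) ≫ t')
      (by rw [Category.assoc]; exact pullback.condition)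
  have h_fst : h ≫ X.hom.fiberι s = pullback.fst X.hom (t' ≫ r) := pullback.lift_fst _ _ _
  have h_snd : h ≫ X.hom.fiberToSpecResidueField s = pullback.snd X.hom (t' ≫ r) ≫ t' :=
    pullback.lift_snd _ _ _
  refine ⟨h, h_fst, ?_⟩
  refine IsPullback.of_right (h₁₂ := X.hom.fiberι s) (v₁₃ := X.hom) (h₂₂ := r) ?_ h_snd
    (IsPullback.of_hasPullback X.hom r)
  rw [h_fst]
  exact IsPullback.of_hasPullback X.hom (t' ≫ r)

theorem lft_snd (s : S) (hft : LocallyOfFiniteType (X.hom.fiberToSpecResidueField s))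
    {Z : Scheme.{u}} (t' : Z ⟶ Spec (S.residueField s)) :
    LocallyOfFiniteType (pullback.snd X.hom (t' ≫ S.fromSpecResidueField s)) := by
  obtain ⟨h, -, sq⟩ := exists_isPullback_fibre X s t'
  exact MorphismProperty.of_isPullback (P := @LocallyOfFiniteType) sq hft

theorem dense_preimage (s : S) {Z : Scheme.{u}} (t' : Z ⟶ Spec (S.residueField s))
    (U : X.left.Opens)
    (hU : X.hom.base ⁻¹' {s} ⊆ closure ((U : Set X.left) ∩ X.hom.base ⁻¹' {s})) :
    Dense ((pullback.fst X.hom (t' ≫ S.fromSpecResidueField s)).base ⁻¹' (U : Set X.left)) := by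
  obtain ⟨h, h_fst, sq⟩ := exists_isPullback_fibre X s t'
  haveI : Subsingleton (Spec (S.residueField s)) :=
    inferInstanceAs (Subsingleton (PrimeSpectrum (S.residueField s)))
  haveI : UniversallyOpen t' := inferInstance
  haveI : UniversallyOpen h :=
    MorphismProperty.of_isPullback (P := @UniversallyOpen) sq.flip inferInstance
  have hrange : Set.range (X.hom.fiberι s).base = X.hom.base ⁻¹' {s} :=
    Scheme.Hom.range_fiberι X.hom s
  have hfst : ∀ w, (pullback.fst X.hom (t' ≫ S.fromSpecResidueField s)).base w =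
      (X.hom.fiberι s).base (h.base w) := fun w => by
    rw [← h_fst]; rfl
  rw [dense_iff_inter_open]
  rintro O hO ⟨w, hwO⟩
  have hOimg : IsOpen (h.base '' O) := h.isOpenMap _ hO
  obtain ⟨O', hO', hO'eq⟩ := (X.hom.fiberι s).isEmbedding.isInducing.isOpen_iff.mp hOimg
  have hy : (pullback.fst X.hom (t' ≫ S.fromSpecResidueField s)).base w ∈
      X.hom.base ⁻¹' {s} := by
    rw [hfst, ← hrange]; exact ⟨_, rfl⟩
  have hyO' : (pullback.fst X.hom (t' ≫ S.fromSpecResidueField s)).base w ∈ O' := by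
    rw [hfst]
    show h.base w ∈ (X.hom.fiberι s).base ⁻¹' O'
    rw [hO'eq]; exact ⟨w, hwO, rfl⟩
  obtain ⟨u, huO', huU, hus⟩ := mem_closure_iff.mp (hU hy) O' hO' hyO'
  have hur : u ∈ Set.range (X.hom.fiberι s).base := by rw [hrange]; exact hus
  obtain ⟨u', rfl⟩ := hur
  have hu' : u' ∈ h.base '' O := by rw [← hO'eq]; exact huO'
  obtain ⟨w', hw'O, rfl⟩ := hu'
  refine ⟨w', hw'O, ?_⟩
  show (pullback.fst X.hom (t' ≫ S.fromSpecResidueField s)).base w' ∈ (U : Set X.left)
  rw [hfst]; exact huU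

end Fibre

/-! ### `G⁰·U ⊇ X_s` -/

section Main

variable {S : Scheme.{u}} {G X : Over S} [GrpObj G]

theorem exists_neutral_orb_mem [LocallyOfFinitePresentation G.hom] (a : AlgGrp.Action G X)
    (hΦ : Surjective (lift a.act (snd G X)).left)
    {K : Type u} [Field K] [IsAlgClosed K] (t : Spec (CommRingCat.of K) ⟶ S)
    (hlft : LocallyOfFiniteType (pullback.snd X.hom t))
    (U : X.left.Opens) (hUd : Dense ((pullback.fst X.hom t).base ⁻¹' (U : Set X.left)))
    (xT : Over.mk t ⟶ X) :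
    ∃ n : (G ⊗ Over.mk t).left,
      (fst G (Over.mk t)).left.base n ∈ SGA3x.neutralSet G ∧
      (fst X (Over.mk t)).left.base ((orb a xT).left.base n) ∈ U := by
  haveI : IsLocallyNoetherian (X ⊗ Over.mk t).left :=
    LocallyOfFiniteType.isLocallyNoetherian (Y := Spec (CommRingCat.of K)) (pullback.snd X.hom t)
  obtain ⟨t₀⟩ : Nonempty (Spec (CommRingCat.of K)) := inferInstanceAs (Nonempty (PrimeSpectrum K))
  haveI : Nonempty (X ⊗ Over.mk t).left := ⟨(lift xT (𝟙 (Over.mk t))).left.base t₀⟩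
  obtain ⟨ξ, hξ⟩ := exists_mem_all_dense_open (X ⊗ Over.mk t).left
  obtain ⟨p, hp⟩ := surjective_orb a hΦ xT ξ
  obtain ⟨c, n, hn, hnp⟩ := exists_tr_mem G t p
  refine ⟨n, hn, ?_⟩
  let hh := (tr a c).left.homeomorph
  have hξ' : hh ((orb a xT).left.base n) = ξ := by
    show (tr a c).left.base ((orb a xT).left.base n) = ξ
    rw [← hp, ← hnp]
    exact (congrArg (fun φ : G ⊗ Over.mk t ⟶ X ⊗ Over.mk t => φ.left.base n)
      (tr_orb a c xT)).symm
  have hUT : IsOpen ((fst X (Over.mk t)).left.base ⁻¹' (U : Set X.left)) :=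
    U.2.preimage (fst X (Over.mk t)).left.continuous
  have hUTd : Dense ((fst X (Over.mk t)).left.base ⁻¹' (U : Set X.left)) := hUd
  have hD1 : IsOpen (hh '' ((fst X (Over.mk t)).left.base ⁻¹' (U : Set X.left))) :=
    hh.isOpenMap _ hUT
  have hD2 : Dense (hh '' ((fst X (Over.mk t)).left.base ⁻¹' (U : Set X.left))) :=
    hh.surjective.denseRange.dense_image hh.continuous hUTd
  obtain ⟨u, hu, huξ⟩ := hξ _ hD1 hD2
  have hun : u = (orb a xT).left.base n := hh.injective (huξ.trans hξ'.symm)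
  rw [← hun]; exact hu

theorem mem_orbitSet_of_field [LocallyOfFinitePresentation G.hom] (a : AlgGrp.Action G X)
    (hΦ : Surjective (lift a.act (snd G X)).left) (x : X.left)
    (hft : LocallyOfFiniteType (X.hom.fiberToSpecResidueField (X.hom.base x)))
    (U : X.left.Opens)
    (hU : X.hom.base ⁻¹' {X.hom.base x} ⊆
      closure ((U : Set X.left) ∩ X.hom.base ⁻¹' {X.hom.base x}))
    (K : Type u) [Field K] [IsAlgClosed K] (ψ : X.left.residueField x ⟶ CommRingCat.of K) :
    x ∈ GrpSep.orbitSet a U := by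
  let t' : Spec (CommRingCat.of K) ⟶ Spec (S.residueField (X.hom.base x)) :=
    Spec.map ψ ≫ Spec.map (X.hom.residueFieldMap x)
  let φT : Spec (CommRingCat.of K) ⟶ X.left := Spec.map ψ ≫ X.left.fromSpecResidueField x
  have hφ : φT ≫ X.hom = t' ≫ S.fromSpecResidueField (X.hom.base x) := by
    show (Spec.map ψ ≫ X.left.fromSpecResidueField x) ≫ X.hom =
      (Spec.map ψ ≫ Spec.map (X.hom.residueFieldMap x)) ≫ S.fromSpecResidueField (X.hom.base x)
    rw [Category.assoc, Category.assoc, Scheme.Hom.SpecMap_residueFieldMap_fromSpecResidueField]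
  let xT : Over.mk (t' ≫ S.fromSpecResidueField (X.hom.base x)) ⟶ X := Over.homMk φT hφ
  obtain ⟨n, hn1, hn2⟩ := exists_neutral_orb_mem a hΦ (t' ≫ S.fromSpecResidueField (X.hom.base x))
    (lft_snd X _ hft t') U (dense_preimage X _ t' U hU) xT
  refine ⟨(theta a xT).left.base n, ⟨?_, ?_⟩, ?_⟩
  · have e : (fst G X).left.base ((theta a xT).left.base n) =
        ι[G].left.base ((fst G (Over.mk (t' ≫ S.fromSpecResidueField (X.hom.base x)))).left.base n) := by
      have h := theta_fst a xT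
      rw [Hom.inv_def] at h
      exact congrArg (fun φ : G ⊗ Over.mk (t' ≫ S.fromSpecResidueField (X.hom.base x)) ⟶ G =>
        φ.left.base n) h
    show (fst G X).left.base ((theta a xT).left.base n) ∈ SGA3x.neutralSet G
    rw [e]; exact GrpNeutC.inv_mem G _ hn1
  · have e : (snd G X).left.base ((theta a xT).left.base n) =
        (fst X (Over.mk (t' ≫ S.fromSpecResidueField (X.hom.base x)))).left.base
          ((orb a xT).left.base n) :=
      congrArg (fun φ : G ⊗ Over.mk (t' ≫ S.fromSpecResidueField (X.hom.base x)) ⟶ X =>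
        φ.left.base n) (theta_snd a xT)
    show (snd G X).left.base ((theta a xT).left.base n) ∈ (U : Set X.left)
    rw [e]; exact hn2
  · have e : a.act.left.base ((theta a xT).left.base n) =
        xT.left.base ((snd G (Over.mk (t' ≫ S.fromSpecResidueField (X.hom.base x)))).left.base n) :=
      congrArg (fun φ : G ⊗ Over.mk (t' ≫ S.fromSpecResidueField (X.hom.base x)) ⟶ X =>
        φ.left.base n) (theta_act a xT)
    rw [e]
    exact Scheme.fromSpecResidueField_apply x _

theorem fibre_subset_orbitSet [LocallyOfFinitePresentation G.hom] (a : AlgGrp.Action G X)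
    (hΦ : Surjective (lift a.act (snd G X)).left) (s : S)
    (hft : LocallyOfFiniteType (X.hom.fiberToSpecResidueField s)) (U : X.left.Opens)
    (hU : X.hom.base ⁻¹' {s} ⊆ closure ((U : Set X.left) ∩ X.hom.base ⁻¹' {s})) :
    X.hom.base ⁻¹' {s} ⊆ GrpSep.orbitSet a U := by
  intro x hx
  have hx' : X.hom.base x = s := hx
  subst hx'
  exact mem_orbitSet_of_field a hΦ x hft U hU (AlgebraicClosure (X.left.residueField x))
    (CommRingCat.ofHom (algebraMap (X.left.residueField x)
      (AlgebraicClosure (X.left.residueField x))))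

theorem isUnivOpenAt_of_open [LocallyOfFinitePresentation G.hom]
    (hGo : ∃ W : G.left.Opens, (∀ p : ↥(𝟙_ (Over S)).left, η[G].left.base p ∈ W) ∧
      UniversallyOpen (W.ι ≫ G.hom)) :
    ∀ x ∈ SGA3x.neutralSet G, EGA43.IsUnivOpenAt G.hom x := by
  obtain ⟨W, hW1, hW2⟩ := hGo
  intro x hx
  refine (GrpUO.s5330 G (G.hom.base x)).1.mpr ⟨W, fun p _ => hW1 p, fun y _ hyW => ?_⟩ x ⟨hx, rfl⟩
  exact Groth.Agent.H1.UO14.isUnivOpenAt_of_comp W.ι G.hom ⟨y, hyW⟩
    (Groth.Agent.H3.UO4931.isUnivOpenAt_of_universallyOpen (W.ι ≫ G.hom) _)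

/-- SGA3 VI_B 5.? (S5332). -/
theorem s5332 [LocallyOfFinitePresentation G.hom]
    (hGo : ∃ W : G.left.Opens, (∀ p : ↥(𝟙_ (Over S)).left, η[G].left.base p ∈ W) ∧
      UniversallyOpen (W.ι ≫ G.hom))
    (a : AlgGrp.Action G X) (hΦ : Surjective (lift a.act (snd G X)).left)
    (hft : ∀ s : S, LocallyOfFiniteType (X.hom.fiberToSpecResidueField s))
    (hU : ∀ s : S, ∃ U : X.left.Opens, IsSeparated (U.ι ≫ X.hom) ∧
      X.hom.base ⁻¹' {s} ⊆ closure ((U : Set X.left) ∩ X.hom.base ⁻¹' {s})) :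
    IsSeparated X.hom := by
  have hUO := isUnivOpenAt_of_open hGo
  refine ⟨IsClosedImmersion.of_isPreimmersion _ ?_⟩
  show IsClosed (Set.range (pullback.diagonal X.hom).base)
  rw [← isOpen_compl_iff, isOpen_iff_forall_mem_open]
  intro z hz
  obtain ⟨U, hUsep, hUd⟩ := hU (X.hom.base ((snd X X).left.base z))
  have hfib := fibre_subset_orbitSet a hΦ _ (hft _) U hUd
  have h2 : (snd X X).left.base z ∈ GrpSep.orbitSet a U := hfib rfl
  have h1 : (fst X X).left.base z ∈ GrpSep.orbitSet a U := by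
    apply hfib
    have e1 : (fst X X).left ≫ X.hom = (snd X X).left ≫ X.hom := by rw [Over.w, Over.w]
    exact congrArg (fun φ : (X ⊗ X).left ⟶ S => φ.base z) e1
  obtain ⟨C, hC, hCU, hCU'⟩ := GrpSep.exists_closed_of_isSeparated X.hom U hUsep
  rw [← GrpSep.diag_left_eq] at hz hCU hCU' ⊢
  obtain ⟨O, hO, hzO, hdisj⟩ :=
    GrpSep.exists_open_nhd_disjoint_diag a hUO U C hC hCU hCU' z h1 h2 hz
  exact ⟨O, fun w hw hwΔ => Set.disjoint_left.mp hdisj hw hwΔ, hO, hzO⟩

end Main

end Groth.Agent.H1.GrpSepB
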