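import Mathlib
import Groth.Agent.Lib.Helper1.ProjMap
import Groth.Prelude.Def_GrQuot

open AlgebraicGeometry DirectSum CategoryTheory Limits HomogeneousLocalization

namespace Groth.Agent.H1.ProjIdeal

universe u

variable {R A : Type u} [CommRing R] [CommRing A] [Algebra R A] (𝒜 : ℕ → Submodule R A)
  [GradedAlgebra 𝒜]

section AwayArith

variable {𝒜}
variable {f : A} {d : ℕ} (hf : f ∈ 𝒜 d)

lemma mk_add (n : ℕ) {x y : A} (hx : x ∈ 𝒜 (n • d)) (hy : y ∈ 𝒜 (n • d)) :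
    Away.mk 𝒜 hf n (x + y) (add_mem hx hy) = Away.mk 𝒜 hf n x hx + Away.mk 𝒜 hf n y hy := by
  ext
  simp [Localization.add_mk_self]

lemma mk_zero (n : ℕ) : Away.mk 𝒜 hf n 0 (zero_mem _) = 0 := by
  ext
  simp [Localization.mk_zero]

lemma mk_mul (n m : ℕ) {x y : A} (hx : x ∈ 𝒜 (n • d)) (hy : y ∈ 𝒜 (m • d)) :
    Away.mk 𝒜 hf n x hx * Away.mk 𝒜 hf m y hy =
      Away.mk 𝒜 hf (n + m) (x * y) (by rw [add_smul]; exact SetLike.mul_mem_graded hx hy) := by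
  ext
  simp only [val_mul, Away.val_mk, Localization.mk_mul]
  congr 1
  ext
  simp [pow_add]

lemma mk_congr {n m : ℕ} (h : n = m) {x y : A} (hxy : x = y) (hx : x ∈ 𝒜 (n • d))
    (hy : y ∈ 𝒜 (m • d)) : Away.mk 𝒜 hf n x hx = Away.mk 𝒜 hf m y hy := by
  subst h; subst hxy; rfl

/-- cancel a power of `f` -/
lemma mk_pow_mul (N n : ℕ) {x : A} (hx : x ∈ 𝒜 (n • d))
    (hx' : f ^ N * x ∈ 𝒜 ((N + n) • d)) :
    Away.mk 𝒜 hf (N + n) (f ^ N * x) hx' = Away.mk 𝒜 hf n x hx := by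
  ext
  simp only [Away.val_mk]
  rw [Localization.mk_eq_mk_iff, Localization.r_iff_exists]
  exact ⟨1, by simp [pow_add]; ring⟩

end AwayArith


section Num

variable {𝒜}
variable {f : A} (hf : f ∈ 𝒜 1)

lemma mem_smul_one {x : A} {d : ℕ} (hx : x ∈ 𝒜 d) : x ∈ 𝒜 (d • 1) := by
  rwa [smul_eq_mul, mul_one]

/-- `a ↦ a_d / f ^ d` -/
noncomputable def num (d : ℕ) : A →+ Away 𝒜 f where
  toFun a := Away.mk 𝒜 hf d (decompose 𝒜 a d) (mem_smul_one (decompose 𝒜 a d).2)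
  map_zero' := by
    rw [← mk_zero hf d]
    exact mk_congr hf rfl (by simp) _ _
  map_add' a b := by
    rw [← mk_add]
    exact mk_congr hf rfl (by simp) _ _

lemma num_apply (d : ℕ) (a : A) :
    num hf d a = Away.mk 𝒜 hf d (decompose 𝒜 a d) (mem_smul_one (decompose 𝒜 a d).2) := rfl

lemma num_of_mem {d : ℕ} {a : A} (ha : a ∈ 𝒜 d) :
    num hf d a = Away.mk 𝒜 hf d a (mem_smul_one ha) := by
  rw [num_apply]
  exact mk_congr hf rfl (by rw [decompose_of_mem_same 𝒜 ha]) _ _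

lemma num_of_mem_ne {d e : ℕ} {a : A} (ha : a ∈ 𝒜 e) (h : e ≠ d) : num hf d a = 0 := by
  rw [num_apply, ← mk_zero hf d]
  exact mk_congr hf rfl (by rw [decompose_of_mem_ne 𝒜 ha h]) _ _

lemma num_mul_of_mem_of_le {d e : ℕ} {c : A} (hc : c ∈ 𝒜 e) (a : A) (h : e ≤ d) :
    num hf d (c * a) = num hf e c * num hf (d - e) a := by
  rw [num_of_mem hf hc, num_apply, num_apply, mk_mul]
  refine mk_congr hf (by omega) ?_ _ _
  rw [DirectSum.coe_decompose_mul_of_left_mem_of_le 𝒜 hc h]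

lemma num_mul_of_mem_of_not_le {d e : ℕ} {c : A} (hc : c ∈ 𝒜 e) (a : A) (h : ¬ e ≤ d) :
    num hf d (c * a) = 0 := by
  rw [num_apply, ← mk_zero hf d]
  refine mk_congr hf rfl ?_ _ _
  rw [DirectSum.coe_decompose_mul_of_left_mem_of_not_le 𝒜 hc h]

lemma exists_num_eq (x : Away 𝒜 f) : ∃ (n : ℕ) (a : A), a ∈ 𝒜 n ∧ num hf n a = x := by
  obtain ⟨n, a, ha, rfl⟩ := Away.mk_surjective 𝒜 hf x
  have ha' : a ∈ 𝒜 n := by rwa [smul_eq_mul, mul_one] at ha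
  exact ⟨n, a, ha', num_of_mem hf ha'⟩

/-- `f ^ N * a / f ^ (N + n) = a / f ^ n` -/
lemma num_pow_mul (N : ℕ) {n : ℕ} {a : A} (ha : a ∈ 𝒜 n) :
    num hf (N + n) (f ^ N * a) = num hf n a := by
  have h1 : f ^ N * a ∈ 𝒜 (N + n) := by
    have := SetLike.mul_mem_graded (SetLike.pow_mem_graded N hf) ha
    rwa [smul_eq_mul, mul_one] at this
  rw [num_of_mem hf h1, num_of_mem hf ha]
  exact mk_pow_mul hf N n _ _

end Num


section Loc

variable {𝒜}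

/-- the map `A_(g) → A_(fg)` -/
noncomputable abbrev mapR {f : A} (hf : f ∈ 𝒜 1) (g : A) : Away 𝒜 g →+* Away 𝒜 (f * g) :=
  awayMap 𝒜 hf (mul_comm f g)

/-- the map `A_(f) → A_(fg)` -/
noncomputable abbrev mapL (f : A) {g : A} (hg : g ∈ 𝒜 1) : Away 𝒜 f →+* Away 𝒜 (f * g) :=
  awayMap 𝒜 hg rfl

variable {f g : A} (hf : f ∈ 𝒜 1) (hg : g ∈ 𝒜 1)

lemma mapR_num_eq {n : ℕ} {a : A} (ha : a ∈ 𝒜 n) :
    mapR hf g (num hg n a) = mapL f hg (num hf n a) *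
      Away.mk 𝒜 (SetLike.mul_mem_graded hf hg) n (f ^ (2 * n))
        (by
          have := SetLike.pow_mem_graded (2 * n) hf
          rw [smul_eq_mul, mul_one] at this
          rwa [smul_eq_mul, mul_comm]) := by
  rw [num_of_mem hg ha, num_of_mem hf ha, mapR, mapL, awayMap_mk, awayMap_mk]
  ext
  simp only [val_mul, Away.val_mk, Localization.mk_mul]
  rw [Localization.mk_eq_mk_iff, Localization.r_iff_exists]
  refine ⟨1, ?_⟩
  simp only [OneMemClass.coe_one, one_mul, Submonoid.coe_mul]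
  ring

lemma pow_mul_num {n : ℕ} {a : A} (ha : a ∈ 𝒜 n) (N : ℕ) :
    (Away.isLocalizationElem hg hf) ^ N * num hg n a = num hg (N + n) (f ^ N * a) := by
  have h1 : f ^ N * a ∈ 𝒜 (N + n) := by
    have := SetLike.mul_mem_graded (SetLike.pow_mem_graded N hf) ha
    rwa [smul_eq_mul, mul_one] at this
  rw [num_of_mem hg ha, num_of_mem hg h1]
  ext
  simp only [val_mul, val_pow, Away.val_mk, Localization.mk_pow, Localization.mk_mul]
  rw [Localization.mk_eq_mk_iff, Localization.r_iff_exists]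
  refine ⟨1, ?_⟩
  simp only [OneMemClass.coe_one, one_mul, Submonoid.coe_mul, SubmonoidClass.coe_pow]
  ring

lemma exists_pow_mul_mem (J : Ideal (Away 𝒜 g)) (y : Away 𝒜 g)
    (h : mapR hf g y ∈ J.map (mapR hf g)) :
    ∃ N : ℕ, (Away.isLocalizationElem hg hf) ^ N * y ∈ J := by
  letI := (awayMap 𝒜 hf (mul_comm f g)).toAlgebra
  haveI : IsLocalization.Away (Away.isLocalizationElem hg hf) (Away 𝒜 (f * g)) :=
    Away.isLocalization_mul hg hf (mul_comm f g) one_ne_zero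
  have h' : algebraMap (Away 𝒜 g) (Away 𝒜 (f * g)) y ∈
      J.map (algebraMap (Away 𝒜 g) (Away 𝒜 (f * g))) := h
  rw [IsLocalization.algebraMap_mem_map_algebraMap_iff
    (Submonoid.powers (Away.isLocalizationElem hg hf))] at h'
  obtain ⟨m, ⟨N, rfl⟩, hm⟩ := h'
  exact ⟨N, hm⟩

lemma transfer (Jf : Ideal (Away 𝒜 f)) (Jg : Ideal (Away 𝒜 g))
    (h : Jf.map (mapL f hg) = Jg.map (mapR hf g)) {n : ℕ} {a : A} (ha : a ∈ 𝒜 n)
    (hmem : num hf n a ∈ Jf) : ∃ N : ℕ, num hg (N + n) (f ^ N * a) ∈ Jg := by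
  have h1 : mapR hf g (num hg n a) ∈ Jg.map (mapR hf g) := by
    rw [mapR_num_eq hf hg ha, ← h]
    exact Ideal.mul_mem_right _ _ (Ideal.mem_map_of_mem _ hmem)
  obtain ⟨N, hN⟩ := exists_pow_mul_mem hf hg Jg _ h1
  exact ⟨N, by rwa [pow_mul_num hf hg ha] at hN⟩

end Loc


section Sheaf

lemma comap_map_of_comm {R₁ R₂ S₁ S₂ : Type*} [CommRing R₁] [CommRing R₂] [CommRing S₁]
    [CommRing S₂] (θ₁ : R₁ →+* S₁) (θ₂ : R₂ →+* S₂) (hθ₁ : Function.Bijective θ₁)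
    (hθ₂ : Function.Bijective θ₂) (α : R₁ →+* R₂) (ρ : S₁ →+* S₂)
    (h : θ₂.comp α = ρ.comp θ₁) (M : Ideal S₁) :
    (M.map ρ).comap θ₂ = (M.comap θ₁).map α := by
  apply le_antisymm
  · intro x hx
    rw [Ideal.mem_comap] at hx
    -- θ₂ x ∈ M.map ρ
    let e₁ := RingEquiv.ofBijective θ₁ hθ₁
    let e₂ := RingEquiv.ofBijective θ₂ hθ₂
    have h1 : M.map ρ = ((M.comap θ₁).map α).map θ₂ := by
      rw [Ideal.map_map, h, ← Ideal.map_map, Ideal.map_comap_of_surjective θ₁ hθ₁.2]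
    rw [h1] at hx
    have h2 := Ideal.mem_map_of_mem (e₂.symm : S₂ →+* R₂) hx
    rw [Ideal.map_map] at h2
    have h3 : ((e₂.symm : S₂ →+* R₂).comp θ₂) = RingHom.id _ := by
      ext y; exact e₂.symm_apply_apply y
    rw [h3, Ideal.map_id] at h2
    have h4 : (e₂.symm : S₂ →+* R₂) (θ₂ x) = x := e₂.symm_apply_apply x
    rwa [h4] at h2
  · rw [Ideal.map_le_iff_le_comap]
    intro x hx
    rw [Ideal.mem_comap] at hx
    rw [Ideal.mem_comap, Ideal.mem_comap]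
    have : θ₂ (α x) = ρ (θ₁ x) := RingHom.congr_fun h x
    rw [this]
    exact Ideal.mem_map_of_mem ρ hx

variable (K : (Proj 𝒜).IdealSheafData)

/-- the affine open `D₊(f)` -/
abbrev affD {f : A} {m : ℕ} (hf : f ∈ 𝒜 m) (hm : 0 < m) : (Proj 𝒜).affineOpens :=
  ⟨Proj.basicOpen 𝒜 f, Proj.isAffineOpen_basicOpen 𝒜 f hf hm⟩

/-- the ideal of `A_(f)` cut out by an ideal sheaf on `Proj` -/
def Jf {f : A} {m : ℕ} (hf : f ∈ 𝒜 m) (hm : 0 < m) : Ideal (Away 𝒜 f) :=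
  (K.ideal (affD 𝒜 hf hm)).comap (Proj.awayToSection 𝒜 f).hom

lemma awayToSection_bijective {f : A} {m : ℕ} (hf : f ∈ 𝒜 m) (hm : 0 < m) :
    Function.Bijective (Proj.awayToSection 𝒜 f).hom :=
  ConcreteCategory.bijective_of_isIso (Proj.basicOpenIsoAway 𝒜 f hf hm).hom

lemma Jf_mul' {f g x : A} {m m' k : ℕ} (hf : f ∈ 𝒜 m) (hm : 0 < m) (hg : g ∈ 𝒜 m')
    (hx : x = f * g) (hxd : x ∈ 𝒜 k) (hk : 0 < k) :
    Jf 𝒜 K hxd hk = (Jf 𝒜 K hf hm).map (awayMap 𝒜 hg hx) := by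
  subst hx
  show Jf 𝒜 K (SetLike.mul_mem_graded hf hg) (Nat.add_pos_left hm m') = _
  have hle : affD 𝒜 (SetLike.mul_mem_graded hf hg) (Nat.add_pos_left hm m') ≤ affD 𝒜 hf hm :=
    Proj.basicOpen_mono 𝒜 f (f * g) ⟨g, rfl⟩
  have h1 := K.map_ideal hle
  rw [Jf, ← h1]
  refine comap_map_of_comm _ _ (awayToSection_bijective 𝒜 hf hm)
    (awayToSection_bijective 𝒜 (SetLike.mul_mem_graded hf hg) (Nat.add_pos_left hm m')) _ _ ?_ _
  have := Proj.awayMap_awayToSection 𝒜 (f := f) hg (x := f * g) rfl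
  exact congrArg CommRingCat.Hom.hom this


/-- two ideal sheaves on `Proj` agreeing on the charts `D₊(f)`, `f ∈ s`, are equal -/
lemma ext_of_Jf_eq (K₁ K₂ : (Proj 𝒜).IdealSheafData) (s : Finset A) (hs1 : ∀ f ∈ s, f ∈ 𝒜 1)
    (hs : (HomogeneousIdeal.irrelevant 𝒜).toIdeal ≤ Ideal.span (s : Set A))
    (h : ∀ f (hf : f ∈ s), Jf 𝒜 K₁ (hs1 f hf) one_pos = Jf 𝒜 K₂ (hs1 f hf) one_pos) :
    K₁ = K₂ := by
  refine Scheme.IdealSheafData.ext_of_iSup_eq_top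
    (fun f : s => affD 𝒜 (hs1 f.1 f.2) one_pos) ?_ ?_
  · refine Proj.iSup_basicOpen_eq_top 𝒜 (fun f : s => f.1) ?_
    simpa using hs
  · intro f
    have := h f.1 f.2
    exact Ideal.comap_injective_of_surjective _ (awayToSection_bijective 𝒜 (hs1 f.1 f.2) one_pos).2
      this

variable {B : Type u} [CommRing B] [Algebra R B] (ℬ : ℕ → Submodule R B) [GradedAlgebra ℬ]
  (φ : 𝒜 →+*ᵍ ℬ) (hφ : HomogeneousIdeal.irrelevant ℬ ≤ (HomogeneousIdeal.irrelevant 𝒜).map φ)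

lemma Jf_ker_map [QuasiCompact (Proj.map φ hφ)] {f : A} {m : ℕ} (hf : f ∈ 𝒜 m) (hm : 0 < m) :
    Jf 𝒜 (Proj.map φ hφ).ker hf hm = RingHom.ker (Away.map φ f) := by
  ext x
  change (Proj.awayToSection 𝒜 f).hom x ∈ (Proj.map φ hφ).ker.ideal (affD 𝒜 hf hm) ↔ _
  rw [Scheme.Hom.ker_apply]
  have h1 := Proj.awayToSection_comp_appLE φ hφ hf
  have h2 : ((Proj.map φ hφ).app (Proj.basicOpen 𝒜 f)).hom ((Proj.awayToSection 𝒜 f).hom x) =
      (Proj.awayToSection ℬ (φ f)).hom (Away.map φ f x) := by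
    rw [Scheme.Hom.app_eq_appLE]
    exact congrArg (fun k => k.hom x) h1
  show ((Proj.map φ hφ).app (Proj.basicOpen 𝒜 f)).hom ((Proj.awayToSection 𝒜 f).hom x) = 0 ↔
    Away.map φ f x = 0
  rw [h2]
  exact map_eq_zero_iff _ (awayToSection_bijective ℬ (φ.2 hf) hm).1

end Sheaf

section Sat

variable (K : (Proj 𝒜).IdealSheafData) (s : Finset A) (hs1 : ∀ f ∈ s, f ∈ 𝒜 1)

/-- the (saturated) homogeneous ideal of `A` defined by an ideal sheaf on `Proj` -/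
def Isat : Ideal A where
  carrier := {a | ∀ (d : ℕ) (f : A) (hf : f ∈ s), num (hs1 f hf) d a ∈ Jf 𝒜 K (hs1 f hf) one_pos}
  add_mem' ha hb d f hf := by rw [map_add]; exact add_mem (ha d f hf) (hb d f hf)
  zero_mem' d f hf := by rw [map_zero]; exact zero_mem _
  smul_mem' c a ha := by
    rw [smul_eq_mul]
    induction c using DirectSum.Decomposition.inductionOn 𝒜 with
    | zero => intro d f hf; rw [zero_mul, map_zero]; exact zero_mem _
    | homogeneous c =>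
      rename_i e
      intro d f hf
      by_cases h : e ≤ d
      · rw [num_mul_of_mem_of_le (hs1 f hf) c.2 a h]
        exact Ideal.mul_mem_left _ _ (ha _ f hf)
      · rw [num_mul_of_mem_of_not_le (hs1 f hf) c.2 a h]
        exact zero_mem _
    | add c c' hc hc' =>
      intro d f hf
      rw [add_mul, map_add]
      exact add_mem (hc d f hf) (hc' d f hf)

lemma mem_Isat_iff (a : A) : a ∈ Isat 𝒜 K s hs1 ↔
    ∀ (d : ℕ) (f : A) (hf : f ∈ s), num (hs1 f hf) d a ∈ Jf 𝒜 K (hs1 f hf) one_pos := Iff.rfl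

lemma mem_Isat_of_mem {n : ℕ} {a : A} (ha : a ∈ 𝒜 n)
    (h : ∀ (f : A) (hf : f ∈ s), num (hs1 f hf) n a ∈ Jf 𝒜 K (hs1 f hf) one_pos) :
    a ∈ Isat 𝒜 K s hs1 := by
  intro d f hf
  by_cases hd : n = d
  · subst hd; exact h f hf
  · rw [num_of_mem_ne (hs1 f hf) ha hd]; exact zero_mem _

instance isHomog_Isat : GrQuot.IsHomog 𝒜 (Isat 𝒜 K s hs1) where
  mem_of_mem i a ha := by
    refine mem_Isat_of_mem 𝒜 K s hs1 (decompose 𝒜 a i).2 fun f hf => ?_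
    have := ha i f hf
    rw [num_apply] at this
    rw [num_of_mem (hs1 f hf) (decompose 𝒜 a i).2]
    exact this

/-- the graded quotient map -/
def φq : 𝒜 →+*ᵍ GrQuot.quot 𝒜 (Isat 𝒜 K s hs1) :=
  ⟨Ideal.Quotient.mk _, fun hx => GrQuot.mk_mem_quot 𝒜 _ hx⟩

lemma φq_apply (a : A) : φq 𝒜 K s hs1 a = Ideal.Quotient.mk _ a := rfl

lemma φq_surjective : Function.Surjective (φq 𝒜 K s hs1) := Ideal.Quotient.mk_surjective

lemma hφq : HomogeneousIdeal.irrelevant (GrQuot.quot 𝒜 (Isat 𝒜 K s hs1)) ≤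
    (HomogeneousIdeal.irrelevant 𝒜).map (φq 𝒜 K s hs1) := by
  rw [HomogeneousIdeal.irrelevant_le]
  intro i hi y hy
  obtain ⟨a, ha, rfl⟩ := (GrQuot.mem_quot_iff 𝒜 _ i y).mp hy
  exact Ideal.mem_map_of_mem _ (HomogeneousIdeal.mem_irrelevant_of_mem 𝒜 hi ha)


lemma Jf_map_eq {f g : A} (hf : f ∈ 𝒜 1) (hg : g ∈ 𝒜 1) :
    (Jf 𝒜 K hf one_pos).map (mapL f hg) = (Jf 𝒜 K hg one_pos).map (mapR hf g) := by
  have hfg : f * g ∈ 𝒜 (1 + 1) := SetLike.mul_mem_graded hf hg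
  rw [mapL, mapR, ← Jf_mul' 𝒜 K hf one_pos hg rfl hfg (by norm_num),
    ← Jf_mul' 𝒜 K hg one_pos hf (mul_comm f g) hfg (by norm_num)]

theorem ker_awayMap_φq {f : A} (hf : f ∈ s) :
    RingHom.ker (Away.map (φq 𝒜 K s hs1) f) = Jf 𝒜 K (hs1 f hf) one_pos := by
  classical
  have hf1 := hs1 f hf
  ext x
  obtain ⟨n, a, ha, rfl⟩ := exists_num_eq hf1 x
  have hmap : Away.map (φq 𝒜 K s hs1) f (num hf1 n a) =
      Away.mk _ ((φq 𝒜 K s hs1).2 hf1) n ((φq 𝒜 K s hs1).toRingHom a)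
        (mem_smul_one ((φq 𝒜 K s hs1).2 ha)) := by
    rw [num_of_mem hf1 ha, Away.map_mk]
    exact mk_congr _ rfl rfl _ _
  rw [RingHom.mem_ker, hmap]
  constructor
  · intro h0
    have hval := congrArg HomogeneousLocalization.val h0
    rw [Away.val_mk, HomogeneousLocalization.val_zero, Localization.mk_eq_mk',
      IsLocalization.mk'_eq_zero_iff] at hval
    obtain ⟨⟨c, N, rfl⟩, hc⟩ := hval
    have h1 : f ^ N * a ∈ Isat 𝒜 K s hs1 := by
      rw [← Ideal.Quotient.eq_zero_iff_mem, map_mul, map_pow]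
      exact hc
    have h2 := h1 (N + n) f hf
    rwa [num_pow_mul hf1 N ha] at h2
  · intro hx
    have htr : ∀ g (hg : g ∈ s), ∃ N : ℕ,
        num (hs1 g hg) (N + n) (f ^ N * a) ∈ Jf 𝒜 K (hs1 g hg) one_pos := fun g hg =>
      transfer hf1 (hs1 g hg) _ _ (Jf_map_eq 𝒜 K hf1 (hs1 g hg)) ha hx
    choose! N hN using htr
    let M := s.sup N
    have hfM : ∀ k : ℕ, f ^ k ∈ 𝒜 k := fun k => by
      have := SetLike.pow_mem_graded k hf1
      rwa [smul_eq_mul, mul_one] at this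
    have hb : ∀ k : ℕ, f ^ k * a ∈ 𝒜 (k + n) := fun k => SetLike.mul_mem_graded (hfM k) ha
    have h1 : f ^ M * a ∈ Isat 𝒜 K s hs1 := by
      refine mem_Isat_of_mem 𝒜 K s hs1 (hb M) fun g hg => ?_
      have hle : N g ≤ M := Finset.le_sup hg
      have e1 : f ^ M * a = f ^ (M - N g) * (f ^ N g * a) := by
        rw [← mul_assoc, ← pow_add, Nat.sub_add_cancel hle]
      rw [e1, num_mul_of_mem_of_le (hs1 g hg) (hfM (M - N g)) _ (by omega)]
      have e2 : M + n - (M - N g) = N g + n := by omega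
      rw [e2]
      exact Ideal.mul_mem_left _ _ (hN g hg)
    have h2 : ((φq 𝒜 K s hs1).toRingHom f) ^ M * (φq 𝒜 K s hs1).toRingHom a = 0 := by
      rw [← map_pow, ← map_mul]
      exact Ideal.Quotient.eq_zero_iff_mem.mpr h1
    rw [← mk_pow_mul ((φq 𝒜 K s hs1).2 hf1) M n (mem_smul_one ((φq 𝒜 K s hs1).2 ha))
      (by rw [h2]; exact zero_mem _), ← mk_zero ((φq 𝒜 K s hs1).2 hf1) (M + n)]
    exact mk_congr _ rfl h2 _ _


theorem ker_map_φq (hs : (HomogeneousIdeal.irrelevant 𝒜).toIdeal = Ideal.span (s : Set A))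
    [QuasiCompact (Proj.map (φq 𝒜 K s hs1) (hφq 𝒜 K s hs1))] :
    (Proj.map (φq 𝒜 K s hs1) (hφq 𝒜 K s hs1)).ker = K := by
  refine ext_of_Jf_eq 𝒜 _ _ s hs1 hs.le fun f hf => ?_
  rw [Jf_ker_map, ker_awayMap_φq 𝒜 K s hs1 hf]

end Sat

/-- A closed subscheme of `Proj 𝒜` (irrelevant ideal generated by finitely many elements of degree
one) is `Proj` of a graded quotient. -/
theorem exists_iso_proj_quotient (s : Finset A) (hs1 : ∀ f ∈ s, f ∈ 𝒜 1)
    (hs : (HomogeneousIdeal.irrelevant 𝒜).toIdeal = Ideal.span (s : Set A))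
    {Z : Scheme.{u}} (i : Z ⟶ Proj 𝒜) [IsClosedImmersion i] :
    ∃ e : Z ≅ Proj (GrQuot.quot 𝒜 (Isat 𝒜 i.ker s hs1)),
      e.hom ≫ Proj.map (φq 𝒜 i.ker s hs1) (hφq 𝒜 i.ker s hs1) = i := by
  haveI : IsClosedImmersion (Proj.map (φq 𝒜 i.ker s hs1) (hφq 𝒜 i.ker s hs1)) :=
    PM.isClosedImmersion_map_of_surjective 𝒜 _ _ _ (φq_surjective 𝒜 i.ker s hs1)
  have hker := ker_map_φq 𝒜 i.ker s hs1 hs
  haveI := IsClosedImmersion.isIso_lift (Proj.map (φq 𝒜 i.ker s hs1) (hφq 𝒜 i.ker s hs1)) i hker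
  exact ⟨asIso (IsClosedImmersion.lift (Proj.map (φq 𝒜 i.ker s hs1) (hφq 𝒜 i.ker s hs1)) i
    hker.le), IsClosedImmersion.lift_fac _ _ _⟩

end Groth.Agent.H1.ProjIdeal
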