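import Mathlib
import Groth.Prelude.Def_ProEtW

/-! Helper1: closed subspaces of spectral / w-local spaces. -/

open Topology

namespace Groth.Agent.H1

theorem quasiSeparatedSpace_of_isClosed {X : Type*} [TopologicalSpace X] [PrespectralSpace X]
    [QuasiSeparatedSpace X] (Y : Set X) (hY : IsClosed Y) : QuasiSeparatedSpace ↥Y := by
  have hemb : IsClosedEmbedding ((↑) : Y → X) := hY.isClosedEmbedding_subtypeVal
  have key : ∀ U : Set Y, IsOpen U → IsCompact U →
      ∃ U' : Set X, IsOpen U' ∧ IsCompact U' ∧ U = (↑) ⁻¹' U' := by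
    intro U hUo hUc
    obtain ⟨W, hWo, rfl⟩ := isOpen_induced_iff.mp hUo
    obtain ⟨W', hW'c, hW'o, hKW', hW'W⟩ :=
      PrespectralSpace.exists_isCompact_and_isOpen_between
        (hUc.image continuous_subtype_val) hWo (by rintro _ ⟨y, hy, rfl⟩; exact hy)
    refine ⟨W', hW'o, hW'c, ?_⟩
    ext y
    constructor
    · intro hy
      exact hKW' ⟨y, hy, rfl⟩
    · intro hy
      exact hW'W hy
  rw [quasiSeparatedSpace_iff]
  intro U V hUo hUc hVo hVc
  obtain ⟨U', hU'o, hU'c, rfl⟩ := key U hUo hUc
  obtain ⟨V', hV'o, hV'c, rfl⟩ := key V hVo hVc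
  rw [← Set.preimage_inter]
  exact hemb.isCompact_preimage
    (QuasiSeparatedSpace.inter_isCompact U' V' hU'o hU'c hV'o hV'c)

theorem spectralSpace_of_isClosed {X : Type*} [TopologicalSpace X] [SpectralSpace X]
    (Y : Set X) (hY : IsClosed Y) : SpectralSpace ↥Y := by
  have hemb : IsClosedEmbedding ((↑) : Y → X) := hY.isClosedEmbedding_subtypeVal
  exact
    { toT0Space := hemb.isEmbedding.t0Space
      toCompactSpace := isCompact_iff_compactSpace.mp hY.isCompact
      toQuasiSober := hemb.quasiSober
      toQuasiSeparatedSpace := quasiSeparatedSpace_of_isClosed Y hY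
      toPrespectralSpace := PrespectralSpace.of_isClosedEmbedding _ hemb }

theorem isClosed_singleton_subtype_iff {X : Type*} [TopologicalSpace X] (Y : Set X)
    (hY : IsClosed Y) (y : Y) : IsClosed ({y} : Set Y) ↔ IsClosed ({(y : X)} : Set X) := by
  have hemb : IsClosedEmbedding ((↑) : Y → X) := hY.isClosedEmbedding_subtypeVal
  constructor
  · intro h
    have := hemb.isClosedMap _ h
    simpa using this
  · intro h
    have := h.preimage continuous_subtype_val (f := ((↑) : Y → X))
    convert this using 1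
    ext z
    simp [Subtype.ext_iff]

theorem isWLocal_of_isClosed (X : Type*) [TopologicalSpace X] (hX : ProEtW.IsWLocal X)
    (Y : Set X) (hY : IsClosed Y) : ProEtW.IsWLocal ↥Y := by
  obtain ⟨hS, hC, hU⟩ := hX
  refine ⟨spectralSpace_of_isClosed Y hY, ?_, ?_⟩
  · have : {y : Y | IsClosed ({y} : Set Y)} = (↑) ⁻¹' {x : X | IsClosed ({x} : Set X)} := by
      ext y
      exact isClosed_singleton_subtype_iff Y hY y
    rw [this]
    exact hC.preimage continuous_subtype_val
  · intro y
    obtain ⟨c, ⟨hc1, hc2⟩, hcu⟩ := hU (y : X)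
    have hcY : c ∈ Y := by
      have : c ∈ closure ({(y : X)} : Set X) := specializes_iff_mem_closure.mp hc2
      exact (closure_minimal (Set.singleton_subset_iff.mpr y.2) hY) this
    refine ⟨⟨c, hcY⟩, ⟨(isClosed_singleton_subtype_iff Y hY _).mpr hc1,
      (subtype_specializes_iff _ _).mpr hc2⟩, ?_⟩
    rintro ⟨c', hc'Y⟩ ⟨h1, h2⟩
    apply Subtype.ext
    exact hcu c' ⟨(isClosed_singleton_subtype_iff Y hY _).mp h1, (subtype_specializes_iff _ _).mp h2⟩

theorem compactSpace_constructibleTopology (X : Type*) [TopologicalSpace X] [CompactSpace X]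
    [QuasiSober X] [PrespectralSpace X] [QuasiSeparatedSpace X] :
    @CompactSpace X (constructibleTopology X) := by
  have h : CompactSpace (WithConstructibleTopology X) := inferInstance
  exact @Function.Surjective.compactSpace (WithConstructibleTopology X) X _ (constructibleTopology X)
    WithTopology.ofTopology (WithTopology.continuous_ofTopology _) h
    (WithTopology.ofTopology_surjective _)

/-- A spectral (in fact prespectral, quasi-sober, qcqs) T1 space is Hausdorff. -/
theorem t2Space_of_t1Space_of_spectral (X : Type*) [TopologicalSpace X] [CompactSpace X]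
    [QuasiSober X] [PrespectralSpace X] [QuasiSeparatedSpace X] [T1Space X] : T2Space X := by
  classical
  refine ⟨fun x y hxy => ?_⟩
  have hc := compactSpace_constructibleTopology X
  let ι := {U : Set X // IsOpen U ∧ IsCompact U ∧ (x ∈ U ∨ y ∈ U)}
  have hclosed : ∀ i : ι, IsClosed[constructibleTopology X] i.1 := by
    intro i
    rw [← @isOpen_compl_iff _ _ (constructibleTopology X)]
    apply IsCompact.isOpen_constructibleTopology_of_isClosed
    · rw [compl_compl]; exact i.2.2.1
    · exact i.2.1.isClosed_compl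
  have hbasis := PrespectralSpace.isTopologicalBasis (X := X)
  have hempty : (Set.univ ∩ ⋂ i : ι, i.1) = ∅ := by
    rw [Set.univ_inter, Set.eq_empty_iff_forall_notMem]
    intro z hz
    rw [Set.mem_iInter] at hz
    have hzx : z = x := by
      by_contra hne
      have hopen : IsOpen ({z}ᶜ : Set X) := isOpen_compl_singleton
      have hx : x ∈ ({z}ᶜ : Set X) := by
        simp only [Set.mem_compl_iff, Set.mem_singleton_iff]; exact fun h => hne h.symm
      obtain ⟨U, ⟨hUo, hUc⟩, hxU, hUz⟩ := hbasis.exists_subset_of_mem_open hx hopen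
      have := hz ⟨U, hUo, hUc, Or.inl hxU⟩
      exact hUz this rfl
    have hzy : z = y := by
      by_contra hne
      have hopen : IsOpen ({z}ᶜ : Set X) := isOpen_compl_singleton
      have hy : y ∈ ({z}ᶜ : Set X) := by
        simp only [Set.mem_compl_iff, Set.mem_singleton_iff]; exact fun h => hne h.symm
      obtain ⟨U, ⟨hUo, hUc⟩, hyU, hUz⟩ := hbasis.exists_subset_of_mem_open hy hopen
      have := hz ⟨U, hUo, hUc, Or.inr hyU⟩
      exact hUz this rfl
    exact hxy (hzx.symm.trans hzy)
  obtain ⟨u, hu⟩ := @IsCompact.elim_finite_subfamily_closed X (constructibleTopology X) Set.univ ι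
    (@isCompact_univ X (constructibleTopology X) hc) (fun i => i.1) hclosed hempty
  rw [Set.univ_inter] at hu
  refine ⟨⋂ i ∈ u.filter (fun i : ι => x ∈ i.1), (fun i : ι => i.1) i,
    ⋂ i ∈ u.filter (fun i : ι => x ∉ i.1), (fun i : ι => i.1) i, ?_, ?_, ?_, ?_, ?_⟩
  · exact isOpen_biInter_finset fun i _ => i.2.1
  · exact isOpen_biInter_finset fun i _ => i.2.1
  · simp only [Set.mem_iInter, Finset.mem_filter]
    exact fun i hi => hi.2
  · simp only [Set.mem_iInter, Finset.mem_filter]
    rintro i ⟨_, hxi⟩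
    exact i.2.2.2.resolve_left hxi
  · rw [Set.disjoint_iff_inter_eq_empty, Set.eq_empty_iff_forall_notMem]
    rintro z ⟨hz1, hz2⟩
    have : z ∈ ⋂ i ∈ u, (fun i : ι => i.1) i := by
      simp only [Set.mem_iInter, Finset.mem_filter] at hz1 hz2 ⊢
      intro i hi
      by_cases hxi : x ∈ i.1
      · exact hz1 i ⟨hi, hxi⟩
      · exact hz2 i ⟨hi, hxi⟩
    rw [hu] at this
    exact this





theorem isProfinite_primeSpectrum_of_forall_isMaximal (B : Type*) [CommRing B]
    (h : ∀ q : PrimeSpectrum B, q.asIdeal.IsMaximal) :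
    CompactSpace (PrimeSpectrum B) ∧ T2Space (PrimeSpectrum B) ∧
      TotallyDisconnectedSpace (PrimeSpectrum B) := by
  have hT1 : T1Space (PrimeSpectrum B) :=
    ⟨fun q => (PrimeSpectrum.isClosed_singleton_iff_isMaximal q).mpr (h q)⟩
  have hT2 : T2Space (PrimeSpectrum B) := t2Space_of_t1Space_of_spectral _
  exact ⟨inferInstance, hT2, inferInstance⟩

theorem isMaximal_of_t1Space_primeSpectrum (A : Type*) [CommRing A] [T1Space (PrimeSpectrum A)]
    (p : Ideal A) [hp : p.IsPrime] : p.IsMaximal :=
  (PrimeSpectrum.isClosed_singleton_iff_isMaximal ⟨p, hp⟩).mp (T1Space.t1 _)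


end Groth.Agent.H1
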