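import Mathlib
import Groth.Agent.Lib.Helper1.Spectral
import Groth.Agent.Lib.Helper6.SpecLim

set_option autoImplicit false
universe u
open Topology

namespace Groth.Agent.H1.Spec2

variable {X : Type*} [TopologicalSpace X]

/-- Stacks 04PL: in a quasi-compact prespectral quasi-separated space, the connected component of a
point is the intersection of the clopen sets containing it. -/
theorem connectedComponent_eq_iInter_isClopen [CompactSpace X] [PrespectralSpace X]
    [QuasiSeparatedSpace X] (x : X) :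
    connectedComponent x = ⋂ s : { s : Set X // IsClopen s ∧ x ∈ s }, (s : Set X) := by
  apply Set.Subset.antisymm connectedComponent_subset_iInter_isClopen
  set S : Set X := ⋂ s : { s : Set X // IsClopen s ∧ x ∈ s }, (s : Set X) with hS
  have hSclosed : IsClosed S := isClosed_iInter fun s => s.2.1.isClosed
  have hxS : x ∈ S := Set.mem_iInter.2 fun s => s.2.2
  refine IsPreconnected.subset_connectedComponent ?_ hxS
  rw [isPreconnected_iff_subset_of_fully_disjoint_closed hSclosed]
  intro u v hu hv hSuv huv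
  -- compact opens separating
  obtain ⟨U, hUc, hUo, huU, hUv⟩ := PrespectralSpace.exists_isCompact_and_isOpen_between
    hu.isCompact hv.isOpen_compl (fun z hz hz' => Set.disjoint_left.mp huv hz hz')
  obtain ⟨V, hVc, hVo, hvV, hVu⟩ := PrespectralSpace.exists_isCompact_and_isOpen_between
    hv.isCompact hu.isOpen_compl (fun z hz hz' => Set.disjoint_left.mp huv hz' hz)
  -- the key: a clopen Z ∋ x with Z ⊆ U ∪ V, Z ∩ U ∩ V = ∅
  have key : ∀ K : Set X, IsCompact K → K ∩ S = ∅ →
      ∃ Z : Set X, IsClopen Z ∧ x ∈ Z ∧ K ∩ Z = ∅ := by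
    intro K hK hKS
    obtain ⟨t, ht⟩ := hK.elim_finite_subfamily_closed
      (fun s : { s : Set X // IsClopen s ∧ x ∈ s } => (s : Set X))
      (fun s => s.2.1.isClosed) hKS
    refine ⟨⋂ i ∈ t, (i : Set X), isClopen_biInter_finset fun i _ => i.2.1, ?_, ht⟩
    exact Set.mem_iInter₂.2 fun i _ => i.2.2
  obtain ⟨Z₁, hZ₁, hxZ₁, hKZ₁⟩ := key (U ∩ V)
    (QuasiSeparatedSpace.inter_isCompact U V hUo hUc hVo hVc) (by
      rw [Set.eq_empty_iff_forall_notMem]
      rintro z ⟨⟨hzU, hzV⟩, hzS⟩
      rcases hSuv hzS with h | h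
      · exact hVu hzV h
      · exact hUv hzU h)
  obtain ⟨Z₂, hZ₂, hxZ₂, hKZ₂⟩ := key (U ∪ V)ᶜ (hUo.union hVo).isClosed_compl.isCompact (by
      rw [Set.eq_empty_iff_forall_notMem]
      rintro z ⟨hz, hzS⟩
      rcases hSuv hzS with h | h
      · exact hz (Or.inl (huU h))
      · exact hz (Or.inr (hvV h)))
  set Z := Z₁ ∩ Z₂ with hZ
  have hZc : IsClopen Z := hZ₁.inter hZ₂
  have hxZ : x ∈ Z := ⟨hxZ₁, hxZ₂⟩
  have hZUV : Z ⊆ U ∪ V := by
    intro z hz
    by_contra hzn
    have : z ∈ (U ∪ V)ᶜ ∩ Z₂ := ⟨hzn, hz.2⟩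
    rw [hKZ₂] at this
    exact this
  have hZdisj : ∀ z ∈ Z, z ∈ U → z ∈ V → False := by
    intro z hz hzU hzV
    have : z ∈ (U ∩ V) ∩ Z₁ := ⟨⟨hzU, hzV⟩, hz.1⟩
    rw [hKZ₁] at this
    exact this
  have hZU : IsClopen (Z ∩ U) := by
    refine ⟨?_, hZc.isOpen.inter hUo⟩
    have : Z ∩ U = Z ∩ Vᶜ := by
      ext z
      constructor
      · rintro ⟨hz, hzU⟩; exact ⟨hz, fun hzV => hZdisj z hz hzU hzV⟩
      · rintro ⟨hz, hzV⟩
        rcases hZUV hz with h | h
        · exact ⟨hz, h⟩
        · exact (hzV h).elim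
    rw [this]
    exact hZc.isClosed.inter hVo.isClosed_compl
  have hZV : IsClopen (Z ∩ V) := by
    refine ⟨?_, hZc.isOpen.inter hVo⟩
    have : Z ∩ V = Z ∩ Uᶜ := by
      ext z
      constructor
      · rintro ⟨hz, hzV⟩; exact ⟨hz, fun hzU => hZdisj z hz hzU hzV⟩
      · rintro ⟨hz, hzU⟩
        rcases hZUV hz with h | h
        · exact (hzU h).elim
        · exact ⟨hz, h⟩
    rw [this]
    exact hZc.isClosed.inter hUo.isClosed_compl
  rcases hZUV hxZ with hxU | hxV
  · left
    intro z hz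
    have hzZU : z ∈ Z ∩ U := Set.mem_iInter.1 hz ⟨Z ∩ U, hZU, hxZ, hxU⟩
    rcases hSuv hz with h | h
    · exact h
    · exact (hUv hzZU.2 h).elim
  · right
    intro z hz
    have hzZV : z ∈ Z ∩ V := Set.mem_iInter.1 hz ⟨Z ∩ V, hZV, hxZ, hxV⟩
    rcases hSuv hz with h | h
    · exact (hVu hzZV.2 h).elim
    · exact h

/-- A point outside the connected component of `x` is separated from `x` by a clopen set. -/
theorem exists_isClopen_of_notMem_connectedComponent [CompactSpace X] [PrespectralSpace X]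
    [QuasiSeparatedSpace X] {x y : X} (h : y ∉ connectedComponent x) :
    ∃ Z : Set X, IsClopen Z ∧ x ∈ Z ∧ y ∉ Z := by
  rw [connectedComponent_eq_iInter_isClopen, Set.mem_iInter] at h
  push Not at h
  obtain ⟨s, hs⟩ := h
  exact ⟨s, s.2.1, s.2.2, hs⟩

/-- The image of a clopen set in the space of connected components is clopen. -/
theorem isClopen_image_mk {Z : Set X} (hZ : IsClopen Z) :
    IsClopen (ConnectedComponents.mk '' Z) ∧
      ConnectedComponents.mk ⁻¹' (ConnectedComponents.mk '' Z) = Z := by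
  have hpre : ∀ W : Set X, IsClopen W →
      ConnectedComponents.mk ⁻¹' (ConnectedComponents.mk '' W) = W := by
    intro W hW
    rw [connectedComponents_preimage_image, hW.biUnion_connectedComponent_eq]
  have hcompl : (ConnectedComponents.mk '' Z)ᶜ = ConnectedComponents.mk '' Zᶜ := by
    ext c
    obtain ⟨z, rfl⟩ := ConnectedComponents.surjective_coe c
    constructor
    · intro hc
      refine ⟨z, fun hz => hc ⟨z, hz, rfl⟩, rfl⟩
    · rintro ⟨w, hw, hwz⟩ ⟨w', hw', hw'z⟩
      have : w ∈ ConnectedComponents.mk ⁻¹' (ConnectedComponents.mk '' Z) :=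
        ⟨w', hw', hw'z.trans hwz.symm⟩
      rw [hpre Z hZ] at this
      exact hw this
  refine ⟨⟨?_, ?_⟩, hpre Z hZ⟩
  · rw [← isOpen_compl_iff, hcompl,
      ← ConnectedComponents.isQuotientMap_coe.isOpen_preimage, hpre _ hZ.compl]
    exact hZ.compl.isOpen
  · rw [← ConnectedComponents.isQuotientMap_coe.isOpen_preimage, hpre Z hZ]
    exact hZ.isOpen

/-- The space of connected components of a spectral space is Hausdorff. -/
instance t2Space_connectedComponents [CompactSpace X] [PrespectralSpace X]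
    [QuasiSeparatedSpace X] : T2Space (ConnectedComponents X) := by
  refine ⟨fun a b hab => ?_⟩
  obtain ⟨x, rfl⟩ := ConnectedComponents.surjective_coe a
  obtain ⟨y, rfl⟩ := ConnectedComponents.surjective_coe b
  have hy : y ∉ connectedComponent x := by
    intro hy
    exact hab (ConnectedComponents.coe_eq_coe'.mpr hy).symm
  obtain ⟨Z, hZ, hxZ, hyZ⟩ := exists_isClopen_of_notMem_connectedComponent hy
  obtain ⟨hcl, hpre⟩ := isClopen_image_mk hZ
  refine ⟨_, _, hcl.isOpen, hcl.compl.isOpen, ⟨x, hxZ, rfl⟩, ?_, disjoint_compl_right⟩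
  intro hmem
  have : y ∈ ConnectedComponents.mk ⁻¹' (ConnectedComponents.mk '' Z) := hmem
  rw [hpre] at this
  exact hyZ this



/-- every connected component of a compact T0 space contains a closed point. -/
theorem exists_closedPoint_mk_eq {X : Type*} [TopologicalSpace X] [T0Space X] [CompactSpace X]
    (c : ConnectedComponents X) :
    ∃ x : X, IsClosed ({x} : Set X) ∧ ConnectedComponents.mk x = c := by
  obtain ⟨z, rfl⟩ := ConnectedComponents.surjective_coe c
  obtain ⟨x, hx, hxc⟩ := (isClosed_connectedComponent (x := z)).exists_closed_singleton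
    ⟨z, mem_connectedComponent⟩
  exact ⟨x, hxc, (ConnectedComponents.coe_eq_coe'.mpr hx)⟩

/-- disjointification of a finite family of clopens. -/
theorem exists_disjoint_clopen_refinement {X : Type*} [TopologicalSpace X] (n : ℕ)
    (Z : Fin n → Set X) (hZ : ∀ k, IsClopen (Z k)) (hcov : (⋃ k, Z k) = Set.univ) :
    ∃ V : Fin n → Set X, (∀ k, IsClopen (V k)) ∧ Pairwise (fun k l => Disjoint (V k) (V l)) ∧
      (⋃ k, V k) = Set.univ ∧ ∀ k, V k ⊆ Z k := by
  classical
  refine ⟨fun k => Z k \ ⋃ l : {l : Fin n // l < k}, Z l.1, ?_, ?_, ?_, ?_⟩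
  · intro k
    exact (hZ k).diff (isClopen_iUnion_of_finite fun l => hZ l.1)
  · intro k l hkl
    show Disjoint _ _
    rw [Set.disjoint_left]
    rintro z ⟨hzk, hzk'⟩ ⟨hzl, hzl'⟩
    rcases lt_or_gt_of_ne hkl with h | h
    · exact hzl' (Set.mem_iUnion.2 ⟨⟨k, h⟩, hzk⟩)
    · exact hzk' (Set.mem_iUnion.2 ⟨⟨l, h⟩, hzl⟩)
  · rw [Set.eq_univ_iff_forall]
    intro z
    have hz : ∃ k, z ∈ Z k := by
      have : z ∈ ⋃ k, Z k := by rw [hcov]; trivial
      exact Set.mem_iUnion.1 this
    have hex : ∃ i, ∃ h : i < n, z ∈ Z ⟨i, h⟩ := by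
      obtain ⟨k, hk⟩ := hz; exact ⟨k.1, k.2, hk⟩
    obtain ⟨hkn, hzk⟩ := Nat.find_spec hex
    refine Set.mem_iUnion.2 ⟨⟨_, hkn⟩, hzk, ?_⟩
    intro hmem
    obtain ⟨⟨l, hl⟩, hzl⟩ := Set.mem_iUnion.1 hmem
    exact Nat.find_min hex (Fin.lt_def.mp hl) ⟨l.2, hzl⟩
  · intro k
    exact Set.sdiff_subset

theorem s0179 (X : Type u) [TopologicalSpace X] [SpectralSpace X] :
    (∀ (ι : Type u) (U : ι → Set X), (∀ i, IsOpen (U i)) → (⋃ i, U i) = Set.univ →
      ∃ (n : ℕ) (V : Fin n → Set X), (∀ k, IsClopen (V k)) ∧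
        Pairwise (fun k l => Disjoint (V k) (V l)) ∧ (⋃ k, V k) = Set.univ ∧ ∀ k, ∃ i, V k ⊆ U i) ↔
    Function.Bijective (fun x : {x : X // IsClosed ({x} : Set X)} =>
      _root_.ConnectedComponents.mk x.1) := by
  constructor
  · intro h
    refine ⟨?_, ?_⟩
    · rintro ⟨x, hx⟩ ⟨y, hy⟩ hxy
      by_contra hne
      have hne' : x ≠ y := fun h => hne (Subtype.ext h)
      obtain ⟨n, V, hV, -, hcov, href⟩ := h (ULift.{u} Bool)
        (fun b => if b.down then ({x}ᶜ : Set X) else ({y}ᶜ : Set X))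
        (fun b => by
          by_cases hb : b.down
          · simp only [hb, if_true]; exact hx.isOpen_compl
          · simp only [hb]; exact hy.isOpen_compl)
        (by
          rw [Set.eq_univ_iff_forall]
          intro z
          by_cases hz : z = x
          · refine Set.mem_iUnion.2 ⟨⟨false⟩, ?_⟩
            simp only [Bool.false_eq_true, if_false, Set.mem_compl_iff, Set.mem_singleton_iff]
            rw [hz]; exact hne'
          · refine Set.mem_iUnion.2 ⟨⟨true⟩, ?_⟩
            simpa using hz)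
      have hxV : ∃ k, x ∈ V k := by
        have : x ∈ ⋃ k, V k := by rw [hcov]; trivial
        exact Set.mem_iUnion.1 this
      obtain ⟨k, hxk⟩ := hxV
      obtain ⟨b, hb⟩ := href k
      have hyk : y ∉ V k := by
        intro hyk
        by_cases hbd : b.down
        · have := hb hxk
          simp only [hbd, if_true] at this
          exact this rfl
        · have := hb hyk
          simp only [hbd] at this
          exact this rfl
      have hxy' : y ∈ connectedComponent x := by
        have : ConnectedComponents.mk x = ConnectedComponents.mk y := hxy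
        exact (ConnectedComponents.coe_eq_coe'.mp this.symm)
      exact hyk ((hV k).connectedComponent_subset hxk hxy')
    · intro c
      obtain ⟨x, hx, hxc⟩ := exists_closedPoint_mk_eq c
      exact ⟨⟨x, hx⟩, hxc⟩
  · intro hbij ι U hU hcov
    -- every component lies in a clopen subset of some U i
    have key : ∀ z : X, ∃ Z : Set X, IsClopen Z ∧ z ∈ Z ∧ ∃ i, Z ⊆ U i := by
      intro z
      obtain ⟨x, hx, hxz⟩ := exists_closedPoint_mk_eq (ConnectedComponents.mk z)
      obtain ⟨i, hxi⟩ : ∃ i, x ∈ U i := by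
        have : x ∈ ⋃ i, U i := by rw [hcov]; trivial
        exact Set.mem_iUnion.1 this
      -- the component of z lies in U i
      have hCU : connectedComponent z ⊆ U i := by
        intro w hw
        obtain ⟨w₀, hw₀, hw₀c⟩ := (isClosed_closure (s := ({w} : Set X))).exists_closed_singleton
          ⟨w, subset_closure rfl⟩
        have hw₀z : w₀ ∈ connectedComponent z :=
          (isClosed_connectedComponent.closure_subset_iff.2 (Set.singleton_subset_iff.2 hw)) hw₀
        have hmk : ConnectedComponents.mk w₀ = ConnectedComponents.mk x := by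
          rw [hxz]
          exact ConnectedComponents.coe_eq_coe'.mpr hw₀z
        have hw₀x : w₀ = x := congrArg Subtype.val
          (hbij.1 (a₁ := ⟨w₀, hw₀c⟩) (a₂ := ⟨x, hx⟩) hmk)
        have hspec : w ⤳ w₀ := specializes_iff_mem_closure.2 hw₀
        rw [hw₀x] at hspec
        exact hspec.mem_open (hU i) hxi
      -- compactness
      rw [connectedComponent_eq_iInter_isClopen] at hCU
      obtain ⟨t, ht⟩ := ((hU i).isClosed_compl.isCompact).elim_finite_subfamily_closed
        (fun s : { s : Set X // IsClopen s ∧ z ∈ s } => (s : Set X))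
        (fun s => s.2.1.isClosed) (by
          rw [Set.eq_empty_iff_forall_notMem]
          rintro w ⟨hw1, hw2⟩
          exact hw1 (hCU hw2))
      refine ⟨⋂ s ∈ t, (s : Set X), isClopen_biInter_finset fun s _ => s.2.1,
        Set.mem_iInter₂.2 fun s _ => s.2.2, i, ?_⟩
      intro w hw
      by_contra hwn
      have : w ∈ (U i)ᶜ ∩ ⋂ s ∈ t, (s : Set X) := ⟨hwn, hw⟩
      rw [ht] at this
      exact this
    choose Z hZc hzZ hZU using key
    obtain ⟨t, ht⟩ := isCompact_univ.elim_finite_subcover Z (fun z => (hZc z).isOpen)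
      (fun w _ => Set.mem_iUnion.2 ⟨w, hzZ w⟩)
    classical
    let e := t.equivFin
    obtain ⟨V, hV1, hV2, hV3, hV4⟩ := exists_disjoint_clopen_refinement t.card
      (fun k => Z (e.symm k).1) (fun k => hZc _) (by
        rw [Set.eq_univ_iff_forall]
        intro w
        obtain ⟨z, hz, hwz⟩ := Set.mem_iUnion₂.1 (ht (Set.mem_univ w))
        refine Set.mem_iUnion.2 ⟨e ⟨z, hz⟩, ?_⟩
        simpa using hwz)
    refine ⟨t.card, V, hV1, hV2, hV3, fun k => ?_⟩
    obtain ⟨i, hi⟩ := hZU (e.symm k).1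
    exact ⟨i, (hV4 k).trans hi⟩



/-- compact opens are closed in the constructible topology. -/
theorem isClosed_constructible_of_compactOpen {X : Type*} [TopologicalSpace X] {W : Set X}
    (hWo : IsOpen W) (hWc : IsCompact W) : IsClosed[constructibleTopology X] W := by
  rw [← @isOpen_compl_iff _ _ (constructibleTopology X)]
  apply IsCompact.isOpen_constructibleTopology_of_isClosed
  · rw [compl_compl]; exact hWc
  · exact hWo.isClosed_compl

/-- In a spectral space, every point in the closure of the set of generalizations of a compact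
set `E` is a specialization of a generalization of a point of `E`. -/
theorem exists_specializes_of_mem_closure_generalizations {X : Type*} [TopologicalSpace X]
    [CompactSpace X] [QuasiSober X] [PrespectralSpace X] [QuasiSeparatedSpace X]
    {E : Set X} (hE : IsCompact E) {w : X}
    (hw : w ∈ closure {z : X | ∃ e ∈ E, z ⤳ e}) : ∃ z : X, (∃ e ∈ E, z ⤳ e) ∧ z ⤳ w := by
  classical
  let ι := {W : Set X // IsOpen W ∧ IsCompact W ∧ (E ⊆ W ∨ w ∈ W)}
  have hfip := Groth.Agent.H6.SpecLim.fip X (fun i : ι => (i : Set X))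
    (fun i => isClosed_constructible_of_compactOpen i.2.1 i.2.2.1) (by
      intro u
      -- the open neighbourhood of w
      let N : Set X := ⋂ i ∈ u.filter (fun i : ι => w ∈ (i : Set X)), (i : Set X)
      have hNo : IsOpen N := isOpen_biInter_finset fun i _ => i.2.1
      have hwN : w ∈ N := Set.mem_iInter₂.2 fun i hi => (Finset.mem_filter.1 hi).2
      obtain ⟨z', hz'N, e, heE, hz'e⟩ := mem_closure_iff.1 hw N hNo hwN
      refine ⟨z', Set.mem_iInter₂.2 fun i hi => ?_⟩
      by_cases hwi : w ∈ (i : Set X)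
      · exact Set.mem_iInter₂.1 hz'N i (Finset.mem_filter.2 ⟨hi, hwi⟩)
      · rcases i.2.2.2 with h | h
        · exact hz'e.mem_open i.2.1 (h heE)
        · exact (hwi h).elim)
  obtain ⟨z, hz⟩ := hfip
  rw [Set.mem_iInter] at hz
  have hbasis := PrespectralSpace.isTopologicalBasis (X := X)
  refine ⟨z, ?_, ?_⟩
  · -- z generalizes a point of E
    by_contra hcon
    push Not at hcon
    -- for each e ∈ E a compact open nbhd not containing z
    have : ∀ e ∈ E, ∃ W : Set X, IsOpen W ∧ IsCompact W ∧ e ∈ W ∧ z ∉ W := by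
      intro e he
      have hne : ¬ z ⤳ e := hcon e he
      rw [specializes_iff_forall_open] at hne
      push Not at hne
      obtain ⟨O, hO, heO, hzO⟩ := hne
      obtain ⟨W, ⟨hWo, hWc⟩, heW, hWO⟩ := hbasis.exists_subset_of_mem_open heO hO
      exact ⟨W, hWo, hWc, heW, fun h => hzO (hWO h)⟩
    choose! W hWo hWc heW hzW using this
    obtain ⟨t, htE, htfin, hcov⟩ := hE.elim_finite_subcover_image (b := E) (c := W)
      (fun e he => hWo e he) (fun e he => Set.mem_iUnion₂.2 ⟨e, he, heW e he⟩)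
    have hU : IsOpen (⋃ e ∈ t, W e) := isOpen_biUnion fun e he => hWo e (htE he)
    have hUc : IsCompact (⋃ e ∈ t, W e) :=
      htfin.isCompact_biUnion fun e he => hWc e (htE he)
    have hzU := hz ⟨⋃ e ∈ t, W e, hU, hUc, Or.inl hcov⟩
    obtain ⟨e, he, hze⟩ := Set.mem_iUnion₂.1 hzU
    exact hzW e (htE he) hze
  · rw [specializes_iff_forall_open]
    intro O hO hwO
    obtain ⟨W, ⟨hWo, hWc⟩, hwW, hWO⟩ := hbasis.exists_subset_of_mem_open hwO hO
    exact hWO (hz ⟨W, hWo, hWc, Or.inr hwW⟩)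



/-- In a w-local space, the set of generalizations of a closed set of closed points is closed. -/
theorem isClosed_generalizations {X : Type*} [TopologicalSpace X] [SpectralSpace X]
    (huniq : ∀ x : X, ∃! z : X, IsClosed ({z} : Set X) ∧ x ⤳ z)
    {A : Set X} (hA : IsClosed A) (hA0 : ∀ a ∈ A, IsClosed ({a} : Set X)) :
    IsClosed {z : X | ∃ a ∈ A, z ⤳ a} := by
  rw [← closure_subset_iff_isClosed]
  intro w hw
  obtain ⟨z, ⟨a, haA, hza⟩, hzw⟩ := exists_specializes_of_mem_closure_generalizations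
    hA.isCompact hw
  obtain ⟨w₀, ⟨hw₀c, hww₀⟩, -⟩ := huniq w
  obtain ⟨z₀, -, hz₀u⟩ := huniq z
  have h1 : a = z₀ := hz₀u a ⟨hA0 a haA, hza⟩
  have h2 : w₀ = z₀ := hz₀u w₀ ⟨hw₀c, hzw.trans hww₀⟩
  exact ⟨a, haA, by rw [h1, ← h2]; exact hww₀⟩

theorem s0180 (X : Type u) [TopologicalSpace X]
    [SpectralSpace X] (h0 : IsClosed {x : X | IsClosed ({x} : Set X)})
    (huniq : ∀ x : X, ∃! z : X, IsClosed ({z} : Set X) ∧ x ⤳ z) :
    Function.Bijective (fun x : {x : X // IsClosed ({x} : Set X)} =>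
      _root_.ConnectedComponents.mk x.1) := by
  refine ⟨?_, ?_⟩
  · rintro ⟨x, hx⟩ ⟨y, hy⟩ hxy
    by_contra hne
    have hne' : x ≠ y := fun h => hne (Subtype.ext h)
    -- the closed subspace of closed points
    set Y₀ : Set X := {x : X | IsClosed ({x} : Set X)} with hY₀
    have : SpectralSpace ↥Y₀ := Groth.Agent.H1.spectralSpace_of_isClosed Y₀ h0
    have : T1Space ↥Y₀ := ⟨fun p =>
      (Groth.Agent.H1.isClosed_singleton_subtype_iff Y₀ h0 p).mpr p.2⟩
    have : T2Space ↥Y₀ := Groth.Agent.H1.t2Space_of_t1Space_of_spectral ↥Y₀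
    have hne'' : (⟨x, hx⟩ : ↥Y₀) ≠ ⟨y, hy⟩ := fun h => hne' (congrArg Subtype.val h)
    obtain ⟨U, hU, hxU, hyU⟩ := exists_isClopen_of_totally_separated hne''
    have hemb : IsClosedEmbedding ((↑) : ↥Y₀ → X) := h0.isClosedEmbedding_subtypeVal
    set A : Set X := Subtype.val '' U with hAdef
    set B : Set X := Subtype.val '' Uᶜ with hBdef
    have hAc : IsClosed A := hemb.isClosedMap _ hU.isClosed
    have hBc : IsClosed B := hemb.isClosedMap _ hU.compl.isClosed
    have hA0 : ∀ a ∈ A, IsClosed ({a} : Set X) := by rintro _ ⟨p, -, rfl⟩; exact p.2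
    have hB0 : ∀ a ∈ B, IsClosed ({a} : Set X) := by rintro _ ⟨p, -, rfl⟩; exact p.2
    have hGA := isClosed_generalizations huniq hAc hA0
    have hGB := isClosed_generalizations huniq hBc hB0
    have hcompl : {z : X | ∃ a ∈ A, z ⤳ a} = {z : X | ∃ a ∈ B, z ⤳ a}ᶜ := by
      ext z
      simp only [Set.mem_ofPred_eq, Set.mem_compl_iff]
      constructor
      · rintro ⟨a, ⟨p, hp, rfl⟩, hza⟩ ⟨b, ⟨q, hq, rfl⟩, hzb⟩
        obtain ⟨z₀, -, hz₀u⟩ := huniq z
        have h1 := hz₀u p.1 ⟨p.2, hza⟩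
        have h2 := hz₀u q.1 ⟨q.2, hzb⟩
        have : p = q := Subtype.ext (h1.trans h2.symm)
        rw [this] at hp
        exact hq hp
      · intro hz
        obtain ⟨z₀, ⟨hz₀c, hzz₀⟩, -⟩ := huniq z
        by_cases hz₀U : (⟨z₀, hz₀c⟩ : ↥Y₀) ∈ U
        · exact ⟨z₀, ⟨⟨z₀, hz₀c⟩, hz₀U, rfl⟩, hzz₀⟩
        · exact (hz ⟨z₀, ⟨⟨z₀, hz₀c⟩, hz₀U, rfl⟩, hzz₀⟩).elim
    have hclopen : IsClopen {z : X | ∃ a ∈ A, z ⤳ a} := by
      refine ⟨hGA, ?_⟩
      rw [hcompl]
      exact hGB.isOpen_compl
    have hxG : x ∈ {z : X | ∃ a ∈ A, z ⤳ a} := ⟨x, ⟨⟨x, hx⟩, hxU, rfl⟩, specializes_rfl⟩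
    have hyG : y ∉ {z : X | ∃ a ∈ A, z ⤳ a} := by
      rw [hcompl]
      simp only [Set.mem_compl_iff, not_not]
      exact ⟨y, ⟨⟨y, hy⟩, hyU, rfl⟩, specializes_rfl⟩
    have hxy' : y ∈ connectedComponent x := by
      have : ConnectedComponents.mk x = ConnectedComponents.mk y := hxy
      exact (ConnectedComponents.coe_eq_coe'.mp this.symm)
    exact hyG (hclopen.connectedComponent_subset hxG hxy')
  · intro c
    obtain ⟨x, hx, hxc⟩ := exists_closedPoint_mk_eq c
    exact ⟨⟨x, hx⟩, hxc⟩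

end Groth.Agent.H1.Spec2
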