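import Mathlib
import Groth.Prelude.Def_CycAlg

/-!
# Herbrand quotients of 2-periodic complexes: induced maps, exact hexagon in terms of lengths
-/

set_option autoImplicit false
universe u v

namespace Groth.Agent.H1.Herbrand
open CycAlg LinearMap

variable {R : Type u} [CommRing R]

/-- `ℓ(X) = ℓ(ker h) + ℓ(range h)`. -/
theorem length_eq_ker_add_range {X Y : Type*} [AddCommGroup X] [Module R X] [AddCommGroup Y]
    [Module R Y] (h : X →ₗ[R] Y) :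
    Module.length R X = Module.length R (LinearMap.ker h) + Module.length R (LinearMap.range h) :=
  Module.length_eq_add_of_exact (LinearMap.ker h).subtype h.rangeRestrict
    (Submodule.injective_subtype _) h.surjective_rangeRestrict
    (by
      intro x
      constructor
      · intro hx
        exact ⟨⟨x, by
          have : (h.rangeRestrict x : Y) = 0 := by rw [hx]; rfl
          simpa using this⟩, rfl⟩
      · rintro ⟨⟨y, hy⟩, rfl⟩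
        ext
        simpa using hy)

/-- `ℓ(Y) = ℓ(range h) + ℓ(Y / range h)`. -/
theorem length_eq_range_add_coker {X Y : Type*} [AddCommGroup X] [Module R X] [AddCommGroup Y]
    [Module R Y] (h : X →ₗ[R] Y) :
    Module.length R Y = Module.length R (LinearMap.range h) +
      Module.length R (Y ⧸ LinearMap.range h) :=
  Module.length_eq_add_of_exact (LinearMap.range h).subtype (LinearMap.range h).mkQ
    (Submodule.injective_subtype _) (Submodule.mkQ_surjective _)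
    (by
      intro y
      rw [Submodule.mkQ_apply, Submodule.Quotient.mk_eq_zero]
      constructor
      · intro hy; exact ⟨⟨y, hy⟩, rfl⟩
      · rintro ⟨⟨z, hz⟩, rfl⟩; exact hz)

section Map

variable {M N M' N' : Type v} [AddCommGroup M] [Module R M] [AddCommGroup N] [Module R N]
  [AddCommGroup M'] [Module R M'] [AddCommGroup N'] [Module R N']
  (φ : M →ₗ[R] N) (ψ : N →ₗ[R] M) (φ' : M' →ₗ[R] N') (ψ' : N' →ₗ[R] M')
  (f : M →ₗ[R] M') (g : N →ₗ[R] N')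

/-- `mk x = 0` in `perH φ ψ` iff `x ∈ range ψ`. -/
theorem perH_mk_eq_zero (x : LinearMap.ker φ) :
    (Submodule.Quotient.mk x : perH φ ψ) = 0 ↔ (x : M) ∈ LinearMap.range ψ := by
  rw [Submodule.Quotient.mk_eq_zero]
  rfl

theorem perH_mk_eq_mk (x y : LinearMap.ker φ) :
    (Submodule.Quotient.mk x : perH φ ψ) = Submodule.Quotient.mk y ↔
      (x : M) - y ∈ LinearMap.range ψ := by
  rw [Submodule.Quotient.eq]
  rfl

variable {φ φ' f g} in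
/-- restriction `ker φ → ker φ'`. -/
def kerMap (cφ : φ' ∘ₗ f = g ∘ₗ φ) : LinearMap.ker φ →ₗ[R] LinearMap.ker φ' :=
  f.restrict (p := LinearMap.ker φ) (q := LinearMap.ker φ') (by
    intro x hx
    rw [LinearMap.mem_ker] at hx ⊢
    have := congrArg (fun l => l x) cφ
    simp only [LinearMap.comp_apply] at this
    rw [this, hx, map_zero])

@[simp] theorem kerMap_coe (cφ : φ' ∘ₗ f = g ∘ₗ φ) (x : LinearMap.ker φ) :
    (kerMap cφ x : M') = f x := rfl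

variable {φ ψ φ' ψ' f g} in
/-- the induced map on `perH`. -/
def perMap (cφ : φ' ∘ₗ f = g ∘ₗ φ) (cψ : ψ' ∘ₗ g = f ∘ₗ ψ) : perH φ ψ →ₗ[R] perH φ' ψ' :=
  Submodule.mapQ _ _ (kerMap cφ) (by
    rintro ⟨x, hx⟩ ⟨n, hn⟩
    refine ⟨g n, ?_⟩
    have := congrArg (fun l => l n) cψ
    simp only [LinearMap.comp_apply] at this
    rw [this, hn]
    rfl)

@[simp] theorem perMap_mk (cφ : φ' ∘ₗ f = g ∘ₗ φ) (cψ : ψ' ∘ₗ g = f ∘ₗ ψ) (x : LinearMap.ker φ) :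
    perMap cφ cψ (Submodule.Quotient.mk x : perH φ ψ) = Submodule.Quotient.mk (kerMap cφ x) := rfl

end Map


section SES

variable {M₁ N₁ M₂ N₂ M₃ N₃ : Type v} [AddCommGroup M₁] [Module R M₁] [AddCommGroup N₁]
  [Module R N₁] [AddCommGroup M₂] [Module R M₂] [AddCommGroup N₂] [Module R N₂]
  [AddCommGroup M₃] [Module R M₃] [AddCommGroup N₃] [Module R N₃]
  {φ₁ : M₁ →ₗ[R] N₁} {ψ₁ : N₁ →ₗ[R] M₁} {φ₂ : M₂ →ₗ[R] N₂} {ψ₂ : N₂ →ₗ[R] M₂}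
  {φ₃ : M₃ →ₗ[R] N₃} {ψ₃ : N₃ →ₗ[R] M₃}
  {f₁ : M₁ →ₗ[R] M₂} {g₁ : N₁ →ₗ[R] N₂} {f₂ : M₂ →ₗ[R] M₃} {g₂ : N₂ →ₗ[R] N₃}

/-- exactness at the middle term. -/
theorem ker_perMap_eq_range (hφψ₂ : φ₂ ∘ₗ ψ₂ = 0)
    (cφ₁ : φ₂ ∘ₗ f₁ = g₁ ∘ₗ φ₁) (cψ₁ : ψ₂ ∘ₗ g₁ = f₁ ∘ₗ ψ₁)
    (cφ₂ : φ₃ ∘ₗ f₂ = g₂ ∘ₗ φ₂) (cψ₂ : ψ₃ ∘ₗ g₂ = f₂ ∘ₗ ψ₂)
    (hg₁ : Function.Injective g₁) (hg₂ : Function.Surjective g₂)
    (hM : LinearMap.range f₁ = LinearMap.ker f₂) :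
    LinearMap.ker (perMap cφ₂ cψ₂) = LinearMap.range (perMap cφ₁ cψ₁) := by
  have e1 : ∀ x, φ₂ (ψ₂ x) = 0 := fun x => congrArg (fun l => l x) hφψ₂
  have e2 : ∀ x, φ₂ (f₁ x) = g₁ (φ₁ x) := fun x => congrArg (fun l => l x) cφ₁
  have e3 : ∀ x, ψ₂ (g₁ x) = f₁ (ψ₁ x) := fun x => congrArg (fun l => l x) cψ₁
  have e4 : ∀ x, φ₃ (f₂ x) = g₂ (φ₂ x) := fun x => congrArg (fun l => l x) cφ₂
  have e5 : ∀ x, ψ₃ (g₂ x) = f₂ (ψ₂ x) := fun x => congrArg (fun l => l x) cψ₂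
  have e6 : ∀ x, f₂ (f₁ x) = 0 := fun x => by
    have : f₁ x ∈ LinearMap.ker f₂ := hM ▸ LinearMap.mem_range_self f₁ x
    exact this
  apply le_antisymm
  · intro X hX
    induction X using Submodule.Quotient.induction_on with
    | H x =>
    obtain ⟨m₂, hm₂⟩ := x
    rw [LinearMap.mem_ker, perMap_mk, perH_mk_eq_zero] at hX
    obtain ⟨n₃, hn₃⟩ := hX
    obtain ⟨n₂, rfl⟩ := hg₂ n₃
    have hn₃' : ψ₃ (g₂ n₂) = f₂ m₂ := hn₃
    rw [e5] at hn₃'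
    have h1 : m₂ - ψ₂ n₂ ∈ LinearMap.ker f₂ := by
      rw [LinearMap.mem_ker, map_sub, hn₃', sub_self]
    rw [← hM] at h1
    obtain ⟨m₁, hm₁⟩ := h1
    have hk : m₁ ∈ LinearMap.ker φ₁ := by
      rw [LinearMap.mem_ker]
      apply hg₁
      rw [← e2, hm₁, map_sub, e1, map_zero, sub_zero]
      exact hm₂
    refine ⟨Submodule.Quotient.mk ⟨m₁, hk⟩, ?_⟩
    rw [perMap_mk, perH_mk_eq_mk]
    refine ⟨-n₂, ?_⟩
    change ψ₂ (-n₂) = f₁ m₁ - m₂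
    rw [hm₁, map_neg]; abel
  · rintro _ ⟨X, rfl⟩
    induction X using Submodule.Quotient.induction_on with
    | H x =>
    rw [LinearMap.mem_ker, perMap_mk, perMap_mk, perH_mk_eq_zero]
    refine ⟨0, ?_⟩
    change ψ₃ 0 = f₂ (f₁ x)
    rw [e6, map_zero]


/-- the connecting isomorphism, at the level of lengths:
`ℓ(coker(H⁰(2) → H⁰(3))) = ℓ(ker(H¹(1) → H¹(2)))`. -/
theorem length_coker_eq_length_ker (hφψ₂ : φ₂ ∘ₗ ψ₂ = 0) (hψφ₂ : ψ₂ ∘ₗ φ₂ = 0)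
    (cφ₁ : φ₂ ∘ₗ f₁ = g₁ ∘ₗ φ₁) (cψ₁ : ψ₂ ∘ₗ g₁ = f₁ ∘ₗ ψ₁)
    (cφ₂ : φ₃ ∘ₗ f₂ = g₂ ∘ₗ φ₂) (cψ₂ : ψ₃ ∘ₗ g₂ = f₂ ∘ₗ ψ₂)
    (hf₁ : Function.Injective f₁) (hg₁ : Function.Injective g₁)
    (hf₂ : Function.Surjective f₂) (hg₂ : Function.Surjective g₂)
    (hM : LinearMap.range f₁ = LinearMap.ker f₂) (hN : LinearMap.range g₁ = LinearMap.ker g₂) :
    Module.length R (perH φ₃ ψ₃ ⧸ LinearMap.range (perMap cφ₂ cψ₂)) =
      Module.length R (LinearMap.ker (perMap cψ₁ cφ₁)) := by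
  have e1 : ∀ x, φ₂ (ψ₂ x) = 0 := fun x => congrArg (fun l => l x) hφψ₂
  have e1' : ∀ x, ψ₂ (φ₂ x) = 0 := fun x => congrArg (fun l => l x) hψφ₂
  have e2 : ∀ x, φ₂ (f₁ x) = g₁ (φ₁ x) := fun x => congrArg (fun l => l x) cφ₁
  have e3 : ∀ x, ψ₂ (g₁ x) = f₁ (ψ₁ x) := fun x => congrArg (fun l => l x) cψ₁
  have e4 : ∀ x, φ₃ (f₂ x) = g₂ (φ₂ x) := fun x => congrArg (fun l => l x) cφ₂
  have e5 : ∀ x, ψ₃ (g₂ x) = f₂ (ψ₂ x) := fun x => congrArg (fun l => l x) cψ₂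
  have e6 : ∀ x, f₂ (f₁ x) = 0 := fun x => by
    have : f₁ x ∈ LinearMap.ker f₂ := hM ▸ LinearMap.mem_range_self f₁ x
    exact this
  have e7 : ∀ x, g₂ (g₁ x) = 0 := fun x => by
    have : g₁ x ∈ LinearMap.ker g₂ := hN ▸ LinearMap.mem_range_self g₁ x
    exact this
  -- the middle module
  let P : Submodule R M₂ := LinearMap.ker (φ₃ ∘ₗ f₂)
  have hP : ∀ p : P, φ₃ (f₂ p) = 0 := fun p => p.2
  have hP' : ∀ p : P, φ₂ p ∈ LinearMap.range g₁ := fun p => by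
    rw [hN, LinearMap.mem_ker, ← e4]; exact hP p
  -- α
  let toK3 : P →ₗ[R] LinearMap.ker φ₃ :=
    f₂.restrict (p := P) (q := LinearMap.ker φ₃) (fun x hx => hx)
  let α : P →ₗ[R] (perH φ₃ ψ₃ ⧸ LinearMap.range (perMap cφ₂ cψ₂)) :=
    (LinearMap.range (perMap cφ₂ cψ₂)).mkQ ∘ₗ
      ((LinearMap.range ψ₃).submoduleOf (LinearMap.ker φ₃)).mkQ ∘ₗ toK3
  have hα : Function.Surjective α := by
    intro Y
    induction Y using Submodule.Quotient.induction_on with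
    | H Y =>
    induction Y using Submodule.Quotient.induction_on with
    | H y =>
    obtain ⟨y, hy⟩ := y
    obtain ⟨m₂, rfl⟩ := hf₂ y
    exact ⟨⟨m₂, hy⟩, rfl⟩
  -- β
  let e := LinearEquiv.ofInjective g₁ hg₁
  let β₀ : P →ₗ[R] N₁ := e.symm.toLinearMap ∘ₗ
    LinearMap.codRestrict (LinearMap.range g₁) (φ₂ ∘ₗ P.subtype) hP'
  have hβ₀ : ∀ p : P, g₁ (β₀ p) = φ₂ p := fun p => by
    have := e.apply_symm_apply (LinearMap.codRestrict (LinearMap.range g₁) (φ₂ ∘ₗ P.subtype) hP' p)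
    exact congrArg Subtype.val this
  have hβ₀k : ∀ p : P, β₀ p ∈ LinearMap.ker ψ₁ := fun p => by
    rw [LinearMap.mem_ker]
    apply hf₁
    rw [← e3, hβ₀, e1', map_zero]
  let β : P →ₗ[R] perH ψ₁ φ₁ :=
    ((LinearMap.range φ₁).submoduleOf (LinearMap.ker ψ₁)).mkQ ∘ₗ
      LinearMap.codRestrict (LinearMap.ker ψ₁) β₀ hβ₀k
  have hβrange : LinearMap.range β = LinearMap.ker (perMap cψ₁ cφ₁) := by
    apply le_antisymm
    · rintro _ ⟨p, rfl⟩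
      rw [LinearMap.mem_ker]
      change perMap cψ₁ cφ₁ (Submodule.Quotient.mk ⟨β₀ p, hβ₀k p⟩) = 0
      rw [perMap_mk, perH_mk_eq_zero]
      exact ⟨p, (hβ₀ p).symm⟩
    · intro Y hY
      induction Y using Submodule.Quotient.induction_on with
      | H y =>
      obtain ⟨n₁, hn₁⟩ := y
      rw [LinearMap.mem_ker, perMap_mk, perH_mk_eq_zero] at hY
      obtain ⟨m₂, hm₂⟩ := hY
      have hm₂' : φ₂ m₂ = g₁ n₁ := hm₂
      have hmP : m₂ ∈ P := by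
        change φ₃ (f₂ m₂) = 0
        rw [e4, hm₂', e7]
      refine ⟨⟨m₂, hmP⟩, ?_⟩
      change (Submodule.Quotient.mk ⟨β₀ ⟨m₂, hmP⟩, hβ₀k _⟩ : perH ψ₁ φ₁) = _
      congr 1
      apply Subtype.ext
      apply hg₁
      change g₁ (β₀ ⟨m₂, hmP⟩) = g₁ n₁
      rw [hβ₀]; exact hm₂'
  -- kernels agree
  have hkα : ∀ p : P, α p = 0 ↔ ∃ k ∈ LinearMap.ker φ₂, ∃ m₁, (p : M₂) = k + f₁ m₁ := by
    intro p
    change (Submodule.Quotient.mk (Submodule.Quotient.mk (toK3 p)) :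
      perH φ₃ ψ₃ ⧸ LinearMap.range (perMap cφ₂ cψ₂)) = 0 ↔ _
    rw [Submodule.Quotient.mk_eq_zero]
    constructor
    · rintro ⟨X, hX⟩
      induction X using Submodule.Quotient.induction_on with
      | H x =>
      obtain ⟨k, hk⟩ := x
      rw [perMap_mk, perH_mk_eq_mk] at hX
      obtain ⟨n₃, hn₃⟩ := hX
      obtain ⟨n₂, rfl⟩ := hg₂ n₃
      have hn₃' : ψ₃ (g₂ n₂) = f₂ k - f₂ p := hn₃
      rw [e5] at hn₃'
      have h1 : k - p - ψ₂ n₂ ∈ LinearMap.ker f₂ := by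
        rw [LinearMap.mem_ker, map_sub, map_sub, hn₃', sub_self]
      rw [← hM] at h1
      obtain ⟨m₁, hm₁⟩ := h1
      refine ⟨k - ψ₂ n₂, ?_, -m₁, ?_⟩
      · rw [LinearMap.mem_ker, map_sub, e1, sub_zero]; exact hk
      · rw [map_neg, hm₁]; abel
    · rintro ⟨k, hk, m₁, hp⟩
      refine ⟨Submodule.Quotient.mk ⟨k, hk⟩, ?_⟩
      rw [perMap_mk]
      congr 1
      apply Subtype.ext
      change f₂ k = f₂ p
      rw [hp, map_add, e6, add_zero]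
  have hkβ : ∀ p : P, β p = 0 ↔ ∃ k ∈ LinearMap.ker φ₂, ∃ m₁, (p : M₂) = k + f₁ m₁ := by
    intro p
    change (Submodule.Quotient.mk ⟨β₀ p, hβ₀k p⟩ : perH ψ₁ φ₁) = 0 ↔ _
    rw [perH_mk_eq_zero]
    constructor
    · rintro ⟨m₁, hm₁⟩
      have hm₁' : φ₁ m₁ = β₀ p := hm₁
      refine ⟨p - f₁ m₁, ?_, m₁, by abel⟩
      rw [LinearMap.mem_ker, map_sub, e2, hm₁', hβ₀, sub_self]
    · rintro ⟨k, hk, m₁, hp⟩
      refine ⟨m₁, ?_⟩
      apply hg₁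
      change g₁ (φ₁ m₁) = g₁ (β₀ p)
      rw [hβ₀, hp, map_add, e2]
      rw [LinearMap.mem_ker] at hk
      rw [hk, zero_add]
  have hker : LinearMap.ker α = LinearMap.ker β := by
    ext p
    rw [LinearMap.mem_ker, LinearMap.mem_ker, hkα, hkβ]
  rw [← (α.quotKerEquivOfSurjective hα).length_eq, ← hβrange, ← β.quotKerEquivRange.length_eq]
  exact (Submodule.quotEquivOfEq _ _ hker).length_eq


/-- the six-term length bookkeeping. -/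
theorem six_lengths (h₂ : CycAlg.IsPeriodic φ₂ ψ₂)
    (cφ₁ : φ₂ ∘ₗ f₁ = g₁ ∘ₗ φ₁) (cψ₁ : ψ₂ ∘ₗ g₁ = f₁ ∘ₗ ψ₁)
    (cφ₂ : φ₃ ∘ₗ f₂ = g₂ ∘ₗ φ₂) (cψ₂ : ψ₃ ∘ₗ g₂ = f₂ ∘ₗ ψ₂)
    (hf₁ : Function.Injective f₁) (hg₁ : Function.Injective g₁)
    (hf₂ : Function.Surjective f₂) (hg₂ : Function.Surjective g₂)
    (hM : LinearMap.range f₁ = LinearMap.ker f₂) (hN : LinearMap.range g₁ = LinearMap.ker g₂) :
    ∃ x1 x2 x3 x4 x5 x6 : ℕ∞,
      Module.length R (perH φ₁ ψ₁) = x1 + x2 ∧ Module.length R (perH φ₂ ψ₂) = x2 + x3 ∧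
      Module.length R (perH φ₃ ψ₃) = x3 + x4 ∧ Module.length R (perH ψ₁ φ₁) = x4 + x5 ∧
      Module.length R (perH ψ₂ φ₂) = x5 + x6 ∧ Module.length R (perH ψ₃ φ₃) = x6 + x1 := by
  refine ⟨Module.length R (LinearMap.ker (perMap cφ₁ cψ₁)),
    Module.length R (LinearMap.range (perMap cφ₁ cψ₁)),
    Module.length R (LinearMap.range (perMap cφ₂ cψ₂)),
    Module.length R (LinearMap.ker (perMap cψ₁ cφ₁)),
    Module.length R (LinearMap.range (perMap cψ₁ cφ₁)),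
    Module.length R (LinearMap.range (perMap cψ₂ cφ₂)), ?_, ?_, ?_, ?_, ?_, ?_⟩
  · exact length_eq_ker_add_range _
  · rw [length_eq_ker_add_range (perMap cφ₂ cψ₂),
      ker_perMap_eq_range h₂.1 cφ₁ cψ₁ cφ₂ cψ₂ hg₁ hg₂ hM]
  · rw [length_eq_range_add_coker (perMap cφ₂ cψ₂),
      length_coker_eq_length_ker h₂.1 h₂.2 cφ₁ cψ₁ cφ₂ cψ₂ hf₁ hg₁ hf₂ hg₂ hM hN]
  · exact length_eq_ker_add_range _
  · rw [length_eq_ker_add_range (perMap cψ₂ cφ₂),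
      ker_perMap_eq_range h₂.2 cψ₁ cφ₁ cψ₂ cφ₂ hf₁ hf₂ hN]
  · rw [length_eq_range_add_coker (perMap cψ₂ cφ₂),
      length_coker_eq_length_ker h₂.2 h₂.1 cψ₁ cφ₁ cψ₂ cφ₂ hg₁ hf₁ hg₂ hf₂ hN hM]

/-- Additivity of Herbrand quotients in short exact sequences of 2-periodic complexes. -/
theorem herbrand_shortExact (h₂ : CycAlg.IsPeriodic φ₂ ψ₂)
    (cφ₁ : φ₂ ∘ₗ f₁ = g₁ ∘ₗ φ₁) (cψ₁ : ψ₂ ∘ₗ g₁ = f₁ ∘ₗ ψ₁)
    (cφ₂ : φ₃ ∘ₗ f₂ = g₂ ∘ₗ φ₂) (cψ₂ : ψ₃ ∘ₗ g₂ = f₂ ∘ₗ ψ₂)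
    (hf₁ : Function.Injective f₁) (hg₁ : Function.Injective g₁)
    (hf₂ : Function.Surjective f₂) (hg₂ : Function.Surjective g₂)
    (hM : LinearMap.range f₁ = LinearMap.ker f₂) (hN : LinearMap.range g₁ = LinearMap.ker g₂)
    (htwo : (CycAlg.FinCoh R φ₁ ψ₁ ∧ CycAlg.FinCoh R φ₂ ψ₂) ∨
      (CycAlg.FinCoh R φ₁ ψ₁ ∧ CycAlg.FinCoh R φ₃ ψ₃) ∨
      (CycAlg.FinCoh R φ₂ ψ₂ ∧ CycAlg.FinCoh R φ₃ ψ₃)) :
    CycAlg.FinCoh R φ₁ ψ₁ ∧ CycAlg.FinCoh R φ₂ ψ₂ ∧ CycAlg.FinCoh R φ₃ ψ₃ ∧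
      CycAlg.herbrand R φ₂ ψ₂ = CycAlg.herbrand R φ₁ ψ₁ + CycAlg.herbrand R φ₃ ψ₃ := by
  obtain ⟨x1, x2, x3, x4, x5, x6, e1, e2, e3, e4, e5, e6⟩ :=
    six_lengths h₂ cφ₁ cψ₁ cφ₂ cψ₂ hf₁ hg₁ hf₂ hg₂ hM hN
  unfold CycAlg.FinCoh CycAlg.herbrand at *
  rw [e1, e2, e3, e4, e5, e6] at htwo ⊢
  have hfin : x1 < ⊤ ∧ x2 < ⊤ ∧ x3 < ⊤ ∧ x4 < ⊤ ∧ x5 < ⊤ ∧ x6 < ⊤ := by
    simp only [ENat.add_lt_top] at htwo
    rcases htwo with h | h | h <;> tauto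
  obtain ⟨h1, h2, h3, h4, h5, h6⟩ := hfin
  lift x1 to ℕ using h1.ne
  lift x2 to ℕ using h2.ne
  lift x3 to ℕ using h3.ne
  lift x4 to ℕ using h4.ne
  lift x5 to ℕ using h5.ne
  lift x6 to ℕ using h6.ne
  refine ⟨?_, ?_, ?_, ?_⟩
  · exact ⟨WithTop.add_lt_top.mpr ⟨h1, h2⟩, WithTop.add_lt_top.mpr ⟨h4, h5⟩⟩
  · exact ⟨WithTop.add_lt_top.mpr ⟨h2, h3⟩, WithTop.add_lt_top.mpr ⟨h5, h6⟩⟩
  · exact ⟨WithTop.add_lt_top.mpr ⟨h3, h4⟩, WithTop.add_lt_top.mpr ⟨h6, h1⟩⟩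
  · simp only [← Nat.cast_add, ENat.toNat_natCast]
    push_cast
    ring

end SES


section FiniteLength

variable {M N : Type v} [AddCommGroup M] [Module R M] [AddCommGroup N] [Module R N]

/-- `ℓ(ker φ) = ℓ(range ψ) + ℓ(H⁰)` for a periodic complex. -/
theorem length_ker_eq (φ : M →ₗ[R] N) (ψ : N →ₗ[R] M) (hφψ : φ ∘ₗ ψ = 0) :
    Module.length R (LinearMap.ker φ) =
      Module.length R (LinearMap.range ψ) + Module.length R (perH φ ψ) := by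
  have hle : LinearMap.range ψ ≤ LinearMap.ker φ := by
    rintro _ ⟨n, rfl⟩
    exact congrArg (fun l => l n) hφψ
  rw [← (Submodule.submoduleOfEquivOfLe hle).length_eq]
  exact Module.length_eq_add_of_exact
    ((LinearMap.range ψ).submoduleOf (LinearMap.ker φ)).subtype
    ((LinearMap.range ψ).submoduleOf (LinearMap.ker φ)).mkQ
    (Submodule.injective_subtype _) (Submodule.mkQ_surjective _)
    (by
      intro y
      rw [Submodule.mkQ_apply, Submodule.Quotient.mk_eq_zero]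
      constructor
      · intro hy; exact ⟨⟨y, hy⟩, rfl⟩
      · rintro ⟨⟨z, hz⟩, rfl⟩; exact hz)

/-- A periodic complex of finite length modules has finite cohomology and Herbrand quotient
`ℓ(M) - ℓ(N)`. -/
theorem finCoh_and_herbrand_of_length_lt_top (φ : M →ₗ[R] N) (ψ : N →ₗ[R] M)
    (h : CycAlg.IsPeriodic φ ψ) (hM : Module.length R M < ⊤) (hN : Module.length R N < ⊤) :
    CycAlg.FinCoh R φ ψ ∧ CycAlg.herbrand R φ ψ =
      ((Module.length R M).toNat : ℤ) - ((Module.length R N).toNat : ℤ) := by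
  have e1 := length_eq_ker_add_range φ
  have e2 := length_eq_ker_add_range ψ
  have e3 := length_ker_eq φ ψ h.1
  have e4 := length_ker_eq ψ φ h.2
  unfold CycAlg.FinCoh CycAlg.herbrand
  generalize Module.length R (perH φ ψ) = a at *
  generalize Module.length R (perH ψ φ) = b at *
  generalize Module.length R (LinearMap.ker φ) = kφ at *
  generalize Module.length R (LinearMap.ker ψ) = kψ at *
  generalize Module.length R (LinearMap.range φ) = rφ at *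
  generalize Module.length R (LinearMap.range ψ) = rψ at *
  rw [e1] at hM ⊢
  rw [e2] at hN ⊢
  rw [e3] at hM ⊢
  rw [e4] at hN ⊢
  simp only [ENat.add_lt_top] at hM hN
  obtain ⟨⟨h1, h2⟩, h3⟩ := hM
  obtain ⟨⟨h4, h5⟩, h6⟩ := hN
  lift a to ℕ using h2.ne
  lift b to ℕ using h5.ne
  lift rφ to ℕ using h3.ne
  lift rψ to ℕ using h1.ne
  refine ⟨⟨h2, h5⟩, ?_⟩
  simp only [← Nat.cast_add, ENat.toNat_natCast]
  push_cast
  ring

theorem herbrand_eq_zero_of_length_lt_top (φ ψ : M →ₗ[R] M)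
    (h : CycAlg.IsPeriodic φ ψ) (hM : Module.length R M < ⊤) :
    CycAlg.FinCoh R φ ψ ∧ CycAlg.herbrand R φ ψ = 0 := by
  obtain ⟨h1, h2⟩ := finCoh_and_herbrand_of_length_lt_top φ ψ h hM hM
  exact ⟨h1, by rw [h2, sub_self]⟩

end FiniteLength

end Groth.Agent.H1.Herbrand
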