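import Mathlib

/-! Length over a local ring of a finite length module over a semi-local algebra (helper1). -/

set_option autoImplicit false
set_option linter.style.haveILetI false

universe u v

open Module

namespace Groth.Agent.H1.SemiLocLen

section Loc

variable {B : Type u} [CommRing B]

/-- the length of the localization of `N` at the prime `n`. -/
noncomputable def L (n : Ideal B) [n.IsPrime] (N : Type v) [AddCommGroup N] [Module B N] : ℕ∞ :=
  Module.length (Localization.AtPrime n) (LocalizedModule n.primeCompl N)

variable (n : Ideal B) [n.IsPrime]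

theorem L_add {N' : Type*} {N : Type*} {N'' : Type*} [AddCommGroup N'] [Module B N'] [AddCommGroup N] [Module B N]
    [AddCommGroup N''] [Module B N''] (f : N' →ₗ[B] N) (g : N →ₗ[B] N'')
    (hf : Function.Injective f) (hg : Function.Surjective g) (ex : Function.Exact f g) :
    L n N = L n N' + L n N'' := by
  unfold L
  exact Module.length_eq_add_of_exact (LocalizedModule.map n.primeCompl f)
    (LocalizedModule.map n.primeCompl g) (LocalizedModule.map_injective _ f hf)
    (LocalizedModule.map_surjective _ g hg) (LocalizedModule.map_exact n.primeCompl f g ex)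

theorem L_congr {N : Type*} {N' : Type*} [AddCommGroup N] [Module B N] [AddCommGroup N'] [Module B N']
    (e : N ≃ₗ[B] N') : L n N = L n N' := by
  unfold L
  exact (IsLocalizedModule.mapEquiv n.primeCompl (LocalizedModule.mkLinearMap n.primeCompl N)
    (LocalizedModule.mkLinearMap n.primeCompl N') (Localization.AtPrime n) e).length_eq

theorem L_of_subsingleton (N : Type v) [AddCommGroup N] [Module B N] [Subsingleton N] :
    L n N = 0 := by
  unfold L
  rw [Module.length_eq_zero_iff]
  constructor
  intro x y
  induction x using LocalizedModule.induction_on with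
  | h a s =>
    induction y using LocalizedModule.induction_on with
    | h b t => rw [Subsingleton.elim a 0, Subsingleton.elim b 0, LocalizedModule.zero_mk,
        LocalizedModule.zero_mk]

/-- the residue module of another maximal ideal localizes to zero. -/
theorem L_quot_ne (n0 : Ideal B) [n0.IsMaximal] (h : ¬ n0 ≤ n) : L n (B ⧸ n0) = 0 := by
  unfold L
  rw [Module.length_eq_zero_iff]
  obtain ⟨s, hs0, hsn⟩ := Set.not_subset.mp h
  constructor
  intro x y
  have key : ∀ z : LocalizedModule n.primeCompl (B ⧸ n0), z = 0 := by
    intro z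
    induction z using LocalizedModule.induction_on with
    | h a t =>
      rw [← LocalizedModule.zero_mk t, LocalizedModule.mk_eq]
      refine ⟨⟨s, hsn⟩, ?_⟩
      have hs : ∀ z : B ⧸ n0, s • z = 0 := by
        intro z
        rw [Algebra.smul_def, Ideal.Quotient.algebraMap_eq,
          Ideal.Quotient.eq_zero_iff_mem.mpr hs0, zero_mul]
      simp only [smul_zero]
      rw [Submonoid.smul_def]
      exact hs _
  rw [key x, key y]

theorem isSimpleModule_of_restrictScalars (R S X : Type*) [CommRing R] [CommRing S] [Algebra R S]
    [AddCommGroup X] [Module R X] [Module S X] [IsScalarTower R S X] [IsSimpleModule R X] :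
    IsSimpleModule S X := by
  rw [isSimpleModule_iff]
  haveI : Nontrivial X := IsSimpleModule.nontrivial R X
  refine { toNontrivial := inferInstance, eq_bot_or_eq_top := fun N => ?_ }
  rcases eq_bot_or_eq_top (N.restrictScalars R) with h | h
  · left; exact (Submodule.restrictScalars_eq_bot_iff R S X).mp h
  · right; exact (Submodule.restrictScalars_eq_top_iff R S X).mp h

theorem isLocalizedModule_id_quot (n0 : Ideal B) [hn0 : n0.IsMaximal] :
    IsLocalizedModule n0.primeCompl (LinearMap.id : (B ⧸ n0) →ₗ[B] (B ⧸ n0)) where
  map_units s := by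
    letI := Ideal.Quotient.field n0
    rw [Module.End.isUnit_iff]
    have hs : Ideal.Quotient.mk n0 s.1 ≠ 0 := fun h => s.2 (Ideal.Quotient.eq_zero_iff_mem.mp h)
    have hmul : ∀ z : B ⧸ n0, (algebraMap B (Module.End B (B ⧸ n0)) s.1) z =
        Ideal.Quotient.mk n0 s.1 * z := by
      intro z
      rw [Module.algebraMap_end_apply, Algebra.smul_def, Ideal.Quotient.algebraMap_eq]
    constructor
    · intro x y hxy
      rw [hmul, hmul] at hxy
      exact mul_left_cancel₀ hs hxy
    · intro y
      refine ⟨(Ideal.Quotient.mk n0 s.1)⁻¹ * y, ?_⟩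
      rw [hmul, ← mul_assoc, mul_inv_cancel₀ hs, one_mul]
  surj y := ⟨⟨y, 1⟩, by simp⟩
  exists_of_eq h := ⟨1, by simpa using h⟩

/-- the residue module of a maximal ideal has local length one at that ideal. -/
theorem L_quot_self (n0 : Ideal B) [hn0 : n0.IsMaximal] : L n0 (B ⧸ n0) = 1 := by
  unfold L
  rw [Module.length_eq_one_iff]
  haveI := isLocalizedModule_id_quot n0
  haveI : IsSimpleModule B (B ⧸ n0) :=
    isSimpleModule_iff_quot_maximal.mpr ⟨n0, hn0, ⟨LinearEquiv.refl B _⟩⟩
  haveI : IsSimpleModule B (LocalizedModule n0.primeCompl (B ⧸ n0)) :=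
    IsSimpleModule.congr (IsLocalizedModule.iso n0.primeCompl
      (LinearMap.id : (B ⧸ n0) →ₗ[B] (B ⧸ n0)))
  exact isSimpleModule_of_restrictScalars B (Localization.AtPrime n0) _

end Loc

section Main

variable {A B : Type u} [CommRing A] [IsLocalRing A] [CommRing B] [Algebra A B]

/-- the residue degree of a maximal ideal of `B` over `A`. -/
noncomputable def deg (n : MaximalSpectrum B) : ℕ∞ :=
  (Module.finrank (A ⧸ n.asIdeal.comap (algebraMap A B)) (B ⧸ n.asIdeal) : ℕ∞)

variable
  (hover : ∀ n : MaximalSpectrum B, n.asIdeal.comap (algebraMap A B) = IsLocalRing.maximalIdeal A)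
  (hfin : ∀ n : MaximalSpectrum B,
    Module.Finite (A ⧸ n.asIdeal.comap (algebraMap A B)) (B ⧸ n.asIdeal))

include hover hfin in
theorem length_quot (n : MaximalSpectrum B) :
    Module.length A (B ⧸ n.asIdeal) = deg (A := A) n := by
  haveI : (n.asIdeal.comap (algebraMap A B)).IsMaximal := by rw [hover n]; infer_instance
  letI := Ideal.Quotient.field (n.asIdeal.comap (algebraMap A B))
  haveI := hfin n
  rw [Module.length_eq_of_surjective (S := A) (R := A ⧸ n.asIdeal.comap (algebraMap A B))
    (M := B ⧸ n.asIdeal) Ideal.Quotient.mk_surjective]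
  exact Module.length_eq_finrank _ _

variable {M : Type v} [AddCommGroup M] [Module B M] [Module A M] [IsScalarTower A B M]

open scoped Classical in
include hover hfin in
theorem covBy_step {p q : Submodule B M} (h : p ⋖ q) :
    ∃ n0 : MaximalSpectrum B, Module.length A q = Module.length A p + deg (A := A) n0 ∧
      ∀ n : MaximalSpectrum B, L n.asIdeal q = L n.asIdeal p + (if n = n0 then 1 else 0) := by
  let f : p →ₗ[B] q := Submodule.inclusion h.le
  have key : IsSimpleModule B (q ⧸ LinearMap.range f) := by
    rwa [Submodule.range_inclusion, ← covBy_iff_quot_is_simple h.le]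
  obtain ⟨m, hm, ⟨e⟩⟩ := isSimpleModule_iff_quot_maximal.mp key
  let n0 : MaximalSpectrum B := ⟨m, hm⟩
  let g : q →ₗ[B] B ⧸ m := e.toLinearMap.comp (LinearMap.range f).mkQ
  have hf : Function.Injective f := Submodule.inclusion_injective _
  have hg : Function.Surjective g := e.surjective.comp (LinearMap.range f).mkQ_surjective
  have hex : Function.Exact f g :=
    LinearMap.exact_iff.mpr ((e.ker_comp (LinearMap.range f).mkQ).trans (LinearMap.range f).ker_mkQ)
  refine ⟨n0, ?_, ?_⟩
  · rw [Module.length_eq_add_of_exact (f.restrictScalars A) (g.restrictScalars A)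
      (by simpa) (by simpa) (by simpa)]
    congr 1
    exact length_quot hover hfin n0
  · intro n
    rw [L_add n.asIdeal f g hf hg hex]
    congr 1
    split_ifs with hn
    · subst hn
      exact L_quot_self m
    · apply L_quot_ne
      intro hle
      apply hn
      have : m = n.asIdeal := hm.eq_of_le n.isMaximal.ne_top hle
      exact MaximalSpectrum.ext this.symm

include hover hfin in
/-- **the length over `A` of a finite length `B`-module** is the sum over the maximal ideals of
`B` of the residue degrees times the local lengths. -/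
theorem length_eq_finsum [Finite (MaximalSpectrum B)] (hM : IsFiniteLength B M) :
    Module.length A M = ∑ᶠ n : MaximalSpectrum B, deg (A := A) n * L n.asIdeal M := by
  classical
  haveI : Fintype (MaximalSpectrum B) := Fintype.ofFinite _
  obtain ⟨s, hs_bot, hs_top⟩ := isFiniteLength_iff_exists_compositionSeries.mp hM
  have key : ∀ k, Module.length A (s k) = ∑ n : MaximalSpectrum B, deg (A := A) n * L n.asIdeal (s k) := by
    intro k
    induction k using Fin.induction with
    | zero =>
      have h0 : s 0 = ⊥ := hs_bot
      rw [h0]
      haveI : Subsingleton (⊥ : Submodule B M) := inferInstance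
      rw [Module.length_eq_zero]
      symm
      apply Finset.sum_eq_zero
      intro n _
      rw [L_of_subsingleton, mul_zero]
    | succ i hi =>
      obtain ⟨n0, h1, h2⟩ := covBy_step hover hfin (s.step i)
      rw [h1, hi]
      simp_rw [h2, mul_add, Finset.sum_add_distrib]
      congr 1
      simp
  have htop : s (Fin.last s.length) = ⊤ := hs_top
  have h1 := key (Fin.last s.length)
  rw [htop] at h1
  rw [finsum_eq_sum_of_fintype]
  have e : (⊤ : Submodule B M) ≃ₗ[B] M := Submodule.topEquiv
  rw [← (e.restrictScalars A).length_eq, h1]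
  apply Finset.sum_congr rfl
  intro n _
  rw [L_congr n.asIdeal e]

end Main

end Groth.Agent.H1.SemiLocLen
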