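import Mathlib
import Groth.Agent.Lib.Helper1.Herbrand
import Groth.Agent.Lib.Helper1.SemiLocLen
import Groth.Agent.Lib.Helper6.SemiLocalDim

/-!
# Dévissage for the multiplicity `e(x, M) = ℓ(M/xM) - ℓ(M[x])` (helper1)
-/

set_option autoImplicit false
set_option linter.style.haveILetI false
universe u v

namespace Groth.Agent.H1.MultDev
open CycAlg Groth.Agent.H1.Herbrand Groth.Agent.H1.SemiLocLen
open scoped Pointwise

section Loc
variable {B : Type u} [CommRing B]

theorem L_quot_prime_ne (n p : Ideal B) [n.IsPrime] (h : ¬ p ≤ n) : L n (B ⧸ p) = 0 := by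
  unfold L
  rw [Module.length_eq_zero_iff]
  obtain ⟨s, hs0, hsn⟩ := Set.not_subset.mp h
  constructor
  intro x y
  have key : ∀ z : LocalizedModule n.primeCompl (B ⧸ p), z = 0 := by
    intro z
    induction z using LocalizedModule.induction_on with
    | h a t =>
      rw [← LocalizedModule.zero_mk t, LocalizedModule.mk_eq]
      refine ⟨⟨s, hsn⟩, ?_⟩
      have hs : ∀ z : B ⧸ p, s • z = 0 := by
        intro z
        rw [Algebra.smul_def, Ideal.Quotient.algebraMap_eq,
          Ideal.Quotient.eq_zero_iff_mem.mpr hs0, zero_mul]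
      simp only [smul_zero]
      rw [Submonoid.smul_def]
      exact hs _
  rw [key x, key y]

theorem L_quot_prime_self (p : Ideal B) [hp : p.IsPrime] : L p (B ⧸ p) = 1 := by
  unfold L
  rw [Module.length_eq_one_iff]
  set Rp := Localization.AtPrime p
  set Q := LocalizedModule p.primeCompl (B ⧸ p)
  let e : Q := LocalizedModule.mk (1 : B ⧸ p) 1
  let g : Rp →ₗ[Rp] Q := LinearMap.toSpanSingleton Rp Q e
  have hg : Function.Surjective g := by
    intro z
    induction z using LocalizedModule.induction_on with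
    | h a t =>
      obtain ⟨a, rfl⟩ := Ideal.Quotient.mk_surjective a
      refine ⟨Localization.mk a t, ?_⟩
      change (Localization.mk a t : Rp) • e = _
      rw [LocalizedModule.mk_smul_mk]
      congr 1
      · rw [Algebra.smul_def]; simp
      · simp
  have hker : LinearMap.ker g = IsLocalRing.maximalIdeal Rp := by
    have hne : LinearMap.ker g ≠ ⊤ := by
      intro htop
      have h1 : (1 : Rp) ∈ LinearMap.ker g := htop ▸ Submodule.mem_top
      rw [LinearMap.mem_ker] at h1
      have h2 : e = 0 := by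
        have : g 1 = e := by
          change (1 : Rp) • e = e
          rw [one_smul]
        rw [← this, h1]
      rw [← LocalizedModule.zero_mk (1 : p.primeCompl), LocalizedModule.mk_eq] at h2
      obtain ⟨u, hu⟩ := h2
      simp only [smul_zero, one_smul] at hu
      rw [Submonoid.smul_def, Algebra.smul_def, mul_one, Ideal.Quotient.algebraMap_eq,
        Ideal.Quotient.eq_zero_iff_mem] at hu
      exact u.2 hu
    have hle : IsLocalRing.maximalIdeal Rp ≤ LinearMap.ker g := by
      intro r hr
      obtain ⟨a, t, rfl⟩ := IsLocalization.exists_mk'_eq p.primeCompl r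
      rw [IsLocalization.AtPrime.mk'_mem_maximal_iff Rp p] at hr
      rw [LinearMap.mem_ker]
      change (IsLocalization.mk' Rp a t : Rp) • e = 0
      rw [← Localization.mk_eq_mk', LocalizedModule.mk_smul_mk]
      rw [← LocalizedModule.zero_mk (t * 1)]
      congr 1
      rw [Algebra.smul_def, mul_one, Ideal.Quotient.algebraMap_eq,
        Ideal.Quotient.eq_zero_iff_mem]
      exact hr
    exact ((IsLocalRing.maximalIdeal.isMaximal Rp).eq_of_le hne hle).symm
  haveI : IsSimpleModule Rp (Rp ⧸ LinearMap.ker g) := by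
    rw [hker]
    exact isSimpleModule_iff_quot_maximal.mpr
      ⟨_, IsLocalRing.maximalIdeal.isMaximal Rp, ⟨LinearEquiv.refl Rp _⟩⟩
  exact IsSimpleModule.congr (g.quotKerEquivOfSurjective hg).symm

end Loc


section Mult
variable {R : Type u} [CommRing R] (x : R)

/-- multiplication by `x`. -/
abbrev mulx (N : Type v) [AddCommGroup N] [Module R N] : N →ₗ[R] N := LinearMap.lsmul R N x

theorem isPeriodic_mulx (N : Type v) [AddCommGroup N] [Module R N] :
    IsPeriodic (mulx x N) (0 : N →ₗ[R] N) := ⟨by simp, by simp⟩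

theorem length_perH_mulx_zero (N : Type v) [AddCommGroup N] [Module R N] :
    Module.length R (perH (mulx x N) (0 : N →ₗ[R] N)) =
      Module.length R (LinearMap.ker (mulx x N)) := by
  refine (Submodule.quotEquivOfEqBot _ ?_).length_eq
  rw [Submodule.eq_bot_iff]
  rintro ⟨y, hy⟩ ⟨n, hn⟩
  apply Subtype.ext
  exact hn.symm

theorem length_perH_zero_mulx (N : Type v) [AddCommGroup N] [Module R N] :
    Module.length R (perH (0 : N →ₗ[R] N) (mulx x N)) =
      Module.length R (N ⧸ x • (⊤ : Submodule R N)) := by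
  let h : N →ₗ[R] perH (0 : N →ₗ[R] N) (mulx x N) :=
    ((LinearMap.range (mulx x N)).submoduleOf (LinearMap.ker (0 : N →ₗ[R] N))).mkQ ∘ₗ
      LinearMap.codRestrict (LinearMap.ker (0 : N →ₗ[R] N)) LinearMap.id (fun n => by simp)
  have hs : Function.Surjective h := by
    intro Y
    induction Y using Submodule.Quotient.induction_on with
    | H y => exact ⟨y.1, rfl⟩
  have hk : LinearMap.ker h = x • (⊤ : Submodule R N) := by
    ext n
    rw [LinearMap.mem_ker]
    change (Submodule.Quotient.mk ⟨n, _⟩ : perH (0 : N →ₗ[R] N) (mulx x N)) = 0 ↔ _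
    rw [perH_mk_eq_zero, Submodule.mem_smul_pointwise_iff_exists]
    constructor
    · rintro ⟨m, hm⟩; exact ⟨m, trivial, hm⟩
    · rintro ⟨m, -, hm⟩; exact ⟨m, hm⟩
  rw [← (h.quotKerEquivOfSurjective hs).length_eq]
  exact (Submodule.quotEquivOfEq _ _ hk).length_eq

end Mult


section Dev
variable {R : Type u} [CommRing R] (x : R)

/-- the summand at a prime. -/
noncomputable def term (p : PrimeSpectrum R) (N : Type v) [AddCommGroup N] [Module R N] : ℕ∞ :=
  Ring.ord (R ⧸ p.asIdeal) (Ideal.Quotient.mk p.asIdeal x) * L p.asIdeal N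

/-- the conclusion of the dévissage. -/
def Concl (s : Finset (PrimeSpectrum R)) (N : Type v) [AddCommGroup N] [Module R N] : Prop :=
  FinCoh R (mulx x N) (0 : N →ₗ[R] N) ∧ (∑ p ∈ s, term x p N) ≠ ⊤ ∧
    herbrand R (mulx x N) (0 : N →ₗ[R] N) = - ((∑ p ∈ s, term x p N).toNat : ℤ)

theorem length_perH_le {M N : Type v} [AddCommGroup M] [Module R M] [AddCommGroup N] [Module R N]
    (φ : M →ₗ[R] N) (ψ : N →ₗ[R] M) : Module.length R (perH φ ψ) ≤ Module.length R M :=
  (Module.length_le_of_surjective _ (Submodule.mkQ_surjective _)).trans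
    (Module.length_le_of_injective _ (Submodule.injective_subtype _))

theorem concl_subsingleton (s : Finset (PrimeSpectrum R)) (N : Type v) [AddCommGroup N]
    [Module R N] [Subsingleton N] : Concl x s N := by
  have h0 : Module.length R N = 0 := Module.length_eq_zero
  have h1 : Module.length R (perH (mulx x N) (0 : N →ₗ[R] N)) = 0 :=
    le_antisymm ((length_perH_le _ _).trans h0.le) bot_le
  have h2 : Module.length R (perH (0 : N →ₗ[R] N) (mulx x N)) = 0 :=
    le_antisymm ((length_perH_le _ _).trans h0.le) bot_le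
  have h3 : ∑ p ∈ s, term x p N = 0 := by
    apply Finset.sum_eq_zero
    intro p _
    unfold term
    rw [L_of_subsingleton, mul_zero]
  refine ⟨⟨by rw [h1]; exact ENat.top_pos, by rw [h2]; exact ENat.top_pos⟩, ?_, ?_⟩
  · rw [h3]; exact ENat.zero_ne_top
  · unfold herbrand
    rw [h1, h2, h3]; simp

theorem concl_exact (s : Finset (PrimeSpectrum R)) {N₁ N₂ N₃ : Type v} [AddCommGroup N₁]
    [Module R N₁] [AddCommGroup N₂] [Module R N₂] [AddCommGroup N₃] [Module R N₃]
    (f : N₁ →ₗ[R] N₂) (g : N₂ →ₗ[R] N₃) (hf : Function.Injective f) (hg : Function.Surjective g)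
    (ex : Function.Exact f g) (h₁ : Concl x s N₁) (h₃ : Concl x s N₃) : Concl x s N₂ := by
  obtain ⟨f1, n1, e1⟩ := h₁
  obtain ⟨f3, n3, e3⟩ := h₃
  have hr : LinearMap.range f = LinearMap.ker g := (LinearMap.exact_iff.mp ex).symm
  obtain ⟨-, f2, -, e2⟩ := herbrand_shortExact (φ₁ := mulx x N₁) (ψ₁ := 0) (φ₂ := mulx x N₂)
    (ψ₂ := 0) (φ₃ := mulx x N₃) (ψ₃ := 0) (f₁ := f) (g₁ := f) (f₂ := g) (g₂ := g)
    (isPeriodic_mulx x N₂)
    (by ext n; simp) (by ext n; simp) (by ext n; simp) (by ext n; simp) hf hf hg hg hr hr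
    (Or.inr (Or.inl ⟨f1, f3⟩))
  have hsum : ∑ p ∈ s, term x p N₂ = ∑ p ∈ s, term x p N₁ + ∑ p ∈ s, term x p N₃ := by
    rw [← Finset.sum_add_distrib]
    apply Finset.sum_congr rfl
    intro p _
    unfold term
    rw [L_add p.asIdeal f g hf hg ex, mul_add]
  refine ⟨f2, ?_, ?_⟩
  · rw [hsum]; exact WithTop.add_ne_top.mpr ⟨n1, n3⟩
  · rw [e2, e1, e3, hsum, ENat.toNat_add n1 n3]
    push_cast; ring

end Dev


section Prime
variable {R : Type u} [CommRing R] [IsNoetherianRing R] [IsLocalRing R] (x : R)

theorem ord_quot_eq (p : PrimeSpectrum R) :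
    Ring.ord (R ⧸ p.asIdeal) (Ideal.Quotient.mk p.asIdeal x) =
      Module.length R ((R ⧸ p.asIdeal) ⧸ x • (⊤ : Submodule R (R ⧸ p.asIdeal))) := by
  unfold Ring.ord
  rw [← Module.length_eq_of_surjective (S := R) (R := R ⧸ p.asIdeal)
    (M := (R ⧸ p.asIdeal) ⧸ Ideal.span {Ideal.Quotient.mk p.asIdeal x})
    Ideal.Quotient.mk_surjective]
  have hk : (Ideal.span {Ideal.Quotient.mk p.asIdeal x}).restrictScalars R =
      x • (⊤ : Submodule R (R ⧸ p.asIdeal)) := by
    ext z
    rw [Submodule.restrictScalars_mem, Ideal.mem_span_singleton',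
      Submodule.mem_smul_pointwise_iff_exists]
    constructor
    · rintro ⟨a, rfl⟩
      refine ⟨a, trivial, ?_⟩
      rw [Algebra.smul_def, Ideal.Quotient.algebraMap_eq, mul_comm]
    · rintro ⟨b, -, rfl⟩
      refine ⟨b, ?_⟩
      rw [Algebra.smul_def, Ideal.Quotient.algebraMap_eq, mul_comm]
  rw [← (Submodule.quotEquivOfEq _ _ hk).length_eq]
  exact (Submodule.Quotient.restrictScalarsEquiv R
    (Ideal.span {Ideal.Quotient.mk p.asIdeal x})).symm.length_eq


theorem concl_quot_prime (T : Set (PrimeSpectrum R))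
    (hA : ∀ p ∈ T, x ∈ p.asIdeal → p = IsLocalRing.closedPoint R)
    (hB : ∀ p ∈ T, ∀ q ∈ T, p < q → q = IsLocalRing.closedPoint R)
    (s : Finset (PrimeSpectrum R)) (hs : ∀ p, p ∈ s ↔ p ∈ T ∧ p ≠ IsLocalRing.closedPoint R)
    (p : PrimeSpectrum R) (hp : PrimeSpectrum.zeroLocus (p.asIdeal : Set R) ⊆ T) :
    Concl x s (R ⧸ p.asIdeal) := by
  have hpT : p ∈ T := hp (by rw [PrimeSpectrum.mem_zeroLocus])
  by_cases hpm : p = IsLocalRing.closedPoint R
  · -- residue field: finite length
    subst hpm
    have hl : Module.length R (R ⧸ (IsLocalRing.closedPoint R).asIdeal) < ⊤ := by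
      have : IsSimpleModule R (R ⧸ (IsLocalRing.closedPoint R).asIdeal) :=
        isSimpleModule_iff_quot_maximal.mpr
          ⟨_, IsLocalRing.maximalIdeal.isMaximal R, ⟨LinearEquiv.refl R _⟩⟩
      rw [Module.length_eq_one]; exact ENat.one_lt_top
    obtain ⟨h1, h2⟩ := herbrand_eq_zero_of_length_lt_top
      (mulx x (R ⧸ (IsLocalRing.closedPoint R).asIdeal)) 0 (isPeriodic_mulx x _) hl
    have h3 : ∑ q ∈ s, term x q (R ⧸ (IsLocalRing.closedPoint R).asIdeal) = 0 := by
      apply Finset.sum_eq_zero
      intro q hq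
      unfold term
      rw [L_quot_prime_ne, mul_zero]
      intro hle
      have hq' := ((hs q).mp hq).2
      apply hq'
      apply PrimeSpectrum.ext
      exact (IsLocalRing.eq_maximalIdeal
        ((IsLocalRing.maximalIdeal.isMaximal R).eq_of_le q.isPrime.ne_top hle ▸
          IsLocalRing.maximalIdeal.isMaximal R))
    refine ⟨h1, ?_, ?_⟩
    · rw [h3]; exact ENat.zero_ne_top
    · rw [h2, h3]; simp
  · -- one-dimensional domain
    have hps : p ∈ s := (hs p).mpr ⟨hpT, hpm⟩
    have hx : x ∉ p.asIdeal := fun h => hpm (hA p hpT h)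
    set N := R ⧸ p.asIdeal with hN
    have hker : Module.length R (perH (mulx x N) (0 : N →ₗ[R] N)) = 0 := by
      rw [length_perH_mulx_zero, Module.length_eq_zero_iff]
      constructor
      rintro ⟨a, ha⟩ ⟨b, hb⟩
      have key : ∀ z : N, x • z = 0 → z = 0 := by
        intro z hz
        rw [Algebra.smul_def, Ideal.Quotient.algebraMap_eq] at hz
        rcases mul_eq_zero.mp hz with h | h
        · exact absurd (Ideal.Quotient.eq_zero_iff_mem.mp h) hx
        · exact h
      apply Subtype.ext
      change a = b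
      rw [key a ha, key b hb]
    have hcok : Module.length R (perH (0 : N →ₗ[R] N) (mulx x N)) =
        Ring.ord (R ⧸ p.asIdeal) (Ideal.Quotient.mk p.asIdeal x) := by
      rw [length_perH_zero_mulx, ord_quot_eq]
    have hfin : Ring.ord (R ⧸ p.asIdeal) (Ideal.Quotient.mk p.asIdeal x) ≠ ⊤ := by
      rw [ord_quot_eq, Module.length_ne_top_iff,
        Groth.Agent.H6.SLD.isFiniteLength_iff_supportDim_le_zero]
      have hsub : Module.support R (N ⧸ x • (⊤ : Submodule R N)) ⊆ {IsLocalRing.closedPoint R} := by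
        intro q hq
        have hq' := hq
        change q ∈ Module.support R (QuotSMulTop x N) at hq'
        rw [Module.support_quotSMulTop, Set.mem_inter_iff, PrimeSpectrum.mem_zeroLocus,
          Set.singleton_subset_iff] at hq'
        have hqT : q ∈ T := by
          apply hp
          rw [PrimeSpectrum.mem_zeroLocus]
          have := hq'.1
          rw [Module.mem_support_iff_of_finite, Ideal.annihilator_quotient] at this
          exact this
        exact hA q hqT hq'.2
      unfold Module.supportDim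
      haveI : Subsingleton (Module.support R (N ⧸ x • (⊤ : Submodule R N))) :=
        ⟨fun a b => Subtype.ext ((hsub a.2).trans (hsub b.2).symm)⟩
      exact Order.krullDim_nonpos_of_subsingleton
    have hsum : ∑ q ∈ s, term x q N = Ring.ord (R ⧸ p.asIdeal) (Ideal.Quotient.mk p.asIdeal x) := by
      rw [Finset.sum_eq_single p]
      · unfold term
        rw [L_quot_prime_self, mul_one]
      · intro q hq hqp
        unfold term
        rw [L_quot_prime_ne, mul_zero]
        intro hle
        have hlt : p < q := lt_of_le_of_ne hle (Ne.symm hqp)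
        exact ((hs q).mp hq).2 (hB p hpT q ((hs q).mp hq).1 hlt)
      · intro h; exact absurd hps h
    refine ⟨⟨by rw [hker]; exact ENat.top_pos, by rw [hcok]; exact hfin.lt_top⟩, ?_, ?_⟩
    · rw [hsum]; exact hfin
    · unfold herbrand
      rw [hker, hcok, hsum]; simp


theorem concl_of_support (T : Set (PrimeSpectrum R))
    (hA : ∀ p ∈ T, x ∈ p.asIdeal → p = IsLocalRing.closedPoint R)
    (hB : ∀ p ∈ T, ∀ q ∈ T, p < q → q = IsLocalRing.closedPoint R)
    (s : Finset (PrimeSpectrum R)) (hs : ∀ p, p ∈ s ↔ p ∈ T ∧ p ≠ IsLocalRing.closedPoint R)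
    (M : Type u) [AddCommGroup M] [Module R M] [hfin : Module.Finite R M]
    (hM : Module.support R M ⊆ T) : Concl x s M := by
  revert hM
  induction hfin using IsNoetherianRing.induction_on_isQuotientEquivQuotientPrime R with
  | subsingleton N => intro _; exact concl_subsingleton x s N
  | quotient N p f =>
    intro hN
    have hp : PrimeSpectrum.zeroLocus (p.asIdeal : Set R) ⊆ T := by
      intro q hq
      apply hN
      rw [f.support_eq, Module.mem_support_iff_of_finite, Ideal.annihilator_quotient]
      exact hq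
    have h1 := concl_quot_prime x T hA hB s hs p hp
    exact concl_exact x s (0 : PUnit.{u+1} →ₗ[R] N) f.toLinearMap
      (Function.injective_of_subsingleton _) f.surjective
      (by
        intro n
        constructor
        · intro hn
          refine ⟨0, ?_⟩
          rw [map_zero]
          exact (f.injective (by rw [map_zero]; exact hn)).symm
        · rintro ⟨_, rfl⟩
          simp)
      (concl_subsingleton x s PUnit.{u+1}) h1
  | exact N₁ N₂ N₃ f g hf hg ex h₁ h₃ =>
    intro hN
    exact concl_exact x s f g hf hg ex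
      (h₁ ((Module.support_subset_of_injective f hf).trans hN))
      (h₃ ((Module.support_subset_of_surjective g hg).trans hN))

end Prime

end Groth.Agent.H1.MultDev
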