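import Mathlib
import Groth.Agent.Lib.Helper1.RegRing
import Groth.Agent.Lib.Helper7.Reg1
import Groth.Agent.S5779
import Groth.Agent.Lib.Helper1.RegSeq
import Groth.Agent.Lib.Helper1.RegParam

/-! Helper1: regularity of quotients via derivations (Jacobian-type criteria). -/

set_option autoImplicit false

universe u

open IsLocalRing

namespace Groth.Agent.H1.RegDer

/-- A derivation maps `p²` into `p`. -/
theorem derivation_mem_of_mem_sq {R : Type u} [CommRing R] (D : Derivation ℤ R R) (p : Ideal R)
    (a : R) (ha : a ∈ p ^ 2) : D a ∈ p := by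
  rw [pow_two] at ha
  refine Submodule.mul_induction_on ha ?_ ?_
  · intro b hb c hc
    rw [Derivation.leibniz]
    refine p.add_mem ?_ ?_
    · rw [smul_eq_mul]; exact p.mul_mem_right (D c) hb
    · rw [smul_eq_mul]; exact p.mul_mem_right (D b) hc
  · intro x y hx hy
    rw [map_add]
    exact p.add_mem hx hy

/-- If `f ∈ p` and `D f ∉ p` then the image of `f` in `R_p` is not in the square of the maximal
ideal. -/
theorem not_mem_sq_of_derivation {R : Type u} [CommRing R] (D : Derivation ℤ R R) (p : Ideal R)
    [p.IsPrime] (f : R) (hf : f ∈ p) (hD : D f ∉ p) :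
    algebraMap R (Localization.AtPrime p) f ∉ maximalIdeal (Localization.AtPrime p) ^ 2 := by
  intro h
  rw [← Localization.AtPrime.map_eq_maximalIdeal, ← Ideal.map_pow,
    IsLocalization.mem_map_algebraMap_iff p.primeCompl] at h
  obtain ⟨⟨⟨a, ha⟩, ⟨s, hs⟩⟩, h⟩ := h
  simp only at h
  rw [← map_mul] at h
  obtain ⟨⟨t, ht⟩, hts⟩ := (IsLocalization.eq_iff_exists p.primeCompl _).mp h
  simp only at hts
  -- t * (f * s) = t * a ∈ p²
  have h1 : t * (f * s) ∈ p ^ 2 := by rw [hts]; exact Ideal.mul_mem_left _ _ ha
  have h2 := derivation_mem_of_mem_sq D p _ h1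
  have h3 : D (t * (f * s)) = (t * s) * D f + f * D (t * s) := by
    have : t * (f * s) = (t * s) * f := by ring
    rw [this, Derivation.leibniz]
    simp [smul_eq_mul]
  rw [h3] at h2
  have h4 : (t * s) * D f ∈ p := by
    have := p.sub_mem h2 (p.mul_mem_right (D (t * s)) hf)
    simpa using this
  rcases (Ideal.IsPrime.mem_or_mem ‹p.IsPrime› h4) with h5 | h5
  · rcases (Ideal.IsPrime.mem_or_mem ‹p.IsPrime› h5) with h6 | h6
    · exact ht h6
    · exact hs h6
  · exact hD h5


/-- In a regular local ring, the quotient by an element of `𝔪 \ 𝔪²` is regular (dimension-free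
form). -/
theorem isRegularLocalRing_quotient_of_not_mem_sq (A : Type u) [CommRing A] [IsRegularLocalRing A]
    (x : A) (hx : x ∈ maximalIdeal A) (hx2 : x ∉ maximalIdeal A ^ 2) :
    IsRegularLocalRing (A ⧸ Ideal.span ({x} : Set A)) := by
  have h := IsRegularLocalRing.spanFinrank_maximalIdeal (R := A)
  rcases Nat.eq_zero_or_pos (maximalIdeal A).spanFinrank with h0 | h0
  · exfalso
    have h1 : maximalIdeal A = ⊥ := by
      have := (Submodule.spanFinrank_eq_zero_iff_eq_bot
        (maximalIdeal A).fg_of_isNoetherianRing).mp h0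
      exact this
    rw [h1] at hx hx2
    apply hx2
    rw [Ideal.mem_bot] at hx
    rw [hx]
    exact Ideal.zero_mem _
  · obtain ⟨d, hd⟩ := Nat.exists_eq_succ_of_ne_zero (Nat.pos_iff_ne_zero.mp h0)
    exact (Groth.Agent.H7.Reg.quotient_regular x hx hx2 d (by rw [← h, hd])).1

/-- Quotient of a regular ring by an element which, at every prime containing it, is not in the
square of the maximal ideal of the local ring. -/
theorem isRegularRing_quotient_span_singleton (R : Type u) [CommRing R] [IsRegularRing R] (f : R)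
    (h : ∀ (p : Ideal R) [p.IsPrime], f ∈ p →
      algebraMap R (Localization.AtPrime p) f ∉ maximalIdeal (Localization.AtPrime p) ^ 2) :
    IsRegularRing (R ⧸ Ideal.span ({f} : Set R)) := by
  set I : Ideal R := Ideal.span ({f} : Set R) with hI
  rw [isRegularRing_iff]
  intro qbar hqbar
  have hsurj : Function.Surjective (Ideal.Quotient.mk I) := Ideal.Quotient.mk_surjective
  set p : Ideal R := qbar.comap (Ideal.Quotient.mk I) with hp
  haveI : p.IsPrime := Ideal.comap_isPrime _ _
  have hIp : I ≤ p := by
    intro y hy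
    rw [hp, Ideal.mem_comap, Ideal.Quotient.eq_zero_iff_mem.mpr hy]
    exact Ideal.zero_mem _
  have hfp : f ∈ p := hIp (Ideal.subset_span rfl)
  have hmap : p.map (Ideal.Quotient.mk I) = qbar := Ideal.map_comap_of_surjective _ hsurj _
  set Rp := Localization.AtPrime p
  set f' : Rp := algebraMap R Rp f with hf'
  have hf'm : f' ∈ maximalIdeal Rp := (IsLocalization.AtPrime.to_map_mem_maximal_iff Rp p f).mpr hfp
  have hsub : Algebra.algebraMapSubmonoid (R ⧸ I) p.primeCompl = qbar.primeCompl := by
    ext y
    rw [Ideal.mem_primeCompl_iff]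
    constructor
    · rintro ⟨b, hb, rfl⟩ hmem
      exact hb hmem
    · intro hy
      obtain ⟨b, rfl⟩ := hsurj y
      exact ⟨b, fun hbn => hy hbn, rfl⟩
  haveI : IsLocalization.AtPrime (Rp ⧸ I.map (algebraMap R Rp)) qbar := by
    have : IsLocalization (Algebra.algebraMapSubmonoid (R ⧸ I) p.primeCompl)
        (Rp ⧸ I.map (algebraMap R Rp)) := inferInstance
    unfold IsLocalization.AtPrime
    rw [← hsub]
    exact this
  have hmapI : I.map (algebraMap R Rp) = Ideal.span ({f'} : Set Rp) := by
    rw [hI, Ideal.map_span, Set.image_singleton]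
  haveI : IsRegularLocalRing (Rp ⧸ Ideal.span ({f'} : Set Rp)) :=
    isRegularLocalRing_quotient_of_not_mem_sq Rp f' hf'm (h p hfp)
  haveI : IsRegularLocalRing (Rp ⧸ I.map (algebraMap R Rp)) :=
    IsRegularLocalRing.of_ringEquiv (Ideal.quotEquivOfEq hmapI.symm)
  exact IsRegularLocalRing.of_ringEquiv
    (IsLocalization.algEquiv qbar.primeCompl (Rp ⧸ I.map (algebraMap R Rp))
      (Localization.AtPrime qbar)).toRingEquiv

/-- `R` regular, `D` a derivation with `D f` a unit modulo `f`: then `R/(f)` is regular. -/
theorem isRegularRing_quotient_of_derivation (R : Type u) [CommRing R] [IsRegularRing R]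
    (f : R) (D : Derivation ℤ R R)
    (hD : IsUnit (Ideal.Quotient.mk (Ideal.span {f}) (D f))) :
    IsRegularRing (R ⧸ Ideal.span ({f} : Set R)) := by
  apply isRegularRing_quotient_span_singleton
  intro p hp hfp
  apply not_mem_sq_of_derivation D p f hfp
  intro hDp
  have hle : Ideal.span ({f} : Set R) ≤ p := by
    rw [Ideal.span_le, Set.singleton_subset_iff]; exact hfp
  have h1 : Ideal.Quotient.mk (Ideal.span {f}) (D f) ∈ p.map (Ideal.Quotient.mk (Ideal.span {f})) :=
    Ideal.mem_map_of_mem _ hDp
  have h2 : p.map (Ideal.Quotient.mk (Ideal.span {f})) = ⊤ := Ideal.eq_top_of_isUnit_mem _ h1 hD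
  have h3 : (p.map (Ideal.Quotient.mk (Ideal.span {f}))).comap (Ideal.Quotient.mk (Ideal.span {f}))
      = p := by
    rw [Ideal.comap_map_of_surjective _ Ideal.Quotient.mk_surjective, ← RingHom.ker_eq_comap_bot,
      Ideal.mk_ker, sup_eq_left]
    exact hle
  rw [h2, Ideal.comap_top] at h3
  exact hp.ne_top h3.symm

end Groth.Agent.H1.RegDer

namespace Groth.Agent.H1.RegDer

open Polynomial

/-- Coefficientwise extension of a derivation to the polynomial ring. -/
noncomputable def polyDer {R : Type u} [CommRing R] (D : Derivation ℤ R R) :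
    @Derivation ℤ R[X] R[X] _ _ _ (Ring.toIntAlgebra R[X]) _ _ where
  toLinearMap := AddMonoidHom.toIntLinearMap
    ((PolynomialModule.equivPolynomialSelf.compDer D.mapCoeffs : R[X] →ₗ[ℤ] R[X]) : R[X] →+ R[X])
  map_one_eq_zero' := (PolynomialModule.equivPolynomialSelf.compDer D.mapCoeffs).map_one_eq_zero
  leibniz' := (PolynomialModule.equivPolynomialSelf.compDer D.mapCoeffs).leibniz

theorem coeff_polyDer {R : Type u} [CommRing R] (D : Derivation ℤ R R) (p : R[X]) (i : ℕ) :
    ((polyDer D) p).coeff i = D (p.coeff i) := rfl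

theorem polyDer_eq {R : Type u} [CommRing R] (D : Derivation ℤ R R) (f : R) (p : ℤ[X]) :
    (polyDer D) (Polynomial.map (Int.castRingHom R) p - C f) = - C (D f) := by
  ext i
  rw [coeff_polyDer, coeff_sub, map_sub, coeff_map, coeff_neg, coeff_C, coeff_C]
  have h0 : D ((Int.castRingHom R) (p.coeff i)) = 0 := by
    have := D.map_algebraMap (p.coeff i)
    simpa using this
  rw [h0, zero_sub]
  split_ifs
  · rfl
  · rw [map_zero]

theorem isRegularRing_polynomial_quotient (R : Type u) [CommRing R]
    [IsRegularRing R] (f : R) (D : Derivation ℤ R R) (hD : IsUnit (D f)) (p : Polynomial ℤ) :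
    IsRegularRing (Polynomial R ⧸
      Ideal.span ({Polynomial.map (Int.castRingHom R) p - Polynomial.C f} : Set (Polynomial R))) := by
  apply isRegularRing_quotient_of_derivation R[X] _ (polyDer D)
  rw [polyDer_eq]
  apply IsUnit.map
  exact (hD.map C).neg

end Groth.Agent.H1.RegDer

namespace Groth.Agent.H1.RegDer

/-- Jacobian criterion for linear independence in the cotangent space. -/
theorem linearIndependent_toCotangent_of_derivations {R : Type u} [CommRing R] [IsLocalRing R]
    (m : ℕ) (f : Fin m → maximalIdeal R) (D : Fin m → Derivation ℤ R R)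
    (hdet : IsUnit (Matrix.det (Matrix.of (fun i j : Fin m => D i (f j : R))))) :
    LinearIndependent (ResidueField R) (fun j => (maximalIdeal R).toCotangent (f j)) := by
  rw [Fintype.linearIndependent_iff]
  intro c hc
  choose a ha using fun j => IsLocalRing.residue_surjective (c j)
  have hw : (maximalIdeal R).toCotangent (∑ j, a j • f j) = 0 := by
    rw [map_sum, ← hc]
    refine Finset.sum_congr rfl (fun j _ => ?_)
    rw [map_smul, ← ha j]
    exact (IsScalarTower.algebraMap_smul (ResidueField R) (a j) _).symm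
  rw [Ideal.toCotangent_eq_zero] at hw
  have hcoe : ((∑ j, a j • f j : maximalIdeal R) : R) = ∑ j, a j * (f j : R) := by
    rw [Submodule.coe_sum]
    rfl
  rw [hcoe] at hw
  -- apply D i
  have hDi : ∀ i, ∑ j, D i (f j : R) * a j ∈ maximalIdeal R := by
    intro i
    have h1 := derivation_mem_of_mem_sq (D i) (maximalIdeal R) _ hw
    rw [map_sum] at h1
    have h2 : ∑ j, D i (a j * (f j : R)) =
        ∑ j, D i (f j : R) * a j + ∑ j, (f j : R) * D i (a j) := by
      rw [← Finset.sum_add_distrib]
      refine Finset.sum_congr rfl (fun j _ => ?_)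
      rw [Derivation.leibniz]
      simp only [smul_eq_mul]
      ring
    rw [h2] at h1
    have h3 : ∑ j, (f j : R) * D i (a j) ∈ maximalIdeal R :=
      Ideal.sum_mem _ (fun j _ => Ideal.mul_mem_right _ _ (f j).2)
    have := (maximalIdeal R).sub_mem h1 h3
    simpa using this
  -- matrix over the residue field
  set M : Matrix (Fin m) (Fin m) R := Matrix.of (fun i j : Fin m => D i (f j : R)) with hM
  have hMv : (M.map (residue R)).mulVec c = 0 := by
    funext i
    rw [Matrix.mulVec, dotProduct]
    simp only [Matrix.map_apply, Pi.zero_apply]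
    have : ∑ j, residue R (M i j) * c j = residue R (∑ j, D i (f j : R) * a j) := by
      rw [map_sum]
      refine Finset.sum_congr rfl (fun j _ => ?_)
      rw [map_mul, ha j]
      rfl
    rw [this]
    exact (residue_eq_zero_iff _).mpr (hDi i)
  have hdet' : (M.map (residue R)).det ≠ 0 := by
    have : (M.map (residue R)).det = residue R M.det := by
      rw [← RingHom.mapMatrix_apply, ← RingHom.map_det]
    rw [this]
    exact (hdet.map (residue R)).ne_zero
  have := Matrix.eq_zero_of_mulVec_eq_zero hdet' hMv
  intro j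
  rw [this]
  rfl

end Groth.Agent.H1.RegDer

namespace Groth.Agent.H1.RegDer

theorem range_fin_append {α : Type*} {m n : ℕ} (a : Fin m → α) (b : Fin n → α) :
    Set.range (Fin.append a b) = Set.range a ∪ Set.range b := by
  ext z
  constructor
  · rintro ⟨i, rfl⟩
    induction i using Fin.addCases with
    | left i => rw [Fin.append_left]; exact Or.inl ⟨i, rfl⟩
    | right i => rw [Fin.append_right]; exact Or.inr ⟨i, rfl⟩
  · rintro (⟨i, rfl⟩ | ⟨i, rfl⟩)
    · exact ⟨Fin.castAdd n i, Fin.append_left a b i⟩
    · exact ⟨Fin.natAdd m i, Fin.append_right a b i⟩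

/-- Elements of `𝔪` with linearly independent classes in `𝔪/𝔪²` of a regular local ring form a
regular sequence with regular quotient. -/
theorem regular_of_linearIndependent (R : Type u) [CommRing R] [IsRegularLocalRing R] (m : ℕ)
    (f : Fin m → R) (hf : ∀ i, f i ∈ maximalIdeal R)
    (hli : LinearIndependent (ResidueField R)
      (fun j => (maximalIdeal R).toCotangent (⟨f j, hf j⟩ : maximalIdeal R))) :
    IsRegularLocalRing (R ⧸ Ideal.span (Set.range f)) ∧
      RingTheory.Sequence.IsRegular R (List.ofFn f) := by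
  classical
  set x : Fin m → maximalIdeal R := fun j => ⟨f j, hf j⟩ with hx
  have hle : Ideal.span (Set.range f) ≤ maximalIdeal R := by
    rw [Ideal.span_le]; rintro _ ⟨i, rfl⟩; exact hf i
  have hne : Ideal.span (Set.range f) ≠ ⊤ := by
    intro h
    rw [h] at hle
    exact (maximalIdeal.isMaximal R).ne_top (top_le_iff.mp hle)
  haveI : Nontrivial (R ⧸ Ideal.span (Set.range f)) := Ideal.Quotient.nontrivial_iff.mpr hne
  haveI : IsLocalRing (R ⧸ Ideal.span (Set.range f)) :=
    IsLocalRing.of_surjective' (Ideal.Quotient.mk _) Ideal.Quotient.mk_surjective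
  refine ⟨(Groth.Agent.S5779.forward R m x inferInstance hli).2, ?_⟩
  obtain ⟨e, y, he, hgen⟩ := Groth.Agent.H1.Reg.exists_extension_generators m x hli
  rw [← IsLocalRing.spanFinrank_maximalIdeal_eq_finrank_cotangentSpace] at he
  have hd : ringKrullDim R = ((m + e : ℕ) : WithBot ℕ∞) := by
    rw [← IsRegularLocalRing.spanFinrank_maximalIdeal (R := R), ← he, add_comm]
  have hspan : Ideal.span (Set.range (Fin.append f (fun j => (y j : R)))) = maximalIdeal R := by
    rw [range_fin_append]
    exact hgen
  have hreg := Groth.Agent.H1.Reg.isRegular_ofFn (m + e) hd (Fin.append f (fun j => (y j : R))) hspan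
  rw [List.ofFn_fin_append] at hreg
  have hw := ((RingTheory.Sequence.isWeaklyRegular_append_iff R _ _).mp hreg.toIsWeaklyRegular).1
  apply RingTheory.Sequence.IsRegular.of_isWeaklyRegular_of_mem_maximalIdeal _ _ hw
  intro r hr
  rw [List.mem_ofFn] at hr
  obtain ⟨i, rfl⟩ := hr
  exact hf i


/-- Jacobian criterion: derivations with invertible Jacobian matrix on elements of `𝔪`. -/
theorem regular_of_derivations (R : Type u) [CommRing R]
    [IsRegularLocalRing R] (m : ℕ) (f : Fin m → R)
    (hf : ∀ i, f i ∈ IsLocalRing.maximalIdeal R) (D : Fin m → Derivation ℤ R R)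
    (hdet : IsUnit (Matrix.det (Matrix.of (fun i j : Fin m => D i (f j))))) :
    IsRegularLocalRing (R ⧸ Ideal.span (Set.range f)) ∧
      RingTheory.Sequence.IsRegular R (List.ofFn f) :=
  regular_of_linearIndependent R m f hf
    (linearIndependent_toCotangent_of_derivations m (fun j => ⟨f j, hf j⟩) D hdet)

end Groth.Agent.H1.RegDer
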