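import Mathlib
import Groth.Agent.Lib.Helper1.RegDer
import Groth.Agent.Lib.Helper6.DimLemmas

/-! Helper1: an ideal `J` of a regular local ring `A` with `A/J` regular is generated by part of a
regular system of parameters. -/

set_option autoImplicit false

universe u

open IsLocalRing

namespace Groth.Agent.H1.RegQuot

section

variable (A : Type u) [CommRing A] [IsLocalRing A] [IsNoetherianRing A]

/-- A maximal family of elements of `J` with linearly independent classes in `𝔪/𝔪²`. -/
theorem exists_linearIndependent_in (J : Ideal A) (hJ : J ≤ maximalIdeal A) :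
    ∃ (r : ℕ) (x : Fin r → A) (hxJ : ∀ i, x i ∈ J),
      LinearIndependent (ResidueField A)
        (fun i => (maximalIdeal A).toCotangent ⟨x i, hJ (hxJ i)⟩) ∧
      J ≤ Ideal.span (Set.range x) ⊔ maximalIdeal A ^ 2 := by
  classical
  let v : J → CotangentSpace A := fun z => (maximalIdeal A).toCotangent ⟨z, hJ z.2⟩
  obtain ⟨κ, a, -, hspan, hli⟩ := exists_linearIndependent' (ResidueField A) v
  haveI : Finite κ := hli.finite
  let e := Finite.equivFin κ
  refine ⟨Nat.card κ, fun i => (a (e.symm i) : A), fun i => (a (e.symm i)).2, ?_, ?_⟩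
  · exact hli.comp e.symm e.symm.injective
  · intro z hz
    have h1 : v ⟨z, hz⟩ ∈ Submodule.span (ResidueField A) (Set.range (v ∘ a)) := by
      rw [hspan]
      exact Submodule.subset_span ⟨⟨z, hz⟩, rfl⟩
    rw [← Submodule.restrictScalars_mem A, Submodule.restrictScalars_span A (ResidueField A)
      IsLocalRing.residue_surjective] at h1
    have h2 : Set.range (v ∘ a) = (maximalIdeal A).toCotangent ''
        (Set.range fun k : κ => (⟨a k, hJ (a k).2⟩ : maximalIdeal A)) := by
      rw [← Set.range_comp]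
      rfl
    rw [h2, ← Submodule.map_span] at h1
    obtain ⟨w, hw, hwz⟩ := h1
    have h3 : ((w : A) - z) ∈ maximalIdeal A ^ 2 :=
      (Ideal.toCotangent_eq (I := maximalIdeal A) (x := w) (y := ⟨z, hJ hz⟩)).mp hwz
    have h4 : (w : A) ∈ Ideal.span (Set.range fun i => (a (e.symm i) : A)) := by
      have : Submodule.map (maximalIdeal A).subtype
          (Submodule.span A (Set.range fun k : κ => (⟨a k, hJ (a k).2⟩ : maximalIdeal A))) ≤
          Ideal.span (Set.range fun i => (a (e.symm i) : A)) := by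
        rw [Submodule.map_span, Submodule.span_le]
        rintro _ ⟨_, ⟨k, rfl⟩, rfl⟩
        exact Ideal.subset_span ⟨e k, by simp⟩
      exact this (Submodule.mem_map_of_mem hw)
    have h5 : z = (w : A) - ((w : A) - z) := by ring
    rw [h5]
    exact Submodule.sub_mem _ (Submodule.mem_sup_left h4) (Submodule.mem_sup_right h3)

/-- If `K ⊆ 𝔪²`, then `𝔪` needs no more generators than the maximal ideal of `A/K`. -/
theorem spanFinrank_maximalIdeal_le_of_le_sq (K : Ideal A) (hK : K ≤ maximalIdeal A ^ 2)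
    [IsLocalRing (A ⧸ K)] :
    (maximalIdeal A).spanFinrank ≤ (maximalIdeal (A ⧸ K)).spanFinrank := by
  classical
  have hsurj : Function.Surjective (Ideal.Quotient.mk K) := Ideal.Quotient.mk_surjective
  obtain ⟨s, hs₁, hs₂⟩ := Submodule.FG.exists_span_finset_card_eq_spanFinrank
    (maximalIdeal (A ⧸ K)).fg_of_isNoetherianRing
  let t : Finset A := s.image (Function.surjInv hsurj)
  have hmk_t : (Ideal.Quotient.mk K) '' (t : Set A) = (s : Set _) := by
    ext y
    simp only [t, Finset.coe_image, Set.mem_image, Finset.mem_coe]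
    constructor
    · rintro ⟨_, ⟨z, hz, rfl⟩, rfl⟩
      rwa [Function.surjInv_eq hsurj]
    · intro hy
      exact ⟨_, ⟨y, hy, rfl⟩, Function.surjInv_eq hsurj y⟩
  have hcomap : Ideal.comap (Ideal.Quotient.mk K) (maximalIdeal (A ⧸ K)) = maximalIdeal A := by
    haveI : IsLocalHom (Ideal.Quotient.mk K) := IsLocalHom.of_surjective _ hsurj
    exact IsLocalRing.maximalIdeal_comap (Ideal.Quotient.mk K)
  have h1 : maximalIdeal A = Ideal.span (t : Set A) ⊔ K := by
    have h0 : maximalIdeal (A ⧸ K) = Ideal.map (Ideal.Quotient.mk K) (Ideal.span (t : Set A)) := by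
      rw [Ideal.map_span, hmk_t]
      exact hs₂.symm
    rw [← hcomap, h0, Ideal.comap_map_of_surjective _ hsurj,
      ← RingHom.ker_eq_comap_bot, Ideal.mk_ker]
  have h2 : maximalIdeal A ≤ Ideal.span (t : Set A) := by
    apply Submodule.le_of_le_smul_of_le_jacobson_bot (I := maximalIdeal A)
      (maximalIdeal A).fg_of_isNoetherianRing
    · rw [IsLocalRing.jacobson_eq_maximalIdeal ⊥ bot_ne_top]
    · conv_lhs => rw [h1]
      apply sup_le_sup_left
      rw [smul_eq_mul, ← pow_two]
      exact hK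
  have h3 : maximalIdeal A = Ideal.span (t : Set A) := by
    apply le_antisymm h2
    rw [h1]
    exact le_sup_left
  calc (maximalIdeal A).spanFinrank = (Ideal.span (t : Set A)).spanFinrank := by rw [← h3]
    _ ≤ (t : Set A).ncard := Submodule.spanFinrank_span_le_ncard_of_finite t.finite_toSet
    _ = t.card := Set.ncard_coe_finset t
    _ ≤ s.card := Finset.card_image_le
    _ = _ := hs₁

end

/-- An ideal `J` of a regular local ring `A` with `A/J` regular is generated by a regular sequence
(part of a regular system of parameters). -/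
theorem exists_regular_generators (A : Type u) [CommRing A] [IsRegularLocalRing A] (J : Ideal A)
    [IsRegularLocalRing (A ⧸ J)] :
    ∃ (r : ℕ) (x : Fin r → A), (∀ i, x i ∈ J) ∧
      RingTheory.Sequence.IsRegular A (List.ofFn x) ∧ Ideal.span (Set.range x) = J := by
  classical
  have hJtop : J ≠ ⊤ := Ideal.Quotient.nontrivial_iff.mp inferInstance
  have hJm : J ≤ maximalIdeal A := le_maximalIdeal hJtop
  obtain ⟨r, x, hxJ, hli, hle⟩ := exists_linearIndependent_in A J hJm
  obtain ⟨hBreg, hxreg⟩ := Groth.Agent.H1.RegDer.regular_of_linearIndependent A r x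
    (fun i => hJm (hxJ i)) hli
  refine ⟨r, x, hxJ, hxreg, ?_⟩
  set I := Ideal.span (Set.range x) with hI
  have hIJ : I ≤ J := by
    rw [hI, Ideal.span_le]; rintro _ ⟨i, rfl⟩; exact hxJ i
  apply le_antisymm hIJ
  haveI := hBreg
  set K := J.map (Ideal.Quotient.mk I) with hK
  have e : ((A ⧸ I) ⧸ K) ≃+* A ⧸ J := DoubleQuot.quotQuotEquivQuotOfLE hIJ
  haveI : IsRegularLocalRing ((A ⧸ I) ⧸ K) := IsRegularLocalRing.of_ringEquiv (R := A ⧸ J) e.symm
  have hsurj : Function.Surjective (Ideal.Quotient.mk I) := Ideal.Quotient.mk_surjective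
  have hmmap : (maximalIdeal A).map (Ideal.Quotient.mk I) ≤ maximalIdeal (A ⧸ I) := by
    rw [Ideal.map_le_iff_le_comap]
    haveI : IsLocalHom (Ideal.Quotient.mk I) := IsLocalHom.of_surjective _ hsurj
    rw [IsLocalRing.maximalIdeal_comap (Ideal.Quotient.mk I)]
  have hK2 : K ≤ maximalIdeal (A ⧸ I) ^ 2 := by
    rw [hK]
    refine (Ideal.map_mono hle).trans ?_
    rw [Ideal.map_sup, Ideal.map_pow, Ideal.map_quotient_self, bot_sup_eq]
    exact Ideal.pow_right_mono hmmap 2
  have h1 := spanFinrank_maximalIdeal_le_of_le_sq (A ⧸ I) K hK2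
  have hdB := (IsRegularLocalRing.spanFinrank_maximalIdeal (R := A ⧸ I)).symm
  have hdC := (IsRegularLocalRing.spanFinrank_maximalIdeal (R := (A ⧸ I) ⧸ K)).symm
  have hle' : ringKrullDim ((A ⧸ I) ⧸ K) ≤ ringKrullDim (A ⧸ I) := ringKrullDim_quotient_le K
  rw [hdB, hdC] at hle'
  have h2 : (maximalIdeal ((A ⧸ I) ⧸ K)).spanFinrank ≤ (maximalIdeal (A ⧸ I)).spanFinrank := by
    exact_mod_cast hle'
  have h3 : (maximalIdeal ((A ⧸ I) ⧸ K)).spanFinrank = (maximalIdeal (A ⧸ I)).spanFinrank :=
    le_antisymm h2 h1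
  rw [h3] at hdC
  haveI : IsDomain ((A ⧸ I) ⧸ K) := Groth.Agent.H7.Reg.isDomain _
  haveI : K.IsPrime := (Ideal.Quotient.isDomain_iff_prime K).mp inferInstance
  haveI : IsDomain (A ⧸ I) := Groth.Agent.H7.Reg.isDomain _
  have h4 := Groth.Agent.H6.Dim.mem_minimalPrimes_of_ringKrullDim_quotient_eq _ hdB K hdC
  rw [IsDomain.minimalPrimes_eq_singleton_bot, Set.mem_singleton_iff] at h4
  rw [hK, Ideal.map_eq_bot_iff_le_ker, Ideal.mk_ker] at h4
  exact h4

end Groth.Agent.H1.RegQuot
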