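import Mathlib

/-! Helper1: ideal-theoretic description of (weakly) regular sequences, invariance under unit
multiples, and spreading out a regular sequence from a localization at a prime to a principal
localization. -/

set_option autoImplicit false

universe u

open RingTheory.Sequence

namespace Groth.Agent.H1.Spread

section Char

variable {A : Type u} [CommRing A]

theorem isSMulRegular_quotient_iff (J : Ideal A) (a : A) :
    IsSMulRegular (A ⧸ (J • ⊤ : Submodule A A)) a ↔ ∀ y, a * y ∈ J → y ∈ J := by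
  have hJ : (J • ⊤ : Submodule A A) = J := by rw [smul_eq_mul, Ideal.mul_top]
  rw [isSMulRegular_iff_right_eq_zero_of_smul]
  constructor
  · intro h y hy
    have := h (Submodule.Quotient.mk y) (by
      rw [← Submodule.Quotient.mk_smul, Submodule.Quotient.mk_eq_zero, hJ]
      exact hy)
    rwa [Submodule.Quotient.mk_eq_zero, hJ] at this
  · intro h m hm
    obtain ⟨y, rfl⟩ := Submodule.Quotient.mk_surjective _ m
    rw [← Submodule.Quotient.mk_smul, Submodule.Quotient.mk_eq_zero, hJ] at hm
    rw [Submodule.Quotient.mk_eq_zero, hJ]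
    exact h y hm

/-- Ideal-theoretic characterisation of weakly regular sequences on the ring itself. -/
theorem isWeaklyRegular_iff_forall_mem (rs : List A) :
    IsWeaklyRegular A rs ↔ ∀ i (h : i < rs.length), ∀ y,
      rs[i] * y ∈ Ideal.ofList (rs.take i) → y ∈ Ideal.ofList (rs.take i) := by
  rw [isWeaklyRegular_iff]
  exact forall_congr' fun i => forall_congr' fun h => isSMulRegular_quotient_iff _ _

theorem isRegular_iff_forall_mem (rs : List A) :
    IsRegular A rs ↔ (∀ i (h : i < rs.length), ∀ y,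
      rs[i] * y ∈ Ideal.ofList (rs.take i) → y ∈ Ideal.ofList (rs.take i)) ∧
        Ideal.ofList rs ≠ ⊤ := by
  rw [isRegular_iff, isWeaklyRegular_iff_forall_mem, smul_eq_mul, Ideal.mul_top, ne_comm]

theorem ofList_take_le_of_forall_mul (rs rs' : List A) (hlen : rs.length = rs'.length)
    (h : ∀ i (h : i < rs.length), ∃ c, rs'[i]'(hlen ▸ h) = rs[i] * c) (i : ℕ) :
    Ideal.ofList (rs'.take i) ≤ Ideal.ofList (rs.take i) := by
  rw [Ideal.span_le]
  intro a ha
  rw [Set.mem_ofPred_eq, List.mem_take_iff_getElem] at ha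
  obtain ⟨j, hj, rfl⟩ := ha
  have hj1 : j < rs.length := by rw [hlen]; exact lt_of_lt_of_le hj (min_le_right _ _)
  obtain ⟨c, hc⟩ := h j hj1
  rw [hc]
  apply Ideal.mul_mem_right
  apply Ideal.subset_span
  rw [Set.mem_ofPred_eq, List.mem_take_iff_getElem]
  exact ⟨j, lt_min (lt_of_lt_of_le hj (min_le_left _ _)) hj1, rfl⟩

theorem ofList_eq_of_unit_mul (rs rs' : List A) (hlen : rs.length = rs'.length)
    (h : ∀ i (h : i < rs.length), ∃ c, IsUnit c ∧ rs'[i]'(hlen ▸ h) = rs[i] * c) :
    Ideal.ofList rs' = Ideal.ofList rs := by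
  have h1 : Ideal.ofList (rs'.take rs.length) = Ideal.ofList (rs.take rs.length) := by
    apply le_antisymm
    · exact ofList_take_le_of_forall_mul rs rs' hlen
        (fun i hi => by obtain ⟨c, -, hc⟩ := h i hi; exact ⟨c, hc⟩) _
    · refine ofList_take_le_of_forall_mul rs' rs hlen.symm (fun i hi => ?_) _
      obtain ⟨c, hcu, hc⟩ := h i (hlen ▸ hi)
      obtain ⟨u, rfl⟩ := hcu
      exact ⟨(u⁻¹ : Aˣ), by rw [hc, mul_assoc, Units.mul_inv, mul_one]⟩
  rw [List.take_length, hlen, List.take_length] at h1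
  exact h1

/-- Regularity of a sequence is invariant under multiplying the members by units. -/
theorem isRegular_of_unit_mul (rs rs' : List A) (hlen : rs.length = rs'.length)
    (h : ∀ i (h : i < rs.length), ∃ c, IsUnit c ∧ rs'[i]'(hlen ▸ h) = rs[i] * c)
    (hreg : IsRegular A rs) : IsRegular A rs' := by
  have h1 : ∀ i, Ideal.ofList (rs'.take i) = Ideal.ofList (rs.take i) := by
    intro i
    apply le_antisymm
    · exact ofList_take_le_of_forall_mul rs rs' hlen
        (fun i hi => by obtain ⟨c, -, hc⟩ := h i hi; exact ⟨c, hc⟩) i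
    · refine ofList_take_le_of_forall_mul rs' rs hlen.symm (fun i hi => ?_) i
      obtain ⟨c, hcu, hc⟩ := h i (hlen ▸ hi)
      obtain ⟨u, rfl⟩ := hcu
      exact ⟨(u⁻¹ : Aˣ), by rw [hc, mul_assoc, Units.mul_inv, mul_one]⟩
  rw [isRegular_iff_forall_mem] at hreg ⊢
  obtain ⟨hw, htop⟩ := hreg
  refine ⟨?_, ?_⟩
  · intro i hi y hy
    have hi' : i < rs.length := hlen ▸ hi
    obtain ⟨c, hcu, hc⟩ := h i hi'
    rw [h1] at hy ⊢
    rw [hc, mul_assoc] at hy
    have := hw i hi' _ hy
    exact (Ideal.unit_mul_mem_iff_mem _ hcu).mp this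
  · have h2 := h1 rs.length
    rw [List.take_length, hlen, List.take_length] at h2
    rw [h2]
    exact htop

end Char

section Spread

variable {R : Type u} [CommRing R]

theorem exists_mem_forall_of_finset {ι : Type*} (M : Submonoid R) (T : Finset ι)
    (P : ι → R → Prop) (hP : ∀ t m m', P t m → P t (m' * m))
    (h : ∀ t ∈ T, ∃ m ∈ M, P t m) : ∃ m ∈ M, ∀ t ∈ T, P t m := by
  classical
  induction T using Finset.induction_on with
  | empty => exact ⟨1, M.one_mem, by simp⟩
  | insert a T ha ih =>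
    obtain ⟨m₁, hm₁, h₁⟩ := ih (fun t ht => h t (Finset.mem_insert_of_mem ht))
    obtain ⟨m₂, hm₂, h₂⟩ := h a (Finset.mem_insert_self a T)
    refine ⟨m₁ * m₂, M.mul_mem hm₁ hm₂, ?_⟩
    intro t ht
    rcases Finset.mem_insert.mp ht with rfl | ht
    · exact hP _ _ _ h₂
    · rw [mul_comm]; exact hP _ _ _ (h₁ t ht)

theorem exists_mul_mem_of_map_le (M : Submonoid R) (S : Type*) [CommRing S] [Algebra R S]
    [IsLocalization M S] (C J : Ideal R) (hC : C.FG)
    (h : C.map (algebraMap R S) ≤ J.map (algebraMap R S)) : ∃ m ∈ M, ∀ c ∈ C, m * c ∈ J := by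
  obtain ⟨T, rfl⟩ := hC
  have h1 : ∀ t ∈ T, ∃ m ∈ M, m * t ∈ J := by
    intro t ht
    have : algebraMap R S t ∈ J.map (algebraMap R S) :=
      h (Ideal.mem_map_of_mem _ (Ideal.subset_span ht))
    exact (IsLocalization.algebraMap_mem_map_algebraMap_iff M S J t).mp this
  obtain ⟨m, hm, hmT⟩ := exists_mem_forall_of_finset M T (fun t m => m * t ∈ J)
    (fun t m m' hm => by rw [mul_assoc]; exact J.mul_mem_left _ hm) h1
  refine ⟨m, hm, ?_⟩
  intro c hc
  refine Submodule.span_induction (p := fun c _ => m * c ∈ J) ?_ ?_ ?_ ?_ hc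
  · intro t ht; exact hmT t ht
  · simp
  · intro x y _ _ hx hy; rw [mul_add]; exact J.add_mem hx hy
  · intro a x _ hx
    rw [smul_eq_mul, mul_left_comm]
    exact J.mul_mem_left _ hx

/-- Spreading out a regular sequence generating `I` from the localization at a prime to a
principal localization. -/
theorem exists_away_isRegular [IsNoetherianRing R] (p : Ideal R) [p.IsPrime]
    (S : Type*) [CommRing S] [Algebra R S] [IsLocalization.AtPrime S p]
    (I : Ideal R) (hIp : I ≤ p) (as : List R) (has : ∀ a ∈ as, a ∈ I)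
    (hreg : IsWeaklyRegular S (as.map (algebraMap R S)))
    (hgen : Ideal.ofList (as.map (algebraMap R S)) = I.map (algebraMap R S)) :
    ∃ g, g ∉ p ∧ IsRegular (Localization.Away g) (as.map (algebraMap R (Localization.Away g))) ∧
      Ideal.ofList (as.map (algebraMap R (Localization.Away g))) =
        I.map (algebraMap R (Localization.Away g)) := by
  classical
  set M := p.primeCompl with hM
  set f := algebraMap R S with hf
  have hasI : Ideal.ofList as ≤ I := Ideal.span_le.mpr has
  -- colon ideals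
  let J : Fin as.length → Ideal R := fun i => Ideal.ofList (as.take i)
  let C : Fin as.length → Ideal R := fun i =>
    Submodule.comap (LinearMap.mulLeft R (as[i])) (J i)
  have hC : ∀ i y, y ∈ C i ↔ as[i] * y ∈ J i := fun i y => Iff.rfl
  rw [isWeaklyRegular_iff_forall_mem] at hreg
  have h1 : ∀ i, ∃ m ∈ M, ∀ c ∈ C i, m * c ∈ J i := by
    intro i
    apply exists_mul_mem_of_map_le M S (C i) (J i) (IsNoetherian.noetherian _)
    rw [Ideal.map_le_iff_le_comap]
    intro y hy
    rw [Ideal.mem_comap]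
    have hi : (i : ℕ) < (as.map f).length := by rw [List.length_map]; exact i.2
    have := hreg i hi (f y)
    rw [← List.map_take, ← Ideal.map_ofList, List.getElem_map, ← map_mul] at this
    exact this (Ideal.mem_map_of_mem _ ((hC i y).mp hy))
  have h2 : ∃ m ∈ M, ∀ c ∈ I, m * c ∈ Ideal.ofList as := by
    apply exists_mul_mem_of_map_le M S I _ (IsNoetherian.noetherian _)
    rw [Ideal.map_ofList, hgen]
  obtain ⟨g₁, hg₁, hg₁C⟩ := exists_mem_forall_of_finset M (Finset.univ : Finset (Fin as.length))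
    (fun i m => ∀ c ∈ C i, m * c ∈ J i)
    (fun i m m' hm c hc => by rw [mul_assoc]; exact (J i).mul_mem_left _ (hm c hc))
    (fun i _ => h1 i)
  obtain ⟨g₂, hg₂, hg₂I⟩ := h2
  set g := g₁ * g₂ with hg
  have hgM : g ∈ M := M.mul_mem hg₁ hg₂
  have hgC : ∀ i, ∀ c ∈ C i, g * c ∈ J i := by
    intro i c hc
    rw [hg, mul_comm g₁, mul_assoc]
    exact (J i).mul_mem_left _ (hg₁C i (Finset.mem_univ _) c hc)
  have hgI : ∀ c ∈ I, g * c ∈ Ideal.ofList as := by
    intro c hc
    rw [hg, mul_assoc]
    exact Ideal.mul_mem_left _ _ (hg₂I c hc)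
  refine ⟨g, hgM, ?_⟩
  set fg := algebraMap R (Localization.Away g) with hfg
  have hunit : ∀ m ∈ Submonoid.powers g, IsUnit (fg m) := fun m hm =>
    IsLocalization.map_units (Localization.Away g) (⟨m, hm⟩ : Submonoid.powers g)
  have hgunit : IsUnit (fg g) := hunit g (Submonoid.mem_powers g)
  have hgenG : Ideal.ofList (as.map fg) = I.map fg := by
    rw [← Ideal.map_ofList]
    apply le_antisymm (Ideal.map_mono hasI)
    rw [Ideal.map_le_iff_le_comap]
    intro c hc
    rw [Ideal.mem_comap]
    have := Ideal.mem_map_of_mem fg (hgI c hc)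
    rw [map_mul] at this
    exact (Ideal.unit_mul_mem_iff_mem _ hgunit).mp this
  refine ⟨?_, hgenG⟩
  rw [isRegular_iff_forall_mem]
  refine ⟨?_, ?_⟩
  · intro i hi y hy
    have hi' : i < as.length := by rwa [List.length_map] at hi
    rw [← List.map_take, ← Ideal.map_ofList] at hy ⊢
    rw [List.getElem_map] at hy
    obtain ⟨⟨b, s⟩, hbs⟩ := IsLocalization.surj (Submonoid.powers g) y
    have hsunit : IsUnit (fg (s : R)) := hunit s s.2
    have h3 : fg (as[i] * b) ∈ Ideal.map fg (Ideal.ofList (as.take i)) := by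
      rw [map_mul, ← hbs, ← mul_assoc]
      exact Ideal.mul_mem_right _ _ hy
    obtain ⟨m, hm, hmb⟩ := (IsLocalization.algebraMap_mem_map_algebraMap_iff
      (Submonoid.powers g) (Localization.Away g) _ _).mp h3
    have h4 : m * b ∈ C ⟨i, hi'⟩ := by
      rw [hC]
      show as[i] * (m * b) ∈ Ideal.ofList (as.take i)
      rw [mul_left_comm]
      exact hmb
    have h5 := Ideal.mem_map_of_mem fg (hgC ⟨i, hi'⟩ _ h4)
    rw [← mul_assoc, map_mul] at h5
    have h6 : fg b ∈ Ideal.map fg (Ideal.ofList (as.take i)) :=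
      (Ideal.unit_mul_mem_iff_mem _
        (hunit _ ((Submonoid.powers g).mul_mem (Submonoid.mem_powers g) hm))).mp h5
    rw [← hbs] at h6
    rw [mul_comm] at h6
    exact (Ideal.unit_mul_mem_iff_mem _ hsunit).mp h6
  · rw [hgenG, IsLocalization.map_algebraMap_ne_top_iff_disjoint (Submonoid.powers g)]
    rw [Set.disjoint_left]
    rintro x ⟨k, rfl⟩ hx
    exact hgM (Ideal.IsPrime.mem_of_pow_mem inferInstance k (hIp hx))

end Spread

end Groth.Agent.H1.Spread
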