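import Mathlib

set_option autoImplicit false

universe u

open CategoryTheory

namespace Groth.Agent.H1.LCILoc

section Cot

variable {R : Type u} [CommRing R] (M : Submonoid R) (S : Type u) [CommRing S] [Algebra R S]
  [IsLocalization M S] (I : Ideal R)

/-- The map `I/I² → IS/(IS)²`. -/
noncomputable def cotMap : I.Cotangent →ₗ[R] (I.map (algebraMap R S)).Cotangent :=
  Ideal.mapCotangent I (I.map (algebraMap R S)) (Algebra.ofId R S) Ideal.le_comap_map

theorem cotMap_toCotangent (x : I) :
    cotMap S I (I.toCotangent x) = (I.map (algebraMap R S)).toCotangent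
      ⟨algebraMap R S x, Ideal.mem_map_of_mem _ x.2⟩ := rfl

include M in
theorem isLocalizedModule_cotMap : IsLocalizedModule M (cotMap S I) where
  map_units m := by
    rw [Module.End.isUnit_iff]
    have hu : IsUnit (algebraMap R S m) := IsLocalization.map_units S m
    constructor
    · intro a b hab
      simp only [Module.algebraMap_end_apply] at hab
      rw [← algebraMap_smul S (m : R) a, ← algebraMap_smul S (m : R) b] at hab
      exact hu.smul_left_cancel.mp hab
    · intro b
      obtain ⟨u, hu⟩ := hu
      refine ⟨(↑u⁻¹ : S) • b, ?_⟩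
      simp only [Module.algebraMap_end_apply]
      rw [← algebraMap_smul S (m : R), ← hu, smul_smul, Units.mul_inv, one_smul]
  surj y := by
    obtain ⟨⟨b, hb⟩, rfl⟩ := Ideal.toCotangent_surjective _ y
    obtain ⟨⟨a, s⟩, has⟩ := (IsLocalization.mem_map_algebraMap_iff M S).mp hb
    refine ⟨⟨I.toCotangent a, s⟩, ?_⟩
    rw [cotMap_toCotangent]
    show (s : R) • (I.map (algebraMap R S)).toCotangent ⟨b, hb⟩ = _
    rw [← algebraMap_smul S (s : R), ← map_smul]
    congr 1
    apply Subtype.ext
    show algebraMap R S (s : R) • b = algebraMap R S a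
    rw [smul_eq_mul, mul_comm]
    exact has
  exists_of_eq {x₁ x₂} h := by
    obtain ⟨a₁, rfl⟩ := Ideal.toCotangent_surjective _ x₁
    obtain ⟨a₂, rfl⟩ := Ideal.toCotangent_surjective _ x₂
    rw [cotMap_toCotangent, cotMap_toCotangent, Ideal.toCotangent_eq] at h
    simp only at h
    rw [← map_sub, ← Ideal.map_pow,
      IsLocalization.algebraMap_mem_map_algebraMap_iff M] at h
    obtain ⟨m, hm, hma⟩ := h
    refine ⟨⟨m, hm⟩, ?_⟩
    show (m : R) • I.toCotangent a₁ = (m : R) • I.toCotangent a₂
    rw [← map_smul, ← map_smul, Ideal.toCotangent_eq]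
    show m • (a₁ : R) - m • (a₂ : R) ∈ I ^ 2
    rw [smul_eq_mul, smul_eq_mul, ← mul_sub]
    exact hma

include M in
/-- The conormal module of the extension of `I` to a localization is projective if `I/I²` is. -/
theorem projective_cotangent_map [Module.Projective (R ⧸ I) I.Cotangent] :
    Module.Projective (S ⧸ I.map (algebraMap R S)) (I.map (algebraMap R S)).Cotangent := by
  set J := I.map (algebraMap R S) with hJ
  letI inst1 : Module (R ⧸ I) J.Cotangent := Module.compHom _ (algebraMap (R ⧸ I) (S ⧸ J))
  haveI inst2 : IsScalarTower (R ⧸ I) (S ⧸ J) J.Cotangent :=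
    ⟨fun a b c => by
      show (a • b) • c = (algebraMap (R ⧸ I) (S ⧸ J) a) • (b • c)
      rw [Algebra.smul_def, mul_smul]⟩
  haveI inst3 : IsScalarTower R (R ⧸ I) J.Cotangent := by
    apply IsScalarTower.of_algebraMap_smul
    intro r x
    show algebraMap (R ⧸ I) (S ⧸ J) (algebraMap R (R ⧸ I) r) • x = r • x
    rw [← algebraMap_smul S r x, ← algebraMap_smul (S ⧸ J) (algebraMap R S r) x]
    rfl
  let f : I.Cotangent →ₗ[R ⧸ I] J.Cotangent :=
    LinearMap.extendScalarsOfSurjective Ideal.Quotient.mk_surjective (cotMap S I)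
  haveI : IsLocalizedModule M (f.restrictScalars R) := isLocalizedModule_cotMap M S I
  haveI := IsLocalizedModule.of_restrictScalars (A := R ⧸ I) M f
  exact Module.projective_of_isLocalizedModule (Algebra.algebraMapSubmonoid (R ⧸ I) M) f

end Cot

section Pd

variable {R : Type u} [CommRing R]

/-- Finite projective dimension of an ideal passes to its extension to a localization at a
prime. -/
theorem hasProjectiveDimensionLT_map (p : Ideal R) [p.IsPrime] (I : Ideal R) (n : ℕ)
    (hpd : HasProjectiveDimensionLT (ModuleCat.of R I) n) :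
    HasProjectiveDimensionLT (ModuleCat.of (Localization.AtPrime p)
      (I.map (algebraMap R (Localization.AtPrime p)))) (n + 1) := by
  set Rp := Localization.AtPrime p
  set N := LocalizedModule p.primeCompl I
  have h2 : HasProjectiveDimensionLE ((ModuleCat.of R I).localizedModule p.primeCompl) n := by
    haveI : HasProjectiveDimensionLE (ModuleCat.of R I) n :=
      hasProjectiveDimensionLT_of_ge _ n (n + 1) (Nat.le_succ n)
    exact ModuleCat.localizedModule_hasProjectiveDimensionLE n p.primeCompl _
  let e : ((ModuleCat.of R I).localizedModule p.primeCompl) ≅ ModuleCat.of Rp N :=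
    (Shrink.linearEquiv Rp N).toModuleIso
  have h3 : HasProjectiveDimensionLT (ModuleCat.of Rp N) (n + 1) :=
    hasProjectiveDimensionLT_of_iso e (n + 1)
  let e1 : N ≃ₗ[R] Submodule.localized' Rp p.primeCompl (Algebra.linearMap R Rp) I :=
    IsLocalizedModule.linearEquiv p.primeCompl (LocalizedModule.mkLinearMap p.primeCompl I)
      (Submodule.toLocalized' Rp p.primeCompl (Algebra.linearMap R Rp) I)
  let e2 : N ≃ₗ[Rp] Submodule.localized' Rp p.primeCompl (Algebra.linearMap R Rp) I :=
    LinearEquiv.extendScalarsOfIsLocalization p.primeCompl Rp e1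
  let e3 : Submodule.localized' Rp p.primeCompl (Algebra.linearMap R Rp) I ≃ₗ[Rp]
      I.map (algebraMap R Rp) :=
    LinearEquiv.ofEq _ _ (Ideal.localized'_eq_map Rp p.primeCompl I)
  exact hasProjectiveDimensionLT_of_iso (e2.trans e3).toModuleIso (n + 1)

end Pd

end Groth.Agent.H1.LCILoc
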