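import Mathlib
import Groth.Agent.Lib.Helper1.RegConv

/-! Helper1: Vasconcelos' theorem on ideals of finite projective dimension with free conormal
summands. -/

set_option autoImplicit false

universe u

open CategoryTheory IsLocalRing Pointwise

namespace Groth.Agent.H1.Vasc

section LemmaA

variable {R : Type u} [CommRing R] [IsNoetherianRing R]

/-- A free module killed by a nonzero scalar is trivial. -/
theorem subsingleton_of_free_of_smul_eq_zero {A : Type u} [CommRing A] (M : Type u)
    [AddCommGroup M] [Module A M] [Module.Free A M] (a : A) (ha : a ≠ 0)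
    (h : ∀ m : M, a • m = 0) : Subsingleton M := by
  let b := Module.Free.chooseBasis A M
  by_cases hι : IsEmpty (Module.Free.ChooseBasisIndex A M)
  · exact b.repr.toEquiv.subsingleton
  · exfalso
    rw [not_isEmpty_iff] at hι
    obtain ⟨i⟩ := hι
    apply ha
    have h1 := h (b i)
    have h2 := congrArg (fun m => b.repr m i) h1
    simpa using h2

/-- If `I` has finite projective dimension and is contained in an associated prime `p` of `R`,
then `I_p = 0`. -/
theorem exists_smul_eq_zero (I : Ideal R) (n : ℕ)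
    (hpd : HasProjectiveDimensionLT (ModuleCat.of R I) n) (p : Ideal R)
    (hp : p ∈ associatedPrimes R R) (hIp : I ≤ p) (y : R) (hy : y ∈ I) :
    ∃ s ∉ p, s * y = 0 := by
  haveI hpp : p.IsPrime := hp.isPrime
  obtain ⟨-, a, ha⟩ := isAssociatedPrime_iff.mp hp
  have hpa : ∀ z ∈ p, z * a = 0 := by
    intro z hz
    have : z ∈ Submodule.colon (⊥ : Submodule R R) {a} := by rw [← ha]; exact hz
    rw [Submodule.mem_colon_singleton] at this
    simpa using this
  have hap : ∀ z, z * a = 0 → z ∈ p := by
    intro z hz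
    rw [ha, Submodule.mem_colon_singleton]
    simpa using hz
  set Rp := Localization.AtPrime p
  set a' : Rp := algebraMap R Rp a with ha'
  have ha'0 : a' ≠ 0 := by
    intro h0
    rw [ha', IsLocalization.map_eq_zero_iff p.primeCompl] at h0
    obtain ⟨⟨s, hs⟩, hsa⟩ := h0
    exact hs (hap s hsa)
  have ham : ∀ z ∈ maximalIdeal Rp, z * a' = 0 := by
    intro z hz
    rw [← Localization.AtPrime.map_eq_maximalIdeal,
      IsLocalization.mem_map_algebraMap_iff p.primeCompl] at hz
    obtain ⟨⟨b, s⟩, hbs⟩ := hz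
    have hs : IsUnit (algebraMap R Rp (s : R)) := IsLocalization.map_units Rp s
    apply hs.mul_left_cancel
    rw [mul_zero, ← mul_assoc, mul_comm _ z, hbs, ha', ← map_mul, hpa _ b.2, map_zero]
  set N := LocalizedModule p.primeCompl I
  have h2 : HasProjectiveDimensionLE ((ModuleCat.of R I).localizedModule p.primeCompl) n := by
    haveI : HasProjectiveDimensionLE (ModuleCat.of R I) n :=
      hasProjectiveDimensionLT_of_ge _ n (n + 1) (Nat.le_succ n)
    exact ModuleCat.localizedModule_hasProjectiveDimensionLE n p.primeCompl _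
  let e : ((ModuleCat.of R I).localizedModule p.primeCompl) ≅ ModuleCat.of Rp N :=
    (Shrink.linearEquiv Rp N).toModuleIso
  have h3 : HasProjectiveDimensionLT (ModuleCat.of Rp N) (n + 1) :=
    hasProjectiveDimensionLT_of_iso e (n + 1)
  haveI : Module.Finite Rp N := inferInstance
  haveI : Module.Free Rp N :=
    Groth.Agent.H1.Reg.free_of_hasProjectiveDimensionLT_of_annihilator a' ha'0 ham n N h3
  have hkill : ∀ m : N, a' • m = 0 := by
    intro m
    induction m using LocalizedModule.induction_on with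
    | h m t =>
      rw [ha', algebraMap_smul, LocalizedModule.smul'_mk]
      have : a • m = 0 := by
        apply Subtype.ext
        change a * (m : R) = 0
        rw [mul_comm]
        exact hpa _ (hIp m.2)
      rw [this, LocalizedModule.zero_mk]
  haveI := subsingleton_of_free_of_smul_eq_zero N a' ha'0 hkill
  have h0 : LocalizedModule.mk (⟨y, hy⟩ : I) (1 : p.primeCompl) = 0 := Subsingleton.elim _ _
  rw [← LocalizedModule.zero_mk (1 : p.primeCompl), LocalizedModule.mk_eq] at h0
  obtain ⟨u, hu⟩ := h0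
  simp only [one_smul, smul_zero] at hu
  refine ⟨u, u.2, ?_⟩
  have := congrArg Subtype.val hu
  simpa [Submonoid.smul_def] using this

end LemmaA

section Davis

/-- Prime avoidance for cosets (E. Davis): if `J` is contained in none of finitely many primes, then
`x₀ + J` is not contained in their union. -/
theorem exists_add_not_mem {R : Type*} [CommRing R] (J : Ideal R) :
    ∀ (S : Finset (Ideal R)), (∀ p ∈ S, p.IsPrime) → (∀ p ∈ S, ¬ J ≤ p) → ∀ x₀ : R,
      ∃ y ∈ J, ∀ p ∈ S, x₀ + y ∉ p := by
  classical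
  intro S
  induction S using Finset.strongInduction with
  | H S ih =>
    intro hprime hJ x₀
    by_cases hne : S.Nonempty
    · obtain ⟨p₀, hp₀S, hp₀min⟩ := S.exists_minimal hne
      have hlt : S.erase p₀ ⊂ S := Finset.erase_ssubset hp₀S
      obtain ⟨y₁, hy₁J, hy₁⟩ := ih (S.erase p₀) hlt
        (fun p hp => hprime p (Finset.mem_of_mem_erase hp))
        (fun p hp => hJ p (Finset.mem_of_mem_erase hp)) x₀
      by_cases hx₁ : x₀ + y₁ ∈ p₀
      · have hp₀prime := hprime p₀ hp₀S
        obtain ⟨P, hP⟩ : ∃ P : Ideal R, P = (S.erase p₀).prod id := ⟨_, rfl⟩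
        have hPle : ∀ q ∈ S.erase p₀, P ≤ q := by
          intro q hq
          rw [hP]
          exact Ideal.prod_le_inf.trans (Finset.inf_le (f := id) hq)
        have hPp₀ : ¬ P ≤ p₀ := by
          rw [hP, hp₀prime.prod_le]
          rintro ⟨q, hq, hqp⟩
          have hqS := Finset.mem_of_mem_erase hq
          have := hp₀min hqS hqp
          exact (Finset.ne_of_mem_erase hq) (le_antisymm hqp this)
        have hnot : ¬ (J * P) ≤ p₀ := by
          rw [hp₀prime.mul_le]
          rintro (h | h)
          · exact hJ p₀ hp₀S h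
          · exact hPp₀ h
        obtain ⟨y₂, hy₂, hy₂p⟩ := SetLike.not_le_iff_exists.mp hnot
        have hy₂J : y₂ ∈ J := (Ideal.mul_le_left : J * P ≤ J) hy₂
        have hy₂q : ∀ q ∈ S.erase p₀, y₂ ∈ q := by
          intro q hq
          exact hPle q hq ((Ideal.mul_le_right : J * P ≤ P) hy₂)
        refine ⟨y₁ + y₂, J.add_mem hy₁J hy₂J, ?_⟩
        intro p hp hmem
        by_cases hpp : p = p₀
        · subst hpp
          rw [← add_assoc] at hmem
          exact hy₂p ((Ideal.add_mem_iff_right _ hx₁).mp hmem)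
        · have hpe : p ∈ S.erase p₀ := Finset.mem_erase.mpr ⟨hpp, hp⟩
          rw [← add_assoc] at hmem
          exact hy₁ p hpe ((Ideal.add_mem_iff_left _ (hy₂q p hpe)).mp hmem)
      · refine ⟨y₁, hy₁J, ?_⟩
        intro p hp
        by_cases hpp : p = p₀
        · subst hpp; exact hx₁
        · exact hy₁ p (Finset.mem_erase.mpr ⟨hpp, hp⟩)
    · rw [Finset.not_nonempty_iff_eq_empty] at hne
      subst hne
      exact ⟨0, J.zero_mem, fun p hp => absurd hp (Finset.notMem_empty p)⟩

end Davis

section V1

variable {R : Type u} [CommRing R] [IsNoetherianRing R]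

theorem not_le_of_mem_associatedPrimes (I : Ideal R) (n : ℕ)
    (hpd : HasProjectiveDimensionLT (ModuleCat.of R I) n)
    (ψ : I →ₗ[R] R ⧸ I) (x₀ : I) (hψ : ψ x₀ = 1) (p : Ideal R)
    (hp : p ∈ associatedPrimes R R) : ¬ I ≤ p := by
  intro hIp
  obtain ⟨s, hs, hsx⟩ := exists_smul_eq_zero I n hpd p hp hIp x₀ x₀.2
  have h0 : s • x₀ = 0 := Subtype.ext hsx
  have h1 : ψ (s • x₀) = 0 := by rw [h0, map_zero]
  rw [map_smul, hψ] at h1
  have h2 : Ideal.Quotient.mk I s = 0 := by
    rw [Algebra.smul_def, mul_one] at h1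
    exact h1
  exact hs (hIp (Ideal.Quotient.eq_zero_iff_mem.mp h2))

/-- Vasconcelos, rank one: a nonzerodivisor in `x₀ + I²`. -/
theorem exists_nonZeroDivisor (I : Ideal R) (n : ℕ)
    (hpd : HasProjectiveDimensionLT (ModuleCat.of R I) n)
    (ψ : I →ₗ[R] R ⧸ I) (x₀ : I) (hψ : ψ x₀ = 1) :
    ∃ x : R, x - x₀ ∈ I ^ 2 ∧ x ∈ nonZeroDivisors R := by
  classical
  have hfin := associatedPrimes.finite R R
  obtain ⟨y, hy, hyp⟩ := exists_add_not_mem (I ^ 2) hfin.toFinset
    (fun p hp => (hfin.mem_toFinset.mp hp).isPrime)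
    (fun p hp hle => by
      have hpa := hfin.mem_toFinset.mp hp
      haveI := hpa.isPrime
      exact not_le_of_mem_associatedPrimes I n hpd ψ x₀ hψ p hpa
        (Ideal.IsPrime.le_of_pow_le hle)) (x₀ : R)
  refine ⟨x₀ + y, by simpa using hy, ?_⟩
  have h1 : (x₀ : R) + y ∉ ⋃ p ∈ associatedPrimes R R, (p : Set R) := by
    simp only [Set.mem_iUnion, not_exists]
    intro p hp hmem
    exact hyp p (hfin.mem_toFinset.mpr hp) hmem
  rw [biUnion_associatedPrimes_eq_compl_nonZeroDivisors] at h1
  simpa using h1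

end V1

end Groth.Agent.H1.Vasc
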