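import Mathlib
import Groth.Agent.Lib.Helper1.Vasc

set_option autoImplicit false

universe u

open CategoryTheory IsLocalRing Pointwise

namespace Groth.Agent.H1.Vasc

section LemmaD

variable {R : Type u} [CommRing R] (I : Ideal R) (x : R) (hxI : x ∈ I)

/-- `I → I' = I(R/x)`. -/
noncomputable def toMap : I →ₗ[R] (I.map (Ideal.Quotient.mk (Ideal.span ({x} : Set R)))) :=
  LinearMap.codRestrict
    ((I.map (Ideal.Quotient.mk (Ideal.span ({x} : Set R)))).restrictScalars R)
    (((Ideal.Quotient.mkₐ R (Ideal.span ({x} : Set R))).toLinearMap).comp I.subtype)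
    (fun y => Ideal.mem_map_of_mem _ y.2)

theorem toMap_apply (y : I) :
    ((toMap I x y : I.map (Ideal.Quotient.mk (Ideal.span ({x} : Set R)))) :
      R ⧸ Ideal.span ({x} : Set R)) = Ideal.Quotient.mk _ (y : R) := rfl

theorem toMap_surjective : Function.Surjective (toMap I x) := by
  rintro ⟨z, hz⟩
  obtain ⟨y, hy, rfl⟩ := (Ideal.mem_map_iff_of_surjective _ Ideal.Quotient.mk_surjective).mp hz
  exact ⟨⟨y, hy⟩, rfl⟩

include hxI in
theorem ker_toMap_le (y : I) (hy : toMap I x y = 0) : ∃ c : R, y = c • (⟨x, hxI⟩ : I) := by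
  have h1 : Ideal.Quotient.mk (Ideal.span ({x} : Set R)) (y : R) = 0 := by
    rw [← toMap_apply, hy]; rfl
  rw [Ideal.Quotient.eq_zero_iff_mem, Ideal.mem_span_singleton'] at h1
  obtain ⟨c, hc⟩ := h1
  exact ⟨c, Subtype.ext hc.symm⟩

end LemmaD

section Retract

variable {R : Type u} [CommRing R] (I : Ideal R) (x : R) (hxI : x ∈ I)
  (ψ : I →ₗ[R] R ⧸ I) (hψ : ψ ⟨x, hxI⟩ = 1)

/-- The class of `x` in `I/xI`. -/
noncomputable def qx : QuotSMulTop x I := Submodule.Quotient.mk ⟨x, hxI⟩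

theorem smul_qx_eq_zero (a : R) (ha : a ∈ I) : a • qx I x hxI = 0 := by
  unfold qx
  rw [← Submodule.Quotient.mk_smul, Submodule.Quotient.mk_eq_zero]
  have : a • (⟨x, hxI⟩ : I) = x • (⟨a, ha⟩ : I) := by
    apply Subtype.ext
    change a * x = x * a
    exact mul_comm _ _
  rw [this]
  exact Submodule.smul_mem_pointwise_smul _ _ _ trivial

/-- `R/I → I/xI`, `c ↦ c[x]`. -/
noncomputable def iota : (R ⧸ I) →ₗ[R] QuotSMulTop x I :=
  Submodule.liftQ I (LinearMap.toSpanSingleton R _ (qx I x hxI)) (by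
    intro a ha
    rw [LinearMap.mem_ker, LinearMap.toSpanSingleton_apply]
    exact smul_qx_eq_zero I x hxI a ha)

theorem iota_mk (a : R) : iota I x hxI (Submodule.Quotient.mk a) = a • qx I x hxI := rfl

/-- `I → I/xI`, `y ↦ [y] - ψ(y)[x]`. -/
noncomputable def tau₀ : I →ₗ[R] QuotSMulTop x I :=
  Submodule.mkQ _ - (iota I x hxI).comp ψ

include hψ in
theorem tau₀_x : tau₀ I x hxI ψ ⟨x, hxI⟩ = 0 := by
  unfold tau₀
  rw [LinearMap.sub_apply, LinearMap.comp_apply, hψ]
  have : (1 : R ⧸ I) = Submodule.Quotient.mk (1 : R) := rfl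
  rw [this, iota_mk, one_smul]
  exact sub_self _

/-- the section `I' → I/xI`. -/
noncomputable def tau : (I.map (Ideal.Quotient.mk (Ideal.span ({x} : Set R)))) →ₗ[R]
    QuotSMulTop x I :=
  ((LinearMap.ker (toMap I x)).liftQ (tau₀ I x hxI ψ) (by
    intro y hy
    rw [LinearMap.mem_ker] at hy ⊢
    obtain ⟨c, rfl⟩ := ker_toMap_le I x hxI y hy
    rw [map_smul, tau₀_x I x hxI ψ hψ, smul_zero])).comp
    ((toMap I x).quotKerEquivOfSurjective (toMap_surjective I x)).symm.toLinearMap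

include hψ in
theorem tau_toMap (y : I) : tau I x hxI ψ hψ (toMap I x y) = tau₀ I x hxI ψ y := by
  unfold tau
  rw [LinearMap.comp_apply]
  have : ((toMap I x).quotKerEquivOfSurjective (toMap_surjective I x)).symm (toMap I x y) =
      Submodule.Quotient.mk y := by
    rw [LinearEquiv.symm_apply_eq]
    rfl
  rw [LinearEquiv.coe_coe, this]
  rfl

/-- the retraction `I/xI → I'`. -/
noncomputable def rho : QuotSMulTop x I →ₗ[R]
    (I.map (Ideal.Quotient.mk (Ideal.span ({x} : Set R)))) :=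
  Submodule.liftQ _ (toMap I x) (by
    intro y hy
    rw [LinearMap.mem_ker]
    obtain ⟨z, -, rfl⟩ := (Submodule.mem_smul_pointwise_iff_exists _ _ _).mp hy
    apply Subtype.ext
    rw [toMap_apply]
    change Ideal.Quotient.mk (Ideal.span ({x} : Set R)) (x * (z : R)) = 0
    rw [Ideal.Quotient.eq_zero_iff_mem]
    exact Ideal.mul_mem_right _ _ (Ideal.subset_span rfl))

theorem rho_mk (y : I) : rho I x (Submodule.Quotient.mk y) = toMap I x y := rfl

include hxI in
theorem rho_qx : rho I x (qx I x hxI) = 0 := by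
  unfold qx
  rw [rho_mk]
  apply Subtype.ext
  rw [toMap_apply]
  exact Ideal.Quotient.eq_zero_iff_mem.mpr (Ideal.subset_span rfl)

include hψ in
theorem rho_comp_tau : (rho I x).comp (tau I x hxI ψ hψ) = LinearMap.id := by
  apply LinearMap.ext
  intro y'
  obtain ⟨y, rfl⟩ := toMap_surjective I x y'
  rw [LinearMap.comp_apply, tau_toMap I x hxI ψ hψ, LinearMap.id_apply]
  unfold tau₀
  rw [LinearMap.sub_apply, map_sub, LinearMap.comp_apply]
  obtain ⟨c, hc⟩ := Submodule.Quotient.mk_surjective _ (ψ y)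
  rw [← hc, iota_mk, map_smul, rho_qx I x hxI, smul_zero, sub_zero]
  rfl

end Retract

section PD

variable {R : Type u} [CommRing R] (I : Ideal R) (x : R) (hxI : x ∈ I)
  (ψ : I →ₗ[R] R ⧸ I) (hψ : ψ ⟨x, hxI⟩ = 1)

include hψ in
/-- If `x ∈ I` is a nonzerodivisor with `ψ(x) = 1` for some linear `ψ : I → R/I`, then
`pd_{R/x} (I/(x)) ≤ pd_R I`. -/
theorem hasProjectiveDimensionLT_map (hx : x ∈ nonZeroDivisors R) (n : ℕ)
    (hpd : HasProjectiveDimensionLT (ModuleCat.of R I) (n + 1)) :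
    HasProjectiveDimensionLT
      (ModuleCat.of (R ⧸ Ideal.span ({x} : Set R))
        (I.map (Ideal.Quotient.mk (Ideal.span ({x} : Set R))))) (n + 1) := by
  have hxR : IsSMulRegular R x := by
    intro a b hab
    simp only [smul_eq_mul] at hab
    exact (mul_cancel_left_mem_nonZeroDivisors hx).mp hab
  have hxIreg : IsSMulRegular I x := by
    intro a b hab
    apply Subtype.ext
    apply hxR
    exact congrArg Subtype.val hab
  have h1 := Groth.Agent.H1.Reg.hasProjectiveDimensionLT_quotSMulTop x hxR n I hxIreg hpd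
  have hrs' : ((rho I x).extendScalarsOfSurjective (Groth.Agent.H1.Reg.mk_surj x)).comp
      ((tau I x hxI ψ hψ).extendScalarsOfSurjective (Groth.Agent.H1.Reg.mk_surj x)) =
      LinearMap.id :=
    LinearMap.ext fun y => LinearMap.congr_fun (rho_comp_tau I x hxI ψ hψ) y
  have hret : Retract
      (ModuleCat.of (R ⧸ Ideal.span ({x} : Set R))
        (I.map (Ideal.Quotient.mk (Ideal.span ({x} : Set R)))))
      (ModuleCat.of (R ⧸ Ideal.span ({x} : Set R)) (QuotSMulTop x I)) :=
    ⟨ModuleCat.ofHom ((tau I x hxI ψ hψ).extendScalarsOfSurjective (Groth.Agent.H1.Reg.mk_surj x)),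
      ModuleCat.ofHom ((rho I x).extendScalarsOfSurjective (Groth.Agent.H1.Reg.mk_surj x)), by
        rw [← ModuleCat.ofHom_comp, hrs']
        rfl⟩
  exact hret.hasProjectiveDimensionLT (n + 1)

end PD

end Groth.Agent.H1.Vasc
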