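import Mathlib
import Groth.Agent.Lib.Helper1.Vasc2
import Groth.Agent.Lib.Helper1.RegSeq

set_option autoImplicit false

universe u

open CategoryTheory IsLocalRing Pointwise RingTheory.Sequence

namespace Groth.Agent.H1.Vasc

/-- A linear map from `I` to a module killed by `I` only depends on the class modulo `I²`. -/
theorem map_eq_of_sub_mem_sq {R : Type u} [CommRing R] (I : Ideal R) {Q : Type*} [AddCommGroup Q]
    [Module R Q] (H1 : ∀ a ∈ I, ∀ q : Q, a • q = 0) (φ : I →ₗ[R] Q) (y z : I)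
    (h : (y : R) - z ∈ I ^ 2) : φ y = φ z := by
  have hf : ∀ a b : I, φ (a * b) = 0 := by
    intro a b
    have : a * b = (a : R) • b := by
      apply Subtype.ext
      rfl
    rw [this, map_smul]
    exact H1 a a.2 _
  have h1 : I.toCotangent y = I.toCotangent z := (Ideal.toCotangent_eq I).mpr h
  have h2 := congrArg (Ideal.Cotangent.lift φ hf) h1
  rwa [Ideal.Cotangent.lift_toCotangent, Ideal.Cotangent.lift_toCotangent] at h2

/-- **Vasconcelos**: regular sequence generating a free summand of the conormal module. -/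
theorem exists_isRegular : ∀ (r : ℕ) (R : Type u) [CommRing R] [IsLocalRing R]
    [IsNoetherianRing R] (I : Ideal R) (_ : I ≠ ⊤) (n : ℕ)
    (_ : HasProjectiveDimensionLT (ModuleCat.of R I) n)
    (Q : Type u) [AddCommGroup Q] [Module R Q] (q₀ : Q)
    (_ : ∀ a ∈ I, ∀ q : Q, a • q = 0) (_ : ∀ s : R, s • q₀ = 0 → s ∈ I)
    (_ : ∀ q : Q, ∃ c : R, q = c • q₀)
    (φ : I →ₗ[R] (Fin r → Q)) (x₀ : Fin r → I) (_ : ∀ i, φ (x₀ i) = Pi.single i q₀),
    ∃ x : Fin r → R, (∀ i, x i - x₀ i ∈ I ^ 2) ∧ IsRegular R (List.ofFn x) := by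
  intro r
  induction r with
  | zero =>
    intro R _ _ _ I _ n _ Q _ _ q₀ _ _ _ φ x₀ _
    refine ⟨Fin.elim0, fun i => i.elim0, ?_⟩
    rw [List.ofFn_zero]
    exact IsRegular.nil R R
  | succ r ih =>
    intro R _ _ _ I hI n hpd Q _ _ q₀ H1 H2 H3 φ x₀ hφ
    classical
    -- the identification `R/I ≃ Q`
    let f : R →ₗ[R] Q := LinearMap.toSpanSingleton R Q q₀
    have hfsurj : Function.Surjective f := fun q => by
      obtain ⟨c, rfl⟩ := H3 q; exact ⟨c, rfl⟩
    have hker : LinearMap.ker f = I := by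
      ext a
      rw [LinearMap.mem_ker, LinearMap.toSpanSingleton_apply]
      exact ⟨H2 a, fun ha => H1 a ha q₀⟩
    let χ : (R ⧸ I) ≃ₗ[R] Q :=
      (Submodule.quotEquivOfEq _ _ hker).symm.trans (f.quotKerEquivOfSurjective hfsurj)
    have hχ : χ 1 = q₀ := by
      show f 1 = q₀
      rw [LinearMap.toSpanSingleton_apply, one_smul]
    let ψ : I →ₗ[R] R ⧸ I := χ.symm.toLinearMap.comp ((LinearMap.proj 0).comp φ)
    have hψ₀ : ψ (x₀ 0) = 1 := by
      show χ.symm (φ (x₀ 0) 0) = 1
      rw [hφ, Pi.single_eq_same, ← hχ, LinearEquiv.symm_apply_apply]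
    obtain ⟨x, hxx₀, hxnzd⟩ := exists_nonZeroDivisor I n hpd ψ (x₀ 0) hψ₀
    have hxI : x ∈ I := by
      have h1 : x = (x - x₀ 0) + x₀ 0 := by ring
      rw [h1]
      exact I.add_mem (Ideal.pow_le_self two_ne_zero hxx₀) (x₀ 0).2
    have H1' : ∀ a ∈ I, ∀ q : Fin (r + 1) → Q, a • q = 0 := by
      intro a ha q
      funext i
      exact H1 a ha (q i)
    have hφx : φ ⟨x, hxI⟩ = Pi.single 0 q₀ :=
      (map_eq_of_sub_mem_sq I H1' φ ⟨x, hxI⟩ (x₀ 0) hxx₀).trans (hφ 0)
    have hψx : ψ ⟨x, hxI⟩ = 1 := by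
      show χ.symm (φ ⟨x, hxI⟩ 0) = 1
      rw [hφx, Pi.single_eq_same, ← hχ, LinearEquiv.symm_apply_apply]
    -- the quotient ring
    have hJI : Ideal.span ({x} : Set R) ≤ I := by
      rw [Ideal.span_le, Set.singleton_subset_iff]; exact hxI
    have hJne : Ideal.span ({x} : Set R) ≠ ⊤ := fun h => hI (top_le_iff.mp (h ▸ hJI))
    haveI : Nontrivial (R ⧸ Ideal.span ({x} : Set R)) := Ideal.Quotient.nontrivial_iff.mpr hJne
    haveI : IsLocalRing (R ⧸ Ideal.span ({x} : Set R)) :=
      IsLocalRing.of_surjective' (Ideal.Quotient.mk _) Ideal.Quotient.mk_surjective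
    have hsurj : Function.Surjective (Ideal.Quotient.mk (Ideal.span ({x} : Set R))) :=
      Ideal.Quotient.mk_surjective
    have hcomap : (I.map (Ideal.Quotient.mk (Ideal.span ({x} : Set R)))).comap
        (Ideal.Quotient.mk (Ideal.span ({x} : Set R))) = I := by
      rw [Ideal.comap_map_of_surjective _ hsurj, ← RingHom.ker_eq_comap_bot, Ideal.mk_ker,
        sup_eq_left]
      exact hJI
    have hI' : I.map (Ideal.Quotient.mk (Ideal.span ({x} : Set R))) ≠ ⊤ := by
      intro h
      rw [h, Ideal.comap_top] at hcomap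
      exact hI hcomap.symm
    have hpd1 : HasProjectiveDimensionLT (ModuleCat.of R I) (n + 1) :=
      hasProjectiveDimensionLT_of_ge _ n (n + 1) (Nat.le_succ n)
    have hpd' := hasProjectiveDimensionLT_map I x hxI ψ hψx hxnzd n hpd1
    -- `Q` as a module over the quotient
    have htors : Module.IsTorsionBySet R Q (Ideal.span ({x} : Set R) : Set R) := by
      intro q a
      exact H1 a.1 (hJI a.2) q
    letI : Module (R ⧸ Ideal.span ({x} : Set R)) Q := htors.module
    haveI : IsScalarTower R (R ⧸ Ideal.span ({x} : Set R)) Q := htors.isScalarTower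
    have hsm : ∀ (a : R) (q : Q), (Ideal.Quotient.mk (Ideal.span ({x} : Set R)) a) • q = a • q := by
      intro a q
      exact algebraMap_smul (R ⧸ Ideal.span ({x} : Set R)) a q
    have K1 : ∀ a' ∈ I.map (Ideal.Quotient.mk (Ideal.span ({x} : Set R))), ∀ q : Q, a' • q = 0 := by
      intro a' ha' q
      obtain ⟨a, ha, rfl⟩ := (Ideal.mem_map_iff_of_surjective _ hsurj).mp ha'
      rw [hsm]
      exact H1 a ha q
    have K2 : ∀ s' : R ⧸ Ideal.span ({x} : Set R), s' • q₀ = 0 →
        s' ∈ I.map (Ideal.Quotient.mk (Ideal.span ({x} : Set R))) := by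
      intro s' hs'
      obtain ⟨s, rfl⟩ := hsurj s'
      rw [hsm] at hs'
      exact Ideal.mem_map_of_mem _ (H2 s hs')
    have K3 : ∀ q : Q, ∃ c' : R ⧸ Ideal.span ({x} : Set R), q = c' • q₀ := by
      intro q
      obtain ⟨c, rfl⟩ := H3 q
      exact ⟨Ideal.Quotient.mk _ c, (hsm c q₀).symm⟩
    -- the induced map on `I' = I(R/x)`
    let φt : I →ₗ[R] (Fin r → Q) := (LinearMap.funLeft R Q Fin.succ).comp φ
    have hφt : ∀ y : I, ∀ i, φt y i = φ y i.succ := fun y i => rfl
    have hφtx : φt ⟨x, hxI⟩ = 0 := by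
      funext i
      rw [hφt, hφx, Pi.single_eq_of_ne (Fin.succ_ne_zero i)]
      rfl
    have hkle : LinearMap.ker (toMap I x) ≤ LinearMap.ker φt := by
      intro y hy
      rw [LinearMap.mem_ker] at hy ⊢
      obtain ⟨c, rfl⟩ := ker_toMap_le I x hxI y hy
      rw [map_smul, hφtx, smul_zero]
    let φ'₀ : (I.map (Ideal.Quotient.mk (Ideal.span ({x} : Set R)))) →ₗ[R] (Fin r → Q) :=
      ((LinearMap.ker (toMap I x)).liftQ φt hkle).comp
      ((toMap I x).quotKerEquivOfSurjective (toMap_surjective I x)).symm.toLinearMap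
    have hφ'₀ : ∀ y : I, φ'₀ (toMap I x y) = φt y := by
      intro y
      show ((LinearMap.ker (toMap I x)).liftQ φt hkle)
        (((toMap I x).quotKerEquivOfSurjective (toMap_surjective I x)).symm (toMap I x y)) = _
      have : ((toMap I x).quotKerEquivOfSurjective (toMap_surjective I x)).symm (toMap I x y) =
          Submodule.Quotient.mk y := by
        rw [LinearEquiv.symm_apply_eq]
        rfl
      rw [this]
      rfl
    let φ' : (I.map (Ideal.Quotient.mk (Ideal.span ({x} : Set R)))) →ₗ[R ⧸ Ideal.span ({x} : Set R)]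
        (Fin r → Q) := φ'₀.extendScalarsOfSurjective (Groth.Agent.H1.Reg.mk_surj x)
    let x₀' : Fin r → (I.map (Ideal.Quotient.mk (Ideal.span ({x} : Set R)))) :=
      fun i => toMap I x (x₀ i.succ)
    have hφ' : ∀ i, φ' (x₀' i) = Pi.single i q₀ := by
      intro i
      show φ'₀ (toMap I x (x₀ i.succ)) = _
      rw [hφ'₀]
      funext j
      rw [hφt, hφ]
      by_cases hij : j = i
      · subst hij; rw [Pi.single_eq_same, Pi.single_eq_same]
      · rw [Pi.single_eq_of_ne hij, Pi.single_eq_of_ne (fun h => hij (Fin.succ_injective _ h))]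
    obtain ⟨x', hx'sq, hx'reg⟩ := ih (R ⧸ Ideal.span ({x} : Set R))
      (I.map (Ideal.Quotient.mk (Ideal.span ({x} : Set R)))) hI' (n + 1) hpd' Q q₀ K1 K2 K3
      φ' x₀' hφ'
    -- lift the sequence
    have hlift : ∀ i, ∃ z ∈ I ^ 2, Ideal.Quotient.mk (Ideal.span ({x} : Set R)) z =
        x' i - Ideal.Quotient.mk (Ideal.span ({x} : Set R)) (x₀ i.succ : R) := by
      intro i
      have h1 := hx'sq i
      rw [← Ideal.map_pow] at h1
      obtain ⟨z, hz, hzeq⟩ := (Ideal.mem_map_iff_of_surjective _ hsurj).mp h1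
      exact ⟨z, hz, hzeq⟩
    choose z hz hzeq using hlift
    refine ⟨Fin.cons x (fun i => (x₀ i.succ : R) + z i), ?_, ?_⟩
    · intro i
      refine Fin.cases ?_ (fun j => ?_) i
      · rw [Fin.cons_zero]; exact hxx₀
      · rw [Fin.cons_succ]
        have : (x₀ j.succ : R) + z j - (x₀ j.succ : R) = z j := by ring
        rw [this]
        exact hz j
    · have hlist : List.ofFn (Fin.cons x (fun i => (x₀ i.succ : R) + z i) : Fin (r + 1) → R) =
          x :: List.ofFn (fun i => (x₀ i.succ : R) + z i) := by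
        rw [List.ofFn_succ]
        simp only [Fin.cons_zero, Fin.cons_succ]
      rw [hlist, isRegular_cons_iff']
      refine ⟨?_, ?_⟩
      · intro a b hab
        simp only [smul_eq_mul] at hab
        exact (mul_cancel_left_mem_nonZeroDivisors hxnzd).mp hab
      · rw [(Groth.Agent.H1.Reg.quotSMulTopSelfEquiv x).isRegular_congr, List.map_ofFn]
        have hfun : (⇑(Ideal.Quotient.mk (Ideal.span ({x} : Set R))) ∘
            fun i => (x₀ i.succ : R) + z i) = x' := by
          funext i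
          simp only [Function.comp_apply, map_add, hzeq]
          ring
        rw [hfun]
        exact hx'reg

end Groth.Agent.H1.Vasc
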