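import Mathlib
import Groth.Prelude.Def_Mor2
import Groth.Agent.Lib.Helper1.RegComp

/-! Composites of regular closed immersions. -/

universe u
set_option linter.style.haveILetI false
open CategoryTheory AlgebraicGeometry TopologicalSpace Opposite

namespace Groth.Agent.H1.RegComp

open RingTheory.Sequence

/-- the kernel ideal of a quasi-compact morphism is proper on an affine open meeting the image. -/
theorem ker_ideal_ne_top {X Y : Scheme.{u}} (f : X ⟶ Y) [QuasiCompact f] (W : Y.affineOpens)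
    (x : X) (hx : f x ∈ W.1) : f.ker.ideal W ≠ ⊤ := by
  intro h
  have h1 : (1 : Γ(Y, W.1)) ∈ f.ker.ideal W := h ▸ Submodule.mem_top
  rw [Scheme.Hom.ker_apply, RingHom.mem_ker, map_one] at h1
  have hx' : x ∈ f ⁻¹ᵁ W.1 := hx
  have h2 : X.presheaf.germ (f ⁻¹ᵁ W.1) x hx' 1 = X.presheaf.germ (f ⁻¹ᵁ W.1) x hx' 0 := by
    rw [h1]
  rw [map_one, map_zero] at h2
  exact one_ne_zero h2

/-- restriction of a regular chart of an ideal sheaf to a basic open. -/
theorem exists_regular_of_eq_basicOpen {Y : Scheme.{u}} (I : Y.IdealSheafData) (V : Y.Opens)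
    (hV : IsAffineOpen V) (g : Γ(Y, V)) (W : Y.Opens) (hW : IsAffineOpen W)
    (e : W = Y.basicOpen g) (ss : List Γ(Y, V)) (hss : IsWeaklyRegular Γ(Y, V) ss)
    (hI : I.ideal ⟨V, hV⟩ = Ideal.ofList ss) (hne : I.ideal ⟨W, hW⟩ ≠ ⊤) :
    ∃ ss' : List Γ(Y, W), IsRegular Γ(Y, W) ss' ∧ I.ideal ⟨W, hW⟩ = Ideal.ofList ss' := by
  subst e
  haveI := hV.isLocalization_basicOpen g
  have hmap : I.ideal ⟨Y.basicOpen g, hW⟩ =
      (Ideal.ofList ss).map (algebraMap Γ(Y, V) Γ(Y, Y.basicOpen g)) := by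
    rw [← hI]
    exact (I.map_ideal_basicOpen ⟨V, hV⟩ g).symm
  refine ⟨ss.map (algebraMap Γ(Y, V) Γ(Y, Y.basicOpen g)), ?_, ?_⟩
  · exact isRegular_of_isLocalization (Submonoid.powers g) _ ss hss (hmap ▸ hne)
  · rw [hmap, Ideal.map_ofList]

/-- **Composite of regular closed immersions.** -/
theorem isRegularClosedImmersion_comp {Z Y X : Scheme.{u}} (i : Z ⟶ Y) (j : Y ⟶ X)
    (hi : Mor2.IsRegularClosedImmersion i) (hj : Mor2.IsRegularClosedImmersion j) :
    Mor2.IsRegularClosedImmersion (i ≫ j) := by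
  haveI := hi.1
  haveI := hj.1
  refine ⟨inferInstance, fun z => ?_⟩
  obtain ⟨U, hU, hzU, rs, hrs, hIU⟩ := hj.2 (i z)
  obtain ⟨V, hV, hzV, ss, hss, hIV⟩ := hi.2 z
  have hU' : IsAffineOpen (j ⁻¹ᵁ U) := hU.preimage j
  obtain ⟨f, g, hfg, hyf⟩ := exists_basicOpen_le_affine_inter hU' hV (i z) ⟨hzU, hzV⟩
  obtain ⟨a, ha⟩ := j.app_surjective U hU f
  have hW : IsAffineOpen (X.basicOpen a) := hU.basicOpen a
  have hpre : j ⁻¹ᵁ X.basicOpen a = Y.basicOpen g := by
    rw [Scheme.preimage_basicOpen, ha, hfg]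
  have hW' : IsAffineOpen (j ⁻¹ᵁ X.basicOpen a) := hW.preimage j
  have hzW : (i ≫ j) z ∈ X.basicOpen a := by
    change i z ∈ j ⁻¹ᵁ X.basicOpen a
    rw [hpre, ← hfg]
    exact hyf
  -- regular chart of `j` on `W`
  obtain ⟨rs', hrs', hIW⟩ := exists_regular_of_eq_basicOpen j.ker U hU a (X.basicOpen a) hW rfl
    rs hrs.toIsWeaklyRegular hIU (ker_ideal_ne_top j ⟨_, hW⟩ (i z) hzW)
  -- regular chart of `i` on `j⁻¹ W`
  obtain ⟨ss', hss', hIW'⟩ := exists_regular_of_eq_basicOpen i.ker V hV g (j ⁻¹ᵁ X.basicOpen a) hW'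
    hpre ss hss.toIsWeaklyRegular hIV (ker_ideal_ne_top i ⟨_, hW'⟩ z hzW)
  -- lift
  have hsurj : Function.Surjective (j.app (X.basicOpen a)).hom := j.app_surjective _ hW
  obtain ⟨ts, hts⟩ : ∃ ts : List Γ(X, X.basicOpen a), ts.map (j.app (X.basicOpen a)).hom = ss' := by
    refine ⟨ss'.map (Function.surjInv hsurj), ?_⟩
    rw [List.map_map]
    conv_rhs => rw [← List.map_id ss']
    apply List.map_congr_left
    intro s _
    exact Function.surjInv_eq hsurj s
  have hkerj : RingHom.ker (j.app (X.basicOpen a)).hom = Ideal.ofList rs' := by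
    rw [← hIW, Scheme.Hom.ker_apply]
  obtain ⟨hreg, hcomap⟩ := isRegular_append_of_surjective (j.app (X.basicOpen a)).hom hsurj rs' ts
    hrs' hkerj (hts ▸ hss')
  refine ⟨X.basicOpen a, hW, hzW, rs' ++ ts, hreg, ?_⟩
  rw [← hcomap, hts, ← hIW', Scheme.Hom.ker_apply, Scheme.Hom.ker_apply]
  ext t
  rw [Ideal.mem_comap, RingHom.mem_ker, RingHom.mem_ker, Scheme.Hom.comp_app]
  rfl

end Groth.Agent.H1.RegComp
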