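import Mathlib
import Groth.Agent.Lib.Helper1.RegComp
import Groth.Agent.Lib.Helper1.RegSpread

/-! Exchange lemmas for regular sequences in Noetherian local rings; two-out-of-three for ideals
generated by regular sequences. -/

universe u
set_option linter.style.haveILetI false

namespace Groth.Agent.H1.RegExch

open RingTheory.Sequence IsLocalRing Groth.Agent.H1.RegComp

section General

variable {A B : Type*} [CommRing A] [CommRing B]

theorem comap_ofList_map (φ : A →+* B) (hφ : Function.Surjective φ) (rs ts : List A)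
    (hker : RingHom.ker φ = Ideal.ofList rs) :
    Ideal.comap φ (Ideal.ofList (ts.map φ)) = Ideal.ofList (rs ++ ts) := by
  rw [← Ideal.map_ofList, Ideal.comap_map_of_surjective φ hφ, Ideal.ofList_append, ← hker,
    sup_comm]
  rfl

theorem isWeaklyRegular_append_iff_of_surjective (φ : A →+* B) (hφ : Function.Surjective φ)
    (rs ts : List A) (hker : RingHom.ker φ = Ideal.ofList rs) :
    IsWeaklyRegular A (rs ++ ts) ↔ IsWeaklyRegular A rs ∧ IsWeaklyRegular B (ts.map φ) := by
  letI := φ.toAlgebra
  rw [isWeaklyRegular_append_iff]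
  refine and_congr_right fun _ => ?_
  have hk : (Ideal.ofList rs • (⊤ : Submodule A A)) = LinearMap.ker (Algebra.linearMap A B) := by
    rw [ofList_smul_top, ← hker]
    ext x
    simp [RingHom.mem_ker, RingHom.algebraMap_toAlgebra]
  have e : (A ⧸ (Ideal.ofList rs • ⊤ : Submodule A A)) ≃ₗ[A] B :=
    (Submodule.quotEquivOfEq _ _ hk).trans
      (LinearMap.quotKerEquivOfSurjective (Algebra.linearMap A B) hφ)
  rw [e.isWeaklyRegular_congr]
  exact (isWeaklyRegular_map_algebraMap_iff B B ts).symm

theorem isRegular_append_iff_of_surjective (φ : A →+* B) (hφ : Function.Surjective φ)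
    (rs ts : List A) (hker : RingHom.ker φ = Ideal.ofList rs) :
    IsRegular A (rs ++ ts) ↔ IsWeaklyRegular A rs ∧ IsRegular B (ts.map φ) := by
  rw [isRegular_iff_ne_top, isRegular_iff_ne_top,
    isWeaklyRegular_append_iff_of_surjective φ hφ rs ts hker, and_assoc,
    ← comap_ofList_map φ hφ rs ts hker]
  refine and_congr_right fun _ => and_congr_right fun _ => not_congr ?_
  constructor
  · intro h
    have h1 : (1 : A) ∈ Ideal.comap φ (Ideal.ofList (ts.map φ)) := h ▸ Submodule.mem_top
    rw [Ideal.mem_comap, map_one] at h1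
    exact (Ideal.eq_top_iff_one _).mpr h1
  · intro h
    rw [h, Ideal.comap_top]

theorem isRegular_cons_iff_quotient (t : A) (ts : List A) :
    IsRegular A (t :: ts) ↔ IsSMulRegular A t ∧
      IsRegular (A ⧸ Ideal.span {t}) (ts.map (Ideal.Quotient.mk (Ideal.span {t}))) := by
  have := isRegular_append_iff_of_surjective (Ideal.Quotient.mk (Ideal.span {t}))
    Ideal.Quotient.mk_surjective [t] ts (by rw [Ideal.mk_ker, Ideal.ofList_singleton])
  rw [List.singleton_append, isWeaklyRegular_singleton_iff] at this
  exact this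

theorem exists_list_lift {α β : Type*} (f : α → β) (P : α → Prop) (l : List β)
    (h : ∀ b ∈ l, ∃ a, P a ∧ f a = b) : ∃ l' : List α, l'.map f = l ∧ ∀ a ∈ l', P a := by
  induction l with
  | nil => exact ⟨[], rfl, by simp⟩
  | cons b l ih =>
    obtain ⟨l', hl', hP⟩ := ih fun b' hb' => h b' (List.mem_cons_of_mem _ hb')
    obtain ⟨a, ha, hab⟩ := h b List.mem_cons_self
    refine ⟨a :: l', by rw [List.map_cons, hab, hl'], ?_⟩
    intro a' ha'
    rcases List.mem_cons.mp ha' with rfl | ha'
    · exact ha
    · exact hP a' ha'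

end General

section Local

variable {A : Type*} [CommRing A] [IsLocalRing A] [IsNoetherianRing A]

theorem isSMulRegular_of_isRegular_append_singleton (as : List A) (b : A)
    (h : IsWeaklyRegular A (as ++ [b])) : ∀ y, b * y ∈ Ideal.ofList as → y ∈ Ideal.ofList as := by
  rw [isWeaklyRegular_append_iff, isWeaklyRegular_singleton_iff] at h
  exact (Groth.Agent.H1.Spread.isSMulRegular_quotient_iff _ _).mp h.2

/-- the first member of a regular sequence is not in `𝔪` times the ideal generated. -/
theorem not_mem_of_isRegular_cons (b : A) (bs : List A) (h : IsRegular A (b :: bs)) :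
    b ∉ maximalIdeal A * Ideal.ofList (b :: bs) := by
  intro hb
  rw [Ideal.ofList_cons, Ideal.mul_sup] at hb
  obtain ⟨y, hy, z, hz, hyz⟩ := Submodule.mem_sup.mp hb
  obtain ⟨μ, hμ, rfl⟩ := Ideal.mem_mul_span_singleton.mp hy
  have hz' : z ∈ Ideal.ofList bs := Ideal.mul_le_right hz
  have hu : IsUnit (1 - μ) := by
    by_contra hcon
    have h1 : (1 - μ) ∈ maximalIdeal A := (mem_maximalIdeal _).mpr hcon
    have : (1 : A) ∈ maximalIdeal A := by
      have := Ideal.add_mem _ h1 hμ
      rwa [sub_add_cancel] at this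
    exact (Ideal.ne_top_iff_one _).mp (maximalIdeal.isMaximal A).ne_top this
  have hb1 : (1 - μ) * b ∈ Ideal.ofList bs := by
    have : (1 - μ) * b = z := by linear_combination (-1 : A) * hyz
    rw [this]; exact hz'
  have hb2 : b ∈ Ideal.ofList bs := (Ideal.unit_mul_mem_iff_mem _ hu).mp hb1
  have hperm : IsRegular A (bs ++ [b]) :=
    IsLocalRing.isRegular_of_perm h (List.perm_append_singleton b bs).symm
  have h1 := isSMulRegular_of_isRegular_append_singleton bs b hperm.toIsWeaklyRegular 1
    (by rwa [mul_one])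
  have h2 : Ideal.ofList (b :: bs) = ⊤ := by
    rw [Ideal.ofList_cons, (Ideal.eq_top_iff_one _).mpr h1, sup_top_eq]
  exact ((isRegular_iff_ne_top _).mp h).2 h2

omit [IsNoetherianRing A] in
/-- an element of `(as)` outside `𝔪 (as)` has a unit coefficient. -/
theorem exists_unit_coeff (as : List A) (b : A) (hb : b ∈ Ideal.ofList as)
    (hb' : b ∉ maximalIdeal A * Ideal.ofList as) :
    ∃ (k : ℕ) (hk : k < as.length) (c : A) (w : A), IsUnit c ∧ w ∈ Ideal.ofList (as.eraseIdx k) ∧
      b = c * as[k] + w := by
  induction as generalizing b with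
  | nil =>
    rw [Ideal.ofList_nil, Ideal.mem_bot] at hb
    exact absurd (hb ▸ Ideal.zero_mem _) hb'
  | cons a as ih =>
    rw [Ideal.ofList_cons] at hb
    obtain ⟨y, hy, w, hw, hyw⟩ := Submodule.mem_sup.mp hb
    obtain ⟨c, rfl⟩ := Ideal.mem_span_singleton'.mp hy
    by_cases hc : IsUnit c
    · exact ⟨0, by simp, c, w, hc, by simpa using hw, by simpa using hyw.symm⟩
    · have hcm : c ∈ maximalIdeal A := (mem_maximalIdeal _).mpr hc
      have hw' : w ∉ maximalIdeal A * Ideal.ofList as := by
        intro hcon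
        apply hb'
        rw [← hyw]
        apply Ideal.add_mem
        · exact Ideal.mul_mem_mul hcm (Ideal.subset_span List.mem_cons_self)
        · refine Ideal.mul_mono_right ?_ hcon
          rw [Ideal.ofList_cons]
          exact le_sup_right
      obtain ⟨k, hk, c', w', hc', hw'', hww⟩ := ih w hw hw'
      refine ⟨k + 1, by simpa using hk, c', c * a + w', hc', ?_, ?_⟩
      · rw [List.eraseIdx_cons_succ, Ideal.ofList_cons]
        exact Submodule.add_mem_sup (Ideal.mem_span_singleton'.mpr ⟨c, rfl⟩) hw''
      · rw [← hyw, hww]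
        simp only [List.getElem_cons_succ]
        ring

/-- **Exchange lemma.** -/
theorem exists_cons_of_not_mem (as : List A) (has : IsRegular A as) (b : A)
    (hb : b ∈ Ideal.ofList as) (hb' : b ∉ maximalIdeal A * Ideal.ofList as) :
    ∃ as' : List A, IsRegular A (b :: as') ∧ Ideal.ofList (b :: as') = Ideal.ofList as ∧
      as'.length + 1 = as.length := by
  obtain ⟨k, hk, c, w, hc, hw, hbw⟩ := exists_unit_coeff as b hb hb'
  set as' := as.eraseIdx k with has'
  have hperm : List.Perm as (as' ++ [as[k]]) := by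
    have h1 : as'.insertIdx k as[k] = as := List.insertIdx_eraseIdx_getElem hk
    have h2 : List.Perm (as'.insertIdx k as[k]) (as[k] :: as') :=
      List.perm_insertIdx _ _ (by rw [has', List.length_eraseIdx_of_lt hk]; omega)
    rw [h1] at h2
    exact h2.trans (List.perm_append_singleton _ _).symm
  have hreg1 : IsRegular A (as' ++ [as[k]]) := IsLocalRing.isRegular_of_perm has hperm
  have hideal1 : Ideal.ofList (as' ++ [as[k]]) = Ideal.ofList as := by
    unfold Ideal.ofList
    congr 1
    ext x
    exact hperm.symm.mem_iff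
  have hideal2 : Ideal.ofList (as' ++ [b]) = Ideal.ofList (as' ++ [as[k]]) := by
    rw [Ideal.ofList_append, Ideal.ofList_append, Ideal.ofList_singleton, Ideal.ofList_singleton]
    apply le_antisymm
    · refine sup_le le_sup_left ?_
      rw [Ideal.span_singleton_le_iff_mem, hbw]
      exact Ideal.add_mem _ (Ideal.mul_mem_left _ _ (Submodule.mem_sup_right
        (Ideal.mem_span_singleton_self _))) (Submodule.mem_sup_left hw)
    · refine sup_le le_sup_left ?_
      rw [Ideal.span_singleton_le_iff_mem]
      have h1 : c * as[k] ∈ Ideal.ofList as' ⊔ Ideal.span {b} := by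
        have : c * as[k] = b - w := by rw [hbw]; ring
        rw [this]
        exact Ideal.sub_mem _ (Submodule.mem_sup_right (Ideal.mem_span_singleton_self _))
          (Submodule.mem_sup_left hw)
      exact (Ideal.unit_mul_mem_iff_mem _ hc).mp h1
  have hreg2 : IsRegular A (as' ++ [b]) := by
    rw [isRegular_iff_ne_top, hideal2]
    refine ⟨?_, ((isRegular_iff_ne_top _).mp hreg1).2⟩
    have h1 := hreg1.toIsWeaklyRegular
    rw [isWeaklyRegular_append_iff] at h1 ⊢
    refine ⟨h1.1, ?_⟩
    rw [isWeaklyRegular_singleton_iff, Groth.Agent.H1.Spread.isSMulRegular_quotient_iff]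
    have h2 := isSMulRegular_of_isRegular_append_singleton as' as[k] hreg1.toIsWeaklyRegular
    intro y hy
    have h3 : as[k] * (c * y) ∈ Ideal.ofList as' := by
      have : as[k] * (c * y) = b * y - w * y := by rw [hbw]; ring
      rw [this]
      exact Ideal.sub_mem _ hy (Ideal.mul_mem_right _ _ hw)
    exact (Ideal.unit_mul_mem_iff_mem _ hc).mp (h2 _ h3)
  refine ⟨as', IsLocalRing.isRegular_of_perm hreg2 (List.perm_append_singleton b as'), ?_, ?_⟩
  · rw [← hideal1, ← hideal2, Ideal.ofList_cons, Ideal.ofList_append, Ideal.ofList_singleton,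
      sup_comm]
  · rw [has', List.length_eraseIdx_of_lt hk]
    omega

end Local

section TwoOfThree

theorem isLocalRing_quotient_span_singleton {A : Type*} [CommRing A] [IsLocalRing A] (t : A)
    (ht : t ∈ maximalIdeal A) : IsLocalRing (A ⧸ Ideal.span {t}) := by
  haveI : Nontrivial (A ⧸ Ideal.span {t}) := by
    rw [Ideal.Quotient.nontrivial_iff]
    intro h
    have : Ideal.span {t} ≤ maximalIdeal A := (Ideal.span_singleton_le_iff_mem _).mpr ht
    exact (maximalIdeal.isMaximal A).ne_top (top_le_iff.mp (h ▸ this))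
  exact IsLocalRing.of_surjective' (Ideal.Quotient.mk _) Ideal.Quotient.mk_surjective

theorem ofList_map_mk_eq {A : Type*} [CommRing A] (t : A) (ts : List A) :
    Ideal.ofList (ts.map (Ideal.Quotient.mk (Ideal.span {t}))) =
      (Ideal.ofList (t :: ts)).map (Ideal.Quotient.mk (Ideal.span {t})) := by
  rw [Ideal.ofList_cons, Ideal.map_sup, Ideal.map_quotient_self, bot_sup_eq, Ideal.map_ofList]

theorem mem_maximalIdeal_of_isRegular {A : Type*} [CommRing A] [IsLocalRing A] (ts : List A)
    (h : IsRegular A ts) (t : A) (ht : t ∈ ts) : t ∈ maximalIdeal A :=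
  IsLocalRing.le_maximalIdeal ((isRegular_iff_ne_top _).mp h).2 (Ideal.subset_span ht)

/-- **Two out of three**: if `J` and `J B` (`B = A/I`, `I ⊆ J`) are generated by regular
sequences, so is `I`. -/
theorem ker_eq_ofList_of_isRegular (n : ℕ) : ∀ {A B : Type u} [CommRing A] [CommRing B]
    [IsLocalRing A] [IsNoetherianRing A] (φ : A →+* B) (_ : Function.Surjective φ)
    (as ts : List A), ts.length = n → IsRegular A as → IsRegular B (ts.map φ) →
    (Ideal.ofList as).map φ = Ideal.ofList (ts.map φ) → RingHom.ker φ ≤ Ideal.ofList as →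
    ∃ cs : List A, IsRegular A cs ∧ RingHom.ker φ = Ideal.ofList cs := by
  induction n with
  | zero =>
    intro A B _ _ _ _ φ hφ as ts hlen has hts hmap hker
    obtain rfl := List.length_eq_zero_iff.mp hlen
    rw [List.map_nil, Ideal.ofList_nil, Ideal.map_eq_bot_iff_le_ker] at hmap
    exact ⟨as, has, le_antisymm hker hmap⟩
  | succ n ih =>
    intro A B _ _ _ _ φ hφ as ts hlen has hts hmap hker
    obtain ⟨t, ts', rfl⟩ := List.exists_cons_of_length_eq_add_one hlen
    have hlen' : ts'.length = n := by simpa using hlen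
    haveI : Nontrivial B := hts.nontrivial
    haveI : IsLocalRing B := IsLocalRing.of_surjective' φ hφ
    haveI : IsNoetherianRing B := isNoetherianRing_of_surjective A B φ hφ
    haveI : IsLocalHom φ := IsLocalHom.of_surjective φ hφ
    set J := Ideal.ofList as with hJ
    rw [List.map_cons] at hts hmap
    -- `t ∈ J`
    have htJ : t ∈ J := by
      have h1 : φ t ∈ J.map φ := by
        rw [hmap]
        exact Ideal.subset_span List.mem_cons_self
      have h2 : t ∈ Ideal.comap φ (J.map φ) := h1
      rw [Ideal.comap_map_of_surjective φ hφ, ← RingHom.ker_eq_comap_bot,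
        sup_eq_left.mpr hker] at h2
      exact h2
    have hmmap : (maximalIdeal A).map φ ≤ maximalIdeal B := by
      rw [Ideal.map_le_iff_le_comap, IsLocalRing.maximalIdeal_comap φ]
    have htJ' : t ∉ maximalIdeal A * J := by
      intro hcon
      have h1 : φ t ∈ (maximalIdeal A * J).map φ := Ideal.mem_map_of_mem φ hcon
      rw [Ideal.map_mul, hmap] at h1
      exact not_mem_of_isRegular_cons (φ t) (ts'.map φ) hts (Ideal.mul_mono_left hmmap h1)
    obtain ⟨as', has', hJ', -⟩ := exists_cons_of_not_mem as has t htJ htJ'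
    have htm : t ∈ maximalIdeal A := mem_maximalIdeal_of_isRegular _ has' t List.mem_cons_self
    have hφtm : φ t ∈ maximalIdeal B :=
      mem_maximalIdeal_of_isRegular _ hts (φ t) List.mem_cons_self
    -- quotients
    haveI : IsLocalRing (A ⧸ Ideal.span {t}) := isLocalRing_quotient_span_singleton t htm
    have hle : Ideal.span {t} ≤ Ideal.comap φ (Ideal.span {φ t}) := by
      rw [Ideal.span_singleton_le_iff_mem, Ideal.mem_comap]
      exact Ideal.mem_span_singleton_self _
    set φ₁ : (A ⧸ Ideal.span {t}) →+* (B ⧸ Ideal.span {φ t}) :=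
      Ideal.quotientMap (Ideal.span {φ t}) φ hle with hφ₁
    have hφ₁s : Function.Surjective φ₁ := Ideal.quotientMap_surjective hφ
    have hφ₁mk : ∀ a, φ₁ (Ideal.Quotient.mk _ a) = Ideal.Quotient.mk _ (φ a) := fun a =>
      Ideal.quotientMap_mk
    have hcomp : φ₁.comp (Ideal.Quotient.mk (Ideal.span {t})) =
        (Ideal.Quotient.mk (Ideal.span {φ t})).comp φ := by
      ext a; exact hφ₁mk a
    obtain ⟨htreg, has₁⟩ := (isRegular_cons_iff_quotient t as').mp has'
    obtain ⟨hφtreg, hts₁⟩ := (isRegular_cons_iff_quotient (φ t) (ts'.map φ)).mp hts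
    have hts₁' : IsRegular (B ⧸ Ideal.span {φ t})
        ((ts'.map (Ideal.Quotient.mk (Ideal.span {t}))).map φ₁) := by
      have : (ts'.map (Ideal.Quotient.mk (Ideal.span {t}))).map φ₁ =
          (ts'.map φ).map (Ideal.Quotient.mk (Ideal.span {φ t})) := by
        rw [List.map_map, List.map_map]
        apply List.map_congr_left
        intro a _
        exact hφ₁mk a
      rw [this]
      exact hts₁
    have hmap₁ : (Ideal.ofList (as'.map (Ideal.Quotient.mk (Ideal.span {t})))).map φ₁ =
        Ideal.ofList ((ts'.map (Ideal.Quotient.mk (Ideal.span {t}))).map φ₁) := by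
      rw [ofList_map_mk_eq, hJ', Ideal.map_map, hcomp, ← Ideal.map_map, hmap,
        ← ofList_map_mk_eq]
      congr 1
      rw [List.map_map, List.map_map]
      apply List.map_congr_left
      intro a _
      exact (hφ₁mk a).symm
    have hker₁ : RingHom.ker φ₁ = (RingHom.ker φ).map (Ideal.Quotient.mk (Ideal.span {t})) := by
      apply le_antisymm
      · intro xb hxb
        obtain ⟨x, rfl⟩ := Ideal.Quotient.mk_surjective xb
        rw [RingHom.mem_ker, hφ₁mk, Ideal.Quotient.eq_zero_iff_mem,
          Ideal.mem_span_singleton'] at hxb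
        obtain ⟨β, hβ⟩ := hxb
        obtain ⟨b, rfl⟩ := hφ β
        have h1 : x - b * t ∈ RingHom.ker φ := by
          rw [RingHom.mem_ker, map_sub, map_mul, hβ, sub_self]
        have h2 : Ideal.Quotient.mk (Ideal.span {t}) x =
            Ideal.Quotient.mk (Ideal.span {t}) (x - b * t) := by
          rw [map_sub, map_mul, Ideal.Quotient.eq_zero_iff_mem.mpr
            (Ideal.mem_span_singleton_self t), mul_zero, sub_zero]
        rw [h2]
        exact Ideal.mem_map_of_mem _ h1
      · rw [Ideal.map_le_iff_le_comap]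
        intro x hx
        rw [Ideal.mem_comap, RingHom.mem_ker, hφ₁mk, RingHom.mem_ker.mp hx, map_zero]
    have hker₁' : RingHom.ker φ₁ ≤
        Ideal.ofList (as'.map (Ideal.Quotient.mk (Ideal.span {t}))) := by
      rw [hker₁, ofList_map_mk_eq, hJ']
      exact Ideal.map_mono hker
    obtain ⟨cs₁, hcs₁, hkercs₁⟩ := ih φ₁ hφ₁s _ _ (by rw [List.length_map]; exact hlen') has₁
      hts₁' hmap₁ hker₁'
    -- lift `cs₁`
    obtain ⟨cs, hcs, hcsker⟩ := exists_list_lift (Ideal.Quotient.mk (Ideal.span {t}))
      (fun c => c ∈ RingHom.ker φ) cs₁ (by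
        intro cb hcb
        have h1 : cb ∈ RingHom.ker φ₁ := hkercs₁ ▸ Ideal.subset_span hcb
        rw [hker₁] at h1
        obtain ⟨c, hc, rfl⟩ := (Ideal.mem_map_iff_of_surjective _
          Ideal.Quotient.mk_surjective).mp h1
        exact ⟨c, hc, rfl⟩)
    have hreg1 : IsRegular A (t :: cs) :=
      (isRegular_cons_iff_quotient t cs).mpr ⟨htreg, hcs ▸ hcs₁⟩
    have hreg2 : IsRegular A (cs ++ [t]) :=
      IsLocalRing.isRegular_of_perm hreg1 (List.perm_append_singleton t cs).symm
    have hcsreg : IsRegular A cs := by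
      rw [isRegular_iff_ne_top]
      refine ⟨((isWeaklyRegular_append_iff _ _ _).mp hreg2.toIsWeaklyRegular).1, ?_⟩
      intro h
      apply ((isRegular_iff_ne_top _).mp hreg2).2
      rw [Ideal.ofList_append, h, top_sup_eq]
    refine ⟨cs, hcsreg, le_antisymm ?_ (Ideal.span_le.mpr hcsker)⟩
    apply Submodule.le_of_le_smul_of_le_jacobson_bot (I := maximalIdeal A)
      (IsNoetherian.noetherian _)
    · rw [IsLocalRing.jacobson_eq_maximalIdeal ⊥ bot_ne_top]
    · intro x hx
      have h1 : Ideal.Quotient.mk (Ideal.span {t}) x ∈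
          (Ideal.ofList cs).map (Ideal.Quotient.mk (Ideal.span {t})) := by
        rw [Ideal.map_ofList, hcs, ← hkercs₁, hker₁]
        exact Ideal.mem_map_of_mem _ hx
      have h2 : x ∈ Ideal.comap (Ideal.Quotient.mk (Ideal.span {t}))
          ((Ideal.ofList cs).map (Ideal.Quotient.mk (Ideal.span {t}))) := h1
      rw [Ideal.comap_map_of_surjective _ Ideal.Quotient.mk_surjective,
        ← RingHom.ker_eq_comap_bot, Ideal.mk_ker] at h2
      obtain ⟨c, hc, y, hy, rfl⟩ := Submodule.mem_sup.mp h2
      obtain ⟨a, rfl⟩ := Ideal.mem_span_singleton'.mp hy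
      have hcker : c ∈ RingHom.ker φ := Ideal.span_le.mpr hcsker hc
      have hat : a * t ∈ RingHom.ker φ := by
        have := Ideal.sub_mem _ hx hcker
        rwa [add_sub_cancel_left] at this
      have ha : a ∈ RingHom.ker φ := by
        rw [RingHom.mem_ker, map_mul] at hat
        rw [RingHom.mem_ker]
        apply hφtreg
        simp only [smul_eq_mul, mul_zero]
        rw [mul_comm]
        exact hat
      refine Submodule.add_mem_sup hc ?_
      rw [smul_eq_mul, mul_comm a t]
      exact Ideal.mul_mem_mul htm ha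

end TwoOfThree

section Extension

theorem map_maximalIdeal_mk {A : Type*} [CommRing A] [IsLocalRing A] (I : Ideal A)
    [IsLocalRing (A ⧸ I)] :
    (maximalIdeal A).map (Ideal.Quotient.mk I) = maximalIdeal (A ⧸ I) := by
  haveI : IsLocalHom (Ideal.Quotient.mk I) :=
    IsLocalHom.of_surjective _ Ideal.Quotient.mk_surjective
  rw [← IsLocalRing.maximalIdeal_comap (Ideal.Quotient.mk I),
    Ideal.map_comap_of_surjective _ Ideal.Quotient.mk_surjective]

/-- **Extension lemma**: elements of `J = (as)` which are independent modulo `𝔪 J` extend to a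
regular sequence generating `J`. -/
theorem exists_append_of_indep (r : ℕ) : ∀ {A : Type u} [CommRing A] [IsLocalRing A]
    [IsNoetherianRing A] (as : List A) (c : Fin r → A), IsRegular A as →
    (∀ i, c i ∈ Ideal.ofList as) →
    (∀ l : Fin r → A, ∑ i, l i * c i ∈ maximalIdeal A * Ideal.ofList as →
      ∀ i, l i ∈ maximalIdeal A) →
    ∃ bs : List A, IsRegular A (List.ofFn c ++ bs) ∧
      Ideal.ofList (List.ofFn c ++ bs) = Ideal.ofList as := by
  induction r with
  | zero =>
    intro A _ _ _ as c has _ _
    exact ⟨as, by simpa using has, by simp⟩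
  | succ r ih =>
    intro A _ _ _ as c has hc hind
    set J := Ideal.ofList as with hJ
    have hc0 : c 0 ∉ maximalIdeal A * J := by
      intro hcon
      have := hind (Pi.single 0 1) (by
        rw [Finset.sum_eq_single 0]
        · simpa using hcon
        · intro i _ hi
          simp [Pi.single_apply, hi]
        · simp) 0
      rw [Pi.single_eq_same] at this
      exact (Ideal.ne_top_iff_one _).mp (maximalIdeal.isMaximal A).ne_top this
    obtain ⟨as', has', hJ', -⟩ := exists_cons_of_not_mem as has (c 0) (hc 0) hc0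
    have htm : c 0 ∈ maximalIdeal A :=
      mem_maximalIdeal_of_isRegular _ has' (c 0) List.mem_cons_self
    haveI : IsLocalRing (A ⧸ Ideal.span {c 0}) := isLocalRing_quotient_span_singleton (c 0) htm
    obtain ⟨htreg, has₁⟩ := (isRegular_cons_iff_quotient (c 0) as').mp has'
    set mk₁ := Ideal.Quotient.mk (Ideal.span {c 0}) with hmk₁
    have hJ₁ : Ideal.ofList (as'.map mk₁) = J.map mk₁ := by
      rw [ofList_map_mk_eq, hJ']
    have hcomap : ∀ K : Ideal A, Ideal.comap mk₁ (K.map mk₁) = K ⊔ Ideal.span {c 0} := by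
      intro K
      rw [Ideal.comap_map_of_surjective _ Ideal.Quotient.mk_surjective,
        ← RingHom.ker_eq_comap_bot, Ideal.mk_ker]
    obtain ⟨bs₁, hbs₁, hbsJ⟩ := ih (as'.map mk₁) (fun i => mk₁ (c i.succ)) has₁
      (fun i => by rw [hJ₁]; exact Ideal.mem_map_of_mem _ (hc i.succ))
      (by
        intro lb hlb
        have hlift : ∀ i, ∃ a, mk₁ a = lb i := fun i => Ideal.Quotient.mk_surjective (lb i)
        choose l hl using hlift
        have h1 : mk₁ (∑ i, l i * c i.succ) ∈ (maximalIdeal A * J).map mk₁ := by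
          rw [Ideal.map_mul, map_maximalIdeal_mk, ← hJ₁, map_sum]
          convert hlb using 2 with i
          rw [map_mul, hl]
        have h2 : (∑ i, l i * c i.succ) ∈ Ideal.comap mk₁ ((maximalIdeal A * J).map mk₁) := h1
        rw [hcomap] at h2
        obtain ⟨w, hw, y, hy, hwy⟩ := Submodule.mem_sup.mp h2
        obtain ⟨μ, rfl⟩ := Ideal.mem_span_singleton'.mp hy
        have h3 := hind (Fin.cons (-μ) l) (by
          rw [Fin.sum_univ_succ]
          simp only [Fin.cons_zero, Fin.cons_succ]
          rw [← hwy]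
          have : -μ * c 0 + (w + μ * c 0) = w := by ring
          rw [this]
          exact hw)
        intro i
        have h4 := h3 i.succ
        rw [Fin.cons_succ] at h4
        rw [← hl i, ← map_maximalIdeal_mk]
        exact Ideal.mem_map_of_mem _ h4)
    obtain ⟨bs, hbs, -⟩ := exists_list_lift mk₁ (fun _ => True) bs₁
      (fun b _ => by
        obtain ⟨a, ha⟩ := Ideal.Quotient.mk_surjective b
        exact ⟨a, trivial, ha⟩)
    have hmaptail : (List.ofFn (fun i : Fin r => c i.succ) ++ bs).map mk₁ =
        List.ofFn (fun i : Fin r => mk₁ (c i.succ)) ++ bs₁ := by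
      rw [List.map_append, hbs, List.map_ofFn]
      rfl
    refine ⟨bs, ?_, ?_⟩
    · rw [List.ofFn_succ, List.cons_append]
      exact (isRegular_cons_iff_quotient _ _).mpr ⟨htreg, by rw [hmaptail]; exact hbs₁⟩
    · rw [List.ofFn_succ, List.cons_append]
      have h1 : J = Ideal.comap mk₁ (J.map mk₁) := by
        rw [hcomap]
        refine (sup_eq_left.mpr ?_).symm
        rw [Ideal.span_singleton_le_iff_mem]
        exact hc 0
      rw [h1, ← hJ₁, ← hbsJ, ← hmaptail, ← Ideal.map_ofList, hcomap, Ideal.ofList_cons, sup_comm]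

end Extension

end Groth.Agent.H1.RegExch
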