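import Mathlib
import Groth.Agent.Lib.Helper1.RegExch
import Groth.Agent.Lib.Helper1.RegQuot

/-! Regular local rings: ideals generated by regular sequences in quotients. -/

universe u
set_option linter.style.haveILetI false

namespace Groth.Agent.H1.RegExch

open RingTheory.Sequence IsLocalRing Groth.Agent.H1.RegComp

theorem indep_of_linearIndependent (A : Type u) [CommRing A] [IsLocalRing A] (r : ℕ)
    (x : Fin r → A) (hx : ∀ i, x i ∈ maximalIdeal A)
    (hli : LinearIndependent (ResidueField A)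
      (fun i => (maximalIdeal A).toCotangent ⟨x i, hx i⟩))
    (l : Fin r → A) (hl : ∑ i, l i * x i ∈ maximalIdeal A ^ 2) (i : Fin r) :
    l i ∈ maximalIdeal A := by
  have h1 : ∑ i, (residue A (l i)) • (maximalIdeal A).toCotangent ⟨x i, hx i⟩ = 0 := by
    have h2 : ∀ i, (residue A (l i)) • (maximalIdeal A).toCotangent ⟨x i, hx i⟩ =
        (maximalIdeal A).toCotangent (l i • ⟨x i, hx i⟩) := by
      intro i
      rw [map_smul]
      exact algebraMap_smul (ResidueField A) (l i) _
    simp only [h2]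
    rw [← map_sum, Ideal.toCotangent_eq_zero]
    convert hl using 1
    simp [Submodule.coe_sum]
  have := Fintype.linearIndependent_iff.mp hli (fun i => residue A (l i)) h1 i
  exact (residue_eq_zero_iff _).mp this

/-- variant of `RegQuot.exists_regular_generators` recording the independence modulo `𝔪²`. -/
theorem exists_regular_generators' (A : Type u) [CommRing A] [IsRegularLocalRing A] (J : Ideal A)
    [IsRegularLocalRing (A ⧸ J)] :
    ∃ (r : ℕ) (x : Fin r → A), (∀ i, x i ∈ J) ∧
      RingTheory.Sequence.IsRegular A (List.ofFn x) ∧ Ideal.span (Set.range x) = J ∧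
      (∀ l : Fin r → A, ∑ i, l i * x i ∈ maximalIdeal A ^ 2 → ∀ i, l i ∈ maximalIdeal A) := by
  classical
  have hJtop : J ≠ ⊤ := Ideal.Quotient.nontrivial_iff.mp inferInstance
  have hJm : J ≤ maximalIdeal A := le_maximalIdeal hJtop
  obtain ⟨r, x, hxJ, hli, hle⟩ := Groth.Agent.H1.RegQuot.exists_linearIndependent_in A J hJm
  obtain ⟨hBreg, hxreg⟩ := Groth.Agent.H1.RegDer.regular_of_linearIndependent A r x
    (fun i => hJm (hxJ i)) hli
  refine ⟨r, x, hxJ, hxreg, ?_, indep_of_linearIndependent A r x (fun i => hJm (hxJ i)) hli⟩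
  set I := Ideal.span (Set.range x) with hI
  have hIJ : I ≤ J := by
    rw [hI, Ideal.span_le]; rintro _ ⟨i, rfl⟩; exact hxJ i
  apply le_antisymm hIJ
  haveI := hBreg
  set K := J.map (Ideal.Quotient.mk I) with hK
  have e : ((A ⧸ I) ⧸ K) ≃+* A ⧸ J := DoubleQuot.quotQuotEquivQuotOfLE hIJ
  haveI : IsRegularLocalRing ((A ⧸ I) ⧸ K) := IsRegularLocalRing.of_ringEquiv (R := A ⧸ J) e.symm
  have hsurj : Function.Surjective (Ideal.Quotient.mk I) := Ideal.Quotient.mk_surjective
  have hmmap : (maximalIdeal A).map (Ideal.Quotient.mk I) ≤ maximalIdeal (A ⧸ I) := by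
    rw [Ideal.map_le_iff_le_comap]
    haveI : IsLocalHom (Ideal.Quotient.mk I) := IsLocalHom.of_surjective _ hsurj
    rw [IsLocalRing.maximalIdeal_comap (Ideal.Quotient.mk I)]
  have hK2 : K ≤ maximalIdeal (A ⧸ I) ^ 2 := by
    rw [hK]
    refine (Ideal.map_mono hle).trans ?_
    rw [Ideal.map_sup, Ideal.map_pow, Ideal.map_quotient_self, bot_sup_eq]
    exact Ideal.pow_right_mono hmmap 2
  have h1 := Groth.Agent.H1.RegQuot.spanFinrank_maximalIdeal_le_of_le_sq (A ⧸ I) K hK2
  have hdB := (IsRegularLocalRing.spanFinrank_maximalIdeal (R := A ⧸ I)).symm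
  have hdC := (IsRegularLocalRing.spanFinrank_maximalIdeal (R := (A ⧸ I) ⧸ K)).symm
  have hle' : ringKrullDim ((A ⧸ I) ⧸ K) ≤ ringKrullDim (A ⧸ I) := ringKrullDim_quotient_le K
  rw [hdB, hdC] at hle'
  have h2 : (maximalIdeal ((A ⧸ I) ⧸ K)).spanFinrank ≤ (maximalIdeal (A ⧸ I)).spanFinrank := by
    exact_mod_cast hle'
  have h3 : (maximalIdeal ((A ⧸ I) ⧸ K)).spanFinrank = (maximalIdeal (A ⧸ I)).spanFinrank :=
    le_antisymm h2 h1
  rw [h3] at hdC
  haveI : IsDomain ((A ⧸ I) ⧸ K) := Groth.Agent.H7.Reg.isDomain _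
  haveI : K.IsPrime := (Ideal.Quotient.isDomain_iff_prime K).mp inferInstance
  haveI : IsDomain (A ⧸ I) := Groth.Agent.H7.Reg.isDomain _
  have h4 := Groth.Agent.H6.Dim.mem_minimalPrimes_of_ringKrullDim_quotient_eq _ hdB K hdC
  rw [IsDomain.minimalPrimes_eq_singleton_bot, Set.mem_singleton_iff] at h4
  rw [hK, Ideal.map_eq_bot_iff_le_ker, Ideal.mk_ker] at h4
  exact h4

/-- kernel of a surjection of regular local rings is generated by a regular sequence independent
modulo `𝔪²`. -/
theorem exists_regular_generators_ker {A B : Type u} [CommRing A] [CommRing B]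
    [IsRegularLocalRing A] [IsRegularLocalRing B] (φ : A →+* B) (hφ : Function.Surjective φ) :
    ∃ (r : ℕ) (x : Fin r → A), (∀ i, x i ∈ RingHom.ker φ) ∧
      RingTheory.Sequence.IsRegular A (List.ofFn x) ∧ Ideal.ofList (List.ofFn x) = RingHom.ker φ ∧
      (∀ l : Fin r → A, ∑ i, l i * x i ∈ maximalIdeal A ^ 2 → ∀ i, l i ∈ maximalIdeal A) := by
  haveI : IsRegularLocalRing (A ⧸ RingHom.ker φ) :=
    IsRegularLocalRing.of_ringEquiv (R := B) (RingHom.quotientKerEquivOfSurjective hφ).symm
  obtain ⟨r, x, hx, hreg, hspan, hind⟩ := exists_regular_generators' A (RingHom.ker φ)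
  refine ⟨r, x, hx, hreg, ?_, hind⟩
  rw [← hspan]
  unfold Ideal.ofList
  congr 1
  ext a
  simp [List.mem_ofFn]

/-- **Regular local rings**: for a surjection `φ : A → B` of regular local rings and an ideal `K`
of `B`, `K` is generated by a regular sequence iff its preimage in `A` is. -/
theorem regular_comap_iff {A B : Type u} [CommRing A] [CommRing B]
    [IsRegularLocalRing A] [IsRegularLocalRing B] (φ : A →+* B) (hφ : Function.Surjective φ)
    (K : Ideal B) :
    (∃ as : List A, IsRegular A as ∧ Ideal.comap φ K = Ideal.ofList as) ↔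
      ∃ bs : List B, IsRegular B bs ∧ K = Ideal.ofList bs := by
  obtain ⟨r, x, hx, hreg, hspan, hind⟩ := exists_regular_generators_ker φ hφ
  constructor
  · rintro ⟨as, has, hJ⟩
    have hJm : Ideal.ofList as ≤ maximalIdeal A :=
      le_maximalIdeal ((isRegular_iff_ne_top _).mp has).2
    obtain ⟨bs, hbs, hbsJ⟩ := exists_append_of_indep r as x has
      (fun i => by rw [← hJ]; exact Ideal.comap_mono bot_le (hx i))
      (fun l hl => hind l (by
        rw [pow_two]
        exact Ideal.mul_mono_right hJm hl))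
    refine ⟨bs.map φ, ((isRegular_append_iff_of_surjective φ hφ _ bs hspan.symm).mp hbs).2, ?_⟩
    rw [← Ideal.map_comap_of_surjective φ hφ K, hJ, ← hbsJ, Ideal.ofList_append, Ideal.map_sup,
      hspan, Ideal.map_ofList]
    have : (RingHom.ker φ).map φ = ⊥ := by
      rw [Ideal.map_eq_bot_iff_le_ker]
    rw [this, bot_sup_eq]
  · rintro ⟨bs, hbs, rfl⟩
    obtain ⟨ts, hts, -⟩ := exists_list_lift φ (fun _ => True) bs
      (fun b _ => by
        obtain ⟨a, ha⟩ := hφ b
        exact ⟨a, trivial, ha⟩)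
    refine ⟨List.ofFn x ++ ts, ?_, ?_⟩
    · exact (isRegular_append_iff_of_surjective φ hφ _ ts hspan.symm).mpr
        ⟨hreg.toIsWeaklyRegular, hts ▸ hbs⟩
    · rw [← hts]
      exact comap_ofList_map φ hφ _ ts hspan.symm

end Groth.Agent.H1.RegExch
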