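import Mathlib
import Groth.Agent.Lib.Helper1.RegSpread
import Groth.Agent.Lib.Helper1.RegQuot

/-! Regular immersions and regular local rings: algebra. -/

universe u

namespace Groth.Agent.H1.RegImm

open RingTheory.Sequence IsLocalRing

/-- a Noetherian local ring whose quotient by a regular sequence is regular is regular. -/
theorem isRegularLocalRing_of_quotient_ofList (R : Type*) [CommRing R] [IsLocalRing R]
    [IsNoetherianRing R] (rs : List R) (hreg : IsRegular R rs)
    [h : IsRegularLocalRing (R ⧸ Ideal.ofList rs)] : IsRegularLocalRing R := by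
  classical
  apply IsRegularLocalRing.of_spanFinrank_maximalIdeal_le
  have hdim := ringKrullDim_add_length_eq_ringKrullDim_of_isRegular rs hreg
  obtain ⟨s, hs₁, hs₂⟩ := Submodule.FG.exists_span_finset_card_eq_spanFinrank
    (maximalIdeal (R ⧸ Ideal.ofList rs)).fg_of_isNoetherianRing
  have hsurj : Function.Surjective (Ideal.Quotient.mk (Ideal.ofList rs)) :=
    Ideal.Quotient.mk_surjective
  let t : Finset R := s.image (Function.surjInv hsurj)
  have hmk_t : (Ideal.Quotient.mk (Ideal.ofList rs)) '' (t : Set R) = (s : Set _) := by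
    ext y
    simp only [t, Finset.coe_image, Set.mem_image, Finset.mem_coe]
    constructor
    · rintro ⟨_, ⟨z, hz, rfl⟩, rfl⟩
      rwa [Function.surjInv_eq hsurj]
    · intro hy
      exact ⟨_, ⟨y, hy, rfl⟩, Function.surjInv_eq hsurj y⟩
  have hmap : Ideal.map (Ideal.Quotient.mk (Ideal.ofList rs)) (Ideal.span (t : Set R)) =
      maximalIdeal _ := by
    rw [Ideal.map_span, hmk_t]
    exact hs₂
  have hlocal : IsLocalHom (Ideal.Quotient.mk (Ideal.ofList rs)) :=
    hsurj.isLocalHom _
  have hcomap : Ideal.comap (Ideal.Quotient.mk (Ideal.ofList rs)) (maximalIdeal _) =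
      maximalIdeal R := by
    ext y
    simp only [Ideal.mem_comap, mem_maximalIdeal, mem_nonunits_iff]
    exact not_congr (isUnit_map_iff _ _)
  have ht : Ideal.span ((t : Set R) ∪ {a | a ∈ rs}) = maximalIdeal R := by
    rw [Ideal.span_union, ← hcomap, ← hmap, Ideal.comap_map_of_surjective _ hsurj,
      ← RingHom.ker_eq_comap_bot, Ideal.mk_ker]
  have hfin : {a | a ∈ rs}.Finite := List.finite_toSet rs
  have hcard : (maximalIdeal R).spanFinrank ≤ s.card + rs.length := by
    rw [← ht]
    refine (Submodule.spanFinrank_span_le_ncard_of_finite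
      ((Finset.finite_toSet t).union hfin)).trans ?_
    refine (Set.ncard_union_le _ _).trans ?_
    rw [Set.ncard_coe_finset]
    refine Nat.add_le_add Finset.card_image_le ?_
    have h1 : {a | a ∈ rs} = ((rs.toFinset : Finset R) : Set R) := by
      ext a; simp
    rw [h1, Set.ncard_coe_finset]
    exact List.toFinset_card_le rs
  have h1 : ((maximalIdeal (R ⧸ Ideal.ofList rs)).spanFinrank : WithBot ℕ∞) =
      ringKrullDim (R ⧸ Ideal.ofList rs) := h.spanFinrank_maximalIdeal
  calc ((maximalIdeal R).spanFinrank : WithBot ℕ∞) ≤ ((s.card + rs.length : ℕ) : WithBot ℕ∞) := by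
        exact_mod_cast hcard
    _ = ringKrullDim (R ⧸ Ideal.ofList rs) + rs.length := by
        rw [← h1, hs₁]; norm_cast
    _ = ringKrullDim R := hdim

theorem isRegular_map_ringEquiv {R S : Type*} [CommRing R] [CommRing S] (e : R ≃+* S)
    (rs : List R) : IsRegular R rs ↔ IsRegular S (rs.map e) :=
  (e.toAddEquiv).isRegular_congr (List.forall₂_map_right_iff.mpr
    (List.forall₂_same.mpr fun r _ x => by
      change e (r * x) = e r * e x
      exact map_mul e r x))

/-- spreading a regular sequence generating `I R_p` to a principal localization. -/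
theorem exists_away_of_local {R : Type u} [CommRing R] [IsNoetherianRing R] (I : Ideal R)
    (p : Ideal R) [p.IsPrime] (hIp : I ≤ p)
    (Rp : Type u) [CommRing Rp] [Algebra R Rp] [IsLocalization.AtPrime Rp p]
    (r : ℕ) (x : Fin r → Rp) (hxI : ∀ i, x i ∈ I.map (algebraMap R Rp))
    (hreg : IsRegular Rp (List.ofFn x))
    (hspan : Ideal.span (Set.range x) = I.map (algebraMap R Rp)) :
    ∃ g : R, g ∉ p ∧ ∃ rs : List (Localization.Away g),
      IsRegular (Localization.Away g) rs ∧
        Ideal.ofList rs = I.map (algebraMap R (Localization.Away g)) := by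
  classical
  set f := algebraMap R Rp with hf
  set Ip := I.map f with hIpdef
  have hlift : ∀ i, ∃ q : I × p.primeCompl, x i * f q.2 = f q.1 := fun i =>
    (IsLocalization.mem_map_algebraMap_iff p.primeCompl Rp).mp (hxI i)
  choose q hq using hlift
  let as : List R := List.ofFn fun i => ((q i).1 : R)
  have has : ∀ a ∈ as, a ∈ I := by
    intro a ha
    rw [List.mem_ofFn] at ha
    obtain ⟨i, rfl⟩ := ha
    exact (q i).1.2
  have hmap : as.map f = List.ofFn fun i => f (q i).1 := by
    rw [List.map_ofFn]; rfl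
  have hlen : (List.ofFn x).length = (as.map f).length := by
    rw [hmap, List.length_ofFn, List.length_ofFn]
  have hunit : ∀ i (h : i < (List.ofFn x).length),
      ∃ c, IsUnit c ∧ (as.map f)[i]'(hlen ▸ h) = (List.ofFn x)[i] * c := by
    intro i h
    have hi : i < r := by rwa [List.length_ofFn] at h
    refine ⟨f (q ⟨i, hi⟩).2, IsLocalization.map_units Rp _, ?_⟩
    simp only [hmap, List.getElem_ofFn]
    exact (hq ⟨i, hi⟩).symm
  have hreg' : IsRegular Rp (as.map f) :=
    Groth.Agent.H1.Spread.isRegular_of_unit_mul _ _ hlen hunit hreg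
  have hgen : Ideal.ofList (as.map f) = Ip := by
    rw [Groth.Agent.H1.Spread.ofList_eq_of_unit_mul _ _ hlen hunit, ← hspan]
    show Ideal.span {a | a ∈ List.ofFn x} = Ideal.span (Set.range x)
    congr 1
    ext a
    simp [List.mem_ofFn]
  obtain ⟨g, hg, hregg, hgeng⟩ := Groth.Agent.H1.Spread.exists_away_isRegular p Rp I hIp as has
    hreg'.toIsWeaklyRegular hgen
  exact ⟨g, hg, _, hregg, hgeng⟩

/-- the same, for an arbitrary model of the principal localization. -/
theorem exists_away_of_local' {R : Type u} [CommRing R] [IsNoetherianRing R] (I : Ideal R)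
    (p : Ideal R) [p.IsPrime] (hIp : I ≤ p)
    (Rp : Type u) [CommRing Rp] [Algebra R Rp] [IsLocalization.AtPrime Rp p]
    (r : ℕ) (x : Fin r → Rp) (hxI : ∀ i, x i ∈ I.map (algebraMap R Rp))
    (hreg : IsRegular Rp (List.ofFn x))
    (hspan : Ideal.span (Set.range x) = I.map (algebraMap R Rp)) :
    ∃ g : R, g ∉ p ∧ ∀ (S : Type u) [CommRing S] [Algebra R S] [IsLocalization.Away g S],
      ∃ rs : List S, IsRegular S rs ∧ Ideal.ofList rs = I.map (algebraMap R S) := by
  obtain ⟨g, hg, rs, hrs, hI⟩ := exists_away_of_local I p hIp Rp r x hxI hreg hspan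
  refine ⟨g, hg, fun S _ _ _ => ?_⟩
  let e : Localization.Away g ≃ₐ[R] S :=
    IsLocalization.algEquiv (Submonoid.powers g) (Localization.Away g) S
  refine ⟨rs.map e.toRingEquiv, (isRegular_map_ringEquiv e.toRingEquiv rs).mp hrs, ?_⟩
  have h1 : Ideal.ofList (rs.map e.toRingEquiv) =
      (Ideal.ofList rs).map (e.toRingEquiv : Localization.Away g →+* S) := by
    rw [Ideal.map_ofList]
    rfl
  rw [h1, hI, Ideal.map_map]
  congr 1
  ext a
  exact e.commutes a

end Groth.Agent.H1.RegImm
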