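import Mathlib
import Groth.Prelude.Def_Mor2
import Groth.Agent.Lib.Helper1.RegImm
import Groth.Agent.Lib.Helper1.CartierKit

/-! Regular closed immersions and regular local rings: geometry. -/

universe u
set_option linter.style.haveILetI false
open CategoryTheory AlgebraicGeometry TopologicalSpace Opposite

namespace Groth.Agent.H1.RegImm

open RingTheory.Sequence

/-- Kernel of the stalk map of a closed immersion, read on an affine chart. -/
theorem ker_stalkMap_of_isClosedImmersion {X Y : Scheme.{u}} (j : Y ⟶ X) [IsClosedImmersion j]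
    (U : X.affineOpens) (d : Y) (hd : j d ∈ U.1) :
    RingHom.ker (j.stalkMap d).hom =
      (j.ker.ideal U).map (X.presheaf.germ U.1 (j d) hd).hom := by
  have hW : IsAffineOpen (j ⁻¹ᵁ U.1) := U.2.preimage j
  have hdW : d ∈ j ⁻¹ᵁ U.1 := hd
  letI := X.presheaf.algebra_section_stalk ⟨j d, hd⟩
  letI := Y.presheaf.algebra_section_stalk ⟨d, hdW⟩
  have hB := U.2.isLocalization_stalk ⟨j d, hd⟩
  have hC := hW.isLocalization_stalk ⟨d, hdW⟩
  have hgerm : ∀ t : Γ(X, U.1), (j.stalkMap d).hom (X.presheaf.germ U.1 (j d) hd t) =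
      Y.presheaf.germ (j ⁻¹ᵁ U.1) d hdW (j.app U.1 t) := by
    intro t
    have := Scheme.Hom.germ_stalkMap j U.1 d hd
    exact congr($(this).hom t)
  apply le_antisymm
  · intro β hβ
    rw [RingHom.mem_ker] at hβ
    obtain ⟨⟨t, s⟩, hts⟩ := IsLocalization.surj (U.2.primeIdealOf ⟨j d, hd⟩).asIdeal.primeCompl β
    have hs : IsUnit (X.presheaf.germ U.1 (j d) hd s.1) :=
      IsLocalization.map_units (M := (U.2.primeIdealOf ⟨j d, hd⟩).asIdeal.primeCompl) _ s
    have hts' : β * X.presheaf.germ U.1 (j d) hd s.1 = X.presheaf.germ U.1 (j d) hd t := hts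
    have h1 : Y.presheaf.germ (j ⁻¹ᵁ U.1) d hdW (j.app U.1 t) = 0 := by
      rw [← hgerm, ← hts', map_mul, hβ, zero_mul]
    have h1' : algebraMap Γ(Y, j ⁻¹ᵁ U.1) (Y.presheaf.stalk d) (j.app U.1 t) = 0 :=
      h1
    rw [IsLocalization.map_eq_zero_iff (hW.primeIdealOf ⟨d, hdW⟩).asIdeal.primeCompl] at h1'
    obtain ⟨ū, hū⟩ := h1'
    obtain ⟨u, hu⟩ := j.app_surjective U.1 U.2 ū.1
    have hūunit : IsUnit (Y.presheaf.germ (j ⁻¹ᵁ U.1) d hdW ū.1) :=
      IsLocalization.map_units (M := (hW.primeIdealOf ⟨d, hdW⟩).asIdeal.primeCompl) _ ū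
    have huunit : IsUnit (X.presheaf.germ U.1 (j d) hd u) := by
      rw [← hu, ← hgerm] at hūunit
      haveI : IsLocalHom (j.stalkMap d).hom := j.toLRSHom.prop d
      exact isUnit_of_map_unit (j.stalkMap d).hom _ hūunit
    have h2 : u * t ∈ j.ker.ideal U := by
      rw [Scheme.Hom.ker_apply, RingHom.mem_ker, map_mul]
      rw [← hu] at hū
      exact hū
    have h3 : X.presheaf.germ U.1 (j d) hd (u * t) ∈
        (j.ker.ideal U).map (X.presheaf.germ U.1 (j d) hd).hom := Ideal.mem_map_of_mem _ h2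
    rw [map_mul] at h3
    have h4 := (Ideal.unit_mul_mem_iff_mem _ huunit).mp h3
    rw [← hts'] at h4
    exact (Ideal.mul_unit_mem_iff_mem _ hs).mp h4
  · rw [Ideal.map_le_iff_le_comap]
    intro t ht
    rw [Ideal.mem_comap, RingHom.mem_ker, hgerm]
    have : j.app U.1 t = 0 := by
      rw [Scheme.Hom.ker_apply] at ht
      exact ht
    rw [this, map_zero]

/-- the quotient of the local ring of `X` by the kernel of the stalk map of a closed immersion
is the local ring of `Y`. -/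
noncomputable def quotKerEquiv {X Y : Scheme.{u}} (j : Y ⟶ X) [IsClosedImmersion j] (y : Y) :
    (X.presheaf.stalk (j y) ⧸ RingHom.ker (j.stalkMap y).hom) ≃+* Y.presheaf.stalk y :=
  RingHom.quotientKerEquivOfSurjective (j.stalkMap_surjective y)

/-- if the ideal of a closed immersion is generated near `j y` by a regular sequence and the local
ring of `Y` at `y` is regular, so is the local ring of `X` at `j y`. -/
theorem isRegularLocalRing_of_regular_chart {X Y : Scheme.{u}} [IsLocallyNoetherian X]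
    (j : Y ⟶ X) [IsClosedImmersion j] (y : Y) [IsRegularLocalRing (Y.presheaf.stalk y)]
    (U : X.Opens) (hU : IsAffineOpen U) (hy : j y ∈ U) (rs : List Γ(X, U))
    (hrs : IsRegular Γ(X, U) rs) (hI : j.ker.ideal ⟨U, hU⟩ = Ideal.ofList rs) :
    IsRegularLocalRing (X.presheaf.stalk (j y)) := by
  letI : Algebra Γ(X, U) (X.presheaf.stalk (j y)) := X.presheaf.algebra_section_stalk ⟨j y, hy⟩
  haveI hloc := hU.isLocalization_stalk ⟨j y, hy⟩
  have hker := ker_stalkMap_of_isClosedImmersion j ⟨U, hU⟩ y hy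
  have hker' : RingHom.ker (j.stalkMap y).hom =
      Ideal.ofList (rs.map (algebraMap Γ(X, U) (X.presheaf.stalk (j y)))) := by
    rw [hker, hI, Ideal.map_ofList]
    rfl
  have hne : RingHom.ker (j.stalkMap y).hom ≠ ⊤ := RingHom.ker_ne_top _
  have hmem : ∀ r ∈ rs, r ∈ (hU.primeIdealOf ⟨j y, hy⟩).asIdeal := by
    intro r hr
    rw [← IsLocalization.AtPrime.to_map_mem_maximal_iff (X.presheaf.stalk (j y))
      (hU.primeIdealOf ⟨j y, hy⟩).asIdeal]
    apply IsLocalRing.le_maximalIdeal hne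
    rw [hker']
    exact Ideal.subset_span (List.mem_map_of_mem hr)
  have hreg' : IsRegular (X.presheaf.stalk (j y))
      (rs.map (algebraMap Γ(X, U) (X.presheaf.stalk (j y)))) :=
    hrs.toIsWeaklyRegular.isRegular_of_isLocalization_of_mem (X.presheaf.stalk (j y))
      (hU.primeIdealOf ⟨j y, hy⟩).asIdeal hmem
  haveI : IsRegularLocalRing (X.presheaf.stalk (j y) ⧸
      Ideal.ofList (rs.map (algebraMap Γ(X, U) (X.presheaf.stalk (j y))))) := by
    rw [← hker']
    exact IsRegularLocalRing.of_ringEquiv (quotKerEquiv j y).symm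
  exact isRegularLocalRing_of_quotient_ofList _ _ hreg'

/-- if the local rings of `Y` at `y` and of `X` at `j y` are regular, the ideal of the closed
immersion `j` is generated by a regular sequence on an affine neighbourhood of `j y`. -/
theorem exists_regular_chart {X Y : Scheme.{u}} [IsLocallyNoetherian X]
    (j : Y ⟶ X) [IsClosedImmersion j] (y : Y) [IsRegularLocalRing (Y.presheaf.stalk y)]
    [IsRegularLocalRing (X.presheaf.stalk (j y))] :
    ∃ (V : X.Opens) (hV : IsAffineOpen V), j y ∈ V ∧ ∃ rs : List Γ(X, V),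
      IsRegular Γ(X, V) rs ∧ j.ker.ideal ⟨V, hV⟩ = Ideal.ofList rs := by
  obtain ⟨_, ⟨V₀, hV₀, rfl⟩, hy, -⟩ := X.isBasis_affineOpens.exists_subset_of_mem_open
    (Set.mem_univ (j y)) isOpen_univ
  haveI : IsNoetherianRing Γ(X, V₀) := IsLocallyNoetherian.component_noetherian ⟨V₀, hV₀⟩
  letI : Algebra Γ(X, V₀) (X.presheaf.stalk (j y)) := X.presheaf.algebra_section_stalk ⟨j y, hy⟩
  haveI hloc := hV₀.isLocalization_stalk ⟨j y, hy⟩
  have hker := ker_stalkMap_of_isClosedImmersion j ⟨V₀, hV₀⟩ y hy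
  have hker' : RingHom.ker (j.stalkMap y).hom =
      (j.ker.ideal ⟨V₀, hV₀⟩).map (algebraMap Γ(X, V₀) (X.presheaf.stalk (j y))) := hker
  have hne : RingHom.ker (j.stalkMap y).hom ≠ ⊤ := RingHom.ker_ne_top _
  have hIp : j.ker.ideal ⟨V₀, hV₀⟩ ≤ (hV₀.primeIdealOf ⟨j y, hy⟩).asIdeal := by
    intro t ht
    rw [← IsLocalization.AtPrime.to_map_mem_maximal_iff (X.presheaf.stalk (j y))
      (hV₀.primeIdealOf ⟨j y, hy⟩).asIdeal]
    apply IsLocalRing.le_maximalIdeal hne
    rw [hker']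
    exact Ideal.mem_map_of_mem _ ht
  haveI : IsRegularLocalRing (X.presheaf.stalk (j y) ⧸ RingHom.ker (j.stalkMap y).hom) :=
    IsRegularLocalRing.of_ringEquiv (quotKerEquiv j y).symm
  obtain ⟨r, x, hxK, hreg, hspan⟩ := Groth.Agent.H1.RegQuot.exists_regular_generators
    (X.presheaf.stalk (j y)) (RingHom.ker (j.stalkMap y).hom)
  rw [hker'] at hxK hspan
  obtain ⟨g, hg, hS⟩ := exists_away_of_local' (j.ker.ideal ⟨V₀, hV₀⟩)
    (hV₀.primeIdealOf ⟨j y, hy⟩).asIdeal hIp (X.presheaf.stalk (j y)) r x hxK hreg hspan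
  haveI := hV₀.isLocalization_basicOpen g
  obtain ⟨rs, hrs, hI⟩ := hS Γ(X, X.basicOpen g)
  refine ⟨X.basicOpen g, hV₀.basicOpen g, ?_, rs, hrs, ?_⟩
  · by_contra hcon
    exact hg ((Groth.Agent.H1.CartierKit.mem_primeIdealOf_iff hV₀ (j y) hy g).mpr hcon)
  · rw [hI]
    exact (j.ker.map_ideal_basicOpen ⟨V₀, hV₀⟩ g).symm

end Groth.Agent.H1.RegImm
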