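import Mathlib
import Groth.Prelude.Def_Mor2
import Groth.Agent.Lib.Helper1.RegCompGeo
import Groth.Agent.Lib.Helper1.RegImmGeo
import Groth.Agent.Lib.Helper1.RegExch2

/-! Regular closed immersions near a point: charts and the stalk criterion. -/

universe u
set_option linter.style.haveILetI false
open CategoryTheory AlgebraicGeometry TopologicalSpace Opposite

namespace Groth.Agent.H1.RegNear

open RingTheory.Sequence Groth.Agent.H1.RegComp Groth.Agent.H1.RegExch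

/-- `i` has a regular chart at `z`. -/
def HasRegChart {X Z : Scheme.{u}} (i : Z ⟶ X) (z : Z) : Prop :=
  ∃ (U : X.Opens) (hU : IsAffineOpen U), i z ∈ U ∧ ∃ rs : List Γ(X, U),
    IsRegular Γ(X, U) rs ∧ i.ker.ideal ⟨U, hU⟩ = Ideal.ofList rs

/-- the kernel of the stalk map of `i` at `z` is generated by a regular sequence. -/
def RegAt {X Z : Scheme.{u}} (i : Z ⟶ X) (z : Z) : Prop :=
  ∃ rs : List (X.presheaf.stalk (i z)), IsRegular (X.presheaf.stalk (i z)) rs ∧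
    RingHom.ker (i.stalkMap z).hom = Ideal.ofList rs

theorem chart_of_eq {X : Scheme.{u}} (I : X.IdealSheafData) (W W' : X.Opens)
    (hW : IsAffineOpen W) (hW' : IsAffineOpen W') (e : W = W')
    (h : ∃ rs : List Γ(X, W), IsRegular Γ(X, W) rs ∧ I.ideal ⟨W, hW⟩ = Ideal.ofList rs) :
    ∃ rs : List Γ(X, W'), IsRegular Γ(X, W') rs ∧ I.ideal ⟨W', hW'⟩ = Ideal.ofList rs := by
  subst e
  exact h

theorem isRegularClosedImmersion_iff_forall {X Z : Scheme.{u}} (i : Z ⟶ X) [IsClosedImmersion i] :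
    Mor2.IsRegularClosedImmersion i ↔ ∀ z, HasRegChart i z :=
  ⟨fun h => h.2, fun h => ⟨inferInstance, h⟩⟩

theorem near_iff_hasRegChart {X Z : Scheme.{u}} (i : Z ⟶ X) [IsClosedImmersion i] (z : Z) :
    (∃ V : X.Opens, i z ∈ V ∧ Mor2.IsRegularClosedImmersion (i ∣_ V)) ↔ HasRegChart i z := by
  constructor
  · rintro ⟨V, hzV, hreg⟩
    obtain ⟨U', hU', hzU', rs, hrs, hI⟩ := hreg.2 ⟨z, hzV⟩
    refine ⟨V.ι ''ᵁ U', hU'.image_of_isOpenImmersion V.ι, ?_, rs, hrs, ?_⟩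
    · refine ⟨(i ∣_ V) ⟨z, hzV⟩, hzU', ?_⟩
      have := congr($(morphismRestrict_ι i V).base ⟨z, hzV⟩)
      exact this
    · rw [← Scheme.ker_morphismRestrict_ideal i V ⟨U', hU'⟩]
      exact hI
  · rintro ⟨U, hU, hzU, rs, hrs, hI⟩
    refine ⟨U, hzU, inferInstance, fun z' => ?_⟩
    haveI : IsAffine (U : Scheme.{u}) := hU
    refine ⟨⊤, isAffineOpen_top _, trivial, ?_⟩
    rw [Scheme.ker_morphismRestrict_ideal i U ⟨⊤, isAffineOpen_top _⟩]
    exact chart_of_eq i.ker U (U.ι ''ᵁ ⊤) hU _ (Scheme.Opens.ι_image_top U).symm ⟨rs, hrs, hI⟩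

theorem regAt_of_hasRegChart {X Z : Scheme.{u}} (i : Z ⟶ X) [IsClosedImmersion i] (z : Z)
    (h : HasRegChart i z) : RegAt i z := by
  obtain ⟨U, hU, hy, rs, hrs, hI⟩ := h
  letI : Algebra Γ(X, U) (X.presheaf.stalk (i z)) := X.presheaf.algebra_section_stalk ⟨i z, hy⟩
  haveI hloc := hU.isLocalization_stalk ⟨i z, hy⟩
  have hker := Groth.Agent.H1.RegImm.ker_stalkMap_of_isClosedImmersion i ⟨U, hU⟩ z hy
  have hker' : RingHom.ker (i.stalkMap z).hom =
      Ideal.ofList (rs.map (algebraMap Γ(X, U) (X.presheaf.stalk (i z)))) := by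
    rw [hker, hI, Ideal.map_ofList]
    rfl
  have hne : RingHom.ker (i.stalkMap z).hom ≠ ⊤ := RingHom.ker_ne_top _
  have hmem : ∀ r ∈ rs, r ∈ (hU.primeIdealOf ⟨i z, hy⟩).asIdeal := by
    intro r hr
    rw [← IsLocalization.AtPrime.to_map_mem_maximal_iff (X.presheaf.stalk (i z))
      (hU.primeIdealOf ⟨i z, hy⟩).asIdeal]
    apply IsLocalRing.le_maximalIdeal hne
    rw [hker']
    exact Ideal.subset_span (List.mem_map_of_mem hr)
  exact ⟨_, hrs.toIsWeaklyRegular.isRegular_of_isLocalization_of_mem (X.presheaf.stalk (i z))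
      (hU.primeIdealOf ⟨i z, hy⟩).asIdeal hmem, hker'⟩

theorem hasRegChart_of_regAt {X Z : Scheme.{u}} [IsLocallyNoetherian X] (i : Z ⟶ X)
    [IsClosedImmersion i] (z : Z) (h : RegAt i z) : HasRegChart i z := by
  obtain ⟨rs, hrs, hK⟩ := h
  obtain ⟨_, ⟨V₀, hV₀, rfl⟩, hy, -⟩ := X.isBasis_affineOpens.exists_subset_of_mem_open
    (Set.mem_univ (i z)) isOpen_univ
  haveI : IsNoetherianRing Γ(X, V₀) := IsLocallyNoetherian.component_noetherian ⟨V₀, hV₀⟩
  letI : Algebra Γ(X, V₀) (X.presheaf.stalk (i z)) := X.presheaf.algebra_section_stalk ⟨i z, hy⟩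
  haveI hloc := hV₀.isLocalization_stalk ⟨i z, hy⟩
  have hker := Groth.Agent.H1.RegImm.ker_stalkMap_of_isClosedImmersion i ⟨V₀, hV₀⟩ z hy
  have hker' : RingHom.ker (i.stalkMap z).hom =
      (i.ker.ideal ⟨V₀, hV₀⟩).map (algebraMap Γ(X, V₀) (X.presheaf.stalk (i z))) := hker
  have hne : RingHom.ker (i.stalkMap z).hom ≠ ⊤ := RingHom.ker_ne_top _
  have hIp : i.ker.ideal ⟨V₀, hV₀⟩ ≤ (hV₀.primeIdealOf ⟨i z, hy⟩).asIdeal := by
    intro t ht
    rw [← IsLocalization.AtPrime.to_map_mem_maximal_iff (X.presheaf.stalk (i z))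
      (hV₀.primeIdealOf ⟨i z, hy⟩).asIdeal]
    apply IsLocalRing.le_maximalIdeal hne
    rw [hker']
    exact Ideal.mem_map_of_mem _ ht
  rw [hker'] at hK
  have hofFn : List.ofFn (fun k : Fin rs.length => rs[k]) = rs := List.ofFn_getElem
  obtain ⟨g, hg, hS⟩ := Groth.Agent.H1.RegImm.exists_away_of_local' (i.ker.ideal ⟨V₀, hV₀⟩)
    (hV₀.primeIdealOf ⟨i z, hy⟩).asIdeal hIp (X.presheaf.stalk (i z)) rs.length
    (fun k => rs[k]) (fun k => by rw [hK]; exact Ideal.subset_span (List.getElem_mem _))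
    (by rw [hofFn]; exact hrs)
    (by
      rw [hK]
      unfold Ideal.ofList
      congr 1
      ext a
      simp only [Set.mem_range, Set.mem_ofPred_eq, List.mem_iff_getElem]
      constructor
      · rintro ⟨k, rfl⟩; exact ⟨k, k.2, rfl⟩
      · rintro ⟨k, hk, rfl⟩; exact ⟨⟨k, hk⟩, rfl⟩)
  haveI := hV₀.isLocalization_basicOpen g
  obtain ⟨rs', hrs', hI⟩ := hS Γ(X, X.basicOpen g)
  refine ⟨X.basicOpen g, hV₀.basicOpen g, ?_, rs', hrs', ?_⟩
  · by_contra hcon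
    exact hg ((Groth.Agent.H1.CartierKit.mem_primeIdealOf_iff hV₀ (i z) hy g).mpr hcon)
  · rw [hI]
    exact (i.ker.map_ideal_basicOpen ⟨V₀, hV₀⟩ g).symm

theorem near_iff_regAt {X Z : Scheme.{u}} [IsLocallyNoetherian X] (i : Z ⟶ X)
    [IsClosedImmersion i] (z : Z) :
    (∃ V : X.Opens, i z ∈ V ∧ Mor2.IsRegularClosedImmersion (i ∣_ V)) ↔ RegAt i z :=
  (near_iff_hasRegChart i z).trans
    ⟨regAt_of_hasRegChart i z, hasRegChart_of_regAt i z⟩

end Groth.Agent.H1.RegNear
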