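import Mathlib
import Groth.Prelude.Def_Mor2
import Groth.Agent.Lib.Helper1.RegNear

/-! Regular closed immersions near a point: composites. -/

universe u
set_option linter.style.haveILetI false
open CategoryTheory AlgebraicGeometry TopologicalSpace Opposite

namespace Groth.Agent.H1.RegNear

open RingTheory.Sequence Groth.Agent.H1.RegComp Groth.Agent.H1.RegExch

theorem ker_stalkMap_comp {X Y Z : Scheme.{u}} (f : Y ⟶ X) (g : Z ⟶ Y) (z : Z) :
    RingHom.ker ((g ≫ f).stalkMap z).hom =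
      Ideal.comap (f.stalkMap (g z)).hom (RingHom.ker (g.stalkMap z).hom) := by
  rw [RingHom.comap_ker, ← CommRingCat.hom_comp, ← Scheme.Hom.stalkMap_comp]
  rfl

theorem regAt_comp_iff {X Y Z : Scheme.{u}} (f : Y ⟶ X) (g : Z ⟶ Y) (z : Z) :
    RegAt (g ≫ f) z ↔ ∃ as : List (X.presheaf.stalk (f (g z))),
      IsRegular (X.presheaf.stalk (f (g z))) as ∧
      Ideal.comap (f.stalkMap (g z)).hom (RingHom.ker (g.stalkMap z).hom) = Ideal.ofList as := by
  unfold RegAt
  rw [ker_stalkMap_comp]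
  exact Iff.rfl

/-- composite: `g` regular at `z` and `f` regular at `g z` iff `g` and `g ≫ f` regular at `z`. -/
theorem regAt_and_iff {X Y Z : Scheme.{u}} [IsLocallyNoetherian X] (f : Y ⟶ X) (g : Z ⟶ Y)
    [IsClosedImmersion f] [IsClosedImmersion g] (z : Z) :
    (RegAt g z ∧ RegAt f (g z)) ↔ (RegAt g z ∧ RegAt (g ≫ f) z) := by
  have hφ : Function.Surjective (f.stalkMap (g z)).hom := f.stalkMap_surjective (g z)
  refine and_congr_right fun hg => ?_
  rw [regAt_comp_iff]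
  obtain ⟨bs, hbs, hK⟩ := hg
  obtain ⟨ts, hts, -⟩ := exists_list_lift (f.stalkMap (g z)).hom (fun _ => True) bs
    (fun b _ => by
      obtain ⟨a, ha⟩ := hφ b
      exact ⟨a, trivial, ha⟩)
  constructor
  · rintro ⟨rs, hrs, hker⟩
    obtain ⟨hreg, hcomap⟩ := isRegular_append_of_surjective (f.stalkMap (g z)).hom hφ rs ts hrs
      hker (hts ▸ hbs)
    exact ⟨rs ++ ts, hreg, by rw [hK, ← hts]; exact hcomap⟩
  · rintro ⟨as, has, hJ⟩
    refine ker_eq_ofList_of_isRegular ts.length (f.stalkMap (g z)).hom hφ as ts rfl has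
      (hts ▸ hbs) ?_ ?_
    · rw [← hJ, Ideal.map_comap_of_surjective _ hφ, hK, hts]
    · rw [← hJ]
      exact Ideal.comap_mono bot_le

theorem isLocallyNoetherian_of_isClosedImmersion {X Y : Scheme.{u}} [IsLocallyNoetherian X]
    (f : Y ⟶ X) [IsClosedImmersion f] : IsLocallyNoetherian Y :=
  LocallyOfFiniteType.isLocallyNoetherian f

/-- **S1679**. -/
theorem s1679 {X Z : Scheme.{u}} [IsLocallyNoetherian X] (i : Z ⟶ X) [IsClosedImmersion i]
    (z : ↥Z) :
    (∃ V : X.Opens, i z ∈ V ∧ Mor2.IsRegularClosedImmersion (i ∣_ V)) ↔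
      ∃ rs : List ↑(X.presheaf.stalk (i z)),
        RingTheory.Sequence.IsRegular ↑(X.presheaf.stalk (i z)) rs ∧
        RingHom.ker (i.stalkMap z).hom = Ideal.ofList rs :=
  near_iff_regAt i z

/-- **S2887**. -/
theorem s2887 {X Y Z : Scheme.{u}} [IsLocallyNoetherian X] (f : Y ⟶ X) (g : Z ⟶ Y)
    [IsClosedImmersion f] [IsClosedImmersion g] (z : ↥Z) :
    ((∃ V : Y.Opens, g z ∈ V ∧ Mor2.IsRegularClosedImmersion (g ∣_ V)) ∧
      (∃ V : X.Opens, f (g z) ∈ V ∧ Mor2.IsRegularClosedImmersion (f ∣_ V))) ↔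
      ((∃ V : Y.Opens, g z ∈ V ∧ Mor2.IsRegularClosedImmersion (g ∣_ V)) ∧
        (∃ V : X.Opens, (g ≫ f) z ∈ V ∧ Mor2.IsRegularClosedImmersion ((g ≫ f) ∣_ V))) := by
  haveI : IsLocallyNoetherian Y := isLocallyNoetherian_of_isClosedImmersion f
  rw [near_iff_regAt g z, near_iff_regAt f (g z), near_iff_regAt (g ≫ f) z]
  exact regAt_and_iff f g z

/-- **S2888**. -/
theorem s2888 {X Y Z : Scheme.{u}} [IsLocallyNoetherian X] (f : Y ⟶ X) (g : Z ⟶ Y)
    [IsClosedImmersion f] [IsClosedImmersion g] (z : ↥Z)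
    [IsRegularLocalRing (Y.presheaf.stalk (g z))]
    [IsRegularLocalRing (X.presheaf.stalk (f (g z)))] :
    (∃ V : X.Opens, (g ≫ f) z ∈ V ∧ Mor2.IsRegularClosedImmersion ((g ≫ f) ∣_ V)) ↔
      (∃ V : Y.Opens, g z ∈ V ∧ Mor2.IsRegularClosedImmersion (g ∣_ V)) := by
  haveI : IsLocallyNoetherian Y := isLocallyNoetherian_of_isClosedImmersion f
  rw [near_iff_regAt g z, near_iff_regAt (g ≫ f) z, regAt_comp_iff]
  exact regular_comap_iff (f.stalkMap (g z)).hom (f.stalkMap_surjective (g z)) _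

end Groth.Agent.H1.RegNear
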