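import Mathlib
import Groth.Prelude.Def_RegImm
import Groth.Agent.Lib.Helper1.RegNear2

/-! Regular immersions (not necessarily closed): charts and stalks. -/

universe u
set_option linter.style.haveILetI false
open CategoryTheory AlgebraicGeometry TopologicalSpace Opposite

namespace Groth.Agent.H1.RegImmersion

open RingTheory.Sequence Groth.Agent.H1.RegComp Groth.Agent.H1.RegExch Groth.Agent.H1.RegNear

theorem range_morphismRestrict {X Y : Scheme.{u}} (f : X ⟶ Y) (U : Y.Opens) :
    Set.range (f ∣_ U) = U.ι ⁻¹' Set.range f := by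
  ext x
  constructor
  · rintro ⟨z, rfl⟩
    exact ⟨z.1, (morphismRestrict_base_coe f U z).symm⟩
  · rintro ⟨z, hz⟩
    have hzU : z ∈ f ⁻¹ᵁ U := by
      change f z ∈ U
      rw [hz]
      exact x.2
    refine ⟨⟨z, hzU⟩, ?_⟩
    apply Subtype.ext
    rw [morphismRestrict_base_coe]
    exact hz

/-- an immersion restricts to a closed immersion over any open inside its coborder range. -/
theorem isClosedImmersion_morphismRestrict {Z X : Scheme.{u}} (i : Z ⟶ X) [IsImmersion i]
    (U : X.Opens) (hU : U ≤ i.coborderRange) : IsClosedImmersion (i ∣_ U) := by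
  refine IsClosedImmersion.of_isPreimmersion _ ?_
  rw [range_morphismRestrict]
  have h : U.ι ⁻¹' Set.range i = U.ι ⁻¹' closure (Set.range i) := by
    ext x
    simp only [Set.mem_preimage]
    constructor
    · intro hx; exact subset_closure hx
    · intro hx
      have h1 : U.ι x ∈ coborder (Set.range i) := hU x.2
      have h2 : U.ι x ∈ coborder (Set.range i) ∩ closure (Set.range i) := ⟨h1, hx⟩
      rwa [coborder_inter_closure] at h2
  rw [h]
  exact isClosed_closure.preimage U.ι.continuous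

/-- Kernel of the stalk map, read on an affine chart over which the morphism is affine and
surjective on sections. -/
theorem ker_stalkMap_of_app_surjective {X Y : Scheme.{u}} (j : Y ⟶ X)
    (U : X.Opens) (hU : IsAffineOpen U) (hW : IsAffineOpen (j ⁻¹ᵁ U))
    (hsurj : Function.Surjective (j.app U).hom) (d : Y) (hd : j d ∈ U) :
    RingHom.ker (j.stalkMap d).hom =
      (RingHom.ker (j.app U).hom).map (X.presheaf.germ U (j d) hd).hom := by
  have hdW : d ∈ j ⁻¹ᵁ U := hd
  letI := X.presheaf.algebra_section_stalk ⟨j d, hd⟩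
  letI := Y.presheaf.algebra_section_stalk ⟨d, hdW⟩
  have hB := hU.isLocalization_stalk ⟨j d, hd⟩
  have hC := hW.isLocalization_stalk ⟨d, hdW⟩
  have hgerm : ∀ t : Γ(X, U), (j.stalkMap d).hom (X.presheaf.germ U (j d) hd t) =
      Y.presheaf.germ (j ⁻¹ᵁ U) d hdW (j.app U t) := by
    intro t
    have := Scheme.Hom.germ_stalkMap j U d hd
    exact congr($(this).hom t)
  apply le_antisymm
  · intro β hβ
    rw [RingHom.mem_ker] at hβ
    obtain ⟨⟨t, s⟩, hts⟩ := IsLocalization.surj (hU.primeIdealOf ⟨j d, hd⟩).asIdeal.primeCompl β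
    have hs : IsUnit (X.presheaf.germ U (j d) hd s.1) :=
      IsLocalization.map_units (M := (hU.primeIdealOf ⟨j d, hd⟩).asIdeal.primeCompl) _ s
    have hts' : β * X.presheaf.germ U (j d) hd s.1 = X.presheaf.germ U (j d) hd t := hts
    have h1 : Y.presheaf.germ (j ⁻¹ᵁ U) d hdW (j.app U t) = 0 := by
      rw [← hgerm, ← hts', map_mul, hβ, zero_mul]
    have h1' : algebraMap Γ(Y, j ⁻¹ᵁ U) (Y.presheaf.stalk d) (j.app U t) = 0 :=
      h1
    rw [IsLocalization.map_eq_zero_iff (hW.primeIdealOf ⟨d, hdW⟩).asIdeal.primeCompl] at h1'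
    obtain ⟨ū, hū⟩ := h1'
    obtain ⟨u, hu⟩ := hsurj ū.1
    have hūunit : IsUnit (Y.presheaf.germ (j ⁻¹ᵁ U) d hdW ū.1) :=
      IsLocalization.map_units (M := (hW.primeIdealOf ⟨d, hdW⟩).asIdeal.primeCompl) _ ū
    have huunit : IsUnit (X.presheaf.germ U (j d) hd u) := by
      rw [← hu, ← hgerm] at hūunit
      haveI : IsLocalHom (j.stalkMap d).hom := j.toLRSHom.prop d
      exact isUnit_of_map_unit (j.stalkMap d).hom _ hūunit
    have h2 : u * t ∈ RingHom.ker (j.app U).hom := by
      rw [RingHom.mem_ker, map_mul]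
      rw [← hu] at hū
      exact hū
    have h3 : X.presheaf.germ U (j d) hd (u * t) ∈
        (RingHom.ker (j.app U).hom).map (X.presheaf.germ U (j d) hd).hom :=
      Ideal.mem_map_of_mem _ h2
    rw [map_mul] at h3
    have h4 := (Ideal.unit_mul_mem_iff_mem _ huunit).mp h3
    rw [← hts'] at h4
    exact (Ideal.mul_unit_mem_iff_mem _ hs).mp h4
  · rw [Ideal.map_le_iff_le_comap]
    intro t ht
    rw [Ideal.mem_comap, RingHom.mem_ker, hgerm]
    rw [RingHom.mem_ker] at ht
    rw [ht, map_zero]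

theorem app_surjective_of_eq {X Y : Scheme.{u}} (j : Y ⟶ X) (U U' : X.Opens) (e : U = U')
    (h : Function.Surjective (j.app U).hom) : Function.Surjective (j.app U').hom := by
  subst e
  exact h

/-- if `j ∣_ U` is a closed immersion (`U` affine) then `j⁻¹ U` is affine and `j.app U` is
surjective. -/
theorem affine_and_surjective_of_isClosedImmersion_restrict {X Y : Scheme.{u}} (j : Y ⟶ X)
    (U : X.Opens) (hU : IsAffineOpen U) [IsClosedImmersion (j ∣_ U)] :
    IsAffineOpen (j ⁻¹ᵁ U) ∧ Function.Surjective (j.app U).hom := by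
  haveI : IsAffine (U : Scheme.{u}) := hU
  refine ⟨isAffine_of_isAffineHom (j ∣_ U), ?_⟩
  have h1 : Function.Surjective ((j ∣_ U).app ⊤).hom :=
    (j ∣_ U).app_surjective ⊤ (isAffineOpen_top _)
  have h2 : Function.Surjective (j.app (U.ι ''ᵁ ⊤)).hom := by
    intro y
    obtain ⟨x, hx⟩ := h1 ((Y.presheaf.map
      (eqToHom (image_morphismRestrict_preimage j U ⊤)).op).hom y)
    refine ⟨x, ?_⟩
    have hx2 : (Y.presheaf.map (eqToHom (image_morphismRestrict_preimage j U ⊤)).op).hom
        ((j.app (U.ι ''ᵁ ⊤)).hom x) =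
        (Y.presheaf.map (eqToHom (image_morphismRestrict_preimage j U ⊤)).op).hom y :=
      (congr($(morphismRestrict_app j U ⊤).hom x)).symm.trans hx
    exact (ConcreteCategory.bijective_of_isIso
      (Y.presheaf.map (eqToHom (image_morphismRestrict_preimage j U ⊤)).op)).1 hx2
  exact app_surjective_of_eq j _ _ (Scheme.Opens.ι_image_top U) h2

/-- a regular immersion at `z` has stalk kernel generated by a regular sequence. -/
theorem regAt_of_isRegularImmersionAt {Z X : Scheme.{u}} (i : Z ⟶ X) (z : Z)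
    (h : RegImm.IsRegularImmersionAt RegImm.Kind.regular i z) : RegAt i z := by
  obtain ⟨U, hy, hcl, rs, hrs, hI⟩ := h
  haveI := hcl
  obtain ⟨hW, hsurj⟩ := affine_and_surjective_of_isClosedImmersion_restrict i U.1 U.2
  letI : Algebra Γ(X, U.1) (X.presheaf.stalk (i z)) := X.presheaf.algebra_section_stalk ⟨i z, hy⟩
  haveI hloc := U.2.isLocalization_stalk ⟨i z, hy⟩
  have hker := ker_stalkMap_of_app_surjective i U.1 U.2 hW hsurj z hy
  have hker' : RingHom.ker (i.stalkMap z).hom =
      Ideal.ofList (rs.map (algebraMap Γ(X, U.1) (X.presheaf.stalk (i z)))) := by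
    rw [hker, hI, Ideal.map_ofList]
    rfl
  have hne : RingHom.ker (i.stalkMap z).hom ≠ ⊤ := RingHom.ker_ne_top _
  have hmem : ∀ r ∈ rs, r ∈ (U.2.primeIdealOf ⟨i z, hy⟩).asIdeal := by
    intro r hr
    rw [← IsLocalization.AtPrime.to_map_mem_maximal_iff (X.presheaf.stalk (i z))
      (U.2.primeIdealOf ⟨i z, hy⟩).asIdeal]
    apply IsLocalRing.le_maximalIdeal hne
    rw [hker']
    exact Ideal.subset_span (List.mem_map_of_mem hr)
  have hrs' : IsRegular Γ(X, U.1) rs := hrs
  exact ⟨_, hrs'.toIsWeaklyRegular.isRegular_of_isLocalization_of_mem (X.presheaf.stalk (i z))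
      (U.2.primeIdealOf ⟨i z, hy⟩).asIdeal hmem, hker'⟩

/-- an immersion between regular schemes is a regular immersion. -/
theorem isRegularImmersion_of_regular {Z X : Scheme.{u}} (i : Z ⟶ X) [IsImmersion i]
    [IsLocallyNoetherian X]
    (hX : ∀ x : ↥X, IsRegularLocalRing ↑(X.presheaf.stalk x))
    (hZ : ∀ z : ↥Z, IsRegularLocalRing ↑(Z.presheaf.stalk z)) :
    RegImm.IsRegularImmersion RegImm.Kind.regular i := by
  refine ⟨inferInstance, fun z => ?_⟩
  set W := i.coborderRange with hWdef
  set j := i.liftCoborder with hjdef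
  have hjz : W.ι (j z) = i z := congr($(i.liftCoborder_ι).base z)
  haveI : IsRegularLocalRing (Z.presheaf.stalk z) := hZ z
  haveI : IsRegularLocalRing ((W : Scheme.{u}).presheaf.stalk (j z)) := by
    haveI := hX (j z).1
    exact IsRegularLocalRing.of_ringEquiv (R := X.presheaf.stalk (j z).1)
      (W.stalkIso (j z)).symm.commRingCatIsoToRingEquiv
  obtain ⟨V, hV, hzV, rs, hrs, hI⟩ := Groth.Agent.H1.RegImm.exists_regular_chart j z
  have hUW : W.ι ''ᵁ V ≤ W := by
    rintro _ ⟨x, -, rfl⟩
    exact x.2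
  refine ⟨⟨W.ι ''ᵁ V, hV.image_of_isOpenImmersion W.ι⟩, ?_,
    isClosedImmersion_morphismRestrict i _ hUW, rs, hrs, ?_⟩
  · exact ⟨j z, hzV, hjz⟩
  · have h2 : ∀ t, (j.app V).hom t = (Z.presheaf.map (eqToHom (i.liftCoborder_preimage V)).op).hom
        ((i.app (W.ι ''ᵁ V)).hom t) := fun t => congr($(liftCoborder_app (f := i) V).hom t)
    ext t
    refine Iff.trans ?_ (Ideal.ext_iff.mp hI t)
    refine Iff.trans ?_ (Ideal.ext_iff.mp (Scheme.Hom.ker_apply j ⟨V, hV⟩) t).symm
    constructor
    · intro h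
      have h' : (i.app (W.ι ''ᵁ V)).hom t = 0 := h
      have : (j.app V).hom t = 0 := by rw [h2 t, h', map_zero]
      exact this
    · intro h
      have h' : (j.app V).hom t = 0 := h
      rw [h2 t] at h'
      exact (map_eq_zero_iff _ (ConcreteCategory.bijective_of_isIso
        (Z.presheaf.map (eqToHom (i.liftCoborder_preimage V)).op)).1).mp h'

end Groth.Agent.H1.RegImmersion
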