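import Mathlib
import Groth.Agent.Lib.Helper1.FFSource
import Groth.Agent.Lib.Helper1.FlatSource

set_option autoImplicit false
universe u

namespace Groth.Agent.H1.SourceDescent

open AlgebraicGeometry CategoryTheory

variable {P : MorphismProperty Scheme.{u}}
  {Q : ∀ {R S : Type u} [CommRing R] [CommRing S], (R →+* S) → Prop}
  {W : MorphismProperty Scheme.{u}}
  {QW : ∀ {R S : Type u} [CommRing R] [CommRing S], (R →+* S) → Prop}

/-- all affine case -/
theorem of_affine [HasRingHomProperty P Q] [HasRingHomProperty W QW]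
    (H : ∀ {R A B : Type u} [CommRing R] [CommRing A] [CommRing B] (φ : R →+* A) (ψ : A →+* B),
      ψ.FaithfullyFlat → ψ.FinitePresentation → QW ψ → Q (ψ.comp φ) → Q φ)
    {X Y S : Scheme.{u}} [IsAffine X] [IsAffine Y] [IsAffine S]
    (g : X ⟶ Y) (q : Y ⟶ S) [Surjective g] [Flat g]
    [LocallyOfFinitePresentation g] (hW : W g) (h : P (g ≫ q)) : P q := by
  rw [HasRingHomProperty.iff_of_isAffine (P := P)]
  have h1 : Q (g ≫ q).appTop.hom := HasRingHomProperty.appTop (P := P) _ h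
  have h2 : g.appTop.hom.FinitePresentation :=
    HasRingHomProperty.appTop (P := @LocallyOfFinitePresentation) _ inferInstance
  have h4 : QW g.appTop.hom := HasRingHomProperty.appTop (P := W) _ hW
  have h3 : g.appTop.hom.FaithfullyFlat := by
    rw [RingHom.FaithfullyFlat.iff_flat_and_comap_surjective]
    refine ⟨Scheme.Hom.flat_appTop g, ?_⟩
    have hs : Surjective (Spec.map g.appTop) :=
      (MorphismProperty.arrow_mk_iso_iff @Surjective (arrowIsoSpecΓOfIsAffine g)).mp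
        inferInstance
    exact hs.surj
  rw [Scheme.Hom.comp_appTop, CommRingCat.hom_comp] at h1
  exact H _ _ h3 h2 h4 h1

set_option backward.isDefEq.respectTransparency.types false in
/-- affine targets, arbitrary source -/
theorem of_affine_target [HasRingHomProperty P Q] [HasRingHomProperty W QW]
    [W.IsStableUnderComposition] (hQW : RingHom.ContainsIdentities QW)
    (H : ∀ {R A B : Type u} [CommRing R] [CommRing A] [CommRing B] (φ : R →+* A) (ψ : A →+* B),
      ψ.FaithfullyFlat → ψ.FinitePresentation → QW ψ → Q (ψ.comp φ) → Q φ)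
    {X Y S : Scheme.{u}} [IsAffine Y] [IsAffine S]
    (f : X ⟶ Y) (q : Y ⟶ S) [Surjective f] [Flat f]
    [LocallyOfFinitePresentation f] (hW : W f) (h : P (f ≫ q)) : P q := by
  classical
  let 𝒰 := X.affineCover
  have hopen : ∀ i, IsOpen (Set.range (𝒰.f i ≫ f).base) := fun i =>
    (𝒰.f i ≫ f).isOpenMap.isOpen_range
  have hcov : (Set.univ : Set Y) ⊆ ⋃ i, Set.range (𝒰.f i ≫ f).base := by
    intro y _
    obtain ⟨x, rfl⟩ := f.surjective y
    obtain ⟨i, z, rfl⟩ := 𝒰.exists_eq x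
    exact Set.mem_iUnion.mpr ⟨i, z, rfl⟩
  obtain ⟨t, ht⟩ := isCompact_univ.elim_finite_subcover _ hopen hcov
  let p : (∐ fun i : t => 𝒰.X i.1) ⟶ X := Limits.Sigma.desc fun i : t => 𝒰.f i.1
  haveI : LocallyOfFinitePresentation p :=
    IsZariskiLocalAtSource.sigmaDesc (fun _ => inferInstance)
  have hWp : W p := IsZariskiLocalAtSource.sigmaDesc
    (fun _ => HasRingHomProperty.of_isOpenImmersion (P := W) hQW)
  haveI : Flat p := inferInstance
  haveI : Surjective (p ≫ f) := by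
    constructor
    intro y
    obtain ⟨i, hi, z, rfl⟩ : ∃ i ∈ t, y ∈ Set.range (𝒰.f i ≫ f).base := by
      simpa using ht (Set.mem_univ y)
    refine ⟨(Limits.Sigma.ι (fun i : t => 𝒰.X i.1) ⟨i, hi⟩).base z, ?_⟩
    rw [← Scheme.Hom.comp_apply, ← Category.assoc, Limits.Sigma.ι_desc]
  have h' : P ((p ≫ f) ≫ q) := by
    have e : (p ≫ f) ≫ q = Limits.Sigma.desc (fun i : t => 𝒰.f i.1 ≫ f ≫ q) := by
      apply Limits.Sigma.hom_ext
      intro i
      simp [p]
    rw [e]
    exact IsZariskiLocalAtSource.sigmaDesc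
      (fun i => IsZariskiLocalAtSource.comp (P := P) h (𝒰.f i.1))
  exact of_affine (P := P) (W := W) H (p ≫ f) q (W.comp_mem _ _ hWp hW) h'

set_option backward.isDefEq.respectTransparency.types false in
/-- A property `P` of morphisms (given by a local ring hom property `Q`) descends along
surjective flat lfp `W`-covers of the source provided `Q` does so for faithfully flat finitely
presented `QW` ring maps. -/
theorem descends [HasRingHomProperty P Q] [HasRingHomProperty W QW]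
    [W.IsStableUnderComposition] (hQW : RingHom.ContainsIdentities QW)
    (H : ∀ {R A B : Type u} [CommRing R] [CommRing A] [CommRing B] (φ : R →+* A) (ψ : A →+* B),
      ψ.FaithfullyFlat → ψ.FinitePresentation → QW ψ → Q (ψ.comp φ) → Q φ)
    {X Y S : Scheme.{u}} (f : X ⟶ Y) (q : Y ⟶ S) [Surjective f] [Flat f]
    [LocallyOfFinitePresentation f] (hW : W f) (h : P (f ≫ q)) : P q := by
  rw [IsZariskiLocalAtTarget.iff_of_iSup_eq_top (P := P) _ (iSup_affineOpens_eq_top S)]
  intro U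
  rw [IsZariskiLocalAtSource.iff_of_iSup_eq_top (P := P) _ (iSup_affineOpens_eq_top _)]
  intro V
  haveI : IsAffine (U.1 : Scheme) := U.2
  haveI : IsAffine (V.1 : Scheme) := V.2
  let f' := f ∣_ (q ⁻¹ᵁ U.1)
  have hcomp : f' ≫ (q ∣_ U.1) = (f ≫ q) ∣_ U.1 := (morphismRestrict_comp f q U.1).symm
  haveI : Surjective f' := IsZariskiLocalAtTarget.restrict ‹_› _
  haveI : Surjective (f' ∣_ V.1) := IsZariskiLocalAtTarget.restrict ‹_› _
  have hW' : W (f' ∣_ V.1) :=
    IsZariskiLocalAtTarget.restrict (IsZariskiLocalAtTarget.restrict hW _) _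
  have h1 : P (f' ≫ (q ∣_ U.1)) := by
    rw [hcomp]
    exact IsZariskiLocalAtTarget.restrict h _
  have e : (f' ∣_ V.1) ≫ (V.1.ι ≫ q ∣_ U.1) = (f' ⁻¹ᵁ V.1).ι ≫ (f' ≫ (q ∣_ U.1)) := by
    rw [← Category.assoc, morphismRestrict_ι, Category.assoc]
  have h2 : P ((f' ∣_ V.1) ≫ (V.1.ι ≫ q ∣_ U.1)) := by
    rw [e]
    exact IsZariskiLocalAtSource.comp (P := P) h1 (f' ⁻¹ᵁ V.1).ι
  exact of_affine_target (P := P) (W := W) hQW H (f' ∣_ V.1) (V.1.ι ≫ q ∣_ U.1) hW' h2

set_option backward.isDefEq.respectTransparency.types false in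
/-- family version: affine targets -/
theorem of_affine_target_family [HasRingHomProperty P Q] [HasRingHomProperty W QW]
    [W.IsStableUnderComposition] (hQW : RingHom.ContainsIdentities QW)
    (H : ∀ {R A B : Type u} [CommRing R] [CommRing A] [CommRing B] (φ : R →+* A) (ψ : A →+* B),
      ψ.FaithfullyFlat → ψ.FinitePresentation → QW ψ → Q (ψ.comp φ) → Q φ)
    {Y S : Scheme.{u}} [IsAffine Y] [IsAffine S] {ι : Type*} (Xs : ι → Scheme.{u})
    (fs : ∀ i, Xs i ⟶ Y) (q : Y ⟶ S) [∀ i, Flat (fs i)]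
    [∀ i, LocallyOfFinitePresentation (fs i)] (hW : ∀ i, W (fs i))
    (hsurj : ∀ y : Y, ∃ i, y ∈ Set.range (fs i).base)
    (h : ∀ i, P (fs i ≫ q)) : P q := by
  classical
  let 𝒰 := fun i => (Xs i).affineCover
  have hopen : ∀ k : (Σ i, (𝒰 i).I₀), IsOpen (Set.range ((𝒰 k.1).f k.2 ≫ fs k.1).base) :=
    fun k => ((𝒰 k.1).f k.2 ≫ fs k.1).isOpenMap.isOpen_range
  have hcov : (Set.univ : Set Y) ⊆
      ⋃ k : (Σ i, (𝒰 i).I₀), Set.range ((𝒰 k.1).f k.2 ≫ fs k.1).base := by
    intro y _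
    obtain ⟨i, x, rfl⟩ := hsurj y
    obtain ⟨j, z, rfl⟩ := (𝒰 i).exists_eq x
    exact Set.mem_iUnion.mpr ⟨⟨i, j⟩, z, rfl⟩
  obtain ⟨t, ht⟩ := isCompact_univ.elim_finite_subcover _ hopen hcov
  let p : (∐ fun k : t => (𝒰 k.1.1).X k.1.2) ⟶ Y :=
    Limits.Sigma.desc fun k : t => (𝒰 k.1.1).f k.1.2 ≫ fs k.1.1
  haveI : LocallyOfFinitePresentation p :=
    IsZariskiLocalAtSource.sigmaDesc (fun _ => inferInstance)
  have hWp : W p := IsZariskiLocalAtSource.sigmaDesc
    (fun k => W.comp_mem _ _ (HasRingHomProperty.of_isOpenImmersion (P := W) hQW) (hW k.1.1))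
  haveI : Flat p := inferInstance
  haveI : Surjective p := by
    constructor
    intro y
    obtain ⟨k, hk, z, rfl⟩ : ∃ k ∈ t, y ∈ Set.range ((𝒰 k.1).f k.2 ≫ fs k.1).base := by
      simpa using ht (Set.mem_univ y)
    refine ⟨(Limits.Sigma.ι (fun k : t => (𝒰 k.1.1).X k.1.2) ⟨k, hk⟩).base z, ?_⟩
    rw [← Scheme.Hom.comp_apply, Limits.Sigma.ι_desc]
  have h' : P (p ≫ q) := by
    have e : p ≫ q = Limits.Sigma.desc (fun k : t => (𝒰 k.1.1).f k.1.2 ≫ fs k.1.1 ≫ q) := by
      apply Limits.Sigma.hom_ext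
      intro i
      simp [p]
    rw [e]
    exact IsZariskiLocalAtSource.sigmaDesc
      (fun k => IsZariskiLocalAtSource.comp (P := P) (h k.1.1) ((𝒰 k.1.1).f k.1.2))
  exact of_affine (P := P) (W := W) H p q hWp h'

set_option backward.isDefEq.respectTransparency.types false in
/-- family version of `descends`. -/
theorem descends_family [HasRingHomProperty P Q] [HasRingHomProperty W QW]
    [W.IsStableUnderComposition] (hQW : RingHom.ContainsIdentities QW)
    (H : ∀ {R A B : Type u} [CommRing R] [CommRing A] [CommRing B] (φ : R →+* A) (ψ : A →+* B),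
      ψ.FaithfullyFlat → ψ.FinitePresentation → QW ψ → Q (ψ.comp φ) → Q φ)
    {Y S : Scheme.{u}} {ι : Type*} (Xs : ι → Scheme.{u})
    (fs : ∀ i, Xs i ⟶ Y) (q : Y ⟶ S) [∀ i, Flat (fs i)]
    [∀ i, LocallyOfFinitePresentation (fs i)] (hW : ∀ i, W (fs i))
    (hsurj : ∀ y : Y, ∃ i, y ∈ Set.range (fs i).base)
    (h : ∀ i, P (fs i ≫ q)) : P q := by
  rw [IsZariskiLocalAtTarget.iff_of_iSup_eq_top (P := P) _ (iSup_affineOpens_eq_top S)]
  intro U
  rw [IsZariskiLocalAtSource.iff_of_iSup_eq_top (P := P) _ (iSup_affineOpens_eq_top _)]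
  intro V
  haveI : IsAffine (U.1 : Scheme) := U.2
  haveI : IsAffine (V.1 : Scheme) := V.2
  let f' := fun i => fs i ∣_ (q ⁻¹ᵁ U.1)
  have hW' : ∀ i, W (f' i ∣_ V.1) := fun i =>
    IsZariskiLocalAtTarget.restrict (IsZariskiLocalAtTarget.restrict (hW i) _) _
  have h1 : ∀ i, P (f' i ≫ (q ∣_ U.1)) := by
    intro i
    have hcomp : f' i ≫ (q ∣_ U.1) = (fs i ≫ q) ∣_ U.1 := (morphismRestrict_comp (fs i) q U.1).symm
    rw [hcomp]
    exact IsZariskiLocalAtTarget.restrict (h i) _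
  have h2 : ∀ i, P ((f' i ∣_ V.1) ≫ (V.1.ι ≫ q ∣_ U.1)) := by
    intro i
    have e : (f' i ∣_ V.1) ≫ (V.1.ι ≫ q ∣_ U.1) =
        (f' i ⁻¹ᵁ V.1).ι ≫ (f' i ≫ (q ∣_ U.1)) := by
      rw [← Category.assoc, morphismRestrict_ι, Category.assoc]
    rw [e]
    exact IsZariskiLocalAtSource.comp (P := P) (h1 i) (f' i ⁻¹ᵁ V.1).ι
  refine of_affine_target_family (P := P) (W := W) hQW H _ (fun i => f' i ∣_ V.1)
    (V.1.ι ≫ q ∣_ U.1) hW' ?_ h2
  intro y
  obtain ⟨i, x, hx⟩ := hsurj y.1.1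
  have hx1 : x ∈ fs i ⁻¹ᵁ (q ⁻¹ᵁ U.1) := by
    change (fs i).base x ∈ q ⁻¹ᵁ U.1
    rw [hx]; exact y.1.2
  have hx2 : (⟨x, hx1⟩ : ↥(fs i ⁻¹ᵁ (q ⁻¹ᵁ U.1))) ∈ f' i ⁻¹ᵁ V.1 := by
    change (f' i).base ⟨x, hx1⟩ ∈ V.1
    have : (f' i).base ⟨x, hx1⟩ = y.1 := by
      apply Subtype.ext
      rw [← hx]
      exact morphismRestrict_base_coe (fs i) (q ⁻¹ᵁ U.1) ⟨x, hx1⟩
    rw [this]; exact y.2
  refine ⟨i, ⟨⟨x, hx1⟩, hx2⟩, ?_⟩
  apply Subtype.ext
  apply Subtype.ext
  rw [← hx]
  have e1 := morphismRestrict_base_coe (f' i) V.1 ⟨⟨x, hx1⟩, hx2⟩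
  have e2 := morphismRestrict_base_coe (fs i) (q ⁻¹ᵁ U.1) ⟨x, hx1⟩
  rw [e1]
  exact e2

section ringlevel

variable {R A B : Type u} [CommRing R] [CommRing A] [CommRing B] (φ : R →+* A) (ψ : A →+* B)

theorem finiteType_of_comp (h1 : ψ.FaithfullyFlat) (h2 : ψ.FinitePresentation)
    (h3 : (ψ.comp φ).FiniteType) : φ.FiniteType := by
  letI := φ.toAlgebra
  letI := ψ.toAlgebra
  letI := (ψ.comp φ).toAlgebra
  haveI : IsScalarTower R A B := IsScalarTower.of_algebraMap_eq (fun _ => rfl)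
  haveI : Algebra.FiniteType R B := h3
  haveI : Algebra.FinitePresentation A B := h2
  haveI : Module.FaithfullyFlat A B := h1
  exact Groth.Agent.H1.FFSource.finiteType_of_faithfullyFlat (R := R) (A := A) (B := B)

theorem finitePresentation_of_comp (h1 : ψ.FaithfullyFlat) (h2 : ψ.FinitePresentation)
    (h3 : (ψ.comp φ).FinitePresentation) : φ.FinitePresentation := by
  letI := φ.toAlgebra
  letI := ψ.toAlgebra
  letI := (ψ.comp φ).toAlgebra
  haveI : IsScalarTower R A B := IsScalarTower.of_algebraMap_eq (fun _ => rfl)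
  haveI : Algebra.FinitePresentation R B := h3
  haveI : Algebra.FinitePresentation A B := h2
  haveI : Module.FaithfullyFlat A B := h1
  exact Groth.Agent.H1.FFSource.finitePresentation_of_faithfullyFlat (R := R) (A := A) (B := B)

theorem flat_of_comp (h1 : ψ.FaithfullyFlat) (h3 : (ψ.comp φ).Flat) : φ.Flat := by
  letI := φ.toAlgebra
  letI := ψ.toAlgebra
  letI := (ψ.comp φ).toAlgebra
  haveI : IsScalarTower R A B := IsScalarTower.of_algebraMap_eq (fun _ => rfl)
  haveI : Module.Flat R B := h3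
  haveI : Module.FaithfullyFlat A B := h1
  exact Groth.Agent.H1.flat_of_flat_of_faithfullyFlat R A B

theorem formallyUnramified_of_comp_etale (h1 : ψ.FaithfullyFlat) (h4 : ψ.Etale)
    (h3 : (ψ.comp φ).FormallyUnramified) : φ.FormallyUnramified := by
  letI := φ.toAlgebra
  letI := ψ.toAlgebra
  letI := (ψ.comp φ).toAlgebra
  haveI : IsScalarTower R A B := IsScalarTower.of_algebraMap_eq (fun _ => rfl)
  haveI : Algebra.FormallyUnramified R B := h3
  haveI : Algebra.Etale A B := h4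
  haveI : Module.FaithfullyFlat A B := h1
  change Algebra.FormallyUnramified R A
  rw [Algebra.formallyUnramified_iff]
  have e := KaehlerDifferential.tensorKaehlerEquivOfFormallyEtale R A B
  haveI : Subsingleton (TensorProduct A B (Ω[A⁄R])) := e.toEquiv.subsingleton
  exact (Module.FaithfullyFlat.subsingleton_tensorProduct_iff_right A B).mp inferInstance

theorem etale_of_comp_etale (h1 : ψ.FaithfullyFlat) (h2 : ψ.FinitePresentation) (h4 : ψ.Etale)
    (h3 : (ψ.comp φ).Etale) : φ.Etale := by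
  rw [RingHom.Etale.iff_flat_and_formallyUnramified] at h3 ⊢
  exact ⟨flat_of_comp φ ψ h1 h3.1, formallyUnramified_of_comp_etale φ ψ h1 h4 h3.2.1,
    finitePresentation_of_comp φ ψ h1 h2 h3.2.2⟩

end ringlevel

/-- Locally of finite type descends along fppf covers of the source. -/
theorem locallyOfFiniteType_of_comp {X Y S : Scheme.{u}} (f : X ⟶ Y) (q : Y ⟶ S) [Surjective f]
    [Flat f] [LocallyOfFinitePresentation f] [LocallyOfFiniteType (f ≫ q)] :
    LocallyOfFiniteType q :=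
  descends (P := @LocallyOfFiniteType) (W := @Flat) RingHom.Flat.containsIdentities
    (fun φ ψ h1 h2 _ h3 => finiteType_of_comp φ ψ h1 h2 h3) f q inferInstance inferInstance

/-- Formally unramified descends along étale covers of the source. -/
theorem formallyUnramified_of_comp {X Y S : Scheme.{u}} (f : X ⟶ Y) (q : Y ⟶ S) [Surjective f]
    [Etale f] [FormallyUnramified (f ≫ q)] :
    FormallyUnramified q := by
  haveI : MorphismProperty.IsStableUnderComposition @Etale.{u} :=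
    (inferInstance : MorphismProperty.IsMultiplicative @Etale.{u}).toIsStableUnderComposition
  exact descends (P := @FormallyUnramified.{u}) (W := @Etale.{u})
    RingHom.Etale.containsIdentities
    (fun φ ψ h1 _ h4 h3 => formallyUnramified_of_comp_etale φ ψ h1 h4 h3)
    f q inferInstance inferInstance

/-- Family versions. -/
theorem locallyOfFiniteType_of_family {Y S : Scheme.{u}} {ι : Type*} (Xs : ι → Scheme.{u})
    (fs : ∀ i, Xs i ⟶ Y) (q : Y ⟶ S) [∀ i, Flat (fs i)]
    [∀ i, LocallyOfFinitePresentation (fs i)]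
    (hsurj : ∀ y : Y, ∃ i, y ∈ Set.range (fs i).base)
    (h : ∀ i, LocallyOfFiniteType (fs i ≫ q)) : LocallyOfFiniteType q :=
  descends_family (P := @LocallyOfFiniteType) (W := @Flat) RingHom.Flat.containsIdentities
    (fun φ ψ h1 h2 _ h3 => finiteType_of_comp φ ψ h1 h2 h3) Xs fs q (fun _ => inferInstance)
    hsurj h

theorem etale_of_family {Y S : Scheme.{u}} {ι : Type*} (Xs : ι → Scheme.{u})
    (fs : ∀ i, Xs i ⟶ Y) (q : Y ⟶ S) [∀ i, Etale (fs i)]
    (hsurj : ∀ y : Y, ∃ i, y ∈ Set.range (fs i).base)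
    (h : ∀ i, Etale (fs i ≫ q)) : Etale q := by
  haveI : MorphismProperty.IsStableUnderComposition @Etale.{u} :=
    (inferInstance : MorphismProperty.IsMultiplicative @Etale.{u}).toIsStableUnderComposition
  exact descends_family (P := @Etale.{u}) (W := @Etale.{u}) RingHom.Etale.containsIdentities
    (fun φ ψ h1 h2 h4 h3 => etale_of_comp_etale φ ψ h1 h2 h4 h3) Xs fs q
    (fun _ => inferInstance) hsurj h

end Groth.Agent.H1.SourceDescent
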