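import Mathlib

set_option autoImplicit false

universe u

open TensorProduct CategoryTheory CategoryTheory.Limits AlgebraicGeometry

namespace Groth.Agent.H1.UnrFib

attribute [local instance] Algebra.TensorProduct.rightAlgebra in
/-- A finite type algebra all of whose fibres are formally unramified is formally unramified. -/
theorem formallyUnramified_of_fiber {R S : Type*} [CommRing R] [CommRing S] [Algebra R S]
    [Algebra.EssFiniteType R S]
    (h : ∀ (p : Ideal R) [p.IsPrime], Algebra.FormallyUnramified p.ResidueField (p.Fiber S)) :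
    Algebra.FormallyUnramified R S := by
  rw [Algebra.formallyUnramified_iff, ← Module.support_eq_empty_iff (R := S),
    Set.eq_empty_iff_forall_notMem]
  intro q
  rw [Module.mem_support_iff_nontrivial_residueField_tensorProduct, not_nontrivial_iff_subsingleton]
  let p : Ideal R := q.asIdeal.under R
  haveI : q.asIdeal.LiesOver p := ⟨rfl⟩
  haveI := h p
  let F := p.Fiber S
  have e : F ⊗[S] Ω[S⁄R] ≃ₗ[F] Ω[F⁄p.ResidueField] :=
    KaehlerDifferential.tensorKaehlerEquiv R p.ResidueField S F
  haveI : Subsingleton (Ω[F⁄p.ResidueField]) := (Algebra.formallyUnramified_iff _ _).mp inferInstance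
  haveI : Subsingleton (F ⊗[S] Ω[S⁄R]) := e.toEquiv.subsingleton
  let := Localization.AtPrime.algebraOfLiesOver p q.asIdeal
  let φ : F →ₐ[p.ResidueField] q.asIdeal.ResidueField :=
    Algebra.TensorProduct.lift (Algebra.ofId _ _) (IsScalarTower.toAlgHom R S _) fun _ _ ↦ .all _ _
  letI : Algebra F q.asIdeal.ResidueField := φ.toRingHom.toAlgebra
  haveI : IsScalarTower S F q.asIdeal.ResidueField := by
    refine IsScalarTower.of_algebraMap_eq fun x => ?_
    show _ = φ (1 ⊗ₜ x)
    rw [Algebra.TensorProduct.lift_tmul]; simp
  exact (AlgebraTensorModule.cancelBaseChange S F q.asIdeal.ResidueField q.asIdeal.ResidueField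
    Ω[S⁄R]).symm.toEquiv.subsingleton

set_option backward.isDefEq.respectTransparency false in
/-- A morphism locally of finite type with formally unramified fibres is formally unramified. -/
theorem formallyUnramified_of_fiberToSpecResidueField {X Y : Scheme.{u}} (f : X ⟶ Y)
    [LocallyOfFiniteType f]
    (h : ∀ y, FormallyUnramified (f.fiberToSpecResidueField y)) :
    FormallyUnramified f := by
  wlog h : ∃ R, Y = Spec R
  · rw [IsZariskiLocalAtTarget.iff_of_openCover (P := @FormallyUnramified) Y.affineCover]
    intro i
    dsimp [Scheme.Cover.pullbackHom]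
    refine this _ (fun y ↦ ?_) ⟨_, rfl⟩
    apply MorphismProperty.of_isPullback
    · exact isPullback_fiberToSpecResidueField_of_isPullback (IsPullback.of_hasPullback _ _) _
    · infer_instance
  obtain ⟨R, rfl⟩ := h
  wlog h : ∃ S, X = Spec S generalizing f X
  · rw [IsZariskiLocalAtSource.iff_of_openCover (P := @FormallyUnramified) X.affineCover]
    intro i
    have _ (y) : FormallyUnramified (pullback.snd f ((Spec R).fromSpecResidueField y)) :=
      inferInstanceAs <| FormallyUnramified (f.fiberToSpecResidueField y)
    refine this _ (fun y ↦ ?_) ⟨_, rfl⟩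
    rw [Scheme.Hom.fiberToSpecResidueField, ← pullbackRightPullbackFstIso_inv_snd_snd]
    exact MorphismProperty.comp_mem _ _ _ inferInstance
      (MorphismProperty.comp_mem _ _ _ inferInstance inferInstance)
  obtain ⟨S, rfl⟩ := h
  obtain ⟨φ, rfl⟩ := Spec.map_surjective f
  simp only [HasRingHomProperty.Spec_iff] at *
  algebraize [φ.hom]
  have : Algebra.FiniteType R S := ‹_›
  show (algebraMap R S).FormallyUnramified
  rw [RingHom.formallyUnramified_algebraMap] 
  refine formallyUnramified_of_fiber fun p hp ↦ ?_
  rw [← RingHom.formallyUnramified_algebraMap]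
  rw [← CommRingCat.hom_ofHom (algebraMap p.ResidueField (p.Fiber ↑S)),
    ← HasRingHomProperty.Spec_iff (P := @FormallyUnramified),
    ← MorphismProperty.arrow_mk_iso_iff (P := @FormallyUnramified)
    (Spec.fiberToSpecResidueFieldIso R S ⟨p, hp⟩)]
  exact h ⟨p, hp⟩

end Groth.Agent.H1.UnrFib
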