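import Mathlib
import Groth.Prelude.Def_SheafNL
import Groth.Agent.Lib.Helper8.NLBC.A

/-!
# Base change of the naive cotangent complex along a flat map of base rings

`NL(G) ⊗_S S' → NL(G')` is an isomorphism of complexes for the same-variables presentation of a
cocartesian square with `R → R'` flat, and `NL_{S/R} ⊗_S S' → NL_{S'/R'}` is a homotopy equivalence.
-/

set_option autoImplicit false

universe u

open CategoryTheory CategoryTheory.Limits TensorProduct

namespace Groth.Agent.H1.NLFlat

open Groth.Agent.H8.NLBC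

section Dbl

variable {A : Type u} [CommRing A]
variable {X Y X' Y' X'' Y'' : Type u}
  [AddCommGroup X] [Module A X] [AddCommGroup Y] [Module A Y]
  [AddCommGroup X'] [Module A X'] [AddCommGroup Y'] [Module A Y']
  [AddCommGroup X''] [Module A X''] [AddCommGroup Y''] [Module A Y'']

theorem rel : (ComplexShape.up ℤ).Rel (-1) 0 := by simp

/-- the two-term complex of a linear map, in degrees `-1, 0`. -/
noncomputable abbrev dbl (δ : X →ₗ[A] Y) : CochainComplex (ModuleCat.{u} A) ℤ :=
  HomologicalComplex.double (ModuleCat.ofHom δ) rel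

/-- the chain map of a commutative square of linear maps. -/
noncomputable def dmap (δ : X →ₗ[A] Y) (δ' : X' →ₗ[A] Y') (α : X →ₗ[A] X') (β : Y →ₗ[A] Y')
    (comm : ∀ x, δ' (α x) = β (δ x)) : dbl δ ⟶ dbl δ' :=
  HomologicalComplex.mkHomFromDouble _ (by decide)
    (ModuleCat.ofHom α ≫ (HomologicalComplex.doubleXIso₀ (ModuleCat.ofHom δ') rel).inv)
    (ModuleCat.ofHom β ≫ (HomologicalComplex.doubleXIso₁ (ModuleCat.ofHom δ') rel (by decide)).inv)
    (by
      rw [HomologicalComplex.double_d _ _ (by decide)]
      simp only [Category.assoc, Iso.inv_hom_id_assoc]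
      rw [← Category.assoc, ← Category.assoc]
      congr 1
      ext x
      simpa using comm x)
    (fun k hk =>
      (HomologicalComplex.isZero_double_X _ _ k (by simp at hk; omega)
        (by simp at hk; omega)).eq_of_tgt _ _)

theorem dmap_f₀ (δ : X →ₗ[A] Y) (δ' : X' →ₗ[A] Y') (α : X →ₗ[A] X') (β : Y →ₗ[A] Y')
    (comm : ∀ x, δ' (α x) = β (δ x)) :
    (dmap δ δ' α β comm).f (-1) =
      (HomologicalComplex.doubleXIso₀ (ModuleCat.ofHom δ) rel).hom ≫ ModuleCat.ofHom α ≫
        (HomologicalComplex.doubleXIso₀ (ModuleCat.ofHom δ') rel).inv :=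
  HomologicalComplex.mkHomFromDouble_f₀ _ _ _ _ _ _

theorem dmap_f₁ (δ : X →ₗ[A] Y) (δ' : X' →ₗ[A] Y') (α : X →ₗ[A] X') (β : Y →ₗ[A] Y')
    (comm : ∀ x, δ' (α x) = β (δ x)) :
    (dmap δ δ' α β comm).f 0 =
      (HomologicalComplex.doubleXIso₁ (ModuleCat.ofHom δ) rel (by decide)).hom ≫
        ModuleCat.ofHom β ≫
        (HomologicalComplex.doubleXIso₁ (ModuleCat.ofHom δ') rel (by decide)).inv :=
  HomologicalComplex.mkHomFromDouble_f₁ _ _ _ _ _ _

theorem dmap_congr {δ : X →ₗ[A] Y} {δ' : X' →ₗ[A] Y'} {α α' : X →ₗ[A] X'} {β β' : Y →ₗ[A] Y'}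
    (comm : ∀ x, δ' (α x) = β (δ x)) (comm' : ∀ x, δ' (α' x) = β' (δ x))
    (hα : α = α') (hβ : β = β') : dmap δ δ' α β comm = dmap δ δ' α' β' comm' := by
  subst hα hβ
  rfl

theorem dmap_comp (δ : X →ₗ[A] Y) (δ' : X' →ₗ[A] Y') (δ'' : X'' →ₗ[A] Y'')
    (α : X →ₗ[A] X') (β : Y →ₗ[A] Y') (comm : ∀ x, δ' (α x) = β (δ x))
    (α' : X' →ₗ[A] X'') (β' : Y' →ₗ[A] Y'') (comm' : ∀ x, δ'' (α' x) = β' (δ' x)) :
    dmap δ δ' α β comm ≫ dmap δ' δ'' α' β' comm' =
      dmap δ δ'' (α' ∘ₗ α) (β' ∘ₗ β)
        (fun x => by rw [LinearMap.comp_apply, LinearMap.comp_apply, comm', comm]) := by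
  apply HomologicalComplex.from_double_hom_ext
  · rw [HomologicalComplex.comp_f, dmap_f₀, dmap_f₀, dmap_f₀]
    simp only [Category.assoc, Iso.inv_hom_id_assoc, ModuleCat.ofHom_comp]
  · rw [HomologicalComplex.comp_f, dmap_f₁, dmap_f₁, dmap_f₁]
    simp only [Category.assoc, Iso.inv_hom_id_assoc, ModuleCat.ofHom_comp]

theorem dmap_id (δ : X →ₗ[A] Y) :
    dmap δ δ LinearMap.id LinearMap.id (fun _ => rfl) = 𝟙 (dbl δ) := by
  apply HomologicalComplex.from_double_hom_ext
  · rw [dmap_f₀, HomologicalComplex.id_f]
    simp only [ModuleCat.ofHom_id, Category.id_comp, Iso.hom_inv_id]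
  · rw [dmap_f₁, HomologicalComplex.id_f]
    simp only [ModuleCat.ofHom_id, Category.id_comp, Iso.hom_inv_id]

theorem isIso_ofHom (g : X →ₗ[A] X') (hg : Function.Bijective g) :
    IsIso (ModuleCat.ofHom g) := by
  have : ModuleCat.ofHom g = (LinearEquiv.ofBijective g hg).toModuleIso.hom :=
    ModuleCat.hom_ext (LinearMap.ext fun x => rfl)
  rw [this]
  infer_instance

theorem isIso_dmap (δ : X →ₗ[A] Y) (δ' : X' →ₗ[A] Y') (α : X →ₗ[A] X') (β : Y →ₗ[A] Y')
    (comm : ∀ x, δ' (α x) = β (δ x))
    (hα : Function.Bijective α) (hβ : Function.Bijective β) : IsIso (dmap δ δ' α β comm) := by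
  haveI i1 : IsIso (ModuleCat.ofHom α) := isIso_ofHom α hα
  haveI i2 : IsIso (ModuleCat.ofHom β) := isIso_ofHom β hβ
  haveI : ∀ n : ℤ, IsIso ((dmap δ δ' α β comm).f n) := by
    intro n
    by_cases h0 : n = -1
    · subst h0
      rw [dmap_f₀]
      infer_instance
    · by_cases h1 : n = 0
      · subst h1
        rw [dmap_f₁]
        infer_instance
      · have hX := HomologicalComplex.isZero_double_X (ModuleCat.ofHom δ) rel n h0 h1
        have hY := HomologicalComplex.isZero_double_X (ModuleCat.ofHom δ') rel n h0 h1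
        exact ⟨⟨0, hX.eq_of_src _ _, hY.eq_of_src _ _⟩⟩
  exact HomologicalComplex.Hom.isIso_of_components _

/-- the homotopy data. -/
noncomputable def hfun (δ : X →ₗ[A] Y) (δ' : X' →ₗ[A] Y') (h : Y →ₗ[A] X') (i j : ℤ) :
    (dbl δ).X i ⟶ (dbl δ').X j :=
  if hij : i = 0 ∧ j = -1 then
    eqToHom (by rw [hij.1]) ≫
      (HomologicalComplex.doubleXIso₁ (ModuleCat.ofHom δ) rel (by decide)).hom ≫
      ModuleCat.ofHom h ≫ (HomologicalComplex.doubleXIso₀ (ModuleCat.ofHom δ') rel).inv ≫
      eqToHom (by rw [hij.2])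
  else 0

theorem hfun_pos (δ : X →ₗ[A] Y) (δ' : X' →ₗ[A] Y') (h : Y →ₗ[A] X') :
    hfun δ δ' h 0 (-1) =
      (HomologicalComplex.doubleXIso₁ (ModuleCat.ofHom δ) rel (by decide)).hom ≫
        ModuleCat.ofHom h ≫ (HomologicalComplex.doubleXIso₀ (ModuleCat.ofHom δ') rel).inv := by
  rw [hfun, dif_pos ⟨rfl, rfl⟩]
  simp only [eqToHom_refl, Category.id_comp, Category.comp_id]

theorem hfun_neg (δ : X →ₗ[A] Y) (δ' : X' →ₗ[A] Y') (h : Y →ₗ[A] X') (i j : ℤ)
    (hij : ¬ (i = 0 ∧ j = -1)) : hfun δ δ' h i j = 0 :=
  dif_neg hij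

/-- two squares differing by `hδ`, `δ'h` give homotopic chain maps. -/
noncomputable def dmapHomotopy (δ : X →ₗ[A] Y) (δ' : X' →ₗ[A] Y')
    (α : X →ₗ[A] X') (β : Y →ₗ[A] Y') (comm : ∀ x, δ' (α x) = β (δ x))
    (α₂ : X →ₗ[A] X') (β₂ : Y →ₗ[A] Y') (comm₂ : ∀ x, δ' (α₂ x) = β₂ (δ x))
    (h : Y →ₗ[A] X')
    (h1 : ∀ x, α x = h (δ x) + α₂ x) (h2 : ∀ y, β y = δ' (h y) + β₂ y) :
    Homotopy (dmap δ δ' α β comm) (dmap δ δ' α₂ β₂ comm₂) where
  hom := hfun δ δ' h
  zero i j hij := by
    apply hfun_neg
    rintro ⟨rfl, rfl⟩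
    exact hij (by simp)
  comm i := by
    have hα : ModuleCat.ofHom α =
        ModuleCat.ofHom δ ≫ ModuleCat.ofHom h + ModuleCat.ofHom α₂ := by
      ext x
      simpa using h1 x
    have hβ : ModuleCat.ofHom β =
        ModuleCat.ofHom h ≫ ModuleCat.ofHom δ' + ModuleCat.ofHom β₂ := by
      ext x
      simpa using h2 x
    by_cases h0 : i = -1
    · subst h0
      rw [dNext_eq (hfun δ δ' h) (show (ComplexShape.up ℤ).Rel (-1) 0 by simp),
        prevD_eq (hfun δ δ' h) (show (ComplexShape.up ℤ).Rel (-2) (-1) by simp),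
        hfun_pos, hfun_neg δ δ' h (-1) (-2) (by decide), zero_comp, add_zero, dmap_f₀, dmap_f₀,
        HomologicalComplex.double_d _ _ (by decide), hα]
      simp only [Category.assoc, Iso.inv_hom_id_assoc, Preadditive.add_comp,
        Preadditive.comp_add]
    · by_cases h1' : i = 0
      · subst h1'
        rw [dNext_eq (hfun δ δ' h) (show (ComplexShape.up ℤ).Rel 0 1 by simp),
          prevD_eq (hfun δ δ' h) (show (ComplexShape.up ℤ).Rel (-1) 0 by simp),
          hfun_pos, hfun_neg δ δ' h 1 0 (by decide), comp_zero, zero_add, dmap_f₁, dmap_f₁,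
          HomologicalComplex.double_d _ _ (by decide), hβ]
        simp only [Category.assoc, Iso.inv_hom_id_assoc, Preadditive.add_comp,
          Preadditive.comp_add]
      · exact (HomologicalComplex.isZero_double_X _ _ i h0 h1').eq_of_src _ _

end Dbl

section SameTop

variable {R S : Type u} [CommRing R] [CommRing S] [Algebra R S]
  {P Q T : Algebra.Extension.{u} R S}

theorem map_eq_dmap (f : P.Hom Q) :
    (NLCx.map f : dbl P.cotangentComplex ⟶ dbl Q.cotangentComplex) =
      dmap P.cotangentComplex Q.cotangentComplex (Algebra.Extension.Cotangent.map f)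
        (Algebra.Extension.CotangentSpace.map f)
        (fun x => (Algebra.Extension.CotangentSpace.map_cotangentComplex f x).symm) :=
  rfl

theorem map_comp (f : P.Hom Q) (g : Q.Hom T) :
    NLCx.map (g.comp f) = NLCx.map f ≫ NLCx.map g := by
  change dmap P.cotangentComplex T.cotangentComplex (Algebra.Extension.Cotangent.map (g.comp f))
      (Algebra.Extension.CotangentSpace.map (g.comp f))
      (fun x => (Algebra.Extension.CotangentSpace.map_cotangentComplex (g.comp f) x).symm) =
    dmap P.cotangentComplex Q.cotangentComplex (Algebra.Extension.Cotangent.map f)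
      (Algebra.Extension.CotangentSpace.map f)
      (fun x => (Algebra.Extension.CotangentSpace.map_cotangentComplex f x).symm) ≫
    dmap Q.cotangentComplex T.cotangentComplex (Algebra.Extension.Cotangent.map g)
      (Algebra.Extension.CotangentSpace.map g)
      (fun x => (Algebra.Extension.CotangentSpace.map_cotangentComplex g x).symm)
  rw [dmap_comp]
  refine dmap_congr _ _ (LinearMap.ext fun x => ?_) (LinearMap.ext fun x => ?_)
  · rw [Algebra.Extension.Cotangent.map_comp]
    rfl
  · rw [Algebra.Extension.CotangentSpace.map_comp]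
    rfl

theorem map_id : NLCx.map (Algebra.Extension.Hom.id P) = 𝟙 (NLCx.cx P) := by
  change dmap P.cotangentComplex P.cotangentComplex
      (Algebra.Extension.Cotangent.map (Algebra.Extension.Hom.id P))
      (Algebra.Extension.CotangentSpace.map (Algebra.Extension.Hom.id P))
      (fun x => (Algebra.Extension.CotangentSpace.map_cotangentComplex
        (Algebra.Extension.Hom.id P) x).symm) = 𝟙 (dbl P.cotangentComplex)
  rw [← dmap_id]
  exact dmap_congr _ _ Algebra.Extension.Cotangent.map_id Algebra.Extension.CotangentSpace.map_id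

/-- two morphisms of extensions of the same ring induce homotopic maps. -/
noncomputable def mapHomotopy (f g : P.Hom Q) : Homotopy (NLCx.map f) (NLCx.map g) :=
  dmapHomotopy P.cotangentComplex Q.cotangentComplex (Algebra.Extension.Cotangent.map f)
    (Algebra.Extension.CotangentSpace.map f)
    (fun x => (Algebra.Extension.CotangentSpace.map_cotangentComplex f x).symm)
    (Algebra.Extension.Cotangent.map g) (Algebra.Extension.CotangentSpace.map g)
    (fun x => (Algebra.Extension.CotangentSpace.map_cotangentComplex g x).symm)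
    (f.sub g)
    (fun x => by
      have := LinearMap.congr_fun (Algebra.Extension.Cotangent.map_sub_map f g) x
      rw [LinearMap.sub_apply, LinearMap.comp_apply] at this
      rw [← this, sub_add_cancel])
    (fun y => by
      have := LinearMap.congr_fun (Algebra.Extension.CotangentSpace.map_sub_map f g) y
      rw [LinearMap.sub_apply, LinearMap.comp_apply, LinearMap.restrictScalars_apply] at this
      rw [← this, sub_add_cancel])

end SameTop

section Square

variable {R S R' S' : Type u} [CommRing R] [CommRing S] [CommRing R'] [CommRing S']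
  [Algebra R S] [Algebra R' S'] [Algebra R R'] [Algebra S S'] [Algebra R S']
  [IsScalarTower R R' S'] [IsScalarTower R S S']
  {P : Algebra.Extension.{u} R S} {P' P'' : Algebra.Extension.{u} R' S'}

theorem WW_comp (w : P'.Hom P'') (f : P.Hom P') (z : S' ⊗[S] P.CotangentSpace) :
    WW (S' := S') (w.comp f) z = Algebra.Extension.CotangentSpace.map w (WW (S' := S') f z) := by
  induction z using TensorProduct.induction_on with
  | zero => simp only [map_zero]
  | tmul a m =>
    simp only [LinearMap.liftBaseChange_tmul, map_smul]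
    rw [Algebra.Extension.CotangentSpace.map_comp, LinearMap.comp_apply,
      LinearMap.restrictScalars_apply]
  | add z w' hz hw => simp only [map_add, hz, hw]

theorem bcMap_comp (w : P'.Hom P'') (f : P.Hom P') :
    NLCx.bcMap (S' := S') (w.comp f) = NLCx.bcMap (S' := S') f ≫ NLCx.map w := by
  change dmap (P.cotangentComplex.baseChange S') P''.cotangentComplex (TT (S' := S') (w.comp f))
      (WW (S' := S') (w.comp f)) (fun z => comm (w.comp f) z) =
    dmap (P.cotangentComplex.baseChange S') P'.cotangentComplex (TT (S' := S') f)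
      (WW (S' := S') f) (fun z => comm f z) ≫
    dmap P'.cotangentComplex P''.cotangentComplex (Algebra.Extension.Cotangent.map w)
      (Algebra.Extension.CotangentSpace.map w)
      (fun x => (Algebra.Extension.CotangentSpace.map_cotangentComplex w x).symm)
  rw [dmap_comp]
  exact dmap_congr _ _ (LinearMap.ext fun z => TT_comp w f z) (LinearMap.ext fun z => WW_comp w f z)

theorem isIso_bcMap (f : P.Hom P') (hT : Function.Bijective (TT (S' := S') f))
    (hW : Function.Bijective (WW (S' := S') f)) : IsIso (NLCx.bcMap (S' := S') f) := by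
  change IsIso (dmap (P.cotangentComplex.baseChange S') P'.cotangentComplex (TT (S' := S') f)
      (WW (S' := S') f) (fun z => comm f z))
  exact isIso_dmap _ _ _ _ _ hT hW

end Square

section Flat

variable {R S R' S' : Type u} [CommRing R] [CommRing S] [CommRing R'] [CommRing S']
  [Algebra R S] [Algebra R' S'] [Algebra R R'] [Algebra S S'] [Algebra R S']
  [IsScalarTower R R' S'] [IsScalarTower R S S'] [Algebra.IsPushout R R' S S'] [Module.Flat R R']
  {P : Algebra.Extension.{u} R S} {P' : Algebra.Extension.{u} R' S'}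

/-- the extended ideal in `R' ⊗ P`. -/
noncomputable abbrev I1 (P : Algebra.Extension.{u} R S) (R' : Type u) [CommRing R'] [Algebra R R'] :
    Ideal (R' ⊗[R] P.Ring) :=
  P.ker.map (Algebra.TensorProduct.includeRight.toRingHom : P.Ring →+* R' ⊗[R] P.Ring)

theorem toCotangent_congr (x y : P'.Ring) (hx : x ∈ P'.ker) (hy : y ∈ P'.ker) (hxy : x = y) :
    P'.ker.toCotangent ⟨x, hx⟩ = P'.ker.toCotangent ⟨y, hy⟩ := by
  subst hxy
  rfl

set_option backward.isDefEq.respectTransparency.types false in
/-- flat base change: the degree `-1` component is injective. -/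
theorem TT_injective_of_flat (f : P.Hom P') (ψ : R' ⊗[R] P.Ring ≃ₐ[R'] P'.Ring)
    (hψ : ∀ a : P.Ring, ψ (1 ⊗ₜ a) = f.toRingHom a)
    (hker : P'.ker ≤ Ideal.map f.toRingHom P.ker) :
    Function.Injective (TT (S' := S') f) := by
  have hfker : ∀ a ∈ P.ker, f.toRingHom a ∈ P'.ker := by
    intro a ha
    rw [Algebra.Extension.ker, RingHom.mem_ker] at ha ⊢
    rw [f.algebraMap_toRingHom, ha, map_zero]
  have h12 : I1 P R' ≤ P'.ker.comap ψ.toAlgHom := by
    rw [Ideal.map_le_iff_le_comap]
    intro a ha
    change ψ (1 ⊗ₜ a) ∈ P'.ker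
    rw [hψ]
    exact hfker a ha
  have h21 : P'.ker ≤ (I1 P R').comap ψ.symm.toAlgHom := by
    refine hker.trans ?_
    rw [Ideal.map_le_iff_le_comap]
    intro a ha
    change ψ.symm (f.toRingHom a) ∈ I1 P R'
    rw [← hψ, AlgEquiv.symm_apply_apply]
    exact Ideal.mem_map_of_mem _ ha
  let m₂ := Ideal.mapCotangent (R := R') (I1 P R') P'.ker ψ.toAlgHom h12
  let m₂' := Ideal.mapCotangent (R := R') P'.ker (I1 P R') ψ.symm.toAlgHom h21
  have hm₂ : ∀ y, m₂' (m₂ y) = y := by
    intro y
    obtain ⟨y, rfl⟩ := Ideal.toCotangent_surjective _ y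
    show Ideal.mapCotangent (R := R') P'.ker (I1 P R') ψ.symm.toAlgHom h21
      (Ideal.mapCotangent (R := R') (I1 P R') P'.ker ψ.toAlgHom h12 ((I1 P R').toCotangent y)) = _
    rw [Ideal.mapCotangent_toCotangent, Ideal.mapCotangent_toCotangent]
    congr 1
    exact Subtype.ext (ψ.symm_apply_apply y.1)
  let m₁ : R' ⊗[R] P.Cotangent ≃ₗ[R'] (I1 P R').Cotangent :=
    TensorProduct.AlgebraTensorModule.congr (LinearEquiv.refl R' R')
      (P.cotangentEquivCotangentKer.restrictScalars R) ≪≫ₗ P.ker.tensorCotangentEquiv R R'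
  let κ := Algebra.IsPushout.cancelBaseChange R R' S S' P.Cotangent
  have key : ∀ w : R' ⊗[R] P.Cotangent,
      (TT (S' := S') f (κ.symm w)).val = m₂ (m₁ w) := by
    intro w
    induction w using TensorProduct.induction_on with
    | zero => simp only [map_zero, Algebra.Extension.Cotangent.val_zero]
    | add x y hx hy => simp only [map_add, Algebra.Extension.Cotangent.val_add, hx, hy]
    | tmul t x =>
      obtain ⟨a, rfl⟩ := Algebra.Extension.Cotangent.mk_surjective x
      have e1 : κ.symm (t ⊗ₜ Algebra.Extension.Cotangent.mk a) =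
          algebraMap R' S' t ⊗ₜ Algebra.Extension.Cotangent.mk a :=
        Algebra.IsPushout.cancelBaseChange_symm_tmul R R' S S' P.Cotangent t _
      have e2 : m₁ (t ⊗ₜ Algebra.Extension.Cotangent.mk a) =
          t • (I1 P R').toCotangent ⟨1 ⊗ₜ a.1, Ideal.mem_map_of_mem _ a.2⟩ := by
        simp only [m₁, LinearEquiv.trans_apply, TensorProduct.AlgebraTensorModule.congr_tmul,
          LinearEquiv.refl_apply, LinearEquiv.restrictScalars_apply,
          Algebra.Extension.cotangentEquivCotangentKer_apply, Algebra.Extension.Cotangent.val_mk,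
          Ideal.tensorCotangentEquiv_tmul]
      rw [e1, e2, LinearMap.liftBaseChange_tmul, Algebra.Extension.Cotangent.map_mk,
        algebraMap_smul, Algebra.Extension.Cotangent.val_smul'',
        Algebra.Extension.Cotangent.val_mk, map_smul]
      show t • _ = t • Ideal.mapCotangent (R := R') (I1 P R') P'.ker ψ.toAlgHom h12
        ((I1 P R').toCotangent ⟨1 ⊗ₜ a.1, Ideal.mem_map_of_mem _ a.2⟩)
      rw [Ideal.mapCotangent_toCotangent]
      refine congrArg (fun z => t • z) ?_
      exact toCotangent_congr _ _ _ _ (hψ a.1).symm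
  rw [injective_iff_map_eq_zero]
  intro z hz
  have h1 := key (κ z)
  rw [LinearEquiv.symm_apply_apply, hz, Algebra.Extension.Cotangent.val_zero] at h1
  have h2 : m₁ (κ z) = 0 := by
    have h3 := congrArg m₂' h1.symm
    rw [hm₂, map_zero] at h3
    exact h3
  have h4 : κ z = 0 := m₁.injective (h2.trans (map_zero m₁).symm)
  exact κ.injective (h4.trans (map_zero κ).symm)

end Flat

section Gen

variable {R S R' S' : Type u} [CommRing R] [CommRing S] [CommRing R'] [CommRing S']
  [Algebra R S] [Algebra R' S'] [Algebra R R'] [Algebra S S'] [Algebra R S']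
  [IsScalarTower R R' S'] [IsScalarTower R S S'] [Algebra.IsPushout R R' S S'] [Module.Flat R R']
  {ι : Type u} (G : Algebra.Generators R S ι) (G' : Algebra.Generators R' S' ι)
  (h : ∀ i, G'.val i = algebraMap S S' (G.val i))

theorem sv_apply (p : MvPolynomial ι R) :
    (NLCx.sameVarsHom G G' h).toAlgHom p = MvPolynomial.map (algebraMap R R') p := by
  induction p using MvPolynomial.induction_on with
  | C a => rw [Algebra.Generators.Hom.toAlgHom_C, MvPolynomial.map_C]
  | add p q hp hq => rw [map_add, map_add, hp, hq]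
  | mul_X p i hp =>
    rw [map_mul, map_mul, hp, Algebra.Generators.Hom.toAlgHom_X, MvPolynomial.map_X]
    rfl

set_option backward.isDefEq.respectTransparency false in
theorem TT_injective_sv :
    Function.Injective (TT (S' := S') (NLCx.sameVarsHom G G' h).toExtensionHom) :=
  TT_injective_of_flat (NLCx.sameVarsHom G G' h).toExtensionHom
    (MvPolynomial.algebraTensorAlgEquiv R R')
    (fun a => (MvPolynomial.algebraTensorAlgEquiv_tmul R R' (1 : R') a).trans
      ((one_smul R' _).trans (sv_apply G G' h a).symm))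
    (ker_le_map G G' h)

theorem WW_bijective_sv :
    Function.Bijective (WW (S' := S') (NLCx.sameVarsHom G G' h).toExtensionHom) := by
  have hW : WW (S' := S') (NLCx.sameVarsHom G G' h).toExtensionHom =
      ((G.cotangentSpaceBasis.baseChange S').equiv G'.cotangentSpaceBasis
        (Equiv.refl ι)).toLinearMap := by
    refine (G.cotangentSpaceBasis.baseChange S').ext fun i => ?_
    rw [LinearEquiv.coe_coe, Module.Basis.equiv_apply, Equiv.refl_apply,
      Module.Basis.baseChange_apply, LinearMap.liftBaseChange_tmul, one_smul,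
      Algebra.Generators.cotangentSpaceBasis_apply, Algebra.Generators.cotangentSpaceBasis_apply]
    have key := Algebra.Extension.CotangentSpace.map_tmul
      (NLCx.sameVarsHom G G' h).toExtensionHom (1 : S) (MvPolynomial.X i)
    rw [map_one] at key
    have hX : (NLCx.sameVarsHom G G' h).toExtensionHom.toAlgHom (MvPolynomial.X i) =
        MvPolynomial.X i :=
      Algebra.Generators.Hom.toAlgHom_X (NLCx.sameVarsHom G G' h) i
    rw [hX] at key
    exact key
  rw [hW]
  exact ((G.cotangentSpaceBasis.baseChange S').equiv G'.cotangentSpaceBasis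
    (Equiv.refl ι)).bijective

theorem isIso_sv :
    IsIso (NLCx.bcMap (S' := S') (NLCx.sameVarsHom G G' h).toExtensionHom) :=
  isIso_bcMap _ ⟨TT_injective_sv G G' h, TT_surjective _ (ker_le_map G G' h)⟩
    (WW_bijective_sv G G' h)

end Gen

section Self

variable {R S R' S' : Type u} [CommRing R] [CommRing S] [CommRing R'] [CommRing S']
  [Algebra R S] [Algebra R' S'] [Algebra R R'] [Algebra S S'] [Algebra R S']
  [IsScalarTower R R' S'] [IsScalarTower R S S'] [Algebra.IsPushout R R' S S'] [Module.Flat R R']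

theorem d_eq (G'' : Algebra.Generators R' S' S)
    (hG'' : ∀ i, G''.val i = algebraMap S S' ((Algebra.Generators.self R S).val i)) :
    ((Algebra.Generators.self R S).defaultHom (Algebra.Generators.self R' S')).toExtensionHom =
      (G''.defaultHom (Algebra.Generators.self R' S')).toExtensionHom.comp
        (NLCx.sameVarsHom (Algebra.Generators.self R S) G'' hG'').toExtensionHom := by
  apply Algebra.Extension.Hom.ext
  refine MvPolynomial.ringHom_ext (fun r => ?_) (fun s => ?_)
  · change ((Algebra.Generators.self R S).defaultHom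
        (Algebra.Generators.self R' S')).toAlgHom (MvPolynomial.C r) =
      (G''.defaultHom (Algebra.Generators.self R' S')).toAlgHom
        ((NLCx.sameVarsHom (Algebra.Generators.self R S) G'' hG'').toAlgHom (MvPolynomial.C r))
    rw [Algebra.Generators.Hom.toAlgHom_C, Algebra.Generators.Hom.toAlgHom_C,
      Algebra.Generators.Hom.toAlgHom_C]
    rfl
  · change ((Algebra.Generators.self R S).defaultHom
        (Algebra.Generators.self R' S')).toAlgHom (MvPolynomial.X s) =
      (G''.defaultHom (Algebra.Generators.self R' S')).toAlgHom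
        ((NLCx.sameVarsHom (Algebra.Generators.self R S) G'' hG'').toAlgHom (MvPolynomial.X s))
    have e1 : (NLCx.sameVarsHom (Algebra.Generators.self R S) G'' hG'').toAlgHom
        (MvPolynomial.X s) = MvPolynomial.X s :=
      Algebra.Generators.Hom.toAlgHom_X _ s
    rw [e1, Algebra.Generators.Hom.toAlgHom_X, Algebra.Generators.Hom.toAlgHom_X]
    show (Algebra.Generators.self R' S').σ
        (algebraMap S S' ((Algebra.Generators.self R S).val s)) =
      (Algebra.Generators.self R' S').σ (algebraMap S' S' (G''.val s))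
    rw [hG'' s]
    rfl

theorem part2 (G'' : Algebra.Generators R' S' S)
    (hG'' : ∀ i, G''.val i = algebraMap S S' ((Algebra.Generators.self R S).val i)) :
    ∃ e : HomotopyEquiv (NLCx.bcCx (Algebra.Generators.self R S).toExtension S')
        (NLCx.cx (Algebra.Generators.self R' S').toExtension),
      e.hom = NLCx.bcMapSelf R S R' S' := by
  haveI ia : IsIso (NLCx.bcMap (S' := S')
      (NLCx.sameVarsHom (Algebra.Generators.self R S) G'' hG'').toExtensionHom) :=
    isIso_sv (Algebra.Generators.self R S) G'' hG''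
  have hd : NLCx.bcMap (S' := S')
      ((Algebra.Generators.self R S).defaultHom (Algebra.Generators.self R' S')).toExtensionHom =
      NLCx.bcMap (S' := S')
        (NLCx.sameVarsHom (Algebra.Generators.self R S) G'' hG'').toExtensionHom ≫
      NLCx.map (G''.defaultHom (Algebra.Generators.self R' S')).toExtensionHom := by
    rw [d_eq G'' hG'']
    exact bcMap_comp _ _
  have hUV : Homotopy
      (NLCx.map (G''.defaultHom (Algebra.Generators.self R' S')).toExtensionHom ≫
        NLCx.map ((Algebra.Generators.self R' S').defaultHom G'').toExtensionHom) (𝟙 _) :=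
    (Homotopy.ofEq (map_comp _ _).symm).trans
      ((mapHomotopy _ (Algebra.Extension.Hom.id _)).trans (Homotopy.ofEq map_id))
  have hVU : Homotopy
      (NLCx.map ((Algebra.Generators.self R' S').defaultHom G'').toExtensionHom ≫
        NLCx.map (G''.defaultHom (Algebra.Generators.self R' S')).toExtensionHom) (𝟙 _) :=
    (Homotopy.ofEq (map_comp _ _).symm).trans
      ((mapHomotopy _ (Algebra.Extension.Hom.id _)).trans (Homotopy.ofEq map_id))
  refine ⟨{ hom := NLCx.bcMap (S' := S') ((Algebra.Generators.self R S).defaultHom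
              (Algebra.Generators.self R' S')).toExtensionHom
            inv := NLCx.map ((Algebra.Generators.self R' S').defaultHom G'').toExtensionHom ≫
              inv (NLCx.bcMap (S' := S')
                (NLCx.sameVarsHom (Algebra.Generators.self R S) G'' hG'').toExtensionHom)
            homotopyHomInvId := ?_
            homotopyInvHomId := ?_ }, rfl⟩
  · rw [hd]
    exact (Homotopy.ofEq (by simp only [Category.assoc])).trans
      (((hUV.compRight (inv (NLCx.bcMap (S' := S')
          (NLCx.sameVarsHom (Algebra.Generators.self R S) G'' hG'').toExtensionHom))).compLeft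
        (NLCx.bcMap (S' := S')
          (NLCx.sameVarsHom (Algebra.Generators.self R S) G'' hG'').toExtensionHom)).trans
        (Homotopy.ofEq (by simp)))
  · rw [hd]
    exact (Homotopy.ofEq (by simp)).trans hVU

theorem main {ι : Type u} (G : Algebra.Generators R S ι) (G' : Algebra.Generators R' S' ι)
    (h : ∀ i, G'.val i = algebraMap S S' (G.val i)) :
    IsIso (NLCx.bcMap (S' := S') (NLCx.sameVarsHom G G' h).toExtensionHom) ∧
      ∃ e : HomotopyEquiv (NLCx.bcCx (Algebra.Generators.self R S).toExtension S')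
          (NLCx.cx (Algebra.Generators.self R' S').toExtension),
        e.hom = NLCx.bcMapSelf R S R' S' := by
  refine ⟨isIso_sv G G' h, ?_⟩
  obtain ⟨G'', hG''⟩ : ∃ G'' : Algebra.Generators R' S' S,
      ∀ i, G''.val i = algebraMap S S' ((Algebra.Generators.self R S).val i) :=
    ⟨Algebra.Generators.ofSurjective
      (fun i => algebraMap S S' ((Algebra.Generators.self R S).val i))
      (aeval_bc_surjective (Algebra.Generators.self R S)), fun _ => rfl⟩
  exact part2 G'' hG''

end Self

end Groth.Agent.H1.NLFlat
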