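import Mathlib
import Groth.Agent.Lib.Helper6.DepthOne

/-! Algebraic core for divisors on integral schemes: rational functions and depth-one primes. -/

universe u

namespace Groth.Agent.H1.CDivAlg

open Groth.Agent.H6

variable {A : Type u} [CommRing A] [IsDomain A] [IsNoetherianRing A]
  {K : Type u} [Field K] [Algebra A K] [IsFractionRing A K]

/-- `x ∈ A_p` inside `K`, expressed with denominators -/
def InLoc (x : K) (p : Ideal A) : Prop :=
  ∃ s : A, s ∉ p ∧ ∃ a : A, x * algebraMap A K s = algebraMap A K a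

omit [IsNoetherianRing A] in
theorem InLoc.mono {x : K} {p q : Ideal A} (h : InLoc x p) (hqp : q ≤ p) : InLoc x q := by
  obtain ⟨s, hs, a, ha⟩ := h
  exact ⟨s, fun hsq => hs (hqp hsq), a, ha⟩

/-- If `x ∉ A_p` then there is a prime `P ⊆ p` with `depth A_P = 1` and `x ∉ A_P`. -/
theorem exists_depth_one_prime (x : K) (p : Ideal A) [p.IsPrime] (hx : ¬ InLoc x p) :
    ∃ P : Ideal A, ∃ _ : P.IsPrime, P ≤ p ∧
      LocCoh.depth (Localization.AtPrime P) (Localization.AtPrime P) = 1 ∧ ¬ InLoc x P := by
  classical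
  obtain ⟨a, ⟨b, hb⟩, rfl⟩ := IsLocalization.exists_mk'_eq (nonZeroDivisors A) x
  have hb0 : b ≠ 0 := nonZeroDivisors.ne_zero hb
  have hinj : Function.Injective (algebraMap A K) := IsFractionRing.injective A K
  -- the denominator ideal
  have hden : ∀ s : A, (∃ a' : A, IsLocalization.mk' K a (⟨b, hb⟩ : nonZeroDivisors A) *
      algebraMap A K s = algebraMap A K a') ↔
      s • (Ideal.Quotient.mk (Ideal.span {b}) a) = 0 := by
    intro s
    rw [Algebra.smul_def, Ideal.Quotient.algebraMap_eq, ← map_mul, Ideal.Quotient.eq_zero_iff_mem,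
      Ideal.mem_span_singleton']
    constructor
    · rintro ⟨a', ha'⟩
      refine ⟨a', hinj ?_⟩
      have h1 : IsLocalization.mk' K a (⟨b, hb⟩ : nonZeroDivisors A) * algebraMap A K b =
          algebraMap A K a := IsLocalization.mk'_spec K a ⟨b, hb⟩
      rw [map_mul, map_mul, ← ha', ← h1]
      ring
    · rintro ⟨c, hc⟩
      refine ⟨c, ?_⟩
      have h1 : IsLocalization.mk' K a (⟨b, hb⟩ : nonZeroDivisors A) * algebraMap A K b =
          algebraMap A K a := IsLocalization.mk'_spec K a ⟨b, hb⟩
      have hbK : algebraMap A K b ≠ 0 := fun h0 => hb0 (hinj (h0.trans (map_zero _).symm))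
      apply mul_right_cancel₀ hbK
      rw [← map_mul, hc, map_mul, ← h1]
      ring
  let abar : A ⧸ Ideal.span {b} := Ideal.Quotient.mk (Ideal.span {b}) a
  let N : Submodule A (A ⧸ Ideal.span {b}) := Submodule.span A {abar}
  have hann : Module.annihilator A N ≤ p := by
    intro s hs
    by_contra hsp
    apply hx
    refine ⟨s, hsp, ?_⟩
    rw [hden]
    have := (Submodule.mem_annihilator_span_singleton abar s).mp hs
    exact this
  obtain ⟨P, hPmin, hPp⟩ := Ideal.exists_minimalPrimes_le hann
  haveI : Module.Finite A N := Module.Finite.span_singleton A abar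
  have hPass : P ∈ associatedPrimes A N :=
    Module.associatedPrimes.minimalPrimes_annihilator_subset_associatedPrimes A N hPmin
  have hPass' : P ∈ associatedPrimes A (A ⧸ Ideal.span {b}) :=
    associatedPrimes.subset_of_injective (f := N.subtype) N.injective_subtype hPass
  haveI : P.IsPrime := hPmin.1.1
  have hreg : IsSMulRegular A b := fun x y hxy => mul_left_cancel₀ hb0 hxy
  refine ⟨P, inferInstance, hPp, DepthOne.depth_eq_one_of_mem_associatedPrimes b hreg P hPass', ?_⟩
  rintro ⟨s, hsP, ha'⟩
  apply hsP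
  apply hPmin.1.2
  rw [Submodule.mem_annihilator_span_singleton]
  exact (hden s).mp ha'

/-- an element lying in `A_P` for all primes with `depth A_P = 1` lies in `A`. -/
theorem mem_range_of_forall_depth_one (x : K)
    (hx : ∀ (P : Ideal A) [P.IsPrime],
      LocCoh.depth (Localization.AtPrime P) (Localization.AtPrime P) = 1 → InLoc x P)
    (p : Ideal A) [p.IsPrime] : InLoc x p := by
  by_contra hcon
  obtain ⟨P, hP, -, hd, hnot⟩ := exists_depth_one_prime x p hcon
  exact hnot (hx P hd)

/-- If `x ∉ A_p` then there is a prime `P ⊆ p`, associated to a nonzero principal ideal, with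
`x ∉ A_P`. -/
theorem exists_assoc_prime (x : K) (p : Ideal A) [p.IsPrime] (hx : ¬ InLoc x p) :
    ∃ (b : A) (_ : b ≠ 0) (P : Ideal A) (_ : P.IsPrime), P ≤ p ∧
      P ∈ associatedPrimes A (A ⧸ Ideal.span {b}) ∧ ¬ InLoc x P := by
  classical
  obtain ⟨a, ⟨b, hb⟩, rfl⟩ := IsLocalization.exists_mk'_eq (nonZeroDivisors A) x
  have hb0 : b ≠ 0 := nonZeroDivisors.ne_zero hb
  have hinj : Function.Injective (algebraMap A K) := IsFractionRing.injective A K
  -- the denominator ideal
  have hden : ∀ s : A, (∃ a' : A, IsLocalization.mk' K a (⟨b, hb⟩ : nonZeroDivisors A) *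
      algebraMap A K s = algebraMap A K a') ↔
      s • (Ideal.Quotient.mk (Ideal.span {b}) a) = 0 := by
    intro s
    rw [Algebra.smul_def, Ideal.Quotient.algebraMap_eq, ← map_mul, Ideal.Quotient.eq_zero_iff_mem,
      Ideal.mem_span_singleton']
    constructor
    · rintro ⟨a', ha'⟩
      refine ⟨a', hinj ?_⟩
      have h1 : IsLocalization.mk' K a (⟨b, hb⟩ : nonZeroDivisors A) * algebraMap A K b =
          algebraMap A K a := IsLocalization.mk'_spec K a ⟨b, hb⟩
      rw [map_mul, map_mul, ← ha', ← h1]
      ring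
    · rintro ⟨c, hc⟩
      refine ⟨c, ?_⟩
      have h1 : IsLocalization.mk' K a (⟨b, hb⟩ : nonZeroDivisors A) * algebraMap A K b =
          algebraMap A K a := IsLocalization.mk'_spec K a ⟨b, hb⟩
      have hbK : algebraMap A K b ≠ 0 := fun h0 => hb0 (hinj (h0.trans (map_zero _).symm))
      apply mul_right_cancel₀ hbK
      rw [← map_mul, hc, map_mul, ← h1]
      ring
  let abar : A ⧸ Ideal.span {b} := Ideal.Quotient.mk (Ideal.span {b}) a
  let N : Submodule A (A ⧸ Ideal.span {b}) := Submodule.span A {abar}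
  have hann : Module.annihilator A N ≤ p := by
    intro s hs
    by_contra hsp
    apply hx
    refine ⟨s, hsp, ?_⟩
    rw [hden]
    have := (Submodule.mem_annihilator_span_singleton abar s).mp hs
    exact this
  obtain ⟨P, hPmin, hPp⟩ := Ideal.exists_minimalPrimes_le hann
  haveI : Module.Finite A N := Module.Finite.span_singleton A abar
  have hPass : P ∈ associatedPrimes A N :=
    Module.associatedPrimes.minimalPrimes_annihilator_subset_associatedPrimes A N hPmin
  have hPass' : P ∈ associatedPrimes A (A ⧸ Ideal.span {b}) :=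
    associatedPrimes.subset_of_injective (f := N.subtype) N.injective_subtype hPass
  haveI : P.IsPrime := hPmin.1.1
  refine ⟨b, hb0, P, inferInstance, hPp, hPass', ?_⟩
  rintro ⟨s, hsP, ha'⟩
  apply hsP
  apply hPmin.1.2
  rw [Submodule.mem_annihilator_span_singleton]
  exact (hden s).mp ha'


end Groth.Agent.H1.CDivAlg
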