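import Mathlib
import Groth.Prelude.Def_CDiv
import Groth.Agent.Lib.Helper1.CDivAlg

/-! Basic dictionary for divisors on integral schemes (`CDiv`). -/

universe u
set_option linter.style.haveILetI false
open CategoryTheory AlgebraicGeometry TopologicalSpace Opposite

namespace Groth.Agent.H1.CDivKit

open CDiv

variable {X : Scheme.{u}} [IsIntegral X]

/-- the local ring at `x` as a subring of the function field -/
noncomputable def O (x : X) : Subring X.functionField :=
  (algebraMap (X.presheaf.stalk x) X.functionField).range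

theorem algebraMap_injective (x : X) :
    Function.Injective (algebraMap (X.presheaf.stalk x) X.functionField) :=
  IsFractionRing.injective _ _

theorem mem_stalkUnits_iff (x : X) (f : KUnits X) :
    f ∈ stalkUnits X x ↔
      (f : X.functionField) ∈ O x ∧ ((f⁻¹ : KUnits X) : X.functionField) ∈ O x := by
  constructor
  · rintro ⟨u, rfl⟩
    exact ⟨⟨u.1, rfl⟩, ⟨(u⁻¹ : (X.presheaf.stalk x)ˣ).1, by rw [← map_inv]; rfl⟩⟩
  · rintro ⟨⟨a, ha⟩, ⟨b, hb⟩⟩
    have hab : a * b = 1 := by
      apply algebraMap_injective x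
      rw [map_mul, ha, hb, map_one, ← Units.val_mul, mul_inv_cancel, Units.val_one]
    refine ⟨⟨a, b, hab, by rw [mul_comm]; exact hab⟩, ?_⟩
    apply Units.ext
    exact ha

theorem germOf_eq_one_iff (x : X) (f : KUnits X) :
    germOf X x f = 1 ↔ f ∈ stalkUnits X x :=
  QuotientGroup.eq_one_iff f

theorem germOf_eq_germOf_iff (x : X) (f g : KUnits X) :
    germOf X x f = germOf X x g ↔ f⁻¹ * g ∈ stalkUnits X x :=
  QuotientGroup.eq

theorem isEffectiveAt_iff (D : Divisor X) (x : X) (f : KUnits X) (h : D.1 x = germOf X x f) :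
    IsEffectiveAt D x ↔ (f : X.functionField) ∈ O x := by
  constructor
  · rintro ⟨a, ha, hD⟩
    rw [h, germOf_eq_germOf_iff] at hD
    obtain ⟨u, hu⟩ := hD
    have h1 : algebraMap (X.presheaf.stalk x) X.functionField u.1 =
        ((f⁻¹ * Units.mk0 _ ha : KUnits X) : X.functionField) := congrArg Units.val hu
    rw [Units.val_mul, Units.val_mk0] at h1
    refine ⟨a * (u⁻¹ : (X.presheaf.stalk x)ˣ).1, ?_⟩
    have h2 : algebraMap (X.presheaf.stalk x) X.functionField u.1 *
        algebraMap (X.presheaf.stalk x) X.functionField (u⁻¹ : (X.presheaf.stalk x)ˣ).1 = 1 := by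
      rw [← map_mul, ← Units.val_mul, mul_inv_cancel, Units.val_one, map_one]
    have hf0 : (f : X.functionField) ≠ 0 := f.ne_zero
    have h3 : (f : X.functionField) * ((f⁻¹ : KUnits X) : X.functionField) = 1 := by
      rw [← Units.val_mul, mul_inv_cancel, Units.val_one]
    calc algebraMap (X.presheaf.stalk x) X.functionField (a * (u⁻¹ : (X.presheaf.stalk x)ˣ).1)
        = (f : X.functionField) * ((f⁻¹ : KUnits X) : X.functionField) *
            algebraMap (X.presheaf.stalk x) X.functionField a *
            algebraMap (X.presheaf.stalk x) X.functionField (u⁻¹ : (X.presheaf.stalk x)ˣ).1 := by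
          rw [h3, one_mul, map_mul]
      _ = (f : X.functionField) * (algebraMap (X.presheaf.stalk x) X.functionField u.1 *
            algebraMap (X.presheaf.stalk x) X.functionField (u⁻¹ : (X.presheaf.stalk x)ˣ).1) := by
          rw [h1]; ring
      _ = f := by rw [h2, mul_one]
  · rintro ⟨a, ha⟩
    have ha0 : algebraMap (X.presheaf.stalk x) X.functionField a ≠ 0 := by
      rw [ha]; exact f.ne_zero
    refine ⟨a, ha0, ?_⟩
    rw [h]
    congr 1
    apply Units.ext
    exact ha.symm

theorem isEffectiveAt_of_eq_one (D : Divisor X) (x : X) (h : D.1 x = 1) : IsEffectiveAt D x := by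
  have h1 : D.1 x = germOf X x 1 := by rw [h]; rfl
  rw [isEffectiveAt_iff D x 1 h1]
  exact ⟨1, by simp⟩

/-- the local description of a divisor -/
theorem exists_local (D : Divisor X) (x : X) :
    ∃ (U : X.Opens) (f : KUnits X), x ∈ U ∧ ∀ y : X, y ∈ U → D.1 y = germOf X y f := D.2 x

theorem mem_supp_iff (D : Divisor X) (x : X) (f : KUnits X) (h : D.1 x = germOf X x f) :
    x ∈ supp D ↔ ¬ ((f : X.functionField) ∈ O x ∧ ((f⁻¹ : KUnits X) : X.functionField) ∈ O x) := by
  change D.1 x ≠ 1 ↔ _
  rw [h, Ne, germOf_eq_one_iff, mem_stalkUnits_iff]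

/-- `O x ≤ O y` when `y` generizes `x` -/
theorem O_le_of_specializes {x y : X} (h : y ⤳ x) : O x ≤ O y := by
  rintro _ ⟨a, rfl⟩
  refine ⟨X.presheaf.stalkSpecializes h a, ?_⟩
  have h1 : X.presheaf.stalkSpecializes h ≫
      X.presheaf.stalkSpecializes ((genericPoint_spec X).specializes trivial) =
      X.presheaf.stalkSpecializes ((genericPoint_spec X).specializes trivial) :=
    X.presheaf.stalkSpecializes_comp _ _
  exact congr($h1 a)

section Chart

variable {V : X.Opens} (hV : IsAffineOpen V) [Nonempty V]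

include hV in
theorem mem_O_iff_inLoc (y : X) (hy : y ∈ V) (f : X.functionField) :
    f ∈ O y ↔ CDivAlg.InLoc (A := Γ(X, V)) f (hV.primeIdealOf ⟨y, hy⟩).asIdeal := by
  letI : Algebra Γ(X, V) (X.presheaf.stalk y) := X.presheaf.algebra_section_stalk ⟨y, hy⟩
  haveI := hV.isLocalization_stalk ⟨y, hy⟩
  haveI : IsScalarTower Γ(X, V) (X.presheaf.stalk y) X.functionField :=
    functionField_isScalarTower X V ⟨y, hy⟩
  haveI : IsFractionRing Γ(X, V) X.functionField :=
    functionField_isFractionRing_of_isAffineOpen X V hV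
  constructor
  · rintro ⟨t, rfl⟩
    obtain ⟨a, s, rfl⟩ := IsLocalization.exists_mk'_eq
      (hV.primeIdealOf ⟨y, hy⟩).asIdeal.primeCompl t
    refine ⟨s.1, s.2, a, ?_⟩
    rw [IsScalarTower.algebraMap_apply Γ(X, V) (X.presheaf.stalk y) X.functionField,
      IsScalarTower.algebraMap_apply Γ(X, V) (X.presheaf.stalk y) X.functionField, ← map_mul,
      IsLocalization.mk'_spec]
  · rintro ⟨s, hs, a, ha⟩
    refine ⟨IsLocalization.mk' (X.presheaf.stalk y) a
      (⟨s, hs⟩ : (hV.primeIdealOf ⟨y, hy⟩).asIdeal.primeCompl), ?_⟩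
    have hs0 : algebraMap Γ(X, V) X.functionField s ≠ 0 := by
      intro h0
      have : s = 0 := (IsFractionRing.injective Γ(X, V) X.functionField)
        (h0.trans (map_zero _).symm)
      exact hs (this ▸ Ideal.zero_mem _)
    apply mul_right_cancel₀ hs0
    rw [ha]
    rw [IsScalarTower.algebraMap_apply Γ(X, V) (X.presheaf.stalk y) X.functionField s, ← map_mul]
    have := IsLocalization.mk'_spec (X.presheaf.stalk y) a
      (⟨s, hs⟩ : (hV.primeIdealOf ⟨y, hy⟩).asIdeal.primeCompl)
    rw [this, ← IsScalarTower.algebraMap_apply]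

end Chart

end Groth.Agent.H1.CDivKit
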