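import Mathlib
import Groth.Agent.Lib.Helper1.CDivKit
import Groth.Agent.Lib.Helper1.Depth2Ext2
import Groth.Agent.Lib.Helper6.DepthOne

/-! Divisors on integral locally Noetherian schemes: depth-one points. -/

universe u
set_option linter.style.haveILetI false
open CategoryTheory AlgebraicGeometry TopologicalSpace Opposite

namespace Groth.Agent.H1.CDivKit

open CDiv Groth.Agent.H6

variable {X : Scheme.{u}} [IsIntegral X] [IsLocallyNoetherian X]

theorem primeIdealOf_fromSpec {U : X.Opens} (hU : IsAffineOpen U) (P : Spec Γ(X, U))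
    (h : hU.fromSpec P ∈ U) : hU.primeIdealOf ⟨hU.fromSpec P, h⟩ = P := by
  apply hU.fromSpec.isOpenEmbedding.injective
  rw [hU.fromSpec_primeIdealOf]

theorem fromSpec_mem {U : X.Opens} (hU : IsAffineOpen U) (P : Spec Γ(X, U)) :
    hU.fromSpec P ∈ U := by
  have : hU.fromSpec P ∈ hU.fromSpec.opensRange := ⟨P, rfl⟩
  rwa [hU.opensRange_fromSpec] at this

/-- depth of the local ring at a point of an affine open, via the localization -/
theorem depth_stalk_eq_localization {V : X.Opens} (hV : IsAffineOpen V) (P : PrimeSpectrum Γ(X, V)) :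
    LocCoh.depth (X.presheaf.stalk (hV.fromSpec P)) (X.presheaf.stalk (hV.fromSpec P)) =
      LocCoh.depth (Localization.AtPrime P.asIdeal) (Localization.AtPrime P.asIdeal) := by
  haveI : IsNoetherianRing Γ(X, V) := IsLocallyNoetherian.component_noetherian ⟨V, hV⟩
  rw [Depth2Ext.depth_stalk_eq hV P (fromSpec_mem hV P), DepthOne.depth_self_eq]

/-- core statement in a chart: a rational function lying in `O_y` for all depth-one points `y` of an
affine open `V` lies in `O_x` for all `x ∈ V`. -/
theorem mem_O_of_forall_depth_one {V : X.Opens} (hV : IsAffineOpen V) (f : X.functionField)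
    (h : ∀ y : X, y ∈ V →
      LocCoh.depth (X.presheaf.stalk y) (X.presheaf.stalk y) = 1 → f ∈ O y)
    (x : X) (hx : x ∈ V) : f ∈ O x := by
  haveI : Nonempty V := ⟨⟨x, hx⟩⟩
  haveI : IsNoetherianRing Γ(X, V) := IsLocallyNoetherian.component_noetherian ⟨V, hV⟩
  haveI : IsFractionRing Γ(X, V) X.functionField :=
    functionField_isFractionRing_of_isAffineOpen X V hV
  rw [mem_O_iff_inLoc hV x hx]
  apply CDivAlg.mem_range_of_forall_depth_one
  intro P hP hd
  let P' : PrimeSpectrum Γ(X, V) := ⟨P, hP⟩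
  have h1 := h (hV.fromSpec P') (fromSpec_mem hV P') (by
    rw [depth_stalk_eq_localization hV P']; exact hd)
  rw [mem_O_iff_inLoc hV _ (fromSpec_mem hV P'), primeIdealOf_fromSpec hV P'] at h1
  exact h1

/-- affine neighbourhoods inside a given open -/
theorem exists_affine_nbhd (U : X.Opens) (x : X) (hx : x ∈ U) :
    ∃ V : X.Opens, IsAffineOpen V ∧ x ∈ V ∧ V ≤ U := by
  obtain ⟨_, ⟨V, hV, rfl⟩, hxV, hVU⟩ := X.isBasis_affineOpens.exists_subset_of_mem_open
    hx U.isOpen
  exact ⟨V, hV, hxV, hVU⟩

end Groth.Agent.H1.CDivKit
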