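import Mathlib
import Groth.Prelude.Def_Pi1
import Groth.Agent.Lib.Helper1.CDivKit2
import Groth.Agent.Lib.Helper6.SerreNormal

/-! Divisors on normal integral locally Noetherian schemes: codimension-one points. -/

universe u
set_option linter.style.haveILetI false
open CategoryTheory AlgebraicGeometry TopologicalSpace Opposite

namespace Groth.Agent.H1.CDivKit

open CDiv Groth.Agent.H6

variable {X : Scheme.{u}} [IsIntegral X] [IsLocallyNoetherian X]

theorem isIntegrallyClosed_sections (hX : Pi1.IsNormalScheme X) {V : X.Opens}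
    (hV : IsAffineOpen V) [Nonempty V] : IsIntegrallyClosed Γ(X, V) := by
  apply IsIntegrallyClosed.of_localization_maximal
  intro P _ hP
  let P' : PrimeSpectrum Γ(X, V) := ⟨P, hP.isPrime⟩
  have hy : hV.fromSpec P' ∈ V := fromSpec_mem hV P'
  letI : Algebra Γ(X, V) (X.presheaf.stalk (hV.fromSpec P')) :=
    X.presheaf.algebra_section_stalk ⟨hV.fromSpec P', hy⟩
  haveI : IsLocalization.AtPrime (X.presheaf.stalk (hV.fromSpec P')) P :=
    hV.isLocalization_stalk' P' hy
  haveI : IsIntegrallyClosed (X.presheaf.stalk (hV.fromSpec P')) := (hX _).2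
  exact IsIntegrallyClosed.of_equiv
    (IsLocalization.algEquiv P.primeCompl (X.presheaf.stalk (hV.fromSpec P'))
      (Localization.AtPrime P)).toRingEquiv

omit [IsIntegral X] [IsLocallyNoetherian X] in
theorem height_primeIdealOf {V : X.Opens} (hV : IsAffineOpen V) (y : X) (hy : y ∈ V) :
    (hV.primeIdealOf ⟨y, hy⟩).asIdeal.height = Order.coheight y := by
  letI : Algebra Γ(X, V) (X.presheaf.stalk y) := X.presheaf.algebra_section_stalk ⟨y, hy⟩
  haveI := hV.isLocalization_stalk ⟨y, hy⟩
  have h1 := IsLocalization.AtPrime.ringKrullDim_eq_height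
    (hV.primeIdealOf ⟨y, hy⟩).asIdeal (X.presheaf.stalk y)
  rw [ringKrullDim_stalk_eq_coheight] at h1
  exact_mod_cast h1.symm

/-- in a normal chart, a rational function lying in `O_y` for all codimension-one points `y` lies
in every `O_x`. -/
theorem mem_O_of_forall_coheight_one (hX : Pi1.IsNormalScheme X) {V : X.Opens}
    (hV : IsAffineOpen V) (f : X.functionField)
    (h : ∀ y : X, y ∈ V → Order.coheight y = 1 → f ∈ O y) (x : X) (hx : x ∈ V) : f ∈ O x := by
  haveI : Nonempty V := ⟨⟨x, hx⟩⟩
  haveI : IsNoetherianRing Γ(X, V) := IsLocallyNoetherian.component_noetherian ⟨V, hV⟩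
  haveI : IsFractionRing Γ(X, V) X.functionField :=
    functionField_isFractionRing_of_isAffineOpen X V hV
  haveI := isIntegrallyClosed_sections hX hV
  rw [mem_O_iff_inLoc hV x hx]
  by_contra hcon
  obtain ⟨b, hb0, P, hP, -, hPass, hnot⟩ := CDivAlg.exists_assoc_prime f
    (hV.primeIdealOf ⟨x, hx⟩).asIdeal hcon
  have hht := SerreNormal.height_eq_one_of_mem_associatedPrimes Γ(X, V) b hb0 P hPass
  let P' : PrimeSpectrum Γ(X, V) := ⟨P, hP⟩
  have hyV := fromSpec_mem hV P'
  have hco : Order.coheight (hV.fromSpec P') = 1 := by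
    rw [← height_primeIdealOf hV _ hyV, primeIdealOf_fromSpec hV P']
    exact hht
  have h1 := h _ hyV hco
  rw [mem_O_iff_inLoc hV _ hyV, primeIdealOf_fromSpec hV P'] at h1
  exact hnot h1

theorem isDVR_stalk (hX : Pi1.IsNormalScheme X) (y : X) (hy : Order.coheight y = 1) :
    IsDiscreteValuationRing (X.presheaf.stalk y) := by
  haveI : IsIntegrallyClosed (X.presheaf.stalk y) := (hX y).2
  have hdim : ringKrullDim (X.presheaf.stalk y) = 1 := by
    rw [ringKrullDim_stalk_eq_coheight, hy]; rfl
  have hht : (IsLocalRing.maximalIdeal (X.presheaf.stalk y)).height ≤ 1 := by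
    have h1 := IsLocalRing.maximalIdeal_height_eq_ringKrullDim (R := X.presheaf.stalk y)
    rw [hdim] at h1
    have : (IsLocalRing.maximalIdeal (X.presheaf.stalk y)).height = 1 := by exact_mod_cast h1
    rw [this]
  haveI := SerreNormal.isPrincipalIdealRing_of_normal (X.presheaf.stalk y) hht
  refine { not_a_field' := ?_ }
  intro hbot
  have hfield : IsField (X.presheaf.stalk y) := IsLocalRing.isField_iff_maximalIdeal_eq.mpr hbot
  have h0 : ringKrullDim (X.presheaf.stalk y) = 0 := ringKrullDim_eq_zero_of_isField hfield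
  rw [hdim] at h0
  exact one_ne_zero h0


theorem mem_O_iff_ord_nonneg (hX : Pi1.IsNormalScheme X) (y : X) (hy : Order.coheight y = 1)
    (f : KUnits X) : (f : X.functionField) ∈ O y ↔ 0 ≤ Scheme.ord (f : X.functionField) y := by
  haveI := isDVR_stalk hX y hy
  have hf0 : (f : X.functionField) ≠ 0 := f.ne_zero
  rw [Scheme.le_ord_iff hy hf0]
  have h1 : ((Multiplicative.ofAdd (0 : ℤ) : Multiplicative ℤ) : WithZero (Multiplicative ℤ)) = 1 :=
    rfl
  rw [h1]
  change _ ↔ 1 ≤ Ring.ordFrac (X.presheaf.stalk y) (f : X.functionField)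
  constructor
  · rintro ⟨b, hb⟩
    have hb0 : b ≠ 0 := by
      rintro rfl
      rw [map_zero] at hb
      exact hf0 hb.symm
    rw [← hb]
    exact Ring.ordFrac_ge_one_of_ne_zero hb0
  · intro h
    rw [Ring.ordFrac_eq_valuation_inv] at h
    have hv0 : (IsDiscreteValuationRing.maximalIdeal (X.presheaf.stalk y)).valuation
        X.functionField (f : X.functionField) ≠ 0 := by
      rw [Ne, Valuation.zero_iff]; exact hf0
    have hvpos : 0 < (IsDiscreteValuationRing.maximalIdeal (X.presheaf.stalk y)).valuation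
        X.functionField (f : X.functionField) := zero_lt_iff.mpr hv0
    have h2 := (one_le_inv₀ hvpos).mp h
    obtain ⟨a, ha⟩ := IsDiscreteValuationRing.exists_lift_of_le_one h2
    exact ⟨a, ha⟩

theorem germOf_eq_one_iff_ord_eq_zero (hX : Pi1.IsNormalScheme X) (y : X)
    (hy : Order.coheight y = 1) (f : KUnits X) :
    germOf X y f = 1 ↔ Scheme.ord (f : X.functionField) y = 0 := by
  haveI := isDVR_stalk hX y hy
  have hf0 : (f : X.functionField) ≠ 0 := f.ne_zero
  rw [Scheme.ord_eq_iff hy hf0, germOf_eq_one_iff]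
  have h1 : ((Multiplicative.ofAdd (0 : ℤ) : Multiplicative ℤ) : WithZero (Multiplicative ℤ)) = 1 :=
    rfl
  rw [h1]
  change _ ↔ Ring.ordFrac (X.presheaf.stalk y) (f : X.functionField) = 1
  have h2 := Ring.mker_ordFrac_eq_isUnitSubmonoid (R := X.presheaf.stalk y)
    (K := X.functionField)
  have h3 : Ring.ordFrac (X.presheaf.stalk y) (f : X.functionField) = 1 ↔
      (f : X.functionField) ∈ MonoidHom.mker (Ring.ordFrac (X.presheaf.stalk y)
        (K := X.functionField)) := Iff.rfl
  rw [h3, h2]
  constructor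
  · rintro ⟨u, rfl⟩
    exact ⟨u.1, u.isUnit, rfl⟩
  · rintro ⟨a, ha, haf⟩
    have ha' : IsUnit a := ha
    refine ⟨ha'.unit, ?_⟩
    apply Units.ext
    exact haf

end Groth.Agent.H1.CDivKit
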