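import Mathlib
import Groth.Prelude.Def_Pi1
import Groth.Prelude.Def_ega3
import Groth.Agent.Lib.Helper1.CDivKit5

/-! `O_Y → f_* O_X` is an isomorphism for a proper dominant morphism to a normal scheme with
function field algebraically closed in that of the source. -/

universe u
set_option linter.style.haveILetI false
open CategoryTheory AlgebraicGeometry TopologicalSpace Opposite

namespace Groth.Agent.H1.PushO

variable {X Y : Scheme.{u}} [IsIntegral X] [IsIntegral Y] (f : X ⟶ Y)
  (hdom : f.base (genericPoint X) ⤳ genericPoint Y)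

include hdom in
theorem genericPoint_mem_preimage (V : Y.Opens) (hV : genericPoint Y ∈ V) :
    genericPoint X ∈ f ⁻¹ᵁ V := hdom.mem_open V.isOpen hV

theorem stalkToFunctionField_germ (V : Y.Opens) (hV : genericPoint Y ∈ V) (a : Γ(Y, V)) :
    CohIII.stalkToFunctionField f (genericPoint Y) hdom (Y.presheaf.germ V (genericPoint Y) hV a) =
      X.presheaf.germ (f ⁻¹ᵁ V) (genericPoint X) (genericPoint_mem_preimage f hdom V hV)
        (f.app V a) := by
  have hfV : f (genericPoint X) ∈ V := genericPoint_mem_preimage f hdom V hV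
  change (f.stalkMap (genericPoint X)).hom ((Y.presheaf.stalkSpecializes hdom).hom
    (Y.presheaf.germ V (genericPoint Y) hV a)) = _
  have h1 : (Y.presheaf.stalkSpecializes hdom).hom (Y.presheaf.germ V (genericPoint Y) hV a) =
      Y.presheaf.germ V (f (genericPoint X)) hfV a := by
    have := TopCat.Presheaf.germ_stalkSpecializes (F := Y.presheaf) (U := V) hV hdom
    exact congr($(this).hom a)
  rw [h1]
  have := Scheme.Hom.germ_stalkMap f V (genericPoint X) hfV
  exact congr($(this).hom a)

/-- by the valuative criterion, a section over `f⁻¹ V` (`V` affine) lies in every valuation ring of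
`K(X)` containing the image of `Γ(Y, V)`. -/
theorem germ_mem_valuationSubring [UniversallyClosed f] (V : Y.Opens) (hVaff : IsAffineOpen V)
    (hV : genericPoint Y ∈ V) (s : Γ(X, f ⁻¹ᵁ V)) (W : ValuationSubring X.functionField)
    (hW : ∀ a : Γ(Y, V), CohIII.stalkToFunctionField f (genericPoint Y) hdom
      (Y.presheaf.germ V (genericPoint Y) hV a) ∈ W) :
    X.presheaf.germ (f ⁻¹ᵁ V) (genericPoint X) (genericPoint_mem_preimage f hdom V hV) s ∈ W := by
  have hfV : f (genericPoint X) ∈ V := genericPoint_mem_preimage f hdom V hV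
  -- the ring map `Γ(Y, V) → W`
  let ρ : Γ(Y, V) →+* X.functionField :=
    (CohIII.stalkToFunctionField f (genericPoint Y) hdom).comp
      (Y.presheaf.germ V (genericPoint Y) hV).hom
  let ψ : Γ(Y, V) →+* W := ρ.codRestrict W.toSubring hW
  have hψ : ∀ a, ((ψ a : W) : X.functionField) =
      (f.stalkMap (genericPoint X)).hom (Y.presheaf.germ V (f (genericPoint X)) hfV a) := by
    intro a
    change CohIII.stalkToFunctionField f (genericPoint Y) hdom
      (Y.presheaf.germ V (genericPoint Y) hV a) = _
    rw [stalkToFunctionField_germ f hdom V hV a]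
    have := Scheme.Hom.germ_stalkMap f V (genericPoint X) hfV
    exact (congr($(this).hom a)).symm
  let i₂ : Spec (CommRingCat.of W) ⟶ Y := Spec.map (CommRingCat.ofHom ψ) ≫ hVaff.fromSpec
  let i₁ : Spec (CommRingCat.of X.functionField) ⟶ X := X.fromSpecStalk (genericPoint X)
  have hcomm : i₁ ≫ f = Spec.map (CommRingCat.ofHom (algebraMap W X.functionField)) ≫ i₂ := by
    change X.fromSpecStalk (genericPoint X) ≫ f = _ ≫ Spec.map (CommRingCat.ofHom ψ) ≫
      hVaff.fromSpec
    rw [← Scheme.SpecMap_stalkMap_fromSpecStalk, ← hVaff.fromSpecStalk_eq_fromSpecStalk hfV,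
      IsAffineOpen.fromSpecStalk, ← Spec.map_comp_assoc, ← Spec.map_comp_assoc]
    congr 2
    ext a
    exact (hψ a).symm
  have hex : ValuativeCriterion.Existence f := by
    have h1 : UniversallyClosed f := inferInstance
    rw [UniversallyClosed.eq_valuativeCriterion] at h1
    exact h1.1
  let S : ValuativeCommSq f :=
    { R := W
      K := X.functionField
      i₁ := i₁
      i₂ := i₂
      commSq := ⟨hcomm⟩ }
  obtain ⟨⟨ℓ⟩⟩ := hex S
  have hl1 : Spec.map (CommRingCat.ofHom (algebraMap W X.functionField)) ≫ ℓ.l = i₁ := ℓ.fac_left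
  have hl2 : ℓ.l ≫ f = i₂ := ℓ.fac_right
  set x : X := ℓ.l (IsLocalRing.closedPoint W) with hx
  have hxV : x ∈ f ⁻¹ᵁ V := by
    change f (ℓ.l (IsLocalRing.closedPoint W)) ∈ V
    have h1 : f (ℓ.l (IsLocalRing.closedPoint W)) = (ℓ.l ≫ f) (IsLocalRing.closedPoint W) := rfl
    rw [h1, hl2]
    change hVaff.fromSpec ((Spec.map (CommRingCat.ofHom ψ)) (IsLocalRing.closedPoint W)) ∈ V
    have h3 : hVaff.fromSpec ((Spec.map (CommRingCat.ofHom ψ)) (IsLocalRing.closedPoint W)) ∈
        hVaff.fromSpec.opensRange := ⟨_, rfl⟩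
    rwa [hVaff.opensRange_fromSpec] at h3
  have hsp : genericPoint X ⤳ x := genericPoint_specializes x
  have hθ : Scheme.stalkClosedPointTo ℓ.l ≫
      CommRingCat.ofHom (algebraMap W X.functionField) = X.presheaf.stalkSpecializes hsp := by
    apply Spec.map_injective
    rw [← cancel_mono (X.fromSpecStalk x), Scheme.SpecMap_stalkSpecializes_fromSpecStalk,
      Spec.map_comp, Category.assoc, Scheme.Spec_stalkClosedPointTo_fromSpecStalk]
    exact hl1
  have h2 : X.presheaf.germ (f ⁻¹ᵁ V) (genericPoint X) (genericPoint_mem_preimage f hdom V hV) s =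
      (X.presheaf.stalkSpecializes hsp).hom (X.presheaf.germ (f ⁻¹ᵁ V) x hxV s) := by
    have := TopCat.Presheaf.germ_stalkSpecializes (F := X.presheaf) (U := f ⁻¹ᵁ V) hxV hsp
    exact (congr($(this).hom s)).symm
  rw [h2, ← hθ]
  exact SetLike.coe_mem _

theorem stalkToFunctionField_injective :
    Function.Injective (CohIII.stalkToFunctionField f (genericPoint Y) hdom) :=
  RingHom.injective _

include hdom in
theorem app_injective (V : Y.Opens) (hV : genericPoint Y ∈ V) : Function.Injective (f.app V) := by
  rw [injective_iff_map_eq_zero]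
  intro a ha
  have h1 := stalkToFunctionField_germ f hdom V hV a
  rw [ha, map_zero] at h1
  have h2 : Y.presheaf.germ V (genericPoint Y) hV a = 0 := by
    apply stalkToFunctionField_injective f hdom
    rw [h1, map_zero]
  exact (germ_injective_of_isIntegral Y (genericPoint Y) hV) (h2.trans (map_zero _).symm)

theorem app_surjective_of_isAffineOpen [IsLocallyNoetherian Y] [UniversallyClosed f]
    (hY : Pi1.IsNormalScheme Y)
    (halg : ∀ x : X.functionField,
      (∃ p : Polynomial Y.functionField, p ≠ 0 ∧
        Polynomial.eval₂ (CohIII.stalkToFunctionField f (genericPoint Y) hdom) x p = 0) →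
      x ∈ Set.range (CohIII.stalkToFunctionField f (genericPoint Y) hdom))
    (V : Y.Opens) (hVaff : IsAffineOpen V) (hV : genericPoint Y ∈ V) :
    Function.Surjective (f.app V) := by
  intro s
  haveI : Nonempty V := ⟨⟨genericPoint Y, hV⟩⟩
  haveI : IsFractionRing Γ(Y, V) Y.functionField :=
    functionField_isFractionRing_of_isAffineOpen Y V hVaff
  haveI := Groth.Agent.H1.CDivKit.isIntegrallyClosed_sections hY hVaff
  have hηX := genericPoint_mem_preimage f hdom V hV
  set φ := CohIII.stalkToFunctionField f (genericPoint Y) hdom with hφ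
  let g : Γ(Y, V) →+* Y.functionField := algebraMap Γ(Y, V) Y.functionField
  have hg : ∀ a, g a = Y.presheaf.germ V (genericPoint Y) hV a := fun a => rfl
  let ρ : Γ(Y, V) →+* X.functionField := φ.comp g
  set sK := X.presheaf.germ (f ⁻¹ᵁ V) (genericPoint X) hηX s with hsK
  -- integrality of `sK` over `Γ(Y, V)`
  have hint : ∃ p : Polynomial Γ(Y, V), p.Monic ∧ Polynomial.eval₂ ρ sK p = 0 := by
    letI : Algebra Γ(Y, V) X.functionField := ρ.toAlgebra
    have hI : IsIntegral Γ(Y, V) sK := by
      by_contra hcon
      have hnot : sK ∉ (integralClosure Γ(Y, V) X.functionField).toSubring := hcon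
      obtain ⟨W, hW, hs⟩ := Subring.exists_le_valuationSubring_of_isIntegrallyClosedIn hnot
      apply hs
      apply germ_mem_valuationSubring f hdom V hVaff hV s W
      intro a
      apply hW
      exact (integralClosure Γ(Y, V) X.functionField).algebraMap_mem a
    exact hI
  obtain ⟨p, hpm, hp⟩ := hint
  have hp' : Polynomial.eval₂ φ sK (p.map g) = 0 := by
    rw [Polynomial.eval₂_map]
    exact hp
  obtain ⟨t, ht⟩ := halg sK ⟨p.map g, (hpm.map g).ne_zero, hp'⟩
  have htint : IsIntegral Γ(Y, V) t := by
    refine ⟨p, hpm, ?_⟩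
    apply stalkToFunctionField_injective f hdom
    rw [map_zero, Polynomial.hom_eval₂]
    change Polynomial.eval₂ ρ (φ t) p = 0
    rw [ht]
    exact hp
  obtain ⟨a, ha⟩ := IsIntegrallyClosed.isIntegral_iff.mp htint
  refine ⟨a, ?_⟩
  apply germ_injective_of_isIntegral X (genericPoint X) hηX
  rw [← stalkToFunctionField_germ f hdom V hV a, ← hg, ha]
  exact ht

theorem isIso_app_of_isAffineOpen [IsLocallyNoetherian Y] [UniversallyClosed f]
    (hY : Pi1.IsNormalScheme Y)
    (halg : ∀ x : X.functionField,
      (∃ p : Polynomial Y.functionField, p ≠ 0 ∧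
        Polynomial.eval₂ (CohIII.stalkToFunctionField f (genericPoint Y) hdom) x p = 0) →
      x ∈ Set.range (CohIII.stalkToFunctionField f (genericPoint Y) hdom))
    (V : Y.Opens) (hVaff : IsAffineOpen V) : IsIso (f.app V) := by
  rw [ConcreteCategory.isIso_iff_bijective]
  by_cases hV : genericPoint Y ∈ V
  · exact ⟨app_injective f hdom V hV, app_surjective_of_isAffineOpen f hdom hY halg V hVaff hV⟩
  · have hVbot : V = ⊥ := by
      by_contra hne
      apply hV
      have hne' : (V : Set Y).Nonempty := by
        rw [Set.nonempty_iff_ne_empty]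
        intro h0
        apply hne
        ext y
        simp [h0]
      exact ((genericPoint_spec Y).mem_open_set_iff V.isOpen).mpr (by simpa using hne')
    subst hVbot
    haveI : Subsingleton Γ(Y, ⊥) := inferInstance
    haveI : Subsingleton Γ(X, f ⁻¹ᵁ ⊥) := by
      have : f ⁻¹ᵁ (⊥ : Y.Opens) = ⊥ := rfl
      rw [this]
      infer_instance
    refine ⟨fun a b _ => Subsingleton.elim a b, fun b => ⟨0, Subsingleton.elim _ _⟩⟩

theorem isIso_app [IsLocallyNoetherian Y] [UniversallyClosed f]
    (hY : Pi1.IsNormalScheme Y)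
    (halg : ∀ x : X.functionField,
      (∃ p : Polynomial Y.functionField, p ≠ 0 ∧
        Polynomial.eval₂ (CohIII.stalkToFunctionField f (genericPoint Y) hdom) x p = 0) →
      x ∈ Set.range (CohIII.stalkToFunctionField f (genericPoint Y) hdom))
    (V : Y.Opens) : IsIso (f.app V) := by
  let F : TopCat.Sheaf CommRingCat Y := Y.sheaf
  let G : TopCat.Sheaf CommRingCat Y := (TopCat.Sheaf.pushforward CommRingCat f.base).obj X.sheaf
  let φ : F ⟶ G := ⟨f.c⟩
  let B : Y.affineOpens → Opens Y := Subtype.val
  have hB : Opens.IsBasis (Set.range B) := by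
    rw [Subtype.range_coe]
    exact Y.isBasis_affineOpens
  have hiso : IsIso φ := by
    apply TopCat.Sheaf.isIso_iff_isIso_basis (B := B) hB
    intro i
    exact isIso_app_of_isAffineOpen f hdom hY halg i.1 i.2
  have h2 : IsIso ((TopCat.Sheaf.forget CommRingCat Y).map φ) := inferInstance
  have h3 : IsIso (((TopCat.Sheaf.forget CommRingCat Y).map φ).app (op V)) := inferInstance
  exact h3

end Groth.Agent.H1.PushO
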