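import Mathlib
import Groth.Prelude.Def_Pi1
import Groth.Prelude.Def_ega3
import Groth.Agent.Lib.Helper1.PushO
import Groth.Agent.Lib.Helper5.AG.NormalAffine

/-! Birational morphisms to normal schemes: the relative normalization is trivial. -/

universe u
set_option linter.style.haveILetI false
open CategoryTheory AlgebraicGeometry TopologicalSpace Opposite

namespace Groth.Agent.H1.PushO

variable {X Y : Scheme.{u}} [IsIntegral X] [IsIntegral Y] (f : X ⟶ Y)
  (hdom : f.base (genericPoint X) ⤳ genericPoint Y)

/-- a section over `f⁻¹ V` which is integral over `Γ(Y, V)` and whose germ at the generic point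
comes from `K(Y)` comes from `Γ(Y, V)`, when `Y` is normal. -/
theorem exists_app_eq_of_isIntegral (hY : Pi1.IsNormalScheme Y)
    (V : Y.Opens) (hVaff : IsAffineOpen V) (hV : genericPoint Y ∈ V) (s : Γ(X, f ⁻¹ᵁ V))
    (hint : ∃ p : Polynomial Γ(Y, V), p.Monic ∧ Polynomial.eval₂ (f.app V).hom s p = 0)
    (hs : X.presheaf.germ (f ⁻¹ᵁ V) (genericPoint X) (genericPoint_mem_preimage f hdom V hV) s ∈
      Set.range (CohIII.stalkToFunctionField f (genericPoint Y) hdom)) :
    ∃ a : Γ(Y, V), f.app V a = s := by
  haveI : Nonempty V := ⟨⟨genericPoint Y, hV⟩⟩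
  haveI : IsFractionRing Γ(Y, V) Y.functionField :=
    functionField_isFractionRing_of_isAffineOpen Y V hVaff
  haveI : IsIntegrallyClosed Γ(Y, V) :=
    (Groth.Agent.H5.AG.isNormalScheme_iff_affine Y).1 hY V hVaff
  have hηX := genericPoint_mem_preimage f hdom V hV
  set φ := CohIII.stalkToFunctionField f (genericPoint Y) hdom with hφ
  let g : Γ(Y, V) →+* Y.functionField := algebraMap Γ(Y, V) Y.functionField
  have hg : ∀ a, g a = Y.presheaf.germ V (genericPoint Y) hV a := fun a => rfl
  let ρ : Γ(Y, V) →+* X.functionField := φ.comp g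
  have hρ : ∀ a, ρ a = X.presheaf.germ (f ⁻¹ᵁ V) (genericPoint X) hηX (f.app V a) := by
    intro a
    change φ (g a) = _
    rw [hg, stalkToFunctionField_germ f hdom V hV a]
  obtain ⟨p, hpm, hp⟩ := hint
  obtain ⟨t, ht⟩ := hs
  have hp2 : Polynomial.eval₂ ρ (φ t) p = 0 := by
    rw [ht]
    have h1 : ρ = (X.presheaf.germ (f ⁻¹ᵁ V) (genericPoint X) hηX).hom.comp (f.app V).hom :=
      RingHom.ext hρ
    rw [h1, ← Polynomial.hom_eval₂, hp, map_zero]
  have htint : IsIntegral Γ(Y, V) t := by
    refine ⟨p, hpm, ?_⟩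
    apply stalkToFunctionField_injective f hdom
    rw [map_zero, Polynomial.hom_eval₂]
    exact hp2
  obtain ⟨a, ha⟩ := IsIntegrallyClosed.isIntegral_iff.mp htint
  refine ⟨a, ?_⟩
  apply germ_injective_of_isIntegral X (genericPoint X) hηX
  rw [← hρ]
  change φ (g a) = _
  rw [show g a = t from ha]
  exact ht

/-- for a birational morphism to a normal scheme the relative normalization is trivial. -/
theorem isIso_fromNormalization [QuasiCompact f] [QuasiSeparated f] (hY : Pi1.IsNormalScheme Y)
    (hsurj : Function.Surjective (CohIII.stalkToFunctionField f (genericPoint Y) hdom)) :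
    IsIso f.fromNormalization := by
  change MorphismProperty.isomorphisms Scheme f.fromNormalization
  rw [IsZariskiLocalAtTarget.iff_of_iSup_eq_top (P := MorphismProperty.isomorphisms Scheme) _
    (iSup_affineOpens_eq_top Y)]
  intro U
  change IsIso (f.fromNormalization ∣_ U.1)
  rw [isIso_morphismRestrict_iff_isIso_app f.fromNormalization U.2,
    f.fromNormalization_app U.2]
  letI : Algebra Γ(Y, U.1) Γ(X, f ⁻¹ᵁ U.1) := (f.app U.1).hom.toAlgebra
  suffices hbij : Function.Bijective (algebraMap Γ(Y, U.1)
      (integralClosure Γ(Y, U.1) Γ(X, f ⁻¹ᵁ U.1))) by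
    haveI : IsIso (CommRingCat.ofHom (algebraMap Γ(Y, U.1)
        (integralClosure Γ(Y, U.1) Γ(X, f ⁻¹ᵁ U.1)))) := by
      rw [ConcreteCategory.isIso_iff_bijective]
      exact hbij
    infer_instance
  by_cases hV : genericPoint Y ∈ U.1
  · constructor
    · intro a b hab
      apply app_injective f hdom U.1 hV
      exact congrArg Subtype.val hab
    · rintro ⟨s, hs⟩
      obtain ⟨a, ha⟩ := exists_app_eq_of_isIntegral f hdom hY U.1 U.2 hV s hs (hsurj _)
      exact ⟨a, Subtype.ext ha⟩
  · have hVbot : U.1 = ⊥ := by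
      by_contra hne
      apply hV
      have hne' : (U.1 : Set Y).Nonempty := by
        rw [Set.nonempty_iff_ne_empty]
        intro h0
        apply hne
        ext y
        simp [h0]
      exact ((genericPoint_spec Y).mem_open_set_iff U.1.isOpen).mpr (by simpa using hne')
    haveI : Subsingleton Γ(Y, U.1) := by rw [hVbot]; infer_instance
    haveI : Subsingleton Γ(X, f ⁻¹ᵁ U.1) := by
      have : f ⁻¹ᵁ U.1 = ⊥ := by rw [hVbot]; rfl
      rw [this]
      infer_instance
    refine ⟨fun a b _ => Subsingleton.elim a b, fun b => ⟨0, Subtype.ext (Subsingleton.elim _ _)⟩⟩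

theorem locallyQuasiFinite_of_finite_fibres {X Y : Scheme.{u}} (f : X ⟶ Y)
    [LocallyOfFiniteType f] (hfin : ∀ y : Y, (f.base ⁻¹' {y}).Finite) : LocallyQuasiFinite f := by
  rw [← Scheme.Hom.quasiFiniteLocus_eq_top_iff]
  ext x
  simp only [SetLike.mem_coe, Scheme.Hom.mem_quasiFiniteLocus, Opens.coe_top, Set.mem_univ,
    iff_true]
  have : Finite (f.fiber (f x)) := (f.fiberHomeo (f x)).finite_iff.mpr (hfin (f x)).to_subtype
  exact Scheme.Hom.quasiFiniteAt_iff_isOpen_singleton_asFiber.mpr (isOpen_discrete _)

/-- a birational separated morphism of finite type with finite fibres to a normal scheme is an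
open immersion. -/
theorem isOpenImmersion_of_birational [IsLocallyNoetherian Y] (hY : Pi1.IsNormalScheme Y)
    [IsSeparated f] [LocallyOfFiniteType f] [QuasiCompact f]
    (hgen : f.base (genericPoint X) = genericPoint Y)
    (hbir : IsIso (f.stalkMap (genericPoint X)))
    (hfin : ∀ y : Y, (f.base ⁻¹' {y}).Finite) :
    IsOpenImmersion f ∧ (IsProper f → IsIso f) := by
  haveI := locallyQuasiFinite_of_finite_fibres f hfin
  have hdom : f.base (genericPoint X) ⤳ genericPoint Y := by rw [hgen]
  have hdom' : genericPoint Y ⤳ f.base (genericPoint X) := by rw [hgen]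
  have hsurj : Function.Surjective (CohIII.stalkToFunctionField f (genericPoint Y) hdom) := by
    have h1 : Function.Surjective (f.stalkMap (genericPoint X)).hom :=
      ((ConcreteCategory.isIso_iff_bijective _).mp hbir).2
    have h2 : Function.Surjective (Y.presheaf.stalkSpecializes hdom).hom := by
      intro b
      refine ⟨(Y.presheaf.stalkSpecializes hdom').hom b, ?_⟩
      have h3 : Y.presheaf.stalkSpecializes hdom' ≫ Y.presheaf.stalkSpecializes hdom =
          𝟙 _ := by
        rw [TopCat.Presheaf.stalkSpecializes_comp, TopCat.Presheaf.stalkSpecializes_refl]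
      exact congr($(h3).hom b)
    exact h1.comp h2
  haveI := isIso_fromNormalization f hdom hY hsurj
  have hoi : IsOpenImmersion f := by
    rw [← f.toNormalization_fromNormalization]
    infer_instance
  refine ⟨hoi, fun hprop => ?_⟩
  rw [isIso_iff_isOpenImmersion_and_surjective]
  refine ⟨hoi, ⟨fun y => ?_⟩⟩
  have hcl : IsClosed (Set.range f) := f.isClosedMap.isClosed_range
  have hη : genericPoint Y ∈ Set.range f := ⟨genericPoint X, hgen⟩
  have h1 : closure {genericPoint Y} ⊆ Set.range f :=
    hcl.closure_subset_iff.mpr (Set.singleton_subset_iff.mpr hη)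
  apply h1
  rw [(genericPoint_spec Y).def]
  trivial

end Groth.Agent.H1.PushO
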