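import Mathlib
import Groth.Prelude.Def_Pi1
import Groth.Prelude.Def_ega3
import Groth.Agent.Lib.Helper1.PushO3
import Groth.Agent.Lib.Helper1.CartierKit

/-! Proper birational morphisms which are quasi-finite at a point over a normal point. -/

universe u
set_option linter.style.haveILetI false
open CategoryTheory AlgebraicGeometry TopologicalSpace Opposite

namespace Groth.Agent.H1.PushO

variable {X Y : Scheme.{u}} [IsIntegral X] [IsIntegral Y] (f : X ⟶ Y)
  (hdom : f.base (genericPoint X) ⤳ genericPoint Y)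

/-- a section over `f⁻¹ U` (`U` affine) which is integral over `Γ(Y, U)` becomes a fraction
`a / s` with `s` invertible at `y`, when `f` is birational and `O_{Y,y}` is integrally closed. -/
theorem exists_mul_eq_of_isIntegral
    (hsurj : Function.Surjective (CohIII.stalkToFunctionField f (genericPoint Y) hdom))
    (U : Y.Opens) (hU : IsAffineOpen U) (y : Y) (hy : y ∈ U)
    (hn : IsIntegrallyClosed (Y.presheaf.stalk y)) (c : Γ(X, f ⁻¹ᵁ U))
    (hint : ∃ p : Polynomial Γ(Y, U), p.Monic ∧ Polynomial.eval₂ (f.app U).hom c p = 0) :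
    ∃ s a : Γ(Y, U), y ∈ Y.basicOpen s ∧ f.app U s * c = f.app U a := by
  have hV : genericPoint Y ∈ U := (genericPoint_specializes y).mem_open U.isOpen hy
  haveI : Nonempty U := ⟨⟨y, hy⟩⟩
  have hηX := genericPoint_mem_preimage f hdom U hV
  set φ := CohIII.stalkToFunctionField f (genericPoint Y) hdom with hφ
  let g : Γ(Y, U) →+* Y.functionField := algebraMap Γ(Y, U) Y.functionField
  have hg : ∀ a, g a = Y.presheaf.germ U (genericPoint Y) hV a := fun a => rfl
  let ρ : Γ(Y, U) →+* X.functionField := φ.comp g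
  have hρ : ∀ a, ρ a = X.presheaf.germ (f ⁻¹ᵁ U) (genericPoint X) hηX (f.app U a) := by
    intro a
    change φ (g a) = _
    rw [hg, stalkToFunctionField_germ f hdom U hV a]
  obtain ⟨p, hpm, hp⟩ := hint
  obtain ⟨t, ht⟩ := hsurj (X.presheaf.germ (f ⁻¹ᵁ U) (genericPoint X) hηX c)
  have hp2 : Polynomial.eval₂ ρ (φ t) p = 0 := by
    rw [ht]
    have h1 : ρ = (X.presheaf.germ (f ⁻¹ᵁ U) (genericPoint X) hηX).hom.comp (f.app U).hom :=
      RingHom.ext hρ
    rw [h1, ← Polynomial.hom_eval₂, hp, map_zero]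
  have htint : IsIntegral Γ(Y, U) t := by
    refine ⟨p, hpm, ?_⟩
    apply stalkToFunctionField_injective f hdom
    rw [map_zero, Polynomial.hom_eval₂]
    exact hp2
  letI : Algebra Γ(Y, U) (Y.presheaf.stalk y) := Y.presheaf.algebra_section_stalk ⟨y, hy⟩
  haveI := hU.isLocalization_stalk ⟨y, hy⟩
  haveI : IsScalarTower Γ(Y, U) (Y.presheaf.stalk y) Y.functionField :=
    functionField_isScalarTower Y U ⟨y, hy⟩
  have htint' : IsIntegral (Y.presheaf.stalk y) t := htint.tower_top
  obtain ⟨τ, hτ⟩ := IsIntegrallyClosed.isIntegral_iff.mp htint'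
  obtain ⟨⟨a, s⟩, has⟩ := IsLocalization.surj (hU.primeIdealOf ⟨y, hy⟩).asIdeal.primeCompl τ
  refine ⟨s.1, a, ?_, ?_⟩
  · by_contra hcon
    exact s.2 ((CartierKit.mem_primeIdealOf_iff hU y hy s.1).mpr hcon)
  · apply germ_injective_of_isIntegral X (genericPoint X) hηX
    rw [map_mul, ← hρ, ← hρ, ← ht]
    change φ (g s.1) * φ t = φ (g a)
    rw [← map_mul]
    congr 1
    rw [← hτ]
    change algebraMap Γ(Y, U) Y.functionField s.1 * _ = algebraMap Γ(Y, U) Y.functionField a
    rw [IsScalarTower.algebraMap_apply Γ(Y, U) (Y.presheaf.stalk y) Y.functionField,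
      IsScalarTower.algebraMap_apply Γ(Y, U) (Y.presheaf.stalk y) Y.functionField, ← map_mul,
      mul_comm]
    exact congrArg _ has


/-- the image of the generic point under a dominant morphism of integral schemes. -/
theorem map_genericPoint_of_isDominant {X Y : Scheme.{u}} [IsIntegral X] [IsIntegral Y]
    (g : X ⟶ Y) [IsDominant g] : g.base (genericPoint X) = genericPoint Y := by
  have h1 : IsGenericPoint (g.base (genericPoint X)) (Set.univ : Set Y) := by
    have := (genericPoint_spec X).image g.continuous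
    rwa [Set.image_univ, g.denseRange.closure_range] at this
  exact (genericPoint_spec Y).eq h1 |>.symm

/-- the fibre of the relative normalization over a normal point of the target of a birational
morphism is a single point. -/
theorem fromNormalization_fibre_subsingleton [QuasiCompact f] [QuasiSeparated f]
    (hsurj : Function.Surjective (CohIII.stalkToFunctionField f (genericPoint Y) hdom))
    (y : Y) (hn : IsIntegrallyClosed (Y.presheaf.stalk y))
    (z z' : f.normalization) (hz : f.fromNormalization.base z = y)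
    (hz' : f.fromNormalization.base z' = y) : z = z' := by
  obtain ⟨_, ⟨U, hU : IsAffineOpen U, rfl⟩, hyU, -⟩ :=
    Y.isBasis_affineOpens.exists_subset_of_mem_open (Set.mem_univ y) isOpen_univ
  set n := f.toNormalization with hndef
  set p := f.fromNormalization with hpdef
  have hV : IsAffineOpen (p ⁻¹ᵁ U) := hU.preimage p
  have hzV : z ∈ p ⁻¹ᵁ U := by change p.base z ∈ U; rw [hz]; exact hyU
  have hz'V : z' ∈ p ⁻¹ᵁ U := by change p.base z' ∈ U; rw [hz']; exact hyU
  have key : ∀ (g : X ⟶ Y), g = f → (∃ hdom_g : g.base (genericPoint X) ⤳ genericPoint Y,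
      Function.Surjective (CohIII.stalkToFunctionField g (genericPoint Y) hdom_g)) := by
    rintro g rfl; exact ⟨hdom, hsurj⟩
  obtain ⟨hdomg, hsurjg⟩ := key (n ≫ p) f.toNormalization_fromNormalization
  have hηU : genericPoint Y ∈ U := (genericPoint_specializes y).mem_open U.isOpen hyU
  have hnη : n.base (genericPoint X) = genericPoint f.normalization :=
    map_genericPoint_of_isDominant n
  have hdomn : n.base (genericPoint X) ⤳ genericPoint f.normalization := by rw [hnη]
  have hηV : genericPoint f.normalization ∈ p ⁻¹ᵁ U :=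
    (genericPoint_specializes z).mem_open (p ⁻¹ᵁ U).isOpen hzV
  -- the criterion
  have crit : ∀ (b : Γ(f.normalization, p ⁻¹ᵁ U)),
      ∃ a : Γ(Y, U), ∀ (w : f.normalization) (hw : p.base w = y),
        (w ∈ f.normalization.basicOpen b ↔ y ∈ Y.basicOpen a) := by
    intro b
    have hint : ∃ P : Polynomial Γ(Y, U), P.Monic ∧
        Polynomial.eval₂ ((n ≫ p).app U).hom ((n.app (p ⁻¹ᵁ U)).hom b) P = 0 := by
      obtain ⟨P, hPm, hP⟩ := IsIntegralHom.isIntegral_app p U hU b
      refine ⟨P, hPm, ?_⟩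
      have h0 : Polynomial.eval₂ ((n.app (p ⁻¹ᵁ U)).hom.comp (p.app U).hom)
          ((n.app (p ⁻¹ᵁ U)).hom b) P = 0 := by
        rw [← Polynomial.hom_eval₂]
        have hP' : Polynomial.eval₂ (p.app U).hom b P = 0 := hP
        rw [hP', map_zero]
      exact h0
    obtain ⟨s, a, hys, hsa⟩ := exists_mul_eq_of_isIntegral (n ≫ p) hdomg hsurjg U hU y hyU hn
      ((n.app (p ⁻¹ᵁ U)).hom b) hint
    refine ⟨a, fun w hw => ?_⟩
    have h2 : (p.app U).hom s * b = (p.app U).hom a := by
      apply app_injective n hdomn (p ⁻¹ᵁ U) hηV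
      rw [map_mul]
      have h1 : ∀ r, ((n ≫ p).app U).hom r = (n.app (p ⁻¹ᵁ U)).hom ((p.app U).hom r) := by
        intro r; rw [Scheme.Hom.comp_app]; rfl
      rw [h1, h1] at hsa
      exact hsa
    have h3 : w ∈ f.normalization.basicOpen ((p.app U).hom s) := by
      have : p ⁻¹ᵁ Y.basicOpen s = f.normalization.basicOpen ((p.app U).hom s) :=
        Scheme.preimage_basicOpen p s
      rw [← this]
      change p.base w ∈ Y.basicOpen s
      rw [hw]; exact hys
    have h4 : w ∈ f.normalization.basicOpen ((p.app U).hom a) ↔ y ∈ Y.basicOpen a := by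
      have : p ⁻¹ᵁ Y.basicOpen a = f.normalization.basicOpen ((p.app U).hom a) :=
        Scheme.preimage_basicOpen p a
      rw [← this]
      change p.base w ∈ Y.basicOpen a ↔ _
      rw [hw]
    rw [← h4, ← h2, Scheme.basicOpen_mul]
    constructor
    · intro h; exact ⟨h3, h⟩
    · intro h; exact h.2
  -- conclude
  have hprime : hV.primeIdealOf ⟨z, hzV⟩ = hV.primeIdealOf ⟨z', hz'V⟩ := by
    apply PrimeSpectrum.ext
    ext b
    rw [CartierKit.mem_primeIdealOf_iff hV z hzV b, CartierKit.mem_primeIdealOf_iff hV z' hz'V b]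
    obtain ⟨a, ha⟩ := crit b
    rw [ha z hz, ha z' hz']
  have h5 := hV.fromSpec_primeIdealOf ⟨z, hzV⟩
  have h6 := hV.fromSpec_primeIdealOf ⟨z', hz'V⟩
  rw [hprime] at h5
  exact h5.symm.trans h6


/-- if a separated birational morphism of finite type is quasi-finite at `x` and the local ring at
`f x` is integrally closed, then `x` is the only point of its fibre. -/
theorem fibre_eq_singleton_of_quasiFiniteAt [QuasiCompact f] [IsSeparated f]
    [LocallyOfFiniteType f]
    (hsurj : Function.Surjective (CohIII.stalkToFunctionField f (genericPoint Y) hdom))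
    (x : X) (hn : IsIntegrallyClosed (Y.presheaf.stalk (f.base x))) (hq : f.QuasiFiniteAt x)
    (z : X) (hz : f.base z = f.base x) : z = x := by
  obtain ⟨V, hxV, hV⟩ := f.exists_mem_and_isIso_morphismRestrict_toNormalization x hq
  set n := f.toNormalization with hndef
  set p := f.fromNormalization with hpdef
  have hnp : ∀ w : X, p.base (n.base w) = f.base w := by
    intro w
    have : n ≫ p = f := f.toNormalization_fromNormalization
    exact congr($(this).base w)
  have h1 : n.base z = n.base x :=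
    fromNormalization_fibre_subsingleton f hdom hsurj (f.base x) hn _ _
      ((hnp z).trans hz) (hnp x)
  have hzV : n.base z ∈ V := by rw [h1]; exact hxV
  let z' : ↥(n ⁻¹ᵁ V) := ⟨z, hzV⟩
  let x' : ↥(n ⁻¹ᵁ V) := ⟨x, hxV⟩
  have h2 : (n ∣_ V).base z' = (n ∣_ V).base x' := by
    apply Subtype.ext
    rw [morphismRestrict_base_coe, morphismRestrict_base_coe]
    exact h1
  have h3 : z' = x' := (n ∣_ V).homeomorph.injective h2
  exact congrArg Subtype.val h3

/-- restriction of a local property to a smaller open. -/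
theorem morphismRestrict_of_le {P : MorphismProperty Scheme.{u}} [IsZariskiLocalAtTarget P]
    {X Y : Scheme.{u}} (f : X ⟶ Y) {U V : Y.Opens} (hVU : V ≤ U) (h : P (f ∣_ U)) :
    P (f ∣_ V) := by
  have h1 : P (f ∣_ U ∣_ (U.ι ⁻¹ᵁ V)) := IsZariskiLocalAtTarget.restrict h _
  have e : U.ι ''ᵁ (U.ι ⁻¹ᵁ V) = V := by
    rw [Scheme.Hom.image_preimage_eq_opensRange_inf, Scheme.Opens.opensRange_ι]
    exact inf_eq_right.mpr hVU
  exact (P.arrow_mk_iso_iff (morphismRestrictRestrict f U (U.ι ⁻¹ᵁ V) ≪≫
    morphismRestrictEq f e)).mp h1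

/-- a morphism with affine source and target over `U` which is an isomorphism on sections over
`U` restricts to an isomorphism over `U`. -/
theorem isIso_morphismRestrict_of_isIso_app {X Y : Scheme.{u}} (f : X ⟶ Y) {U : Y.Opens}
    (hU : IsAffineOpen U) (hfU : IsAffineOpen (f ⁻¹ᵁ U)) (h : IsIso (f.app U)) :
    IsIso (f ∣_ U) := by
  haveI : IsAffine U := hU
  haveI : IsAffine (f ⁻¹ᵁ U) := hfU
  change MorphismProperty.isomorphisms Scheme (f ∣_ U)
  rw [HasAffineProperty.iff_of_isAffine (P := MorphismProperty.isomorphisms Scheme)]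
  refine ⟨inferInstance, ?_⟩
  have e := arrowResLEAppIso f U (f ⁻¹ᵁ U) le_rfl
  rw [Scheme.Hom.resLE_eq_morphismRestrict] at e
  have h2 : IsIso (f.appLE U (f ⁻¹ᵁ U) le_rfl) := by
    rw [← Scheme.Hom.app_eq_appLE]; exact h
  exact ((MorphismProperty.isomorphisms CommRingCat).arrow_mk_iso_iff e).mpr h2


/-- a birational morphism which is finite over a neighbourhood of a normal point is an
isomorphism over a smaller neighbourhood. -/
theorem exists_isIso_morphismRestrict_of_isFinite
    (hsurj : Function.Surjective (CohIII.stalkToFunctionField f (genericPoint Y) hdom))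
    (y : Y) (hn : IsIntegrallyClosed (Y.presheaf.stalk y))
    (V : Y.Opens) (hyV : y ∈ V) (hfin : IsFinite (f ∣_ V)) :
    ∃ V' : Y.Opens, y ∈ V' ∧ IsIso (f ∣_ V') := by
  obtain ⟨_, ⟨U, hU : IsAffineOpen U, rfl⟩, hyU, hUV⟩ :=
    Y.isBasis_affineOpens.exists_subset_of_mem_open hyV V.isOpen
  have hUV' : U ≤ V := hUV
  have hfinU : IsFinite (f ∣_ U) := morphismRestrict_of_le (P := @IsFinite) f hUV' hfin
  haveI : IsAffine U := hU
  rw [HasAffineProperty.iff_of_isAffine (P := @IsFinite)] at hfinU
  obtain ⟨haff, hfinapp⟩ := hfinU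
  have hfU : IsAffineOpen (f ⁻¹ᵁ U) := haff
  have hφfin : (f.app U).hom.Finite := by
    have e := arrowResLEAppIso f U (f ⁻¹ᵁ U) le_rfl
    rw [Scheme.Hom.resLE_eq_morphismRestrict] at e
    have h2 := (RingHom.finite_respectsIso.arrow_mk_iso_iff e).mp hfinapp
    rwa [← Scheme.Hom.app_eq_appLE] at h2
  set φ := (f.app U).hom with hφdef
  -- every section over `f⁻¹ U` is a fraction with denominator invertible at `y`
  have hfrac : ∀ c : Γ(X, f ⁻¹ᵁ U), ∃ s a : Γ(Y, U), y ∈ Y.basicOpen s ∧ φ s * c = φ a := by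
    intro c
    refine exists_mul_eq_of_isIntegral f hdom hsurj U hU y hyU hn c ?_
    exact hφfin.to_isIntegral c
  -- a common denominator
  letI : Algebra Γ(Y, U) Γ(X, f ⁻¹ᵁ U) := φ.toAlgebra
  have hmodfin : Module.Finite Γ(Y, U) Γ(X, f ⁻¹ᵁ U) := hφfin
  obtain ⟨G, hG⟩ := hmodfin.fg_top
  choose sc ac hsc hac using hfrac
  let s : Γ(Y, U) := ∏ c ∈ G, sc c
  have hys : y ∈ Y.basicOpen s := by
    by_contra hcon
    have h1 := (CartierKit.mem_primeIdealOf_iff hU y hyU s).mpr hcon
    obtain ⟨c, hcG, hc⟩ := (Ideal.IsPrime.prod_mem_iff).mp h1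
    exact ((CartierKit.mem_primeIdealOf_iff hU y hyU (sc c)).mp hc) (hsc c)
  let S : Submodule Γ(Y, U) Γ(X, f ⁻¹ᵁ U) :=
    { carrier := {c | ∃ a, φ s * c = φ a}
      add_mem' := by
        rintro c c' ⟨a, ha⟩ ⟨a', ha'⟩
        exact ⟨a + a', by rw [mul_add, ha, ha', map_add]⟩
      zero_mem' := ⟨0, by rw [mul_zero, map_zero]⟩
      smul_mem' := by
        rintro r c ⟨a, ha⟩
        refine ⟨r * a, ?_⟩
        change φ s * (φ r * c) = _
        rw [map_mul, ← ha]; ring }
  have hS : ∀ c : Γ(X, f ⁻¹ᵁ U), ∃ a, φ s * c = φ a := by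
    intro c
    have h1 : (Submodule.span Γ(Y, U) (G : Set Γ(X, f ⁻¹ᵁ U))) ≤ S := by
      rw [Submodule.span_le]
      intro c hc
      obtain ⟨r, hr⟩ := Finset.dvd_prod_of_mem sc hc
      refine ⟨r * ac c, ?_⟩
      change φ (∏ c ∈ G, sc c) * c = _
      rw [hr, map_mul, map_mul, ← hac c]; ring
    have h2 : c ∈ Submodule.span Γ(Y, U) (G : Set Γ(X, f ⁻¹ᵁ U)) := by rw [hG]; trivial
    exact h1 h2
  -- the open set
  refine ⟨Y.basicOpen s, hys, ?_⟩
  have hD : IsAffineOpen (Y.basicOpen s) := hU.basicOpen s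
  have hpre : f ⁻¹ᵁ Y.basicOpen s = X.basicOpen (φ s) := Scheme.preimage_basicOpen f s
  have hfD : IsAffineOpen (f ⁻¹ᵁ Y.basicOpen s) := by
    rw [hpre]; exact hfU.basicOpen _
  apply isIso_morphismRestrict_of_isIso_app f hD hfD
  rw [ConcreteCategory.isIso_iff_bijective]
  have hηD : genericPoint Y ∈ Y.basicOpen s :=
    (genericPoint_specializes y).mem_open (Y.basicOpen s).isOpen hys
  refine ⟨app_injective f hdom _ hηD, ?_⟩
  intro t
  -- write `t` as a fraction
  have hle : f ⁻¹ᵁ Y.basicOpen s ≤ f ⁻¹ᵁ U := f.preimage_mono (Y.basicOpen_le s)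
  have key : ∀ (W : X.Opens) (e : W = X.basicOpen (φ s)) (hW : W ≤ f ⁻¹ᵁ U) (t : Γ(X, W)),
      ∃ (k : ℕ) (c : Γ(X, f ⁻¹ᵁ U)),
        (X.presheaf.map (homOfLE hW).op).hom (φ s) ^ k * t =
          (X.presheaf.map (homOfLE hW).op).hom c := by
    rintro W rfl hW t
    obtain ⟨k, c, hc⟩ := exists_eq_pow_mul_of_isAffineOpen X (f ⁻¹ᵁ U) hfU (φ s) t
    exact ⟨k, c, hc.symm⟩
  obtain ⟨k, c, hkc⟩ := key _ hpre hle t
  obtain ⟨a, ha⟩ := hS c
  -- the unit
  have hunit : IsUnit ((Y.presheaf.map (homOfLE (Y.basicOpen_le s)).op).hom s) :=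
    RingedSpace.isUnit_res_basicOpen Y.toRingedSpace s
  obtain ⟨u, hu⟩ := hunit
  have hnat : ∀ r : Γ(Y, U), (f.app (Y.basicOpen s)).hom
      ((Y.presheaf.map (homOfLE (Y.basicOpen_le s)).op).hom r) =
      (X.presheaf.map (homOfLE hle).op).hom (φ r) := by
    intro r
    have := f.naturality (homOfLE (Y.basicOpen_le s)).op
    exact congr($(this).hom r)
  refine ⟨((u⁻¹ : (Γ(Y, Y.basicOpen s))ˣ) : Γ(Y, Y.basicOpen s)) ^ (k + 1) *
    (Y.presheaf.map (homOfLE (Y.basicOpen_le s)).op).hom a, ?_⟩
  have hus : (f.app (Y.basicOpen s)).hom (u : Γ(Y, Y.basicOpen s)) =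
      (X.presheaf.map (homOfLE hle).op).hom (φ s) := by
    rw [hu, hnat]
  have hunit2 : IsUnit ((X.presheaf.map (homOfLE hle).op).hom (φ s)) := by
    rw [← hus]; exact (u.isUnit).map _
  have h3 : (X.presheaf.map (homOfLE hle).op).hom (φ s) ^ (k + 1) * t =
      (X.presheaf.map (homOfLE hle).op).hom (φ a) := by
    rw [← ha, map_mul, pow_succ', mul_assoc, hkc]
  apply (hunit2.pow (k + 1)).mul_left_cancel
  rw [h3]
  change _ * (f.app (Y.basicOpen s)).hom _ = _
  rw [map_mul, map_pow, hnat, ← hus, ← mul_assoc, ← mul_pow, ← map_mul, Units.mul_inv, map_one,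
    one_pow, one_mul]


/-- a morphism of integral schemes which is an isomorphism over a nonempty open is birational. -/
theorem birational_of_isIso_morphismRestrict {X Y : Scheme.{u}} [IsIntegral X] [IsIntegral Y]
    (f : X ⟶ Y) (W : Y.Opens) (hW : (W : Set Y).Nonempty) (hfW : IsIso (f ∣_ W)) :
    f.base (genericPoint X) = genericPoint Y ∧ IsIso (f.stalkMap (genericPoint X)) := by
  have hηW : genericPoint Y ∈ W :=
    ((genericPoint_spec Y).mem_open_set_iff W.isOpen).mpr (by simpa using hW)
  obtain ⟨y', hy'⟩ := (f ∣_ W).homeomorph.surjective ⟨genericPoint Y, hηW⟩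
  have h1 : f.base y'.1 = genericPoint Y := by
    have := congrArg Subtype.val hy'
    rwa [Scheme.Hom.homeomorph_apply, morphismRestrict_base_coe] at this
  have h2 : f.base (genericPoint X) ⤳ genericPoint Y := by
    rw [← h1]
    exact (genericPoint_specializes y'.1).map f.continuous
  have hgen : f.base (genericPoint X) = genericPoint Y :=
    (h2.antisymm (genericPoint_specializes _)).eq
  refine ⟨hgen, ?_⟩
  have hηX : genericPoint X ∈ f ⁻¹ᵁ W := by
    change f.base (genericPoint X) ∈ W
    rw [hgen]; exact hηW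
  have h3 : IsIso ((f ∣_ W).stalkMap ⟨genericPoint X, hηX⟩) := inferInstance
  exact ((MorphismProperty.isomorphisms CommRingCat).arrow_mk_iso_iff
    (morphismRestrictStalkMap f W ⟨genericPoint X, hηX⟩)).mp h3

/-- surjectivity of `K(Y) → K(X)` for a birational morphism. -/
theorem stalkToFunctionField_surjective_of_isIso
    (hbir : IsIso (f.stalkMap (genericPoint X))) :
    Function.Surjective (CohIII.stalkToFunctionField f (genericPoint Y) hdom) := by
  have hdom' : genericPoint Y ⤳ f.base (genericPoint X) := genericPoint_specializes _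
  have h1 : Function.Surjective (f.stalkMap (genericPoint X)).hom :=
    ((ConcreteCategory.isIso_iff_bijective _).mp hbir).2
  have h2 : Function.Surjective (Y.presheaf.stalkSpecializes hdom).hom := by
    intro b
    refine ⟨(Y.presheaf.stalkSpecializes hdom').hom b, ?_⟩
    have h3 : Y.presheaf.stalkSpecializes hdom' ≫ Y.presheaf.stalkSpecializes hdom =
        𝟙 _ := by
      rw [TopCat.Presheaf.stalkSpecializes_comp, TopCat.Presheaf.stalkSpecializes_refl]
    exact congr($(h3).hom b)
  exact h1.comp h2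

/-- **EGA III 4.4.8-type statement**: a proper birational morphism of integral schemes which is
quasi-finite at a point `x` over a normal point is an isomorphism over a neighbourhood of `f x`. -/
theorem exists_isIso_morphismRestrict_of_quasiFiniteAt {X Y : Scheme.{u}} [IsIntegral X]
    [IsIntegral Y] (f : X ⟶ Y) [IsProper f]
    (W : Y.Opens) (hW : (W : Set Y).Nonempty) (hfW : IsIso (f ∣_ W))
    (x : X) (hn : IsIntegrallyClosed (Y.presheaf.stalk (f.base x))) (hq : f.QuasiFiniteAt x) :
    ∃ V : Y.Opens, f.base x ∈ V ∧ IsIso (f ∣_ V) := by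
  obtain ⟨hgen, hbir⟩ := birational_of_isIso_morphismRestrict f W hW hfW
  have hdom : f.base (genericPoint X) ⤳ genericPoint Y := by rw [hgen]
  have hsurj := stalkToFunctionField_surjective_of_isIso f hdom hbir
  have hfib : f.base ⁻¹' {f.base x} = {x} := by
    ext z
    simp only [Set.mem_preimage, Set.mem_singleton_iff]
    constructor
    · intro hz
      exact fibre_eq_singleton_of_quasiFiniteAt f hdom hsurj x hn hq z hz
    · rintro rfl; rfl
  obtain ⟨V, hxV, hV⟩ := exists_isFinite_morphismRestrict_of_finite_preimage_singleton f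
    (f.base x) (by rw [hfib]; exact Set.finite_singleton x)
  exact exists_isIso_morphismRestrict_of_isFinite f hdom hsurj (f.base x) hn V hxV hV

end Groth.Agent.H1.PushO
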