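import Mathlib
import Groth.Agent.Lib.Helper1.PushO4

/-! Closed immersions near a point (EGA IV 18.12.6-type criterion). -/

universe u
set_option linter.style.haveILetI false
open CategoryTheory AlgebraicGeometry TopologicalSpace Opposite Limits

namespace Groth.Agent.H1.ClImmNear

variable {X Y : Scheme.{u}} (f : X ⟶ Y)

set_option backward.isDefEq.respectTransparency.types false in
/-- the comparison of the fibre of `f ∣_ U` with the fibre of `f`. -/
theorem exists_fiber_restrict_iso (U : Y.Opens) (y : Y) (hy : y ∈ U) :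
    ∃ (e : (f ∣_ U).fiber ⟨y, hy⟩ ⟶ f.fiber y) (r : Spec (U.toScheme.residueField ⟨y, hy⟩) ⟶
        Spec (Y.residueField y)), IsIso e ∧ IsIso r ∧
      e ≫ f.fiberToSpecResidueField y = (f ∣_ U).fiberToSpecResidueField ⟨y, hy⟩ ≫ r := by
  have h := isPullback_fiberToSpecResidueField_of_isPullback
    (isPullback_morphismRestrict f U).flip (⟨y, hy⟩ : U)
  refine ⟨_, _, ?_, ?_, h.w⟩
  · haveI : IsIso (U.ι.residueFieldMap ⟨y, hy⟩) := inferInstance
    haveI : IsIso (Spec.map (U.ι.residueFieldMap ⟨y, hy⟩)) := inferInstance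
    exact h.isIso_fst_of_isIso
  · haveI : IsIso (U.ι.residueFieldMap ⟨y, hy⟩) := inferInstance
    exact (inferInstance : IsIso (Spec.map (U.ι.residueFieldMap ⟨y, hy⟩)))

theorem isIso_fiberToSpecResidueField_restrict_iff (U : Y.Opens) (y : Y) (hy : y ∈ U) :
    IsIso ((f ∣_ U).fiberToSpecResidueField ⟨y, hy⟩) ↔ IsIso (f.fiberToSpecResidueField y) := by
  obtain ⟨e, r, he, hr, hw⟩ := exists_fiber_restrict_iso f U y hy
  constructor
  · intro h
    have : IsIso (e ≫ f.fiberToSpecResidueField y) := by rw [hw]; infer_instance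
    exact IsIso.of_isIso_comp_left e _
  · intro h
    have : IsIso ((f ∣_ U).fiberToSpecResidueField ⟨y, hy⟩ ≫ r) := by rw [← hw]; infer_instance
    exact IsIso.of_isIso_comp_right _ r

theorem isEmpty_fiber_restrict_iff (U : Y.Opens) (y : Y) (hy : y ∈ U) :
    IsEmpty ((f ∣_ U).fiber ⟨y, hy⟩) ↔ IsEmpty (f.fiber y) := by
  obtain ⟨e, r, he, hr, hw⟩ := exists_fiber_restrict_iso f U y hy
  constructor
  · intro h
    exact ⟨fun z => h.false ((inv e).base z)⟩
  · intro h
    exact ⟨fun z => h.false (e.base z)⟩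

set_option backward.isDefEq.respectTransparency.types false in
/-- the fibre of a closed immersion is empty or the spectrum of the residue field. -/
theorem isEmpty_or_isIso_of_isClosedImmersion [IsClosedImmersion f] (y : Y) :
    IsEmpty (f.fiber y) ∨ IsIso (f.fiberToSpecResidueField y) := by
  by_cases hne : Nonempty (f.fiber y)
  · right
    haveI : IsClosedImmersion (f.fiberToSpecResidueField y) := by
      unfold Scheme.Hom.fiberToSpecResidueField
      exact MorphismProperty.pullback_snd _ _ inferInstance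
    haveI : Surjective (f.fiberToSpecResidueField y) := by
      constructor
      intro p
      obtain ⟨z⟩ := hne
      exact ⟨z, Subsingleton.elim (α := PrimeSpectrum _) _ _⟩
    exact isIso_of_isClosedImmersion_of_surjective _
  · left
    exact not_nonempty_iff.mp hne


/-- Nakayama: a finite algebra whose fibre at `p` is `κ(p)` is a quotient near `p`. -/
theorem exists_smul_mem_range_of_fiber_bijective {R S : Type u} [CommRing R] [CommRing S]
    [Algebra R S] [Module.Finite R S] (p : PrimeSpectrum R)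
    (h : Function.Surjective (algebraMap p.asIdeal.ResidueField (p.asIdeal.Fiber S))) :
    ∃ s : R, s ∉ p.asIdeal ∧ ∀ c : S, ∃ a : R, algebraMap R S s * c = algebraMap R S a := by
  let N : Submodule R S := LinearMap.range (Algebra.linearMap R S)
  let Q := S ⧸ N
  have hsub : Subsingleton (TensorProduct R p.asIdeal.ResidueField Q) := by
    refine ⟨fun a b => ?_⟩
    suffices ∀ t : TensorProduct R p.asIdeal.ResidueField Q, t = 0 by rw [this a, this b]
    intro t
    induction t using TensorProduct.induction_on with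
    | zero => rfl
    | add x y hx hy => rw [hx, hy, add_zero]
    | tmul a q =>
      obtain ⟨c, rfl⟩ := Submodule.Quotient.mk_surjective N q
      obtain ⟨b, hb⟩ := h (a ⊗ₜ[R] c)
      have h1 : a ⊗ₜ[R] (N.mkQ c) =
          (LinearMap.lTensor p.asIdeal.ResidueField N.mkQ) (a ⊗ₜ[R] c) := rfl
      have h2 : algebraMap p.asIdeal.ResidueField (p.asIdeal.Fiber S) b = b ⊗ₜ[R] (1 : S) :=
        Algebra.TensorProduct.algebraMap_apply b
      change a ⊗ₜ[R] (N.mkQ c) = 0
      rw [h1, ← hb, h2, LinearMap.lTensor_tmul]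
      have h3 : N.mkQ (1 : S) = 0 := by
        rw [Submodule.mkQ_apply, Submodule.Quotient.mk_eq_zero]
        exact ⟨1, by simp⟩
      rw [h3, TensorProduct.tmul_zero]
  have hnot : p ∉ Module.support R Q := by
    rw [Module.mem_support_iff_nontrivial_residueField_tensorProduct]
    exact not_nontrivial_iff_subsingleton.mpr hsub
  rw [Module.support_eq_zeroLocus, PrimeSpectrum.mem_zeroLocus, Set.not_subset] at hnot
  obtain ⟨s, hsann, hsp⟩ := hnot
  refine ⟨s, hsp, fun c => ?_⟩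
  have h1 : s • (N.mkQ c) = 0 := Module.mem_annihilator.mp hsann _
  have h2 : N.mkQ (s • c) = 0 := by rw [map_smul]; exact h1
  rw [Submodule.mkQ_apply, Submodule.Quotient.mk_eq_zero] at h2
  obtain ⟨a, ha⟩ := h2
  refine ⟨a, ?_⟩
  rw [← Algebra.smul_def]
  exact ha.symm


set_option backward.isDefEq.respectTransparency.types false in
/-- the fibre of `f` at a point of an affine open with affine preimage, in terms of rings. -/
theorem fiber_algebraMap_bijective_of_isIso {U : Y.Opens} (hU : IsAffineOpen U)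
    (hfU : IsAffineOpen (f ⁻¹ᵁ U)) (p : ↥(Spec Γ(Y, U)))
    (hiso : IsIso (f.fiberToSpecResidueField (hU.fromSpec.base p))) :
    letI : Algebra Γ(Y, U) Γ(X, f ⁻¹ᵁ U) := (f.app U).hom.toAlgebra
    Function.Bijective (algebraMap (PrimeSpectrum.asIdeal (R := Γ(Y, U)) p).ResidueField
      ((PrimeSpectrum.asIdeal (R := Γ(Y, U)) p).Fiber Γ(X, f ⁻¹ᵁ U))) := by
  letI : Algebra Γ(Y, U) Γ(X, f ⁻¹ᵁ U) := (f.app U).hom.toAlgebra
  have hcomm : hfU.fromSpec ≫ f = Spec.map (f.app U) ≫ hU.fromSpec := by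
    rw [Scheme.Hom.app_eq_appLE]
    exact (IsAffineOpen.SpecMap_appLE_fromSpec f hU hfU le_rfl).symm
  have hpb : IsPullback (Spec.map (f.app U)) hfU.fromSpec hU.fromSpec f := by
    apply IsOpenImmersion.isPullback _ _ _ _ hcomm
    rw [hU.opensRange_fromSpec, hfU.opensRange_fromSpec]
  have h := isPullback_fiberToSpecResidueField_of_isPullback hpb.flip p
  haveI : IsIso (hU.fromSpec.residueFieldMap p) := inferInstance
  haveI : IsIso (Spec.map (hU.fromSpec.residueFieldMap p)) := inferInstance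
  haveI h1 := h.isIso_fst_of_isIso
  have h2 : IsIso ((Spec.map (f.app U)).fiberToSpecResidueField p) := by
    have h3 := (IsIso.eq_comp_inv (Spec.map (hU.fromSpec.residueFieldMap p))).mpr h.w.symm
    rw [h3]
    exact IsIso.comp_isIso' (IsIso.comp_isIso' h1 hiso) inferInstance
  have e := Spec.fiberToSpecResidueFieldIso Γ(Y, U) Γ(X, f ⁻¹ᵁ U) p
  have h4 : IsIso (Spec.map (CommRingCat.ofHom
      (algebraMap (PrimeSpectrum.asIdeal (R := Γ(Y, U)) p).ResidueField
        ((PrimeSpectrum.asIdeal (R := Γ(Y, U)) p).Fiber Γ(X, f ⁻¹ᵁ U))))) :=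
    ((MorphismProperty.isomorphisms Scheme).arrow_mk_iso_iff e).mp h2
  have h5 : IsIso (CommRingCat.ofHom
      (algebraMap (PrimeSpectrum.asIdeal (R := Γ(Y, U)) p).ResidueField
        ((PrimeSpectrum.asIdeal (R := Γ(Y, U)) p).Fiber Γ(X, f ⁻¹ᵁ U)))) := by
    haveI h6 : IsIso (Scheme.Spec.map (CommRingCat.ofHom
      (algebraMap (PrimeSpectrum.asIdeal (R := Γ(Y, U)) p).ResidueField
        ((PrimeSpectrum.asIdeal (R := Γ(Y, U)) p).Fiber Γ(X, f ⁻¹ᵁ U)))).op) := h4
    haveI h7 := isIso_of_reflects_iso (CommRingCat.ofHom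
      (algebraMap (PrimeSpectrum.asIdeal (R := Γ(Y, U)) p).ResidueField
        ((PrimeSpectrum.asIdeal (R := Γ(Y, U)) p).Fiber Γ(X, f ⁻¹ᵁ U)))).op Scheme.Spec
    exact isIso_of_op _
  exact (ConcreteCategory.isIso_iff_bijective _).mp h5


/-- shrinking the target so that the preimage avoids a closed set missing the fibre. -/
theorem exists_open_preimage_disjoint (V : Y.Opens) (hcl : IsClosedMap (f ∣_ V).base)
    (C : Set X) (hC : IsClosed C) (y : Y) (hy : y ∈ V) (hdisj : ∀ x ∈ C, f.base x ≠ y) :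
    ∃ O : Y.Opens, y ∈ O ∧ O ≤ V ∧ ∀ x, f.base x ∈ O → x ∉ C := by
  let C' : Set ↥(f ⁻¹ᵁ V) := {z | z.1 ∈ C}
  have hC' : IsClosed C' := hC.preimage continuous_subtype_val
  have hD : IsClosed ((f ∣_ V).base '' C') := hcl _ hC'
  let D' : V.toScheme.Opens := ⟨((f ∣_ V).base '' C')ᶜ, hD.isOpen_compl⟩
  have hyD : (⟨y, hy⟩ : V) ∈ D' := by
    rintro ⟨z, hz, hzy⟩
    apply hdisj z.1 hz
    have := congrArg Subtype.val hzy
    rwa [morphismRestrict_base_coe] at this
  refine ⟨V.ι ''ᵁ D', ⟨⟨y, hy⟩, hyD, rfl⟩, ?_, ?_⟩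
  · rintro _ ⟨v, -, rfl⟩
    exact v.2
  · rintro x ⟨v, hv, hvx⟩ hxC
    have hvx' : v.1 = f.base x := hvx
    have hxV : x ∈ f ⁻¹ᵁ V := by
      change f.base x ∈ V
      rw [← hvx']; exact v.2
    apply hv
    refine ⟨⟨x, hxV⟩, hxC, ?_⟩
    apply Subtype.ext
    rw [morphismRestrict_base_coe]
    exact hvx'.symm


/-- if `s` kills the cokernel of `Γ(Y, U) → Γ(X, f⁻¹ U)` (both affine), then `f` is a closed
immersion over `D(s)`. -/
theorem isClosedImmersion_morphismRestrict_basicOpen {U : Y.Opens} (hU : IsAffineOpen U)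
    (hfU : IsAffineOpen (f ⁻¹ᵁ U)) (s : Γ(Y, U))
    (hS : ∀ c : Γ(X, f ⁻¹ᵁ U), ∃ a : Γ(Y, U), (f.app U).hom s * c = (f.app U).hom a) :
    IsClosedImmersion (f ∣_ Y.basicOpen s) := by
  set φ := (f.app U).hom with hφdef
  have hD : IsAffineOpen (Y.basicOpen s) := hU.basicOpen s
  have hpre : f ⁻¹ᵁ Y.basicOpen s = X.basicOpen (φ s) := Scheme.preimage_basicOpen f s
  have hfD : IsAffineOpen (f ⁻¹ᵁ Y.basicOpen s) := by
    rw [hpre]; exact hfU.basicOpen _
  have hsurj : Function.Surjective (f.app (Y.basicOpen s)).hom := by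
    intro t
    have hle : f ⁻¹ᵁ Y.basicOpen s ≤ f ⁻¹ᵁ U := f.preimage_mono (Y.basicOpen_le s)
    have key : ∀ (W : X.Opens) (e : W = X.basicOpen (φ s)) (hW : W ≤ f ⁻¹ᵁ U) (t : Γ(X, W)),
        ∃ (k : ℕ) (c : Γ(X, f ⁻¹ᵁ U)),
          (X.presheaf.map (homOfLE hW).op).hom (φ s) ^ k * t =
            (X.presheaf.map (homOfLE hW).op).hom c := by
      rintro W rfl hW t
      obtain ⟨k, c, hc⟩ := exists_eq_pow_mul_of_isAffineOpen X (f ⁻¹ᵁ U) hfU (φ s) t
      exact ⟨k, c, hc.symm⟩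
    obtain ⟨k, c, hkc⟩ := key _ hpre hle t
    obtain ⟨a, ha⟩ := hS c
    have hunit : IsUnit ((Y.presheaf.map (homOfLE (Y.basicOpen_le s)).op).hom s) :=
      RingedSpace.isUnit_res_basicOpen Y.toRingedSpace s
    obtain ⟨u, hu⟩ := hunit
    have hnat : ∀ r : Γ(Y, U), (f.app (Y.basicOpen s)).hom
        ((Y.presheaf.map (homOfLE (Y.basicOpen_le s)).op).hom r) =
        (X.presheaf.map (homOfLE hle).op).hom (φ r) := by
      intro r
      have := f.naturality (homOfLE (Y.basicOpen_le s)).op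
      exact congr($(this).hom r)
    refine ⟨((u⁻¹ : (Γ(Y, Y.basicOpen s))ˣ) : Γ(Y, Y.basicOpen s)) ^ (k + 1) *
      (Y.presheaf.map (homOfLE (Y.basicOpen_le s)).op).hom a, ?_⟩
    have hus : (f.app (Y.basicOpen s)).hom (u : Γ(Y, Y.basicOpen s)) =
        (X.presheaf.map (homOfLE hle).op).hom (φ s) := by
      rw [hu, hnat]
    have hunit2 : IsUnit ((X.presheaf.map (homOfLE hle).op).hom (φ s)) := by
      rw [← hus]; exact (u.isUnit).map _
    have h3 : (X.presheaf.map (homOfLE hle).op).hom (φ s) ^ (k + 1) * t =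
        (X.presheaf.map (homOfLE hle).op).hom (φ a) := by
      rw [← ha, map_mul, pow_succ', mul_assoc, hkc]
    apply (hunit2.pow (k + 1)).mul_left_cancel
    rw [h3, map_mul, map_pow, hnat, ← hus, ← mul_assoc, ← mul_pow, ← map_mul, Units.mul_inv,
      map_one, one_pow, one_mul]
  haveI : IsAffine (Y.basicOpen s) := hD
  haveI : IsAffine (f ⁻¹ᵁ Y.basicOpen s) := hfD
  apply IsClosedImmersion.of_surjective_of_isAffine
  have e := arrowResLEAppIso f (Y.basicOpen s) (f ⁻¹ᵁ Y.basicOpen s) le_rfl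
  rw [Scheme.Hom.resLE_eq_morphismRestrict] at e
  have h2 : Function.Surjective (f.appLE (Y.basicOpen s) (f ⁻¹ᵁ Y.basicOpen s) le_rfl).hom := by
    rw [← Scheme.Hom.app_eq_appLE]; exact hsurj
  exact (RingHom.surjective_respectsIso.arrow_mk_iso_iff e).mpr h2


/-- if the fibre over `y` is `Spec κ(y)` and `f` is universally closed near `y`, then `f` is
finite over a neighbourhood of `y`. -/
theorem exists_isFinite_of_fiber_isIso [LocallyOfFiniteType f] (y : Y)
    (hiso : IsIso (f.fiberToSpecResidueField y)) (V : Y.Opens) (hyV : y ∈ V)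
    (hV : UniversallyClosed (f ∣_ V)) :
    ∃ U : Y.Opens, y ∈ U ∧ IsFinite (f ∣_ U) := by
  -- the unique point of the fibre
  have hbij : Function.Bijective (f.fiberToSpecResidueField y).base :=
    (f.fiberToSpecResidueField y).homeomorph.bijective
  obtain ⟨x₀, -⟩ := hbij.2 (IsLocalRing.closedPoint (Y.residueField y))
  have hx₀ : ∀ z : f.fiber y, z = x₀ := fun z =>
    hbij.1 (Subsingleton.elim (α := PrimeSpectrum (Y.residueField y)) _ _)
  set x := (f.fiberι y).base x₀ with hxdef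
  have hx : f.base x = y := (f.fiberHomeo y x₀).2
  have huniq : ∀ z : X, f.base z = y → z = x := by
    intro z hz
    have hz' : z ∈ Set.range (f.fiberι y).base := by
      rw [Scheme.Hom.range_fiberι]; exact hz
    obtain ⟨z₀, rfl⟩ := hz'
    rw [hx₀ z₀]
  -- affine neighbourhoods
  obtain ⟨_, ⟨V₀, hV₀ : IsAffineOpen V₀, rfl⟩, hyV₀, hV₀V⟩ :=
    Y.isBasis_affineOpens.exists_subset_of_mem_open hyV V.isOpen
  have hV₀V' : V₀ ≤ V := hV₀V
  obtain ⟨_, ⟨W, hW : IsAffineOpen W, rfl⟩, hxW, hWV₀⟩ :=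
    X.isBasis_affineOpens.exists_subset_of_mem_open
      (show x ∈ f ⁻¹ᵁ V₀ from by change f.base x ∈ V₀; rw [hx]; exact hyV₀) (f ⁻¹ᵁ V₀).isOpen
  have e : W ≤ f ⁻¹ᵁ V₀ := hWV₀
  obtain ⟨O, hyO, hOV, hO⟩ := exists_open_preimage_disjoint f V (f ∣_ V).isClosedMap
    (W : Set X)ᶜ W.isOpen.isClosed_compl y hyV (by
      intro z hz hzy
      exact hz (huniq z hzy ▸ hxW))
  obtain ⟨s, hsle, hys⟩ := hV₀.exists_basicOpen_le (V := O ⊓ V₀) ⟨y, ⟨hyO, hyV₀⟩⟩ hyV₀
  set U₂ : Y.Opens := Y.basicOpen s with hU₂def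
  have hU₂ : IsAffineOpen U₂ := hV₀.basicOpen s
  have hU₂O : U₂ ≤ O := hsle.trans inf_le_left
  have hU₂V : U₂ ≤ V := hU₂O.trans hOV
  have hpreW : f ⁻¹ᵁ U₂ ≤ W := by
    intro z hz
    by_contra hzW
    exact hO z (hU₂O hz) hzW
  set ψ := (f.appLE V₀ W e).hom with hψdef
  have hfU₂eq : f ⁻¹ᵁ U₂ = X.basicOpen (ψ s) := by
    have h1 : ψ s = (X.presheaf.map (homOfLE e).op).hom ((f.app V₀).hom s) := rfl
    rw [h1, Scheme.basicOpen_res, ← Scheme.preimage_basicOpen]
    exact (inf_eq_right.mpr hpreW).symm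
  have hfU₂ : IsAffineOpen (f ⁻¹ᵁ U₂) := by rw [hfU₂eq]; exact hW.basicOpen _
  -- properness of the restriction
  haveI : IsAffine U₂ := hU₂
  haveI : IsAffine (f ⁻¹ᵁ U₂) := hfU₂
  haveI : IsAffineHom (f ∣_ U₂) := isAffineHom_of_isAffine _
  haveI : UniversallyClosed (f ∣_ U₂) :=
    PushO.morphismRestrict_of_le (P := @UniversallyClosed) f hU₂V hV
  haveI : IsProper (f ∣_ U₂) := {}
  have hfin : ((f ∣_ U₂).base ⁻¹' {(⟨y, hys⟩ : U₂)}).Finite := by
    apply Set.Finite.subset (Set.finite_singleton (⟨x, by change f.base x ∈ U₂; rw [hx]; exact hys⟩ :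
      ↥(f ⁻¹ᵁ U₂)))
    intro z hz
    have hz' : (f ∣_ U₂).base z = ⟨y, hys⟩ := hz
    have h1 := congrArg Subtype.val hz'
    rw [morphismRestrict_base_coe] at h1
    exact Subtype.ext (huniq z.1 h1)
  obtain ⟨V₃, hyV₃, hV₃⟩ :=
    exists_isFinite_morphismRestrict_of_finite_preimage_singleton (f ∣_ U₂) ⟨y, hys⟩ hfin
  refine ⟨U₂.ι ''ᵁ V₃, ⟨⟨y, hys⟩, hyV₃, rfl⟩, ?_⟩
  exact (MorphismProperty.arrow_mk_iso_iff @IsFinite (morphismRestrictRestrict f U₂ V₃)).mp hV₃


/-- a morphism finite near `y` whose fibre over `y` is `Spec κ(y)` is a closed immersion near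
`y`. -/
theorem exists_isClosedImmersion_of_isFinite (y : Y)
    (hiso : IsIso (f.fiberToSpecResidueField y)) (U₃ : Y.Opens) (hyU₃ : y ∈ U₃)
    (hfin : IsFinite (f ∣_ U₃)) :
    ∃ U : Y.Opens, y ∈ U ∧ IsClosedImmersion (f ∣_ U) := by
  obtain ⟨_, ⟨U, hU : IsAffineOpen U, rfl⟩, hyU, hUU₃⟩ :=
    Y.isBasis_affineOpens.exists_subset_of_mem_open hyU₃ U₃.isOpen
  have hle : U ≤ U₃ := hUU₃
  have hfinU : IsFinite (f ∣_ U) := PushO.morphismRestrict_of_le (P := @IsFinite) f hle hfin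
  haveI : IsAffine U := hU
  rw [HasAffineProperty.iff_of_isAffine (P := @IsFinite)] at hfinU
  obtain ⟨haff, hfinapp⟩ := hfinU
  have hfU : IsAffineOpen (f ⁻¹ᵁ U) := haff
  have hφfin : (f.app U).hom.Finite := by
    have e := arrowResLEAppIso f U (f ⁻¹ᵁ U) le_rfl
    rw [Scheme.Hom.resLE_eq_morphismRestrict] at e
    have h2 := (RingHom.finite_respectsIso.arrow_mk_iso_iff e).mp hfinapp
    rwa [← Scheme.Hom.app_eq_appLE] at h2
  obtain ⟨p, rfl⟩ : ∃ p : ↥(Spec Γ(Y, U)), hU.fromSpec.base p = y := by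
    have : y ∈ Set.range hU.fromSpec.base := by rw [hU.range_fromSpec]; exact hyU
    exact this
  letI : Algebra Γ(Y, U) Γ(X, f ⁻¹ᵁ U) := (f.app U).hom.toAlgebra
  haveI : Module.Finite Γ(Y, U) Γ(X, f ⁻¹ᵁ U) := hφfin
  have hb := fiber_algebraMap_bijective_of_isIso f hU hfU p hiso
  obtain ⟨s, hsp, hS⟩ := exists_smul_mem_range_of_fiber_bijective
    (R := Γ(Y, U)) (S := Γ(X, f ⁻¹ᵁ U)) (p : PrimeSpectrum Γ(Y, U)) hb.2
  refine ⟨Y.basicOpen s, ?_, isClosedImmersion_morphismRestrict_basicOpen f hU hfU s hS⟩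
  rw [← hU.fromSpec_image_basicOpen]
  exact ⟨p, hsp, rfl⟩

/-- **EGA IV 18.12.6-type criterion**: `f` (locally of finite type) is a closed immersion over a
neighbourhood of `y` iff the fibre over `y` is empty or `Spec κ(y)` and `f` is universally closed
over a neighbourhood of `y`. -/
theorem exists_isClosedImmersion_iff [LocallyOfFiniteType f] (y : Y) :
    (∃ U : Y.Opens, y ∈ U ∧ IsClosedImmersion (f ∣_ U)) ↔
      ((IsEmpty ↥(f.fiber y) ∨ IsIso (f.fiberToSpecResidueField y)) ∧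
        ∃ V : Y.Opens, y ∈ V ∧ UniversallyClosed (f ∣_ V)) := by
  constructor
  · rintro ⟨U, hyU, hU⟩
    refine ⟨?_, U, hyU, inferInstance⟩
    rcases isEmpty_or_isIso_of_isClosedImmersion (f ∣_ U) ⟨y, hyU⟩ with h | h
    · left; exact (isEmpty_fiber_restrict_iff f U y hyU).mp h
    · right; exact (isIso_fiberToSpecResidueField_restrict_iff f U y hyU).mp h
  · rintro ⟨hfib, V, hyV, hV⟩
    rcases hfib with hemp | hiso
    · obtain ⟨O, hyO, -, hO⟩ := exists_open_preimage_disjoint f V (f ∣_ V).isClosedMap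
        Set.univ isClosed_univ y hyV (by
          intro z _ hzy
          have hz' : z ∈ Set.range (f.fiberι y).base := by
            rw [Scheme.Hom.range_fiberι]; exact hzy
          obtain ⟨z₀, -⟩ := hz'
          exact hemp.false z₀)
      refine ⟨O, hyO, ?_⟩
      haveI : IsEmpty ↥((f ⁻¹ᵁ O).toScheme) := ⟨fun z => hO z.1 z.2 trivial⟩
      infer_instance
    · obtain ⟨U₃, hyU₃, hfin⟩ := exists_isFinite_of_fiber_isIso f y hiso V hyV hV
      exact exists_isClosedImmersion_of_isFinite f y hiso U₃ hyU₃ hfin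

end Groth.Agent.H1.ClImmNear
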