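import Mathlib
import Groth.Prelude.Def_AlgGrp
import Groth.Agent.Lib.Helper1.GrpFib
import Groth.Agent.Lib.Helper1.FibDimFP

/-! Semicontinuity and local constructibility of `s ↦ dim G_s` for a group scheme locally of
finite type (SGA3 VI_B 4.1) (helper1). -/

set_option autoImplicit false
set_option linter.style.haveILetI false
universe u

namespace Groth.Agent.H1.GrpDimSc

open CategoryTheory CategoryTheory.Limits MonoidalCategory CartesianMonoidalCategory MonObj GrpObj
  AlgebraicGeometry Topology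

variable {S : Scheme.{u}} (G : Over S) [GrpObj G]

theorem cast_le_iff (a b : ℕ) : (a : WithBot ℕ∞) ≤ (b : WithBot ℕ∞) ↔ a ≤ b :=
  ⟨fun h => by exact_mod_cast h, fun h => by exact_mod_cast h⟩

theorem cast_eq_iff (a b : ℕ) : (a : WithBot ℕ∞) = (b : WithBot ℕ∞) ↔ a = b := by
  constructor
  · intro h
    exact le_antisymm ((cast_le_iff a b).1 h.le) ((cast_le_iff b a).1 h.ge)
  · intro h; rw [h]

theorem s5329 [LocallyOfFiniteType G.hom] :
    UpperSemicontinuous (fun s : S => topologicalKrullDim ↥(G.hom.base ⁻¹' {s})) ∧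
    (LocallyOfFinitePresentation G.hom → ∀ s : S, ∃ V : S.Opens, s ∈ V ∧
      ((fun t : S => topologicalKrullDim ↥(G.hom.base ⁻¹' {t})) '' (V : Set S)).Finite ∧
      ∀ d : WithBot ℕ∞, Topology.IsConstructible
        {t : V | topologicalKrullDim ↥(G.hom.base ⁻¹' {(t : S)}) = d}) := by
  have hD : ∀ s : S, topologicalKrullDim ↥(G.hom.base ⁻¹' {s}) =
      FlatMor.fibreDimAt G.hom ((GrpFib.unitSec G).base s) := fun s => GrpFib.dim_preimage_eq G s
  have hnat : ∀ s : S, ∃ n : ℕ,
      FlatMor.fibreDimAt G.hom ((GrpFib.unitSec G).base s) = (n : WithBot ℕ∞) :=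
    fun s => GrpFib.exists_fibreDimAt_eq_natCast G.hom _
  have hopen : ∀ n : ℕ, IsOpen {s : S |
      FlatMor.fibreDimAt G.hom ((GrpFib.unitSec G).base s) ≤ (n : WithBot ℕ∞)} := fun n =>
    (Groth.Agent.H1.Chev.isOpen_fibreDimAt_le G.hom n).preimage (GrpFib.unitSec G).continuous
  refine ⟨?_, ?_⟩
  · intro s y hy
    obtain ⟨n, hn⟩ := hnat s
    have hmem : {s' : S | FlatMor.fibreDimAt G.hom ((GrpFib.unitSec G).base s') ≤
        (n : WithBot ℕ∞)} ∈ 𝓝 s :=
      (hopen n).mem_nhds (show FlatMor.fibreDimAt G.hom ((GrpFib.unitSec G).base s) ≤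
        (n : WithBot ℕ∞) from le_of_eq hn)
    filter_upwards [hmem] with s' hs'
    show topologicalKrullDim ↥(G.hom.base ⁻¹' {s'}) < y
    have hy' : topologicalKrullDim ↥(G.hom.base ⁻¹' {s}) < y := hy
    rw [hD s'] 
    rw [hD s, hn] at hy'
    exact lt_of_le_of_lt hs' hy'
  · intro hfp s
    obtain ⟨_, ⟨V, hV, rfl⟩, hsV, -⟩ :=
      S.isBasis_affineOpens.exists_subset_of_mem_open (Set.mem_univ s) isOpen_univ
    refine ⟨V, hsV, ?_, ?_⟩
    · have hcov : (V : Set S) ⊆ ⋃ n : ℕ, {s : S |
          FlatMor.fibreDimAt G.hom ((GrpFib.unitSec G).base s) ≤ (n : WithBot ℕ∞)} := by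
        intro t _
        obtain ⟨n, hn⟩ := hnat t
        exact Set.mem_iUnion.2 ⟨n, show FlatMor.fibreDimAt G.hom ((GrpFib.unitSec G).base t) ≤
          (n : WithBot ℕ∞) from le_of_eq hn⟩
      obtain ⟨N, hN⟩ := hV.isCompact.elim_directed_cover _ hopen hcov (by
        intro a b
        refine ⟨max a b, fun x hx => le_trans hx ((cast_le_iff _ _).2 (le_max_left a b)),
          fun x hx => le_trans hx ((cast_le_iff _ _).2 (le_max_right a b))⟩)
      refine ((Set.finite_Iic N).image (fun k : ℕ => (k : WithBot ℕ∞))).subset ?_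
      rintro _ ⟨t, ht, rfl⟩
      obtain ⟨k, hk⟩ := hnat t
      have h1 : FlatMor.fibreDimAt G.hom ((GrpFib.unitSec G).base t) ≤ (N : WithBot ℕ∞) := hN ht
      rw [hk] at h1
      refine ⟨k, (cast_le_iff _ _).1 h1, ?_⟩
      show (k : WithBot ℕ∞) = topologicalKrullDim ↥(G.hom.base ⁻¹' {t})
      rw [hD t, hk]
    · intro d
      have hW : ∀ n : ℕ, IsConstructible
          {x : G.left | FlatMor.fibreDimAt G.hom x ≤ (n : WithBot ℕ∞)} := fun n =>
        (Groth.Agent.H1.FibDimFP.isRetrocompact_fibreDimAt_le G.hom n).isConstructible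
          (Groth.Agent.H1.Chev.isOpen_fibreDimAt_le G.hom n)
      have hC : ∀ n : ℕ, IsConstructible {t : V |
          FlatMor.fibreDimAt G.hom ((GrpFib.unitSec G).base (t : S)) ≤ (n : WithBot ℕ∞)} :=
        fun n => (Scheme.Opens.ι V ≫ GrpFib.unitSec G).isConstructible_preimage (hW n)
      by_cases hd : ∃ n : ℕ, d = (n : WithBot ℕ∞)
      · obtain ⟨n, rfl⟩ := hd
        rcases Nat.eq_zero_or_pos n with h0 | hpos
        · subst h0
          convert hC 0 using 1
          ext t
          simp only [Set.mem_ofPred_eq]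
          rw [hD]
          constructor
          · intro h; rw [h]
          · intro h
            exact le_antisymm h (FlatFibDim.fibreDimAt_nonneg G.hom _)
        · obtain ⟨m, rfl⟩ : ∃ m, n = m + 1 := ⟨n - 1, by omega⟩
          convert (hC (m + 1)).sdiff (hC m) using 1
          ext t
          simp only [Set.mem_ofPred_eq, Set.mem_sdiff]
          rw [hD]
          obtain ⟨k, hk⟩ := hnat (t : S)
          rw [hk, cast_eq_iff, cast_le_iff, cast_le_iff]
          omega
      · convert IsConstructible.empty using 1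
        ext t
        simp only [Set.mem_ofPred_eq, Set.mem_empty_iff_false, iff_false]
        intro h
        apply hd
        obtain ⟨k, hk⟩ := hnat (t : S)
        exact ⟨k, by rw [← h, hD, hk]⟩

end Groth.Agent.H1.GrpDimSc
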