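import Groth.Agent.Lib.Lead.QC.FlatBC
import Groth.Agent.Lib.Lead.QC.FinPres
import Groth.Agent.Lib.Helper1.LimFlat4

/-!
# Bridge: flatness of quasi-coherent modules on schemes vs. localized modules of sections
-/

set_option autoImplicit false

universe u

open CategoryTheory Limits AlgebraicGeometry TopologicalSpace Opposite

namespace Groth.Agent.H1.SchFlat

open Groth.Agent.LD.QC

/-- flatness over a base of two localizations of the same module at the same submonoid -/
theorem flat_iff_of_isLocalizedModule {R B : Type*} [CommRing R] [CommRing B] [Algebra R B]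
    (T : Submonoid B) {M N N' : Type*} [AddCommGroup M] [Module B M] [Module R M]
    [IsScalarTower R B M] [AddCommGroup N] [Module B N] [Module R N] [IsScalarTower R B N]
    [AddCommGroup N'] [Module B N'] [Module R N'] [IsScalarTower R B N']
    (g : M →ₗ[B] N) (g' : M →ₗ[B] N') [IsLocalizedModule T g] [IsLocalizedModule T g'] :
    Module.Flat R N ↔ Module.Flat R N' :=
  ⟨fun _ => Groth.Agent.H1.FlatLocus.flat_of_isLocalizedModule_of_le (R := R) (B := B) T g T le_rfl g',
    fun _ => Groth.Agent.H1.FlatLocus.flat_of_isLocalizedModule_of_le (R := R) (B := B) T g' T le_rfl g⟩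

variable {X S : Scheme.{u}}

lemma mem_basicOpen_of_notMem {U : X.Opens} (hU : IsAffineOpen U) (x : X) (hx : x ∈ U)
    (g : Γ(X, U)) (hg : g ∉ (hU.primeIdealOf ⟨x, hx⟩).asIdeal) : x ∈ X.basicOpen g := by
  letI : Algebra Γ(X, U) (X.presheaf.stalk x) :=
    TopCat.Presheaf.algebra_section_stalk X.presheaf ⟨x, hx⟩
  haveI := hU.isLocalization_stalk ⟨x, hx⟩
  rw [X.mem_basicOpen g x hx]
  exact (IsLocalization.AtPrime.isUnit_to_map_iff (X.presheaf.stalk x)
    (hU.primeIdealOf ⟨x, hx⟩).asIdeal g).mpr hg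

/-- the `Γ(S,V)`-algebra structure on `Γ(X,U)` for `U ≤ f⁻¹V` -/
noncomputable abbrev algΓ (f : X ⟶ S) {U : X.Opens} {V : S.Opens} (hUV : U ≤ f ⁻¹ᵁ V) :
    Algebra Γ(S, V) Γ(X, U) := (f.appLE V U hUV).hom.toAlgebra

theorem isScalarTower_sections (f : X ⟶ S) (M : X.Modules) {U : X.Opens} {V : S.Opens}
    (hUV : U ≤ f ⁻¹ᵁ V) :
    letI := algΓ f hUV
    letI := sectionsModuleOver f M hUV
    IsScalarTower Γ(S, V) Γ(X, U) Γ(M, U) := by
  letI := algΓ f hUV
  letI := sectionsModuleOver f M hUV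
  exact ⟨fun a b m => by
    change (f.appLE V U hUV a * b) • m = f.appLE V U hUV a • (b • m)
    rw [mul_smul]⟩

/-- **Flatness at a point via sections over affine charts.** -/
theorem isFlatOverAt_iff_flat_localizedModule (f : X ⟶ S) (M : X.Modules) [M.IsQuasicoherent]
    {U : X.Opens} {V : S.Opens} (hU : IsAffineOpen U) (hV : IsAffineOpen V) (hUV : U ≤ f ⁻¹ᵁ V)
    (x : X) (hx : x ∈ U) :
    letI := algΓ f hUV
    letI := sectionsModuleOver f M hUV
    haveI := isScalarTower_sections f M hUV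
    FlatMod.IsFlatOverAt f M x ↔
      Module.Flat Γ(S, V)
        (LocalizedModule (hU.primeIdealOf ⟨x, hx⟩).asIdeal.primeCompl Γ(M, U)) := by
  letI := algΓ f hUV
  letI := sectionsModuleOver f M hUV
  haveI := isScalarTower_sections f M hUV
  letI := stalkΓModule M x U hx
  letI := stalkΓModuleOver f M hUV x hx
  haveI : IsScalarTower Γ(S, V) Γ(X, U) (M.presheaf.stalk x) := ⟨fun a b m => by
    change X.presheaf.germ U x hx (f.appLE V U hUV a * b) • m =
      X.presheaf.germ U x hx (f.appLE V U hUV a) • (X.presheaf.germ U x hx b • m)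
    rw [map_mul, mul_smul]⟩
  haveI := isLocalizedModule_germ M hU x hx
  have h1 := flat_stalk_iff_flat_stalkΓ f M hV hUV x hx
  have h2 := flat_iff_of_isLocalizedModule (R := Γ(S, V)) (B := Γ(X, U))
    (hU.primeIdealOf ⟨x, hx⟩).asIdeal.primeCompl (germLinear M x U hx)
    (LocalizedModule.mkLinearMap (hU.primeIdealOf ⟨x, hx⟩).asIdeal.primeCompl Γ(M, U))
  exact h1.trans h2

/-- **EGA IV 11.3.1 (modules).** For `f` locally of finite presentation and `F` quasi-coherent of
finite presentation, the `f`-flat locus of `F` is open. -/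
theorem isOpen_setOf_isFlatOverAt {Y : Scheme.{u}} (f : X ⟶ Y) [LocallyOfFinitePresentation f]
    (F : X.Modules) [F.IsQuasicoherent] (hF : F.IsFinitePresentation) :
    IsOpen {x : X | FlatMod.IsFlatOverAt f F x} := by
  rw [isOpen_iff_forall_mem_open]
  intro x hxflat
  obtain ⟨V, hV, hfxV, -⟩ := exists_isAffineOpen_mem_and_subset (x := f x) (U := ⊤) trivial
  obtain ⟨U, hU, hxU, hUV⟩ := exists_isAffineOpen_mem_and_subset (x := x) (U := f ⁻¹ᵁ V) hfxV
  letI := algΓ f hUV
  letI := sectionsModuleOver f F hUV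
  haveI := isScalarTower_sections f F hUV
  haveI : Algebra.FinitePresentation Γ(Y, V) Γ(X, U) := f.finitePresentation_appLE hV hU hUV
  haveI : Module.FinitePresentation Γ(X, U) Γ(F, U) :=
    finitePresentation_sections_of_isFinitePresentation F hF hU
  haveI : Module.Flat Γ(Y, V)
      (LocalizedModule (hU.primeIdealOf ⟨x, hxU⟩).asIdeal.primeCompl Γ(F, U)) :=
    (isFlatOverAt_iff_flat_localizedModule f F hU hV hUV x hxU).mp hxflat
  obtain ⟨g, hg, hflat⟩ := Groth.Agent.H1.LimFlat.exists_flat_nhd_of_finitePresentation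
    (R := Γ(Y, V)) (S := Γ(X, U)) (M := Γ(F, U)) (hU.primeIdealOf ⟨x, hxU⟩).asIdeal
  have hle : X.basicOpen g ≤ U := X.basicOpen_le g
  refine ⟨X.basicOpen g, ?_, (X.basicOpen g).isOpen, ?_⟩
  · intro x' hx'
    have hx'U : x' ∈ U := hle hx'
    rw [Set.mem_ofPred_eq, isFlatOverAt_iff_flat_localizedModule f F hU hV hUV x' hx'U]
    exact hflat _ (mem_primeCompl_of_mem_basicOpen hU x' hx'U g hx')
  · exact mem_basicOpen_of_notMem hU x hxU g hg

end Groth.Agent.H1.SchFlat
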