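import Mathlib

/-! Helper1: pullback of abelian sheaves along a continuous map is left exact;
pushforward preserves injectives. -/
open CategoryTheory Limits TopologicalSpace
universe u

namespace Groth.Agent.H1

attribute [local instance] reflectsLimits_of_reflectsIsomorphisms in
theorem topSheafPullback_preservesFiniteLimits {X Y : TopCat.{u}} (f : X ⟶ Y) :
    PreservesFiniteLimits (TopCat.Sheaf.pullback AddCommGrpCat.{u} f) := by
  unfold TopCat.Sheaf.pullback
  apply Functor.sheafPullbackConstruction.preservesFiniteLimits

theorem topSheafPushforward_injective {X Y : TopCat.{u}} (f : X ⟶ Y)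
    (I : TopCat.Sheaf AddCommGrpCat.{u} X) [Injective I] :
    Injective ((TopCat.Sheaf.pushforward AddCommGrpCat.{u} f).obj I) := by
  have := topSheafPullback_preservesFiniteLimits f
  exact Injective.injective_of_adjoint
    (TopCat.Sheaf.pullbackPushforwardAdjunction AddCommGrpCat.{u} f) I

end Groth.Agent.H1
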