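import Mathlib
import Groth.Agent.Lib.Helper9.Misc.AIC1

set_option autoImplicit false
universe u
open CategoryTheory CategoryTheory.Limits AlgebraicGeometry Polynomial

namespace Groth.Agent.H1.AICover

open Groth.Agent.H9

/-! ### Integrality of the tower -/

lemma toStep_isIntegral (A : Type u) [CommRing A] : (AIC.toStep A).IsIntegral := by
  intro x
  obtain ⟨p, rfl⟩ := Ideal.Quotient.mk_surjective x
  induction p using MvPolynomial.induction_on with
  | C a => exact (AIC.toStep A).isIntegralElem_map (x := a)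
  | add p q hp hq =>
    rw [map_add]; exact hp.add _ hq
  | mul_X p f hp =>
    rw [map_mul]
    refine hp.mul _ ⟨f.1, f.2.1, ?_⟩
    have h1 : f.1.eval₂ (AIC.toStep A) (Ideal.Quotient.mk (AIC.relIdeal A) (MvPolynomial.X f)) =
        Ideal.Quotient.mk (AIC.relIdeal A) (AIC.gen A f) := by
      rw [AIC.gen, Polynomial.aeval_def, Polynomial.hom_eval₂]
      rfl
    rw [h1, Ideal.Quotient.eq_zero_iff_mem]
    exact Ideal.subset_span ⟨f, rfl⟩

lemma toSucc_isIntegral (A : Type u) [CommRing A] (n : ℕ) : (AIC.toSucc A n).IsIntegral :=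
  @toStep_isIntegral (AIC.towerAux A n).1 (AIC.towerAux A n).2

lemma toLE_isIntegral (A : Type u) [CommRing A] (m n : ℕ) (h : m ≤ n) :
    (AIC.toLE A m n h).IsIntegral := by
  induction h with
  | refl =>
    rw [AIC.toLE_self]
    exact RingHom.isIntegral_of_surjective _ (fun x => ⟨x, rfl⟩)
  | step h ih =>
    rw [AIC.toLE_succ A m _ h]
    exact RingHom.IsIntegral.trans _ _ ih (toSucc_isIntegral A _)

lemma ofLim_isIntegral (A : Type u) [CommRing A] : (AIC.ofLim A 0).IsIntegral := by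
  intro y
  obtain ⟨n, x, rfl⟩ := Ring.DirectLimit.exists_of y
  obtain ⟨p, hpm, hp⟩ := toLE_isIntegral A 0 n (Nat.zero_le n) x
  refine ⟨p, hpm, ?_⟩
  have h2 : AIC.ofLim A 0 = (AIC.ofLim A n).comp (AIC.toLE A 0 n (Nat.zero_le n)) := by
    ext a
    exact (Ring.DirectLimit.of_f (Nat.zero_le n) a).symm
  rw [h2, ← Polynomial.hom_eval₂, hp, map_zero]

/-! ### Rings in which every monic polynomial of positive degree has a root -/

/-- every monic polynomial of positive degree has a root -/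
def HasRoots (B : Type u) [CommRing B] : Prop :=
  ∀ f : B[X], f.Monic → 0 < f.natDegree → ∃ b : B, f.IsRoot b

lemma hasRoots_lim (A : Type u) [CommRing A] : HasRoots (AIC.Lim A) := AIC.lim_exists_root A

lemma hasRoots_of_surjective {B C : Type u} [CommRing B] [CommRing C] (π : B →+* C)
    (hπ : Function.Surjective π) (hB : HasRoots B) : HasRoots C := by
  intro f hf hd
  have hlift : f ∈ Polynomial.lifts π := Polynomial.mem_lifts_of_surjective hπ f
  obtain ⟨q, hq, hqd, hqm⟩ := Polynomial.lifts_and_natDegree_eq_and_monic hlift hf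
  have hqd' : 0 < q.natDegree := by rw [hqd]; exact hd
  obtain ⟨b, hb⟩ := hB q hqm hqd'
  have hb' : q.eval b = 0 := hb
  refine ⟨π b, ?_⟩
  show f.eval (π b) = 0
  rw [← hq, Polynomial.eval_map, Polynomial.eval₂_at_apply, hb', map_zero]

lemma isAlgClosed_of_hasRoots (D K : Type u) [CommRing D] [IsDomain D] [Field K] [Algebra D K]
    [IsFractionRing D K] (hD : HasRoots D) : IsAlgClosed K := by
  apply IsAlgClosed.of_exists_root
  intro p hpm hpirr
  have hd : 0 < p.natDegree := Irreducible.natDegree_pos hpirr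
  obtain ⟨c, hc⟩ : ∃ c : nonZeroDivisors D,
      c = IsLocalization.commonDenom (nonZeroDivisors D) p.support p.coeff := ⟨_, rfl⟩
  have hlift : p.scaleRoots (algebraMap D K c) ∈ Polynomial.lifts (algebraMap D K) := by
    rw [hc]
    exact IsLocalization.scaleRoots_commonDenom_mem_lifts (nonZeroDivisors D) p
      (by rw [hpm.leadingCoeff]; exact RingHom.mem_range.mpr ⟨1, map_one _⟩)
  have hsm : (p.scaleRoots (algebraMap D K c)).Monic :=
    (Polynomial.monic_scaleRoots_iff _).mpr hpm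
  obtain ⟨q, hq, hqd, hqm⟩ := Polynomial.lifts_and_natDegree_eq_and_monic hlift hsm
  have hqd' : 0 < q.natDegree := by rw [hqd, Polynomial.natDegree_scaleRoots]; exact hd
  obtain ⟨t, ht⟩ := hD q hqm hqd'
  have ht' : q.eval t = 0 := ht
  have hb0 : algebraMap D K c ≠ 0 :=
    (map_ne_zero_iff _ (IsFractionRing.injective D K)).mpr (nonZeroDivisors.coe_ne_zero c)
  have h1 : (p.scaleRoots (algebraMap D K c)).eval (algebraMap D K t) = 0 := by
    rw [← hq, Polynomial.eval_map, Polynomial.eval₂_at_apply, ht', map_zero]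
  refine ⟨(algebraMap D K c)⁻¹ * algebraMap D K t, ?_⟩
  have h2 := Polynomial.scaleRoots_eval_mul p ((algebraMap D K c)⁻¹ * algebraMap D K t)
    (algebraMap D K c)
  rw [← mul_assoc, mul_inv_cancel₀ hb0, one_mul, h1] at h2
  rcases mul_eq_zero.mp h2.symm with h3 | h3
  · exact absurd h3 (pow_ne_zero _ hb0)
  · exact h3

/-! ### Integrality of ring maps between fields -/

lemma isIntegral_of_comp_injective {K L M : Type*} [CommRing K] [CommRing L] [CommRing M]
    (α : K →+* L) (β : L →+* M) (hβ : Function.Injective β) (h : (β.comp α).IsIntegral) :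
    α.IsIntegral := by
  intro a
  obtain ⟨p, hpm, hp⟩ := h (β a)
  refine ⟨p, hpm, hβ ?_⟩
  rw [map_zero, Polynomial.hom_eval₂]
  exact hp

lemma isIntegralElem_inv {K L : Type*} [Field K] [Field L] (ρ : K →+* L) {x : L}
    (h : ρ.IsIntegralElem x) : ρ.IsIntegralElem x⁻¹ := by
  letI := ρ.toAlgebra
  exact IsIntegral.inv (R := K) h

/-! ### Residue fields -/

/-- integrality of the residue field extension at a point -/
def IntAt {X Y : Scheme.{u}} (f : X ⟶ Y) (x : X) : Prop := (f.residueFieldMap x).hom.IsIntegral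

lemma intAt_comp {X Y Z : Scheme.{u}} (f : X ⟶ Y) (g : Y ⟶ Z) (x : X) (h1 : IntAt f x)
    (h2 : IntAt g (f x)) : IntAt (f ≫ g) x := by
  unfold IntAt at h1 h2 ⊢
  rw [Scheme.residueFieldMap_comp]
  exact RingHom.IsIntegral.trans _ _ h2 h1

lemma intAt_of_comp {X Y Z : Scheme.{u}} (f : X ⟶ Y) (g : Y ⟶ Z) (x : X)
    (h : IntAt (f ≫ g) x) : IntAt g (f x) := by
  unfold IntAt at h ⊢
  rw [Scheme.residueFieldMap_comp] at h
  exact isIntegral_of_comp_injective _ _ (RingHom.injective (f.residueFieldMap x).hom) h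

lemma intAt_of_isOpenImmersion {X Y : Scheme.{u}} (f : X ⟶ Y) [IsOpenImmersion f] (x : X) :
    IntAt f x := by
  unfold IntAt
  apply RingHom.isIntegral_of_surjective
  exact (ConcreteCategory.bijective_of_isIso (f.residueFieldMap x)).2

section SpecRes
variable {B : Type u} [CommRing B]

/-- evaluation `B → κ(z)` -/
noncomputable def ev (z : Spec (CommRingCat.of B)) :
    B →+* (Spec (CommRingCat.of B)).residueField z :=
  ((Spec (CommRingCat.of B)).Γevaluation z).hom.comp (Scheme.ΓSpecIso (CommRingCat.of B)).inv.hom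

lemma exists_frac (z : Spec (CommRingCat.of B)) (w : (Spec (CommRingCat.of B)).residueField z) :
    ∃ b s : B, ev z s ≠ 0 ∧ w * ev z s = ev z b := by
  obtain ⟨u, rfl⟩ := (Spec (CommRingCat.of B)).residue_surjective z w
  letI k : Algebra B ((Spec (CommRingCat.of B)).presheaf.stalk z) :=
    StructureSheaf.stalkAlgebra B z
  haveI hloc : IsLocalization.AtPrime ((Spec (CommRingCat.of B)).presheaf.stalk z)
      (z : PrimeSpectrum B).asIdeal := StructureSheaf.IsLocalization.to_stalk B z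
  obtain ⟨⟨b, s⟩, h⟩ := IsLocalization.surj (z : PrimeSpectrum B).asIdeal.primeCompl u
  have hev : ∀ b : B, ev z b = (Spec (CommRingCat.of B)).residue z
      (algebraMap B ((Spec (CommRingCat.of B)).presheaf.stalk z) b) := fun b => rfl
  refine ⟨b, s, ?_, ?_⟩
  · rw [hev]
    have hu : IsUnit (algebraMap B ((Spec (CommRingCat.of B)).presheaf.stalk z) s) :=
      IsLocalization.map_units _ s
    exact (hu.map ((Spec (CommRingCat.of B)).residue z).hom).ne_zero
  · rw [hev, hev, ← map_mul]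
    exact congrArg _ h

lemma ev_naturality {A : Type u} [CommRing A] (φ : A →+* B) (z : Spec (CommRingCat.of B))
    (a : A) :
    ((Spec.map (CommRingCat.ofHom φ)).residueFieldMap z).hom
      (ev ((Spec.map (CommRingCat.ofHom φ)) z) a) = ev z (φ a) := by
  have h1 := Scheme.Γevaluation_naturality_apply (Spec.map (CommRingCat.ofHom φ)) z
    ((Scheme.ΓSpecIso (CommRingCat.of A)).inv.hom a)
  have h2 : (Spec.map (CommRingCat.ofHom φ)).appTop.hom
      ((Scheme.ΓSpecIso (CommRingCat.of A)).inv.hom a) =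
      (Scheme.ΓSpecIso (CommRingCat.of B)).inv.hom (φ a) := by
    have := Scheme.ΓSpecIso_inv_naturality (CommRingCat.ofHom φ)
    exact (congrArg (fun h => h.hom a) this).symm
  exact h1.trans (congrArg ((Spec (CommRingCat.of B)).Γevaluation z).hom h2)

lemma intAt_specMap {A : Type u} [CommRing A] (φ : A →+* B) (hφ : φ.IsIntegral)
    (z : Spec (CommRingCat.of B)) : IntAt (Spec.map (CommRingCat.ofHom φ)) z := by
  obtain ⟨ρ, hρ⟩ : ∃ ρ, ρ = ((Spec.map (CommRingCat.ofHom φ)).residueFieldMap z).hom := ⟨_, rfl⟩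
  have hnat : ∀ a, ρ (ev ((Spec.map (CommRingCat.ofHom φ)) z) a) = ev z (φ a) := by
    intro a; rw [hρ]; exact ev_naturality φ z a
  have hev : ∀ b : B, ρ.IsIntegralElem (ev z b) := by
    intro b
    obtain ⟨P, hPm, hP⟩ := hφ b
    refine ⟨P.map (ev ((Spec.map (CommRingCat.ofHom φ)) z)), hPm.map _, ?_⟩
    rw [Polynomial.eval₂_map]
    have hcomp : ρ.comp (ev ((Spec.map (CommRingCat.ofHom φ)) z)) = (ev z).comp φ :=
      RingHom.ext hnat
    rw [hcomp, ← Polynomial.hom_eval₂, hP, map_zero]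
  unfold IntAt
  rw [← hρ]
  intro w
  obtain ⟨b, s, hs, hw⟩ := exists_frac z w
  have hw' : w = ev z b * (ev z s)⁻¹ := by
    rw [← hw, mul_assoc, mul_inv_cancel₀ hs, mul_one]
  rw [hw']
  exact (hev b).mul _ (isIntegralElem_inv ρ (hev s))

lemma isAlgClosed_residueField_spec (hB : HasRoots B) (z : Spec (CommRingCat.of B)) :
    IsAlgClosed ((Spec (CommRingCat.of B)).residueField z) := by
  haveI : IsAlgClosed ((z : PrimeSpectrum B).asIdeal.ResidueField) :=
    isAlgClosed_of_hasRoots (B ⧸ (z : PrimeSpectrum B).asIdeal) _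
      (hasRoots_of_surjective (Ideal.Quotient.mk _) Ideal.Quotient.mk_surjective hB)
  exact IsAlgClosed.of_ringEquiv _ _
    (Scheme.Spec.residueFieldIso (CommRingCat.of B) z).commRingCatIsoToRingEquiv.symm

end SpecRes

lemma spec_surj (A : Type u) [CommRing A] (u : Spec (CommRingCat.of A)) :
    ∃ z : Spec (CommRingCat.of (AIC.Lim A)),
      (Spec.map (CommRingCat.ofHom (AIC.ofLim A 0))) z = u := by
  obtain ⟨z, hz⟩ := RingHom.IsIntegral.comap_surjective (ofLim_isIntegral A)
    (AIC.ofLim_injective A 0) u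
  exact ⟨z, hz⟩

/-! ### Assembly -/

/-- the property required of the cover at a point -/
def GoodAt {X' X : Scheme.{u}} (f : X' ⟶ X) (x' : X') : Prop :=
  IsAlgClosed (X'.residueField x') ∧ (f.residueFieldMap x').hom.IsIntegral

section Assembly
variable {X : Scheme.{u}} {ι : Type u} (R : ι → Type u) [∀ i, CommRing (R i)]
  (j : ∀ i, Spec (CommRingCat.of (R i)) ⟶ X)

/-- the pieces of the cover -/
noncomputable abbrev ZZ (i : ι) : Scheme.{u} := Spec (CommRingCat.of (AIC.Lim (R i)))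

/-- the maps of the pieces to `X` -/
noncomputable abbrev gg (i : ι) : ZZ R i ⟶ X :=
  Spec.map (CommRingCat.ofHom (AIC.ofLim (R i) 0)) ≫ j i

lemma goodAt_ι [∀ i, IsOpenImmersion (j i)] (i : ι) (z : ZZ R i) :
    GoodAt (Sigma.desc (gg R j)) (Sigma.ι (ZZ R) i z) := by
  constructor
  · haveI : IsAlgClosed ((ZZ R i).residueField z) :=
      isAlgClosed_residueField_spec (hasRoots_lim (R i)) z
    exact IsAlgClosed.of_ringEquiv _ _
      (asIso ((Sigma.ι (ZZ R) i).residueFieldMap z)).commRingCatIsoToRingEquiv.symm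
  · apply intAt_of_comp (Sigma.ι (ZZ R) i) (Sigma.desc (gg R j)) z
    rw [Sigma.ι_desc]
    exact intAt_comp _ _ z (intAt_specMap _ (ofLim_isIntegral (R i)) z)
      (intAt_of_isOpenImmersion (j i) _)

theorem main_aux [QuasiSeparatedSpace X] [Finite ι] [∀ i, IsOpenImmersion (j i)]
    (hcov : ∀ x : X, ∃ i u, j i u = x) :
    ∃ (X' : Scheme.{u}) (f : X' ⟶ X), IsAffine X' ∧ QuasiCompact f ∧ Surjective f ∧
      ∀ x' : X', IsAlgClosed (X'.residueField x') ∧ (f.residueFieldMap x').hom.IsIntegral := by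
  refine ⟨∐ ZZ R, Sigma.desc (gg R j), inferInstance, inferInstance, ⟨fun x => ?_⟩, ?_⟩
  · obtain ⟨i, u, rfl⟩ := hcov x
    obtain ⟨z, rfl⟩ := spec_surj (R i) u
    refine ⟨Sigma.ι (ZZ R) i z, ?_⟩
    rw [← Scheme.Hom.comp_apply, Sigma.ι_desc, Scheme.Hom.comp_apply]
    rfl
  · intro x'
    obtain ⟨⟨i, z⟩, rfl⟩ := (sigmaMk (ZZ R)).surjective x'
    rw [sigmaMk_mk]
    exact goodAt_ι R j i z

end Assembly

theorem main (X : Scheme.{u}) [CompactSpace X] [QuasiSeparatedSpace X] :
    ∃ (X' : Scheme.{u}) (f : X' ⟶ X), IsAffine X' ∧ QuasiCompact f ∧ Surjective f ∧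
      ∀ x' : X', IsAlgClosed (X'.residueField x') ∧ (f.residueFieldMap x').hom.IsIntegral := by
  obtain ⟨𝒰, h1, h2⟩ : ∃ 𝒰 : X.OpenCover, Finite 𝒰.I₀ ∧ ∀ i, IsAffine (𝒰.X i) :=
    ⟨X.affineCover.finiteSubcover, inferInstance, inferInstance⟩
  refine main_aux (ι := 𝒰.I₀) (fun i => ↑Γ(𝒰.X i, ⊤))
    (fun i => (𝒰.X i).isoSpec.inv ≫ 𝒰.f i) ?_
  intro x
  obtain ⟨u, hu⟩ := 𝒰.covers x
  refine ⟨𝒰.idx x, (𝒰.X (𝒰.idx x)).isoSpec.hom u, ?_⟩
  rw [← Scheme.Hom.comp_apply, Iso.hom_inv_id_assoc]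
  exact hu

end Groth.Agent.H1.AICover
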