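import Mathlib
import Groth.Prelude.Def_AlgGrp

/-! Avoiding two translates of a proper closed subset of an irreducible group scheme locally of
finite type over an algebraically closed field (helper1). -/

set_option autoImplicit false
set_option linter.unusedSectionVars false
universe u

namespace Groth.Agent.H1.AbAvoid

open CategoryTheory MonoidalCategory CartesianMonoidalCategory MonObj GrpObj AlgebraicGeometry

variable (K : Type u) [Field K] [IsAlgClosed K] (A : Over (Spec (CommRingCat.of K))) [GrpObj A]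

local notation "𝟙K" => 𝟙_ (Over (Spec (CommRingCat.of K)))

/-- the point underlying a rational point. -/
noncomputable def P (x : 𝟙K ⟶ A) : A.left :=
  x.left.base (IsLocalRing.closedPoint K : PrimeSpectrum K)

variable {K A}

theorem P_comp (x : 𝟙K ⟶ A) (f : A ⟶ A) : f.left.base (P K A x) = P K A (x ≫ f) := by
  unfold P
  rw [Over.comp_left]
  rfl

theorem toUnit_comp_pt (x : 𝟙K ⟶ A) : x ≫ toUnit A = 𝟙 _ := toUnit_unique _ _

theorem exists_pt [LocallyOfFiniteType A.hom] (a : A.left) (ha : IsClosed ({a} : Set A.left)) :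
    ∃ x : 𝟙K ⟶ A, P K A x = a := by
  refine ⟨Over.homMk (pointOfClosedPoint A.hom a ha) (by simp), ?_⟩
  unfold P
  exact pointOfClosedPoint_apply A.hom a ha _

theorem s10959 [LocallyOfFiniteType A.hom] [IrreducibleSpace A.left]
    (Z : Set A.left) (hZ : IsClosed Z) (hZne : Z ≠ Set.univ) (z : 𝟙K ⟶ A) :
    ∃ x : 𝟙K ⟶ A,
      Disjoint (Set.range z.left.base)
        ((𝟙 A * (toUnit A ≫ x)).left.base '' Z ∪ (𝟙 A * (toUnit A ≫ x)⁻¹).left.base '' Z) := by
  haveI : JacobsonSpace ↥A.left := LocallyOfFiniteType.jacobsonSpace A.hom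
  -- a rational point outside `Z`
  have hne : (Zᶜ).Nonempty := by
    rw [Set.nonempty_compl]; exact hZne
  obtain ⟨w, hwZ, hwc⟩ := nonempty_inter_closedPoints hne hZ.isOpen_compl.isLocallyClosed
  obtain ⟨w', hw'⟩ := exists_pt w hwc
  -- the two translation maps
  obtain ⟨L, hL⟩ : ∃ L : A ⟶ A, L = (toUnit A ≫ z) * 𝟙 A := ⟨_, rfl⟩
  obtain ⟨M, hM⟩ : ∃ M : A ⟶ A, M = (toUnit A ≫ z) * (𝟙 A)⁻¹ := ⟨_, rfl⟩
  have hLP : ∀ y : 𝟙K ⟶ A, L.left.base (P K A y) = P K A (z * y) := by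
    intro y
    rw [P_comp, hL, MonObj.comp_mul, Category.comp_id, ← Category.assoc, toUnit_comp_pt,
      Category.id_comp]
  have hMP : ∀ y : 𝟙K ⟶ A, M.left.base (P K A y) = P K A (z * y⁻¹) := by
    intro y
    rw [P_comp, hM, MonObj.comp_mul, GrpObj.comp_inv, Category.comp_id, ← Category.assoc,
      toUnit_comp_pt, Category.id_comp]
  have hU₁ : IsOpen (L.left.base ⁻¹' Zᶜ) := hZ.isOpen_compl.preimage L.left.continuous
  have hU₂ : IsOpen (M.left.base ⁻¹' Zᶜ) := hZ.isOpen_compl.preimage M.left.continuous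
  have hn₁ : (L.left.base ⁻¹' Zᶜ).Nonempty := by
    refine ⟨P K A (z⁻¹ * w'), ?_⟩
    show L.left.base (P K A (z⁻¹ * w')) ∈ Zᶜ
    rw [hLP, mul_inv_cancel_left, hw']
    exact hwZ
  have hn₂ : (M.left.base ⁻¹' Zᶜ).Nonempty := by
    refine ⟨P K A (w'⁻¹ * z), ?_⟩
    show M.left.base (P K A (w'⁻¹ * z)) ∈ Zᶜ
    rw [hMP]
    have : z * (w'⁻¹ * z)⁻¹ = w' := by group
    rw [this, hw']
    exact hwZ
  obtain ⟨x₀, ⟨hx₁, hx₂⟩, hx₀c⟩ := nonempty_inter_closedPoints
    (nonempty_preirreducible_inter hU₁ hU₂ hn₁ hn₂) (hU₁.inter hU₂).isLocallyClosed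
  obtain ⟨x, hx⟩ := exists_pt x₀ hx₀c
  refine ⟨x, ?_⟩
  -- the translations are mutually inverse
  obtain ⟨c, hc⟩ : ∃ c : A ⟶ A, c = toUnit A ≫ x := ⟨_, rfl⟩
  have hfc : ∀ f : A ⟶ A, f ≫ c = c := by
    intro f
    rw [hc, ← Category.assoc, toUnit_unique (f ≫ toUnit A) (toUnit A)]
  have h1 : (𝟙 A * c) ≫ (𝟙 A * c⁻¹) = 𝟙 A := by
    rw [MonObj.comp_mul, GrpObj.comp_inv, hfc, Category.comp_id]
    group
  have h2 : (𝟙 A * c⁻¹) ≫ (𝟙 A * c) = 𝟙 A := by
    rw [MonObj.comp_mul, hfc, Category.comp_id]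
    group
  have hz1 : (𝟙 A * c).left.base (P K A z) = P K A (z * x) := by
    rw [P_comp, MonObj.comp_mul, Category.comp_id, hc, ← Category.assoc, toUnit_comp_pt,
      Category.id_comp]
  have hz2 : (𝟙 A * c⁻¹).left.base (P K A z) = P K A (z * x⁻¹) := by
    rw [P_comp, MonObj.comp_mul, GrpObj.comp_inv, Category.comp_id, hc, ← Category.assoc,
      toUnit_comp_pt, Category.id_comp]
  rw [← hc]
  rw [Set.disjoint_left]
  rintro p ⟨t, rfl⟩ hp
  have ht : z.left.base t = P K A z := by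
    unfold P
    congr 1
    exact @Subsingleton.elim (PrimeSpectrum K) inferInstance _ _
  rw [ht] at hp
  rcases hp with ⟨a, haZ, ha⟩ | ⟨a, haZ, ha⟩
  · -- `P z = a · x`, so `a = z · x⁻¹ = M (P x)`
    have h3 : (𝟙 A * c⁻¹).left.base ((𝟙 A * c).left.base a) = a := by
      have := congrArg (fun φ : A ⟶ A => φ.left.base a) h1
      simpa using this
    rw [ha, hz2, ← hMP, hx] at h3
    exact hx₂ (by rw [h3]; exact haZ)
  · have h3 : (𝟙 A * c).left.base ((𝟙 A * c⁻¹).left.base a) = a := by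
      have := congrArg (fun φ : A ⟶ A => φ.left.base a) h2
      simpa using this
    rw [ha, hz1, ← hLP, hx] at h3
    exact hx₁ (by rw [h3]; exact haZ)

end Groth.Agent.H1.AbAvoid
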