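import Mathlib
import Groth.Prelude.Def_RegImm
import Groth.Agent.Lib.Helper1.EquiDim
import Groth.Agent.Lib.Helper1.DimFormula
import Groth.Agent.Lib.Helper1.ClosureDim
import Groth.Agent.Lib.Helper1.RelDim
import Groth.Agent.Lib.Helper1.RegImmersion
import Groth.Agent.Lib.Helper1.FibDimTot
import Groth.Agent.Lib.Helper1.UOVal
import Groth.Agent.Lib.Helper3.TopDim

/-! Geometric form of Krull's height theorem (helper1): on a scheme locally of finite type over a
field, an irreducible component of the locus cut out (locally) by `c` equations inside an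
irreducible closed subset `P` has dimension at least `dim P - c`. -/

set_option autoImplicit false
universe u

namespace Groth.Agent.H1.GeoKrull

open AlgebraicGeometry CategoryTheory TopologicalSpace Topology

section Top

variable {C : Type*} [TopologicalSpace C]

theorem isIrreducible_of_subset_closure {S S' : Set C} (hS : IsIrreducible S) (h1 : S ⊆ S')
    (h2 : S' ⊆ closure S) : IsIrreducible S' := by
  refine ⟨hS.1.mono h1, ?_⟩
  rintro u v hu hv ⟨a, haS', hau⟩ ⟨b, hbS', hbv⟩
  have ha : (S ∩ u).Nonempty := by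
    obtain ⟨y, hyu, hyS⟩ := mem_closure_iff.mp (h2 haS') u hu hau
    exact ⟨y, hyS, hyu⟩
  have hb : (S ∩ v).Nonempty := by
    obtain ⟨y, hyv, hyS⟩ := mem_closure_iff.mp (h2 hbS') v hv hbv
    exact ⟨y, hyS, hyv⟩
  obtain ⟨y, hyS, hyuv⟩ := hS.2 u v hu hv ha hb
  exact ⟨y, h1 hyS, hyuv⟩

theorem isIrreducible_preimage_of_subset_range {A B : Type*} [TopologicalSpace A]
    [TopologicalSpace B] {e : A → B} (he : IsInducing e) {T : Set B} (hT : IsIrreducible T)
    (hsub : T ⊆ Set.range e) : IsIrreducible (e ⁻¹' T) := by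
  obtain ⟨t, ht⟩ := hT.1
  obtain ⟨a, rfl⟩ := hsub ht
  refine ⟨⟨a, ht⟩, ?_⟩
  rintro u v hu hv ⟨x, hxT, hxu⟩ ⟨y, hyT, hyv⟩
  obtain ⟨u', hu', rfl⟩ := he.isOpen_iff.mp hu
  obtain ⟨v', hv', rfl⟩ := he.isOpen_iff.mp hv
  obtain ⟨w, hwT, hwu, hwv⟩ := hT.2 u' v' hu' hv' ⟨e x, hxT, hxu⟩ ⟨e y, hyT, hyv⟩
  obtain ⟨b, rfl⟩ := hsub hwT
  exact ⟨b, hwT, hwu, hwv⟩

/-- `T` is a maximal irreducible subset of `A` (an "irreducible component of the subspace `A`",
seen as a subset of the ambient space). -/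
def IsMaxIrr (A T : Set C) : Prop :=
  IsIrreducible T ∧ T ⊆ A ∧ ∀ T' : Set C, IsIrreducible T' → T' ⊆ A → T ⊆ T' → T' ⊆ T

theorem isMaxIrr_image {A : Set C} {S : Set ↥A} (hS : S ∈ irreducibleComponents ↥A) :
    IsMaxIrr A (Subtype.val '' S) := by
  refine ⟨hS.1.image _ continuous_subtype_val.continuousOn, ?_, ?_⟩
  · rintro _ ⟨a, -, rfl⟩
    exact a.2
  · intro T' hT' hT'A hST' t ht
    have hirr : IsIrreducible ((Subtype.val : ↥A → C) ⁻¹' T') :=
      isIrreducible_preimage_of_subset_range IsInducing.subtypeVal hT'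
        (by rw [Subtype.range_coe]; exact hT'A)
    have hle : S ≤ Subtype.val ⁻¹' T' := fun a ha => hST' ⟨a, ha, rfl⟩
    have h := hS.2 hirr hle
    exact ⟨⟨t, hT'A ht⟩, h (show (⟨t, hT'A ht⟩ : ↥A) ∈ Subtype.val ⁻¹' T' from ht), rfl⟩

theorem preimage_mem_irreducibleComponents {A T : Set C} (hT : IsMaxIrr A T) :
    (Subtype.val : ↥A → C) ⁻¹' T ∈ irreducibleComponents ↥A := by
  obtain ⟨hTi, hTA, hmax⟩ := hT
  refine ⟨isIrreducible_preimage_of_subset_range IsInducing.subtypeVal hTi
    (by rw [Subtype.range_coe]; exact hTA), ?_⟩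
  intro S' hS' hle a ha
  have h1 : IsIrreducible (Subtype.val '' S') := hS'.image _ continuous_subtype_val.continuousOn
  have h2 : Subtype.val '' S' ⊆ A := by
    rintro _ ⟨b, -, rfl⟩
    exact b.2
  have h3 : T ⊆ Subtype.val '' S' := fun t ht =>
    ⟨⟨t, hTA ht⟩, hle (show (⟨t, hTA ht⟩ : ↥A) ∈ Subtype.val ⁻¹' T from ht), rfl⟩
  exact hmax _ h1 h2 h3 ⟨a, ha, rfl⟩

theorem dim_preimage_val {A T : Set C} (hTA : T ⊆ A) :
    topologicalKrullDim ↥((Subtype.val : ↥A → C) ⁻¹' T) = topologicalKrullDim ↥T := by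
  rw [RelDim.dim_preimage_eq_of_isEmbedding IsEmbedding.subtypeVal T, Subtype.range_coe,
    Set.inter_eq_left.mpr hTA]

theorem dim_image_val {A : Set C} (S : Set ↥A) :
    topologicalKrullDim ↥(Subtype.val '' S) = topologicalKrullDim ↥S := by
  have h := dim_preimage_val (A := A) (T := Subtype.val '' S) (by
    rintro _ ⟨a, -, rfl⟩
    exact a.2)
  rw [Set.preimage_image_eq _ Subtype.val_injective] at h
  exact h.symm

end Top

/-- membership in basic opens through `fromSpec`. -/
theorem fromSpec_mem_basicOpen {Z : Scheme.{u}} {U : Z.Opens} (hU : IsAffineOpen U)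
    (q : PrimeSpectrum Γ(Z, U)) (g : Γ(Z, U)) :
    hU.fromSpec q ∈ Z.basicOpen g ↔ g ∉ q.asIdeal := by
  have h1 : hU.fromSpec q ∈ Z.basicOpen g ↔ q ∈ hU.fromSpec ⁻¹ᵁ Z.basicOpen g := Iff.rfl
  rw [h1, hU.fromSpec_preimage_basicOpen]
  exact PrimeSpectrum.mem_basicOpen _ _

section A

variable {k : Type u} [Field k] {Z : Scheme.{u}} [IrreducibleSpace Z]
  (gk : Z ⟶ Spec (CommRingCat.of k)) [LocallyOfFiniteType gk]

include gk in
/-- Krull's height theorem, geometric form on an irreducible scheme locally of finite type over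
a field: a point `z` that is a maximal point of the zero locus of `s` has
`dim Z ≤ dim closure {z} + #s`. -/
theorem dim_le_dim_closure_add {U : Z.Opens} (hU : IsAffineOpen U) (z : Z) (hz : z ∈ U)
    (s : Finset Γ(Z, U)) (hs0 : ∀ g ∈ s, z ∉ Z.basicOpen g)
    (hmin : ∀ z' : Z, z' ⤳ z → (∀ g ∈ s, z' ∉ Z.basicOpen g) → z' = z) :
    topologicalKrullDim Z ≤
      topologicalKrullDim ↥(closure ({z} : Set Z)) + (s.card : WithBot ℕ∞) := by
  haveI : IsLocallyNoetherian Z := LocallyOfFiniteType.isLocallyNoetherian gk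
  haveI : IsNoetherianRing Γ(Z, U) := IsLocallyNoetherian.component_noetherian ⟨U, hU⟩
  obtain ⟨t, ht, hloc⟩ := DimFormula.exists_localDim_eq_stalk_add_trdeg gk z
  obtain ⟨t', ht', hcl⟩ := ClosureDim.exists_trdeg_eq_dim_closure gk z
  have htt : t = t' := by
    have : (t : Cardinal) = (t' : Cardinal) := ht.symm.trans ht'
    exact_mod_cast this
  subst htt
  rw [← EquiDim.localDim_eq_dim gk z, hloc, hcl]
  set q := hU.primeIdealOf ⟨z, hz⟩ with hq
  have hqz : hU.fromSpec q = z := hU.fromSpec_primeIdealOf ⟨z, hz⟩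
  letI := Z.presheaf.algebra_section_stalk ⟨z, hz⟩
  haveI := hU.isLocalization_stalk ⟨z, hz⟩
  have h3 : ringKrullDim (Z.presheaf.stalk z) = q.asIdeal.height :=
    IsLocalization.AtPrime.ringKrullDim_eq_height q.asIdeal (Z.presheaf.stalk z)
  have hminp : q.asIdeal ∈ (Ideal.span (s : Set Γ(Z, U))).minimalPrimes := by
    refine ⟨⟨q.isPrime, ?_⟩, ?_⟩
    · rw [Ideal.span_le]
      intro g hg
      by_contra hgq
      have h := (fromSpec_mem_basicOpen hU q g).mpr hgq
      rw [hqz] at h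
      exact hs0 g hg h
    · rintro p' ⟨hp', hIp'⟩ hle
      let y' : PrimeSpectrum Γ(Z, U) := ⟨p', hp'⟩
      have hspec : y' ⤳ q := (PrimeSpectrum.le_iff_specializes y' q).mp hle
      have hspec' : hU.fromSpec y' ⤳ z := by
        have h := hspec.map hU.fromSpec.continuous
        rwa [hqz] at h
      have h0 : ∀ g ∈ s, hU.fromSpec y' ∉ Z.basicOpen g := by
        intro g hg hmem
        exact (fromSpec_mem_basicOpen hU y' g).mp hmem (hIp' (Ideal.subset_span hg))
      have heq := hmin _ hspec' h0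
      have hy : y' = q := hU.fromSpec.isOpenEmbedding.injective (heq.trans hqz.symm)
      exact (congrArg PrimeSpectrum.asIdeal hy).ge
  have h4 : q.asIdeal.height ≤ s.card :=
    Ideal.height_le_card_of_mem_minimalPrimes_span_finset hminp
  rw [h3, add_comm]
  exact add_le_add le_rfl (by exact_mod_cast h4)

end A

section A'

variable {k : Type u} [Field k] {C : Scheme.{u}} (gk : C ⟶ Spec (CommRingCat.of k))
  [LocallyOfFiniteType gk]

include gk in
/-- the same for an irreducible closed subset `P` of a scheme locally of finite type over a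
field. -/
theorem dim_le_dim_closure_add_of_isClosed (P : Set C) (hPi : IsIrreducible P)
    (hPc : IsClosed P) {U : C.Opens} (hU : IsAffineOpen U) (z : C) (hzP : z ∈ P) (hz : z ∈ U)
    (s : Finset Γ(C, U)) (hs0 : ∀ g ∈ s, z ∉ C.basicOpen g)
    (hmin : ∀ z' ∈ P, z' ⤳ z → (∀ g ∈ s, z' ∉ C.basicOpen g) → z' = z) :
    topologicalKrullDim ↥P ≤
      topologicalKrullDim ↥(closure ({z} : Set C)) + (s.card : WithBot ℕ∞) := by
  classical
  set I := Scheme.IdealSheafData.vanishingIdeal ⟨P, hPc⟩ with hI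
  set j := I.subschemeι with hj
  have hr : Set.range j = P := by
    rw [hj, Scheme.IdealSheafData.range_subschemeι, hI,
      Scheme.IdealSheafData.coe_support_vanishingIdeal]
    rfl
  have hemb : IsEmbedding j := j.isEmbedding
  have e0 : I.subscheme ≃ₜ ↥(Set.range j) := hemb.toHomeomorph
  haveI hirr : IrreducibleSpace I.subscheme := by
    rw [e0.irreducibleSpace_iff, hr]
    exact Subtype.irreducibleSpace hPi
  have h1 : topologicalKrullDim I.subscheme = topologicalKrullDim ↥P := by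
    rw [← hr]
    exact IsHomeomorph.topologicalKrullDim_eq _ e0.isHomeomorph
  obtain ⟨z₀, hz₀⟩ : z ∈ Set.range j := by rw [hr]; exact hzP
  have hU₀ : IsAffineOpen (j ⁻¹ᵁ U) := hU.preimage j
  have hz₀U : z₀ ∈ j ⁻¹ᵁ U := by
    show j z₀ ∈ U
    rw [hz₀]
    exact hz
  have hbo : ∀ (g : Γ(C, U)) (y : I.subscheme),
      y ∈ I.subscheme.basicOpen ((j.app U).hom g) ↔ j y ∈ C.basicOpen g := by
    intro g y
    have h := Scheme.preimage_basicOpen j g
    constructor
    · intro hy
      have : y ∈ j ⁻¹ᵁ C.basicOpen g := by rw [h]; exact hy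
      exact this
    · intro hy
      have : y ∈ j ⁻¹ᵁ C.basicOpen g := hy
      rw [h] at this
      exact this
  have hcl : topologicalKrullDim ↥(closure ({z₀} : Set I.subscheme)) =
      topologicalKrullDim ↥(closure ({z} : Set C)) := by
    have h := RelDim.dim_preimage_eq_of_isEmbedding hemb (closure ({z} : Set C))
    have h2 : j ⁻¹' closure ({z} : Set C) = closure ({z₀} : Set I.subscheme) := by
      rw [hemb.isInducing.closure_eq_preimage_closure_image, Set.image_singleton, hz₀]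
    have h3 : closure ({z} : Set C) ∩ Set.range j = closure ({z} : Set C) := by
      rw [hr]
      exact Set.inter_eq_left.mpr
        (hPc.closure_subset_iff.mpr (Set.singleton_subset_iff.mpr hzP))
    rw [h2, h3] at h
    exact h
  have key := dim_le_dim_closure_add (j ≫ gk) hU₀ z₀ hz₀U (s.image (j.app U).hom) ?_ ?_
  · rw [← h1, ← hcl]
    refine key.trans (add_le_add le_rfl ?_)
    exact_mod_cast Finset.card_image_le
  · intro g hg
    obtain ⟨g', hg', rfl⟩ := Finset.mem_image.mp hg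
    rw [hbo, hz₀]
    exact hs0 g' hg'
  · intro z' hz' h0
    apply hemb.injective
    rw [hz₀]
    refine hmin (j z') (by rw [← hr]; exact Set.mem_range_self z') ?_ ?_
    · have h := hz'.map j.continuous
      rwa [hz₀] at h
    · intro g hg hmem
      exact h0 _ (Finset.mem_image_of_mem _ hg) ((hbo g z').mpr hmem)

end A'

/-- `R ⊆ X` is, locally around each of its points, the zero locus of at most `c` functions on
an affine open. -/
def CutOut (X : Scheme.{u}) (R : Set X) (c : ℕ) : Prop :=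
  ∀ x ∈ R, ∃ U : X.Opens, IsAffineOpen U ∧ x ∈ U ∧ ∃ rs : List Γ(X, U), rs.length ≤ c ∧
    ∀ x' ∈ U, (x' ∈ R ↔ ∀ r ∈ rs, x' ∉ X.basicOpen r)

theorem CutOut.isLocallyClosed {X : Scheme.{u}} {R : Set X} {c : ℕ} (h : CutOut X R c) :
    IsLocallyClosed R := by
  refine ((isLocallyClosed_tfae R).out 0 3).mpr ?_
  intro x hx
  obtain ⟨U, hU, hxU, rs, -, hcut⟩ := h x hx
  refine ⟨(U : Set X), hxU, U.isOpen, ?_⟩
  rintro y ⟨hyU, hycl⟩
  rw [hcut y hyU]
  intro r hr hyr
  obtain ⟨y', hy'r, hy'R⟩ := mem_closure_iff.mp hycl _ (X.basicOpen r).isOpen hyr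
  exact (hcut y' (X.basicOpen_le r hy'r)).mp hy'R r hr hy'r

theorem CutOut.preimage {X C : Scheme.{u}} {R : Set X} {c : ℕ} (h : CutOut X R c)
    (φ : C ⟶ X) : CutOut C (φ ⁻¹' R) c := by
  intro z hz
  obtain ⟨UX, hUX, hzU, rs, hlen, hR⟩ := h (φ z) hz
  obtain ⟨U, hU, hzU', hle⟩ := TopologicalSpace.Opens.isBasis_iff_nbhd.mp C.isBasis_affineOpens
    (U := φ ⁻¹ᵁ UX) (x := z) hzU
  refine ⟨U, hU, hzU', rs.map (φ.appLE UX U hle).hom, by rw [List.length_map]; exact hlen, ?_⟩
  intro z' hz'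
  have hφz' : φ z' ∈ UX := hle hz'
  show φ z' ∈ R ↔ _
  rw [hR (φ z') hφz']
  constructor
  · intro h0 r' hr' hmem
    obtain ⟨r, hr, rfl⟩ := List.mem_map.mp hr'
    have h1 := Scheme.basicOpen_appLE φ U UX hle r
    have h2 : z' ∈ U ⊓ φ ⁻¹ᵁ X.basicOpen r := by rw [← h1]; exact hmem
    exact h0 r hr h2.2
  · intro h0 r hr hmem
    refine h0 _ (List.mem_map.mpr ⟨r, hr, rfl⟩) ?_
    have h1 := Scheme.basicOpen_appLE φ U UX hle r
    have h2 : z' ∈ U ⊓ φ ⁻¹ᵁ X.basicOpen r := ⟨hz', hmem⟩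
    rw [← h1] at h2
    exact h2

theorem cutOut_of_isRegularImmersionOfCodim {X W : Scheme.{u}} (ι : W ⟶ X) (κ : RegImm.Kind)
    (c : ℕ) (hι : RegImm.IsRegularImmersionOfCodim κ c ι) : CutOut X (Set.range ι) c := by
  rintro x ⟨w, rfl⟩
  obtain ⟨U, hwU, hcl, rs, hlen, -, hker⟩ := hι.2 w
  haveI := hcl
  obtain ⟨hV, hsurj⟩ :=
    RegImmersion.affine_and_surjective_of_isClosedImmersion_restrict ι U.1 U.2
  refine ⟨U.1, U.2, hwU, rs, hlen.le, ?_⟩
  intro x' hx'
  constructor
  · rintro ⟨w', rfl⟩ r hr hmem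
    have h0 : (ι.app U.1).hom r = 0 := by
      have : r ∈ RingHom.ker (ι.app U.1).hom := by
        rw [hker]
        exact Ideal.subset_span hr
      exact this
    have h1 : w' ∈ ι ⁻¹ᵁ X.basicOpen r := hmem
    rw [Scheme.preimage_basicOpen] at h1
    have h2 : W.basicOpen ((ι.app U.1).hom r) = ⊥ := by
      rw [h0]
      exact Scheme.basicOpen_zero _ _
    have h3 : w' ∈ W.basicOpen ((ι.app U.1).hom r) := h1
    rw [h2] at h3
    exact h3
  · intro h0
    set p := U.2.primeIdealOf ⟨x', hx'⟩ with hp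
    have hpx : U.2.fromSpec p = x' := U.2.fromSpec_primeIdealOf ⟨x', hx'⟩
    have hle : RingHom.ker (ι.app U.1).hom ≤ p.asIdeal := by
      rw [hker]
      show Ideal.span {r | r ∈ rs} ≤ _
      rw [Ideal.span_le]
      intro r hr
      by_contra hrp
      have h := (fromSpec_mem_basicOpen U.2 p r).mpr hrp
      rw [hpx] at h
      exact h0 r hr h
    haveI hprime : (p.asIdeal.map (ι.app U.1).hom).IsPrime :=
      Ideal.map_isPrime_of_surjective hsurj hle
    let q' : PrimeSpectrum Γ(W, ι ⁻¹ᵁ U.1) := ⟨p.asIdeal.map (ι.app U.1).hom, hprime⟩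
    let q : ↥(Spec Γ(W, ι ⁻¹ᵁ U.1)) := q'
    have hcomap : PrimeSpectrum.comap (ι.app U.1).hom q' = p := by
      apply PrimeSpectrum.ext
      show (p.asIdeal.map (ι.app U.1).hom).comap (ι.app U.1).hom = p.asIdeal
      rw [Ideal.comap_map_of_surjective _ hsurj]
      exact sup_eq_left.mpr hle
    refine ⟨hV.fromSpec q, ?_⟩
    have hnat := IsAffineOpen.SpecMap_appLE_fromSpec ι U.2 hV le_rfl
    have h3' : (hV.fromSpec ≫ ι) q =
        (Spec.map (ι.appLE U.1 (ι ⁻¹ᵁ U.1) le_rfl) ≫ U.2.fromSpec) q := by rw [hnat]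
    have h3 : ι (hV.fromSpec q) =
        U.2.fromSpec ((Spec.map (ι.appLE U.1 (ι ⁻¹ᵁ U.1) le_rfl)) q) := h3'
    rw [h3, ← hpx]
    congr 1
    rw [← hcomap, ← Scheme.Hom.app_eq_appLE]
    rfl

section Main

variable {k : Type u} [Field k] {C : Scheme.{u}} (gk : C ⟶ Spec (CommRingCat.of k))
  [LocallyOfFiniteType gk]

include gk in
/-- **Geometric Krull height theorem**: if `R` is locally cut out by at most `c` equations, `P`
is an irreducible closed subset, and `T` is an irreducible component of `P ∩ R`, then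
`dim P ≤ dim T + c`. -/
theorem dim_le_dim_add_of_cutOut {R : Set C} {c : ℕ} (hR : CutOut C R c)
    (P : Set C) (hPi : IsIrreducible P) (hPc : IsClosed P)
    (T : Set C) (hT : IsMaxIrr (P ∩ R) T) :
    topologicalKrullDim ↥P ≤ topologicalKrullDim ↥T + (c : WithBot ℕ∞) := by
  classical
  obtain ⟨hTi, hTsub, hTmax⟩ := hT
  obtain ⟨O, F, hO, hF, hRe⟩ := hR.isLocallyClosed
  subst hRe
  have hclF : closure T ⊆ F := hF.closure_subset_iff.mpr (fun t ht => (hTsub ht).2.2)
  have hclP : closure T ⊆ P := hPc.closure_subset_iff.mpr (fun t ht => (hTsub ht).1)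
  have hTO : T ⊆ O := fun t ht => (hTsub ht).2.1
  have hTeq : T = O ∩ closure T := by
    apply Set.Subset.antisymm
    · exact fun t ht => ⟨hTO ht, subset_closure ht⟩
    · apply hTmax
      · exact isIrreducible_of_subset_closure hTi
          (fun t ht => ⟨hTO ht, subset_closure ht⟩) Set.inter_subset_right
      · rintro t ⟨htO, htc⟩
        exact ⟨hclP htc, htO, hclF htc⟩
      · exact fun t ht => ⟨hTO ht, subset_closure ht⟩
  obtain ⟨z, hzgen⟩ := QuasiSober.sober hTi.closure isClosed_closure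
  have hzcl : closure ({z} : Set C) = closure T := hzgen
  have hzclT : z ∈ closure T := by
    rw [← hzcl]
    exact subset_closure (Set.mem_singleton z)
  have hzO : z ∈ O := by
    by_contra hzO
    obtain ⟨t, ht⟩ := hTi.1
    have h : closure ({z} : Set C) ⊆ Oᶜ :=
      hO.isClosed_compl.closure_subset_iff.mpr (Set.singleton_subset_iff.mpr hzO)
    have h2 : t ∈ closure ({z} : Set C) := by
      rw [hzcl]
      exact subset_closure ht
    exact h h2 (hTO ht)
  have hzT : z ∈ T := by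
    rw [hTeq]
    exact ⟨hzO, hzclT⟩
  have hdimT : topologicalKrullDim ↥T = topologicalKrullDim ↥(closure ({z} : Set C)) := by
    have h := RelDim.dim_inter_eq_dim gk (closure T) hTi.closure isClosed_closure ⟨O, hO⟩
      ⟨z, hzO, hzclT⟩
    rw [hzcl, ← h]
    exact congrArg (fun S : Set C => topologicalKrullDim ↥S) hTeq
  obtain ⟨U, hU, hzU, rs, hlen, hcut⟩ := hR z (hTsub hzT).2
  have key := dim_le_dim_closure_add_of_isClosed gk P hPi hPc hU z (hTsub hzT).1 hzU
    rs.toFinset ?_ ?_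
  · rw [hdimT]
    refine key.trans (add_le_add le_rfl ?_)
    have h : rs.toFinset.card ≤ c := (List.toFinset_card_le rs).trans hlen
    exact_mod_cast h
  · intro g hg
    exact (hcut z hzU).mp (hTsub hzT).2 g (List.mem_toFinset.mp hg)
  · intro z' hz'P hspec h0
    have hz'U : z' ∈ U := hspec.mem_open U.isOpen hzU
    have hz'R : z' ∈ O ∩ F :=
      (hcut z' hz'U).mpr (fun r hr => h0 r (List.mem_toFinset.mpr hr))
    have hzz' : closure ({z} : Set C) ⊆ closure ({z'} : Set C) := by
      apply isClosed_closure.closure_subset_iff.mpr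
      rw [Set.singleton_subset_iff]
      exact specializes_iff_mem_closure.mp hspec
    have hT'' : O ∩ closure ({z'} : Set C) ⊆ T := by
      apply hTmax
      · exact isIrreducible_of_subset_closure (isIrreducible_singleton (x := z'))
          (Set.singleton_subset_iff.mpr ⟨hz'R.1, subset_closure rfl⟩) Set.inter_subset_right
      · rintro t ⟨htO, htc⟩
        refine ⟨?_, htO, ?_⟩
        · exact (hPc.closure_subset_iff.mpr (Set.singleton_subset_iff.mpr hz'P)) htc
        · exact (hF.closure_subset_iff.mpr (Set.singleton_subset_iff.mpr hz'R.2)) htc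
      · intro t ht
        refine ⟨hTO ht, hzz' ?_⟩
        rw [hzcl]
        exact subset_closure ht
    have hz'T : z' ∈ T := hT'' ⟨hz'R.1, subset_closure rfl⟩
    have h2 : z ⤳ z' := by
      rw [specializes_iff_mem_closure, hzcl]
      exact subset_closure hz'T
    exact (hspec.antisymm h2).eq

end Main

end Groth.Agent.H1.GeoKrull
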