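import Mathlib
universe u
open CategoryTheory AlgebraicGeometry Limits

namespace Groth.Agent.H1.FieldUnram

set_option backward.isDefEq.respectTransparency.types false in
/-- (⇐) disjoint unions of spectra of finite separable extensions are unramified. -/
theorem formallyUnramified_sigmaDesc (k : Type u) [Field k] (ι : Type u) (K : ι → Type u)
    [∀ i, Field (K i)] [∀ i, Algebra k (K i)]
    (h : ∀ i, FiniteDimensional k (K i) ∧ Algebra.IsSeparable k (K i)) :
    FormallyUnramified (Sigma.desc
      (fun i => Spec.map (CommRingCat.ofHom (algebraMap k (K i))))) ∧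
    LocallyOfFiniteType (Sigma.desc
      (fun i => Spec.map (CommRingCat.ofHom (algebraMap k (K i))))) := by
  constructor
  · apply IsZariskiLocalAtSource.sigmaDesc
    intro i
    rw [HasRingHomProperty.Spec_iff (P := @FormallyUnramified)]
    have := (h i).2
    show (algebraMap k (K i)).FormallyUnramified
    rw [RingHom.formallyUnramified_algebraMap]
    exact Algebra.FormallyUnramified.of_isSeparable k (K i)
  · apply IsZariskiLocalAtSource.sigmaDesc
    intro i
    rw [HasRingHomProperty.Spec_iff (P := @LocallyOfFiniteType)]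
    have := (h i).1
    show (algebraMap k (K i)).FiniteType
    rw [RingHom.finiteType_algebraMap]
    infer_instance


variable (k : Type u) [Field k] {X : Scheme.{u}} (f : X ⟶ Spec (CommRingCat.of k))

/-- the structure ring hom `k → Γ(X,U)` -/
noncomputable def sec (U : X.Opens) : k →+* Γ(X, U) :=
  ((Scheme.ΓSpecIso (CommRingCat.of k)).inv ≫ f.appLE ⊤ U le_top).hom

set_option backward.isDefEq.respectTransparency.types false in
lemma sec_fu [FormallyUnramified f] (U : X.Opens) (hU : IsAffineOpen U) :
    (sec k f U).FormallyUnramified := by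
  have h := HasRingHomProperty.appLE (P := @FormallyUnramified) f inferInstance
    ⟨⊤, isAffineOpen_top _⟩ ⟨U, hU⟩ le_top
  exact (RingHom.FormallyUnramified.respectsIso.cancel_left_isIso
    (Scheme.ΓSpecIso (CommRingCat.of k)).inv (f.appLE ⊤ U le_top)).mpr h

set_option backward.isDefEq.respectTransparency.types false in
lemma sec_ft [LocallyOfFiniteType f] (U : X.Opens) (hU : IsAffineOpen U) :
    (sec k f U).FiniteType := by
  have h := f.finiteType_appLE (isAffineOpen_top _) hU le_top
  exact (RingHom.finiteType_respectsIso.cancel_left_isIso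
    (Scheme.ΓSpecIso (CommRingCat.of k)).inv (f.appLE ⊤ U le_top)).mpr h

lemma sec_finite [FormallyUnramified f] [LocallyOfFiniteType f] (U : X.Opens)
    (hU : IsAffineOpen U) : (sec k f U).Finite := by
  have h1 := sec_fu k f U hU
  have h2 := sec_ft k f U hU
  algebraize [sec k f U]
  have : Algebra.EssFiniteType k Γ(X, U) := inferInstance
  exact Algebra.FormallyUnramified.finite_of_free k Γ(X, U)

lemma sec_isReduced [FormallyUnramified f] [LocallyOfFiniteType f] (U : X.Opens)
    (hU : IsAffineOpen U) : IsReduced Γ(X, U) := by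
  have h1 := sec_fu k f U hU
  have h2 := sec_ft k f U hU
  algebraize [sec k f U]
  have : Algebra.EssFiniteType k Γ(X, U) := inferInstance
  exact Algebra.FormallyUnramified.isReduced_of_field k Γ(X, U)

set_option backward.isDefEq.respectTransparency.types false in
include k f in
lemma discreteTopology [FormallyUnramified f] [LocallyOfFiniteType f] : DiscreteTopology X := by
  rw [discreteTopology_iff_isOpen_singleton]
  intro x
  obtain ⟨_, ⟨U, hU, rfl⟩, hxU, -⟩ := X.isBasis_affineOpens.exists_subset_of_mem_open
    (Set.mem_univ x) isOpen_univ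
  have h1 := sec_finite k f U hU
  algebraize [sec k f U]
  have : IsArtinianRing Γ(X, U) := IsArtinianRing.of_finite k Γ(X, U)
  have : DiscreteTopology (PrimeSpectrum Γ(X, U)) := inferInstance
  obtain ⟨p, hp⟩ : x ∈ Set.range hU.fromSpec.base := by rw [hU.range_fromSpec]; exact hxU
  have h2 : IsOpen ({p} : Set (PrimeSpectrum Γ(X, U))) := isOpen_discrete _
  have h3 := hU.fromSpec.isOpenEmbedding.isOpenMap _ h2
  have h4 : hU.fromSpec.base '' ({p} : Set (PrimeSpectrum Γ(X, U))) = {x} := by
    rw [← hp]; exact Set.image_singleton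
  rwa [h4] at h3

/-- the one point open of a discrete scheme -/
def pt [DiscreteTopology X] (x : X) : X.Opens := ⟨{x}, isOpen_discrete _⟩

lemma isAffineOpen_pt [DiscreteTopology X] (x : X) : IsAffineOpen (pt x) := by
  obtain ⟨_, ⟨V, hV, rfl⟩, hxV, hVU⟩ := X.isBasis_affineOpens.exists_subset_of_mem_open
    (show x ∈ ((pt x : X.Opens) : Set X) from rfl) (pt x).2
  have : V = pt x := by
    apply TopologicalSpace.Opens.ext
    apply le_antisymm hVU
    intro y hy
    have : y = x := hy
    rw [this]; exact hxV
  rw [← this]; exact hV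

set_option backward.isDefEq.respectTransparency.types false in
lemma isField_pt [DiscreteTopology X] [FormallyUnramified f] [LocallyOfFiniteType f] (x : X) :
    IsField Γ(X, pt x) := by
  have hU := isAffineOpen_pt x
  have := sec_isReduced k f (pt x) hU
  have hsub : Subsingleton (PrimeSpectrum Γ(X, pt x)) := by
    constructor
    intro p q
    apply hU.fromSpec.isOpenEmbedding.injective
    have hp : hU.fromSpec.base p ∈ ((pt x : X.Opens) : Set X) := by
      rw [← hU.range_fromSpec]; exact ⟨p, rfl⟩
    have hq : hU.fromSpec.base q ∈ ((pt x : X.Opens) : Set X) := by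
      rw [← hU.range_fromSpec]; exact ⟨q, rfl⟩
    exact (hp : _ = x).trans (hq : _ = x).symm
  have hne : Nontrivial Γ(X, pt x) := by
    have : x ∈ Set.range hU.fromSpec.base := by rw [hU.range_fromSpec]; rfl
    obtain ⟨p, -⟩ := this
    exact PrimeSpectrum.nontrivial p
  exact PrimeSpectrum.subsingleton_iff_isField_of_isReduced.mp hsub

set_option backward.isDefEq.respectTransparency.types false in
lemma fromSpec_comp [DiscreteTopology X] (U : X.Opens) (hU : IsAffineOpen U) :
    hU.fromSpec ≫ f = Spec.map (CommRingCat.ofHom (sec k f U)) := by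
  rw [← IsAffineOpen.SpecMap_appLE_fromSpec f (isAffineOpen_top _) hU le_top,
    IsAffineOpen.fromSpec_top, Scheme.isoSpec_Spec_inv, ← Spec.map_comp]
  rfl

set_option backward.isDefEq.respectTransparency.types false in
theorem exists_iso_sigma [FormallyUnramified f] [LocallyOfFiniteType f] :
    ∃ (ι : Type u) (K : ι → Type u) (_ : ∀ i, Field (K i)) (_ : ∀ i, Algebra k (K i)),
      (∀ i, FiniteDimensional k (K i) ∧ Algebra.IsSeparable k (K i)) ∧
      ∃ e : X ≅ ∐ (fun i => Spec (CommRingCat.of (K i))),
        e.hom ≫ Sigma.desc (fun i => Spec.map (CommRingCat.ofHom (algebraMap k (K i)))) = f := by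
  have hdisc : DiscreteTopology X := discreteTopology k f
  let iF : ∀ x : X, Field Γ(X, pt x) := fun x => (isField_pt k f x).toField
  let iA : ∀ x : X, Algebra k Γ(X, pt x) := fun x => (sec k f (pt x)).toAlgebra
  refine ⟨X, fun x => Γ(X, pt x), iF, iA, ?_, ?_⟩
  · intro x
    have h1 := sec_fu k f (pt x) (isAffineOpen_pt x)
    have h2 := sec_ft k f (pt x) (isAffineOpen_pt x)
    have h3 := sec_finite k f (pt x) (isAffineOpen_pt x)
    have h1' : Algebra.FormallyUnramified k Γ(X, pt x) := h1
    have h2' : Algebra.FiniteType k Γ(X, pt x) := h2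
    have h3' : Module.Finite k Γ(X, pt x) := h3
    refine ⟨h3', ?_⟩
    have : Algebra.EssFiniteType k Γ(X, pt x) := inferInstance
    exact Algebra.FormallyUnramified.isSeparable k Γ(X, pt x)
  · let j : ∀ x : X, Spec (CommRingCat.of Γ(X, pt x)) ⟶ X := fun x => (isAffineOpen_pt x).fromSpec
    have hj : ∀ x, IsOpenImmersion (j x) := fun x => inferInstance
    have hrange : ∀ x, (j x).opensRange = pt x := fun x => by
      apply TopologicalSpace.Opens.ext
      exact (isAffineOpen_pt x).range_fromSpec
    have hcov : ⨆ x, (j x).opensRange = ⊤ := by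
      rw [eq_top_iff]
      intro x _
      rw [TopologicalSpace.Opens.mem_iSup]
      exact ⟨x, by rw [hrange]; rfl⟩
    have hdisj : Pairwise (Function.onFun Disjoint (fun x => (j x).opensRange)) := by
      intro x y hxy
      rw [Function.onFun, hrange, hrange, disjoint_iff, ← TopologicalSpace.Opens.coe_inj]
      ext z
      simp only [TopologicalSpace.Opens.coe_inf, Set.mem_inter_iff, SetLike.mem_coe,
        TopologicalSpace.Opens.coe_bot, Set.mem_empty_iff_false, iff_false, not_and]
      intro (h1 : z = x) (h2 : z = y)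
      exact hxy (h1.symm.trans h2)
    obtain ⟨hc⟩ := nonempty_isColimit_cofanMk_of j hcov hdisj
    let e : X ≅ ∐ (fun x : X => Spec (CommRingCat.of Γ(X, pt x))) :=
      hc.coconePointUniqueUpToIso (coproductIsCoproduct _)
    refine ⟨e, ?_⟩
    apply Cofan.IsColimit.hom_ext hc
    intro x
    have h1 : Cofan.inj (Cofan.mk X j) x ≫ e.hom =
        Sigma.ι (fun x : X => Spec (CommRingCat.of Γ(X, pt x))) x :=
      hc.comp_coconePointUniqueUpToIso_hom (coproductIsCoproduct _) ⟨x⟩
    rw [reassoc_of% h1, Sigma.ι_desc]
    exact (fromSpec_comp k f (pt x) (isAffineOpen_pt x)).symm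

end Groth.Agent.H1.FieldUnram
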