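import Mathlib
import Groth.Agent.Lib.Helper1.FieldUnram

open AlgebraicGeometry CategoryTheory Limits TopologicalSpace Polynomial Cardinal

universe u

namespace Groth.Agent.H1.UncNss

/-- if `t` is transcendental over `k` then the `(t - a)⁻¹`, `a ∈ k`, are linearly independent -/
lemma linearIndependent_inv_sub {k L : Type*} [Field k] [Field L] [Algebra k L] {t : L}
    (ht : Transcendental k t) : LinearIndependent k (fun a : k => (t - algebraMap k L a)⁻¹) := by
  classical
  rw [linearIndependent_iff']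
  intro s g hg a₀ ha₀
  have hne : ∀ b : k, t - algebraMap k L b ≠ 0 := by
    intro b hb
    apply ht
    rw [sub_eq_zero.mp hb]
    exact isAlgebraic_algebraMap b
  let p : k[X] := ∑ a ∈ s, C (g a) * ∏ b ∈ s.erase a, (X - C b)
  have hp : aeval t p = 0 := by
    simp only [p, map_sum, map_mul, map_prod, map_sub, aeval_X, aeval_C]
    have h1 : ∀ a ∈ s, algebraMap k L (g a) * ∏ b ∈ s.erase a, (t - algebraMap k L b) =
        (g a • (t - algebraMap k L a)⁻¹) * ∏ b ∈ s, (t - algebraMap k L b) := by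
      intro a ha
      rw [← Finset.mul_prod_erase s _ ha, Algebra.smul_def, mul_assoc,
        inv_mul_cancel_left₀ (hne a)]
    rw [Finset.sum_congr rfl h1, ← Finset.sum_mul, hg, zero_mul]
  have hp0 : p = 0 := by
    by_contra hne0
    exact ht ⟨p, hne0, hp⟩
  have he : eval a₀ p = g a₀ * ∏ b ∈ s.erase a₀, (a₀ - b) := by
    simp only [p, eval_finset_sum, eval_mul, eval_C, eval_prod, eval_sub, eval_X]
    rw [Finset.sum_eq_single a₀]
    · intro a ha hne'
      have : a₀ ∈ s.erase a := Finset.mem_erase.mpr ⟨fun h => hne' h.symm, ha₀⟩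
      rw [Finset.prod_eq_zero this (sub_self a₀), mul_zero]
    · intro h; exact absurd ha₀ h
  rw [hp0, eval_zero] at he
  have hprod : ∏ b ∈ s.erase a₀, (a₀ - b) ≠ 0 := by
    rw [Finset.prod_ne_zero_iff]
    intro b hb
    exact sub_ne_zero.mpr (fun h => (Finset.mem_erase.mp hb).1 h.symm)
  exact (mul_eq_zero.mp he.symm).resolve_right hprod

/-- a field extension of countable dimension over an uncountable field is algebraic -/
lemma isAlgebraic_of_rank_le_aleph0 {k L : Type u} [Field k] [Field L] [Algebra k L]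
    [Uncountable k] (hr : Module.rank k L ≤ ℵ₀) : Algebra.IsAlgebraic k L := by
  refine ⟨fun t => ?_⟩
  by_contra ht
  have h1 : #k ≤ Module.rank k L := (linearIndependent_inv_sub (k := k) (L := L) ht).cardinal_le_rank
  have h2 : ℵ₀ < #k := Cardinal.aleph0_lt_mk_iff.mpr inferInstance
  exact absurd (h1.trans hr) (not_le.mpr h2)

lemma rank_le_aleph0_of_surjective {k R : Type u} {σ : Type} [Field k] [CommRing R] [Algebra k R]
    [Countable σ] (Φ : MvPolynomial σ k →ₐ[k] R) (hΦ : Function.Surjective Φ) :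
    Module.rank k R ≤ ℵ₀ := by
  have h1 : Module.rank k R ≤ Module.rank k (MvPolynomial σ k) :=
    Φ.toLinearMap.rank_le_of_surjective hΦ
  have h2 := (MvPolynomial.basisMonomials σ k).mk_eq_rank
  rw [Cardinal.lift_uzero] at h2
  rw [← h2] at h1
  refine h1.trans ?_
  rw [Cardinal.lift_le_aleph0]
  exact Cardinal.mk_le_aleph0

/-- uncountable Nullstellensatz-type statement: a finitely generated domain over an uncountable
field has a maximal ideal avoiding countably many given nonzero elements -/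
theorem exists_maximal_avoiding {k A : Type u} [Field k] [Uncountable k] [CommRing A] [IsDomain A]
    [Algebra k A] [Algebra.FiniteType k A] (f : ℕ → A) (hf : ∀ n, f n ≠ 0) :
    ∃ m : Ideal A, m.IsMaximal ∧ ∀ n, f n ∉ m := by
  classical
  let K := FractionRing A
  obtain ⟨d, π, hπ⟩ := Algebra.FiniteType.iff_quotient_mvPolynomial''.mp ‹Algebra.FiniteType k A›
  let gen : Fin d ⊕ ℕ → K := Sum.elim (fun i => algebraMap A K (π (MvPolynomial.X i)))
    (fun n => (algebraMap A K (f n))⁻¹)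
  let Φ : MvPolynomial (Fin d ⊕ ℕ) k →ₐ[k] K := MvPolynomial.aeval gen
  have hcomp : (IsScalarTower.toAlgHom k A K).comp π =
      MvPolynomial.aeval (fun i => algebraMap A K (π (MvPolynomial.X i))) := by
    apply MvPolynomial.algHom_ext
    intro i
    simp
  have hAR : ∀ a : A, algebraMap A K a ∈ Φ.range := by
    intro a
    obtain ⟨p, rfl⟩ := hπ a
    refine ⟨MvPolynomial.rename Sum.inl p, ?_⟩
    have h1 : Φ (MvPolynomial.rename Sum.inl p) =
        MvPolynomial.aeval (fun i => algebraMap A K (π (MvPolynomial.X i))) p := by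
      show MvPolynomial.aeval gen (MvPolynomial.rename Sum.inl p) = _
      rw [MvPolynomial.aeval_rename]
      rfl
    change Φ (MvPolynomial.rename Sum.inl p) = _
    rw [h1, ← hcomp]
    rfl
  have hinvR : ∀ n, (algebraMap A K (f n))⁻¹ ∈ Φ.range := by
    intro n
    refine ⟨MvPolynomial.X (Sum.inr n), ?_⟩
    show MvPolynomial.aeval gen (MvPolynomial.X (Sum.inr n)) = _
    rw [MvPolynomial.aeval_X]
    rfl
  obtain ⟨𝔫, h𝔫⟩ := Ideal.exists_maximal Φ.range
  letI : Field (Φ.range ⧸ 𝔫) := Ideal.Quotient.field 𝔫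
  -- countable dimension
  let Ψ : MvPolynomial (Fin d ⊕ ℕ) k →ₐ[k] (Φ.range ⧸ 𝔫) :=
    (Ideal.Quotient.mkₐ k 𝔫).comp Φ.rangeRestrict
  have hΨ : Function.Surjective Ψ :=
    (Ideal.Quotient.mkₐ_surjective k 𝔫).comp Φ.rangeRestrict_surjective
  have hrank : Module.rank k (Φ.range ⧸ 𝔫) ≤ ℵ₀ := rank_le_aleph0_of_surjective Ψ hΨ
  haveI halg : Algebra.IsAlgebraic k (Φ.range ⧸ 𝔫) := isAlgebraic_of_rank_le_aleph0 hrank
  -- the map A → L
  let ι : A →ₐ[k] Φ.range := (IsScalarTower.toAlgHom k A K).codRestrict Φ.range hAR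
  let θ : A →ₐ[k] (Φ.range ⧸ 𝔫) := (Ideal.Quotient.mkₐ k 𝔫).comp ι
  letI : Algebra A (Φ.range ⧸ 𝔫) := θ.toRingHom.toAlgebra
  haveI : IsScalarTower k A (Φ.range ⧸ 𝔫) :=
    IsScalarTower.of_algebraMap_eq (fun x => (θ.commutes x).symm)
  haveI : Algebra.IsIntegral A (Φ.range ⧸ 𝔫) :=
    ⟨fun x => (Algebra.IsIntegral.isIntegral (R := k) x).tower_top⟩
  haveI : (⊥ : Ideal (Φ.range ⧸ 𝔫)).IsMaximal := Ideal.bot_isMaximal
  refine ⟨Ideal.comap (algebraMap A (Φ.range ⧸ 𝔫)) ⊥,
    Ideal.isMaximal_comap_of_isIntegral_of_isMaximal ⊥, ?_⟩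
  intro n hn
  rw [Ideal.mem_comap, Ideal.mem_bot] at hn
  have hn' : θ (f n) = 0 := hn
  have hne : algebraMap A K (f n) ≠ 0 := by
    intro h
    exact hf n ((IsFractionRing.injective A K) (h.trans (map_zero _).symm))
  have hunit : ι (f n) * ⟨(algebraMap A K (f n))⁻¹, hinvR n⟩ = 1 := by
    apply Subtype.ext
    show algebraMap A K (f n) * (algebraMap A K (f n))⁻¹ = 1
    exact mul_inv_cancel₀ hne
  have h2 : θ (f n) * (Ideal.Quotient.mkₐ k 𝔫) ⟨(algebraMap A K (f n))⁻¹, hinvR n⟩ = 1 := by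
    show (Ideal.Quotient.mkₐ k 𝔫) (ι (f n)) * _ = 1
    rw [← map_mul, hunit, map_one]
  rw [hn', zero_mul] at h2
  exact zero_ne_one h2

variable (k : Type u) [Field k] [Uncountable k]

theorem core (X : Scheme.{u}) (sX : X ⟶ Spec (CommRingCat.of k)) [IrreducibleSpace X]
    [LocallyOfFiniteType sX] (Z : ℕ → TopologicalSpace.Closeds X)
    (hZ : ∀ n, (Z n : Set X) ≠ Set.univ) (W : Set X) (hW : IsOpen W) (hWne : W.Nonempty) :
    ∃ x : X, x ∈ W ∧ IsClosed ({x} : Set X) ∧ ∀ n, x ∉ Z n := by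
  obtain ⟨w, hw⟩ := hWne
  obtain ⟨_, ⟨U, hU : IsAffineOpen U, rfl⟩, hwU, hUW⟩ :=
    X.isBasis_affineOpens.exists_subset_of_mem_open hw hW
  have hξU : genericPoint X ∈ U := by
    exact ((genericPoint_spec X).mem_open_set_iff U.2).mpr ⟨w, Set.mem_univ _, hwU⟩
  have hξZ : ∀ n, genericPoint X ∉ (Z n : Set X) := by
    intro n h
    apply hZ n
    rw [Set.eq_univ_iff_forall]
    intro y
    have : closure {genericPoint X} ⊆ (Z n : Set X) :=
      (Z n).isClosed.closure_subset_iff.mpr (Set.singleton_subset_iff.mpr h)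
    exact this ((genericPoint_spec X).def ▸ Set.mem_univ y)
  -- choose f_n
  have hfn : ∀ n, ∃ f : Γ(X, U), X.basicOpen f ≤ (Z n).compl ∧ genericPoint X ∈ X.basicOpen f :=
    fun n => hU.exists_basicOpen_le (V := (Z n).compl) ⟨genericPoint X, hξZ n⟩ hξU
  choose f hfZ hfξ using hfn
  -- algebra structure
  have hft := FieldUnram.sec_ft k sX U hU
  algebraize [FieldUnram.sec k sX U]
  let p := hU.primeIdealOf ⟨genericPoint X, hξU⟩
  have hmem : ∀ (q : PrimeSpectrum Γ(X, U)) (g : Γ(X, U)),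
      hU.fromSpec q ∈ X.basicOpen g ↔ g ∉ q.asIdeal := by
    intro q g
    have h1 : hU.fromSpec q ∈ X.basicOpen g ↔ q ∈ hU.fromSpec ⁻¹ᵁ X.basicOpen g := Iff.rfl
    rw [h1, hU.fromSpec_preimage_basicOpen]
    exact PrimeSpectrum.mem_basicOpen _ _
  have hfp : ∀ n, f n ∉ p.asIdeal := by
    intro n
    rw [← hmem, hU.fromSpec_primeIdealOf]
    exact hfξ n
  haveI : Algebra.FiniteType k (Γ(X, U) ⧸ p.asIdeal) :=
    Algebra.FiniteType.of_surjective (Ideal.Quotient.mkₐ k p.asIdeal)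
      (Ideal.Quotient.mkₐ_surjective k p.asIdeal)
  obtain ⟨mb, hmb, hmbf⟩ := exists_maximal_avoiding (k := k) (A := Γ(X, U) ⧸ p.asIdeal)
    (fun n => Ideal.Quotient.mk p.asIdeal (f n))
    (fun n h => hfp n (Ideal.Quotient.eq_zero_iff_mem.mp h))
  have hmax : (mb.comap (Ideal.Quotient.mk p.asIdeal)).IsMaximal :=
    Ideal.comap_isMaximal_of_surjective _ Ideal.Quotient.mk_surjective
  let q : PrimeSpectrum Γ(X, U) := ⟨mb.comap (Ideal.Quotient.mk p.asIdeal), hmax.isPrime⟩
  haveI : JacobsonSpace X := LocallyOfFiniteType.jacobsonSpace sX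
  refine ⟨hU.fromSpec q, hUW ?_, ?_, ?_⟩
  · have : hU.fromSpec q ∈ Set.range hU.fromSpec := Set.mem_range_self q
    rw [hU.range_fromSpec] at this
    exact this
  · apply isClosed_singleton_of_isLocallyClosed_singleton
    have hq : IsClosed ({q} : Set ↥(Spec Γ(X, U))) :=
      (PrimeSpectrum.isClosed_singleton_iff_isMaximal q).mpr hmax
    have h3 : IsLocallyClosed (hU.fromSpec '' ({q} : Set ↥(Spec Γ(X, U)))) :=
      hq.isLocallyClosed.image hU.fromSpec.isOpenEmbedding.isInducing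
        hU.fromSpec.isOpenEmbedding.isOpen_range.isLocallyClosed
    have himg : hU.fromSpec '' ({q} : Set ↥(Spec Γ(X, U))) = {hU.fromSpec q} := by
      ext y
      constructor
      · rintro ⟨z, hz, rfl⟩
        rw [Set.mem_singleton_iff.mp hz]; rfl
      · intro hy
        rw [Set.mem_singleton_iff.mp hy]
        exact ⟨q, rfl, rfl⟩
    rw [himg] at h3
    exact h3
  · intro n hn
    have h1 : hU.fromSpec q ∈ X.basicOpen (f n) := by
      rw [hmem]
      exact fun h => hmbf n h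
    exact hfZ n h1 hn

theorem s15237 (X : Scheme.{u}) (sX : X ⟶ Spec (CommRingCat.of k)) [IrreducibleSpace X]
    [LocallyOfFiniteType sX] (Z : ℕ → TopologicalSpace.Closeds X)
    (hZ : ∀ n, (Z n : Set X) ≠ Set.univ) :
    ∃ x : X, IsClosed ({x} : Set X) ∧ ∀ n, x ∉ Z n := by
  obtain ⟨x, -, h1, h2⟩ := core k X sX Z hZ Set.univ isOpen_univ Set.univ_nonempty
  exact ⟨x, h1, h2⟩

theorem s16920 (V : Scheme.{u}) (sV : V ⟶ Spec (CommRingCat.of k)) [IrreducibleSpace V]
    [LocallyOfFiniteType sV] (Z : ℕ → TopologicalSpace.Closeds V)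
    (hZ : ∀ n, (Z n : Set V) ≠ Set.univ) :
    Dense {x : V | IsClosed ({x} : Set V) ∧ ∀ n, x ∉ Z n} := by
  rw [dense_iff_inter_open]
  intro W hW hWne
  obtain ⟨x, hxW, h1, h2⟩ := core k V sV Z hZ W hW hWne
  exact ⟨x, hxW, h1, h2⟩

end Groth.Agent.H1.UncNss
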