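import Mathlib
import Groth.Agent.Lib.Helper1.RelDim
import Groth.Agent.Lib.Helper1.ClosureDim
import Groth.Agent.Lib.Helper3.TopDim

/-! Dimension of closed and nowhere dense subsets of schemes locally of finite type over a field
(helper1). -/

set_option autoImplicit false
set_option linter.style.haveILetI false

universe u

open CategoryTheory AlgebraicGeometry TopologicalSpace Topology

namespace Groth.Agent.H1.ClosedDim

section Top

variable {T : Type*} [TopologicalSpace T]

/-- the dimension of a subset of a quasi-sober space is at most the supremum of the dimensions of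
the closures of the points of its closure. -/
theorem dim_le_iSup_closure [QuasiSober T] (S : Set T) (hS : IsClosed S) :
    topologicalKrullDim ↥S ≤ ⨆ x : S, topologicalKrullDim ↥(closure ({x.1} : Set T)) := by
  unfold topologicalKrullDim
  rw [Order.krullDim]
  apply iSup_le
  intro l
  let l' : LTSeries (IrreducibleCloseds T) :=
    l.map (IrreducibleCloseds.map Subtype.val continuous_subtype_val)
      (IrreducibleCloseds.map_strictMono_of_isInducing IsInducing.subtypeVal)
  have hlen : l'.length = l.length := rfl
  obtain ⟨x, hx⟩ := QuasiSober.sober l'.last.isIrreducible l'.last.isClosed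
  have hxS : x ∈ S := by
    have h1 : x ∈ (l'.last : Set T) := by
      rw [← hx.def]; exact subset_closure rfl
    have h2 : (l'.last : Set T) ⊆ S := by
      change closure (Subtype.val '' (l.last : Set S)) ⊆ S
      apply closure_minimal _ hS
      rintro _ ⟨w, -, rfl⟩
      exact w.2
    exact h2 h1
  have h3 := Groth.Agent.H3.TopDim.length_le_dim_of_last_subset (closure ({x} : Set T)) l'
    (by rw [hx.def])
  rw [hlen] at h3
  exact h3.trans (le_iSup (fun x : S => topologicalKrullDim ↥(closure ({x.1} : Set T))) ⟨x, hxS⟩)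

/-- a supremum of elements of `WithBot ℕ∞` all smaller than a natural number is smaller than it. -/
theorem iSup_lt_nat {ι : Sort*} (g : ι → WithBot ℕ∞) (d : ℕ) (h : ∀ i, g i < (d : WithBot ℕ∞)) :
    (⨆ i, g i) < (d : WithBot ℕ∞) := by
  cases d with
  | zero =>
    have h0 : ∀ i, g i = ⊥ := by
      intro i
      have := h i
      induction hgi : g i using WithBot.recBotCoe with
      | bot => rfl
      | coe j =>
        rw [hgi] at this
        have h2 : ((j : ℕ∞) : WithBot ℕ∞) < ((0 : ℕ∞) : WithBot ℕ∞) := by exact_mod_cast this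
        rw [WithBot.coe_lt_coe] at h2
        exact absurd h2 (not_lt.mpr zero_le)
    have : (⨆ i, g i) = ⊥ := by
      rw [eq_bot_iff]
      exact iSup_le fun i => (h0 i).le
    rw [this]
    exact WithBot.bot_lt_coe _
  | succ n =>
    have hle : (⨆ i, g i) ≤ ((n : ℕ) : WithBot ℕ∞) := by
      apply iSup_le
      intro i
      have := h i
      induction hgi : g i using WithBot.recBotCoe with
      | bot => exact bot_le
      | coe j =>
        rw [hgi] at this
        have h2 : ((j : ℕ∞) : WithBot ℕ∞) < (((n + 1 : ℕ) : ℕ∞) : WithBot ℕ∞) := by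
          exact_mod_cast this
        rw [WithBot.coe_lt_coe] at h2
        have h3 : j ≤ (n : ℕ∞) := by
          have : j < (n : ℕ∞) + 1 := by exact_mod_cast h2
          exact ENat.lt_natCast_add_one_iff.mp this
        have : ((j : ℕ∞) : WithBot ℕ∞) ≤ ((n : ℕ∞) : WithBot ℕ∞) := WithBot.coe_le_coe.mpr h3
        exact_mod_cast this
    refine lt_of_le_of_lt hle ?_
    exact_mod_cast Nat.lt_succ_self n

end Top

section Sch

variable {k : Type u} [Field k] {Y : Scheme.{u}} (g : Y ⟶ Spec (CommRingCat.of k))
  [LocallyOfFiniteType g]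

include g in
/-- a proper closed subset of an irreducible closed subset has smaller dimension. -/
theorem dim_closure_lt_of_ne {T : Set Y} (hT : IsIrreducible T) (hTc : IsClosed T) (x : Y)
    (hx : x ∈ T) (hne : closure ({x} : Set Y) ≠ T) :
    topologicalKrullDim ↥(closure ({x} : Set Y)) < topologicalKrullDim ↥T := by
  have hsub : closure ({x} : Set Y) ⊆ T := closure_minimal (Set.singleton_subset_iff.mpr hx) hTc
  haveI : IrreducibleSpace ↥T := Subtype.irreducibleSpace hT
  -- finiteness of the dimension of `T`
  obtain ⟨ξ, hξ⟩ := QuasiSober.sober hT hTc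
  obtain ⟨t, -, ht⟩ := Groth.Agent.H1.ClosureDim.exists_trdeg_eq_dim_closure g ξ
  rw [hξ.def] at ht
  have hfin : topologicalKrullDim ↥T ≠ ⊤ := by
    rw [ht]
    intro h'
    have h'' : ((t : ℕ∞) : WithBot ℕ∞) = ((⊤ : ℕ∞) : WithBot ℕ∞) := h'
    exact ENat.natCast_ne_top t (WithBot.coe_injective h'')
  have h1 := Groth.Agent.H3.TopDim.dim_lt_of_isClosed_ne_univ hfin
    ((Subtype.val : ↥T → Y) ⁻¹' closure ({x} : Set Y))
    (isClosed_closure.preimage continuous_subtype_val) (by
      intro h
      apply hne
      apply Set.Subset.antisymm hsub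
      intro y hy
      have : (⟨y, hy⟩ : ↥T) ∈ (Subtype.val : ↥T → Y) ⁻¹' closure ({x} : Set Y) := by
        rw [h]; trivial
      exact this)
  have h2 := Groth.Agent.H1.RelDim.dim_preimage_eq_of_isEmbedding
    (IsEmbedding.subtypeVal (p := fun y : Y => y ∈ T)) (closure ({x} : Set Y))
  rw [Subtype.range_coe_subtype] at h2
  have h3 : closure ({x} : Set Y) ∩ {y | y ∈ T} = closure ({x} : Set Y) :=
    Set.inter_eq_left.mpr hsub
  rw [h3] at h2
  rw [← h2]
  exact h1

end Sch

end Groth.Agent.H1.ClosedDim
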