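import Mathlib
import Groth.Agent.Lib.Helper1.UncNss
import Groth.Agent.Lib.Helper1.QFDimLe
import Groth.Agent.Lib.Helper1.GeoKrull
import Groth.Agent.Lib.Helper9.Misc.ORB3

open AlgebraicGeometry CategoryTheory Limits TopologicalSpace

universe u

namespace Groth.Agent.H1.IrrDecomp

lemma exists_max_above {α : Type*} [PartialOrder α] (hfin : ∀ x : α, Order.coheight x < ⊤)
    (A : Set α) {a : α} (ha : a ∈ A) : ∃ b ∈ A, a ≤ b ∧ ∀ c ∈ A, b ≤ c → c = b := by
  obtain ⟨m, ⟨b, hbB, rfl⟩, hmin⟩ := WellFounded.has_min (wellFounded_lt (α := ℕ∞))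
    (Order.coheight '' {c | c ∈ A ∧ a ≤ c}) ⟨_, a, ⟨ha, le_rfl⟩, rfl⟩
  refine ⟨b, hbB.1, hbB.2, fun c hc hbc => ?_⟩
  by_contra hne
  have hlt : b < c := lt_of_le_of_ne hbc (Ne.symm hne)
  exact hmin _ ⟨c, ⟨hc, hbB.2.trans hbc⟩, rfl⟩ (Order.coheight_strictAnti hlt (hfin _))

variable (k : Type u) [Field k] [Uncountable k]

theorem exists_le_of_closedPoints (X : Scheme.{u}) (sX : X ⟶ Spec (CommRingCat.of k))
    [LocallyOfFiniteType sX] (T : Closeds X) (hT : IsIrreducible (T : Set X))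
    (C : ℕ → Closeds X) (h : ∀ x ∈ T, IsClosed ({x} : Set X) → ∃ n, x ∈ C n) :
    ∃ n, T ≤ C n := by
  by_contra hne
  push Not at hne
  let I := Scheme.IdealSheafData.vanishingIdeal T
  have hrange : Set.range I.subschemeι = (T : Set X) :=
    QFDimLe.range_subschemeι_vanishingIdeal T
  haveI : IrreducibleSpace ↥I.subscheme := by
    rw [irreducibleSpace_def]
    have h1 := GeoKrull.isIrreducible_preimage_of_subset_range
      I.subschemeι.isEmbedding.isInducing hT hrange.ge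
    have h2 : (I.subschemeι ⁻¹' (T : Set X)) = Set.univ := by
      ext x
      simp only [Set.mem_preimage, Set.mem_univ, iff_true]
      rw [← hrange]
      exact Set.mem_range_self x
    rwa [h2] at h1
  let Z' : ℕ → Closeds ↥I.subscheme := fun n =>
    ⟨I.subschemeι ⁻¹' (C n : Set X), (C n).isClosed.preimage I.subschemeι.continuous⟩
  have hZ' : ∀ n, (Z' n : Set ↥I.subscheme) ≠ Set.univ := by
    intro n hn
    apply hne n
    rw [← SetLike.coe_subset_coe]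
    intro x hx
    have hx' : x ∈ Set.range I.subschemeι := by rw [hrange]; exact hx
    obtain ⟨x', rfl⟩ := hx'
    have : x' ∈ (Z' n : Set ↥I.subscheme) := by rw [hn]; exact Set.mem_univ x'
    exact this
  obtain ⟨x', -, hx'c, hx'⟩ := UncNss.core k I.subscheme (I.subschemeι ≫ sX) Z' hZ' Set.univ
    isOpen_univ Set.univ_nonempty
  have hxT : I.subschemeι x' ∈ (T : Set X) := by rw [← hrange]; exact Set.mem_range_self x'
  have hcl : IsClosed ({I.subschemeι x'} : Set X) := by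
    have := I.subschemeι.isClosedEmbedding.isClosedMap _ hx'c
    rwa [Set.image_singleton] at this
  obtain ⟨n, hn⟩ := h _ hxT hcl
  exact hx' n hn

theorem exists_le_of_closedPoints_countable (X : Scheme.{u}) (sX : X ⟶ Spec (CommRingCat.of k))
    [LocallyOfFiniteType sX] (T : Closeds X) (hT : IsIrreducible (T : Set X))
    (S : Set (Closeds X)) (hS : S.Countable)
    (h : ∀ x ∈ T, IsClosed ({x} : Set X) → ∃ C ∈ S, x ∈ C) : ∃ C ∈ S, T ≤ C := by
  rcases S.eq_empty_or_nonempty with rfl | hSne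
  · exfalso
    obtain ⟨n, hn⟩ := exists_le_of_closedPoints k X sX T hT (fun _ => ⊥) (fun x hx hc => by
      obtain ⟨C, hC, -⟩ := h x hx hc
      exact absurd hC (Set.notMem_empty _))
    obtain ⟨t, ht⟩ := hT.nonempty
    have h0 : t ∈ ((⊥ : Closeds X) : Set X) := hn ht
    rw [Closeds.coe_bot] at h0
    exact h0
  · obtain ⟨e, he⟩ := hS.exists_eq_range hSne
    obtain ⟨n, hn⟩ := exists_le_of_closedPoints k X sX T hT e (fun x hx hc => by
      obtain ⟨C, hC, hxC⟩ := h x hx hc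
      rw [he] at hC
      obtain ⟨n, rfl⟩ := hC
      exact ⟨n, hxC⟩)
    exact ⟨e n, he ▸ Set.mem_range_self n, hn⟩

theorem s16917 (X : Scheme.{u}) (sX : X ⟶ Spec (CommRingCat.of k)) [LocallyOfFiniteType sX]
    [QuasiCompact sX] (Z : ℕ → TopologicalSpace.Closeds X) :
    ∃! S : Set (TopologicalSpace.Closeds X), S.Countable ∧ (∀ T ∈ S, IsIrreducible (T : Set X)) ∧
      IsAntichain (· ≤ ·) S ∧
      {x : X | IsClosed ({x} : Set X) ∧ ∃ T ∈ S, x ∈ T} =
        {x : X | IsClosed ({x} : Set X) ∧ ∃ n, x ∈ Z n} := by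
  have hZn : IsLocallyNoetherian X := LocallyOfFiniteType.isLocallyNoetherian sX
  have hZc : CompactSpace X := QuasiCompact.compactSpace_of_compactSpace sX
  haveI : IsNoetherian X := {}
  obtain ⟨N, hN⟩ := Groth.Agent.H9.ORB3.exists_nat_dim_le sX
  have hfin : ∀ C : IrreducibleCloseds X, Order.coheight C < ⊤ := by
    intro C
    have h1 : ((Order.coheight C : ℕ∞) : WithBot ℕ∞) ≤ ((N : ℕ∞) : WithBot ℕ∞) :=
      (Order.coheight_le_krullDim C).trans hN
    have h2 : Order.coheight C ≤ (N : ℕ∞) := WithBot.coe_le_coe.mp h1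
    exact lt_of_le_of_lt h2 (ENat.natCast_lt_top N)
  -- uniqueness helper
  have key : ∀ S₁ S₂ : Set (Closeds X),
      (S₁.Countable ∧ (∀ T ∈ S₁, IsIrreducible (T : Set X)) ∧ IsAntichain (· ≤ ·) S₁ ∧
        {x : X | IsClosed ({x} : Set X) ∧ ∃ T ∈ S₁, x ∈ T} =
          {x : X | IsClosed ({x} : Set X) ∧ ∃ n, x ∈ Z n}) →
      (S₂.Countable ∧ (∀ T ∈ S₂, IsIrreducible (T : Set X)) ∧ IsAntichain (· ≤ ·) S₂ ∧
        {x : X | IsClosed ({x} : Set X) ∧ ∃ T ∈ S₂, x ∈ T} =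
          {x : X | IsClosed ({x} : Set X) ∧ ∃ n, x ∈ Z n}) → S₁ ⊆ S₂ := by
    rintro S₁ S₂ ⟨c1, i1, a1, e1⟩ ⟨c2, i2, a2, e2⟩ T hT
    have h12 : ∀ T ∈ S₁, ∃ T' ∈ S₂, T ≤ T' := fun T hT =>
      exists_le_of_closedPoints_countable k X sX T (i1 T hT) S₂ c2 (fun x hx hc => by
        have hmem : x ∈ {x : X | IsClosed ({x} : Set X) ∧ ∃ T ∈ S₁, x ∈ T} := ⟨hc, T, hT, hx⟩
        rw [e1, ← e2] at hmem
        exact hmem.2)
    have h21 : ∀ T ∈ S₂, ∃ T' ∈ S₁, T ≤ T' := fun T hT =>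
      exists_le_of_closedPoints_countable k X sX T (i2 T hT) S₁ c1 (fun x hx hc => by
        have hmem : x ∈ {x : X | IsClosed ({x} : Set X) ∧ ∃ T ∈ S₂, x ∈ T} := ⟨hc, T, hT, hx⟩
        rw [e2, ← e1] at hmem
        exact hmem.2)
    obtain ⟨T', hT', hle⟩ := h12 T hT
    obtain ⟨T'', hT'', hle'⟩ := h21 T' hT'
    have h1 : T = T'' := a1.eq hT hT'' (hle.trans hle')
    have h2 : T = T' := le_antisymm hle (h1 ▸ hle')
    rw [h2]
    exact hT'
  -- existence
  choose F hFirr hFeq using fun n => NoetherianSpace.exists_finset_irreducible (Z n)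
  let tc : IrreducibleCloseds X → Closeds X := fun C => ⟨(C : Set X), C.isClosed⟩
  have tc_inj : Function.Injective tc := by
    intro C C' h
    apply IrreducibleCloseds.ext
    exact congrArg (fun D : Closeds X => (D : Set X)) h
  let 𝒟 : Set (IrreducibleCloseds X) := {C | ∃ n, tc C ∈ F n}
  let M : Set (IrreducibleCloseds X) := {C | C ∈ 𝒟 ∧ ∀ C' ∈ 𝒟, C ≤ C' → C' = C}
  have h𝒟c : 𝒟.Countable := by
    have : 𝒟 = ⋃ n, tc ⁻¹' (F n : Set (Closeds X)) := by
      ext C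
      simp only [Set.mem_iUnion, Set.mem_preimage, Finset.mem_coe]
      rfl
    rw [this]
    exact Set.countable_iUnion (fun n =>
      (Set.Finite.preimage tc_inj.injOn (F n).finite_toSet).countable)
  have hmemsup : ∀ (n : ℕ) (x : X), x ∈ Z n ↔ ∃ D ∈ F n, x ∈ D := by
    intro n x
    rw [hFeq n, ← SetLike.mem_coe, Closeds.coe_finset_sup]
    simp only [Finset.sup_set_eq_biUnion, Set.mem_iUnion, exists_prop]
    rfl
  have hS : (tc '' M).Countable ∧ (∀ T ∈ tc '' M, IsIrreducible (T : Set X)) ∧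
      IsAntichain (· ≤ ·) (tc '' M) ∧
      {x : X | IsClosed ({x} : Set X) ∧ ∃ T ∈ tc '' M, x ∈ T} =
        {x : X | IsClosed ({x} : Set X) ∧ ∃ n, x ∈ Z n} := by
    refine ⟨(h𝒟c.mono (fun C hC => hC.1)).image tc, ?_, ?_, ?_⟩
    · rintro _ ⟨C, -, rfl⟩
      exact C.isIrreducible
    · rintro _ ⟨C, hC, rfl⟩ _ ⟨C', hC', rfl⟩ hne hle
      apply hne
      have hCC' : C ≤ C' := by
        rw [← SetLike.coe_subset_coe]
        exact SetLike.coe_subset_coe.mpr hle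
      rw [hC.2 C' hC'.1 hCC']
    · ext x
      constructor
      · rintro ⟨hc, _, ⟨C, hCM, rfl⟩, hx⟩
        obtain ⟨n, hn⟩ := hCM.1
        exact ⟨hc, n, (hmemsup n x).mpr ⟨tc C, hn, hx⟩⟩
      · rintro ⟨hc, n, hx⟩
        obtain ⟨D, hD, hxD⟩ := (hmemsup n x).mp hx
        let C₀ : IrreducibleCloseds X := ⟨(D : Set X), hFirr n ⟨D, hD⟩, D.isClosed⟩
        have hC₀ : C₀ ∈ 𝒟 := ⟨n, hD⟩
        obtain ⟨C₁, hC₁, hle, hmax⟩ := exists_max_above hfin 𝒟 hC₀
        refine ⟨hc, tc C₁, ⟨C₁, ⟨hC₁, hmax⟩, rfl⟩, ?_⟩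
        exact (SetLike.coe_subset_coe.mpr hle) hxD
  refine ⟨tc '' M, hS, fun S' hS' => ?_⟩
  exact Set.Subset.antisymm (key S' _ hS' hS) (key _ S' hS hS')

end Groth.Agent.H1.IrrDecomp
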