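import Mathlib
import Groth.Agent.Lib.Helper1.IrrDecomp
import Groth.Agent.Lib.Helper9.Misc.GZA4

/-!
# Subgroups of the rational points of an abelian variety which are countable unions of closed sets
-/

set_option autoImplicit false
universe u
open CategoryTheory CategoryTheory.Limits MonoidalCategory CartesianMonoidalCategory MonObj GrpObj
  AlgebraicGeometry TopologicalSpace

namespace Groth.Agent.H1.AbCtbl

variable {k : Type u} [Field k]

local notation "𝟙k" => 𝟙_ (Over (Spec (CommRingCat.of k)))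

/-- the point underlying a rational point -/
noncomputable def P {X : Over (Spec (CommRingCat.of k))} (x : 𝟙k ⟶ X) : ↥X.left :=
  x.left.base (IsLocalRing.closedPoint k)

theorem range_subset_iff {X : Over (Spec (CommRingCat.of k))} (x : 𝟙k ⟶ X) (S : Set ↥X.left) :
    Set.range ⇑x.left.base ⊆ S ↔ P x ∈ S := by
  constructor
  · intro h
    exact h ⟨_, rfl⟩
  · rintro h _ ⟨s, rfl⟩
    have hs : s = IsLocalRing.closedPoint k := @Subsingleton.elim (PrimeSpectrum k) _ _ _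
    rw [hs]
    exact h

theorem P_comp {X Y : Over (Spec (CommRingCat.of k))} (x : 𝟙k ⟶ X) (φ : X ⟶ Y) :
    φ.left.base (P x) = P (x ≫ φ) := by
  unfold P
  rw [Over.comp_left]
  rfl

theorem isClosed_P {X : Over (Spec (CommRingCat.of k))} (x : 𝟙k ⟶ X) :
    IsClosed ({P x} : Set ↥X.left) := by
  let p : Spec (CommRingCat.of k) ⟶ X.left := x.left
  have h : p ≫ X.hom = 𝟙 _ := Over.w x
  have := isClosedImmersion_of_comp_eq_id _ _ h
  have h2 := p.isClosedEmbedding.isClosed_range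
  have h3 : Set.range p = {P x} := by
    ext y
    constructor
    · rintro ⟨s, rfl⟩
      have hs : s = IsLocalRing.closedPoint k := @Subsingleton.elim (PrimeSpectrum k) _ _ _
      rw [hs]; rfl
    · rintro rfl
      exact ⟨IsLocalRing.closedPoint k, rfl⟩
  rwa [h3] at h2

/-- the rational point of a closed point -/
noncomputable def kp [IsAlgClosed k] (X : Over (Spec (CommRingCat.of k)))
    [LocallyOfFiniteType X.hom] (y : ↥X.left) (hy : IsClosed ({y} : Set ↥X.left)) : 𝟙k ⟶ X :=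
  Over.homMk (pointOfClosedPoint X.hom y hy) (pointOfClosedPoint_comp X.hom y hy)

theorem P_kp [IsAlgClosed k] (X : Over (Spec (CommRingCat.of k)))
    [LocallyOfFiniteType X.hom] (y : ↥X.left) (hy : IsClosed ({y} : Set ↥X.left)) :
    P (kp X y hy) = y :=
  pointOfClosedPoint_apply X.hom y hy _

/-- admissible closed subsets -/
def Adm (A : Over (Spec (CommRingCat.of k))) [GrpObj A] (K : Subgroup (𝟙k ⟶ A))
    (T : Closeds ↥A.left) : Prop :=
  IsIrreducible (T : Set ↥A.left) ∧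
    ∀ x : 𝟙k ⟶ A, Set.range ⇑x.left.base ⊆ (T : Set ↥A.left) → x ∈ K

variable [IsAlgClosed k] [Uncountable k]

theorem main (A : Over (Spec (CommRingCat.of k))) [GrpObj A] [IsProper A.hom]
    (K : Subgroup (𝟙k ⟶ A)) (Z : ℕ → Closeds ↥A.left)
    (hK : ∀ x : 𝟙k ⟶ A, x ∈ K ↔ Set.range ⇑x.left.base ⊆ ⋃ n, (Z n : Set ↥A.left)) :
    (∃! T : Closeds ↥A.left, Maximal (Adm A K) T ∧
      Set.range ⇑(1 : 𝟙k ⟶ A).left.base ⊆ (T : Set ↥A.left)) ∧
    ∀ T : Closeds ↥A.left, Maximal (Adm A K) T →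
      Set.range ⇑(1 : 𝟙k ⟶ A).left.base ⊆ (T : Set ↥A.left) →
      (∃ n, (T : Set ↥A.left) ⊆ (Z n : Set ↥A.left)) ∧
      ∀ x y : 𝟙k ⟶ A,
        Set.range ⇑x.left.base ⊆ (T : Set ↥A.left) → Set.range ⇑y.left.base ⊆ (T : Set ↥A.left) →
        Set.range ⇑(x * y⁻¹).left.base ⊆ (T : Set ↥A.left) := by
  haveI : LocallyOfFiniteType A.hom := inferInstance
  have hKP : ∀ x : 𝟙k ⟶ A, x ∈ K ↔ ∃ n, P x ∈ Z n := by
    intro x
    rw [hK x, range_subset_iff]
    simp only [Set.mem_iUnion, SetLike.mem_coe]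
  -- Step 1: admissible sets lie in some `Z n`
  have step1 : ∀ T : Closeds ↥A.left, Adm A K T → ∃ n, T ≤ Z n := by
    intro T hT
    refine IrrDecomp.exists_le_of_closedPoints k A.left A.hom T hT.1 Z (fun y hy hc => ?_)
    have hx : kp A y hc ∈ K :=
      hT.2 _ ((range_subset_iff _ _).mpr (by rw [P_kp]; exact hy))
    obtain ⟨n, hn⟩ := (hKP _).mp hx
    rw [P_kp] at hn
    exact ⟨n, hn⟩
  -- finite coheight
  have hZc : CompactSpace ↥A.left := QuasiCompact.compactSpace_of_compactSpace A.hom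
  obtain ⟨N, hN⟩ := Groth.Agent.H9.ORB3.exists_nat_dim_le A.hom
  have hfin : ∀ C : IrreducibleCloseds ↥A.left, Order.coheight C < ⊤ := by
    intro C
    have h1 : ((Order.coheight C : ℕ∞) : WithBot ℕ∞) ≤ ((N : ℕ∞) : WithBot ℕ∞) :=
      (Order.coheight_le_krullDim C).trans hN
    have h2 : Order.coheight C ≤ (N : ℕ∞) := WithBot.coe_le_coe.mp h1
    exact lt_of_le_of_lt h2 (ENat.natCast_lt_top N)
  -- Step 3: every admissible set lies in a maximal one
  have step3 : ∀ T₀ : Closeds ↥A.left, Adm A K T₀ → ∃ T, Maximal (Adm A K) T ∧ T₀ ≤ T := by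
    intro T₀ hT₀
    let tc : IrreducibleCloseds ↥A.left → Closeds ↥A.left :=
      fun C => ⟨(C : Set ↥A.left), C.isClosed⟩
    let C₀ : IrreducibleCloseds ↥A.left := ⟨(T₀ : Set ↥A.left), hT₀.1, T₀.isClosed⟩
    have hC₀ : C₀ ∈ {C : IrreducibleCloseds ↥A.left | Adm A K (tc C)} := by
      show Adm A K (tc C₀)
      have : tc C₀ = T₀ := Closeds.ext rfl
      rw [this]; exact hT₀
    obtain ⟨C₁, hC₁, hle, hmax⟩ := IrrDecomp.exists_max_above hfin _ hC₀
    refine ⟨tc C₁, ⟨hC₁, fun Y hY hle' => ?_⟩, ?_⟩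
    · let CY : IrreducibleCloseds ↥A.left := ⟨(Y : Set ↥A.left), hY.1, Y.isClosed⟩
      have hCY : CY ∈ {C : IrreducibleCloseds ↥A.left | Adm A K (tc C)} := by
        show Adm A K (tc CY)
        have : tc CY = Y := Closeds.ext rfl
        rw [this]; exact hY
      have h1 : C₁ ≤ CY := by
        rw [← SetLike.coe_subset_coe]
        exact SetLike.coe_subset_coe.mpr hle'
      have h2 := hmax CY hCY h1
      have h3 : (CY : Set ↥A.left) = (C₁ : Set ↥A.left) :=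
        congrArg (fun D : IrreducibleCloseds ↥A.left => (D : Set ↥A.left)) h2
      rw [← SetLike.coe_subset_coe]
      exact h3.subset
    · rw [← SetLike.coe_subset_coe]
      exact SetLike.coe_subset_coe.mpr hle
  -- the unit point
  obtain ⟨e, he⟩ : ∃ e : ↥A.left, e = P (1 : 𝟙k ⟶ A) := ⟨_, rfl⟩
  have heU : ∃ n, e ∈ Z n := by rw [he]; exact (hKP 1).mp K.one_mem
  have hecl : IsClosed ({e} : Set ↥A.left) := by rw [he]; exact isClosed_P _
  have he' : e = Groth.Agent.H9.GZA.ePt A := by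
    rw [he]; exact Groth.Agent.H9.GSC.pt_one
  let T₀ : Closeds ↥A.left := ⟨{e}, hecl⟩
  have hT₀ : Adm A K T₀ := by
    refine ⟨isIrreducible_singleton, fun x hx => ?_⟩
    have hxe : P x = e := (range_subset_iff x _).mp hx
    obtain ⟨n, hn⟩ := heU
    exact (hKP x).mpr ⟨n, hxe ▸ hn⟩
  -- properness of the multiplication
  haveI : IsProper (A ⊗ A).hom := by rw [Over.tensorObj_hom]; infer_instance
  haveI : IsProper (μ[A].left ≫ A.hom) := by rw [Over.w]; infer_instance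
  haveI : IsProper μ[A].left := IsProper.of_comp μ[A].left A.hom
  haveI : CompactSpace ↥(A ⊗ A).left :=
    QuasiCompact.compactSpace_of_compactSpace (A ⊗ A).hom
  haveI : LocallyOfFiniteType (A ⊗ A).hom := inferInstance
  -- Step 5: products of admissible sets
  have step5 : ∀ T₁ T₂ : Closeds ↥A.left, Adm A K T₁ → Adm A K T₂ →
      ∃ W : Closeds ↥A.left, Adm A K W ∧
        (W : Set ↥A.left) = ⇑μ[A].left.base '' (⇑(fst A A).left.base ⁻¹' (T₁ : Set ↥A.left) ∩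
          ⇑(snd A A).left.base ⁻¹' (T₂ : Set ↥A.left)) := by
    intro T₁ T₂ h₁ h₂
    have hcl0 : IsClosed (⇑(fst A A).left.base ⁻¹' (T₁ : Set ↥A.left) ∩
          ⇑(snd A A).left.base ⁻¹' (T₂ : Set ↥A.left)) :=
      (T₁.isClosed.preimage (fst A A).left.continuous).inter
        (T₂.isClosed.preimage (snd A A).left.continuous)
    have hcl : IsClosed (⇑μ[A].left.base '' (⇑(fst A A).left.base ⁻¹' (T₁ : Set ↥A.left) ∩
          ⇑(snd A A).left.base ⁻¹' (T₂ : Set ↥A.left))) :=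
      μ[A].left.isClosedMap _ hcl0
    have hirr : IsIrreducible (⇑μ[A].left.base '' (⇑(fst A A).left.base ⁻¹' (T₁ : Set ↥A.left) ∩
          ⇑(snd A A).left.base ⁻¹' (T₂ : Set ↥A.left))) :=
      Groth.Agent.H9.GZA.exists_irreducible_mul A _ _ h₁.1 T₁.isClosed h₂.1 T₂.isClosed
    refine ⟨⟨_, hcl⟩, ⟨hirr, fun x hx => ?_⟩, rfl⟩
    have hxW : P x ∈ ⇑μ[A].left.base '' (⇑(fst A A).left.base ⁻¹' (T₁ : Set ↥A.left) ∩
          ⇑(snd A A).left.base ⁻¹' (T₂ : Set ↥A.left)) := (range_subset_iff x _).mp hx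
    have hFcl : IsClosed ((⇑(fst A A).left.base ⁻¹' (T₁ : Set ↥A.left) ∩
          ⇑(snd A A).left.base ⁻¹' (T₂ : Set ↥A.left)) ∩ ⇑μ[A].left.base ⁻¹' {P x}) :=
      hcl0.inter ((isClosed_P x).preimage μ[A].left.continuous)
    have hFne : ((⇑(fst A A).left.base ⁻¹' (T₁ : Set ↥A.left) ∩
          ⇑(snd A A).left.base ⁻¹' (T₂ : Set ↥A.left)) ∩ ⇑μ[A].left.base ⁻¹' {P x}).Nonempty := by
      obtain ⟨w, hw, hwx⟩ := hxW
      exact ⟨w, hw, hwx⟩
    obtain ⟨w', ⟨⟨hw1, hw2⟩, hw3⟩, hw'cl⟩ := hFcl.exists_closed_singleton hFne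
    obtain ⟨z, hz⟩ : ∃ z : 𝟙k ⟶ A ⊗ A, P z = w' := ⟨kp (A ⊗ A) w' hw'cl, P_kp _ _ _⟩
    have ha1 : z ≫ fst A A ∈ K :=
      h₁.2 _ ((range_subset_iff _ _).mpr (by rw [← P_comp, hz]; exact hw1))
    have ha2 : z ≫ snd A A ∈ K :=
      h₂.2 _ ((range_subset_iff _ _).mpr (by rw [← P_comp, hz]; exact hw2))
    have hmul : (z ≫ fst A A) * (z ≫ snd A A) = z ≫ μ[A] := by
      rw [Hom.mul_def, lift_comp_fst_snd]
    have h3 : P ((z ≫ fst A A) * (z ≫ snd A A)) = P x := by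
      rw [hmul, ← P_comp, hz]; exact hw3
    obtain ⟨n, hn⟩ := (hKP _).mp (K.mul_mem ha1 ha2)
    exact (hKP x).mpr ⟨n, h3 ▸ hn⟩
  have hsub : ∀ a b : ↥A.left, ∃ w : ↥(A ⊗ A).left,
      (fst A A).left.base w = a ∧ (snd A A).left.base w = b := by
    intro a b
    exact Scheme.Pullback.exists_preimage_pullback (f := A.hom) (g := A.hom) a b
      (Subsingleton.elim _ _)
  have hs₁ : ∀ T₁ T₂ : Closeds ↥A.left, e ∈ T₂ → (T₁ : Set ↥A.left) ⊆
      ⇑μ[A].left.base '' (⇑(fst A A).left.base ⁻¹' (T₁ : Set ↥A.left) ∩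
          ⇑(snd A A).left.base ⁻¹' (T₂ : Set ↥A.left)) := by
    intro T₁ T₂ he₂ t ht
    obtain ⟨w, hw1, hw2⟩ := hsub t e
    refine ⟨w, ⟨by rw [Set.mem_preimage, hw1]; exact ht,
      by rw [Set.mem_preimage, hw2]; exact he₂⟩, ?_⟩
    have := Groth.Agent.H9.GZA.mul_eq_fst_of_snd A w (hw2.trans he')
    exact this.trans hw1
  have hs₂ : ∀ T₁ T₂ : Closeds ↥A.left, e ∈ T₁ → (T₂ : Set ↥A.left) ⊆
      ⇑μ[A].left.base '' (⇑(fst A A).left.base ⁻¹' (T₁ : Set ↥A.left) ∩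
          ⇑(snd A A).left.base ⁻¹' (T₂ : Set ↥A.left)) := by
    intro T₁ T₂ he₁ t ht
    obtain ⟨w, hw1, hw2⟩ := hsub e t
    refine ⟨w, ⟨by rw [Set.mem_preimage, hw1]; exact he₁,
      by rw [Set.mem_preimage, hw2]; exact ht⟩, ?_⟩
    have := Groth.Agent.H9.GZA.mul_eq_snd_of_fst A w (hw1.trans he')
    exact this.trans hw2
  -- uniqueness
  have uniq : ∀ T₁ T₂ : Closeds ↥A.left, Maximal (Adm A K) T₁ → Maximal (Adm A K) T₂ →
      e ∈ T₁ → e ∈ T₂ → T₁ = T₂ := by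
    intro T₁ T₂ m₁ m₂ e₁ e₂
    obtain ⟨W, hW, hWeq⟩ := step5 T₁ T₂ m₁.1 m₂.1
    have h1 : T₁ ≤ W := by rw [← SetLike.coe_subset_coe, hWeq]; exact hs₁ T₁ T₂ e₂
    have h2 : T₂ ≤ W := by rw [← SetLike.coe_subset_coe, hWeq]; exact hs₂ T₁ T₂ e₁
    have h3 : W ≤ T₁ := m₁.2 hW h1
    have h4 : W ≤ T₂ := m₂.2 hW h2
    exact le_antisymm (h1.trans h4) (h2.trans h3)
  obtain ⟨Tm, hTm, hT₀m⟩ := step3 T₀ hT₀
  have heTm : e ∈ Tm := (SetLike.coe_subset_coe.mpr hT₀m) (Set.mem_singleton e)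
  have hrange1 : ∀ T : Closeds ↥A.left,
      Set.range ⇑(1 : 𝟙k ⟶ A).left.base ⊆ (T : Set ↥A.left) ↔ e ∈ T := by
    intro T
    rw [range_subset_iff, he]
    rfl
  refine ⟨⟨Tm, ⟨hTm, (hrange1 Tm).mpr heTm⟩, fun T' hT' =>
    uniq T' Tm hT'.1 hTm ((hrange1 T').mp hT'.2) heTm⟩, ?_⟩
  intro T hT h1T
  have heT : e ∈ T := (hrange1 T).mp h1T
  refine ⟨?_, ?_⟩
  · obtain ⟨n, hn⟩ := step1 T hT.1
    exact ⟨n, SetLike.coe_subset_coe.mpr hn⟩
  · intro x y hx hy
    have hPx : P x ∈ (T : Set ↥A.left) := (range_subset_iff x _).mp hx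
    have hPy : P y ∈ (T : Set ↥A.left) := (range_subset_iff y _).mp hy
    -- the inverse of `T`
    let T' : Closeds ↥A.left :=
      ⟨⇑ι[A].left.base ⁻¹' (T : Set ↥A.left), T.isClosed.preimage ι[A].left.continuous⟩
    have hιι : ∀ a : ↥A.left, ι[A].left.base (ι[A].left.base a) = a := by
      intro a
      have h2 := congrArg (fun φ : A ⟶ A => φ.left.base a) (GrpObj.inv_comp_inv A)
      exact h2
    have hT'img : (T' : Set ↥A.left) = ⇑ι[A].left.base '' (T : Set ↥A.left) := by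
      ext a
      constructor
      · intro ha
        exact ⟨ι[A].left.base a, ha, hιι a⟩
      · rintro ⟨b, hb, rfl⟩
        show ι[A].left.base (ι[A].left.base b) ∈ (T : Set ↥A.left)
        rw [hιι]; exact hb
    have hT'adm : Adm A K T' := by
      refine ⟨?_, fun z hz => ?_⟩
      · rw [hT'img]
        exact hT.1.1.image _ ι[A].left.continuous.continuousOn
      · have hz' : ι[A].left.base (P z) ∈ (T : Set ↥A.left) := (range_subset_iff z _).mp hz
        rw [P_comp] at hz'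
        have h5 : z ≫ ι[A] ∈ K := hT.1.2 _ ((range_subset_iff _ _).mpr hz')
        have hinv : z ≫ ι[A] = z⁻¹ := rfl
        rw [hinv] at h5
        exact K.inv_mem_iff.mp h5
    have heT' : e ∈ T' := by
      show ι[A].left.base e ∈ (T : Set ↥A.left)
      rw [he, P_comp]
      have h6 : (1 : 𝟙k ⟶ A) ≫ ι[A] = 1 := by
        have : (1 : 𝟙k ⟶ A) ≫ ι[A] = (1 : 𝟙k ⟶ A)⁻¹ := rfl
        rw [this, _root_.inv_one]
      rw [h6, ← he]; exact heT
    obtain ⟨T'', hT'', hle''⟩ := step3 T' hT'adm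
    have heT'' : e ∈ T'' := (SetLike.coe_subset_coe.mpr hle'') heT'
    have hTT'' : T'' = T := uniq T'' T hT'' hT heT'' heT
    have hT'T : (T' : Set ↥A.left) ⊆ (T : Set ↥A.left) := by
      rw [← hTT'']; exact SetLike.coe_subset_coe.mpr hle''
    have hPyinv : P (y⁻¹) ∈ (T : Set ↥A.left) := by
      apply hT'T
      show ι[A].left.base (P y⁻¹) ∈ (T : Set ↥A.left)
      rw [P_comp]
      have h7 : y⁻¹ ≫ ι[A] = y := by
        have : y⁻¹ ≫ ι[A] = (y⁻¹)⁻¹ := rfl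
        rw [this, _root_.inv_inv]
      rw [h7]; exact hPy
    -- the product
    obtain ⟨W, hW, hWeq⟩ := step5 T T hT.1 hT.1
    have hTW : T ≤ W := by rw [← SetLike.coe_subset_coe, hWeq]; exact hs₁ T T heT
    have hWT : W ≤ T := hT.2 hW hTW
    apply (range_subset_iff _ _).mpr
    apply SetLike.coe_subset_coe.mpr hWT
    rw [hWeq]
    refine ⟨P (lift x y⁻¹), ⟨?_, ?_⟩, ?_⟩
    · show (fst A A).left.base (P (lift x y⁻¹)) ∈ (T : Set ↥A.left)
      rw [P_comp, lift_fst]; exact hPx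
    · show (snd A A).left.base (P (lift x y⁻¹)) ∈ (T : Set ↥A.left)
      rw [P_comp, lift_snd]; exact hPyinv
    · rw [P_comp]; rfl

end Groth.Agent.H1.AbCtbl
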