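import Mathlib
import Groth.Agent.S9562
import Groth.Agent.S0543
import Groth.Agent.Lib.Helper3.CA.CplMap
import Groth.Agent.Lib.Helper5.CA2.FPEndo
import Groth.Agent.Lib.Helper5.ES.D
import Groth.Agent.Lib.Helper9.Misc.DNP1

/-! helper1: algebra for the étaleness of the power map of a group scheme (S4111, S8395, S4112):
* a local homomorphism `B → A` of Noetherian local rings, essentially of finite type, with
  `𝔪_B A = 𝔪_A`, trivial residue extension, and `A ≃+* B` abstractly, is formally étale;
* a cotangent criterion for `𝔪_B A = 𝔪_A` through dual-number points. -/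

set_option autoImplicit false
set_option linter.style.haveILetI false
set_option linter.unusedSectionVars false
set_option linter.unusedVariables false
universe u
open IsLocalRing

namespace Groth.Agent.H1.PowEtA

open Groth.Agent.H3.CplMap

section Cpl

variable {R S : Type u} [CommRing R] [CommRing S] [IsLocalRing R] [IsLocalRing S]
  [IsNoetherianRing R] [IsNoetherianRing S]

theorem cplMap_surjective (f : R →+* S)
    (h1 : (maximalIdeal R).map f = maximalIdeal S)
    (h2 : ∀ s : S, ∃ r : R, s - f r ∈ maximalIdeal S) :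
    Function.Surjective (cplMap f (maximalIdeal R) (maximalIdeal S) h1.le) := by
  set ψ := cplMap f (maximalIdeal R) (maximalIdeal S) h1.le with hψdef
  have hcomp : ψ.comp (algebraMap R (AdicCompletion (maximalIdeal R) R)) =
      (algebraMap S (AdicCompletion (maximalIdeal S) S)).comp f :=
    RingHom.ext fun r => cplMap_of f _ _ h1.le r
  have hmap : (maximalIdeal (AdicCompletion (maximalIdeal R) R)).map ψ =
      maximalIdeal (AdicCompletion (maximalIdeal S) S) := by
    rw [AdicCompletion.maximalIdeal_eq_map, Ideal.map_map, hcomp, ← Ideal.map_map, h1,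
      ← AdicCompletion.maximalIdeal_eq_map]
  haveI : IsHausdorff ((maximalIdeal (AdicCompletion (maximalIdeal R) R)).map ψ)
      (AdicCompletion (maximalIdeal S) S) := by
    rw [hmap]; infer_instance
  apply surjective_of_mk_map_comp_surjective ψ
    (I := maximalIdeal (AdicCompletion (maximalIdeal R) R))
  intro y
  obtain ⟨y', rfl⟩ := Ideal.Quotient.mk_surjective y
  obtain ⟨s, hs⟩ : ∃ s : S, y' - algebraMap S (AdicCompletion (maximalIdeal S) S) s ∈
      maximalIdeal (AdicCompletion (maximalIdeal S) S) := by
    obtain ⟨s, hs⟩ := Submodule.Quotient.mk_surjective _ (y'.1 1)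
    refine ⟨s, ?_⟩
    rw [AdicCompletion.mem_maximalIdeal_iff_eval_one_eq_zero, AdicCompletion.val_sub_apply,
      sub_eq_zero]
    exact hs.symm
  obtain ⟨r, hr⟩ := h2 s
  refine ⟨algebraMap R _ r, ?_⟩
  rw [RingHom.comp_apply, Ideal.Quotient.eq, hmap]
  have h3 : ψ (algebraMap R _ r) = algebraMap S _ (f r) := cplMap_of f _ _ h1.le r
  rw [h3]
  have h4 : algebraMap S (AdicCompletion (maximalIdeal S) S) (s - f r) ∈ maximalIdeal _ := by
    rw [AdicCompletion.maximalIdeal_eq_map]
    exact Ideal.mem_map_of_mem _ hr
  have h5 : algebraMap S (AdicCompletion (maximalIdeal S) S) (f r) - y' =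
      -((y' - algebraMap S _ s) + algebraMap S _ (s - f r)) := by
    rw [map_sub]; ring
  rw [h5]
  exact neg_mem (add_mem hs h4)

end Cpl

theorem formallyEtale_of_map_eq {A B : Type u} [CommRing A] [CommRing B] [IsLocalRing A]
    [IsLocalRing B] [IsNoetherianRing A] [IsNoetherianRing B] [Algebra B A]
    [IsLocalHom (algebraMap B A)] [Algebra.EssFiniteType B A]
    (h1 : (maximalIdeal B).map (algebraMap B A) = maximalIdeal A)
    (h2 : ∀ a : A, ∃ b : B, a - algebraMap B A b ∈ maximalIdeal A)
    (σ : A ≃+* B) : Algebra.FormallyEtale B A := by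
  set ψ := cplMap (algebraMap B A) (maximalIdeal B) (maximalIdeal A) h1.le with hψdef
  have hψs : Function.Surjective ψ := cplMap_surjective _ h1 h2
  have hσ1 : (maximalIdeal A).map (σ : A →+* B) = maximalIdeal B := by
    apply le_antisymm
    · rw [Ideal.map_le_iff_le_comap]
      intro a ha
      rw [Ideal.mem_comap, mem_maximalIdeal, mem_nonunits_iff]
      rw [mem_maximalIdeal, mem_nonunits_iff] at ha
      intro hu
      exact ha ((isUnit_map_iff σ a).mp hu)
    · intro b hb
      have h3 : σ.symm b ∈ maximalIdeal A := by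
        rw [mem_maximalIdeal, mem_nonunits_iff] at hb ⊢
        intro hu
        apply hb
        have := hu.map σ
        simpa using this
      have h := Ideal.mem_map_of_mem (σ : A →+* B) h3
      simpa using h
  have hσ2 : ∀ b : B, ∃ a : A, b - (σ : A →+* B) a ∈ maximalIdeal B := fun b =>
    ⟨σ.symm b, by simp⟩
  set τ := cplMap (σ : A →+* B) (maximalIdeal A) (maximalIdeal B) hσ1.le with hτdef
  have hτs : Function.Surjective τ := cplMap_surjective _ hσ1 hσ2
  haveI : IsNoetherianRing (AdicCompletion (maximalIdeal A) A) := Groth.Agent.S0543.result A _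
  have hθ : Function.Injective (ψ.comp τ) :=
    H5FPEndo.injective_of_surjective_endo (ψ.comp τ) (hψs.comp hτs)
  have hψi : Function.Injective ψ := by
    intro x y hxy
    obtain ⟨x', rfl⟩ := hτs x
    obtain ⟨y', rfl⟩ := hτs y
    have := hθ (show (ψ.comp τ) x' = (ψ.comp τ) y' from hxy)
    rw [this]
  have hcomp : ψ.comp (algebraMap B (AdicCompletion (maximalIdeal B) B)) =
      (algebraMap A (AdicCompletion (maximalIdeal A) A)).comp (algebraMap B A) :=
    RingHom.ext fun b => cplMap_of _ _ _ h1.le b
  have het : ψ.Etale := RingHom.Etale.of_bijective ⟨hψi, hψs⟩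
  obtain ⟨hflat, -, -, hsep⟩ := (Groth.Agent.S9562.result B A ψ hcomp).1.mpr het
  haveI := hflat
  haveI := hsep
  haveI : Algebra.FormallyUnramified B A := Algebra.FormallyUnramified.of_map_maximalIdeal h1
  exact Groth.Agent.H5.ES.formallyEtale_of_flat_local B A

theorem map_maximalIdeal_eq_of_dual {k A B : Type u} [Field k] [CommRing A] [CommRing B]
    [IsLocalRing A] [IsLocalRing B] [IsNoetherianRing A] [Algebra k A] [Algebra k B]
    (res : A →ₐ[k] k) (φ : B →ₐ[k] A)
    (hB : ∀ b : B, ∃ c : k, b - algebraMap k B c ∈ maximalIdeal B)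
    (hφ : ∀ b ∈ maximalIdeal B, φ b ∈ maximalIdeal A)
    (htan : ∀ θ : A →ₐ[k] TrivSqZeroExt k k, (∀ b, (θ (φ b)).snd = 0) → ∀ a, (θ a).snd = 0) :
    (maximalIdeal B).map (φ : B →+* A) = maximalIdeal A := by
  have hker : ∀ a : A, a ∈ maximalIdeal A ↔ res a = 0 := by
    intro a
    have hsurj : Function.Surjective (res : A →+* k) := fun c =>
      ⟨algebraMap k A c, by simp⟩
    have hmax : (RingHom.ker (res : A →+* k)).IsMaximal :=
      RingHom.ker_isMaximal_of_surjective _ hsurj
    rw [← IsLocalRing.eq_maximalIdeal hmax, RingHom.mem_ker]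
    rfl
  apply le_antisymm
  · rw [Ideal.map_le_iff_le_comap]
    intro b hb
    exact hφ b hb
  · apply Submodule.le_of_le_smul_of_le_jacobson_bot (IsNoetherian.noetherian _)
      (IsLocalRing.maximalIdeal_le_jacobson ⊥)
    by_contra hcon
    obtain ⟨a, ha, haN⟩ := SetLike.not_le_iff_exists.mp hcon
    obtain ⟨N, hN⟩ : ∃ N : Ideal A, N = (maximalIdeal B).map (φ : B →+* A) ⊔
        maximalIdeal A • maximalIdeal A := ⟨_, rfl⟩
    rw [← hN] at haN
    obtain ⟨f, hfa, hfN⟩ := Submodule.exists_dual_map_eq_bot_of_notMem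
      (p := N.restrictScalars k) (x := a) (by simpa using haN) inferInstance
    have hfN' : ∀ x ∈ N, f x = 0 := by
      intro x hx
      have h0 : f x ∈ (N.restrictScalars k).map f :=
        Submodule.mem_map_of_mem (by simpa using hx)
      rw [hfN] at h0
      simpa using h0
    obtain ⟨δ, hδdef⟩ : ∃ δ : A →ₗ[k] k, δ = f - (f 1) • res.toLinearMap := ⟨_, rfl⟩
    have hδ_apply : ∀ x, δ x = f x - res x * f 1 := by
      intro x; rw [hδdef]; simp [mul_comm]
    have hsq : ∀ b c : A,
        f ((b - algebraMap k A (res b)) * (c - algebraMap k A (res c))) = 0 := by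
      intro b c
      apply hfN'
      rw [hN]
      apply Ideal.mem_sup_right
      have hb : b - algebraMap k A (res b) ∈ maximalIdeal A := by rw [hker]; simp
      have hc : c - algebraMap k A (res c) ∈ maximalIdeal A := by rw [hker]; simp
      exact Submodule.smul_mem_smul hb hc
    have hδ : ∀ b c, δ (b * c) = res b * δ c + res c * δ b := by
      intro b c
      have h := hsq b c
      have e1 : (b - algebraMap k A (res b)) * (c - algebraMap k A (res c)) =
          b * c - res b • c - res c • b + (res b * res c) • (1 : A) := by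
        simp only [Algebra.smul_def, map_mul, mul_one]; ring
      rw [e1] at h
      simp only [map_add, map_sub, map_smul, smul_eq_mul] at h
      rw [hδ_apply, hδ_apply, hδ_apply, map_mul res]
      linear_combination h
    obtain ⟨θ, hθdef⟩ : ∃ θ : A →ₐ[k] TrivSqZeroExt k k,
        θ = Groth.Agent.H9.DNP.dualHom res δ hδ := ⟨_, rfl⟩
    have hθsnd : ∀ x, (θ x).snd = δ x := by
      intro x; rw [hθdef]; exact Groth.Agent.H9.DNP.snd_dualHom res δ hδ x
    have hθφ : ∀ b, (θ (φ b)).snd = 0 := by
      intro b
      rw [hθsnd, hδ_apply]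
      obtain ⟨c, hc⟩ := hB b
      have e2 : φ b = algebraMap k A c + φ (b - algebraMap k B c) := by
        rw [map_sub, AlgHom.commutes]; ring
      have h3 : φ (b - algebraMap k B c) ∈ maximalIdeal A := hφ _ hc
      have h4 : f (φ (b - algebraMap k B c)) = 0 := by
        apply hfN'
        rw [hN]
        exact Ideal.mem_sup_left (Ideal.mem_map_of_mem (φ : B →+* A) hc)
      have h5 : res (φ (b - algebraMap k B c)) = 0 := (hker _).mp h3
      have h7 : f (algebraMap k A c) = c * f 1 := by
        rw [Algebra.algebraMap_eq_smul_one, map_smul, smul_eq_mul]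
      have h8 : res (algebraMap k A c) = c := by simp
      rw [e2, map_add, map_add, h4, h5, h7, h8]; ring
    have h6 := htan θ hθφ a
    rw [hθsnd, hδ_apply, (hker a).mp ha] at h6
    apply hfa
    simpa using h6

end Groth.Agent.H1.PowEtA
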