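import Mathlib

/-! helper1: scheme-level lemmas for the étaleness of the power map:
* a morphism locally of finite presentation whose stalk map at `x` is formally étale is étale on
  an open neighbourhood of `x`;
* morphisms from the spectrum of a local ring are determined by two jointly injective
  restrictions. -/

set_option autoImplicit false
set_option linter.style.haveILetI false
set_option linter.unusedSectionVars false
set_option linter.unusedVariables false
universe u

namespace Groth.Agent.H1.PowEtB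

open CategoryTheory AlgebraicGeometry IsLocalRing

theorem germ_appLE_apply {X Y : Scheme.{u}} (f : X ⟶ Y) (V : Y.Opens) (U : X.Opens)
    (e : U ≤ f ⁻¹ᵁ V) (x : X) (hxU : x ∈ U) (r : Γ(Y, V)) :
    (X.presheaf.germ U x hxU).hom ((f.appLE V U e).hom r) =
      (f.stalkMap x).hom ((Y.presheaf.germ V (f x) (e hxU)).hom r) := by
  have h1 := congrArg (fun g => g.hom r) (Scheme.Hom.germ_stalkMap f V x (e hxU))
  simp only [CommRingCat.hom_comp, RingHom.comp_apply] at h1
  rw [h1, Scheme.Hom.appLE]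
  change (X.presheaf.germ U x hxU).hom
    ((X.presheaf.map (homOfLE e).op).hom ((f.app V).hom r)) = _
  rw [TopCat.Presheaf.germ_res_apply]

theorem exists_etale_nhd {X Y : Scheme.{u}} (f : X ⟶ Y) [LocallyOfFinitePresentation f] (x : X)
    (h : (f.stalkMap x).hom.FormallyEtale) :
    ∃ U : X.Opens, x ∈ U ∧ Etale (U.ι ≫ f) := by
  obtain ⟨_, ⟨V, hV, rfl⟩, hxV, -⟩ := Y.isBasis_affineOpens.exists_subset_of_mem_open
    (Set.mem_univ (f x)) isOpen_univ
  obtain ⟨_, ⟨U, hU, rfl⟩, hxU, hUV⟩ := X.isBasis_affineOpens.exists_subset_of_mem_open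
    (show x ∈ (f ⁻¹ᵁ V : Set X) from hxV) (f ⁻¹ᵁ V).2
  have e : U ≤ f ⁻¹ᵁ V := hUV
  letI : Algebra Γ(Y, V) Γ(X, U) := (f.appLE V U e).hom.toAlgebra
  haveI hfp : Algebra.FinitePresentation Γ(Y, V) Γ(X, U) := f.finitePresentation_appLE hV hU e
  obtain ⟨q, hq⟩ : ∃ q, q = hU.primeIdealOf ⟨x, hxU⟩ := ⟨_, rfl⟩
  letI : Algebra Γ(X, U) (X.presheaf.stalk x) := X.presheaf.algebra_section_stalk ⟨x, hxU⟩
  haveI hloc : IsLocalization.AtPrime (X.presheaf.stalk x) q.asIdeal := by
    rw [hq]; exact hU.isLocalization_stalk ⟨x, hxU⟩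
  letI : Algebra Γ(Y, V) (Y.presheaf.stalk (f x)) :=
    Y.presheaf.algebra_section_stalk ⟨f x, hxV⟩
  haveI hlocY : IsLocalization.AtPrime (Y.presheaf.stalk (f x))
      (hV.primeIdealOf ⟨f x, hxV⟩).asIdeal := hV.isLocalization_stalk ⟨f x, hxV⟩
  letI : Algebra (Y.presheaf.stalk (f x)) (X.presheaf.stalk x) := (f.stalkMap x).hom.toAlgebra
  letI : Algebra Γ(Y, V) (X.presheaf.stalk x) :=
    ((algebraMap Γ(X, U) (X.presheaf.stalk x)).comp (f.appLE V U e).hom).toAlgebra
  haveI : IsScalarTower Γ(Y, V) Γ(X, U) (X.presheaf.stalk x) :=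
    IsScalarTower.of_algebraMap_eq (fun r => rfl)
  haveI : IsScalarTower Γ(Y, V) (Y.presheaf.stalk (f x)) (X.presheaf.stalk x) :=
    IsScalarTower.of_algebraMap_eq (fun r => germ_appLE_apply f V U e x hxU r)
  haveI : Algebra.FormallyEtale (Y.presheaf.stalk (f x)) (X.presheaf.stalk x) := h
  haveI : Algebra.FormallyEtale Γ(Y, V) (Y.presheaf.stalk (f x)) :=
    Algebra.FormallyEtale.of_isLocalization (hV.primeIdealOf ⟨f x, hxV⟩).asIdeal.primeCompl
  haveI : Algebra.FormallyEtale Γ(Y, V) (X.presheaf.stalk x) :=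
    Algebra.FormallyEtale.comp Γ(Y, V) (Y.presheaf.stalk (f x)) (X.presheaf.stalk x)
  haveI : Algebra.IsEtaleAt Γ(Y, V) q.asIdeal := by
    let eq : X.presheaf.stalk x ≃ₐ[Γ(X, U)] Localization.AtPrime q.asIdeal :=
      IsLocalization.algEquiv q.asIdeal.primeCompl _ _
    exact Algebra.FormallyEtale.of_equiv (eq.restrictScalars Γ(Y, V))
  obtain ⟨t, htq, het⟩ := Algebra.exists_etale_of_isEtaleAt (R := Γ(Y, V)) q.asIdeal
  let i₀ : Spec (.of (Localization.Away t)) ⟶ X :=
    Spec.map (CommRingCat.ofHom (algebraMap Γ(X, U) (Localization.Away t))) ≫ hU.fromSpec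
  haveI : IsOpenImmersion
      (Spec.map (CommRingCat.ofHom (algebraMap Γ(X, U) (Localization.Away t)))) :=
    IsOpenImmersion.of_isLocalization t
  haveI : IsOpenImmersion i₀ := by dsimp only [i₀]; infer_instance
  have hcomp : f.appLE V U e ≫ CommRingCat.ofHom (algebraMap Γ(X, U) (Localization.Away t)) =
      CommRingCat.ofHom (algebraMap Γ(Y, V) (Localization.Away t)) := by
    ext r
    exact (IsScalarTower.algebraMap_apply Γ(Y, V) Γ(X, U) (Localization.Away t) r).symm
  have hi₀f : i₀ ≫ f =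
      Spec.map (CommRingCat.ofHom (algebraMap Γ(Y, V) (Localization.Away t))) ≫ hV.fromSpec := by
    change (Spec.map _ ≫ hU.fromSpec) ≫ f = _
    rw [Category.assoc, ← IsAffineOpen.SpecMap_appLE_fromSpec f hV hU e, ← Category.assoc,
      ← Spec.map_comp, hcomp]
  have het' : Etale (i₀ ≫ f) := by
    rw [hi₀f]
    haveI : Etale (Spec.map (CommRingCat.ofHom (algebraMap Γ(Y, V) (Localization.Away t)))) := by
      rw [HasRingHomProperty.Spec_iff (P := @Etale), CommRingCat.hom_ofHom,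
        RingHom.etale_algebraMap]
      exact het
    infer_instance
  obtain ⟨z₀, hz₀⟩ : ∃ z₀, PrimeSpectrum.comap (algebraMap Γ(X, U) (Localization.Away t)) z₀ = q := by
    have : q ∈ Set.range (PrimeSpectrum.comap (algebraMap Γ(X, U) (Localization.Away t))) := by
      rw [PrimeSpectrum.localization_away_comap_range (Localization.Away t) t]
      exact htq
    exact this
  have hiz₀ : i₀ z₀ = x := by
    change hU.fromSpec (PrimeSpectrum.comap (algebraMap Γ(X, U) (Localization.Away t)) z₀) = x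
    rw [hz₀, hq]
    exact hU.fromSpec_primeIdealOf ⟨x, hxU⟩
  refine ⟨i₀.opensRange, ⟨z₀, hiz₀⟩, ?_⟩
  rw [← Scheme.Hom.isoOpensRange_inv_comp, Category.assoc]
  infer_instance

theorem hom_ext_of_jointly_injective {R R₁ R₂ : Type u} [CommRing R] [CommRing R₁] [CommRing R₂]
    [IsLocalRing R] [IsLocalRing R₁] (J₁ : R →+* R₁) (J₂ : R →+* R₂) [IsLocalHom J₁]
    (hJ : ∀ a b : R, J₁ a = J₁ b → J₂ a = J₂ b → a = b)
    {X : Scheme.{u}} (u u' : Spec (CommRingCat.of R) ⟶ X)
    (h₁ : Spec.map (CommRingCat.ofHom J₁) ≫ u = Spec.map (CommRingCat.ofHom J₁) ≫ u')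
    (h₂ : Spec.map (CommRingCat.ofHom J₂) ≫ u = Spec.map (CommRingCat.ofHom J₂) ≫ u') :
    u = u' := by
  haveI : IsLocalHom (CommRingCat.ofHom J₁).hom := ‹IsLocalHom J₁›
  have hx : u (closedPoint R) = u' (closedPoint R) := by
    have h3 := congrArg (fun f => f (closedPoint R₁)) h₁
    simp only [Scheme.Hom.comp_apply] at h3
    have h4 : Spec.map (CommRingCat.ofHom J₁) (closedPoint (CommRingCat.of R₁)) =
        closedPoint (CommRingCat.of R) := Spec_closedPoint
    rw [h4] at h3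
    exact h3
  obtain ⟨W, hW, hxW⟩ : ∃ W : X.Opens, IsAffineOpen W ∧ u (closedPoint R) ∈ W := by
    obtain ⟨_, ⟨W, hW, rfl⟩, hxW, -⟩ := X.isBasis_affineOpens.exists_subset_of_mem_open
      (Set.mem_univ (u (closedPoint R))) isOpen_univ
    exact ⟨W, hW, hxW⟩
  have hrange : ∀ v : Spec (CommRingCat.of R) ⟶ X, v (closedPoint R) ∈ W →
      Set.range v ⊆ Set.range W.ι := by
    rintro v hv _ ⟨p, rfl⟩
    rw [Scheme.Opens.range_ι]
    exact ((IsLocalRing.specializes_closedPoint p).map v.continuous).mem_open W.2 hv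
  have hu := hrange u hxW
  have hu' := hrange u' (hx ▸ hxW)
  rw [← IsOpenImmersion.lift_fac W.ι u hu, ← IsOpenImmersion.lift_fac W.ι u' hu']
  congr 1
  haveI : IsAffine (W : Scheme.{u}) := hW
  have key : ∀ (Ri : Type u) [CommRing Ri] (J : R →+* Ri)
      (h : Spec.map (CommRingCat.ofHom J) ≫ u = Spec.map (CommRingCat.ofHom J) ≫ u')
      (s : Γ(W, ⊤)),
      J ((Scheme.ΓSpecIso (CommRingCat.of R)).hom.hom
        ((IsOpenImmersion.lift W.ι u hu).appTop.hom s)) =
      J ((Scheme.ΓSpecIso (CommRingCat.of R)).hom.hom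
        ((IsOpenImmersion.lift W.ι u' hu').appTop.hom s)) := by
    intro Ri _ J h s
    have h0 : Spec.map (CommRingCat.ofHom J) ≫ IsOpenImmersion.lift W.ι u hu =
        Spec.map (CommRingCat.ofHom J) ≫ IsOpenImmersion.lift W.ι u' hu' := by
      rw [← cancel_mono W.ι, Category.assoc, Category.assoc, IsOpenImmersion.lift_fac,
        IsOpenImmersion.lift_fac, h]
    have h1 := congrArg (fun f => (Scheme.ΓSpecIso (CommRingCat.of Ri)).hom.hom (f.appTop.hom s)) h0
    simp only [Scheme.Hom.comp_appTop, CommRingCat.hom_comp, RingHom.comp_apply] at h1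
    have h2 := fun y => congrArg (fun f => f.hom y)
      (Scheme.ΓSpecIso_naturality (CommRingCat.ofHom J))
    simp only [CommRingCat.hom_comp, RingHom.comp_apply, CommRingCat.hom_ofHom] at h2
    rw [h2, h2] at h1
    exact h1
  apply ext_of_isAffine
  ext s
  have hinj : Function.Injective (Scheme.ΓSpecIso (CommRingCat.of R)).hom.hom :=
    (ConcreteCategory.bijective_of_isIso (Scheme.ΓSpecIso (CommRingCat.of R)).hom).1
  apply hinj
  exact hJ _ _ (key R₁ J₁ h₁ s) (key R₂ J₂ h₂ s)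

end Groth.Agent.H1.PowEtB
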