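import Mathlib
import Groth.Agent.Lib.Helper1.PowEtA
import Groth.Agent.Lib.Helper1.PowEtB

/-! helper1: the `n`-th power map of a group scheme locally of finite type over a field `k`,
`n` invertible in `k`, is étale on a neighbourhood of the unit point (S4111) and of every central
rational point (S8395). -/

set_option autoImplicit false
set_option linter.style.haveILetI false
set_option linter.unusedSectionVars false
set_option linter.unusedVariables false
universe u

namespace Groth.Agent.H1.PowEtC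

open CategoryTheory MonoidalCategory CartesianMonoidalCategory MonObj GrpObj AlgebraicGeometry
  IsLocalRing

variable (k : Type u) [Field k]

local notation "𝟙K" => 𝟙_ (Over (Spec (CommRingCat.of k)))

/-- `Spec` of a `k`-algebra as an object over `Spec k`. -/
noncomputable def SO (R : Type u) [CommRing R] [Algebra k R] : Over (Spec (CommRingCat.of k)) :=
  Over.mk (Spec.map (CommRingCat.ofHom (algebraMap k R)))

variable {k}

/-- `Spec` of a `k`-algebra map as a morphism over `Spec k`. -/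
noncomputable def SOmap {R R' : Type u} [CommRing R] [CommRing R'] [Algebra k R] [Algebra k R']
    (f : R →ₐ[k] R') : SO k R' ⟶ SO k R :=
  Over.homMk (Spec.map (CommRingCat.ofHom (f : R →+* R'))) (by
    change Spec.map _ ≫ Spec.map _ = Spec.map _
    rw [← Spec.map_comp, ← CommRingCat.ofHom_comp, AlgHom.comp_algebraMap])

theorem SOmap_left {R R' : Type u} [CommRing R] [CommRing R'] [Algebra k R] [Algebra k R']
    (f : R →ₐ[k] R') : (SOmap f).left = Spec.map (CommRingCat.ofHom (f : R →+* R')) := rfl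

theorem SOmap_comp {R R' R'' : Type u} [CommRing R] [CommRing R'] [CommRing R''] [Algebra k R]
    [Algebra k R'] [Algebra k R''] (f : R →ₐ[k] R') (g : R' →ₐ[k] R'') :
    SOmap (g.comp f) = SOmap g ≫ SOmap f := by
  apply Over.OverMorphism.ext
  change Spec.map _ = Spec.map _ ≫ Spec.map _
  rw [← Spec.map_comp, ← CommRingCat.ofHom_comp]
  rfl

theorem SOmap_comp_assoc {R R' R'' : Type u} [CommRing R] [CommRing R'] [CommRing R'']
    [Algebra k R] [Algebra k R'] [Algebra k R''] (f : R →ₐ[k] R') (g : R' →ₐ[k] R'')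
    {Z : Over (Spec (CommRingCat.of k))} (t : SO k R ⟶ Z) :
    SOmap g ≫ SOmap f ≫ t = SOmap (g.comp f) ≫ t := by
  rw [SOmap_comp, Category.assoc]

theorem SOmap_id {R : Type u} [CommRing R] [Algebra k R] :
    SOmap (AlgHom.id k R) = 𝟙 (SO k R) := by
  apply Over.OverMorphism.ext
  rw [SOmap_left, Over.id_left]
  exact Spec.map_id _

section tsze

variable {V V' : Type u} [AddCommGroup V] [Module k V] [Module kᵐᵒᵖ V] [IsCentralScalar k V]
  [AddCommGroup V'] [Module k V'] [Module kᵐᵒᵖ V'] [IsCentralScalar k V']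

instance isLocalRing_tsze : IsLocalRing (TrivSqZeroExt k V) where
  isUnit_or_isUnit_of_add_one {a b} h := by
    rw [add_comm, ← eq_sub_iff_add_eq] at h
    rcases eq_or_ne (TrivSqZeroExt.fst a) 0 with ha | ha <;>
    simp [TrivSqZeroExt.isUnit_iff_isUnit_fst, h, ha]

variable (k V) in
/-- the closed point of `Spec k[V]`, as a section. -/
noncomputable def aug : 𝟙K ⟶ SO k (TrivSqZeroExt k V) :=
  Over.homMk (U := 𝟙K) (V := SO k (TrivSqZeroExt k V))
    (Spec.map (CommRingCat.ofHom (TrivSqZeroExt.fstHom k k V : TrivSqZeroExt k V →+* k))) (by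
    change Spec.map _ ≫ Spec.map _ = 𝟙 _
    rw [← Spec.map_comp, ← CommRingCat.ofHom_comp, AlgHom.comp_algebraMap]
    exact Spec.map_id _)

theorem aug_left : (aug k V).left =
    Spec.map (CommRingCat.ofHom (TrivSqZeroExt.fstHom k k V : TrivSqZeroExt k V →+* k)) := rfl

variable {G : Over (Spec (CommRingCat.of k))} [GrpObj G]

theorem SOmap_zero (t : SO k (TrivSqZeroExt k V) ⟶ G) (ht : aug k V ≫ t = η[G]) :
    SOmap (TrivSqZeroExt.map (0 : V →ₗ[k] V')) ≫ t = 1 := by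
  have h1 : SOmap (TrivSqZeroExt.map (0 : V →ₗ[k] V')) =
      toUnit (SO k (TrivSqZeroExt k V')) ≫ aug k V := by
    apply Over.OverMorphism.ext
    rw [Over.comp_left, Over.toUnit_left, SOmap_left, aug_left]
    change Spec.map _ = Spec.map _ ≫ Spec.map _
    rw [← Spec.map_comp, ← CommRingCat.ofHom_comp]
    have h2 : ((TrivSqZeroExt.map (0 : V →ₗ[k] V') : TrivSqZeroExt k V →ₐ[k] TrivSqZeroExt k V') :
        TrivSqZeroExt k V →+* TrivSqZeroExt k V') =
        (algebraMap k (TrivSqZeroExt k V')).comp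
          (TrivSqZeroExt.fstHom k k V : TrivSqZeroExt k V →+* k) := by
      refine RingHom.ext fun x => TrivSqZeroExt.ext ?_ ?_
      · simp [TrivSqZeroExt.algebraMap_eq_inl]
      · simp [TrivSqZeroExt.algebraMap_eq_inl]
    rw [h2]
  rw [h1, Category.assoc, ht, ← Hom.one_def]

end tsze

section pow

variable {G : Over (Spec (CommRingCat.of k))} [GrpObj G]

theorem uniq₂ (u u' : SO k (TrivSqZeroExt k (k × k)) ⟶ G)
    (h₁ : SOmap (TrivSqZeroExt.map (LinearMap.fst k k k)) ≫ u =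
      SOmap (TrivSqZeroExt.map (LinearMap.fst k k k)) ≫ u')
    (h₂ : SOmap (TrivSqZeroExt.map (LinearMap.snd k k k)) ≫ u =
      SOmap (TrivSqZeroExt.map (LinearMap.snd k k k)) ≫ u') : u = u' := by
  apply Over.OverMorphism.ext
  haveI : IsLocalHom ((TrivSqZeroExt.map (LinearMap.fst k k k) :
      TrivSqZeroExt k (k × k) →ₐ[k] TrivSqZeroExt k k) :
      TrivSqZeroExt k (k × k) →+* TrivSqZeroExt k k) := by
    refine ⟨fun a ha => ?_⟩
    rw [TrivSqZeroExt.isUnit_iff_isUnit_fst] at ha ⊢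
    simpa using ha
  refine PowEtB.hom_ext_of_jointly_injective
    ((TrivSqZeroExt.map (LinearMap.fst k k k) :
      TrivSqZeroExt k (k × k) →ₐ[k] TrivSqZeroExt k k) :
      TrivSqZeroExt k (k × k) →+* TrivSqZeroExt k k)
    ((TrivSqZeroExt.map (LinearMap.snd k k k) :
      TrivSqZeroExt k (k × k) →ₐ[k] TrivSqZeroExt k k) :
      TrivSqZeroExt k (k × k) →+* TrivSqZeroExt k k) ?_ u.left u'.left
    (congrArg CommaMorphism.left h₁) (congrArg CommaMorphism.left h₂)
  intro a b h1 h2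
  have e1 := congrArg TrivSqZeroExt.fst h1
  have e2 := congrArg TrivSqZeroExt.snd h1
  have e3 := congrArg TrivSqZeroExt.snd h2
  simp at e1 e2 e3
  exact TrivSqZeroExt.ext e1 (Prod.ext e2 e3)

theorem pow_eq (t : SO k (TrivSqZeroExt k k) ⟶ G) (ht : aug k k ≫ t = η[G]) (n : ℕ) :
    t ^ n = SOmap (TrivSqZeroExt.map ((n : k) • (LinearMap.id : k →ₗ[k] k))) ≫ t := by
  induction n with
  | zero =>
    rw [pow_zero, Nat.cast_zero, zero_smul]
    exact (SOmap_zero t ht).symm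
  | succ n ih =>
    obtain ⟨p₁, hp₁⟩ : ∃ p : TrivSqZeroExt k k →ₐ[k] TrivSqZeroExt k (k × k),
      p = TrivSqZeroExt.map (LinearMap.inl k k k) := ⟨_, rfl⟩
    obtain ⟨p₂, hp₂⟩ : ∃ p : TrivSqZeroExt k k →ₐ[k] TrivSqZeroExt k (k × k),
      p = TrivSqZeroExt.map (LinearMap.inr k k k) := ⟨_, rfl⟩
    obtain ⟨j₁, hj₁⟩ : ∃ j : TrivSqZeroExt k (k × k) →ₐ[k] TrivSqZeroExt k k,
      j = TrivSqZeroExt.map (LinearMap.fst k k k) := ⟨_, rfl⟩
    obtain ⟨j₂, hj₂⟩ : ∃ j : TrivSqZeroExt k (k × k) →ₐ[k] TrivSqZeroExt k k,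
      j = TrivSqZeroExt.map (LinearMap.snd k k k) := ⟨_, rfl⟩
    obtain ⟨δ, hδ⟩ : ∃ d : TrivSqZeroExt k (k × k) →ₐ[k] TrivSqZeroExt k k,
      d = TrivSqZeroExt.map (LinearMap.coprod LinearMap.id LinearMap.id) := ⟨_, rfl⟩
    obtain ⟨w, hw⟩ : ∃ w : TrivSqZeroExt k k →ₐ[k] TrivSqZeroExt k (k × k),
      w = TrivSqZeroExt.map (LinearMap.prod ((n : k) • LinearMap.id) LinearMap.id) := ⟨_, rfl⟩
    have c11 : j₁.comp p₁ = AlgHom.id k _ := by
      rw [hj₁, hp₁, ← TrivSqZeroExt.map_comp_map, LinearMap.fst_comp_inl, TrivSqZeroExt.map_id]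
    have c12 : j₁.comp p₂ = TrivSqZeroExt.map (0 : k →ₗ[k] k) := by
      rw [hj₁, hp₂, ← TrivSqZeroExt.map_comp_map, LinearMap.fst_comp_inr]
    have c21 : j₂.comp p₁ = TrivSqZeroExt.map (0 : k →ₗ[k] k) := by
      rw [hj₂, hp₁, ← TrivSqZeroExt.map_comp_map, LinearMap.snd_comp_inl]
    have c22 : j₂.comp p₂ = AlgHom.id k _ := by
      rw [hj₂, hp₂, ← TrivSqZeroExt.map_comp_map, LinearMap.snd_comp_inr, TrivSqZeroExt.map_id]
    have c1w : j₁.comp w = TrivSqZeroExt.map ((n : k) • (LinearMap.id : k →ₗ[k] k)) := by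
      rw [hj₁, hw, ← TrivSqZeroExt.map_comp_map, LinearMap.fst_prod]
    have c2w : j₂.comp w = AlgHom.id k _ := by
      rw [hj₂, hw, ← TrivSqZeroExt.map_comp_map, LinearMap.snd_prod, TrivSqZeroExt.map_id]
    have d1 : δ.comp p₁ = AlgHom.id k _ := by
      rw [hδ, hp₁, ← TrivSqZeroExt.map_comp_map, LinearMap.coprod_inl, TrivSqZeroExt.map_id]
    have d2 : δ.comp p₂ = AlgHom.id k _ := by
      rw [hδ, hp₂, ← TrivSqZeroExt.map_comp_map, LinearMap.coprod_inr, TrivSqZeroExt.map_id]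
    have hlin : (n : k) • (LinearMap.id : k →ₗ[k] k) + LinearMap.id =
        ((n + 1 : ℕ) : k) • (LinearMap.id : k →ₗ[k] k) := by
      rw [Nat.cast_succ, add_smul, one_smul]
    have dw : δ.comp w =
        TrivSqZeroExt.map (((n + 1 : ℕ) : k) • (LinearMap.id : k →ₗ[k] k)) := by
      rw [hδ, hw, ← TrivSqZeroExt.map_comp_map, LinearMap.coprod_comp_prod, LinearMap.id_comp,
        LinearMap.id_comp, hlin]
    have hone : SOmap (TrivSqZeroExt.map (0 : k →ₗ[k] k)) ≫ t = 1 := SOmap_zero t ht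
    have hu : (SOmap p₁ ≫ t ^ n) * (SOmap p₂ ≫ t) = SOmap w ≫ t := by
      apply uniq₂
      · rw [← hj₁, MonObj.comp_mul, SOmap_comp_assoc, SOmap_comp_assoc, SOmap_comp_assoc,
          c11, c12, c1w, SOmap_id, Category.id_comp, hone, _root_.mul_one]
        exact ih
      · rw [← hj₂, MonObj.comp_mul, SOmap_comp_assoc, SOmap_comp_assoc, SOmap_comp_assoc,
          c21, c22, c2w, SOmap_id, Category.id_comp, MonObj.comp_pow, hone, one_pow,
          _root_.one_mul]
    have h3 := congrArg (fun v => SOmap δ ≫ v) hu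
    beta_reduce at h3
    rw [MonObj.comp_mul, SOmap_comp_assoc, SOmap_comp_assoc, SOmap_comp_assoc, d1, d2, dw,
      SOmap_id, Category.id_comp, Category.id_comp] at h3
    rw [pow_succ]
    exact h3

end pow

section unit

variable (k) (G : Over (Spec (CommRingCat.of k))) [GrpObj G]

/-- the unit section as a morphism from `Spec k`. -/
noncomputable def e : Spec (CommRingCat.of k) ⟶ G.left := η[G].left

/-- the unit point. -/
noncomputable def e₀ : G.left := (e k G) (closedPoint k)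

/-- the structure map `k → O_{G,x}`. -/
noncomputable def ρ (x : G.left) : CommRingCat.of k ⟶ G.left.presheaf.stalk x :=
  Spec.preimage (G.left.fromSpecStalk x ≫ G.hom)

theorem SpecMap_ρ (x : G.left) : Spec.map (ρ k G x) = G.left.fromSpecStalk x ≫ G.hom :=
  Spec.map_preimage _

/-- the `k`-algebra structure on the local rings of `G`. -/
noncomputable abbrev stalkAlg (x : G.left) : Algebra k (G.left.presheaf.stalk x) :=
  (ρ k G x).hom.toAlgebra

attribute [local instance] stalkAlg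

theorem algebraMap_stalk (x : G.left) :
    algebraMap k (G.left.presheaf.stalk x) = (ρ k G x).hom := rfl

theorem res_ρ : ρ k G (e₀ k G) ≫ Scheme.stalkClosedPointTo (e k G) = 𝟙 _ := by
  apply Spec.map_injective
  rw [Spec.map_comp, SpecMap_ρ, ← Category.assoc]
  erw [Scheme.Spec_stalkClosedPointTo_fromSpecStalk]
  rw [Spec.map_id]
  exact Over.w η[G]

theorem ρ_stalkMap (P : G.left ⟶ G.left) (hP : P ≫ G.hom = G.hom) (x : G.left) :
    ρ k G (P x) ≫ P.stalkMap x = ρ k G x := by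
  apply Spec.map_injective
  rw [Spec.map_comp, SpecMap_ρ, SpecMap_ρ, ← Category.assoc,
    Scheme.SpecMap_stalkMap_fromSpecStalk, Category.assoc, hP]

/-- the residue map at the unit point as a `k`-algebra map. -/
noncomputable def resA : G.left.presheaf.stalk (e₀ k G) →ₐ[k] k :=
  { (Scheme.stalkClosedPointTo (e k G)).hom with
    commutes' := fun c => congrArg (fun f => f.hom c) (res_ρ k G) }

theorem resA_apply (a : G.left.presheaf.stalk (e₀ k G)) :
    resA k G a = (Scheme.stalkClosedPointTo (e k G)).hom a := rfl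

/-- the stalk map of an endomorphism over `k` as a `k`-algebra map. -/
noncomputable def φA (P : G.left ⟶ G.left) (hP : P ≫ G.hom = G.hom) (x : G.left) :
    G.left.presheaf.stalk (P x) →ₐ[k] G.left.presheaf.stalk x :=
  { (P.stalkMap x).hom with
    commutes' := fun c => congrArg (fun f => f.hom c) (ρ_stalkMap k G P hP x) }

theorem φA_apply (P : G.left ⟶ G.left) (hP : P ≫ G.hom = G.hom) (x : G.left)
    (b : G.left.presheaf.stalk (P x)) : φA k G P hP x b = (P.stalkMap x).hom b := rfl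

variable {k} in
theorem eq_of_retractions {A : Type u} [CommRing A] [IsLocalRing A] (r : k →+* A)
    (χ₁ χ₂ : A →+* k) (h₁ : χ₁.comp r = RingHom.id k) (h₂ : χ₂.comp r = RingHom.id k) :
    χ₁ = χ₂ := by
  have hk : ∀ χ : A →+* k, χ.comp r = RingHom.id k → RingHom.ker χ = maximalIdeal A := by
    intro χ hχ
    have hs : Function.Surjective χ := fun c => ⟨r c, congrArg (fun f => f c) hχ⟩
    exact IsLocalRing.eq_maximalIdeal (RingHom.ker_isMaximal_of_surjective χ hs)
  ext a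
  have h3 : a - r (χ₁ a) ∈ RingHom.ker χ₁ := by
    rw [RingHom.mem_ker, map_sub]
    have h0 := congrArg (fun f => f (χ₁ a)) h₁
    simp only [RingHom.comp_apply, RingHom.id_apply] at h0
    rw [h0, sub_self]
  rw [hk χ₁ h₁, ← hk χ₂ h₂, RingHom.mem_ker, map_sub] at h3
  have h4 := congrArg (fun f => f (χ₁ a)) h₂
  simp only [RingHom.comp_apply, RingHom.id_apply] at h4
  rw [h4, sub_eq_zero] at h3
  exact h3.symm

theorem tangent_condition (n : ℕ) (hn : (n : k) ≠ 0)
    (θ : G.left.presheaf.stalk (e₀ k G) →ₐ[k] TrivSqZeroExt k k)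
    (hvan : ∀ b, (θ ((((𝟙 G : G ⟶ G) ^ n).left.stalkMap (e₀ k G)).hom b)).snd = 0) :
    ∀ a, (θ a).snd = 0 := by
  obtain ⟨Pn, hPn⟩ : ∃ Pn : G ⟶ G, Pn = (𝟙 G : G ⟶ G) ^ n := ⟨_, rfl⟩
  rw [← hPn] at hvan
  obtain ⟨t₀, ht₀⟩ : ∃ t₀ : Spec (CommRingCat.of (TrivSqZeroExt k k)) ⟶ G.left,
      t₀ = Spec.map (CommRingCat.ofHom (θ : G.left.presheaf.stalk (e₀ k G) →+* TrivSqZeroExt k k)) ≫
        G.left.fromSpecStalk (e₀ k G) := ⟨_, rfl⟩
  have hw : t₀ ≫ G.hom = (SO k (TrivSqZeroExt k k)).hom := by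
    rw [ht₀, Category.assoc, ← SpecMap_ρ, ← Spec.map_comp]
    change _ = Spec.map _
    congr 1
    apply CommRingCat.hom_ext
    apply RingHom.ext
    intro c
    exact θ.commutes c
  obtain ⟨t, ht⟩ : ∃ t : SO k (TrivSqZeroExt k k) ⟶ G, t = Over.homMk t₀ hw := ⟨_, rfl⟩
  have htl : t.left = t₀ := by rw [ht]; rfl
  have hfst : CommRingCat.ofHom (θ : G.left.presheaf.stalk (e₀ k G) →+* TrivSqZeroExt k k) ≫
      CommRingCat.ofHom (TrivSqZeroExt.fstHom k k k : TrivSqZeroExt k k →+* k) =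
      Scheme.stalkClosedPointTo (e k G) := by
    apply CommRingCat.hom_ext
    apply eq_of_retractions (ρ k G (e₀ k G)).hom
    · ext c
      have := θ.commutes c
      simp only [CommRingCat.hom_comp, CommRingCat.hom_ofHom, RingHom.comp_apply,
        RingHom.id_apply]
      have h0 : (θ : G.left.presheaf.stalk (e₀ k G) →+* TrivSqZeroExt k k) ((ρ k G (e₀ k G)).hom c) =
          algebraMap k (TrivSqZeroExt k k) c := this
      rw [h0]
      rfl
    · ext c
      exact congrArg (fun f => f.hom c) (res_ρ k G)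
  have hbase : aug k k ≫ t = η[G] := by
    apply Over.OverMorphism.ext
    show Spec.map (CommRingCat.ofHom
      (TrivSqZeroExt.fstHom k k k : TrivSqZeroExt k k →+* k)) ≫ t.left = e k G
    rw [htl, ht₀, ← Category.assoc, ← Spec.map_comp, hfst]
    exact Scheme.Spec_stalkClosedPointTo_fromSpecStalk (e k G)
  have hpow := pow_eq t hbase n
  have h1 : t ≫ Pn =
      SOmap (TrivSqZeroExt.map ((n : k) • (LinearMap.id : k →ₗ[k] k))) ≫ t := by
    rw [hPn, MonObj.comp_pow, Category.comp_id, hpow]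
  have h2 : t₀ ≫ Pn.left = Spec.map (CommRingCat.ofHom
      ((TrivSqZeroExt.map ((n : k) • (LinearMap.id : k →ₗ[k] k)) :
        TrivSqZeroExt k k →ₐ[k] TrivSqZeroExt k k) :
        TrivSqZeroExt k k →+* TrivSqZeroExt k k)) ≫ t₀ := by
    rw [← htl]
    exact congrArg (fun f => f.left) h1
  obtain ⟨c, hc⟩ : ∃ c : CommRingCat.of (TrivSqZeroExt k k) ⟶ CommRingCat.of (TrivSqZeroExt k k),
      c = CommRingCat.ofHom ((algebraMap k (TrivSqZeroExt k k)).comp
        (TrivSqZeroExt.fstHom k k k : TrivSqZeroExt k k →+* k)) := ⟨_, rfl⟩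
  have h3 : t₀ ≫ Pn.left = Spec.map c ≫ (t₀ ≫ Pn.left) := by
    rw [ht₀, Category.assoc, ← Scheme.SpecMap_stalkMap_fromSpecStalk, ← Category.assoc,
      ← Category.assoc, ← Spec.map_comp, ← Spec.map_comp]
    congr 2
    apply CommRingCat.hom_ext
    apply RingHom.ext
    intro b
    rw [hc]
    refine TrivSqZeroExt.ext ?_ ?_
    · simp [TrivSqZeroExt.algebraMap_eq_inl]
    · have := hvan b
      simp only [CommRingCat.hom_comp, CommRingCat.hom_ofHom, RingHom.comp_apply]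
      simpa [TrivSqZeroExt.algebraMap_eq_inl] using this
  rw [h2, ht₀, ← Category.assoc, ← Category.assoc, ← Category.assoc, ← Spec.map_comp,
    ← Spec.map_comp, ← Spec.map_comp, cancel_mono] at h3
  have h4 := Spec.map_injective h3
  intro a
  have h5 := congrArg (fun f => (f.hom a).snd) h4
  simp only [hc, CommRingCat.hom_comp, CommRingCat.hom_ofHom, RingHom.comp_apply] at h5
  simp [TrivSqZeroExt.algebraMap_eq_inl] at h5
  exact h5.resolve_left hn

theorem unit_comp_pow (n : ℕ) : η[G] ≫ (𝟙 G : G ⟶ G) ^ n = η[G] := by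
  rw [MonObj.comp_pow, Category.comp_id, MonObj.one_eq_one, one_pow]

theorem pow_e₀ (n : ℕ) : ((𝟙 G : G ⟶ G) ^ n).left (e₀ k G) = e₀ k G := by
  have h := congrArg (fun f => f.left) (unit_comp_pow k G n)
  exact congrArg (fun f : Spec (CommRingCat.of k) ⟶ G.left => f (closedPoint k)) h

theorem stalk_formallyEtale [LocallyOfFiniteType G.hom] (n : ℕ) (hn : (n : k) ≠ 0) :
    (((𝟙 G : G ⟶ G) ^ n).left.stalkMap (e₀ k G)).hom.FormallyEtale := by
  obtain ⟨P, hP⟩ : ∃ P : G.left ⟶ G.left, P = ((𝟙 G : G ⟶ G) ^ n).left := ⟨_, rfl⟩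
  have htc := tangent_condition k G n hn
  have hPe := pow_e₀ k G n
  rw [← hP] at htc hPe ⊢
  have hPw : P ≫ G.hom = G.hom := by rw [hP]; exact Over.w _
  haveI : IsLocallyNoetherian G.left := LocallyOfFiniteType.isLocallyNoetherian G.hom
  haveI : LocallyOfFiniteType P := by
    haveI : LocallyOfFiniteType (P ≫ G.hom) := by rw [hPw]; infer_instance
    exact locallyOfFiniteType_of_comp P G.hom
  have hresρ : ∀ c : k, (Scheme.stalkClosedPointTo (e k G)).hom ((ρ k G (e₀ k G)).hom c) = c :=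
    fun c => congrArg (fun f => f.hom c) (res_ρ k G)
  have hφρ : ∀ c : k, (P.stalkMap (e₀ k G)).hom ((ρ k G (P (e₀ k G))).hom c) =
      (ρ k G (e₀ k G)).hom c :=
    fun c => congrArg (fun f => f.hom c) (ρ_stalkMap k G P hPw (e₀ k G))
  have hB : ∀ y : G.left, y = e₀ k G → ∀ b : G.left.presheaf.stalk y,
      ∃ c : k, b - (ρ k G y).hom c ∈ maximalIdeal (G.left.presheaf.stalk y) := by
    rintro y rfl b
    refine ⟨(Scheme.stalkClosedPointTo (e k G)).hom b, ?_⟩
    rw [mem_maximalIdeal, mem_nonunits_iff]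
    intro hu
    have h0 := hu.map (Scheme.stalkClosedPointTo (e k G)).hom
    have h00 : (Scheme.stalkClosedPointTo (e k G)).hom (b - (ρ k G (e₀ k G)).hom
        ((Scheme.stalkClosedPointTo (e k G)).hom b)) = 0 :=
      (map_sub _ _ _).trans (sub_eq_zero.mpr (hresρ _).symm)
    exact (isUnit_iff_ne_zero.mp h0) h00
  have hσ : ∀ y : G.left, y = e₀ k G →
      Nonempty (G.left.presheaf.stalk (e₀ k G) ≃+* G.left.presheaf.stalk y) := by
    rintro y rfl; exact ⟨RingEquiv.refl _⟩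
  obtain ⟨σ⟩ := hσ _ hPe
  have hloc : IsLocalHom (P.stalkMap (e₀ k G)).hom := inferInstance
  have hlocal : ∀ b ∈ maximalIdeal (G.left.presheaf.stalk (P (e₀ k G))),
      (P.stalkMap (e₀ k G)).hom b ∈ maximalIdeal (G.left.presheaf.stalk (e₀ k G)) := by
    intro b hb
    rw [mem_maximalIdeal, mem_nonunits_iff] at hb ⊢
    exact fun hu => hb ((isUnit_map_iff (P.stalkMap (e₀ k G)).hom b).mp hu)
  have h1 : (maximalIdeal (G.left.presheaf.stalk (P (e₀ k G)))).map (P.stalkMap (e₀ k G)).hom =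
      maximalIdeal (G.left.presheaf.stalk (e₀ k G)) :=
    PowEtA.map_maximalIdeal_eq_of_dual (resA k G) (φA k G P hPw (e₀ k G)) (hB _ hPe)
      hlocal (fun θ hθ => htc θ hθ)
  letI algBA : Algebra (G.left.presheaf.stalk (P (e₀ k G))) (G.left.presheaf.stalk (e₀ k G)) :=
    (P.stalkMap (e₀ k G)).hom.toAlgebra
  haveI : IsLocalHom (algebraMap (G.left.presheaf.stalk (P (e₀ k G)))
      (G.left.presheaf.stalk (e₀ k G))) := hloc
  haveI : Algebra.EssFiniteType (G.left.presheaf.stalk (P (e₀ k G)))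
      (G.left.presheaf.stalk (e₀ k G)) := by
    rw [← RingHom.essFiniteType_algebraMap, RingHom.algebraMap_toAlgebra]
    exact LocallyOfFiniteType.stalkMap P (e₀ k G)
  have h2 : ∀ a : G.left.presheaf.stalk (e₀ k G), ∃ b : G.left.presheaf.stalk (P (e₀ k G)),
      a - algebraMap _ _ b ∈ maximalIdeal (G.left.presheaf.stalk (e₀ k G)) := by
    intro a
    obtain ⟨c, hc⟩ := hB _ rfl a
    refine ⟨(ρ k G (P (e₀ k G))).hom c, ?_⟩
    rw [RingHom.algebraMap_toAlgebra, hφρ]
    exact hc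
  exact PowEtA.formallyEtale_of_map_eq h1 h2 σ

theorem etale_at_unit [LocallyOfFiniteType G.hom] (n : ℕ) (hn : (n : k) ≠ 0) :
    ∃ U : G.left.Opens, e₀ k G ∈ U ∧ Etale (U.ι ≫ ((𝟙 G : G ⟶ G) ^ n).left) := by
  haveI : IsLocallyNoetherian G.left := LocallyOfFiniteType.isLocallyNoetherian G.hom
  haveI : LocallyOfFiniteType ((𝟙 G : G ⟶ G) ^ n).left := by
    haveI : LocallyOfFiniteType (((𝟙 G : G ⟶ G) ^ n).left ≫ G.hom) := by
      rw [Over.w]; infer_instance
    exact locallyOfFiniteType_of_comp _ G.hom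
  exact PowEtB.exists_etale_nhd _ _ (stalk_formallyEtale k G n hn)

end unit

section central

variable (k) (G : Over (Spec (CommRingCat.of k))) [GrpObj G] [LocallyOfFiniteType G.hom]

theorem s4111 (n : ℕ) (hn : (n : k) ≠ 0) :
    ∃ U : G.left.Opens, (∀ p : ↥(𝟙_ (Over (Spec (CommRingCat.of k)))).left,
      η[G].left.base p ∈ U) ∧ Etale (U.ι ≫ ((𝟙 G : G ⟶ G) ^ n).left) := by
  obtain ⟨U, hU, hE⟩ := etale_at_unit k G n hn
  refine ⟨U, fun p => ?_, hE⟩
  have hp : p = (closedPoint k : PrimeSpectrum k) :=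
    @Subsingleton.elim (PrimeSpectrum k) inferInstance _ _
  rw [hp]
  exact hU

theorem s8395 (n : ℕ) (hn : (n : k) ≠ 0) (g : 𝟙_ (Over (Spec (CommRingCat.of k))) ⟶ G)
    (hg : ∀ (X : Over (Spec (CommRingCat.of k))) (x : X ⟶ G),
      (toUnit X ≫ g) * x = x * (toUnit X ≫ g)) :
    ∃ U : G.left.Opens, Set.range g.left.base ⊆ (U : Set ↥G.left) ∧
      Etale (U.ι ≫ ((𝟙 G : G ⟶ G) ^ n).left) := by
  obtain ⟨U₀, hU₀, hE⟩ := etale_at_unit k G n hn
  obtain ⟨Pn, hPn⟩ : ∃ Pn : G ⟶ G, Pn = (𝟙 G : G ⟶ G) ^ n := ⟨_, rfl⟩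
  rw [← hPn] at hE ⊢
  obtain ⟨c, hc⟩ : ∃ c : G ⟶ G, c = toUnit G ≫ g := ⟨_, rfl⟩
  have hfc : ∀ f : G ⟶ G, f ≫ c = c := by
    intro f
    rw [hc, ← Category.assoc, toUnit_unique (f ≫ toUnit G) (toUnit G)]
  have hcomm : Commute c (𝟙 G) := by
    have := hg G (𝟙 G)
    rw [← hc] at this
    exact this
  obtain ⟨L, hL⟩ : ∃ L : G ⟶ G, L = c * 𝟙 G := ⟨_, rfl⟩
  obtain ⟨L', hL'⟩ : ∃ L' : G ⟶ G, L' = c⁻¹ * 𝟙 G := ⟨_, rfl⟩
  obtain ⟨Ln, hLn⟩ : ∃ Ln : G ⟶ G, Ln = c ^ n * 𝟙 G := ⟨_, rfl⟩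
  obtain ⟨Ln', hLn'⟩ : ∃ Ln' : G ⟶ G, Ln' = (c ^ n)⁻¹ * 𝟙 G := ⟨_, rfl⟩
  have hL'L : L' ≫ L = 𝟙 G := by
    rw [hL, MonObj.comp_mul, hfc, Category.comp_id, hL']; group
  have hLL' : L ≫ L' = 𝟙 G := by
    rw [hL', MonObj.comp_mul, GrpObj.comp_inv, hfc, Category.comp_id, hL]; group
  have hLnLn' : Ln ≫ Ln' = 𝟙 G := by
    rw [hLn', MonObj.comp_mul, GrpObj.comp_inv, MonObj.comp_pow, hfc, Category.comp_id, hLn]
    group
  have hLn'Ln : Ln' ≫ Ln = 𝟙 G := by
    rw [hLn, MonObj.comp_mul, MonObj.comp_pow, hfc, Category.comp_id, hLn']; group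
  have hLP : L ≫ Pn = Pn ≫ Ln := by
    rw [hLn, MonObj.comp_mul, MonObj.comp_pow, hfc, Category.comp_id, hPn, MonObj.comp_pow,
      Category.comp_id, hL, hcomm.mul_pow]
  have hP : Pn = L' ≫ Pn ≫ Ln := by
    rw [← hLP, ← Category.assoc, hL'L, Category.id_comp]
  haveI : IsIso L'.left :=
    ⟨⟨L.left, by rw [← Over.comp_left, hL'L]; rfl, by rw [← Over.comp_left, hLL']; rfl⟩⟩
  haveI : IsIso Ln.left :=
    ⟨⟨Ln'.left, by rw [← Over.comp_left, hLnLn']; rfl, by rw [← Over.comp_left, hLn'Ln]; rfl⟩⟩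
  haveI : Etale (U₀.ι ≫ Pn.left) := hE
  refine ⟨L'.left ⁻¹ᵁ U₀, ?_, ?_⟩
  · rintro _ ⟨p, rfl⟩
    have hgL' : g ≫ L' = η[G] := by
      rw [hL', MonObj.comp_mul, GrpObj.comp_inv, Category.comp_id, hc, ← Category.assoc,
        toUnit_unique (g ≫ toUnit G) (𝟙 _), Category.id_comp, inv_mul_cancel,
        MonObj.one_eq_one]
    have hp : p = (closedPoint k : PrimeSpectrum k) :=
      @Subsingleton.elim (PrimeSpectrum k) inferInstance _ _
    have h3 := congrArg (fun f => f.left) hgL'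
    have h4 := congrArg (fun f : Spec (CommRingCat.of k) ⟶ G.left => f (closedPoint k)) h3
    rw [hp]
    show L'.left ((g.left : Spec (CommRingCat.of k) ⟶ G.left) (closedPoint k)) ∈ U₀
    have h5 : L'.left ((g.left : Spec (CommRingCat.of k) ⟶ G.left) (closedPoint k)) =
        e₀ k G := h4
    rw [h5]
    exact hU₀
  · have h5 : (L'.left ⁻¹ᵁ U₀).ι ≫ Pn.left =
        (L'.left ∣_ U₀) ≫ (U₀.ι ≫ Pn.left) ≫ Ln.left := by
      conv_lhs => rw [hP]
      rw [Over.comp_left, Over.comp_left, ← Category.assoc, ← morphismRestrict_ι,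
        Category.assoc, Category.assoc]
    rw [h5]
    infer_instance

end central

end Groth.Agent.H1.PowEtC
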