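import Mathlib
import Groth.Prelude.Def_AlgGrp
import Groth.Agent.Lib.Helper1.AbAvoid

/-! Finite translation stabiliser of the complement of an affine open neighbourhood of the unit
in a proper group scheme over an algebraically closed field (helper1). -/

set_option autoImplicit false
set_option linter.unusedSectionVars false
universe u

namespace Groth.Agent.H1.AbStab

open CategoryTheory MonoidalCategory CartesianMonoidalCategory MonObj GrpObj AlgebraicGeometry
open Groth.Agent.H1.AbAvoid

/-- a closed subset of a proper scheme over a field which lies in an affine open is finite. -/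
theorem finite_of_isClosed_of_subset_affine {k : Type u} [Field k] {X : Scheme.{u}}
    (f : X ⟶ Spec (CommRingCat.of k)) [IsProper f]
    (U : X.Opens) (hU : IsAffineOpen U) (C : Set X) (hC : IsClosed C)
    (hCU : C ⊆ (U : Set X)) : C.Finite := by
  let I := Scheme.IdealSheafData.vanishingIdeal ⟨C, hC⟩
  have hrange : Set.range I.subschemeι = C := by
    rw [Scheme.IdealSheafData.range_subschemeι, Scheme.IdealSheafData.coe_support_vanishingIdeal]
    rfl
  have hsub : Set.range I.subschemeι ⊆ Set.range U.ι := by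
    rw [hrange, Scheme.Opens.range_ι]
    exact hCU
  let j : I.subscheme ⟶ U := IsOpenImmersion.lift U.ι I.subschemeι hsub
  have hj : j ≫ U.ι = I.subschemeι := IsOpenImmersion.lift_fac _ _ _
  haveI : IsClosedImmersion (j ≫ U.ι) := by rw [hj]; infer_instance
  haveI : IsClosedImmersion j := IsClosedImmersion.of_comp j U.ι
  haveI : IsAffine U := hU
  haveI : IsAffine I.subscheme := isAffine_of_isAffineHom j
  haveI : IsFinite (I.subschemeι ≫ f) :=
    IsFinite.iff_isProper_and_isAffineHom.mpr ⟨inferInstance, inferInstance⟩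
  have hfin := (I.subschemeι ≫ f).finite_preimage_singleton (IsLocalRing.closedPoint k)
  have huniv : (Set.univ : Set I.subscheme) ⊆
      (I.subschemeι ≫ f) ⁻¹' {IsLocalRing.closedPoint k} := by
    intro z _
    exact @Subsingleton.elim (PrimeSpectrum k) inferInstance _ _
  have hfin' := hfin.subset huniv
  rw [← hrange, ← Set.image_univ]
  exact hfin'.image _

variable (K : Type u) [Field K] [IsAlgClosed K] (A : Over (Spec (CommRingCat.of K))) [GrpObj A]

local notation "𝟙K" => 𝟙_ (Over (Spec (CommRingCat.of K)))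

variable {K A}

theorem P_injective [LocallyOfFiniteType A.hom] : Function.Injective (P K A) := by
  intro x y hxy
  apply Over.OverMorphism.ext
  refine ext_of_apply_closedPoint_eq A.hom ?_ ?_ hxy
  · have := Over.w x
    simpa using this
  · have := Over.w y
    simpa using this

theorem s18372 [IsProper A.hom]
    (U : A.left.Opens) (hU : IsAffineOpen U)
    (he : Set.range η[A].left.base ⊆ (U : Set A.left)) :
    Set.Finite {x : 𝟙K ⟶ A |
      (𝟙 A * (toUnit A ≫ x)).left.base ⁻¹' ((U : Set A.left)ᶜ) = (U : Set A.left)ᶜ} := by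
  haveI : JacobsonSpace ↥A.left := LocallyOfFiniteType.jacobsonSpace A.hom
  obtain ⟨D, hD⟩ : ∃ D : Set A.left, D = (U : Set A.left)ᶜ := ⟨_, rfl⟩
  have hDc : IsClosed D := by rw [hD]; exact U.isOpen.isClosed_compl
  rw [← hD]
  -- the maps `y ↦ d * y⁻¹`
  have hMP : ∀ d y : 𝟙K ⟶ A,
      ((toUnit A ≫ d) * (𝟙 A)⁻¹).left.base (P K A y) = P K A (d * y⁻¹) := by
    intro d y
    rw [P_comp, MonObj.comp_mul, GrpObj.comp_inv, Category.comp_id, ← Category.assoc,
      toUnit_comp_pt, Category.id_comp]
  have hTP : ∀ x z : 𝟙K ⟶ A,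
      (𝟙 A * (toUnit A ≫ x)).left.base (P K A z) = P K A (z * x) := by
    intro x z
    rw [P_comp, MonObj.comp_mul, Category.comp_id, ← Category.assoc, toUnit_comp_pt,
      Category.id_comp]
  obtain ⟨C, hCdef⟩ : ∃ C : Set A.left, C = ⋂ (d : 𝟙K ⟶ A) (_ : P K A d ∈ D),
      ((toUnit A ≫ d) * (𝟙 A)⁻¹).left.base ⁻¹' D := ⟨_, rfl⟩
  have hCc : IsClosed C := by
    rw [hCdef]
    refine isClosed_iInter fun d => isClosed_iInter fun _ => ?_
    exact hDc.preimage ((toUnit A ≫ d) * (𝟙 A)⁻¹).left.continuous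
  have hCU : C ⊆ (U : Set A.left) := by
    by_contra hcon
    have hne : (C ∩ D).Nonempty := by
      rw [Set.not_subset] at hcon
      obtain ⟨c, hcC, hcU⟩ := hcon
      exact ⟨c, hcC, by rw [hD]; exact hcU⟩
    obtain ⟨w, ⟨hwC, hwD⟩, hwc⟩ :=
      nonempty_inter_closedPoints hne (hCc.inter hDc).isLocallyClosed
    obtain ⟨w', hw'⟩ := exists_pt w hwc
    rw [hCdef] at hwC
    have h1 := Set.mem_iInter₂.mp hwC w' (by rw [hw']; exact hwD)
    rw [← hw'] at h1
    have h2 : ((toUnit A ≫ w') * (𝟙 A)⁻¹).left.base (P K A w') ∈ D := h1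
    rw [hMP, _root_.mul_inv_cancel] at h2
    rw [hD] at h2
    apply h2
    apply he
    rw [MonObj.one_eq_one]
    exact ⟨_, rfl⟩
  have hCfin : C.Finite := finite_of_isClosed_of_subset_affine A.hom U hU C hCc hCU
  refine (hCfin.preimage (P_injective (K := K) (A := A)).injOn).subset ?_
  intro x hx
  change _ = _ at hx
  show P K A x ∈ C
  rw [hCdef]
  refine Set.mem_iInter₂.mpr fun d hd => ?_
  show ((toUnit A ≫ d) * (𝟙 A)⁻¹).left.base (P K A x) ∈ D
  rw [hMP, ← hx]
  show (𝟙 A * (toUnit A ≫ x)).left.base (P K A (d * x⁻¹)) ∈ D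
  rw [hTP, inv_mul_cancel_right]
  exact hd

end Groth.Agent.H1.AbStab
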