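import Mathlib
import Groth.Prelude.Def_AlgGrp
import Groth.Agent.Lib.Helper9.AlgGrpAct

/-!
# Descending an action to the quotient by its kernel (helper1)
-/

set_option autoImplicit false

universe u

open CategoryTheory Limits MonoidalCategory CartesianMonoidalCategory MonObj AlgebraicGeometry

namespace Groth.Agent.H1.ActQuot

open Groth.Agent.H9.AlgGrpAct

variable {S : Scheme.{u}}

lemma ker_comp_eq_one {N G Q : Over S} [GrpObj Q] {i : N ⟶ G} {q : G ⟶ Q}
    (hk : AlgGrp.IsKernel i q) : i ≫ q = 1 := by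
  rw [hk.w, Hom.one_def]

lemma ker_exists_lift {N G Q : Over S} [GrpObj Q] {i : N ⟶ G} {q : G ⟶ Q}
    (hk : AlgGrp.IsKernel i q) {T : Over S} (x : T ⟶ G) (hx : x ≫ q = 1) :
    ∃ y : T ⟶ N, y ≫ i = x :=
  ⟨hk.lift x (toUnit T) (by rw [hx, Hom.one_def]), hk.lift_fst _ _ _⟩

/-- whiskering on the right is a base change along the first projection -/
lemma isPullback_whiskerRight (M : Over S) {Z X : Over S} (z : Z ⟶ X) :
    IsPullback (z ▷ M).left (fst Z M).left (fst X M).left z.left := by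
  have hw₁ : (z ▷ M).left ≫ (fst X M).left = (fst Z M).left ≫ z.left := by
    rw [← Over.comp_left, ← Over.comp_left, whiskerRight_fst]
  have h0 : IsPullback (fst X M).left (snd X M).left X.hom M.hom :=
    IsPullback.of_hasPullback X.hom M.hom
  have hright : IsPullback (snd X M).left (fst X M).left M.hom X.hom := h0.flip
  have h0' : IsPullback (fst Z M).left (snd Z M).left Z.hom M.hom :=
    IsPullback.of_hasPullback Z.hom M.hom
  have houter : IsPullback ((z ▷ M).left ≫ (snd X M).left) (fst Z M).left M.hom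
      (z.left ≫ X.hom) := by
    have h1 : (z ▷ M).left ≫ (snd X M).left = (snd Z M).left := by
      rw [← Over.comp_left, whiskerRight_snd]
    rw [h1, Over.w z]
    exact h0'.flip
  exact IsPullback.of_right houter hw₁ hright

lemma fsq_whiskerRight (M : Over S) {Z X : Over S} (z : Z ⟶ X) [Flat z.left] [Surjective z.left]
    [QuasiCompact z.left] :
    Flat (z ▷ M).left ∧ Surjective (z ▷ M).left ∧ QuasiCompact (z ▷ M).left :=
  ⟨MorphismProperty.of_isPullback (P := @Flat) (isPullback_whiskerRight M z).flip inferInstance,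
   MorphismProperty.of_isPullback (P := @Surjective) (isPullback_whiskerRight M z).flip
    inferInstance,
   MorphismProperty.of_isPullback (P := @QuasiCompact) (isPullback_whiskerRight M z).flip
    inferInstance⟩

lemma fsq_whiskerLeft (M : Over S) {Z X : Over S} (z : Z ⟶ X) [Flat z.left] [Surjective z.left]
    [QuasiCompact z.left] :
    Flat (M ◁ z).left ∧ Surjective (M ◁ z).left ∧ QuasiCompact (M ◁ z).left :=
  ⟨MorphismProperty.of_isPullback (P := @Flat) (isPullback_whiskerLeft M z).flip inferInstance,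
   MorphismProperty.of_isPullback (P := @Surjective) (isPullback_whiskerLeft M z).flip
    inferInstance,
   MorphismProperty.of_isPullback (P := @QuasiCompact) (isPullback_whiskerLeft M z).flip
    inferInstance⟩

lemma epi_of_fsq {Z X : Over S} (z : Z ⟶ X) [Flat z.left] [Surjective z.left]
    [QuasiCompact z.left] : Epi z := by
  have h : Epi ((Over.forget S).map z) := by
    change Epi z.left
    infer_instance
  exact (Over.forget S).epi_of_epi_map h

lemma action_ext {G X : Over S} [GrpObj G] (b₁ b₂ : AlgGrp.Action G X) (h : b₁.act = b₂.act) :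
    b₁ = b₂ := by
  obtain ⟨a1, h1, h2⟩ := b₁
  obtain ⟨a2, h3, h4⟩ := b₂
  change a1 = a2 at h
  subst h
  rfl

section Desc

variable {G Q X : Over S} [GrpObj G] [GrpObj Q] (π : G ⟶ Q) [IsMonHom π] [Flat π.left]
  [Surjective π.left] [QuasiCompact π.left] (a : AlgGrp.Action G X)

include π a in
theorem exists_desc
    (hcoeq : ∀ (T : Over S) (g₁ g₂ : T ⟶ G) (x : T ⟶ X), g₁ ≫ π = g₂ ≫ π →
      lift g₁ x ≫ a.act = lift g₂ x ≫ a.act) :
    ∃ β : Q ⊗ X ⟶ X, (π ▷ X) ≫ β = a.act := by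
  obtain ⟨_, _, _⟩ := fsq_whiskerRight X π
  have hdesc : ∀ {Z : Scheme.{u}} (g₁ g₂ : Z ⟶ (G ⊗ X).left),
      g₁ ≫ (π ▷ X).left = g₂ ≫ (π ▷ X).left → g₁ ≫ a.act.left = g₂ ≫ a.act.left := by
    intro Z g₁ g₂ h
    have hw : g₂ ≫ (G ⊗ X).hom = g₁ ≫ (G ⊗ X).hom := by
      calc g₂ ≫ (G ⊗ X).hom = (g₂ ≫ (π ▷ X).left) ≫ (Q ⊗ X).hom := by
            rw [Category.assoc, Over.w (π ▷ X)]
        _ = (g₁ ≫ (π ▷ X).left) ≫ (Q ⊗ X).hom := by rw [h]
        _ = g₁ ≫ (G ⊗ X).hom := by rw [Category.assoc, Over.w (π ▷ X)]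
    obtain ⟨T, hT⟩ : ∃ T : Over S, T = Over.mk (g₁ ≫ (G ⊗ X).hom) := ⟨_, rfl⟩
    obtain ⟨t₁, ht₁⟩ : ∃ t : Over.mk (g₁ ≫ (G ⊗ X).hom) ⟶ G ⊗ X, t.left = g₁ :=
      ⟨Over.homMk g₁ rfl, rfl⟩
    obtain ⟨t₂, ht₂⟩ : ∃ t : Over.mk (g₁ ≫ (G ⊗ X).hom) ⟶ G ⊗ X, t.left = g₂ :=
      ⟨Over.homMk g₂ hw, rfl⟩
    have ht : t₁ ≫ (π ▷ X) = t₂ ≫ (π ▷ X) := by
      apply Over.OverMorphism.ext
      rw [Over.comp_left, Over.comp_left, ht₁, ht₂]
      exact h
    have h1 : (t₁ ≫ fst G X) ≫ π = (t₂ ≫ fst G X) ≫ π := by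
      have := congrArg (· ≫ fst Q X) ht
      simpa only [Category.assoc, whiskerRight_fst] using this
    have h2 : t₁ ≫ snd G X = t₂ ≫ snd G X := by
      have := congrArg (· ≫ snd Q X) ht
      simpa only [Category.assoc, whiskerRight_snd] using this
    have h3 := hcoeq _ _ _ (t₁ ≫ snd G X) h1
    rw [lift_comp_fst_snd, h2, lift_comp_fst_snd] at h3
    have h4 := congrArg (fun f => f.left) h3
    simp only [Over.comp_left, ht₁, ht₂] at h4
    exact h4
  haveI : EffectiveEpi (π ▷ X).left := inferInstance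
  have hβ₀ : (π ▷ X).left ≫ EffectiveEpi.desc (π ▷ X).left a.act.left hdesc = a.act.left :=
    EffectiveEpi.fac _ _ _
  have hwβ : EffectiveEpi.desc (π ▷ X).left a.act.left hdesc ≫ X.hom = (Q ⊗ X).hom := by
    rw [← cancel_epi (π ▷ X).left, ← Category.assoc, hβ₀, Over.w a.act, Over.w (π ▷ X)]
  refine ⟨Over.homMk (EffectiveEpi.desc (π ▷ X).left a.act.left hdesc) hwβ, ?_⟩
  apply Over.OverMorphism.ext
  rw [Over.comp_left]
  exact hβ₀

variable (β : Q ⊗ X ⟶ X) (hβ : (π ▷ X) ≫ β = a.act)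

include hβ in
theorem key_pt {T : Over S} (g : T ⟶ G) (x : T ⟶ X) :
    lift (g ≫ π) x ≫ β = lift g x ≫ a.act := by
  rw [← hβ, ← Category.assoc, lift_whiskerRight]

include hβ in
theorem one_act_desc : (η[Q] ▷ X) ≫ β = (λ_ X).hom := by
  have h1 : η[Q] = η[G] ≫ π := (IsMonHom.one_hom (f := π)).symm
  rw [h1, comp_whiskerRight, Category.assoc, hβ, a.one_act]

include hβ in
theorem mul_act_desc : (μ[Q] ▷ X) ≫ β = (α_ Q Q X).hom ≫ (Q ◁ β) ≫ β := by
  haveI e1 : Epi ((π ▷ G) ▷ X) := by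
    obtain ⟨_, _, _⟩ := fsq_whiskerRight G π
    obtain ⟨_, _, _⟩ := fsq_whiskerRight X (π ▷ G)
    exact epi_of_fsq _
  haveI e2 : Epi ((Q ◁ π) ▷ X) := by
    obtain ⟨_, _, _⟩ := fsq_whiskerLeft Q π
    obtain ⟨_, _, _⟩ := fsq_whiskerRight X (Q ◁ π)
    exact epi_of_fsq _
  haveI : Epi ((π ⊗ₘ π) ▷ X) := by
    rw [MonoidalCategory.tensorHom_def, MonoidalCategory.comp_whiskerRight]
    infer_instance
  have hL : ((π ⊗ₘ π) ▷ X) ≫ (μ[Q] ▷ X) ≫ β = (μ[G] ▷ X) ≫ a.act := by
    rw [← comp_whiskerRight_assoc, ← IsMonHom.mul_hom, comp_whiskerRight_assoc, hβ]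
  have hR : ((π ⊗ₘ π) ▷ X) ≫ (α_ Q Q X).hom ≫ (Q ◁ β) ≫ β =
      (α_ G G X).hom ≫ (G ◁ a.act) ≫ a.act := by
    rw [← MonoidalCategory.tensorHom_id, MonoidalCategory.associator_naturality_assoc, MonoidalCategory.tensorHom_comp_whiskerLeft_assoc,
      MonoidalCategory.tensorHom_id, hβ, MonoidalCategory.tensorHom_def', Category.assoc, hβ]
  rw [← cancel_epi ((π ⊗ₘ π) ▷ X), hL, hR, a.mul_act]

end Desc

theorem main (k : Type u) [Field k] (G N Q X : Over (Spec (CommRingCat.of k))) [GrpObj G]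
    [QuasiCompact G.hom] (a : AlgGrp.Action G X) (n : N ⟶ G)
    (hN : ∀ (T : Over (Spec (CommRingCat.of k))) (g : T ⟶ G),
      (∃ m : T ⟶ N, m ≫ n = g) ↔
        ∀ (T' : Over (Spec (CommRingCat.of k))) (s : T' ⟶ T) (x : T' ⟶ X),
          lift (s ≫ g) x ≫ a.act = x)
    [GrpObj Q] [LocallyOfFiniteType Q.hom] (π : G ⟶ Q) [IsMonHom π] [Flat π.left]
    [Surjective π.left] (hker : AlgGrp.IsKernel n π) :
    (∃! b : AlgGrp.Action Q X, (π ▷ X) ≫ b.act = a.act) ∧
    ∀ b : AlgGrp.Action Q X, (π ▷ X) ≫ b.act = a.act →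
      (∀ (T : Over (Spec (CommRingCat.of k))) (q : T ⟶ Q),
        (∀ (T' : Over (Spec (CommRingCat.of k))) (s : T' ⟶ T) (x : T' ⟶ X),
          lift (s ≫ q) x ≫ b.act = x) → q = 1) ∧
      (Surjective (lift (snd G X) a.act).left ↔ Surjective (lift (snd Q X) b.act).left) ∧
      (IsDominant (lift (snd G X) a.act).left ↔ IsDominant (lift (snd Q X) b.act).left) := by
  haveI : IsLocallyNoetherian Q.left := LocallyOfFiniteType.isLocallyNoetherian Q.hom
  haveI : QuasiSeparated Q.hom := inferInstance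
  haveI : QuasiCompact π.left := by
    haveI : QuasiCompact (π.left ≫ Q.hom) := by rw [Over.w π]; infer_instance
    exact QuasiCompact.of_comp π.left Q.hom
  have hcoeq : ∀ (T : Over (Spec (CommRingCat.of k))) (g₁ g₂ : T ⟶ G) (x : T ⟶ X),
      g₁ ≫ π = g₂ ≫ π → lift g₁ x ≫ a.act = lift g₂ x ≫ a.act := by
    intro T g₁ g₂ x h
    have h1 : (g₁ * g₂⁻¹) ≫ π = 1 := by
      rw [MonObj.mul_comp, GrpObj.inv_comp, h, mul_inv_cancel]
    obtain ⟨m, hm⟩ := ker_exists_lift hker _ h1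
    have h2 := (hN T (g₁ * g₂⁻¹)).mp ⟨m, hm⟩ T (𝟙 T) (lift g₂ x ≫ a.act)
    rw [Category.id_comp, ← lift_mul_act, inv_mul_cancel_right] at h2
    exact h2
  obtain ⟨hfl, hsurj, hqc⟩ := fsq_whiskerRight X π
  haveI : Epi (π ▷ X) := epi_of_fsq _
  obtain ⟨β, hβ⟩ := exists_desc π a hcoeq
  refine ⟨⟨⟨β, one_act_desc π a β hβ, mul_act_desc π a β hβ⟩, hβ, ?_⟩, ?_⟩
  · intro b' hb'
    apply action_ext
    change b'.act = β
    rw [← cancel_epi (π ▷ X), hb', hβ]
  · intro b hb
    refine ⟨?_, ?_, ?_⟩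
    · intro T q hq
      obtain ⟨P, s, g, hsg, hpb⟩ : ∃ (P : Over (Spec (CommRingCat.of k))) (s : P ⟶ T)
          (g : P ⟶ G), s ≫ q = g ≫ π ∧ IsPullback s g q π :=
        ⟨_, _, _, pullback.condition, IsPullback.of_hasPullback q π⟩
      have hpb' : IsPullback s.left g.left q.left π.left :=
        IsPullback.map (Over.forget _) hpb
      haveI : Flat s.left := MorphismProperty.of_isPullback (P := @Flat) hpb'.flip inferInstance
      haveI : Surjective s.left :=
        MorphismProperty.of_isPullback (P := @Surjective) hpb'.flip inferInstance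
      haveI : QuasiCompact s.left :=
        MorphismProperty.of_isPullback (P := @QuasiCompact) hpb'.flip inferInstance
      haveI : Epi s := epi_of_fsq s
      have hg : ∀ (T' : Over (Spec (CommRingCat.of k))) (s' : T' ⟶ P) (x : T' ⟶ X),
          lift (s' ≫ g) x ≫ a.act = x := by
        intro T' s' x
        rw [← key_pt π a b.act hb, Category.assoc, ← hsg, ← Category.assoc]
        exact hq T' (s' ≫ s) x
      obtain ⟨m, hm⟩ := (hN P g).mpr hg
      have h1 : g ≫ π = 1 := by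
        rw [← hm, Category.assoc, ker_comp_eq_one hker, MonObj.comp_one]
      rw [← cancel_epi s, hsg, h1, MonObj.comp_one]
    · have hΨ : (π ▷ X) ≫ lift (snd Q X) b.act = lift (snd G X) a.act := by
        apply CartesianMonoidalCategory.hom_ext
        · rw [Category.assoc, lift_fst, lift_fst, whiskerRight_snd]
        · rw [Category.assoc, lift_snd, lift_snd, hb]
      have hΨ' : (π ▷ X).left ≫ (lift (snd Q X) b.act).left = (lift (snd G X) a.act).left := by
        rw [← Over.comp_left, hΨ]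
      rw [← hΨ']
      exact Surjective.comp_iff _ _
    · have hΨ : (π ▷ X) ≫ lift (snd Q X) b.act = lift (snd G X) a.act := by
        apply CartesianMonoidalCategory.hom_ext
        · rw [Category.assoc, lift_fst, lift_fst, whiskerRight_snd]
        · rw [Category.assoc, lift_snd, lift_snd, hb]
      have hΨ' : (π ▷ X).left ≫ (lift (snd Q X) b.act).left = (lift (snd G X) a.act).left := by
        rw [← Over.comp_left, hΨ]
      rw [← hΨ']
      exact IsDominant.comp_iff _ _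

end Groth.Agent.H1.ActQuot
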