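import Mathlib

/-! Near a point of codimension `≤ 1` of a Noetherian affine scheme, every closed subset is cut out
set-theoretically by one equation. -/

universe u

namespace Groth.Agent.H1.AffNbhd

variable {R : Type u} [CommRing R]

/-- a prime strictly below a prime of height `≤ 1` is a minimal prime -/
theorem mem_minimalPrimes_of_lt {p r : Ideal R} [p.IsPrime] [r.IsPrime] (hp : p.height ≤ 1)
    (hr : r < p) : r ∈ minimalPrimes R := by
  rw [← Ideal.height_eq_zero_iff]
  have h1 := Ideal.height_add_one_le_of_lt_of_isPrime hr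
  have h2 : r.height + 1 ≤ 1 := h1.trans hp
  generalize r.height = n at h2
  induction n using ENat.recTopCoe with
  | top => simp at h2
  | coe n =>
    have : n + 1 ≤ 1 := by exact_mod_cast h2
    have : n = 0 := by omega
    subst this; rfl

/-- spreading out: avoid the minimal primes over `J` not contained in `p` -/
theorem exists_notMem_forall_le [IsNoetherianRing R] (J : Ideal R) (p : Ideal R) [p.IsPrime] :
    ∃ f : R, f ∉ p ∧ ∀ r' : Ideal R, r'.IsPrime → f ∉ r' → J ≤ r' →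
      ∃ r : Ideal R, r.IsPrime ∧ J ≤ r ∧ r ≤ r' ∧ r ≤ p := by
  classical
  have hfin : J.minimalPrimes.Finite := Ideal.finite_minimalPrimes_of_isNoetherianRing R J
  let s : Finset (Ideal R) := hfin.toFinset.filter (fun r => ¬ r ≤ p)
  have hnot : ¬ s.inf id ≤ p := by
    intro hle
    obtain ⟨r, hr, hrp⟩ := (Ideal.IsPrime.inf_le' ‹p.IsPrime›).mp hle
    rw [Finset.mem_filter] at hr
    exact hr.2 hrp
  obtain ⟨f, hf, hfp⟩ := Set.not_subset.mp hnot
  refine ⟨f, hfp, fun r' hr' hfr' hJ => ?_⟩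
  obtain ⟨r, hr, hrr'⟩ := Ideal.exists_minimalPrimes_le hJ
  refine ⟨r, hr.1.1, hr.1.2, hrr', ?_⟩
  by_contra hrp
  apply hfr'
  apply hrr'
  have : r ∈ s := by
    rw [Finset.mem_filter]
    exact ⟨hfin.mem_toFinset.mpr hr, hrp⟩
  exact (Finset.inf_le this : s.inf id ≤ id r) hf

/-- Main algebraic lemma. -/
theorem exists_principal_near [IsNoetherianRing R] (p : Ideal R) [p.IsPrime] (hp : p.height ≤ 1)
    (I : Ideal R) :
    ∃ f h : R, f ∉ p ∧ ∀ r : Ideal R, r.IsPrime → f ∉ r → (I ≤ r ↔ h ∈ r) := by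
  classical
  by_cases hIp : I ≤ p
  swap
  · obtain ⟨a, haI, hap⟩ := Set.not_subset.mp hIp
    refine ⟨a, 1, hap, fun r hr har => ?_⟩
    constructor
    · intro hIr
      exact absurd (hIr haI) har
    · intro h1
      exact absurd h1 (fun h => hr.ne_top ((Ideal.eq_top_iff_one _).mpr h))
  have hfin : (minimalPrimes R).Finite := minimalPrimes.finite_of_isNoetherianRing R
  let S : Finset (Ideal R) := hfin.toFinset.filter (fun q => q ≤ p ∧ I ≤ q)
  let S' : Finset (Ideal R) := hfin.toFinset.filter (fun q => q ≤ p ∧ ¬ I ≤ q)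
  let K : Ideal R := p ⊓ S.inf id
  have hprime : ∀ q ∈ S', q.IsPrime := by
    intro q hq
    rw [Finset.mem_filter] at hq
    exact (hfin.mem_toFinset.mp hq.1).1.1
  have hK : ¬ ((K : Set R) ⊆ ⋃ q ∈ (↑S' : Set (Ideal R)), (id q : Ideal R)) := by
    intro hsub
    rw [Ideal.subset_union_prime (R := R) (s := S') (f := id) p p
      (fun q hq _ _ => hprime q hq)] at hsub
    obtain ⟨q, hq, hKq⟩ := hsub
    have hq' := hq
    rw [Finset.mem_filter] at hq'
    obtain ⟨hqm, hqp, hIq⟩ := hq'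
    have hqmin := hfin.mem_toFinset.mp hqm
    haveI := hprime q hq
    rcases (Ideal.IsPrime.inf_le ‹q.IsPrime›).mp hKq with h1 | h1
    · have : q = p := le_antisymm hqp h1
      exact hIq (this ▸ hIp)
    · obtain ⟨q', hq'S, hq'q⟩ := (Ideal.IsPrime.inf_le' ‹q.IsPrime›).mp h1
      rw [Finset.mem_filter] at hq'S
      have hq'min := hfin.mem_toFinset.mp hq'S.1
      have : q' = q := le_antisymm hq'q (hqmin.2 ⟨hq'min.1.1, bot_le⟩ hq'q)
      exact hIq (this ▸ hq'S.2.2)
  obtain ⟨h, hhK, hh⟩ := Set.not_subset.mp hK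
  have hhS' : ∀ q ∈ S', h ∉ q := by
    intro q hq hhq
    apply hh
    rw [Set.mem_iUnion₂]
    exact ⟨q, hq, hhq⟩
  -- the key equivalence below `p`
  have key : ∀ r : Ideal R, r.IsPrime → r ≤ p → (I ≤ r ↔ h ∈ r) := by
    intro r hr hrp
    by_cases hrp' : r = p
    · subst hrp'
      exact ⟨fun _ => hhK.1, fun _ => hIp⟩
    · have hlt : r < p := lt_of_le_of_ne hrp hrp'
      have hmin := mem_minimalPrimes_of_lt hp hlt
      by_cases hIr : I ≤ r
      · have : r ∈ S := by
          rw [Finset.mem_filter]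
          exact ⟨hfin.mem_toFinset.mpr hmin, hrp, hIr⟩
        exact ⟨fun _ => (Finset.inf_le this : S.inf id ≤ id r) hhK.2, fun _ => hIr⟩
      · have : r ∈ S' := by
          rw [Finset.mem_filter]
          exact ⟨hfin.mem_toFinset.mpr hmin, hrp, hIr⟩
        exact ⟨fun h1 => absurd h1 hIr, fun h1 => absurd h1 (hhS' r this)⟩
  obtain ⟨f₁, hf₁p, hf₁⟩ := exists_notMem_forall_le I p
  obtain ⟨f₂, hf₂p, hf₂⟩ := exists_notMem_forall_le (Ideal.span {h}) p
  refine ⟨f₁ * f₂, h, fun hmem => ?_, fun r' hr' hfr' => ?_⟩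
  · rcases (‹p.IsPrime›.mem_or_mem hmem) with h1 | h1
    · exact hf₁p h1
    · exact hf₂p h1
  · have h1 : f₁ ∉ r' := fun hh1 => hfr' (Ideal.mul_mem_right _ _ hh1)
    have h2 : f₂ ∉ r' := fun hh2 => hfr' (Ideal.mul_mem_left _ _ hh2)
    constructor
    · intro hIr'
      obtain ⟨r, hr, hIr, hrr', hrp⟩ := hf₁ r' hr' h1 hIr'
      exact hrr' ((key r hr hrp).mp hIr)
    · intro hhr'
      have : Ideal.span {h} ≤ r' := by
        rw [Ideal.span_singleton_le_iff_mem]; exact hhr'
      obtain ⟨r, hr, hhr, hrr', hrp⟩ := hf₂ r' hr' h2 this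
      have hhr2 : h ∈ r := hhr (Ideal.subset_span rfl)
      exact ((key r hr hrp).mpr hhr2).trans hrr'

end Groth.Agent.H1.AffNbhd
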