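import Mathlib
import Groth.Agent.Lib.Helper1.Depth2Ext2
import Groth.Agent.Lib.Helper1.AffNbhd
import Groth.Agent.Lib.Helper6.SemiLin

/-! Extending rational maps to affine targets across loci of depth `≥ 2`. -/

universe u
set_option linter.style.haveILetI false
open CategoryTheory AlgebraicGeometry TopologicalSpace Opposite

namespace Groth.Agent.H1.RatExt

variable {X : Scheme.{u}} [IsLocallyNoetherian X]

/-- Around a maximal point `ξ` of the complement of an open `D`, the complement of `D` is contained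
in the closure of `ξ`. -/
theorem exists_nbhd_specializes (D : X.Opens) (ξ : X) (hξ : ξ ∉ D)
    (hmax : ∀ η : X, η ∉ D → η ⤳ ξ → η = ξ) :
    ∃ W : X.Opens, ξ ∈ W ∧ ∀ z : X, z ∈ W → z ∉ D → ξ ⤳ z := by
  obtain ⟨_, ⟨V, hV, rfl⟩, hxV, -⟩ := X.isBasis_affineOpens.exists_subset_of_mem_open
    (Set.mem_univ ξ) isOpen_univ
  have hV : IsAffineOpen V := hV
  have hxV : ξ ∈ V := hxV
  haveI : IsNoetherianRing Γ(X, V) := IsLocallyNoetherian.component_noetherian ⟨V, hV⟩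
  have hmem : ∀ (y : X) (hy : y ∈ V) (g : Γ(X, V)),
      g ∈ (hV.primeIdealOf ⟨y, hy⟩).asIdeal ↔ y ∉ X.basicOpen g := by
    intro y hy g
    have hfp : hV.fromSpec (hV.primeIdealOf ⟨y, hy⟩) = y := hV.fromSpec_primeIdealOf ⟨y, hy⟩
    have h2 : hV.primeIdealOf ⟨y, hy⟩ ∈ (hV.fromSpec ⁻¹ᵁ X.basicOpen g : (Spec Γ(X, V)).Opens) ↔
        y ∈ X.basicOpen g := by
      change hV.fromSpec (hV.primeIdealOf ⟨y, hy⟩) ∈ X.basicOpen g ↔ _
      rw [hfp]
    rw [← h2, hV.fromSpec_preimage_basicOpen]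
    change _ ↔ ¬ (g ∉ (hV.primeIdealOf ⟨y, hy⟩).asIdeal)
    rw [not_not]
  let T : Set (PrimeSpectrum Γ(X, V)) := {z | hV.fromSpec z ∉ D}
  have hT : IsClosed T := by
    have : IsOpen {z : PrimeSpectrum Γ(X, V) | hV.fromSpec z ∈ D} :=
      (hV.fromSpec ⁻¹ᵁ D).isOpen
    exact this.isClosed_compl
  have hI : ∀ z : PrimeSpectrum Γ(X, V), PrimeSpectrum.vanishingIdeal T ≤ z.asIdeal ↔
      hV.fromSpec z ∉ D := by
    intro z
    have h1 : z ∈ PrimeSpectrum.zeroLocus (PrimeSpectrum.vanishingIdeal T : Set Γ(X, V)) ↔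
        PrimeSpectrum.vanishingIdeal T ≤ z.asIdeal := by
      rw [PrimeSpectrum.mem_zeroLocus]; rfl
    rw [← h1, PrimeSpectrum.zeroLocus_vanishingIdeal_eq_closure, hT.closure_eq]
    rfl
  -- minimality of the prime of `ξ`
  have hmin : ∀ r : PrimeSpectrum Γ(X, V), PrimeSpectrum.vanishingIdeal T ≤ r.asIdeal →
      r.asIdeal ≤ (hV.primeIdealOf ⟨ξ, hxV⟩).asIdeal → r = hV.primeIdealOf ⟨ξ, hxV⟩ := by
    intro r hIr hrp
    have h1 : hV.fromSpec r ∉ D := (hI r).mp hIr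
    have h2 : r ⤳ hV.primeIdealOf ⟨ξ, hxV⟩ := (PrimeSpectrum.le_iff_specializes _ _).mp hrp
    have h3 : hV.fromSpec r ⤳ hV.fromSpec (hV.primeIdealOf ⟨ξ, hxV⟩) :=
      h2.map hV.fromSpec.continuous
    rw [hV.fromSpec_primeIdealOf ⟨ξ, hxV⟩] at h3
    have h4 := hmax _ h1 h3
    have hinj : Function.Injective hV.fromSpec := (Scheme.Hom.isEmbedding hV.fromSpec).injective
    apply hinj
    rw [h4, hV.fromSpec_primeIdealOf ⟨ξ, hxV⟩]
  obtain ⟨f, hfp, key⟩ := AffNbhd.exists_notMem_forall_le (PrimeSpectrum.vanishingIdeal T)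
    (hV.primeIdealOf ⟨ξ, hxV⟩).asIdeal
  refine ⟨X.basicOpen f, ?_, ?_⟩
  · by_contra hc
    exact hfp ((hmem ξ hxV f).mpr hc)
  · intro z hzW hzD
    have hzV : z ∈ V := X.basicOpen_le f hzW
    have h1 : f ∉ (hV.primeIdealOf ⟨z, hzV⟩).asIdeal := fun hc => (hmem z hzV f).mp hc hzW
    have h2 : PrimeSpectrum.vanishingIdeal T ≤ (hV.primeIdealOf ⟨z, hzV⟩).asIdeal := by
      apply (hI _).mpr
      rw [hV.fromSpec_primeIdealOf ⟨z, hzV⟩]
      exact hzD
    obtain ⟨r, hr, hIr, hrz, hrp⟩ := key _ (hV.primeIdealOf ⟨z, hzV⟩).isPrime h1 h2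
    have h3 := hmin ⟨r, hr⟩ hIr hrp
    have h4 : (hV.primeIdealOf ⟨ξ, hxV⟩).asIdeal ≤ (hV.primeIdealOf ⟨z, hzV⟩).asIdeal := by
      rw [← h3]; exact hrz
    have h5 : hV.primeIdealOf ⟨ξ, hxV⟩ ⤳ hV.primeIdealOf ⟨z, hzV⟩ :=
      (PrimeSpectrum.le_iff_specializes _ _).mp h4
    have h6 := h5.map hV.fromSpec.continuous
    rw [hV.fromSpec_primeIdealOf ⟨ξ, hxV⟩, hV.fromSpec_primeIdealOf ⟨z, hzV⟩] at h6
    exact h6


/-- depth of the local ring of an open subscheme -/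
theorem depth_stalk_opens (O : X.Opens) (z : (O : Scheme.{u})) :
    LocCoh.depth ((O : Scheme.{u}).presheaf.stalk z) ((O : Scheme.{u}).presheaf.stalk z) =
      LocCoh.depth (X.presheaf.stalk (O.ι z)) (X.presheaf.stalk (O.ι z)) := by
  let σ : X.presheaf.stalk (O.ι z) ≃+* (O : Scheme.{u}).presheaf.stalk z :=
    (asIso (O.ι.stalkMap z)).commRingCatIsoToRingEquiv
  exact ((Groth.Agent.H6.SemiLin.depth_and_dim_eq σ σ.toAddEquiv
    (fun r m => map_mul σ r m)).1).symm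

/-- A partial map to an affine scheme extends over any open `O` containing its domain such that
`O_X` has depth `≥ 2` at all points of `O` outside the domain. -/
theorem exists_partialMap_extension (Y : Scheme.{u}) [IsAffine Y] (P : X.PartialMap Y)
    (O : X.Opens) (hDO : P.domain ≤ O)
    (h : ∀ z : X, z ∈ O → z ∉ P.domain →
      (2 : ℕ∞) ≤ LocCoh.depth (X.presheaf.stalk z) (X.presheaf.stalk z)) :
    ∃ P' : X.PartialMap Y, P'.domain = O ∧ P'.toRationalMap = P.toRationalMap := by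
  have h' : ∀ z : (O : Scheme.{u}), z ∉ O.ι ⁻¹ᵁ P.domain →
      (2 : ℕ∞) ≤ LocCoh.depth ((O : Scheme.{u}).presheaf.stalk z)
        ((O : Scheme.{u}).presheaf.stalk z) := by
    intro z hz
    rw [depth_stalk_opens]
    exact h _ z.2 hz
  obtain ⟨g, hg, -⟩ := Depth2Ext.existsUnique_extension (X := (O : Scheme.{u}))
    (O.ι ⁻¹ᵁ P.domain) h' Y ((O.ι ∣_ P.domain) ≫ P.hom)
  refine ⟨⟨O, P.dense_domain.mono hDO, g⟩, rfl, ?_⟩
  rw [Scheme.PartialMap.toRationalMap_eq_iff]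
  refine ⟨P.domain, P.dense_domain, hDO, le_rfl, ?_⟩
  simp only [Scheme.PartialMap.restrict_hom]
  have hrange : Set.range (X.homOfLE hDO) ⊆ Set.range (O.ι ⁻¹ᵁ P.domain).ι := by
    rintro _ ⟨d, rfl⟩
    rw [Scheme.Opens.range_ι]
    change O.ι (X.homOfLE hDO d) ∈ P.domain
    have : O.ι (X.homOfLE hDO d) = P.domain.ι d := by
      rw [← Scheme.Hom.comp_apply, Scheme.homOfLE_ι]
    rw [this]
    exact d.2
  let k : (P.domain : Scheme.{u}) ⟶ (O.ι ⁻¹ᵁ P.domain : Scheme.{u}) :=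
    IsOpenImmersion.lift (O.ι ⁻¹ᵁ P.domain).ι (X.homOfLE hDO) hrange
  have hk : k ≫ (O.ι ⁻¹ᵁ P.domain).ι = X.homOfLE hDO := IsOpenImmersion.lift_fac _ _ _
  have hk2 : k ≫ (O.ι ∣_ P.domain) = 𝟙 _ := by
    rw [← cancel_mono P.domain.ι, Category.assoc, morphismRestrict_ι, ← Category.assoc, hk,
      Scheme.homOfLE_ι, Category.id_comp]
  rw [← hk, Category.assoc, hg, ← Category.assoc, hk2, Category.id_comp]
  simp

end Groth.Agent.H1.RatExt
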