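import Mathlib
import Groth.Agent.Lib.Helper1.Depth2Ext2
import Groth.Agent.Lib.Helper1.RatExt
import Groth.Agent.Lib.Helper5.AlgSp.SchDenseQC

/-! Extension of sections of affine morphisms across closed subsets along which the depth is at
least two. -/

universe u
set_option backward.isDefEq.respectTransparency.types false
set_option linter.style.haveILetI false
open CategoryTheory CategoryTheory.Limits AlgebraicGeometry TopologicalSpace Opposite

namespace Groth.Agent.H1.AffExt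

set_option backward.isDefEq.respectTransparency false in
/-- two morphisms over a separated morphism which agree on a scheme theoretically dominant
morphism are equal. -/
theorem ext_of_isSchemeTheoreticallyDominant_of_isSeparated {W X Y Z : Scheme.{u}} {f g : X ⟶ Y}
    (s : Y ⟶ Z) [IsSeparated s] (h : f ≫ s = g ≫ s)
    (ι : W ⟶ X) [IsSchemeTheoreticallyDominant ι] (hU : ι ≫ f = ι ≫ g) : f = g := by
  let X' : Over Z := Over.mk (f ≫ s)
  let Y' : Over Z := Over.mk s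
  let U' : Over Z := Over.mk (ι ≫ f ≫ s)
  let f' : X' ⟶ Y' := Over.homMk f
  let g' : X' ⟶ Y' := Over.homMk g
  let ι' : U' ⟶ X' := Over.homMk ι
  have : IsSeparated Y'.hom := ‹_›
  have hfac : (equalizer.lift (f := f') (g := g') ι' (by ext1; exact hU)).left ≫
      (equalizer.ι f' g').left = ι := by
    rw [← Over.comp_left, equalizer.lift_ι]
    rfl
  have hker : (equalizer.ι f' g').left.ker = ⊥ := by
    rw [eq_bot_iff]
    have h1 := Scheme.Hom.le_ker_comp
      (equalizer.lift (f := f') (g := g') ι' (by ext1; exact hU)).left (equalizer.ι f' g').left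
    rw [hfac, IsSchemeTheoreticallyDominant.ker_eq_bot ι] at h1
    exact h1
  have : IsIso (equalizer.ι f' g').left := IsClosedImmersion.isIso_iff_ker_eq_bot.mpr hker
  rw [← cancel_epi (equalizer.ι f' g').left]
  exact congr($(equalizer.condition f' g').left)

section Ext

variable {Y : Scheme.{u}} [IsLocallyNoetherian Y] (W : Y.Opens)
  (hdepth : ∀ y : Y, y ∉ W →
    (2 : ℕ∞) ≤ LocCoh.depth (Y.presheaf.stalk y) (Y.presheaf.stalk y))
  {Z : Scheme.{u}} (p : Z ⟶ Y) [IsAffineHom p] (g : (W : Scheme.{u}) ⟶ Z) (hg : g ≫ p = W.ι)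

include hdepth hg in
theorem exists_local (V : Y.Opens) (hV : IsAffineOpen V) :
    ∃ t : (V : Scheme.{u}) ⟶ Z, t ≫ p = V.ι ∧ (V.ι ⁻¹ᵁ W).ι ≫ t = (V.ι ∣_ W) ≫ g := by
  have hZV : IsAffineOpen (p ⁻¹ᵁ V) := hV.preimage p
  haveI : IsAffine ((p ⁻¹ᵁ V : Z.Opens) : Scheme.{u}) := hZV
  haveI : IsAffine (V : Scheme.{u}) := hV
  have hrange : Set.range ((V.ι ∣_ W) ≫ g).base ⊆ Set.range (p ⁻¹ᵁ V).ι.base := by
    rintro _ ⟨x, rfl⟩
    rw [Scheme.Opens.range_ι]
    change p (((V.ι ∣_ W) ≫ g) x) ∈ V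
    rw [← Scheme.Hom.comp_apply, Category.assoc, hg, morphismRestrict_ι, Scheme.Hom.comp_apply]
    exact (x.1).2
  let gV : ((V.ι ⁻¹ᵁ W : (V : Scheme.{u}).Opens) : Scheme.{u}) ⟶
      ((p ⁻¹ᵁ V : Z.Opens) : Scheme.{u}) :=
    IsOpenImmersion.lift (p ⁻¹ᵁ V).ι ((V.ι ∣_ W) ≫ g) hrange
  have hgV : gV ≫ (p ⁻¹ᵁ V).ι = (V.ι ∣_ W) ≫ g := IsOpenImmersion.lift_fac _ _ _
  have h' : ∀ z : (V : Scheme.{u}), z ∉ V.ι ⁻¹ᵁ W →
      (2 : ℕ∞) ≤ LocCoh.depth ((V : Scheme.{u}).presheaf.stalk z)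
        ((V : Scheme.{u}).presheaf.stalk z) := by
    intro z hz
    rw [Groth.Agent.H1.RatExt.depth_stalk_opens V z]
    exact hdepth _ hz
  obtain ⟨sV, hsV, -⟩ := Groth.Agent.H1.Depth2Ext.existsUnique_extension
    (X := (V : Scheme.{u})) (V.ι ⁻¹ᵁ W) h' ((p ⁻¹ᵁ V : Z.Opens) : Scheme.{u}) gV
  obtain ⟨u, -, huniq⟩ := Groth.Agent.H1.Depth2Ext.existsUnique_extension
    (X := (V : Scheme.{u})) (V.ι ⁻¹ᵁ W) h' (V : Scheme.{u}) (V.ι ⁻¹ᵁ W).ι
  have hsV' : (V.ι ⁻¹ᵁ W).ι ≫ sV = gV := hsV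
  have h1 : sV ≫ (p ∣_ V) = 𝟙 _ := by
    rw [huniq (sV ≫ (p ∣_ V)) ?_, huniq (𝟙 _) (Category.comp_id _)]
    change (V.ι ⁻¹ᵁ W).ι ≫ sV ≫ (p ∣_ V) = (V.ι ⁻¹ᵁ W).ι
    rw [← cancel_mono V.ι, Category.assoc, Category.assoc, morphismRestrict_ι, reassoc_of% hsV',
      reassoc_of% hgV, hg, morphismRestrict_ι]
  refine ⟨sV ≫ (p ⁻¹ᵁ V).ι, ?_, ?_⟩
  · rw [Category.assoc, ← morphismRestrict_ι, reassoc_of% h1]
  · rw [reassoc_of% hsV', hgV]

include hdepth in
theorem isSchemeTheoreticallyDominant_ι : IsSchemeTheoreticallyDominant W.ι :=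
  ⟨Groth.Agent.H5.AlgSp.ker_eq_bot_of_isSchematicallyDense
    (fun V => Groth.Agent.H1.Depth2Ext.res_injective W hdepth V)⟩

include hdepth hg in
/-- a section of an affine morphism over the complement of a closed subset along which the depth
is at least two extends uniquely to a section. -/
theorem exists_section : ∃ s : Y ⟶ Z, s ≫ p = 𝟙 Y ∧ W.ι ≫ s = g := by
  have hloc := fun V : Y.affineOpens => exists_local W hdepth p g hg V.1 V.2
  choose t ht1 ht2 using hloc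
  have key : ∀ (V : Y.affineOpens) {T : Scheme.{u}} (a : T ⟶ (V.1 : Scheme.{u}))
      (b : T ⟶ (W : Scheme.{u})), a ≫ V.1.ι = b ≫ W.ι → a ≫ t V = b ≫ g := by
    intro V T a b hab
    have sq := isPullback_morphismRestrict V.1.ι W
    have h1 : sq.lift b a hab.symm ≫ (V.1.ι ⁻¹ᵁ W).ι = a := sq.lift_snd _ _ _
    have h2 : sq.lift b a hab.symm ≫ (V.1.ι ∣_ W) = b := sq.lift_fst _ _ _
    rw [← h1, Category.assoc, ht2 V, reassoc_of% h2]
  haveI := isSchemeTheoreticallyDominant_ι W hdepth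
  have hcompat : ∀ i j : Y.affineOpens,
      pullback.fst i.1.ι j.1.ι ≫ t i = pullback.snd i.1.ι j.1.ι ≫ t j := by
    intro i j
    have hq : Flat (pullback.fst i.1.ι j.1.ι ≫ i.1.ι) := inferInstance
    refine ext_of_isSchemeTheoreticallyDominant_of_isSeparated p ?_
      (pullback.fst (pullback.fst i.1.ι j.1.ι ≫ i.1.ι) W.ι) ?_
    · rw [Category.assoc, Category.assoc, ht1 i, ht1 j]
      exact pullback.condition
    · rw [← Category.assoc, ← Category.assoc]
      rw [key i (pullback.fst (pullback.fst i.1.ι j.1.ι ≫ i.1.ι) W.ι ≫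
          pullback.fst i.1.ι j.1.ι)
        (pullback.snd (pullback.fst i.1.ι j.1.ι ≫ i.1.ι) W.ι) ?_,
        key j (pullback.fst (pullback.fst i.1.ι j.1.ι ≫ i.1.ι) W.ι ≫
          pullback.snd i.1.ι j.1.ι)
        (pullback.snd (pullback.fst i.1.ι j.1.ι ≫ i.1.ι) W.ι) ?_]
      · rw [Category.assoc]
        have h1 : pullback.snd i.1.ι j.1.ι ≫ j.1.ι = pullback.fst i.1.ι j.1.ι ≫ i.1.ι :=
          pullback.condition.symm
        rw [h1]
        exact pullback.condition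
      · rw [Category.assoc]
        exact pullback.condition
  let 𝒰 : Y.OpenCover := Y.openCoverOfIsOpenCover (fun V : Y.affineOpens => V.1)
    (iSup_affineOpens_eq_top Y)
  refine ⟨𝒰.glueMorphisms t hcompat, ?_, ?_⟩
  · refine Scheme.Cover.hom_ext 𝒰 _ _ fun i => ?_
    rw [Scheme.Cover.ι_glueMorphisms_assoc, Category.comp_id]
    exact ht1 i
  · refine Scheme.Cover.hom_ext (𝒰.pullback₁ W.ι) _ _ fun i => ?_
    change pullback.fst W.ι (𝒰.f i) ≫ W.ι ≫ 𝒰.glueMorphisms t hcompat =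
      pullback.fst W.ι (𝒰.f i) ≫ g
    rw [pullback.condition_assoc, Scheme.Cover.ι_glueMorphisms]
    exact key i _ _ pullback.condition.symm

end Ext

end Groth.Agent.H1.AffExt
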