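import Mathlib
import Groth.Prelude.Def_Wider
import Groth.Agent.Lib.Helper6.LCProps
import Groth.Agent.Lib.Helper6.LCTorsion

/-! The punctured spectrum of a Noetherian local ring is affine iff `dim ≤ 1`: algebraic core. -/

universe u
open CategoryTheory

namespace Groth.Agent.H1.PunctAff

open Groth.Agent.H6 Groth.Agent.H6.LC

section Core

variable {A : Type u} [CommRing A] (I : Ideal A) (B : Type u) [CommRing B] [Algebra A B]

/-- multiplication by `b` as an `A`-linear endomorphism of `B` in `ModuleCat` -/
noncomputable def mulHom (b : B) : ModuleCat.of A B ⟶ ModuleCat.of A B :=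
  ModuleCat.ofHom (LinearMap.mulLeft A b)

/-- If `I B = B` then `H^i_I(B) = 0` for all `i`. -/
theorem subsingleton_H_of_map_eq_top (h : Ideal.map (algebraMap A B) I = ⊤) (i : ℕ) :
    Subsingleton (LocCoh.H I i B) := by
  have h0 : ∀ x : LocCoh.H I i B, x = 0 := by
    intro x
    obtain ⟨n, hn⟩ := isPowerTorsion I i (ModuleCat.of A B) x
    have htop : Ideal.map (algebraMap A B) (I ^ n) = ⊤ := by
      rw [Ideal.map_pow, h, Ideal.top_pow]
    have key : ∀ b : B, b ∈ Ideal.map (algebraMap A B) (I ^ n) →
        ((localCohomology I i).map (mulHom B b)).hom x = 0 := by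
      intro b hb
      refine Submodule.span_induction (p := fun b _ =>
        ((localCohomology I i).map (mulHom B b)).hom x = 0) ?_ ?_ ?_ ?_ hb
      · rintro _ ⟨g, hg, rfl⟩
        have : mulHom (A := A) B (algebraMap A B g) = g • 𝟙 (ModuleCat.of A B) := by
          apply ModuleCat.hom_ext
          apply LinearMap.ext
          intro c
          change algebraMap A B g * c = g • c
          rw [Algebra.smul_def]
        rw [this, map_smul_id]
        exact hn g hg
      · have : mulHom (A := A) B 0 = 0 := by
          apply ModuleCat.hom_ext
          apply LinearMap.ext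
          intro c
          change (0 : B) * c = 0
          rw [zero_mul]
        rw [this, map_zero_hom]
      · intro b c _ _ hb hc
        have : mulHom (A := A) B (b + c) = mulHom B b + mulHom B c := by
          apply ModuleCat.hom_ext
          apply LinearMap.ext
          intro d
          change (b + c) * d = b * d + c * d
          rw [add_mul]
        rw [this, map_add_hom, hb, hc, add_zero]
      · intro c b _ hb
        have : mulHom (A := A) B (c • b) = mulHom B b ≫ mulHom B c := by
          apply ModuleCat.hom_ext
          apply LinearMap.ext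
          intro d
          change (c * b) * d = c * (b * d)
          rw [mul_assoc]
        rw [this, map_comp_hom, hb, map_zero]
    have h1 := key 1 (htop ▸ Submodule.mem_top)
    have : mulHom (A := A) B 1 = 𝟙 _ := by
      apply ModuleCat.hom_ext
      apply LinearMap.ext
      intro d
      change (1 : B) * d = d
      rw [one_mul]
    rw [this, CategoryTheory.Functor.map_id] at h1
    exact h1
  exact ⟨fun a b => by rw [h0 a, h0 b]⟩

/-- If `A → B` has `I`-power torsion kernel and cokernel and `I B = B`, then `H^i_I(A) = 0` for
`i ≥ 2`. -/
theorem subsingleton_H_of_torsion [IsNoetherianRing A]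
    (hker : LinearMap.ker (Algebra.linearMap A B) ≤ DRing.torsionSub I A)
    (hcoker : ∀ x : B ⧸ LinearMap.range (Algebra.linearMap A B),
      x ∈ DRing.torsionSub I (B ⧸ LinearMap.range (Algebra.linearMap A B)))
    (h : Ideal.map (algebraMap A B) I = ⊤) (j : ℕ) :
    Subsingleton (LocCoh.H I (j + 2) A) := by
  have hb := map_bijective_of_torsion I (Algebra.linearMap A B) hker hcoker j
  have := subsingleton_H_of_map_eq_top I B h (j + 2)
  exact hb.injective.subsingleton

end Core

end Groth.Agent.H1.PunctAff
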