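import Mathlib
import Groth.Prelude.Def_FEt
import Groth.Agent.Lib.Helper1.PunctAff
import Groth.Agent.Lib.Helper6.TildePunct2
import Groth.Agent.S0327

/-! The punctured spectrum of a Noetherian local ring is affine iff `dim ≤ 1`: geometry. -/

universe u
open CategoryTheory AlgebraicGeometry TopologicalSpace Opposite
open Groth.Agent.H6 Groth.Agent.H6.TildePunct

namespace Groth.Agent.H1.PunctAff

variable (A : Type u) [CommRing A]

theorem basicOpen_algebraMap (U : (Spec (CommRingCat.of A)).Opens) (a : A) :
    Scheme.basicOpen (Spec (CommRingCat.of A)) (U := U) (algebraMap A (Sec A A (cv U)) a) =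
      U ⊓ PrimeSpectrum.basicOpen a := by
  have : (algebraMap A (Sec A A (cv U)) a : Γ(Spec (CommRingCat.of A), U)) =
      (Spec (CommRingCat.of A)).presheaf.map (homOfLE (le_top : U ≤ ⊤)).op
        ((Scheme.ΓSpecIso (CommRingCat.of A)).inv a) := rfl
  rw [this, Scheme.basicOpen_res, basicOpen_eq_of_affine]

theorem map_eq_top_of_isAffineOpen (I : Ideal A) (U : (Spec (CommRingCat.of A)).Opens)
    (hU : IsAffineOpen U) (hI : IsPunct I (cv U)) :
    Ideal.map (algebraMap A (Sec A A (cv U))) I = ⊤ := by
  have h1 := (hU.iSup_basicOpen_eq_self_iff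
    (s := (algebraMap A (Sec A A (cv U)) '' (I : Set A) : Set (Sec A A (cv U))))).mp ?_
  · exact h1
  · apply le_antisymm
    · refine iSup_le fun f => Scheme.basicOpen_le _ _
    · intro x hx
      have hx' : ¬ I ≤ x.asIdeal := (hI x).mp hx
      obtain ⟨a, haI, hax⟩ := Set.not_subset.mp hx'
      rw [Opens.mem_iSup]
      refine ⟨⟨algebraMap A (Sec A A (cv U)) a, a, haI, rfl⟩, ?_⟩
      rw [basicOpen_algebraMap]
      exact ⟨hx, hax⟩

theorem linearMap_eq (U : (Spec (CommRingCat.of A)).Opens) :
    Algebra.linearMap A (Sec A A (cv U)) = StructureSheaf.toOpenₗ A A (cv U) := by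
  apply LinearMap.ext
  intro a
  rfl

theorem subsingleton_H_of_isAffineOpen [IsNoetherianRing A] (I : Ideal A)
    (U : (Spec (CommRingCat.of A)).Opens)
    (hU : IsAffineOpen U) (hI : IsPunct I (cv U)) (j : ℕ) :
    Subsingleton (LocCoh.H I (j + 2) A) := by
  obtain ⟨fs, hfs⟩ := (isNoetherianRing_iff_ideal_fg A).mp ‹_› I
  refine Groth.Agent.H1.PunctAff.subsingleton_H_of_torsion I (Sec A A (cv U)) ?_ ?_
    (map_eq_top_of_isAffineOpen A I U hU hI) j
  · intro a ha
    have h1 : StructureSheaf.toOpenₗ A A (cv U) a = 0 := ha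
    have h2 : a ∈ LinearMap.ker (StructureSheaf.toOpenₗ A A (cv U)) := h1
    rw [ker_toOpen hI hfs, mem_iSup_torsionBy_iff] at h2
    exact h2
  · intro q
    obtain ⟨s, rfl⟩ := Submodule.Quotient.mk_surjective _ q
    obtain ⟨N, hN⟩ := exists_pow_smul_mem_range hI hfs s
    refine ⟨N, fun c hc => ?_⟩
    obtain ⟨y, hy⟩ := hN c hc
    exact (Submodule.Quotient.mk_eq_zero _ (x := c • s)).mpr ⟨y, hy⟩

theorem two_le_dim_of_chain {a b c : PrimeSpectrum A} (hab : a < b) (hbc : b < c) :
    (2 : WithBot ℕ∞) ≤ ringKrullDim A := by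
  let s : LTSeries (PrimeSpectrum A) :=
    ((RelSeries.singleton _ c).cons b (by exact hbc)).cons a (by exact hab)
  have := Order.LTSeries.length_le_krullDim s
  exact this

theorem isAffineOpen_basicOpen (f : A) :
    IsAffineOpen (X := Spec (CommRingCat.of A)) (PrimeSpectrum.basicOpen f) := by
  have := basicOpen_eq_of_affine (R := CommRingCat.of A) f
  rw [← this]
  exact (isAffineOpen_top _).basicOpen _

theorem isAffine_puncturedSpec_of_dim_le_one [IsLocalRing A] [IsNoetherianRing A]
    (h : ringKrullDim A ≤ 1) : IsAffineOpen (FEt.puncturedSpec A) := by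
  classical
  by_cases hm : IsLocalRing.maximalIdeal A ∈ minimalPrimes A
  · have : FEt.puncturedSpec A = ⊥ := by
      rw [eq_bot_iff]
      intro x hx
      exfalso
      apply hx
      have h1 : x.asIdeal ≤ IsLocalRing.maximalIdeal A := IsLocalRing.le_maximalIdeal x.2.ne_top
      have h2 := hm.2 ⟨x.2, bot_le⟩ h1
      exact PrimeSpectrum.ext (le_antisymm h1 h2)
    rw [this]
    exact isAffineOpen_bot _
  · have hfin := minimalPrimes.finite_of_isNoetherianRing A
    have hnot : ¬ ((IsLocalRing.maximalIdeal A : Set A) ⊆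
        ⋃ p ∈ (hfin.toFinset : Set (Ideal A)), (p : Set A)) := by
      intro hsub
      rw [Ideal.subset_union_prime (R := A) (s := hfin.toFinset) (f := fun p => p)
        (IsLocalRing.maximalIdeal A) (IsLocalRing.maximalIdeal A)] at hsub
      · obtain ⟨p, hp, hle⟩ := hsub
        rw [Set.Finite.mem_toFinset] at hp
        have : p = IsLocalRing.maximalIdeal A :=
          le_antisymm (IsLocalRing.le_maximalIdeal hp.1.1.ne_top) hle
        exact hm (this ▸ hp)
      · intro p hp _ _
        rw [Set.Finite.mem_toFinset] at hp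
        exact hp.1.1
    obtain ⟨f, hfm, hf⟩ := Set.not_subset.mp hnot
    have hkey : ∀ x : PrimeSpectrum A, x ≠ IsLocalRing.closedPoint A → f ∉ x.asIdeal := by
      intro x hx
      have hxp : x.asIdeal.IsPrime := x.2
      obtain ⟨p, hp, hpx⟩ := Ideal.exists_minimalPrimes_le (I := ⊥) (J := x.asIdeal) bot_le
      have hpp : p.IsPrime := hp.1.1
      by_cases hpe : p = x.asIdeal
      · intro hfx
        apply hf
        simp only [Set.mem_iUnion]
        exact ⟨p, by rw [Finset.mem_coe, Set.Finite.mem_toFinset]; exact hp, hpe ▸ hfx⟩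
      · exfalso
        have h1 : (⟨p, hpp⟩ : PrimeSpectrum A) < x :=
          lt_of_le_of_ne hpx (fun he => hpe (congrArg PrimeSpectrum.asIdeal he))
        have h2 : x < IsLocalRing.closedPoint A := lt_of_le_of_ne
          (IsLocalRing.le_maximalIdeal x.2.ne_top) hx
        have := two_le_dim_of_chain A h1 h2
        have h3 := this.trans h
        revert h3
        decide
    have hU : FEt.puncturedSpec A = PrimeSpectrum.basicOpen f := by
      ext x
      constructor
      · intro hx
        exact hkey x hx
      · intro hx hxe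
        apply hx
        rw [hxe]
        exact hfm
    rw [hU]
    exact isAffineOpen_basicOpen A f

theorem isPunct_puncturedSpec [IsLocalRing A] :
    IsPunct (IsLocalRing.maximalIdeal A) (cv (FEt.puncturedSpec A)) := by
  intro x
  constructor
  · intro hx hle
    apply hx
    exact PrimeSpectrum.ext (le_antisymm (IsLocalRing.le_maximalIdeal x.2.ne_top) hle)
  · intro hx hxe
    apply hx
    rw [hxe]
    exact le_refl _

/-- The punctured spectrum of a Noetherian local ring is affine iff `dim ≤ 1`. -/
theorem isAffineOpen_puncturedSpec_iff [IsLocalRing A] [IsNoetherianRing A] :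
    IsAffineOpen (FEt.puncturedSpec A) ↔ ringKrullDim A ≤ 1 := by
  constructor
  · intro hU
    by_contra hd
    rw [not_le] at hd
    obtain ⟨d, hd'⟩ : ∃ d : ℕ, ringKrullDim A = d := by
      have h1 := ringKrullDim_ne_top (R := A)
      have h2 := ringKrullDim_ne_bot (R := A)
      generalize ringKrullDim A = z at h1 h2
      induction z using WithBot.recBotCoe with
      | bot => exact absurd rfl h2
      | coe z =>
        induction z using ENat.recTopCoe with
        | top => exact absurd rfl h1
        | coe n => exact ⟨n, rfl⟩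
    rw [hd'] at hd
    have hd2 : 2 ≤ d := by
      have : (1 : ℕ) < d := by exact_mod_cast hd
      omega
    obtain ⟨j, rfl⟩ := Nat.exists_eq_add_of_le' hd2
    have h1 := Groth.Agent.S0327.result A (j + 2) hd'
    have h2 := subsingleton_H_of_isAffineOpen A (IsLocalRing.maximalIdeal A)
      (FEt.puncturedSpec A) hU (isPunct_puncturedSpec A) j
    exact not_subsingleton _ h2
  · exact isAffine_puncturedSpec_of_dim_le_one A

end Groth.Agent.H1.PunctAff
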