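import Mathlib
import Groth.Agent.Lib.Lead.SC.SerreCrit
import Groth.Agent.Lib.Lead.SC.Leray
import Groth.Agent.Lib.Lead.SC.Affine
import Groth.Agent.Lib.Lead.SC.RPush
import Groth.Agent.Lib.Lead.QC.ClosedUnit
import Groth.Agent.Lib.Lead.QC.UnitIso
import Groth.Agent.Lib.Lead.QC.Push
import Groth.Agent.Lib.Lead.QC.Pullback
import Groth.Agent.Lib.Lead.QC.SubExt

universe u
open CategoryTheory Limits Opposite Abelian TopologicalSpace AlgebraicGeometry

namespace Groth.Agent.H1.ThickAff

open Groth.Agent.LD Groth.Agent.LD.SC Groth.Agent.LD.QC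

variable {X X' : Scheme.{u}}

/-- `H¹(X', t_* N) = 0` for `t` affine, `X` affine, `N` quasi-coherent. -/
theorem h1Zero_pushforward_of_isAffine (t : X ⟶ X') [IsAffineHom t] [IsAffine X]
    (N : X.Modules) [N.IsQuasicoherent] :
    H1Zero ((Scheme.Modules.pushforward t).obj N) := by
  obtain ⟨e⟩ := leray t.base (X'.affineOpens : Set X'.Opens) X'.isBasis_affineOpens 1
    (Coh.toAb N) (fun V hV i => subsingleton_ext_of_isAffineOpen N i _ (hV.preimage t)) ⊤
  have h0 : Subsingleton (Ext (ZU (JX X) ((Opens.map t.base).obj ⊤)) (Coh.toAb N) 1) :=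
    subsingleton_ext_of_isAffineOpen N 0 _ (isAffineOpen_top X)
  exact e.symm.toEquiv.subsingleton


/-- square-zero thickening of an affine scheme: global sections surject. -/
theorem surjective_appTop_of_sqZero (t : X ⟶ X') [IsClosedImmersion t] [IsAffine X]
    (hK : t.ker * t.ker = ⊥) : Function.Surjective (t.app ⊤) := by
  let φ : unitMod X' ⟶ (Scheme.Modules.pushforward t).obj (unitMod X) := toPushUnit t
  haveI hq : ((Scheme.Modules.pushforward t).obj (unitMod X)).IsQuasicoherent :=
    qc_pushforward t (unitMod X)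
  haveI h𝓘 : (kernel φ).IsQuasicoherent := qc_kernel φ inferInstance hq
  haveI hepi : Epi φ := by
    apply epi_of_local_lift
    intro U s x hx
    obtain ⟨W, hW, hxW, hWU⟩ := exists_isAffineOpen_mem_and_subset (x := x) (U := U) hx
    refine ⟨W, hWU, hxW, ?_⟩
    obtain ⟨g, hg⟩ := t.app_surjective W hW
      (((Scheme.Modules.pushforward t).obj (unitMod X)).presheaf.map (homOfLE hWU).op s)
    exact ⟨g, hg⟩
  let S : ShortComplex X'.Modules := ShortComplex.mk (kernel.ι φ) φ (kernel.condition φ)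
  have hS : S.ShortExact :=
    { exact := ShortComplex.exact_of_f_is_kernel S (kernelIsKernel φ)
      mono_f := inferInstanceAs (Mono (kernel.ι φ))
      epi_g := hepi }
  have hann : ∀ (U : X'.affineOpens) (a : Γ(X', U.1)), a ∈ t.ker.ideal U →
      ∀ s : Γ(kernel φ, U.1), a • s = 0 := by
    intro U a ha s
    apply mono_app (kernel.ι φ) U.1
    rw [Scheme.Modules.Hom.app_smul, map_zero]
    have hy : (show Γ(X', U.1) from (kernel.ι φ).app U.1 s) ∈ t.ker.ideal U := by
      rw [Scheme.Hom.ker_apply]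
      exact kernel_ι_app_comp φ U.1 s
    have h2 : a * (show Γ(X', U.1) from (kernel.ι φ).app U.1 s) ∈ (t.ker * t.ker).ideal U := by
      rw [Scheme.IdealSheafData.ideal_mul]
      exact Ideal.mul_mem_mul ha hy
    rw [hK] at h2
    exact h2
  have hiso := (isIso_unit_closedImmersion_iff t (kernel φ)).mpr hann
  haveI : ((Scheme.Modules.pullback t).obj (kernel φ)).IsQuasicoherent := qc_pullback t (kernel φ)
  have h1 : H1Zero (kernel φ) :=
    subsingleton_ext_of_iso ((toAbF X').mapIso
      (asIso ((Scheme.Modules.pullbackPushforwardAdjunction t).unit.app (kernel φ))).symm) 1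
      (h1Zero_pushforward_of_isAffine t ((Scheme.Modules.pullback t).obj (kernel φ)))
  exact surjective_app_top_of_h1Zero hS h1


lemma opens_eq_of_preimage_eq (t : X ⟶ X') (ht : Function.Surjective t) {U V : X'.Opens}
    (h : t ⁻¹ᵁ U = t ⁻¹ᵁ V) : U = V := by
  ext x
  obtain ⟨y, rfl⟩ := ht x
  have h1 : y ∈ t ⁻¹ᵁ U ↔ y ∈ t ⁻¹ᵁ V := by rw [h]
  exact h1

/-- a thickening of an affine scheme is covered by affine opens whose preimages are basic opens;
in fact for every basic open inside the preimage of an affine open. -/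
lemma exists_affine_preimage_eq_basicOpen (t : X ⟶ X') [IsClosedImmersion t]
    {U₀ : X'.Opens} (hU₀ : IsAffineOpen U₀) (g : Γ(X, ⊤))
    (hg : X.basicOpen g ≤ t ⁻¹ᵁ U₀) :
    ∃ U' : X'.Opens, IsAffineOpen U' ∧ U' ≤ U₀ ∧ t ⁻¹ᵁ U' = X.basicOpen g := by
  obtain ⟨l, hl⟩ := t.app_surjective U₀ hU₀
    (X.presheaf.map (homOfLE (le_top : t ⁻¹ᵁ U₀ ≤ ⊤)).op g)
  refine ⟨X'.basicOpen l, hU₀.basicOpen l, X'.basicOpen_le l, ?_⟩
  rw [Scheme.preimage_basicOpen, hl, Scheme.basicOpen_res]
  exact inf_eq_right.mpr hg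

/-- a partition of unity on `X` subordinate to preimages of affine opens of `X'`. -/
lemma exists_partition (t : X ⟶ X') [IsClosedImmersion t] [IsAffine X] :
    ∃ (n : ℕ) (g e : Fin n → Γ(X, ⊤)) (U' : Fin n → X'.Opens),
      (∀ i, IsAffineOpen (U' i)) ∧ (∀ i, t ⁻¹ᵁ (U' i) = X.basicOpen (g i)) ∧
        ∑ i, e i * g i = 1 := by
  let s : Set Γ(X, ⊤) := {g | ∃ U' : X'.Opens, IsAffineOpen U' ∧ t ⁻¹ᵁ U' = X.basicOpen g}
  have hs : Ideal.span s = ⊤ := by
    rw [← (isAffineOpen_top X).self_le_iSup_basicOpen_iff]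
    intro x _
    obtain ⟨U₀, hU₀, hxU₀, -⟩ := exists_isAffineOpen_mem_and_subset (x := t x) (U := ⊤) trivial
    obtain ⟨g, hg, hxg⟩ := (isAffineOpen_top X).exists_basicOpen_le
      (V := t ⁻¹ᵁ U₀) ⟨x, hxU₀⟩ trivial
    obtain ⟨U', hU', -, hU'g⟩ := exists_affine_preimage_eq_basicOpen t hU₀ g hg
    exact Opens.mem_iSup.mpr ⟨⟨g, U', hU', hU'g⟩, hxg⟩
  have h1 : (1 : Γ(X, ⊤)) ∈ Ideal.span s := by rw [hs]; trivial
  obtain ⟨n, e, g, hsum⟩ := Submodule.mem_span_set'.mp h1
  choose U' hU' hU'g using fun i => (g i).2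
  exact ⟨n, fun i => (g i).1, e, U', hU', hU'g, by simpa [smul_eq_mul] using hsum⟩

/-- affineness criterion for a thickening of an affine scheme: a subordinate partition of unity
lifts. -/
theorem isAffine_of_partition_lifts (t : X ⟶ X') [IsClosedImmersion t]
    (ht : Function.Surjective t) [CompactSpace X] {n : ℕ} (g e : Fin n → Γ(X, ⊤))
    (U' : Fin n → X'.Opens) (hU' : ∀ i, IsAffineOpen (U' i))
    (hU'g : ∀ i, t ⁻¹ᵁ (U' i) = X.basicOpen (g i)) (hsum : ∑ i, e i * g i = 1)
    (g' e' : Fin n → Γ(X', ⊤)) (hg' : ∀ i, t.app ⊤ (g' i) = g i)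
    (he' : ∀ i, t.app ⊤ (e' i) = e i) : IsAffine X' := by
  haveI : CompactSpace X' := by
    constructor
    have := (isCompact_univ (X := X)).image t.continuous
    rwa [Set.image_univ, ht.range_eq] at this
  have hbo : ∀ i, X'.basicOpen (g' i) = U' i := by
    intro i
    apply opens_eq_of_preimage_eq t ht
    rw [Scheme.preimage_basicOpen, hU'g]
    congr 1
    exact hg' i
  have hu : IsUnit (∑ i, e' i * g' i) := by
    have hn : IsNilpotent (1 - ∑ i, e' i * g' i) := by
      rw [Scheme.isNilpotent_iff_basicOpen_eq_bot]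
      apply opens_eq_of_preimage_eq t ht
      rw [Scheme.preimage_basicOpen]
      have h0 : t.app ⊤ (1 - ∑ i, e' i * g' i) = 0 := by
        rw [map_sub, map_one, map_sum]
        simp only [map_mul, hg', he']
        exact sub_eq_zero.mpr hsum.symm
      rw [h0]
      exact Scheme.basicOpen_zero X ⊤
    have := hn.isUnit_one_sub
    simpa using this
  apply isAffine_of_isAffineOpen_basicOpen (Set.range g')
  · rw [Ideal.eq_top_iff_one]
    obtain ⟨v, hv⟩ := hu.exists_left_inv
    rw [← hv, Finset.mul_sum]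
    refine Ideal.sum_mem _ fun i _ => ?_
    rw [← mul_assoc]
    exact Ideal.mul_mem_left _ _ (Ideal.subset_span ⟨i, rfl⟩)
  · rintro _ ⟨i, rfl⟩
    rw [hbo]
    exact hU' i

/-- a thickening of an affine scheme with surjective map on global sections is affine. -/
theorem isAffine_of_surjective_appTop (t : X ⟶ X') [IsClosedImmersion t]
    (ht : Function.Surjective t) [IsAffine X] (hs : Function.Surjective (t.app ⊤)) :
    IsAffine X' := by
  obtain ⟨n, g, e, U', hU', hU'g, hsum⟩ := exists_partition t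
  choose g' hg' using fun i => hs (g i)
  choose e' he' using fun i => hs (e i)
  exact isAffine_of_partition_lifts t ht g e U' hU' hU'g hsum g' e' hg' he'

/-- **Part A**: a square-zero thickening of an affine scheme is affine. -/
theorem isAffine_of_sqZero (t : X ⟶ X') [IsClosedImmersion t] (ht : Function.Surjective t)
    [IsAffine X] (hK : t.ker * t.ker = ⊥) : IsAffine X' :=
  isAffine_of_surjective_appTop t ht (surjective_appTop_of_sqZero t hK)

end Groth.Agent.H1.ThickAff
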