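import Mathlib
import Groth.Agent.Lib.Helper1.ThickAff1

universe u
open CategoryTheory Limits Opposite TopologicalSpace AlgebraicGeometry

namespace Groth.Agent.H1.ThickAff

variable {X X' Z : Scheme.{u}}

/-- kernel of the first factor of a composite with a closed immersion, on preimages of affines. -/
lemma ker_ideal_preimage_of_comp (s : X ⟶ Z) (ι : Z ⟶ X') [IsClosedImmersion ι] [QuasiCompact s]
    (U' : X'.affineOpens) :
    s.ker.ideal ⟨ι ⁻¹ᵁ U'.1, U'.2.preimage ι⟩ =
      Ideal.map (ι.app U'.1).hom ((s ≫ ι).ker.ideal U') := by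
  have hcomp : ∀ y, ((s ≫ ι).app U'.1).hom y = (s.app (ι ⁻¹ᵁ U'.1)).hom ((ι.app U'.1).hom y) := by
    intro y
    rw [Scheme.Hom.comp_app]; rfl
  apply le_antisymm
  · intro z hz
    rw [Scheme.Hom.ker_apply, RingHom.mem_ker] at hz
    obtain ⟨y, rfl⟩ := ι.app_surjective U'.1 U'.2 z
    apply Ideal.mem_map_of_mem
    rw [Scheme.Hom.ker_apply, RingHom.mem_ker, hcomp]
    exact hz
  · rw [Ideal.map_le_iff_le_comap]
    intro y hy
    rw [Scheme.Hom.ker_apply, RingHom.mem_ker, hcomp] at hy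
    rw [Ideal.mem_comap, Scheme.Hom.ker_apply, RingHom.mem_ker]
    exact hy

lemma ker_pow_eq_bot_of_comp (s : X ⟶ Z) (ι : Z ⟶ X') [IsClosedImmersion ι] [QuasiCompact s]
    (m : ℕ) (h : (s ≫ ι).ker ^ m ≤ ι.ker) : s.ker ^ m = ⊥ := by
  apply Scheme.IdealSheafData.ext_of_iSup_eq_top
    (fun U' : X'.affineOpens => (⟨ι ⁻¹ᵁ U'.1, U'.2.preimage ι⟩ : Z.affineOpens))
  · rw [eq_top_iff]
    intro z _
    obtain ⟨U₀, hU₀, hz, -⟩ := exists_isAffineOpen_mem_and_subset (x := ι z) (U := ⊤) trivial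
    exact Opens.mem_iSup.mpr ⟨⟨U₀, hU₀⟩, hz⟩
  · intro U'
    rw [Scheme.IdealSheafData.ideal_pow, Pi.pow_apply, ker_ideal_preimage_of_comp,
      ← Ideal.map_pow, Scheme.IdealSheafData.ideal_bot, Pi.bot_apply, eq_bot_iff,
      Ideal.map_le_iff_le_comap]
    have h1 := h U'
    rw [Scheme.IdealSheafData.ideal_pow, Pi.pow_apply] at h1
    intro y hy
    rw [Ideal.mem_comap, Ideal.mem_bot]
    have h2 := h1 hy
    rw [Scheme.Hom.ker_apply, RingHom.mem_ker] at h2
    exact h2


/-- **Part B**: a finite order thickening of an affine scheme is affine. -/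
theorem isAffine_of_ker_pow_eq_bot : ∀ (n : ℕ) {X X' : Scheme.{u}} (t : X ⟶ X')
    [IsClosedImmersion t] (_ : Function.Surjective t) [IsAffine X] (_ : t.ker ^ n = ⊥),
    IsAffine X'
  | 0, X, X', t, _, ht, _, hK => by
    apply isAffine_of_sqZero t ht
    rw [pow_zero] at hK
    rw [eq_bot_iff, ← hK]
    exact le_top
  | 1, X, X', t, _, ht, _, hK => by
    apply isAffine_of_sqZero t ht
    rw [pow_one] at hK
    rw [hK, Scheme.IdealSheafData.mul_bot]
  | (n + 2), X, X', t, _, ht, _, hK => by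
    let J : X'.IdealSheafData := t.ker ^ (n + 1)
    let ι : J.subscheme ⟶ X' := J.subschemeι
    have hι : ι.ker = J := J.ker_subschemeι
    have hle : ι.ker ≤ t.ker := by
      rw [hι]
      calc t.ker ^ (n + 1) ≤ t.ker ^ 1 := pow_le_pow_of_le_one bot_le le_top (by omega)
        _ = t.ker := pow_one _
    let s : X ⟶ J.subscheme := IsClosedImmersion.lift ι t hle
    have hfac : s ≫ ι = t := IsClosedImmersion.lift_fac ι t hle
    haveI : IsClosedImmersion (s ≫ ι) := by rw [hfac]; infer_instance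
    haveI : IsClosedImmersion s := IsClosedImmersion.of_comp s ι
    have hs : Function.Surjective s := by
      intro z
      obtain ⟨x, hx⟩ := ht (ι z)
      refine ⟨x, ι.isEmbedding.injective ?_⟩
      rw [← hx, ← hfac]
      rfl
    have hιs : Function.Surjective ι := by
      intro x'
      obtain ⟨x, hx⟩ := ht x'
      refine ⟨s x, ?_⟩
      rw [← hx, ← hfac]
      rfl
    have hsK : s.ker ^ (n + 1) = ⊥ := by
      apply ker_pow_eq_bot_of_comp s ι
      rw [hfac, hι]
    haveI : IsAffine J.subscheme := isAffine_of_ker_pow_eq_bot (n + 1) s hs hsK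
    apply isAffine_of_sqZero ι hιs
    rw [hι, eq_bot_iff, ← hK]
    change t.ker ^ (n + 1) * t.ker ^ (n + 1) ≤ _
    rw [← pow_add]
    exact pow_le_pow_of_le_one bot_le le_top (by omega)

end Groth.Agent.H1.ThickAff
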