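import Mathlib
import Groth.Agent.Lib.Helper1.ThickAff2

universe u
open CategoryTheory Limits Opposite TopologicalSpace AlgebraicGeometry

namespace Groth.Agent.H1.ThickAff

variable {X X' Z : Scheme.{u}}

/-- gluing local lifts whose differences die in `Z`. -/
lemma exists_glued_lift (s : X ⟶ Z) (ι : Z ⟶ X') {n : ℕ} (U' : Fin n → X'.Opens)
    (hcov : ⨆ i, U' i = ⊤) (a : Γ(X, ⊤)) (a' : ∀ i, Γ(X', U' i))
    (ha' : ∀ i, (s ≫ ι).app (U' i) (a' i) =
      X.presheaf.map (homOfLE (le_top : (s ≫ ι) ⁻¹ᵁ U' i ≤ ⊤)).op a)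
    (hc : ∀ i j, ι.app (U' i ⊓ U' j) (X'.presheaf.map (homOfLE inf_le_left).op (a' i)) =
      ι.app (U' i ⊓ U' j) (X'.presheaf.map (homOfLE inf_le_right).op (a' j))) :
    ∃ â : Γ(Z, ⊤), s.app ⊤ â = a := by
  let V : Fin n → Z.Opens := fun i => ι ⁻¹ᵁ U' i
  let sf : ∀ i, Γ(Z, V i) := fun i => ι.app (U' i) (a' i)
  have hcomp : TopCat.Presheaf.IsCompatible Z.presheaf V sf := by
    intro i j
    have h1 : Z.presheaf.map (Opens.infLELeft (V i) (V j)).op (sf i) =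
        ι.app (U' i ⊓ U' j) (X'.presheaf.map (homOfLE inf_le_left).op (a' i)) := by
      have := ι.naturality (homOfLE (inf_le_left : U' i ⊓ U' j ≤ U' i)).op
      exact (congr($(this) (a' i))).symm
    have h2 : Z.presheaf.map (Opens.infLERight (V i) (V j)).op (sf j) =
        ι.app (U' i ⊓ U' j) (X'.presheaf.map (homOfLE inf_le_right).op (a' j)) := by
      have := ι.naturality (homOfLE (inf_le_right : U' i ⊓ U' j ≤ U' j)).op
      exact (congr($(this) (a' j))).symm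
    rw [h1, h2, hc]
  have hV : (⊤ : Z.Opens) ≤ iSup V := by
    intro z _
    have hz : ι z ∈ (⨆ i, U' i : X'.Opens) := by rw [hcov]; trivial
    obtain ⟨i, hi⟩ := Opens.mem_iSup.mp hz
    exact Opens.mem_iSup.mpr ⟨i, hi⟩
  obtain ⟨â, hâ, -⟩ := Z.sheaf.existsUnique_gluing' V ⊤ (fun i => homOfLE le_top) hV sf hcomp
  refine ⟨â, ?_⟩
  apply X.sheaf.eq_of_locally_eq' (fun i => (s ≫ ι) ⁻¹ᵁ U' i) ⊤ (fun i => homOfLE le_top)
  · intro x _
    have hz : (s ≫ ι) x ∈ (⨆ i, U' i : X'.Opens) := by rw [hcov]; trivial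
    obtain ⟨i, hi⟩ := Opens.mem_iSup.mp hz
    exact Opens.mem_iSup.mpr ⟨i, hi⟩
  · intro i
    have h1 := s.naturality (homOfLE (le_top : V i ≤ ⊤)).op
    have h2 : X.presheaf.map (homOfLE (le_top : (s ≫ ι) ⁻¹ᵁ U' i ≤ ⊤)).op (s.app ⊤ â) =
        s.app (V i) (Z.presheaf.map (homOfLE (le_top : V i ≤ ⊤)).op â) :=
      (congr($(h1) â)).symm
    refine h2.trans ?_
    have h3 : Z.presheaf.map (homOfLE (le_top : V i ≤ ⊤)).op â = sf i := hâ i
    rw [h3]
    exact ha' i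

end Groth.Agent.H1.ThickAff
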