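import Mathlib
import Groth.Agent.Lib.Helper1.ThickAff2
import Groth.Agent.Lib.Lead.QC.IdealOfHom
import Groth.Agent.Lib.Lead.QC.IdealMod

universe u
open CategoryTheory Limits Opposite TopologicalSpace AlgebraicGeometry

namespace Groth.Agent.H1.ThickAff

open Groth.Agent.LD Groth.Agent.LD.QC

variable {X X' Z : Scheme.{u}}

lemma ker_app_self_quotient {U₀ : X'.Opens} (hU₀ : IsAffineOpen U₀) (I : Ideal Γ(X', U₀)) :
    RingHom.ker ((Spec.map (CommRingCat.ofHom (Ideal.Quotient.mk I)) ≫ hU₀.fromSpec).app U₀).hom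
      = I := by
  set q := CommRingCat.ofHom (Ideal.Quotient.mk I) with hq
  have hnat := (Spec.map q).naturality (eqToHom hU₀.fromSpec_preimage_self).op
  have hΓ := Scheme.ΓSpecIso_inv_naturality q
  have key : ∀ x : Γ(X', U₀), ((Spec.map q ≫ hU₀.fromSpec).app U₀).hom x =
      ((Spec _).presheaf.map ((Opens.map (Spec.map q).base).op.map
        (eqToHom hU₀.fromSpec_preimage_self).op)).hom
        ((Scheme.ΓSpecIso _).inv.hom (Ideal.Quotient.mk I x)) := by
    intro x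
    have e1 : ((Spec.map q ≫ hU₀.fromSpec).app U₀).hom x =
        ((Spec.map q).app (hU₀.fromSpec ⁻¹ᵁ U₀)).hom ((hU₀.fromSpec.app U₀).hom x) := by
      rw [Scheme.Hom.comp_app]; rfl
    rw [e1, hU₀.fromSpec_app_self]
    have e2 := congr($(hnat) ((Scheme.ΓSpecIso _).inv.hom x))
    have e3 := congr($(hΓ) x)
    simp only [CommRingCat.comp_apply] at e2 e3 ⊢
    exact e2.trans (congrArg _ e3.symm)
  ext x
  rw [RingHom.mem_ker, key]
  have hinj : Function.Injective (((Spec (CommRingCat.of (Γ(X', U₀) ⧸ I))).presheaf.map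
      ((Opens.map (Spec.map q).base).op.map (eqToHom hU₀.fromSpec_preimage_self).op)).hom ∘
        (Scheme.ΓSpecIso (CommRingCat.of (Γ(X', U₀) ⧸ I))).inv.hom) := by
    apply Function.Injective.comp
    · exact (ConcreteCategory.bijective_of_isIso _).1
    · exact (ConcreteCategory.bijective_of_isIso _).1
  constructor
  · intro h
    have h0 : (Ideal.Quotient.mk I x) = 0 := by
      apply hinj
      simp only [Function.comp_apply, map_zero]
      exact h
    exact Ideal.Quotient.eq_zero_iff_mem.mp h0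
  · intro h
    rw [Ideal.Quotient.eq_zero_iff_mem.mpr h]
    exact (congrArg _ (map_zero _)).trans (map_zero _)


/-- **Lemma E**: on a qcqs scheme, a section of an ideal sheaf over an affine open lies in a
finite type sub-ideal sheaf. -/
theorem exists_ft_ideal_le_containing [CompactSpace X'] [QuasiSeparatedSpace X']
    (K : X'.IdealSheafData) {U₀ : X'.Opens} (hU₀ : IsAffineOpen U₀) (c : Γ(X', U₀))
    (hc : c ∈ K.ideal ⟨U₀, hU₀⟩) :
    ∃ J : X'.IdealSheafData, J ≤ K ∧ BlowUp.IsFiniteTypeIdeal J ∧ c ∈ J.ideal ⟨U₀, hU₀⟩ := by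
  classical
  let φ : Spec (CommRingCat.of (Γ(X', U₀) ⧸ Ideal.span {c})) ⟶ X' :=
    Spec.map (CommRingCat.ofHom (Ideal.Quotient.mk (Ideal.span {c}))) ≫ hU₀.fromSpec
  haveI : QuasiCompact φ := inferInstance
  let K' : X'.IdealSheafData := K ⊓ φ.ker
  have hK'U₀ : K'.ideal ⟨U₀, hU₀⟩ = Ideal.span {c} := by
    change K.ideal ⟨U₀, hU₀⟩ ⊓ φ.ker.ideal ⟨U₀, hU₀⟩ = _
    rw [Scheme.Hom.ker_apply, ker_app_self_quotient hU₀]
    exact inf_eq_right.mpr ((Ideal.span_singleton_le_iff_mem _).mpr hc)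
  have hfin : ∀ W : X'.Opens, IsAffineOpen W → W ≤ U₀ →
      Module.Finite Γ(X', W) Γ(ClSub.idealMod K', W) := by
    intro W hW hWU
    have e := idealModSectionsEquiv K' ⟨W, hW⟩
    have hfg : (K'.ideal ⟨W, hW⟩).FG := by
      have hm := K'.map_ideal (U := ⟨W, hW⟩) (V := ⟨U₀, hU₀⟩) hWU
      rw [← hm, hK'U₀, Ideal.map_span, Set.image_singleton]
      exact Submodule.fg_span_singleton _
    haveI : Module.Finite Γ(X', W) (K'.ideal ⟨W, hW⟩) := Module.Finite.iff_fg.mpr hfg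
    exact Module.Finite.equiv e.symm
  obtain ⟨F, u₀, hu₀, hF, hFft, hbij⟩ :=
    exists_sub_finiteType (ClSub.idealMod K') U₀ hU₀.isCompact hfin
  haveI := hF
  refine ⟨idealOfHom F (u₀ ≫ ClSub.idealModι K'), ?_, isFiniteTypeIdeal_idealOfHom F _ hFft, ?_⟩
  · intro V s hs
    obtain ⟨t, ht⟩ := (mem_idealOfHom_iff F _ V s).mp hs
    have h1 : s ∈ K'.ideal V := (exists_idealModι_app_eq_iff K' V s).mp ⟨u₀.app V.1 t, ht⟩
    exact (Ideal.mem_inf.mp h1).1
  · rw [mem_idealOfHom_iff]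
    have h1 : c ∈ K'.ideal ⟨U₀, hU₀⟩ := by
      rw [hK'U₀]; exact Ideal.subset_span rfl
    obtain ⟨t₀, ht₀⟩ := (exists_idealModι_app_eq_iff K' ⟨U₀, hU₀⟩ _).mpr h1
    obtain ⟨t, ht⟩ := (hbij U₀ le_rfl).2 t₀
    refine ⟨t, ?_⟩
    change (show Γ(X', U₀) from (ClSub.idealModι K').app U₀ (u₀.app U₀ t)) = c
    rw [ht]; exact ht₀

end Groth.Agent.H1.ThickAff
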