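import Mathlib
import Groth.Agent.Lib.Helper1.ThickAff3
import Groth.Agent.Lib.Helper1.ThickAff4

universe u
open CategoryTheory Limits Opposite TopologicalSpace AlgebraicGeometry

namespace Groth.Agent.H1.ThickAff

open Groth.Agent.LD Groth.Agent.LD.QC

variable {X X' Z : Scheme.{u}}

/-- the kernel of a surjective morphism consists of nilpotents. -/
lemma ker_le_nilradical_of_surjective (t : X ⟶ X') [QuasiCompact t] (ht : Function.Surjective t)
    (U : X'.affineOpens) : t.ker.ideal U ≤ nilradical Γ(X', U.1) := by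
  intro y hy
  rw [Scheme.Hom.ker_apply, RingHom.mem_ker] at hy
  rw [mem_nilradical, Scheme.isNilpotent_iff_basicOpen_eq_bot_of_isCompact U.2.isCompact]
  apply opens_eq_of_preimage_eq t ht
  rw [Scheme.preimage_basicOpen, hy]
  exact Scheme.basicOpen_zero X _

/-- a finite type locally nil ideal sheaf on a quasi-compact scheme is nilpotent. -/
lemma isNilpotent_of_ft_of_le_nilradical [CompactSpace X'] (J : X'.IdealSheafData)
    (hft : BlowUp.IsFiniteTypeIdeal J)
    (hnil : ∀ U : X'.affineOpens, J.ideal U ≤ nilradical Γ(X', U.1)) : IsNilpotent J := by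
  classical
  obtain ⟨s, hs, e⟩ := isCompact_and_isOpen_iff_finite_and_eq_biUnion_affineOpens.mp
    ⟨(isCompact_univ : IsCompact (Set.univ : Set X')), isOpen_univ⟩
  have hN : ∀ U : X'.affineOpens, ∃ N : ℕ, J.ideal U ^ N = ⊥ := fun U =>
    ((hft U).isNilpotent_iff_le_nilradical).mpr (hnil U)
  choose N hN using hN
  refine ⟨hs.toFinset.sup N, ?_⟩
  apply Scheme.IdealSheafData.ext_of_iSup_eq_top (fun i : s => i.1)
  · rw [eq_top_iff]
    intro x _
    have hx : x ∈ ⋃ i ∈ s, ((i : X'.Opens) : Set X') := e ▸ Set.mem_univ x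
    obtain ⟨i, hi, hxi⟩ := Set.mem_iUnion₂.mp hx
    exact Opens.mem_iSup.mpr ⟨⟨i, hi⟩, hxi⟩
  · rintro ⟨U, hU⟩
    change (J ^ _).ideal U = (⊥ : X'.IdealSheafData).ideal U
    rw [Scheme.IdealSheafData.ideal_pow, Pi.pow_apply, Scheme.IdealSheafData.ideal_bot,
      Pi.bot_apply, eq_bot_iff, ← hN U]
    exact Ideal.pow_le_pow_right (Finset.le_sup (f := N) (hs.mem_toFinset.mpr hU))


lemma compactSpace_of_surjective (t : X ⟶ X') (ht : Function.Surjective t) [CompactSpace X] :
    CompactSpace X' := by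
  constructor
  have := (isCompact_univ (X := X)).image t.continuous
  rwa [Set.image_univ, ht.range_eq] at this

lemma quasiSeparatedSpace_of_thickening (t : X ⟶ X') [IsClosedImmersion t]
    (ht : Function.Surjective t) [QuasiSeparatedSpace X] : QuasiSeparatedSpace X' := by
  have hbij : Function.Bijective t := ⟨t.isEmbedding.injective, ht⟩
  have hhom : IsHomeomorph t :=
    (isHomeomorph_iff_continuous_isClosedMap_bijective).mpr
      ⟨t.continuous, t.isClosedEmbedding.isClosedMap, hbij⟩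
  exact (hhom.homeomorph).symm.isOpenEmbedding.quasiSeparatedSpace

/-- **Part C / main theorem**: a thickening of an affine scheme is affine. -/
theorem isAffine_of_thickening (t : X ⟶ X') [IsClosedImmersion t] (ht : Function.Surjective t)
    [IsAffine X] : IsAffine X' := by
  classical
  haveI : CompactSpace X' := compactSpace_of_surjective t ht
  haveI : QuasiSeparatedSpace X' := quasiSeparatedSpace_of_thickening t ht
  obtain ⟨n, g, e, U', hU', hU'g, hsum⟩ := exists_partition t
  -- the `U' i` cover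
  have hspan : Ideal.span (Set.range g) = ⊤ := by
    rw [Ideal.eq_top_iff_one, ← hsum]
    exact Ideal.sum_mem _ fun i _ => Ideal.mul_mem_left _ _ (Ideal.subset_span ⟨i, rfl⟩)
  have hcovX := (isAffineOpen_top X).self_le_iSup_basicOpen_iff.mpr hspan
  have hcov : ⨆ i, U' i = ⊤ := by
    rw [eq_top_iff]
    intro x' _
    obtain ⟨x, rfl⟩ := ht x'
    obtain ⟨⟨_, i, rfl⟩, hx⟩ := Opens.mem_iSup.mp (hcovX (Opens.mem_top x))
    have hx' : x ∈ t ⁻¹ᵁ U' i := by rw [hU'g]; exact hx
    exact Opens.mem_iSup.mpr ⟨i, hx'⟩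
  -- pairwise intersections are affine
  have hUij : ∀ i j, IsAffineOpen (U' i ⊓ U' j) := by
    intro i j
    obtain ⟨W, hW, -, hWg⟩ := exists_affine_preimage_eq_basicOpen t (hU' i) (g i * g j)
      (by rw [Scheme.basicOpen_mul, ← hU'g i]; exact inf_le_left)
    have : W = U' i ⊓ U' j := by
      apply opens_eq_of_preimage_eq t ht
      rw [hWg, Scheme.basicOpen_mul, ← hU'g i, ← hU'g j]
      rfl
    rw [← this]; exact hW
  -- local lifts
  have hloc : ∀ (a : Γ(X, ⊤)) (i : Fin n), ∃ a' : Γ(X', U' i),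
      t.app (U' i) a' = X.presheaf.map (homOfLE (le_top : t ⁻¹ᵁ U' i ≤ ⊤)).op a :=
    fun a i => t.app_surjective (U' i) (hU' i) _
  choose loc hlocs using hloc
  let c : Γ(X, ⊤) → ∀ i j : Fin n, Γ(X', U' i ⊓ U' j) := fun a i j =>
    X'.presheaf.map (homOfLE (inf_le_left : U' i ⊓ U' j ≤ U' i)).op (loc a i) -
      X'.presheaf.map (homOfLE (inf_le_right : U' i ⊓ U' j ≤ U' j)).op (loc a j)
  have hcK : ∀ a i j, c a i j ∈ t.ker.ideal ⟨U' i ⊓ U' j, hUij i j⟩ := by
    intro a i j
    rw [Scheme.Hom.ker_apply, RingHom.mem_ker]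
    change (t.app (U' i ⊓ U' j)).hom (_ - _) = 0
    rw [map_sub, sub_eq_zero]
    have h1 := t.naturality (homOfLE (inf_le_left : U' i ⊓ U' j ≤ U' i)).op
    have h2 := t.naturality (homOfLE (inf_le_right : U' i ⊓ U' j ≤ U' j)).op
    have e1 := congr($(h1) (loc a i))
    have e2 := congr($(h2) (loc a j))
    simp only [CommRingCat.comp_apply] at e1 e2
    refine e1.trans (Eq.trans ?_ e2.symm)
    rw [hlocs a i, hlocs a j]
    simp only [← CommRingCat.comp_apply, ← Functor.map_comp]
    rfl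
  -- the finite type ideal
  let elt : Fin n ⊕ Fin n → Γ(X, ⊤) := Sum.elim g e
  have hE : ∀ τ : (Fin n ⊕ Fin n) × Fin n × Fin n, ∃ J : X'.IdealSheafData, J ≤ t.ker ∧
      BlowUp.IsFiniteTypeIdeal J ∧
      c (elt τ.1) τ.2.1 τ.2.2 ∈ J.ideal ⟨U' τ.2.1 ⊓ U' τ.2.2, hUij τ.2.1 τ.2.2⟩ :=
    fun τ => exists_ft_ideal_le_containing t.ker (hUij τ.2.1 τ.2.2) _ (hcK _ _ _)
  choose Jτ hJτK hJτft hJτc using hE
  obtain ⟨J, hJK, hJnil, hJc⟩ : ∃ J : X'.IdealSheafData, J ≤ t.ker ∧ IsNilpotent J ∧
      ∀ (k : Fin n ⊕ Fin n) (i j : Fin n), c (elt k) i j ∈ J.ideal ⟨U' i ⊓ U' j, hUij i j⟩ := by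
    refine ⟨∑ τ, Jτ τ, ?_, ?_, ?_⟩
    · have : ∀ s : Finset ((Fin n ⊕ Fin n) × Fin n × Fin n), ∑ τ ∈ s, Jτ τ ≤ t.ker := by
        intro s
        induction s using Finset.induction with
        | empty => simp
        | insert a s ha ih =>
          rw [Finset.sum_insert ha, Scheme.IdealSheafData.add_eq_sup]
          exact sup_le (hJτK a) ih
      exact this _
    · apply isNilpotent_sum
      intro τ _
      exact isNilpotent_of_ft_of_le_nilradical (Jτ τ) (hJτft τ) fun U =>
        ((hJτK τ) U).trans (ker_le_nilradical_of_surjective t ht U)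
    · intro k i j
      have hle : Jτ (k, i, j) ≤ ∑ τ, Jτ τ :=
        Finset.single_le_sum (f := Jτ) (fun _ _ => (bot_le : (⊥ : X'.IdealSheafData) ≤ _))
          (Finset.mem_univ (k, i, j))
      exact hle _ (hJτc (k, i, j))
  obtain ⟨N, hN⟩ := hJnil
  -- the intermediate scheme
  have hle : J.subschemeι.ker ≤ t.ker := by rw [J.ker_subschemeι]; exact hJK
  obtain ⟨s, rfl⟩ : ∃ s : X ⟶ J.subscheme, s ≫ J.subschemeι = t :=
    ⟨IsClosedImmersion.lift J.subschemeι t hle, IsClosedImmersion.lift_fac _ _ _⟩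
  haveI : IsClosedImmersion s := IsClosedImmersion.of_comp s J.subschemeι
  have hs : Function.Surjective s := by
    intro z
    obtain ⟨x, hx⟩ := ht (J.subschemeι z)
    exact ⟨x, J.subschemeι.isEmbedding.injective hx⟩
  have hιs : Function.Surjective J.subschemeι := by
    intro x'
    obtain ⟨x, hx⟩ := ht x'
    exact ⟨s x, hx⟩
  -- lifts of the partition of unity
  have hlift : ∀ k : Fin n ⊕ Fin n, ∃ â : Γ(J.subscheme, ⊤), s.app ⊤ â = elt k := by
    intro k
    apply exists_glued_lift s J.subschemeι U' hcov (elt k) (fun i => loc (elt k) i)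
      (fun i => hlocs (elt k) i)
    intro i j
    have h1 := hJc k i j
    rw [← J.ker_subschemeι_app ⟨U' i ⊓ U' j, hUij i j⟩, RingHom.mem_ker] at h1
    change (J.subschemeι.app (U' i ⊓ U' j)).hom (_ - _) = 0 at h1
    rw [map_sub, sub_eq_zero] at h1
    exact h1
  choose lft hlft using hlift
  haveI : IsAffine J.subscheme :=
    isAffine_of_partition_lifts s hs g e (fun i => J.subschemeι ⁻¹ᵁ U' i)
      (fun i => (hU' i).preimage J.subschemeι) (fun i => hU'g i) hsum
      (fun i => lft (Sum.inl i)) (fun i => lft (Sum.inr i))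
      (fun i => hlft (Sum.inl i)) (fun i => hlft (Sum.inr i))
  exact isAffine_of_ker_pow_eq_bot N J.subschemeι hιs (by rw [J.ker_subschemeι]; exact hN)

end Groth.Agent.H1.ThickAff
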