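import Mathlib
import Groth.Agent.Lib.Helper1.ThickAff5

universe u
open CategoryTheory Limits Opposite TopologicalSpace AlgebraicGeometry

namespace Groth.Agent.H1.ThickAff

variable {X X' S S' : Scheme.{u}}

/-- an open of a thickening is affine as soon as its trace on the thin scheme is. -/
theorem isAffineOpen_of_preimage (t : X ⟶ X') [IsClosedImmersion t] (ht : Function.Surjective t)
    (V' : X'.Opens) (h : IsAffineOpen (t ⁻¹ᵁ V')) : IsAffineOpen V' := by
  haveI : IsAffine (t ⁻¹ᵁ V').toScheme := h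
  haveI : IsClosedImmersion (t ∣_ V') :=
    MorphismProperty.of_isPullback (isPullback_morphismRestrict t V').flip inferInstance
  have hs : Function.Surjective (t ∣_ V') := by
    intro y
    obtain ⟨x, hx⟩ := ht y.1
    refine ⟨⟨x, by change t x ∈ V'; rw [hx]; exact y.2⟩, ?_⟩
    apply Subtype.ext
    refine Eq.trans ?_ hx
    exact congr(($(morphismRestrict_ι t V') : _ → _) ⟨x, _⟩)
  exact isAffine_of_thickening (t ∣_ V') hs

/-- affine iff for morphisms of thickenings -/
theorem isAffineHom_iff_of_thickening (iX : X ⟶ X') (iS : S ⟶ S') (f : X ⟶ S) (f' : X' ⟶ S')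
    [IsClosedImmersion iX] (hX : Function.Surjective iX) [IsClosedImmersion iS]
    (w : iX ≫ f' = f ≫ iS) : IsAffineHom f ↔ IsAffineHom f' := by
  constructor
  · intro hf
    refine ⟨fun U hU => ?_⟩
    apply isAffineOpen_of_preimage iX hX
    have h1 : iX ⁻¹ᵁ f' ⁻¹ᵁ U = f ⁻¹ᵁ iS ⁻¹ᵁ U := by
      change (iX ≫ f') ⁻¹ᵁ U = (f ≫ iS) ⁻¹ᵁ U
      rw [w]
    rw [h1]
    exact (hU.preimage iS).preimage f
  · intro hf'
    haveI : IsAffineHom (f ≫ iS) := by rw [← w]; infer_instance
    exact IsAffineHom.of_comp f iS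

end Groth.Agent.H1.ThickAff
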