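import Mathlib
import Groth.Prelude.Def_MoreMor
import Groth.Agent.Lib.Lead.AS.Top

set_option autoImplicit false
universe u
open AlgebraicGeometry CategoryTheory Limits TopologicalSpace

namespace Groth.Agent.H1.AffStrat

variable {X : Scheme.{u}}

/-- `T` is the image of an affine immersion from an affine scheme. -/
def Good (X : Scheme.{u}) (T : Set X) : Prop :=
  ∃ (Z : Scheme.{u}) (ι : Z ⟶ X), IsImmersion ι ∧ IsAffine Z ∧ IsAffineHom ι ∧ Set.range ι = T

theorem good_of_closed_in_affine (U : X.Opens) (hU : IsAffineOpen U) (K : Set X) (hK : IsClosed K)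
    (hloc : ∀ x : X, ∃ V : X.Opens, IsAffineOpen V ∧ x ∈ V ∧
      ((U : Set X) ∩ K ⊆ (V : Set X) ∨ Disjoint ((U : Set X) ∩ K) (V : Set X))) :
    Good X ((U : Set X) ∩ K) := by
  haveI : IsAffine (U : Scheme.{u}) := hU
  let C : TopologicalSpace.Closeds (U : Scheme.{u}) := ⟨U.ι ⁻¹' K, hK.preimage U.ι.continuous⟩
  let I := Scheme.IdealSheafData.vanishingIdeal C
  have hZaff : IsAffine I.subscheme := isAffine_of_isAffineHom I.subschemeι
  have hrange : Set.range (I.subschemeι ≫ U.ι) = (U : Set X) ∩ K := by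
    rw [Scheme.Hom.comp_base, TopCat.coe_comp, Set.range_comp, I.range_subschemeι,
      Scheme.IdealSheafData.coe_support_vanishingIdeal]
    ext x
    simp only [Set.mem_image, Set.mem_inter_iff, SetLike.mem_coe]
    constructor
    · rintro ⟨y, hy, rfl⟩
      exact ⟨y.2, hy⟩
    · rintro ⟨hxU, hxK⟩
      exact ⟨⟨x, hxU⟩, hxK, rfl⟩
  refine ⟨I.subscheme, I.subschemeι ≫ U.ι, inferInstance, hZaff, ?_, hrange⟩
  apply isAffineHom_of_forall_exists_isAffineOpen
  intro x
  obtain ⟨V, hV, hxV, h⟩ := hloc x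
  refine ⟨V, hxV, hV, ?_⟩
  have hmem : ∀ z : I.subscheme, (I.subschemeι ≫ U.ι) z ∈ (U : Set X) ∩ K := by
    intro z
    rw [← hrange]
    exact ⟨z, rfl⟩
  rcases h with h | h
  · have : (I.subschemeι ≫ U.ι) ⁻¹ᵁ V = ⊤ := by
      apply le_antisymm le_top
      intro z _
      exact h (hmem z)
    rw [this]
    exact isAffineOpen_top _
  · have : (I.subschemeι ≫ U.ι) ⁻¹ᵁ V = ⊥ := by
      apply le_antisymm _ bot_le
      intro z hz
      exact (Set.disjoint_left.mp h (hmem z) hz).elim
    rw [this]
    exact isAffineOpen_bot _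

theorem good_empty : Good X (∅ : Set X) := by
  have := good_of_closed_in_affine (X := X) ⊥ (isAffineOpen_bot X) ∅ isClosed_empty (by
    intro x
    obtain ⟨_, ⟨V, hV, rfl⟩, hxV, -⟩ :=
      X.isBasis_affineOpens.exists_subset_of_mem_open (Set.mem_univ x) isOpen_univ
    exact ⟨V, hV, hxV, Or.inl (by simp)⟩)
  simpa using this

/-- decomposability into good pieces, peeled off from the open side. -/
inductive Q (X : Scheme.{u}) : Set X → Prop
  | empty : Q X ∅
  | step (W F : Set X) : IsClosed F → Good X (W \ F) → Q X (W ∩ F) → Q X W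

theorem Q.of_good {T : Set X} (h : Good X T) : Q X T :=
  Q.step T ∅ isClosed_empty (by rwa [Set.diff_empty]) (by rw [Set.inter_empty]; exact Q.empty)

theorem Q.split {W F : Set X} (hF : IsClosed F) (h1 : Q X (W \ F)) (h2 : Q X (W ∩ F)) :
    Q X W := by
  generalize hA : W \ F = A at h1
  induction h1 generalizing W with
  | empty =>
    have : W ∩ F = W := Set.inter_eq_left.mpr (Set.diff_eq_empty.mp hA)
    rwa [this] at h2
  | step A F₁ hF₁ hgood hQ ih =>
    subst hA
    refine Q.step W (F ∪ F₁) (hF.union hF₁) ?_ ?_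
    · have : W \ (F ∪ F₁) = (W \ F) \ F₁ := by rw [Set.diff_diff]
      rw [this]
      exact hgood
    · apply ih
      · have : W ∩ (F ∪ F₁) ∩ F = W ∩ F := by
          ext x
          simp only [Set.mem_inter_iff, Set.mem_union]
          tauto
        rw [this]
        exact h2
      · ext x
        simp only [Set.mem_inter_iff, Set.mem_union, Set.mem_diff]
        tauto

/-- a stratification of the closed subset `W`. -/
def StratOn (X : Scheme.{u}) (W : Set X) (n : ℕ) : Prop :=
  ∃ s : X → Fin (n + 1), (∀ i : Fin (n + 1), IsClosed ({x : X | s x ≤ i} ∩ W)) ∧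
    ∀ i : Fin (n + 1), Good X ({x : X | s x = i} ∩ W)

theorem stratOn_of_Q {W : Set X} (h : Q X W) : IsClosed W → ∃ n, StratOn X W n := by
  induction h with
  | empty =>
    intro _
    refine ⟨0, fun _ => 0, fun i => ?_, fun i => ?_⟩
    · rw [Set.inter_empty]; exact isClosed_empty
    · rw [Set.inter_empty]; exact good_empty
  | step W F hF hgood hQ ih =>
    intro hW
    obtain ⟨n, s, hs, hstr⟩ := ih (hW.inter hF)
    classical
    refine ⟨n + 1, fun x => if x ∈ F then (s x).castSucc else Fin.last (n + 1),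
      fun i => ?_, fun i => ?_⟩
    · induction i using Fin.lastCases with
      | last =>
        have : {x : X | (if x ∈ F then (s x).castSucc else Fin.last (n + 1)) ≤
            Fin.last (n + 1)} ∩ W = W := by
          ext x
          simp [Fin.le_last]
        rw [this]
        exact hW
      | cast j =>
        have : {x : X | (if x ∈ F then (s x).castSucc else Fin.last (n + 1)) ≤
            j.castSucc} ∩ W = {x | s x ≤ j} ∩ (W ∩ F) := by
          ext x
          simp only [Set.mem_inter_iff, Set.mem_setOf_eq]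
          by_cases hx : x ∈ F
          · simp only [hx, if_true, Fin.castSucc_le_castSucc_iff, and_true]
          · simp only [hx, if_false, and_false, iff_false, not_and]
            intro h
            exact absurd h (not_le.mpr (Fin.castSucc_lt_last j))
        rw [this]
        exact hs j
    · induction i using Fin.lastCases with
      | last =>
        have : {x : X | (if x ∈ F then (s x).castSucc else Fin.last (n + 1)) =
            Fin.last (n + 1)} ∩ W = W \ F := by
          ext x
          simp only [Set.mem_inter_iff, Set.mem_setOf_eq, Set.mem_diff]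
          by_cases hx : x ∈ F
          · simp only [hx, if_true, not_true, and_false, iff_false, not_and]
            intro h
            exact absurd h (Fin.castSucc_lt_last _).ne
          · simp only [hx, if_false, true_and, not_false_iff, and_true]
        rw [this]
        exact hgood
      | cast j =>
        have : {x : X | (if x ∈ F then (s x).castSucc else Fin.last (n + 1)) =
            j.castSucc} ∩ W = {x | s x = j} ∩ (W ∩ F) := by
          ext x
          simp only [Set.mem_inter_iff, Set.mem_setOf_eq]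
          by_cases hx : x ∈ F
          · simp only [hx, if_true, Fin.castSucc_inj, and_true]
          · simp only [hx, if_false, and_false, iff_false, not_and]
            intro h
            exact absurd h (Fin.castSucc_lt_last j).ne'
        rw [this]
        exact hstr j

theorem hasAffineStratification_of_Q (h : Q X (Set.univ : Set X)) :
    ∃ n, MoreMor.HasAffineStratification X n := by
  obtain ⟨n, s, hs, hstr⟩ := stratOn_of_Q h isClosed_univ
  refine ⟨n, s, fun i => ?_, fun i => ?_⟩
  · have := hs i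
    rwa [Set.inter_univ] at this
  · have := hstr i
    rwa [Set.inter_univ] at this



section Cover
variable {ι : Type*} [Fintype ι] [DecidableEq ι] (U : ι → X.Opens)

open Classical in
/-- the set of charts containing a point -/
noncomputable def idx (x : X) : Finset ι := Finset.univ.filter (fun i => x ∈ U i)

theorem mem_idx (x : X) (i : ι) : i ∈ idx U x ↔ x ∈ U i := by
  simp [idx]

/-- points whose index set lies in `S`. -/
def FS (S : Finset (Finset ι)) : Set X := {x | idx U x ∈ S}

/-- points with index set exactly `J`. -/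
def L (J : Finset ι) : Set X := {x | idx U x = J}

/-- intersection of the charts in `J`. -/
def UJ (J : Finset ι) : Set X := ⋂ i ∈ J, (U i : Set X)

theorem mem_UJ (J : Finset ι) (x : X) : x ∈ UJ U J ↔ J ⊆ idx U x := by
  simp only [UJ, Set.mem_iInter, SetLike.mem_coe]
  constructor
  · intro h i hi
    exact (mem_idx U x i).mpr (h i hi)
  · intro h i hi
    exact (mem_idx U x i).mp (h hi)

theorem isOpen_UJ (J : Finset ι) : IsOpen (UJ U J) :=
  isOpen_biInter_finset fun i _ => (U i).2

theorem isClosed_FS (S : Finset (Finset ι)) (hS : ∀ J ∈ S, ∀ I : Finset ι, I ⊆ J → I ∈ S) :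
    IsClosed (FS U S) := by
  rw [← isOpen_compl_iff, isOpen_iff_forall_mem_open]
  intro x hx
  refine ⟨UJ U (idx U x), ?_, isOpen_UJ U _, (mem_UJ U _ x).mpr subset_rfl⟩
  intro y hy hyS
  exact hx (hS _ hyS _ ((mem_UJ U _ y).mp hy))

theorem isCompact_UJ [CompactSpace X] [QuasiSeparatedSpace X] (hU : ∀ i, IsAffineOpen (U i))
    (J : Finset ι) : IsCompact (UJ U J) := by
  induction J using Finset.induction_on with
  | empty => simpa [UJ] using isCompact_univ
  | insert a J _ ih =>
    have : UJ U (insert a J) = (U a : Set X) ∩ UJ U J := by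
      simp [UJ]
    rw [this]
    exact QuasiSeparatedSpace.inter_isCompact _ _ (U a).2 (hU a).isCompact (isOpen_UJ U J) ih

theorem exists_list [CompactSpace X] [QuasiSeparatedSpace X] (hU : ∀ i, IsAffineOpen (U i))
    (J : Finset ι) (j₀ : ι) (hj₀ : j₀ ∈ J) :
    ∃ fs : List Γ(X, U j₀), (∀ f ∈ fs, (X.basicOpen f : Set X) ⊆ UJ U J) ∧
      UJ U J ⊆ ⋃ f ∈ fs, (X.basicOpen f : Set X) := by
  refine (isCompact_UJ U hU J).induction_on
    (p := fun t => ∃ fs : List Γ(X, U j₀), (∀ f ∈ fs, (X.basicOpen f : Set X) ⊆ UJ U J) ∧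
      t ⊆ ⋃ f ∈ fs, (X.basicOpen f : Set X)) ?_ ?_ ?_ ?_
  · exact ⟨[], by simp, by simp⟩
  · rintro s t hst ⟨fs, h1, h2⟩
    exact ⟨fs, h1, hst.trans h2⟩
  · rintro s t ⟨fs, h1, h2⟩ ⟨gs, h3, h4⟩
    refine ⟨fs ++ gs, ?_, ?_⟩
    · intro f hf
      rcases List.mem_append.mp hf with h | h
      exacts [h1 f h, h3 f h]
    · rintro y (hy | hy)
      · obtain ⟨f, hf, hyf⟩ := Set.mem_iUnion₂.mp (h2 hy)
        exact Set.mem_iUnion₂.mpr ⟨f, List.mem_append_left _ hf, hyf⟩
      · obtain ⟨f, hf, hyf⟩ := Set.mem_iUnion₂.mp (h4 hy)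
        exact Set.mem_iUnion₂.mpr ⟨f, List.mem_append_right _ hf, hyf⟩
  · intro x hx
    let Vo : X.Opens := ⟨UJ U J, isOpen_UJ U J⟩
    have hxU : x ∈ U j₀ := (mem_idx U x j₀).mp (((mem_UJ U J x).mp hx) hj₀)
    obtain ⟨f, hfle, hxf⟩ := (hU j₀).exists_basicOpen_le (V := Vo) ⟨x, hx⟩ hxU
    refine ⟨(X.basicOpen f : Set X), mem_nhdsWithin_of_mem_nhds ((X.basicOpen f).2.mem_nhds hxf),
      [f], ?_, ?_⟩
    · intro g hg
      rw [List.mem_singleton] at hg
      subst hg
      exact hfle
    · intro y hy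
      exact Set.mem_iUnion₂.mpr ⟨f, List.mem_singleton.mpr rfl, hy⟩

theorem Q_list (hU : ∀ i, IsAffineOpen (U i)) (hcov : ∀ x : X, ∃ i, x ∈ U i)
    (J : Finset ι) (j₀ : ι) (hj₀ : j₀ ∈ J) :
    ∀ (fs : List Γ(X, U j₀)), (∀ f ∈ fs, (X.basicOpen f : Set X) ⊆ UJ U J) →
      ∀ G : Set X, IsClosed G → Q X (G ∩ L U J ∩ ⋃ f ∈ fs, (X.basicOpen f : Set X))
  | [], _, G, _ => by
    have : G ∩ L U J ∩ ⋃ f ∈ ([] : List Γ(X, U j₀)), (X.basicOpen f : Set X) = ∅ := by simp
    rw [this]
    exact Q.empty
  | f :: fs, hfs, G, hG => by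
    have hFcl : IsClosed ((X.basicOpen f : Set X)ᶜ) := (X.basicOpen f).2.isClosed_compl
    have hfU : (X.basicOpen f : Set X) ⊆ UJ U J := hfs f (List.mem_cons_self ..)
    refine Q.split hFcl ?_ ?_
    · -- the open part: a closed subset of the affine open `D(f)`
      let K : Set X := G ∩ ⋂ j : ι, ⋂ (_ : j ∉ J), ((U j : Set X))ᶜ
      have hK : IsClosed K :=
        hG.inter (isClosed_iInter fun j => isClosed_iInter fun _ => (U j).2.isClosed_compl)
      have hKmem : ∀ y : X, y ∈ K ↔ y ∈ G ∧ ∀ j, j ∉ J → y ∉ U j := by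
        intro y
        simp only [K, Set.mem_inter_iff, Set.mem_iInter, Set.mem_compl_iff, SetLike.mem_coe]
      have heq : (G ∩ L U J ∩ ⋃ g ∈ f :: fs, (X.basicOpen g : Set X)) \ (X.basicOpen f : Set X)ᶜ =
          (X.basicOpen f : Set X) ∩ K := by
        ext y
        simp only [Set.mem_diff, Set.mem_inter_iff, Set.mem_compl_iff, not_not, hKmem]
        constructor
        · rintro ⟨⟨⟨hyG, hyL⟩, -⟩, hyf⟩
          refine ⟨hyf, hyG, fun j hj hyj => hj ?_⟩
          have : idx U y = J := hyL
          rw [← this]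
          exact (mem_idx U y j).mpr hyj
        · rintro ⟨hyf, hyG, hyJ⟩
          refine ⟨⟨⟨hyG, ?_⟩, Set.mem_iUnion₂.mpr ⟨f, List.mem_cons_self .., hyf⟩⟩, hyf⟩
          change idx U y = J
          apply le_antisymm
          · intro j hj
            by_contra hjJ
            exact hyJ j hjJ ((mem_idx U y j).mp hj)
          · exact (mem_UJ U J y).mp (hfU hyf)
      rw [heq]
      apply Q.of_good
      apply good_of_closed_in_affine _ ((hU j₀).basicOpen f) K hK
      intro x
      obtain ⟨i, hi⟩ := hcov x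
      refine ⟨U i, hU i, hi, ?_⟩
      by_cases hiJ : i ∈ J
      · left
        intro y hy
        exact (mem_idx U y i).mp (((mem_UJ U J y).mp (hfU hy.1)) hiJ)
      · right
        rw [Set.disjoint_left]
        intro y hy hyi
        exact ((hKmem y).mp hy.2).2 i hiJ hyi
    · have := Q_list hU hcov J j₀ hj₀ fs (fun g hg => hfs g (List.mem_cons_of_mem _ hg))
        (G ∩ (X.basicOpen f : Set X)ᶜ) (hG.inter hFcl)
      convert this using 1
      ext y
      simp only [Set.mem_inter_iff, Set.mem_compl_iff, Set.mem_iUnion₂, List.mem_cons]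
      constructor
      · rintro ⟨⟨⟨hyG, hyL⟩, ⟨g, hg, hyg⟩⟩, hyf⟩
        refine ⟨⟨⟨hyG, hyf⟩, hyL⟩, ?_⟩
        rcases hg with rfl | hg
        · exact absurd hyg hyf
        · exact ⟨g, hg, hyg⟩
      · rintro ⟨⟨⟨hyG, hyf⟩, hyL⟩, ⟨g, hg, hyg⟩⟩
        exact ⟨⟨⟨hyG, hyL⟩, ⟨g, Or.inr hg, hyg⟩⟩, hyf⟩

theorem Q_L [CompactSpace X] [QuasiSeparatedSpace X] (hU : ∀ i, IsAffineOpen (U i))
    (hcov : ∀ x : X, ∃ i, x ∈ U i) (J : Finset ι) : Q X (L U J) := by
  by_cases hJ : J.Nonempty
  · obtain ⟨j₀, hj₀⟩ := hJ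
    obtain ⟨fs, h1, h2⟩ := exists_list U hU J j₀ hj₀
    have := Q_list U hU hcov J j₀ hj₀ fs h1 Set.univ isClosed_univ
    convert this using 1
    ext y
    simp only [Set.mem_inter_iff, Set.mem_univ, true_and]
    constructor
    · intro hy
      refine ⟨hy, h2 ((mem_UJ U J y).mpr ?_)⟩
      have : idx U y = J := hy
      rw [this]
    · exact fun h => h.1
  · rw [Finset.not_nonempty_iff_eq_empty] at hJ
    subst hJ
    have : L U (∅ : Finset ι) = ∅ := by
      ext y
      simp only [L, Set.mem_setOf_eq, Set.mem_empty_iff_false, iff_false]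
      intro h
      obtain ⟨i, hi⟩ := hcov y
      have := (mem_idx U y i).mpr hi
      rw [h] at this
      simp at this
    rw [this]
    exact Q.empty

theorem Q_FS [CompactSpace X] [QuasiSeparatedSpace X] (hU : ∀ i, IsAffineOpen (U i))
    (hcov : ∀ x : X, ∃ i, x ∈ U i) :
    ∀ (k : ℕ) (S : Finset (Finset ι)), S.card = k →
      (∀ J ∈ S, ∀ I : Finset ι, I ⊆ J → I ∈ S) → Q X (FS U S) := by
  intro k
  induction k with
  | zero =>
    intro S hS _
    rw [Finset.card_eq_zero] at hS
    subst hS
    have : FS U (∅ : Finset (Finset ι)) = ∅ := by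
      ext y; simp [FS]
    rw [this]
    exact Q.empty
  | succ k ih =>
    intro S hS hdown
    have hne : S.Nonempty := by
      rw [← Finset.card_pos]; omega
    obtain ⟨J, hJS, hJmax⟩ := S.exists_maximal hne
    have hdown' : ∀ K ∈ S.erase J, ∀ I : Finset ι, I ⊆ K → I ∈ S.erase J := by
      intro K hK I hIK
      rw [Finset.mem_erase] at hK ⊢
      refine ⟨?_, hdown K hK.2 I hIK⟩
      rintro rfl
      exact hK.1 (le_antisymm (hJmax hK.2 hIK) hIK)
    have hcl : IsClosed (FS U (S.erase J)) := isClosed_FS U _ hdown'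
    refine Q.split hcl ?_ ?_
    · have : FS U S \ FS U (S.erase J) = L U J := by
        ext y
        simp only [FS, L, Set.mem_diff, Set.mem_setOf_eq, Finset.mem_erase, not_and]
        constructor
        · rintro ⟨h1, h2⟩
          by_contra hne
          exact h2 hne h1
        · rintro rfl
          exact ⟨hJS, fun h => (h rfl).elim⟩
      rw [this]
      exact Q_L U hU hcov J
    · have : FS U S ∩ FS U (S.erase J) = FS U (S.erase J) := by
        apply Set.inter_eq_right.mpr
        intro y hy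
        exact Finset.mem_of_mem_erase hy
      rw [this]
      exact ih _ (by rw [Finset.card_erase_of_mem hJS, hS]; rfl) hdown'

theorem Q_univ [CompactSpace X] [QuasiSeparatedSpace X] (hU : ∀ i, IsAffineOpen (U i))
    (hcov : ∀ x : X, ∃ i, x ∈ U i) : Q X (Set.univ : Set X) := by
  have := Q_FS U hU hcov _ (Finset.univ : Finset (Finset ι)) rfl (fun _ _ _ _ => Finset.mem_univ _)
  convert this using 1
  ext y
  simp [FS]

end Cover

theorem exists_hasAffineStratification [CompactSpace X] [QuasiSeparatedSpace X] :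
    ∃ n, MoreMor.HasAffineStratification X n := by
  classical
  have hV : ∀ x : X, ∃ V : X.Opens, IsAffineOpen V ∧ x ∈ V := by
    intro x
    obtain ⟨_, ⟨V, hV, rfl⟩, hxV, -⟩ :=
      X.isBasis_affineOpens.exists_subset_of_mem_open (Set.mem_univ x) isOpen_univ
    exact ⟨V, hV, hxV⟩
  choose V hV hxV using hV
  obtain ⟨t, ht⟩ := CompactSpace.elim_nhds_subcover (fun x => ((V x : X.Opens) : Set X))
    (fun x => (V x).2.mem_nhds (hxV x))
  apply hasAffineStratification_of_Q
  apply Q_univ (ι := ↥t) (fun i => V i.1) (fun i => hV i.1)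
  intro x
  have : x ∈ ⋃ y ∈ t, ((V y : X.Opens) : Set X) := by rw [ht]; trivial
  obtain ⟨y, hy, hxy⟩ := Set.mem_iUnion₂.mp this
  exact ⟨⟨y, hy⟩, hxy⟩

theorem s1435 (X : Scheme.{u}) :
    (∃ n : ℕ, MoreMor.HasAffineStratification X n) ↔ CompactSpace ↑X ∧ QuasiSeparatedSpace ↑X := by
  constructor
  · rintro ⟨n, hn⟩
    exact ⟨Groth.Agent.LD.AS.compactSpace_of_hasAffineStratification n hn,
      Groth.Agent.LD.AS.quasiSeparatedSpace_of_hasAffineStratification n hn⟩
  · rintro ⟨h1, h2⟩
    exact exists_hasAffineStratification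

end Groth.Agent.H1.AffStrat
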