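import Mathlib
import Groth.Prelude.Def_MoreMor
import Groth.Agent.Lib.Helper1.AffStratA

set_option autoImplicit false
universe u
open AlgebraicGeometry CategoryTheory Limits TopologicalSpace

namespace Groth.Agent.H1.AffStratDim
open Groth.Agent.H1.AffStrat

variable {X : Scheme.{u}}

theorem step (U : X.Opens) (hU : IsAffineOpen U) (hUa : IsAffineHom U.ι) {Z : Scheme.{u}}
    (i : Z ⟶ X) [IsClosedImmersion i] (hr : Set.range i = ((U : Set X))ᶜ) (n : ℕ)
    (hZ : MoreMor.HasAffineStratification Z n) : MoreMor.HasAffineStratification X (n + 1) := by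
  classical
  obtain ⟨s, hs, hstr⟩ := hZ
  have hinj : Function.Injective i := i.isClosedEmbedding.injective
  have hex : ∀ x : X, x ∉ U → ∃ z : Z, i z = x := by
    intro x hx
    have : x ∈ Set.range i := by rw [hr]; exact hx
    exact this
  let s' : X → Fin (n + 2) := fun x =>
    if h : x ∈ U then Fin.last (n + 1) else (s (hex x h).choose).castSucc
  have hs'U : ∀ x, x ∈ U → s' x = Fin.last (n + 1) := fun x hx => by simp [s', hx]
  have hs'Z : ∀ z : Z, s' (i z) = (s z).castSucc := by
    intro z
    have hz : i z ∉ U := by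
      have : i z ∈ Set.range i := ⟨z, rfl⟩
      rw [hr] at this
      exact this
    simp only [s', hz, dif_neg, not_false_iff]
    congr 2
    exact hinj (hex (i z) hz).choose_spec
  refine ⟨s', fun a => ?_, fun a => ?_⟩
  · induction a using Fin.lastCases with
    | last =>
      have : {x : X | s' x ≤ Fin.last (n + 1)} = Set.univ := by
        ext x
        simp [Fin.le_last]
      rw [this]
      exact isClosed_univ
    | cast j =>
      have : {x : X | s' x ≤ j.castSucc} = i '' {z | s z ≤ j} := by
        ext x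
        simp only [Set.mem_setOf_eq, Set.mem_image]
        constructor
        · intro hx
          by_cases hxU : x ∈ U
          · rw [hs'U x hxU] at hx
            exact absurd hx (not_le.mpr (Fin.castSucc_lt_last j))
          · obtain ⟨z, rfl⟩ := hex x hxU
            rw [hs'Z, Fin.castSucc_le_castSucc_iff] at hx
            exact ⟨z, hx, rfl⟩
        · rintro ⟨z, hz, rfl⟩
          rw [hs'Z, Fin.castSucc_le_castSucc_iff]
          exact hz
      rw [this]
      exact i.isClosedEmbedding.isClosedMap _ (hs j)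
  · induction a using Fin.lastCases with
    | last =>
      refine ⟨U, U.ι, inferInstance, hU, hUa, ?_⟩
      rw [Scheme.Opens.range_ι]
      ext x
      simp only [SetLike.mem_coe, Set.mem_setOf_eq]
      constructor
      · exact hs'U x
      · intro hx
        by_contra hxU
        obtain ⟨z, rfl⟩ := hex x hxU
        rw [hs'Z] at hx
        exact (Fin.castSucc_lt_last _).ne hx
    | cast j =>
      obtain ⟨T, τ, h1, h2, h3, h4⟩ := hstr j
      haveI := h1
      haveI := h3
      refine ⟨T, τ ≫ i, inferInstance, h2, inferInstance, ?_⟩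
      rw [Scheme.Hom.comp_base, TopCat.coe_comp, Set.range_comp, h4]
      ext x
      simp only [Set.mem_image, Set.mem_setOf_eq]
      constructor
      · rintro ⟨z, hz, rfl⟩
        rw [hs'Z, hz]
      · intro hx
        by_cases hxU : x ∈ U
        · rw [hs'U x hxU] at hx
          exact absurd hx (Fin.castSucc_lt_last j).ne'
        · obtain ⟨z, rfl⟩ := hex x hxU
          rw [hs'Z, Fin.castSucc_inj] at hx
          exact ⟨z, hx, rfl⟩

theorem exists_longer (U : X.Opens)
    (hdense : ∀ C ∈ irreducibleComponents X, ¬ C ⊆ ((U : Set X))ᶜ)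
    {Z : Scheme.{u}} (i : Z ⟶ X) [IsClosedImmersion i] (hr : Set.range i = ((U : Set X))ᶜ)
    (p : LTSeries (IrreducibleCloseds Z)) :
    ∃ q : LTSeries (IrreducibleCloseds X), q.length = p.length + 1 := by
  have hind : Topology.IsInducing i := i.isClosedEmbedding.isInducing
  let q₀ := p.map (IrreducibleCloseds.map i hind.continuous)
    (IrreducibleCloseds.map_strictMono_of_isInducing hind)
  have hlast : ((q₀.last : IrreducibleCloseds X) : Set X) ⊆ ((U : Set X))ᶜ := by
    rw [LTSeries.last_map, IrreducibleCloseds.coe_map, ← hr]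
    exact closure_minimal (Set.image_subset_range _ _) i.isClosedEmbedding.isClosed_range
  obtain ⟨C, hC, hsub⟩ :=
    exists_mem_irreducibleComponents_subset_of_isIrreducible _ q₀.last.isIrreducible
  let C' : IrreducibleCloseds X := ⟨C, hC.1, isClosed_of_mem_irreducibleComponents C hC⟩
  have hle : q₀.last ≤ C' := fun x hx => hsub hx
  have hlt : q₀.last < C' := by
    refine lt_of_le_of_ne hle ?_
    intro h
    apply hdense C hC
    have h2 : (C' : Set X) = C := rfl
    rw [← h2, ← h]
    exact hlast
  exact ⟨q₀.snoc C' hlt, by simp [q₀]⟩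

theorem dim_closed_le (U : X.Opens)
    (hdense : ∀ C ∈ irreducibleComponents X, ¬ C ⊆ ((U : Set X))ᶜ)
    {Z : Scheme.{u}} (i : Z ⟶ X) [IsClosedImmersion i] (hr : Set.range i = ((U : Set X))ᶜ)
    (d : ℕ) (hd : topologicalKrullDim X ≤ ((d + 1 : ℕ) : WithBot ℕ∞)) :
    topologicalKrullDim Z ≤ ((d : ℕ) : WithBot ℕ∞) := by
  unfold topologicalKrullDim Order.krullDim
  apply iSup_le
  intro p
  obtain ⟨q, hq⟩ := exists_longer U hdense i hr p
  have h1 : ((q.length : ℕ) : WithBot ℕ∞) ≤ ((d + 1 : ℕ) : WithBot ℕ∞) :=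
    (Order.LTSeries.length_le_krullDim q).trans hd
  rw [hq] at h1
  have h2 : p.length + 1 ≤ d + 1 := by exact_mod_cast h1
  exact_mod_cast Nat.le_of_succ_le_succ h2

theorem isEmpty_closed (U : X.Opens)
    (hdense : ∀ C ∈ irreducibleComponents X, ¬ C ⊆ ((U : Set X))ᶜ)
    {Z : Scheme.{u}} (i : Z ⟶ X) [IsClosedImmersion i] (hr : Set.range i = ((U : Set X))ᶜ)
    (hd : topologicalKrullDim X ≤ ((0 : ℕ) : WithBot ℕ∞)) : IsEmpty Z := by
  by_contra hne
  rw [not_isEmpty_iff] at hne
  obtain ⟨z⟩ := hne
  let c : IrreducibleCloseds Z :=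
    ⟨closure {z}, isIrreducible_singleton.closure, isClosed_closure⟩
  let p₀ : LTSeries (IrreducibleCloseds Z) := RelSeries.singleton _ c
  obtain ⟨q, hq⟩ := exists_longer U hdense i hr p₀
  have h1 : ((q.length : ℕ) : WithBot ℕ∞) ≤ ((0 : ℕ) : WithBot ℕ∞) :=
    (Order.LTSeries.length_le_krullDim q).trans hd
  rw [hq] at h1
  have h2 : p₀.length + 1 ≤ 0 := by exact_mod_cast h1
  omega

theorem exists_dense_affine [IsNoetherian X] :
    ∃ U : X.Opens, IsAffineOpen U ∧ IsAffineHom U.ι ∧
      ∀ C ∈ irreducibleComponents X, ¬ C ⊆ ((U : Set X))ᶜ := by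
  classical
  have hV : ∀ x : X, ∃ V : X.Opens, IsAffineOpen V ∧ x ∈ V := by
    intro x
    obtain ⟨_, ⟨V, hV, rfl⟩, hxV, -⟩ :=
      X.isBasis_affineOpens.exists_subset_of_mem_open (Set.mem_univ x) isOpen_univ
    exact ⟨V, hV, hxV⟩
  choose V hV hxV using hV
  obtain ⟨t, ht⟩ := CompactSpace.elim_nhds_subcover (fun x => ((V x : X.Opens) : Set X))
    (fun x => (V x).2.mem_nhds (hxV x))
  have hcov : ∀ x : X, ∃ y ∈ t, x ∈ V y := by
    intro x
    have : x ∈ ⋃ y ∈ t, ((V y : X.Opens) : Set X) := by rw [ht]; trivial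
    obtain ⟨y, hy, hxy⟩ := Set.mem_iUnion₂.mp this
    exact ⟨y, hy, hxy⟩
  have hfin : (irreducibleComponents X).Finite :=
    TopologicalSpace.NoetherianSpace.finite_irreducibleComponents
  haveI : Finite ↥(irreducibleComponents X) := hfin.to_subtype
  have hgen : ∀ C : ↥(irreducibleComponents X), ∃ η : X, IsGenericPoint η (C : Set X) :=
    fun C => QuasiSober.sober C.2.1 (isClosed_of_mem_irreducibleComponents _ C.2)
  choose η hη using hgen
  let O : ↥(irreducibleComponents X) → Set X := fun C =>
    (⋃ C' : {C' : ↥(irreducibleComponents X) // C' ≠ C}, (C'.1 : Set X))ᶜ ∩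
      ⋂ y ∈ t, ⋂ (_ : η C ∈ V y), (V y : Set X)
  have hOopen : ∀ C, IsOpen (O C) := by
    intro C
    refine IsOpen.inter ?_ ?_
    · rw [isOpen_compl_iff]
      exact isClosed_iUnion_of_finite fun C' => isClosed_of_mem_irreducibleComponents _ C'.1.2
    · exact isOpen_biInter_finset fun y _ => isOpen_iInter_of_finite fun _ => (V y).2
  have hηO : ∀ C, η C ∈ O C := by
    intro C
    refine ⟨?_, ?_⟩
    · rw [Set.mem_compl_iff, Set.mem_iUnion]
      rintro ⟨⟨C', hne⟩, hmem⟩
      apply hne
      have hsub : (C : Set X) ⊆ (C' : Set X) := by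
        rw [← (hη C).def]
        exact closure_minimal (Set.singleton_subset_iff.mpr hmem)
          (isClosed_of_mem_irreducibleComponents _ C'.2)
      exact Subtype.ext (le_antisymm (C.2.2 C'.2.1 hsub) hsub)
    · simp only [Set.mem_iInter]
      intro y _ h
      exact h
  have hW : ∀ C, ∃ W : X.Opens, IsAffineOpen W ∧ η C ∈ W ∧ (W : Set X) ⊆ O C := by
    intro C
    obtain ⟨_, ⟨W, hW, rfl⟩, hxW, hWO⟩ :=
      X.isBasis_affineOpens.exists_subset_of_mem_open (hηO C) (hOopen C)
    exact ⟨W, hW, hxW, hWO⟩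
  choose W hWaff hηW hWO using hW
  have honly : ∀ C (y : X), y ∈ W C → ∀ C' : ↥(irreducibleComponents X),
      y ∈ (C' : Set X) → C' = C := by
    intro C y hy C' hyC'
    by_contra hne
    exact (hWO C hy).1 (Set.mem_iUnion.mpr ⟨⟨C', hne⟩, hyC'⟩)
  have hWC : ∀ C (y : X), y ∈ W C → y ∈ (C : Set X) := by
    intro C y hy
    have h1 := irreducibleComponent_mem_irreducibleComponents y
    have := honly C y hy ⟨irreducibleComponent y, h1⟩ mem_irreducibleComponent
    rw [← this]
    exact mem_irreducibleComponent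
  have hdisj : Pairwise (Function.onFun Disjoint W) := by
    intro C C' hne
    change Disjoint (W C) (W C')
    rw [disjoint_iff]
    apply le_antisymm _ bot_le
    rintro y ⟨hy, hy'⟩
    exact (hne (honly C' y hy' C (hWC C y hy))).elim
  refine ⟨⨆ C, W C, IsAffineOpen.iSup_of_disjoint hWaff hdisj, ?_, ?_⟩
  · apply isAffineHom_of_forall_exists_isAffineOpen
    intro x
    obtain ⟨y, hyt, hxy⟩ := hcov x
    refine ⟨V y, hxy, hV y, ?_⟩
    rw [← (⨆ C, W C).ι.isAffineOpen_iff_of_isOpenImmersion,
      Scheme.Hom.image_preimage_eq_opensRange_inf, Scheme.Opens.opensRange_ι]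
    have : (⨆ C, W C) ⊓ V y = ⨆ C, (if η C ∈ V y then W C else ⊥) := by
      ext z
      simp only [Opens.coe_inf, Opens.coe_iSup, Set.mem_inter_iff, Set.mem_iUnion,
        SetLike.mem_coe]
      constructor
      · rintro ⟨⟨C, hzC⟩, hzV⟩
        refine ⟨C, ?_⟩
        have hηV : η C ∈ V y :=
          ((hη C).specializes (hWC C z hzC)).mem_open (V y).2 hzV
        rw [if_pos hηV]
        exact hzC
      · rintro ⟨C, hzC⟩
        by_cases hηV : η C ∈ V y
        · rw [if_pos hηV] at hzC
          refine ⟨⟨C, hzC⟩, ?_⟩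
          have := (hWO C hzC).2
          simp only [Set.mem_iInter] at this
          exact this y hyt hηV
        · rw [if_neg hηV] at hzC
          exact absurd hzC (by simp)
    rw [this]
    apply IsAffineOpen.iSup_of_disjoint
    · intro C
      split_ifs
      exacts [hWaff C, isAffineOpen_bot X]
    · intro C C' hne
      change Disjoint (if η C ∈ V y then W C else ⊥) (if η C' ∈ V y then W C' else ⊥)
      split_ifs
      · exact hdisj hne
      · exact disjoint_bot_right
      · exact disjoint_bot_left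
      · exact disjoint_bot_left
  · intro C hC hsub
    have h1 : η ⟨C, hC⟩ ∈ (⨆ C, W C : X.Opens) := Opens.mem_iSup.mpr ⟨⟨C, hC⟩, hηW _⟩
    exact hsub (hη ⟨C, hC⟩).mem h1

theorem s1437_aux : ∀ (d : ℕ) (X : Scheme.{u}) [IsNoetherian X],
    topologicalKrullDim X ≤ ((d : ℕ) : WithBot ℕ∞) → MoreMor.HasAffineStratification X d := by
  intro d
  induction d with
  | zero =>
    intro X _ hd
    obtain ⟨U, hU, hUa, hdense⟩ := exists_dense_affine (X := X)
    let Cl : Closeds X := ⟨((U : Set X))ᶜ, U.2.isClosed_compl⟩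
    let I := Scheme.IdealSheafData.vanishingIdeal Cl
    have hr : Set.range I.subschemeι = ((U : Set X))ᶜ := by
      rw [I.range_subschemeι, Scheme.IdealSheafData.coe_support_vanishingIdeal]
      rfl
    haveI : IsEmpty I.subscheme := isEmpty_closed U hdense I.subschemeι hr hd
    have hUtop : ∀ x : X, x ∈ U := by
      intro x
      by_contra hx
      have : x ∈ Set.range I.subschemeι := by rw [hr]; exact hx
      obtain ⟨z, -⟩ := this
      exact isEmptyElim z
    refine ⟨fun _ => 0, fun i => ?_, fun i => ?_⟩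
    · have : {x : X | (0 : Fin (0 + 1)) ≤ i} = Set.univ := by
        ext x
        simp
      rw [this]
      exact isClosed_univ
    · refine ⟨U, U.ι, inferInstance, hU, hUa, ?_⟩
      rw [Scheme.Opens.range_ι]
      ext x
      simp only [SetLike.mem_coe, Set.mem_setOf_eq]
      exact ⟨fun _ => (Fin.fin_one_eq_zero i).symm, fun _ => hUtop x⟩
  | succ d ih =>
    intro X _ hd
    obtain ⟨U, hU, hUa, hdense⟩ := exists_dense_affine (X := X)
    let Cl : Closeds X := ⟨((U : Set X))ᶜ, U.2.isClosed_compl⟩
    let I := Scheme.IdealSheafData.vanishingIdeal Cl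
    have hr : Set.range I.subschemeι = ((U : Set X))ᶜ := by
      rw [I.range_subschemeι, Scheme.IdealSheafData.coe_support_vanishingIdeal]
      rfl
    haveI : IsLocallyNoetherian I.subscheme := LocallyOfFiniteType.isLocallyNoetherian I.subschemeι
    haveI : CompactSpace I.subscheme := I.subschemeι.isClosedEmbedding.compactSpace
    haveI : IsNoetherian I.subscheme := {}
    have hdZ := dim_closed_le U hdense I.subschemeι hr d hd
    exact step U hU hUa I.subschemeι hr d (ih I.subscheme hdZ)

theorem s1437 (X : Scheme.{u}) [IsNoetherian X] (d : ℕ) (hd : topologicalKrullDim ↑X = d) :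
    MoreMor.HasAffineStratification X d :=
  s1437_aux d X (by rw [hd])

end Groth.Agent.H1.AffStratDim
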