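import Mathlib
import Groth.Prelude.Def_Dual3
import Groth.Agent.Lib.Helper1.ClosureDim
import Groth.Agent.Lib.Helper1.DimFormula
import Groth.Agent.Lib.Helper1.DimIneqE
import Groth.Agent.Lib.Helper1.DimIneqF

/-! # Finiteness of fibres all of whose points have algebraic residue fields. -/

set_option autoImplicit false
set_option linter.style.haveILetI false
universe u
open CategoryTheory AlgebraicGeometry

namespace Groth.Agent.H1.AlgFibFin

/-- a point whose closure has dimension zero is closed (in a `T0` space). -/
theorem isClosed_singleton_of_dim_closure_eq_zero {T : Type*} [TopologicalSpace T] [T0Space T]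
    (z : T) (hz : topologicalKrullDim ↥(closure ({z} : Set T)) = 0) : IsClosed ({z} : Set T) := by
  rw [← closure_eq_iff_isClosed]
  apply Set.Subset.antisymm _ subset_closure
  intro z' hz'
  by_contra hne
  have hne' : z' ≠ z := hne
  have h1 : (1 : WithBot ℕ∞) ≤ topologicalKrullDim ↥(closure ({z} : Set T)) := by
    unfold topologicalKrullDim
    rw [Order.one_le_krullDim_iff]
    let A : TopologicalSpace.IrreducibleCloseds ↥(closure ({z} : Set T)) :=
      ⟨closure {⟨z', hz'⟩}, isIrreducible_singleton.closure, isClosed_closure⟩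
    let B : TopologicalSpace.IrreducibleCloseds ↥(closure ({z} : Set T)) :=
      ⟨closure {⟨z, subset_closure rfl⟩}, isIrreducible_singleton.closure, isClosed_closure⟩
    refine ⟨A, B, ?_⟩
    have hsp : (⟨z, subset_closure rfl⟩ : ↥(closure ({z} : Set T))) ⤳ ⟨z', hz'⟩ := by
      refine (Topology.IsInducing.subtypeVal.specializes_iff).1 ?_
      exact specializes_iff_mem_closure.2 hz'
    have hAB : A ≤ B := by
      change closure _ ⊆ closure _
      exact closure_minimal (Set.singleton_subset_iff.2 (specializes_iff_mem_closure.1 hsp))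
        isClosed_closure
    refine lt_of_le_of_ne hAB ?_
    intro hEq
    have : (⟨z, subset_closure rfl⟩ : ↥(closure ({z} : Set T))) ∈
        closure ({⟨z', hz'⟩} : Set ↥(closure ({z} : Set T))) := by
      have h2 : (⟨z, subset_closure rfl⟩ : ↥(closure ({z} : Set T))) ∈ (B : Set _) :=
        subset_closure rfl
      rw [← hEq] at h2
      exact h2
    have hsp' : (⟨z', hz'⟩ : ↥(closure ({z} : Set T))) ⤳ ⟨z, subset_closure rfl⟩ :=
      specializes_iff_mem_closure.2 this
    have h3 : z' ⤳ z := hsp'.map continuous_subtype_val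
    have h4 : z ⤳ z' := specializes_iff_mem_closure.2 hz'
    exact hne' (h3.antisymm h4).eq
  rw [hz] at h1
  exact absurd h1 (by decide)

/-- a Noetherian quasi-sober space all of whose points are closed is finite. -/
theorem finite_of_forall_isClosed_singleton {T : Type*} [TopologicalSpace T]
    [TopologicalSpace.NoetherianSpace T] [QuasiSober T]
    (H : ∀ z : T, IsClosed ({z} : Set T)) : Finite T := by
  have hfin := TopologicalSpace.NoetherianSpace.finite_irreducibleComponents (α := T)
  have hsub : (Set.univ : Set T) ⊆ ⋃ Z ∈ irreducibleComponents T,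
      {z | IsGenericPoint z Z} := by
    intro z _
    obtain ⟨Z, hZ, hzZ⟩ := exists_mem_irreducibleComponents_subset_of_isIrreducible
      ({z} : Set T) isIrreducible_singleton
    have hZirr : IsIrreducible Z := hZ.1
    have hZcl : IsClosed Z := isClosed_of_mem_irreducibleComponents Z hZ
    obtain ⟨g, hg⟩ := QuasiSober.sober hZirr hZcl
    have hgZ : Z = {g} := by
      rw [← hg.def, (H g).closure_eq]
    have : z = g := by
      have := hzZ (Set.mem_singleton z)
      rw [hgZ] at this
      exact this
    simp only [Set.mem_iUnion]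
    exact ⟨Z, hZ, by rw [this]; exact hg⟩
  have hfin2 : (⋃ Z ∈ irreducibleComponents T, {z | IsGenericPoint z Z}).Finite := by
    apply hfin.biUnion
    intro Z hZ
    apply Set.Subsingleton.finite
    intro a ha b hb
    have ha' : IsGenericPoint a Z := ha
    have hb' : IsGenericPoint b Z := hb
    have hab : closure ({a} : Set T) = closure {b} := by rw [ha'.def, hb'.def]
    rw [(H a).closure_eq, (H b).closure_eq] at hab
    exact Set.singleton_eq_singleton_iff.1 hab
  exact Set.finite_univ_iff.1 (hfin2.subset hsub)

open Groth.Agent.H1.DimFormula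

variable {X S : Scheme.{u}}

theorem isClosed_singleton_asFiber (h : X ⟶ S) [LocallyOfFiniteType h] (x : X)
    (halg : Dual3.resTrdeg h x = 0) : IsClosed ({h.asFiber x} : Set (h.fiber (h x))) := by
  obtain ⟨t, ht1, ht2⟩ := Groth.Agent.H1.ClosureDim.exists_trdeg_eq_dim_closure
    (k := S.residueField (h x)) (h.fiberToSpecResidueField (h x)) (h.asFiber x)
  obtain ⟨e⟩ := exists_residueField_fiber_equiv h x
  letI a1 := (h.residueFieldMap x).hom.toAlgebra
  letI a2 := (toResidueField (k := S.residueField (h x))
      (h.fiberToSpecResidueField (h x)) (h.asFiber x)).hom.toAlgebra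
  have h1 := e.trdeg_eq
  have h2 : Algebra.trdeg (S.residueField (h x)) (X.residueField x) = 0 := halg
  rw [h2] at h1
  rw [← h1] at ht1
  have ht0 : t = 0 := by exact_mod_cast ht1.symm
  subst ht0
  exact isClosed_singleton_of_dim_closure_eq_zero _ ht2

theorem isClosed_singleton_fiberHomeo_symm (h : X ⟶ S) [LocallyOfFiniteType h] (s : S) (x : X)
    (hx : h x = s) (halg : Dual3.resTrdeg h x = 0) :
    IsClosed ({(h.fiberHomeo s).symm ⟨x, hx⟩} : Set (h.fiber s)) := by
  subst hx
  exact isClosed_singleton_asFiber h x halg

theorem finite_preimage_singleton_of_resTrdeg_eq_zero (h : X ⟶ S) [LocallyOfFiniteType h]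
    [QuasiCompact h] (s : S) (H : ∀ x : X, h x = s → Dual3.resTrdeg h x = 0) :
    (h ⁻¹' {s}).Finite := by
  haveI : IsLocallyNoetherian (h.fiber s) :=
    LocallyOfFiniteType.isLocallyNoetherian (h.fiberToSpecResidueField s)
  haveI : IsNoetherian (h.fiber s) := {}
  haveI : Finite (h.fiber s) := by
    apply finite_of_forall_isClosed_singleton
    intro z
    have h1 := isClosed_singleton_fiberHomeo_symm h s (h.fiberHomeo s z).1 (h.fiberHomeo s z).2
      (H _ (h.fiberHomeo s z).2)
    have h2 : (h.fiberHomeo s).symm ⟨(h.fiberHomeo s z).1, (h.fiberHomeo s z).2⟩ = z :=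
      (h.fiberHomeo s).symm_apply_apply z
    rw [h2] at h1
    exact h1
  haveI : Finite ↥(h ⁻¹' {s}) := (h.fiberHomeo s).finite_iff.1 inferInstance
  exact Set.toFinite _

end Groth.Agent.H1.AlgFibFin
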