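import Mathlib
import Groth.Agent.Lib.Helper1.AlgSpBC
import Groth.Agent.Lib.Helper1.Chev2

/-! The quasi-finite locus of a morphism of algebraic spaces. -/

set_option autoImplicit false
universe u
open CategoryTheory CategoryTheory.Limits AlgebraicGeometry MorphismProperty Topology

namespace Groth.Agent.H1.AlgSpDim
open _root_.AlgSp Groth.Agent.H5.EtSrc Groth.Agent.H5.AlgSp

variable {S : Scheme.{u}} {F G H : Sp S}

/-- Pointwise-equivalent predicates (on morphisms locally of finite type) give the same `HasAtMor`. -/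
theorem hasAtMor_congr {Q₁ Q₂ : ∀ (U V : Scheme.{u}), (U ⟶ V) → ↥U → Prop} {f : F ⟶ G}
    (hf : LocP @LocallyOfFiniteType f)
    (hQ : ∀ ⦃U V : Scheme.{u}⦄ (h : U ⟶ V) (u : U), LocallyOfFiniteType h → (Q₁ _ _ h u ↔ Q₂ _ _ h u))
    (x : Points F) : HasAtMor Q₁ f x ↔ HasAtMor Q₂ f x := by
  constructor
  · rintro ⟨U, V, a, b, h, u, ha, hb, comm, hu, hq⟩
    exact ⟨U, V, a, b, h, u, ha, hb, comm, hu, (hQ h.left u (hf a b h ha hb comm)).1 hq⟩
  · rintro ⟨U, V, a, b, h, u, ha, hb, comm, hu, hq⟩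
    exact ⟨U, V, a, b, h, u, ha, hb, comm, hu, (hQ h.left u (hf a b h ha hb comm)).2 hq⟩

/-- `dim_x X_{f x} ≤ 0` iff `f` is locally quasi-finite on an open neighbourhood of `x`. -/
theorem fibreDimAt_le_zero_iff_exists_opens {X Y : Scheme.{u}} (h : X ⟶ Y) [LocallyOfFiniteType h]
    (u : X) : FlatMor.fibreDimAt h u ≤ ((0 : ℕ) : WithBot ℕ∞) ↔
      ∃ W : X.Opens, u ∈ W ∧ LocallyQuasiFinite (W.ι ≫ h) ∧ LocallyOfFiniteType (W.ι ≫ h) := by
  constructor
  · intro hu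
    refine ⟨⟨{x | FlatMor.fibreDimAt h x ≤ ((0 : ℕ) : WithBot ℕ∞)},
      Groth.Agent.H1.Chev.isOpen_fibreDimAt_le h 0⟩, hu, ?_, inferInstance⟩
    apply Groth.Agent.H1.QFDim.locallyQuasiFinite_of_forall_quasiFiniteAt
    intro x
    rw [Scheme.Hom.quasiFiniteAt_comp_iff_of_isOpenImmersion,
      ← Groth.Agent.H1.QFDim.fibreDimAt_eq_zero_iff]
    exact le_antisymm x.2 (Groth.Agent.H1.Chev.zero_le_fibreDimAt h _)
  · rintro ⟨W, huW, hq, -⟩
    have h1 : (W.ι ≫ h).QuasiFiniteAt ⟨u, huW⟩ := (W.ι ≫ h).quasiFiniteAt _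
    rw [Scheme.Hom.quasiFiniteAt_comp_iff_of_isOpenImmersion] at h1
    have h2 : h.QuasiFiniteAt u := h1
    rw [← Groth.Agent.H1.QFDim.fibreDimAt_eq_zero_iff] at h2
    rw [h2]
    exact le_refl _

theorem one_le_of_not_le_zero {a : WithBot ℕ∞} (h : ¬ a ≤ ((0 : ℕ) : WithBot ℕ∞)) : 1 ≤ a := by
  induction a with
  | bot => exact absurd bot_le h
  | coe n =>
    have hn : n ≠ 0 := by
      rintro rfl
      exact h (le_refl _)
    have : (1 : ℕ∞) ≤ n := ENat.one_le_iff_ne_zero.2 hn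
    exact_mod_cast this

end Groth.Agent.H1.AlgSpDim
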