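import Mathlib
import Groth.Agent.Lib.Helper1.AlgSpQF
import Groth.Agent.Lib.Helper1.DimFormula4
import Groth.Agent.Lib.Helper3.TopDim

/-! Dimension of an algebraic space / of a fibre over a field point in terms of pointwise data. -/

set_option autoImplicit false
universe u
open CategoryTheory CategoryTheory.Limits AlgebraicGeometry MorphismProperty Topology

namespace Groth.Agent.H1.AlgSpDim
open _root_.AlgSp Groth.Agent.H5.EtSrc Groth.Agent.H5.AlgSp

variable {S : Scheme.{u}} {F G H : Sp S}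

theorem etLocalPt_localDim_pred (P : WithBot ℕ∞ → Prop) :
    EtLocalPt (fun U u => P (FlatMor.localDim ↥U u)) := by
  intro U U'' p hp r
  beta_reduce
  rw [Groth.Agent.H3.EtaleDim.localDim_eq_of_etale p r]

/-- `dim F ≤ d` iff the dimension of `F` at every point is at most `d`. -/
theorem dim_le_iff (hF : IsAlgSpace F) (d : WithBot ℕ∞) :
    AlgSp.dim F ≤ d ↔ ∀ z : Points F, HasAt (fun U u => FlatMor.localDim ↥U u ≤ d) F z := by
  constructor
  · intro hd z
    obtain ⟨U, a, hae, has⟩ := hF.atlas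
    obtain ⟨u, rfl⟩ := ofPt_surjective_of_repWith has z
    refine ⟨U, a, u, hae, rfl, ?_⟩
    refine (Groth.Agent.H3.TopDim.localDim_le_dim u).trans (le_trans ?_ hd)
    unfold AlgSp.dim
    exact le_iSup_of_le U (le_iSup_of_le a (le_iSup_of_le hae le_rfl))
  · intro hz
    unfold AlgSp.dim
    refine iSup_le fun U => iSup_le fun a => iSup_le fun hae => ?_
    rw [Groth.Agent.H3.TopDim.dim_eq_iSup_localDim]
    refine iSup_le fun u => ?_
    exact hasAt_chart (etLocalPt_localDim_pred (fun e => e ≤ d)) a hae u (hz _)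

/-- `dim F = ⊥` iff `F` has no points. -/
theorem dim_eq_bot_iff (hF : IsAlgSpace F) : AlgSp.dim F = ⊥ ↔ IsEmpty (Points F) := by
  constructor
  · intro hd
    refine ⟨fun z => ?_⟩
    obtain ⟨U, a, hae, has⟩ := hF.atlas
    obtain ⟨u, rfl⟩ := ofPt_surjective_of_repWith has z
    have h1 : topologicalKrullDim ↥U.left ≤ AlgSp.dim F := by
      unfold AlgSp.dim
      exact le_iSup_of_le U (le_iSup_of_le a (le_iSup_of_le hae le_rfl))
    rw [hd, le_bot_iff] at h1
    have h2 := (Groth.Agent.H3.TopDim.localDim_le_dim u).trans_eq h1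
    have h4 : (0 : WithBot ℕ∞) ≤ FlatMor.localDim ↥U.left u := by
      apply le_iInf
      rintro ⟨O, hO⟩
      have : Nonempty ↥(O : Set ↥U.left) := ⟨⟨u, hO⟩⟩
      exact Groth.Agent.H3.TopDim.dim_nonneg
    exact absurd (h4.trans h2) (by simp)
  · intro he
    rw [eq_bot_iff]
    unfold AlgSp.dim
    refine iSup_le fun U => iSup_le fun a => iSup_le fun hae => ?_
    haveI : IsEmpty ↥U.left := ⟨fun u => he.false (Points.ofPt a u)⟩
    rw [Groth.Agent.H3.TopDim.dim_eq_iSup_localDim]
    exact iSup_le fun u => (IsEmpty.false u).elim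

/-- For a morphism to the spectrum of a field, the dimension at a point is the relative dimension. -/
theorem hasAt_localDim_iff_hasAtMor_field (P : WithBot ℕ∞ → Prop) {k : Type u} [Field k]
    {str : Spec (.of k) ⟶ S} (q : F ⟶ (yon S).obj (Over.mk str)) (z : Points F) :
    HasAt (fun U u => P (FlatMor.localDim ↥U u)) F z ↔
      HasAtMor (fun _ _ h u => P (FlatMor.fibreDimAt h u)) q z := by
  constructor
  · rintro ⟨U₀, a₀, u₀, ha₀e, rfl, hdim⟩
    obtain ⟨h₀, hh₀⟩ := (yon S).map_surjective (a₀ ≫ q)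
    refine ⟨U₀, Over.mk str, a₀, 𝟙 _, h₀, u₀, ha₀e, repWith_id @Etale _, ?_, rfl, ?_⟩
    · rw [hh₀, Category.comp_id]
    · have := Groth.Agent.H1.DimFormula.fibreDimAt_eq_localDim_of_field (K := k) h₀.left u₀
      change P (FlatMor.fibreDimAt h₀.left u₀)
      rw [this]
      exact hdim
  · rintro ⟨U, V, a, b, h, u, ha, hb, comm, rfl, hq⟩
    obtain ⟨b₀, hb₀⟩ := (yon S).map_surjective b
    haveI hb₀e : Etale b₀.left := (repWith_yon_map_iff @Etale b₀).1 (by rw [hb₀]; exact hb)
    refine ⟨U, a, u, ha, rfl, ?_⟩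
    have h2 := Groth.Agent.H1.DimFormula.fibreDimAt_eq_localDim_of_field (K := k) (h.left ≫ b₀.left) u
    have h3 := Groth.Agent.H1.FibDimEt.fibreDimAt_eq_of_etale_square (h.left ≫ b₀.left) h.left
      (𝟙 U.left) b₀.left (by rw [Category.id_comp]) u
    have h3' : FlatMor.fibreDimAt (h.left ≫ b₀.left) u = FlatMor.fibreDimAt h.left u := h3
    change P (FlatMor.fibreDimAt h.left u) at hq
    rw [← h3', h2] at hq
    exact hq

end Groth.Agent.H1.AlgSpDim

namespace Groth.Agent.H1.AlgSpDim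
open _root_.AlgSp

theorem etLocalPt_stalkDim_pred (P : WithBot ℕ∞ → Prop) :
    EtLocalPt (fun U u => P (ringKrullDim ↥(U.presheaf.stalk u))) := by
  intro U U'' p hp r
  beta_reduce
  rw [Groth.Agent.H3.EtaleDim.ringKrullDim_stalk_eq_of_etale p r]

end Groth.Agent.H1.AlgSpDim
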