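import Mathlib
import Groth.Agent.Lib.Helper1.Thickening
import Groth.Agent.Lib.Helper1.NilpotentBaseChange

/-!
# Affine-local structure of base change along a thickening (helper1)
-/

universe u
open CategoryTheory Limits AlgebraicGeometry

namespace Groth.Agent.H1

section catPushout

variable {A' A B' B : CommRingCat.{u}} {ψ : A' ⟶ B'} {φ : A' ⟶ A} {σ : B' ⟶ B} {τ : A ⟶ B}

/-- Package: from a pushout square in `CommRingCat` obtain the `Algebra.IsPushout` statement. -/
lemma algebraIsPushout_of_isPushout (h : IsPushout ψ φ σ τ) :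
    letI := ψ.hom.toAlgebra
    letI := φ.hom.toAlgebra
    letI := σ.hom.toAlgebra
    letI := τ.hom.toAlgebra
    letI := (ψ ≫ σ).hom.toAlgebra
    ∃ (_ : IsScalarTower A' B' B) (_ : IsScalarTower A' A B), Algebra.IsPushout A' A B' B := by
  let := ψ.hom.toAlgebra
  let := φ.hom.toAlgebra
  let := σ.hom.toAlgebra
  let := τ.hom.toAlgebra
  let := (ψ ≫ σ).hom.toAlgebra
  have h1 : IsScalarTower A' B' B := .of_algebraMap_eq' rfl
  have h2 : IsScalarTower A' A B := .of_algebraMap_eq' (congr(($h.w).hom))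
  refine ⟨h1, h2, ?_⟩
  exact CommRingCat.isPushout_iff_isPushout.mp h.flip

lemma surjective_of_isPushout_cat (h : IsPushout ψ φ σ τ) (hφ : Function.Surjective φ) :
    Function.Surjective σ := by
  let := ψ.hom.toAlgebra
  let := φ.hom.toAlgebra
  let := σ.hom.toAlgebra
  let := τ.hom.toAlgebra
  let := (ψ ≫ σ).hom.toAlgebra
  obtain ⟨_, _, _⟩ := algebraIsPushout_of_isPushout h
  exact surjective_algebraMap_of_isPushout A' A B' B hφ

lemma ker_of_isPushout_cat (h : IsPushout ψ φ σ τ) (hφ : Function.Surjective φ) :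
    RingHom.ker σ.hom = (RingHom.ker φ.hom).map ψ.hom := by
  let := ψ.hom.toAlgebra
  let := φ.hom.toAlgebra
  let := σ.hom.toAlgebra
  let := τ.hom.toAlgebra
  let := (ψ ≫ σ).hom.toAlgebra
  obtain ⟨_, _, _⟩ := algebraIsPushout_of_isPushout h
  exact ker_algebraMap_of_isPushout A' A B' B hφ

lemma finiteType_of_isPushout_cat (h : IsPushout ψ φ σ τ) (hφ : Function.Surjective φ)
    (hI : IsNilpotent (RingHom.ker φ.hom)) (hτ : τ.hom.FiniteType) : ψ.hom.FiniteType := by
  let := ψ.hom.toAlgebra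
  let := φ.hom.toAlgebra
  let := σ.hom.toAlgebra
  let := τ.hom.toAlgebra
  let := (ψ ≫ σ).hom.toAlgebra
  obtain ⟨_, _, _⟩ := algebraIsPushout_of_isPushout h
  have : Algebra.FiniteType A B := hτ
  exact finiteType_of_isPushout_of_isNilpotent A' A B' B hφ hI

lemma formallyUnramified_of_isPushout_cat (h : IsPushout ψ φ σ τ) (hφ : Function.Surjective φ)
    (hI : IsNilpotent (RingHom.ker φ.hom)) (hτ : τ.hom.FormallyUnramified) :
    ψ.hom.FormallyUnramified := by
  let := ψ.hom.toAlgebra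
  let := φ.hom.toAlgebra
  let := σ.hom.toAlgebra
  let := τ.hom.toAlgebra
  let := (ψ ≫ σ).hom.toAlgebra
  obtain ⟨_, _, _⟩ := algebraIsPushout_of_isPushout h
  have : Algebra.FormallyUnramified A B := hτ
  exact formallyUnramified_of_isPushout_of_isNilpotent A' A B' B hφ hI

lemma formallyUnramified_of_isPushout_cat' (h : IsPushout ψ φ σ τ) (hφ : Function.Surjective φ)
    (hI : RingHom.ker φ.hom ≤ nilradical A') (hψ : ψ.hom.FiniteType)
    (hτ : τ.hom.FormallyUnramified) :
    ψ.hom.FormallyUnramified := by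
  let := ψ.hom.toAlgebra
  let := φ.hom.toAlgebra
  let := σ.hom.toAlgebra
  let := τ.hom.toAlgebra
  let := (ψ ≫ σ).hom.toAlgebra
  obtain ⟨_, _, _⟩ := algebraIsPushout_of_isPushout h
  have : Algebra.FormallyUnramified A B := hτ
  have : Algebra.FiniteType A' B' := hψ
  exact formallyUnramified_of_isPushout_of_le_nilradical A' A B' B hφ hI

lemma surjective_of_isPushout_cat' (h : IsPushout ψ φ σ τ) (hφ : Function.Surjective φ)
    (hI : RingHom.ker φ.hom ≤ nilradical A') (hψ : ψ.hom.FiniteType)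
    (hτ : Function.Surjective τ) : Function.Surjective ψ := by
  let := ψ.hom.toAlgebra
  let := φ.hom.toAlgebra
  let := σ.hom.toAlgebra
  let := τ.hom.toAlgebra
  let := (ψ ≫ σ).hom.toAlgebra
  obtain ⟨_, _, _⟩ := algebraIsPushout_of_isPushout h
  have : Algebra.FiniteType A' B' := hψ
  exact surjective_of_isPushout_of_le_nilradical A' A B' B hφ hI hτ

end catPushout

section affineLocal

variable {X X' S S' : Scheme.{u}} {iX : X ⟶ X'} {iS : S ⟶ S'} {f : X ⟶ S} {f' : X' ⟶ S'}

lemma preimage_le_of_comm (w : iX ≫ f' = f ≫ iS) {U' : S'.Opens} {V' : X'.Opens}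
    (hVU : V' ≤ f' ⁻¹ᵁ U') : iX ⁻¹ᵁ V' ≤ f ⁻¹ᵁ (iS ⁻¹ᵁ U') := by
  intro x hx
  have : f' (iX x) ∈ U' := hVU hx
  rw [← Scheme.Hom.comp_apply, w] at this
  exact this

lemma isPushout_appLE_of_isPullback (hc : IsPullback iX f f' iS) [IsAffineHom iS]
    {U' : S'.Opens} (hU' : IsAffineOpen U') {V' : X'.Opens} (hV' : IsAffineOpen V')
    (hVU : V' ≤ f' ⁻¹ᵁ U') :
    IsPushout (f'.appLE U' V' hVU) (iS.app U') (iX.app V')
      (f.appLE (iS ⁻¹ᵁ U') (iX ⁻¹ᵁ V') (preimage_le_of_comm hc.w hVU)) := by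
  have hUY : iX ⁻¹ᵁ V' = iX ⁻¹ᵁ V' ⊓ f ⁻¹ᵁ (iS ⁻¹ᵁ U') :=
    (inf_eq_left.mpr (preimage_le_of_comm hc.w hVU)).symm
  have := isIso_pushoutSection_of_isAffineOpen hc (le_refl (iS ⁻¹ᵁ U')) hVU hUY hU'
    (hU'.preimage iS) hV'
  have h := (isIso_pushoutSection_iff hc (le_refl (iS ⁻¹ᵁ U')) hVU hUY).mp this
  simpa only [Scheme.Hom.app_eq_appLE] using h

end affineLocal

section thick

variable {S S' : Scheme.{u}} {iS : S ⟶ S'}

lemma IsThickening.ker_app_le_nilradical (h : MoreMor.IsThickening iS) {U' : S'.Opens}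
    (hU' : IsAffineOpen U') : RingHom.ker (iS.app U').hom ≤ nilradical Γ(S', U') := by
  intro a ha
  rw [RingHom.mem_ker] at ha
  rw [mem_nilradical, Scheme.isNilpotent_iff_basicOpen_eq_bot_of_isCompact hU'.isCompact]
  have h1 : iS ⁻¹ᵁ (S'.basicOpen a) = ⊥ := by
    rw [Scheme.preimage_basicOpen]
    change S.basicOpen ((iS.app U').hom a) = ⊥
    rw [ha, Scheme.basicOpen_zero]
  have := h.2
  ext x
  simp only [TopologicalSpace.Opens.coe_bot, Set.mem_empty_iff_false, iff_false]
  intro hx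
  obtain ⟨y, rfl⟩ := iS.surjective x
  have : y ∈ iS ⁻¹ᵁ (S'.basicOpen a) := hx
  rw [h1] at this
  exact this

lemma IsFiniteOrderThickening.isNilpotent_ker_app (h : MoreMor.IsFiniteOrderThickening iS)
    {U' : S'.Opens} (hU' : IsAffineOpen U') : IsNilpotent (RingHom.ker (iS.app U').hom) := by
  have := h.1.1
  obtain ⟨n, hn⟩ := h.2
  refine ⟨n, ?_⟩
  have := congr(($hn).ideal ⟨U', hU'⟩)
  simpa using this

end thick

section schemeLevel

variable {X X' S S' : Scheme.{u}} {iX : X ⟶ X'} {iS : S ⟶ S'} {f : X ⟶ S} {f' : X' ⟶ S'}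

theorem locallyOfFiniteType_of_finiteOrderThickening (hS : MoreMor.IsFiniteOrderThickening iS)
    (hc : IsPullback iX f f' iS) (hf : LocallyOfFiniteType f) : LocallyOfFiniteType f' := by
  have := hS.1.1
  rw [HasRingHomProperty.iff_appLE (P := @LocallyOfFiniteType)]
  intro U' V' e
  have hpo := isPushout_appLE_of_isPullback hc U'.2 V'.2 e
  have hX : MoreMor.IsThickening iX := IsThickening.of_isPullback hc.flip hS.1
  have := hX.1
  have h1 := HasRingHomProperty.appLE (P := @LocallyOfFiniteType) f hf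
    ⟨iS ⁻¹ᵁ U'.1, U'.2.preimage iS⟩ ⟨iX ⁻¹ᵁ V'.1, V'.2.preimage iX⟩ (preimage_le_of_comm hc.w e)
  exact finiteType_of_isPushout_cat hpo (iS.app_surjective U'.1 U'.2)
    (IsFiniteOrderThickening.isNilpotent_ker_app hS U'.2) h1

theorem formallyUnramified_of_finiteOrderThickening (hS : MoreMor.IsFiniteOrderThickening iS)
    (hc : IsPullback iX f f' iS) (hf : FormallyUnramified f) : FormallyUnramified f' := by
  have := hS.1.1
  rw [HasRingHomProperty.iff_appLE (P := @FormallyUnramified)]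
  intro U' V' e
  have hpo := isPushout_appLE_of_isPullback hc U'.2 V'.2 e
  have hX : MoreMor.IsThickening iX := IsThickening.of_isPullback hc.flip hS.1
  have := hX.1
  have h1 := HasRingHomProperty.appLE (P := @FormallyUnramified) f hf
    ⟨iS ⁻¹ᵁ U'.1, U'.2.preimage iS⟩ ⟨iX ⁻¹ᵁ V'.1, V'.2.preimage iX⟩ (preimage_le_of_comm hc.w e)
  exact formallyUnramified_of_isPushout_cat hpo (iS.app_surjective U'.1 U'.2)
    (IsFiniteOrderThickening.isNilpotent_ker_app hS U'.2) h1

theorem formallyUnramified_of_thickening_of_locallyOfFiniteType (hS : MoreMor.IsThickening iS)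
    (hc : IsPullback iX f f' iS) [LocallyOfFiniteType f'] (hf : FormallyUnramified f) :
    FormallyUnramified f' := by
  have := hS.1
  rw [HasRingHomProperty.iff_appLE (P := @FormallyUnramified)]
  intro U' V' e
  have hpo := isPushout_appLE_of_isPullback hc U'.2 V'.2 e
  have hX : MoreMor.IsThickening iX := IsThickening.of_isPullback hc.flip hS
  have := hX.1
  have h1 := HasRingHomProperty.appLE (P := @FormallyUnramified) f hf
    ⟨iS ⁻¹ᵁ U'.1, U'.2.preimage iS⟩ ⟨iX ⁻¹ᵁ V'.1, V'.2.preimage iX⟩ (preimage_le_of_comm hc.w e)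
  have h2 := HasRingHomProperty.appLE (P := @LocallyOfFiniteType) f' inferInstance U' V' e
  exact formallyUnramified_of_isPushout_cat' hpo (iS.app_surjective U'.1 U'.2)
    (IsThickening.ker_app_le_nilradical hS U'.2) h2 h1

end schemeLevel

end Groth.Agent.H1
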