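import Mathlib
import Groth.Agent.Lib.Helper1.ThickeningLocal

/-!
# More on thickenings: base change of finite order thickenings, monomorphisms, (closed) immersions
(helper1)
-/

universe u
open AlgebraicGeometry CategoryTheory Limits MorphismProperty

namespace Groth.Agent.H1

lemma IsFiniteOrderThickening.of_isPullback {X X' P T : Scheme.{u}} {i : X ⟶ X'}
    {fst : P ⟶ X} {snd : P ⟶ T} {g : T ⟶ X'}
    (H : IsPullback fst snd i g) (h : MoreMor.IsFiniteOrderThickening i) :
    MoreMor.IsFiniteOrderThickening snd := by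
  have hth : MoreMor.IsThickening snd := IsThickening.of_isPullback H h.1
  refine ⟨hth, ?_⟩
  have := h.1.1
  have := hth.1
  obtain ⟨n, hn⟩ := h.2
  refine ⟨n, ?_⟩
  let ι := { p : X'.affineOpens × T.affineOpens // p.2.1 ≤ g ⁻¹ᵁ p.1.1 }
  refine Scheme.IdealSheafData.ext_of_iSup_eq_top (ι := ι) (fun p => p.1.2) ?_ ?_
  · rw [eq_top_iff]
    intro x _
    obtain ⟨_, ⟨U, hU, rfl⟩, hxU, -⟩ :=
      X'.isBasis_affineOpens.exists_subset_of_mem_open (Set.mem_univ (g x)) isOpen_univ
    obtain ⟨_, ⟨W, hW, rfl⟩, hxW, hWU : W ≤ g ⁻¹ᵁ U⟩ :=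
      T.isBasis_affineOpens.exists_subset_of_mem_open hxU (g ⁻¹ᵁ U).isOpen
    exact TopologicalSpace.Opens.mem_iSup.mpr ⟨⟨(⟨U, hU⟩, ⟨W, hW⟩), hWU⟩, hxW⟩
  · rintro ⟨⟨U, W⟩, hWU⟩
    have hpo := isPushout_appLE_of_isPullback H.flip U.2 W.2 hWU
    have hk := ker_of_isPushout_cat hpo (i.app_surjective U.1 U.2)
    have h0 : (RingHom.ker (i.app U.1).hom) ^ n = ⊥ := by
      have := congr(($hn).ideal U)
      simpa using this
    simp only [Scheme.IdealSheafData.ideal_pow, Pi.pow_apply, Scheme.Hom.ker_apply]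
    rw [hk, ← Ideal.map_pow, h0, Ideal.map_bot]
    rfl

end Groth.Agent.H1

namespace Groth.Agent.H1

theorem mono_of_finiteOrderThickening {X X' S S' : Scheme.{u}} {iX : X ⟶ X'} {iS : S ⟶ S'}
    {f : X ⟶ S} {f' : X' ⟶ S'} (hS : MoreMor.IsFiniteOrderThickening iS)
    (hc : IsPullback iX f f' iS) (hf : Mono f) : Mono f' := by
  have hfu : FormallyUnramified f := inferInstance
  have hfu' : FormallyUnramified f' := formallyUnramified_of_finiteOrderThickening hS hc hfu
  constructor
  intro T a b hab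
  -- base change of the thickening to `T`
  let i : pullback (a ≫ f') iS ⟶ T := pullback.fst _ _
  let p : pullback (a ≫ f') iS ⟶ S := pullback.snd _ _
  have hi : MoreMor.IsFiniteOrderThickening i :=
    IsFiniteOrderThickening.of_isPullback (IsPullback.of_hasPullback (a ≫ f') iS).flip hS
  have hw : (i ≫ a) ≫ f' = p ≫ iS := by
    rw [Category.assoc]; exact pullback.condition
  have hw' : (i ≫ b) ≫ f' = p ≫ iS := by
    rw [Category.assoc, ← hab]; exact pullback.condition
  let ha : pullback (a ≫ f') iS ⟶ X := hc.lift (i ≫ a) p hw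
  let hb : pullback (a ≫ f') iS ⟶ X := hc.lift (i ≫ b) p hw'
  have e : ha = hb := by
    rw [← cancel_mono f]
    simp [ha, hb]
  have hig : i ≫ a = i ≫ b := by
    have h1 : ha ≫ iX = i ≫ a := hc.lift_fst _ _ _
    have h2 : hb ≫ iX = i ≫ b := hc.lift_fst _ _ _
    rw [← h1, ← h2, e]
  have := hi.1.1
  exact FormallyUnramified.hom_ext i hi.2 f' hig hab

end Groth.Agent.H1

namespace Groth.Agent.H1

lemma mono_of_formallyUnramified_of_universallyInjective {X Y : Scheme.{u}} (f : X ⟶ Y)
    [LocallyOfFiniteType f] [FormallyUnramified f] [UniversallyInjective f] : Mono f := by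
  rw [← pullback.isIso_diagonal_iff]
  have h1 : IsOpenImmersion (pullback.diagonal f) := inferInstance
  have h2 : Surjective (pullback.diagonal f) := (UniversallyInjective.iff_diagonal f).mp inferInstance
  have : Epi (pullback.diagonal f).base := by
    rw [TopCat.epi_iff_surjective]
    exact h2.1
  exact IsOpenImmersion.isIso _

theorem mono_of_thickening_of_locallyOfFiniteType {X X' S S' : Scheme.{u}} {iX : X ⟶ X'}
    {iS : S ⟶ S'} {f : X ⟶ S} {f' : X' ⟶ S'} (hS : MoreMor.IsThickening iS)
    (hc : IsPullback iX f f' iS) [LocallyOfFiniteType f'] (hf : Mono f) : Mono f' := by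
  have hX : MoreMor.IsThickening iX := IsThickening.of_isPullback hc.flip hS
  have hfu : FormallyUnramified f := inferInstance
  have hfu' : FormallyUnramified f' :=
    formallyUnramified_of_thickening_of_locallyOfFiniteType hS hc hfu
  have hui : UniversallyInjective f := inferInstance
  have hui' : UniversallyInjective f' := by
    have : UniversallyInjective (iX ≫ f') := by
      rw [hc.w]
      have := hS.1
      infer_instance
    have := hX.2
    exact universallyInjective_of_comp_surjective iX f'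
  exact mono_of_formallyUnramified_of_universallyInjective f'

end Groth.Agent.H1

namespace Groth.Agent.H1

theorem isClosedImmersion_of_thickening_of_locallyOfFiniteType {X X' S S' : Scheme.{u}}
    {iX : X ⟶ X'} {iS : S ⟶ S'} {f : X ⟶ S} {f' : X' ⟶ S'} (hS : MoreMor.IsThickening iS)
    (hc : IsPullback iX f f' iS) [LocallyOfFiniteType f'] (hf : IsClosedImmersion f) :
    IsClosedImmersion f' := by
  have hX : MoreMor.IsThickening iX := IsThickening.of_isPullback hc.flip hS
  have := hS.1
  have := hX.1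
  have := hX.2
  -- topologically a closed embedding
  have hce : Topology.IsClosedEmbedding (iX ≫ f') := by
    rw [hc.w]
    exact (f ≫ iS).isClosedEmbedding
  let e : X ≃ₜ X' := (IsThickening.isHomeomorph hX).homeomorph
  have he : ⇑f' = ⇑(iX ≫ f') ∘ e.symm := by
    ext x'
    obtain ⟨x, rfl⟩ := e.surjective x'
    simp only [Function.comp_apply, Homeomorph.symm_apply_apply]
    rfl
  have hind : Topology.IsInducing f' := by
    rw [he]
    exact hce.isInducing.comp e.symm.isInducing
  have hrange : IsClosed (Set.range f') := by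
    have : Set.range f' = Set.range (iX ≫ f') := by
      rw [he, Set.range_comp, e.symm.surjective.range_eq, Set.image_univ]
    rw [this]
    exact hce.isClosed_range
  have haff : IsAffineHom f' := isAffineHom_of_isInducing f' hind hrange
  rw [isClosedImmersion_iff_isAffineHom]
  refine ⟨haff, fun U' hU' => ?_⟩
  have hV' : IsAffineOpen (f' ⁻¹ᵁ U') := hU'.preimage f'
  have hpo := isPushout_appLE_of_isPullback hc hU' hV' le_rfl
  have hψ := HasRingHomProperty.appLE (P := @LocallyOfFiniteType) f' inferInstance ⟨U', hU'⟩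
    ⟨_, hV'⟩ le_rfl
  have hτ : Function.Surjective
      (f.appLE (iS ⁻¹ᵁ U') (iX ⁻¹ᵁ (f' ⁻¹ᵁ U')) (preimage_le_of_comm hc.w le_rfl)) := by
    rw [Scheme.Hom.appLE]
    have heq : iX ⁻¹ᵁ (f' ⁻¹ᵁ U') = f ⁻¹ᵁ (iS ⁻¹ᵁ U') := by
      rw [← Scheme.Hom.comp_preimage, ← Scheme.Hom.comp_preimage, hc.w]
    have hiso : IsIso (X.presheaf.map (homOfLE (preimage_le_of_comm hc.w
        (le_refl (f' ⁻¹ᵁ U')))).op) := by
      have : IsIso (homOfLE (preimage_le_of_comm hc.w (le_refl (f' ⁻¹ᵁ U')))) :=
        ⟨homOfLE heq.ge, rfl, rfl⟩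
      infer_instance
    have h1 := (ConcreteCategory.bijective_of_isIso (X.presheaf.map (homOfLE
      (preimage_le_of_comm hc.w (le_refl (f' ⁻¹ᵁ U')))).op)).surjective
    have h2 := f.app_surjective _ (hU'.preimage iS)
    intro x
    obtain ⟨y, rfl⟩ := h1 x
    obtain ⟨z, rfl⟩ := h2 y
    exact ⟨z, rfl⟩
  have := surjective_of_isPushout_cat' hpo (iS.app_surjective U' hU')
    (IsThickening.ker_app_le_nilradical hS hU') hψ hτ
  rwa [← Scheme.Hom.app_eq_appLE] at this

end Groth.Agent.H1

namespace Groth.Agent.H1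

lemma isClosedImmersion_of_comp_ι_eq {X Y : Scheme.{u}} (f : X ⟶ Y) [IsImmersion f]
    (W : Y.Opens) (hW : W = f.coborderRange) (g : X ⟶ W) (hg : g ≫ W.ι = f) :
    IsClosedImmersion g := by
  subst hW
  have : g = f.liftCoborder := by
    rw [← cancel_mono f.coborderRange.ι, hg, Scheme.Hom.liftCoborder_ι]
  rw [this]
  infer_instance

theorem isImmersion_of_thickening_of_locallyOfFiniteType {X X' Y Y' : Scheme.{u}}
    {iX : X ⟶ X'} {iY : Y ⟶ Y'} {f : X ⟶ Y} {f' : X' ⟶ Y'} (hY : MoreMor.IsThickening iY)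
    (hc : IsPullback iX f f' iY) [LocallyOfFiniteType f'] (hf : IsImmersion f) :
    IsImmersion f' := by
  have hX : MoreMor.IsThickening iX := IsThickening.of_isPullback hc.flip hY
  have := hY.1
  have := hY.2
  have := hX.2
  -- the open `V'` of `Y'` corresponding to the coborder of `f`
  let V' : Y'.Opens := ⟨iY '' (f.coborderRange : Set Y),
    (IsThickening.isHomeomorph hY).isOpenMap _ f.coborderRange.2⟩
  have hV : iY ⁻¹ᵁ V' = f.coborderRange := by
    ext y
    change iY y ∈ iY '' _ ↔ _
    exact iY.isClosedEmbedding.injective.mem_set_image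
  have hrange' : Set.range f' ⊆ Set.range V'.ι := by
    rintro _ ⟨x', rfl⟩
    obtain ⟨x, rfl⟩ := iX.surjective x'
    rw [Scheme.Opens.range_ι]
    change f' (iX x) ∈ iY '' _
    rw [← Scheme.Hom.comp_apply, hc.w, Scheme.Hom.comp_apply]
    refine ⟨f x, ?_, rfl⟩
    have : f x ∈ Set.range f := ⟨x, rfl⟩
    exact subset_coborder this
  let f'' : X' ⟶ V' := IsOpenImmersion.lift V'.ι f' hrange'
  have hf'' : f'' ≫ V'.ι = f' := IsOpenImmersion.lift_fac _ _ _
  have hrange : Set.range f ⊆ Set.range (iY ⁻¹ᵁ V').ι := by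
    rw [Scheme.Opens.range_ι, hV]
    exact subset_coborder
  let g : X ⟶ (iY ⁻¹ᵁ V') := IsOpenImmersion.lift (iY ⁻¹ᵁ V').ι f hrange
  have hg : g ≫ (iY ⁻¹ᵁ V').ι = f := IsOpenImmersion.lift_fac _ _ _
  have hgc : IsClosedImmersion g := isClosedImmersion_of_comp_ι_eq f _ hV g hg
  have hbot : IsPullback (iY ∣_ V') (iY ⁻¹ᵁ V').ι V'.ι iY := isPullback_morphismRestrict iY V'
  have hth : MoreMor.IsThickening (iY ∣_ V') := IsThickening.of_isPullback hbot.flip hY
  have comm : iX ≫ f'' = g ≫ (iY ∣_ V') := by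
    rw [← cancel_mono V'.ι, Category.assoc, Category.assoc, hf'', hbot.w, ← Category.assoc, hg,
      hc.w]
  have htop : IsPullback iX g f'' (iY ∣_ V') := by
    refine IsPullback.of_bot ?_ comm hbot
    rw [hg, hf'']
    exact hc
  have : LocallyOfFiniteType f'' := by
    have : LocallyOfFiniteType (f'' ≫ V'.ι) := by rw [hf'']; infer_instance
    exact locallyOfFiniteType_of_comp f'' V'.ι
  have : IsClosedImmersion f'' :=
    isClosedImmersion_of_thickening_of_locallyOfFiniteType hth htop hgc
  rw [← hf'']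
  infer_instance

end Groth.Agent.H1
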