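import Mathlib
import Groth.Agent.Lib.Helper1.ThickeningMore

/-! SGA3 VI_B 1.x (S5346): over a local artinian ring, finiteness conditions and (closed) immersions
can be checked on the special fibre (helper1; via the thickening lemmas of EGA IV 17/18). -/

set_option autoImplicit false
set_option linter.style.haveILetI false
universe u

namespace Groth.Agent.H1.ArtThick

open CategoryTheory CategoryTheory.Limits AlgebraicGeometry

variable (A : Type u) [CommRing A] [IsArtinianRing A] [IsLocalRing A]

/-- The closed point of a local artinian ring is a finite order thickening. -/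
theorem finOrd :
    MoreMor.IsFiniteOrderThickening
      (Spec.map (CommRingCat.ofHom (IsLocalRing.residue A))) := by
  have hcl : IsClosedImmersion (Spec.map (CommRingCat.ofHom (IsLocalRing.residue A))) :=
    IsClosedImmersion.spec_of_surjective _ IsLocalRing.residue_surjective
  have hsurj : Surjective (Spec.map (CommRingCat.ofHom (IsLocalRing.residue A))) := by
    constructor
    intro x
    haveI : Subsingleton (PrimeSpectrum A) := Ring.KrullDimLE.subsingleton_primeSpectrum A
    obtain ⟨y⟩ : Nonempty (Spec (CommRingCat.of (IsLocalRing.ResidueField A))) := inferInstance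
    exact ⟨y, Subsingleton.elim (α := PrimeSpectrum A) _ _⟩
  have hth : MoreMor.IsThickening (Spec.map (CommRingCat.ofHom (IsLocalRing.residue A))) :=
    ⟨hcl, hsurj⟩
  refine ⟨hth, ?_⟩
  have hle := IsThickening.ker_app_le_nilradical hth (isAffineOpen_top (Spec (CommRingCat.of A)))
  haveI : IsNoetherianRing Γ(Spec (CommRingCat.of A), ⊤) :=
    IsLocallyNoetherian.component_noetherian ⟨⊤, isAffineOpen_top _⟩
  obtain ⟨n, hn⟩ := IsNoetherianRing.isNilpotent_nilradical Γ(Spec (CommRingCat.of A), ⊤)
  refine ⟨n, ?_⟩
  refine Scheme.IdealSheafData.ext_of_iSup_eq_top (ι := Unit)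
    (fun _ => ⟨⊤, isAffineOpen_top (Spec (CommRingCat.of A))⟩) ?_ ?_
  · simp
  · intro _
    have h0 : RingHom.ker
        ((Spec.map (CommRingCat.ofHom (IsLocalRing.residue A))).app ⊤).hom ^ n = ⊥ := by
      rw [eq_bot_iff, ← Ideal.zero_eq_bot, ← hn]
      exact Ideal.pow_right_mono hle n
    simp only [Scheme.IdealSheafData.ideal_pow, Pi.pow_apply, Scheme.Hom.ker_apply]
    rw [h0]
    rfl

theorem s5346_gen {S₀ S : Scheme.{u}} (i : S₀ ⟶ S) (hfin : MoreMor.IsFiniteOrderThickening i)
    (X Y : Over S) (u : X ⟶ Y) :
    (LocallyOfFiniteType (pullback.snd X.hom i) → LocallyOfFiniteType X.hom) ∧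
    (LocallyOfFiniteType (pullback.snd X.hom i) → QuasiCompact (pullback.snd X.hom i) →
      QuasiCompact X.hom) ∧
    (IsImmersion ((Over.pullback i).map u).left → IsImmersion u.left) ∧
    (IsClosedImmersion ((Over.pullback i).map u).left → IsClosedImmersion u.left) := by
  have hcl := hfin.1.1
  have hsurj := hfin.1.2
  have hY : MoreMor.IsFiniteOrderThickening (pullback.fst Y.hom i) :=
    IsFiniteOrderThickening.of_isPullback (IsPullback.of_hasPullback Y.hom i).flip hfin
  have hc : IsPullback (pullback.fst X.hom i) ((Over.pullback i).map u).left u.left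
      (pullback.fst Y.hom i) := by
    refine (IsPullback.of_right ?_ ?_ (IsPullback.of_hasPullback Y.hom i).flip).flip
    · have h1 : ((Over.pullback i).map u).left ≫ pullback.snd Y.hom i = pullback.snd X.hom i :=
        Over.w ((Over.pullback i).map u)
      have h2 : u.left ≫ Y.hom = X.hom := Over.w u
      rw [h1, h2]
      exact (IsPullback.of_hasPullback X.hom i).flip
    · exact pullback.lift_fst _ _ _
  refine ⟨?_, ?_, ?_, ?_⟩
  · intro h
    exact locallyOfFiniteType_of_finiteOrderThickening hfin (IsPullback.of_hasPullback X.hom i) h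
  · intro _ h
    haveI : Surjective (pullback.fst X.hom i) :=
      MorphismProperty.pullback_fst (P := @Surjective) _ _ hsurj
    haveI : QuasiCompact (pullback.fst X.hom i ≫ X.hom) := by
      rw [pullback.condition]; infer_instance
    exact quasiCompact_of_comp_surjective (pullback.fst X.hom i) X.hom
  · intro h
    haveI : LocallyOfFiniteType u.left :=
      locallyOfFiniteType_of_finiteOrderThickening hY hc inferInstance
    exact isImmersion_of_thickening_of_locallyOfFiniteType hY.1 hc h
  · intro h
    haveI : LocallyOfFiniteType u.left :=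
      locallyOfFiniteType_of_finiteOrderThickening hY hc inferInstance
    exact isClosedImmersion_of_thickening_of_locallyOfFiniteType hY.1 hc h

theorem s5346 (X Y : Over (Spec (CommRingCat.of A))) (u : X ⟶ Y) :
    letI i : Spec (CommRingCat.of (IsLocalRing.ResidueField A)) ⟶ (Spec (CommRingCat.of A)) :=
      Spec.map (CommRingCat.ofHom (IsLocalRing.residue A))
    (LocallyOfFiniteType (pullback.snd X.hom i) → LocallyOfFiniteType X.hom) ∧
    (LocallyOfFiniteType (pullback.snd X.hom i) → QuasiCompact (pullback.snd X.hom i) →
      QuasiCompact X.hom) ∧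
    (IsImmersion ((Over.pullback i).map u).left → IsImmersion u.left) ∧
    (IsClosedImmersion ((Over.pullback i).map u).left → IsClosedImmersion u.left) :=
  s5346_gen _ (finOrd A) X Y u

end Groth.Agent.H1.ArtThick
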