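import Mathlib
import Groth.Agent.Lib.Helper7.ArtFlat
import Groth.Agent.Lib.Helper1.NilpotentBaseChange

/-!
# Regular elements and flatness over an Artinian local base (helper1)

`A` Artinian local, `I` a proper ideal.  For an `A`-linear map `φ : M → N` of flat modules,
`φ` is injective iff `φ ⊗ A/I` is injective iff `φ ⊗ κ` is injective, and then `coker φ` is flat.
Consequences for (weakly) regular sequences on modules over an `A`-algebra which are flat over `A`.
-/

universe u v
open TensorProduct Function
open scoped Pointwise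

namespace Groth.Agent.H1.ArtinFlatReg

section socle

variable (A : Type u) [CommRing A] [IsLocalRing A] [IsArtinianRing A]

theorem isNilpotent_maximalIdeal : IsNilpotent (IsLocalRing.maximalIdeal A) := by
  rw [← IsLocalRing.jacobson_eq_maximalIdeal (⊥ : Ideal A) bot_ne_top]
  exact IsArtinianRing.isNilpotent_jacobson_bot

/-- For a proper ideal `I` of an Artinian local ring there is `t ∉ I` with `𝔪 t ⊆ I`. -/
theorem exists_socle (I : Ideal A) (hI : I ≠ ⊤) :
    ∃ t : A, t ∉ I ∧ ∀ a ∈ IsLocalRing.maximalIdeal A, a * t ∈ I := by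
  classical
  obtain ⟨n, hn⟩ := isNilpotent_maximalIdeal A
  have hex : ∃ n : ℕ, IsLocalRing.maximalIdeal A ^ n ≤ I := ⟨n, by rw [hn]; exact bot_le⟩
  have hmin : ∀ k, k < Nat.find hex → ¬ IsLocalRing.maximalIdeal A ^ k ≤ I :=
    fun k hk => Nat.find_min hex hk
  have hspec := Nat.find_spec hex
  set m := Nat.find hex with hm
  have hm0 : m ≠ 0 := by
    intro h0
    rw [h0, pow_zero, Ideal.one_eq_top, top_le_iff] at hspec
    exact hI hspec
  obtain ⟨k, hk⟩ := Nat.exists_eq_succ_of_ne_zero hm0
  have hnot : ¬ IsLocalRing.maximalIdeal A ^ k ≤ I := hmin k (by omega)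
  obtain ⟨t, ht, htI⟩ := SetLike.not_le_iff_exists.mp hnot
  refine ⟨t, htI, fun a ha => hspec ?_⟩
  rw [hk, pow_succ']
  exact Ideal.mul_mem_mul ha ht

/-- The residue field embeds into `A ⧸ I` for every proper ideal `I`. -/
theorem exists_injective_residue_to_quotient (I : Ideal A) (hI : I ≠ ⊤) :
    ∃ j : (A ⧸ IsLocalRing.maximalIdeal A) →ₗ[A] (A ⧸ I), Injective j := by
  obtain ⟨t, htI, ht⟩ := exists_socle A I hI
  let g : A →ₗ[A] A ⧸ I := LinearMap.toSpanSingleton A (A ⧸ I) (Ideal.Quotient.mk I t)
  have hg : ∀ a, g a = Ideal.Quotient.mk I (a * t) := fun a => by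
    simp [g, LinearMap.toSpanSingleton_apply, Algebra.smul_def]
  have hle : IsLocalRing.maximalIdeal A ≤ LinearMap.ker g := by
    intro a ha
    rw [LinearMap.mem_ker, hg, Ideal.Quotient.eq_zero_iff_mem]
    exact ht a ha
  refine ⟨Submodule.liftQ _ g hle, ?_⟩
  rw [← LinearMap.ker_eq_bot, Submodule.ker_liftQ_eq_bot']
  refine le_antisymm hle ?_
  have hne : (LinearMap.ker g : Ideal A) ≠ ⊤ := by
    intro h
    have h1 : (1 : A) ∈ LinearMap.ker g := by rw [h]; trivial
    rw [LinearMap.mem_ker, hg, one_mul, Ideal.Quotient.eq_zero_iff_mem] at h1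
    exact htI h1
  exact IsLocalRing.le_maximalIdeal hne

theorem exists_injective_residue_to_self :
    ∃ j : (A ⧸ IsLocalRing.maximalIdeal A) →ₗ[A] A, Injective j := by
  obtain ⟨j, hj⟩ := exists_injective_residue_to_quotient A ⊥ bot_ne_top
  exact ⟨(Submodule.quotEquivOfEqBot (⊥ : Ideal A) rfl).toLinearMap ∘ₗ j,
    (Submodule.quotEquivOfEqBot (⊥ : Ideal A) rfl).injective.comp hj⟩

end socle

section tensor

variable {A : Type u} [CommRing A]

theorem lTensor_injective_of_injective {M N : Type*} [AddCommGroup M] [Module A M]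
    [AddCommGroup N] [Module A N] [Module.Flat A M] (φ : M →ₗ[A] N)
    {T₁ T₂ : Type*} [AddCommGroup T₁] [Module A T₁] [AddCommGroup T₂] [Module A T₂]
    (j : T₁ →ₗ[A] T₂) (hj : Injective j) (h : Injective (φ.lTensor T₂)) :
    Injective (φ.lTensor T₁) := by
  have hcomm : (φ.lTensor T₂).comp (j.rTensor M) = (j.rTensor N).comp (φ.lTensor T₁) := by
    rw [LinearMap.lTensor_comp_rTensor, LinearMap.rTensor_comp_lTensor]
  have h1 : Injective (j.rTensor M) := Module.Flat.rTensor_preserves_injective_linearMap _ hj
  have h2 : Injective ((j.rTensor N).comp (φ.lTensor T₁)) := by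
    rw [← hcomm]; exact h.comp h1
  exact Function.Injective.of_comp h2

theorem injective_iff_lTensor_self {M N : Type*} [AddCommGroup M] [Module A M]
    [AddCommGroup N] [Module A N] (φ : M →ₗ[A] N) :
    Injective (φ.lTensor A) ↔ Injective φ := by
  have hcomm : ∀ x, TensorProduct.lid A N (φ.lTensor A x) = φ (TensorProduct.lid A M x) := by
    intro x
    induction x using TensorProduct.induction_on with
    | zero => simp
    | add x y hx hy => simp only [map_add, hx, hy]
    | tmul a m => simp
  constructor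
  · intro h x y hxy
    have : φ.lTensor A ((TensorProduct.lid A M).symm x) = φ.lTensor A ((TensorProduct.lid A M).symm y) := by
      apply (TensorProduct.lid A N).injective
      rw [hcomm, hcomm]; simpa using hxy
    exact (TensorProduct.lid A M).symm.injective (h this)
  · intro h x y hxy
    have := congrArg (TensorProduct.lid A N) hxy
    rw [hcomm, hcomm] at this
    exact (TensorProduct.lid A M).injective (h this)

/-- Elementwise form of injectivity of `φ ⊗ A/I`. -/
theorem lTensor_quotient_injective_iff {M N : Type*} [AddCommGroup M] [Module A M]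
    [AddCommGroup N] [Module A N] (φ : M →ₗ[A] N) (I : Ideal A) :
    Injective (φ.lTensor (A ⧸ I)) ↔
      ∀ m : M, φ m ∈ I • (⊤ : Submodule A N) → m ∈ I • (⊤ : Submodule A M) := by
  let eM := TensorProduct.quotTensorEquivQuotSMul M I
  let eN := TensorProduct.quotTensorEquivQuotSMul N I
  have hle : I • (⊤ : Submodule A M) ≤ (I • (⊤ : Submodule A N)).comap φ := by
    rw [← Submodule.map_le_iff_le_comap, Submodule.map_smul'']
    exact Submodule.smul_mono le_rfl le_top
  let ψ := Submodule.mapQ _ _ φ hle
  have hcomm : ∀ x, eN (φ.lTensor (A ⧸ I) x) = ψ (eM x) := by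
    intro x
    induction x using TensorProduct.induction_on with
    | zero => simp
    | add x y hx hy => simp only [map_add, hx, hy]
    | tmul a m =>
      obtain ⟨a, rfl⟩ := Ideal.Quotient.mk_surjective a
      simp [eM, eN, ψ, TensorProduct.quotTensorEquivQuotSMul_mk_tmul]
  have h1 : Injective (φ.lTensor (A ⧸ I)) ↔ Injective ψ := by
    constructor
    · intro h x y hxy
      obtain ⟨x, rfl⟩ := eM.surjective x
      obtain ⟨y, rfl⟩ := eM.surjective y
      rw [← hcomm, ← hcomm] at hxy
      rw [h (eN.injective hxy)]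
    · intro h x y hxy
      have := congrArg eN hxy
      rw [hcomm, hcomm] at this
      exact eM.injective (h this)
  rw [h1, injective_iff_map_eq_zero]
  constructor
  · intro h m hm
    have := h (Submodule.Quotient.mk m) (by
      simp only [ψ, Submodule.mapQ_apply]
      exact (Submodule.Quotient.mk_eq_zero _).mpr hm)
    exact (Submodule.Quotient.mk_eq_zero _).mp this
  · intro h x hx
    obtain ⟨m, rfl⟩ := Submodule.Quotient.mk_surjective _ x
    simp only [ψ, Submodule.mapQ_apply] at hx
    exact (Submodule.Quotient.mk_eq_zero _).mpr (h m ((Submodule.Quotient.mk_eq_zero _).mp hx))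

end tensor

section core

variable (A : Type u) [CommRing A] [IsLocalRing A] [IsArtinianRing A]
variable {M N : Type v} [AddCommGroup M] [Module A M] [AddCommGroup N] [Module A N]
  (φ : M →ₗ[A] N)

theorem lTensor_residue_injective_of_quotient [Module.Flat A M] (I : Ideal A) (hI : I ≠ ⊤)
    (h : Injective (φ.lTensor (A ⧸ I))) :
    Injective (φ.lTensor (IsLocalRing.ResidueField A)) := by
  obtain ⟨j, hj⟩ := exists_injective_residue_to_quotient A I hI
  exact lTensor_injective_of_injective φ j hj h

theorem lTensor_quotient_injective_of_residue [Module.Flat A N] (I : Ideal A)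
    (h : Injective (φ.lTensor (IsLocalRing.ResidueField A))) :
    Injective (φ.lTensor (A ⧸ I)) :=
  Groth.Agent.H7.ArtFlat.eng A φ h (A ⧸ I)

theorem injective_iff_lTensor_residue [Module.Flat A M] [Module.Flat A N] :
    Injective φ ↔ Injective (φ.lTensor (IsLocalRing.ResidueField A)) := by
  constructor
  · intro h
    obtain ⟨j, hj⟩ := exists_injective_residue_to_self A
    exact lTensor_injective_of_injective φ j hj ((injective_iff_lTensor_self φ).mpr h)
  · exact Groth.Agent.H7.ArtFlat.injective_of_lTensor_residue A φ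

theorem injective_iff_lTensor_quotient [Module.Flat A M] [Module.Flat A N] (I : Ideal A)
    (hI : I ≠ ⊤) : Injective φ ↔ Injective (φ.lTensor (A ⧸ I)) :=
  (injective_iff_lTensor_residue A φ).trans
    ⟨lTensor_quotient_injective_of_residue A φ I, lTensor_residue_injective_of_quotient A φ I hI⟩

/-- `φ` is injective iff it is injective modulo `I`, in elementwise form. -/
theorem injective_iff_mem [Module.Flat A M] [Module.Flat A N] (I : Ideal A) (hI : I ≠ ⊤) :
    Injective φ ↔
      ∀ m : M, φ m ∈ I • (⊤ : Submodule A N) → m ∈ I • (⊤ : Submodule A M) :=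
  (injective_iff_lTensor_quotient A φ I hI).trans (lTensor_quotient_injective_iff φ I)

/-- If `φ` is injective (between flat modules over an Artinian local ring) then its cokernel
is flat. -/
theorem flat_of_injective_of_exact [Module.Flat A M] [Module.Flat A N] (hφ : Injective φ)
    {P : Type v} [AddCommGroup P] [Module A P] (π : N →ₗ[A] P) (hπ : Surjective π)
    (hex : Exact φ π) : Module.Flat A P :=
  Groth.Agent.H7.ArtFlat.flat_of_lTensor_residue_injective A φ π hπ hex
    ((injective_iff_lTensor_residue A φ).mp hφ)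

end core

section modules

open RingTheory.Sequence

variable (A : Type u) [CommRing A] [IsLocalRing A] [IsArtinianRing A]
variable {R : Type*} [CommRing R] [Algebra A R]

omit [IsLocalRing A] [IsArtinianRing A] in
theorem mem_map_smul_top_iff (I : Ideal A) (M : Type*) [AddCommGroup M] [Module R M] [Module A M]
    [IsScalarTower A R M] (m : M) :
    m ∈ (I.map (algebraMap A R)) • (⊤ : Submodule R M) ↔ m ∈ I • (⊤ : Submodule A M) := by
  have h := Ideal.smul_restrictScalars (S := R) I (⊤ : Submodule R M)
  rw [Submodule.restrictScalars_top] at h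
  rw [← h, Submodule.restrictScalars_mem]

variable (M : Type v) [AddCommGroup M] [Module R M] [Module A M] [IsScalarTower A R M]
  [Module.Flat A M] (I : Ideal A) (hI : I ≠ ⊤)

include hI in
theorem isSMulRegular_iff_quotient (r : R) :
    IsSMulRegular M r ↔
      IsSMulRegular (M ⧸ (I.map (algebraMap A R)) • (⊤ : Submodule R M)) r := by
  let φ : M →ₗ[A] M := (LinearMap.lsmul R M r).restrictScalars A
  have h1 : IsSMulRegular M r ↔ Injective φ := Iff.rfl
  rw [h1, injective_iff_mem A φ I hI, isSMulRegular_quotient_iff_mem_of_smul_mem]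
  refine forall_congr' fun m => ?_
  rw [mem_map_smul_top_iff, mem_map_smul_top_iff]
  rfl

theorem flat_quotSMulTop (r : R) (h : IsSMulRegular M r) : Module.Flat A (QuotSMulTop r M) := by
  let φ : M →ₗ[A] M := (LinearMap.lsmul R M r).restrictScalars A
  let π : M →ₗ[A] QuotSMulTop r M := (Submodule.mkQ (r • (⊤ : Submodule R M))).restrictScalars A
  have hπ : Surjective π := Submodule.mkQ_surjective (r • (⊤ : Submodule R M))
  refine flat_of_injective_of_exact A φ h π hπ ?_
  intro m
  change Submodule.Quotient.mk m = 0 ↔ _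
  rw [Submodule.Quotient.mk_eq_zero, Submodule.mem_smul_pointwise_iff_exists]
  constructor
  · rintro ⟨m', _, rfl⟩
    exact ⟨m', rfl⟩
  · rintro ⟨m', rfl⟩
    exact ⟨m', trivial, rfl⟩

end modules

section lists

open RingTheory.Sequence

/-- `(M/S)/T ≃ (M/T)/S`. -/
noncomputable def quotQuotSwap {R : Type*} [CommRing R] {M : Type*} [AddCommGroup M] [Module R M]
    (S T : Submodule R M) :
    ((M ⧸ S) ⧸ T.map S.mkQ) ≃ₗ[R] ((M ⧸ T) ⧸ S.map T.mkQ) :=
  Submodule.quotientQuotientEquivQuotientSup S T ≪≫ₗ Submodule.quotEquivOfEq _ _ (sup_comm S T) ≪≫ₗ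
    (Submodule.quotientQuotientEquivQuotientSup T S).symm

/-- `(M/rM)/J(M/rM) ≃ (M/JM)/r(M/JM)`. -/
noncomputable def quotSMulTopQuotEquiv {R : Type*} [CommRing R] (M : Type*) [AddCommGroup M]
    [Module R M] (J : Ideal R) (r : R) :
    (QuotSMulTop r M ⧸ J • (⊤ : Submodule R (QuotSMulTop r M))) ≃ₗ[R]
      QuotSMulTop r (M ⧸ J • (⊤ : Submodule R M)) :=
  Submodule.quotEquivOfEq _ _ (by rw [Submodule.map_smul'', Submodule.map_top, Submodule.range_mkQ]) ≪≫ₗ
    quotQuotSwap (r • (⊤ : Submodule R M)) (J • (⊤ : Submodule R M)) ≪≫ₗ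
    Submodule.quotEquivOfEq _ _ (by rw [Submodule.map_pointwise_smul, Submodule.map_top, Submodule.range_mkQ])

variable (A : Type u) [CommRing A] [IsLocalRing A] [IsArtinianRing A]
variable {R : Type*} [CommRing R] [Algebra A R] (I : Ideal A) (hI : I ≠ ⊤)

include hI in
/-- Over an Artinian local base `A`, for `M` flat over `A`: a sequence is weakly regular on `M` iff
it is so on `M/IM`, and then `M/(rs)M` is flat over `A`. -/
theorem isWeaklyRegular_iff_and_flat (rs : List R) :
    ∀ (M : Type v) [AddCommGroup M] [Module R M] [Module A M] [IsScalarTower A R M]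
      [Module.Flat A M],
      (IsWeaklyRegular M rs ↔
        IsWeaklyRegular (M ⧸ (I.map (algebraMap A R)) • (⊤ : Submodule R M)) rs) ∧
      (IsWeaklyRegular M rs → Module.Flat A (M ⧸ Ideal.ofList rs • (⊤ : Submodule R M))) := by
  induction rs with
  | nil =>
    intro M _ _ _ _ _
    refine ⟨⟨fun _ => .nil _ _, fun _ => .nil _ _⟩, fun _ => ?_⟩
    have e : (M ⧸ Ideal.ofList ([] : List R) • (⊤ : Submodule R M)) ≃ₗ[R] M :=
      Submodule.quotEquivOfEqBot _ (by simp)
    exact Module.Flat.of_linearEquiv (e.restrictScalars A)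
  | cons r rs ih =>
    intro M _ _ _ _ _
    rw [isWeaklyRegular_cons_iff, isWeaklyRegular_cons_iff]
    have hr := isSMulRegular_iff_quotient A M I hI r
    constructor
    · constructor
      · rintro ⟨h1, h2⟩
        have := flat_quotSMulTop A M r h1
        refine ⟨hr.mp h1, ?_⟩
        have := (ih (QuotSMulTop r M)).1.mp h2
        exact ((quotSMulTopQuotEquiv M _ r).isWeaklyRegular_congr rs).mp this
      · rintro ⟨h1, h2⟩
        have h1' := hr.mpr h1
        have := flat_quotSMulTop A M r h1'
        refine ⟨h1', ?_⟩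
        exact (ih (QuotSMulTop r M)).1.mpr
          (((quotSMulTopQuotEquiv M _ r).isWeaklyRegular_congr rs).mpr h2)
    · rintro ⟨h1, h2⟩
      have := flat_quotSMulTop A M r h1
      have := (ih (QuotSMulTop r M)).2 h2
      exact Module.Flat.of_linearEquiv
        ((Submodule.quotOfListConsSMulTopEquivQuotSMulTopInner M r rs).restrictScalars A)

omit [IsLocalRing A] [IsArtinianRing A] in
theorem top_eq_smul_top_iff_quotient {J : Ideal R} (hJ : IsNilpotent J) (K : Ideal R) (M : Type*)
    [AddCommGroup M] [Module R M] :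
    (⊤ : Submodule R M) = K • ⊤ ↔
      (⊤ : Submodule R (M ⧸ J • (⊤ : Submodule R M))) = K • ⊤ := by
  have hmap : (K • (⊤ : Submodule R M)).map (J • (⊤ : Submodule R M)).mkQ = K • ⊤ := by
    rw [Submodule.map_smul'', Submodule.map_top, Submodule.range_mkQ]
  constructor
  · intro h
    rw [← hmap, ← h, Submodule.map_top, Submodule.range_mkQ]
  · intro h
    rw [← hmap] at h
    have h2 := congrArg (Submodule.comap (J • (⊤ : Submodule R M)).mkQ) h
    rw [Submodule.comap_map_mkQ, Submodule.comap_top] at h2
    refine le_antisymm ?_ le_top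
    refine Groth.Agent.H1.Submodule.le_of_le_sup_smul_of_isNilpotent hJ ?_
    exact le_of_eq (h2.trans (sup_comm _ _))

include hI in
theorem isNilpotent_map : IsNilpotent (I.map (algebraMap A R)) := by
  obtain ⟨n, hn⟩ := isNilpotent_maximalIdeal A
  refine ⟨n, ?_⟩
  rw [← Ideal.map_pow, Ideal.zero_eq_bot, eq_bot_iff]
  have h1 : I ^ n ≤ IsLocalRing.maximalIdeal A ^ n :=
    Ideal.pow_right_mono (IsLocalRing.le_maximalIdeal hI) n
  rw [hn, Ideal.zero_eq_bot, le_bot_iff] at h1
  rw [h1, Ideal.map_bot]

include hI in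
theorem isRegular_iff_quotient (rs : List R) (M : Type v) [AddCommGroup M] [Module R M] [Module A M]
    [IsScalarTower A R M] [Module.Flat A M] :
    IsRegular M rs ↔
      IsRegular (M ⧸ (I.map (algebraMap A R)) • (⊤ : Submodule R M)) rs := by
  rw [RingTheory.Sequence.isRegular_iff, RingTheory.Sequence.isRegular_iff,
    (isWeaklyRegular_iff_and_flat A I hI rs M).1, ne_eq, ne_eq,
    top_eq_smul_top_iff_quotient (isNilpotent_map A I hI) (Ideal.ofList rs) M]

end lists

section rings

variable (A : Type u) [CommRing A] [IsLocalRing A] [IsArtinianRing A]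
variable (I : Ideal A) (hI : I ≠ ⊤) (S : Type v) [CommRing S] [Algebra A S] [Module.Flat A S]

theorem mem_nonZeroDivisors_quotient_iff {S : Type*} [CommRing S] (J : Ideal S) (f : S) :
    Ideal.Quotient.mk J f ∈ nonZeroDivisors (S ⧸ J) ↔ ∀ x, f * x ∈ J → x ∈ J := by
  rw [mem_nonZeroDivisors_iff_left]
  constructor
  · intro h x hx
    have := h (Ideal.Quotient.mk J x) (by rw [← map_mul, Ideal.Quotient.eq_zero_iff_mem]; exact hx)
    exact Ideal.Quotient.eq_zero_iff_mem.mp this
  · intro h x hx
    obtain ⟨x, rfl⟩ := Ideal.Quotient.mk_surjective x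
    rw [← map_mul, Ideal.Quotient.eq_zero_iff_mem] at hx
    exact Ideal.Quotient.eq_zero_iff_mem.mpr (h x hx)

include hI in
theorem mem_nonZeroDivisors_iff_quotient (f : S) :
    f ∈ nonZeroDivisors S ↔
      Ideal.Quotient.mk (I.map (algebraMap A S)) f ∈
        nonZeroDivisors (S ⧸ I.map (algebraMap A S)) := by
  let φ : S →ₗ[A] S := (LinearMap.lsmul S S f).restrictScalars A
  have h1 : f ∈ nonZeroDivisors S ↔ Injective φ := by
    rw [mem_nonZeroDivisors_iff_left, injective_iff_map_eq_zero]
    rfl
  rw [h1, injective_iff_mem A φ I hI, mem_nonZeroDivisors_quotient_iff, Ideal.smul_top_eq_map]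
  rfl

theorem flat_quotient_span_singleton (f : S) (hf : f ∈ nonZeroDivisors S) :
    Module.Flat A (S ⧸ Ideal.span {f}) := by
  let φ : S →ₗ[A] S := (LinearMap.lsmul S S f).restrictScalars A
  have h1 : Injective φ := by
    rw [injective_iff_map_eq_zero]
    exact mem_nonZeroDivisors_iff_left.mp hf
  let π : S →ₗ[A] S ⧸ Ideal.span {f} := (Submodule.mkQ (Ideal.span {f})).restrictScalars A
  have hπ : Surjective π := Submodule.mkQ_surjective (Ideal.span {f})
  refine flat_of_injective_of_exact A φ h1 π hπ ?_
  intro m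
  change Submodule.Quotient.mk m = 0 ↔ _
  rw [Submodule.Quotient.mk_eq_zero, Ideal.mem_span_singleton']
  constructor
  · rintro ⟨a, rfl⟩
    exact ⟨a, mul_comm _ _⟩
  · rintro ⟨a, rfl⟩
    exact ⟨a, mul_comm _ _⟩

open RingTheory.Sequence in
omit [IsLocalRing A] [IsArtinianRing A] in
theorem isRegular_map_algebraMap_iff {R S M : Type*} [CommRing R] [CommRing S] [Algebra R S]
    [AddCommGroup M] [Module R M] [Module S M] [IsScalarTower R S M] (rs : List R) :
    IsRegular M (rs.map (algebraMap R S)) ↔ IsRegular M rs := by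
  rw [RingTheory.Sequence.isRegular_iff, RingTheory.Sequence.isRegular_iff,
    isWeaklyRegular_map_algebraMap_iff, ne_eq, ne_eq,
    ← Submodule.restrictScalars_inj R S, ← Ideal.map_ofList, Ideal.smul_restrictScalars,
    Submodule.restrictScalars_top]

open RingTheory.Sequence in
include hI in
/-- Ring form: a sequence in a flat `A`-algebra `S` is regular iff its image in `S/IS` is. -/
theorem isRegular_iff_quotient_ring (rs : List S) :
    IsRegular S rs ↔
      IsRegular (S ⧸ I.map (algebraMap A S))
        (rs.map (Ideal.Quotient.mk (I.map (algebraMap A S)))) := by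
  rw [isRegular_iff_quotient A I hI rs S, ← Ideal.Quotient.algebraMap_eq,
    isRegular_map_algebraMap_iff]
  have heq : (I.map (algebraMap A S)) • (⊤ : Submodule S S) = I.map (algebraMap A S) := by
    rw [smul_eq_mul, Ideal.mul_top]
  exact (Submodule.quotEquivOfEq _ _ heq).isRegular_congr rs

open RingTheory.Sequence in
include hI in
/-- Ring form: if the image of `rs` in `S/IS` is weakly regular then `S/(rs)` is flat over `A`. -/
theorem flat_quotient_ofList (rs : List S)
    (h : IsWeaklyRegular (S ⧸ I.map (algebraMap A S))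
        (rs.map (Ideal.Quotient.mk (I.map (algebraMap A S))))) :
    Module.Flat A (S ⧸ Ideal.ofList rs) := by
  rw [← Ideal.Quotient.algebraMap_eq, isWeaklyRegular_map_algebraMap_iff] at h
  have heq : (I.map (algebraMap A S)) • (⊤ : Submodule S S) = I.map (algebraMap A S) := by
    rw [smul_eq_mul, Ideal.mul_top]
  have h2 := ((Submodule.quotEquivOfEq _ _ heq).isWeaklyRegular_congr rs).mpr h
  have h3 := (isWeaklyRegular_iff_and_flat A I hI rs S).1.mpr h2
  have h4 := (isWeaklyRegular_iff_and_flat A I hI rs S).2 h3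
  have heq2 : Ideal.ofList rs • (⊤ : Submodule S S) = Ideal.ofList rs := by
    rw [smul_eq_mul, Ideal.mul_top]
  exact Module.Flat.of_linearEquiv
    ((Submodule.quotEquivOfEq _ _ heq2).symm.restrictScalars A)

end rings

end Groth.Agent.H1.ArtinFlatReg
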