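import Mathlib
import Groth.Agent.Lib.Helper1.FlatNilpotent

/-!
# Universal flattening ideal for a module which is free modulo a nilpotent ideal

Let `J` be a nilpotent ideal of `A` and `M` an `A`-module with `(A/J) ⊗ M` free over `A/J`.
Lift a basis to a family `m : ι → M`; then `π : F = (ι →₀ A) → M` is surjective, and the ideal `R₀`
generated by the coordinates of the elements of `ker π` is the universal flattening ideal:
for any `A`-algebra `A'`, `A' ⊗ M` is flat iff it is free iff `R₀ A' = 0`.
-/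

set_option autoImplicit false

universe u v w

open TensorProduct

namespace Groth.Agent.H1.UnivFlat

variable {A : Type*} [CommRing A] {M : Type*} [AddCommGroup M] [Module A M] {ι : Type*}
  {F : Type*} [AddCommGroup F] [Module A F] (b : Module.Basis ι A F) (π : F →ₗ[A] M)

/-- the content ideal of the kernel of the presentation -/
def R₀ : Ideal A := Ideal.span {a | ∃ x ∈ LinearMap.ker π, ∃ i, a = b.repr x i}

theorem coord_mem_R₀ {x : F} (hx : x ∈ LinearMap.ker π) (i : ι) : b.repr x i ∈ R₀ b π :=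
  Ideal.subset_span ⟨x, hx, i, rfl⟩

/-- If `R₀ A' = 0` then `A' ⊗ π` is bijective. -/
theorem bijective_baseChange_of_map_eq_bot (hsurj : Function.Surjective π)
    (A' : Type*) [CommRing A'] [Algebra A A'] (h0 : (R₀ b π).map (algebraMap A A') = ⊥) :
    Function.Bijective (π.baseChange A') := by
  rw [LinearMap.baseChange_eq_ltensor]
  refine ⟨?_, LinearMap.lTensor_surjective A' hsurj⟩
  have hex := lTensor_exact A' (LinearMap.exact_subtype_ker_map π) hsurj
  rw [← LinearMap.ker_eq_bot, LinearMap.ker_eq_bot']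
  intro x hx
  obtain ⟨y, rfl⟩ := (hex x).mp hx
  have hzero : (LinearMap.ker π).subtype.lTensor A' = 0 := by
    apply TensorProduct.ext'
    intro a' k
    rw [LinearMap.lTensor_tmul, LinearMap.zero_apply, Submodule.subtype_apply]
    have hk : ∑ i ∈ (b.repr k).support, b.repr k i • b i = (k : F) :=
      b.linearCombination_repr k
    rw [← hk, TensorProduct.tmul_sum]
    refine Finset.sum_eq_zero (fun i _ => ?_)
    rw [← TensorProduct.smul_tmul, Algebra.smul_def]
    have : algebraMap A A' (b.repr k i) = 0 := by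
      have hmem : algebraMap A A' (b.repr k i) ∈ (R₀ b π).map (algebraMap A A') :=
        Ideal.mem_map_of_mem _ (coord_mem_R₀ b π k.2 i)
      rw [h0] at hmem
      exact hmem
    rw [this, zero_mul, TensorProduct.zero_tmul]
  rw [hzero, LinearMap.zero_apply]

/-- the kernel of the presentation lies in `J • ⊤` when `π` is injective modulo `J` -/
theorem ker_le_smul_top (J : Ideal A) (hinj : Function.Injective (π.lTensor (A ⧸ J))) :
    LinearMap.ker π ≤ J • (⊤ : Submodule A F) := by
  intro k hk
  have h1 : π.lTensor (A ⧸ J) ((1 : A ⧸ J) ⊗ₜ k) = 0 := by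
    rw [LinearMap.lTensor_tmul, (hk : π k = 0), TensorProduct.tmul_zero]
  have h2 : ((1 : A ⧸ J) ⊗ₜ[A] k) = 0 := hinj (h1.trans (map_zero _).symm)
  have h3 := congrArg (TensorProduct.quotTensorEquivQuotSMul F J) h2
  rw [TensorProduct.quotTensorEquivQuotSMul_mk_one_tmul, map_zero,
    Submodule.Quotient.mk_eq_zero] at h3
  exact h3

/-- a surjection whose kernel lies in `J • ⊤` is injective modulo `J` -/
theorem lTensor_injective_of_ker_le_smul_top (J : Ideal A) (hsurj : Function.Surjective π)
    (hker : LinearMap.ker π ≤ J • (⊤ : Submodule A F)) :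
    Function.Injective (π.lTensor (A ⧸ J)) := by
  have hex := lTensor_exact (A ⧸ J) (LinearMap.exact_subtype_ker_map π) hsurj
  rw [← LinearMap.ker_eq_bot, LinearMap.ker_eq_bot']
  intro x hx
  obtain ⟨y, rfl⟩ := (hex x).mp hx
  have hzero : (LinearMap.ker π).subtype.lTensor (A ⧸ J) = 0 := by
    apply TensorProduct.ext'
    intro q k
    rw [LinearMap.lTensor_tmul, LinearMap.zero_apply, Submodule.subtype_apply]
    refine Submodule.smul_induction_on (hker k.2) ?_ ?_
    · intro j hj f _
      rw [← TensorProduct.smul_tmul]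
      have : j • q = 0 := by
        obtain ⟨q, rfl⟩ := Ideal.Quotient.mk_surjective q
        rw [Algebra.smul_def, Ideal.Quotient.algebraMap_eq, ← map_mul]
        exact Ideal.Quotient.eq_zero_iff_mem.mpr (Ideal.mul_mem_right _ _ hj)
      rw [this, TensorProduct.zero_tmul]
    · intro x y hx hy
      rw [TensorProduct.tmul_add, hx, hy, add_zero]
  rw [hzero, LinearMap.zero_apply]

/-- If `A' ⊗ M` is flat over `A'` (and `π` is bijective modulo the nilpotent `J`), then
`R₀ A' = 0`. -/
theorem map_eq_bot_of_flat (J : Ideal A) (hJ : IsNilpotent J)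
    (hsurj : Function.Surjective π)
    (hinj : Function.Injective (π.lTensor (A ⧸ J)))
    (A' : Type*) [CommRing A'] [Algebra A A'] [Module.Flat A' (A' ⊗[A] M)] :
    (R₀ b π).map (algebraMap A A') = ⊥ := by
  obtain ⟨J', hJ'⟩ : ∃ J' : Ideal A', J' = J.map (algebraMap A A') := ⟨_, rfl⟩
  have hJ'nil : IsNilpotent J' := by
    obtain ⟨n, hn⟩ := hJ
    refine ⟨n, ?_⟩
    rw [hJ', ← Ideal.map_pow, hn]
    exact Ideal.map_bot
  obtain ⟨π', hπ'⟩ : ∃ π' : A' ⊗[A] F →ₗ[A'] A' ⊗[A] M, π' = π.baseChange A' := ⟨_, rfl⟩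
  have hπ'surj : Function.Surjective π' := by
    rw [hπ', LinearMap.baseChange_eq_ltensor]
    exact LinearMap.lTensor_surjective A' hsurj
  -- the kernel of π' lies in J' • ⊤
  have hrange : ∀ y : A' ⊗[A] (LinearMap.ker π),
      (LinearMap.ker π).subtype.lTensor A' y ∈
        J' • (⊤ : Submodule A' (A' ⊗[A] F)) := by
    intro y
    induction y using TensorProduct.induction_on with
    | zero => rw [map_zero]; exact Submodule.zero_mem _
    | add y₁ y₂ h₁ h₂ => rw [map_add]; exact Submodule.add_mem _ h₁ h₂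
    | tmul a' k =>
      rw [LinearMap.lTensor_tmul, Submodule.subtype_apply]
      have hk := ker_le_smul_top π J hinj k.2
      refine Submodule.smul_induction_on hk ?_ ?_
      · intro j hj f _
        rw [TensorProduct.tmul_smul, ← algebraMap_smul A' j (a' ⊗ₜ[A] f)]
        exact Submodule.smul_mem_smul (hJ' ▸ Ideal.mem_map_of_mem _ hj) Submodule.mem_top
      · intro x y hx hy
        rw [TensorProduct.tmul_add]; exact Submodule.add_mem _ hx hy
  have hker : LinearMap.ker π' ≤ J' • (⊤ : Submodule A' (A' ⊗[A] F)) := by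
    intro x hx
    have hex := lTensor_exact A' (LinearMap.exact_subtype_ker_map π) hsurj
    have hx' : π.lTensor A' x = 0 := by
      have := (LinearMap.mem_ker.mp hx)
      rwa [hπ', LinearMap.baseChange_eq_ltensor] at this
    obtain ⟨y, rfl⟩ := (hex x).mp hx'
    exact hrange y
  -- hence π' is injective modulo J'
  have hinj' : Function.Injective (π'.lTensor (A' ⧸ J')) :=
    lTensor_injective_of_ker_le_smul_top π' J' hπ'surj hker
  have hπ'inj : Function.Injective π' :=
    Groth.Agent.H1.injective_of_lTensor_injective_of_isNilpotent hJ'nil π' hπ'surj hinj'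
  rw [R₀, Ideal.map_span, Ideal.span_eq_bot]
  rintro _ ⟨a, ⟨x, hx, i, rfl⟩, rfl⟩
  have h1 : π' ((1 : A') ⊗ₜ[A] x) = 0 := by
    rw [hπ', LinearMap.baseChange_tmul, (hx : π x = 0), TensorProduct.tmul_zero]
  have h2 : ((1 : A') ⊗ₜ[A] x) = 0 := hπ'inj (h1.trans (map_zero _).symm)
  have h3 := congrArg (fun z => (b.baseChange A').repr z i) h2
  simp only [Module.Basis.baseChange_repr_tmul, map_zero, Finsupp.coe_zero, Pi.zero_apply,
    one_mul] at h3
  rw [← h3, Algebra.smul_def, mul_one]

end Groth.Agent.H1.UnivFlat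

namespace Groth.Agent.H1.UnivFlat

/-- **Universal flattening ideal** of a module which is free modulo a nilpotent ideal. -/
theorem exists_univ_flat {A : Type u} [CommRing A] (M : Type v) [AddCommGroup M] [Module A M]
    (J : Ideal A) (hJ : IsNilpotent J) (hfree : Module.Free (A ⧸ J) ((A ⧸ J) ⊗[A] M)) :
    ∃ R : Ideal A, ∀ (A' : Type w) [CommRing A'] [Algebra A A'],
      (Ideal.map (algebraMap A A') R = ⊥ → Module.Free A' (A' ⊗[A] M)) ∧
      (Module.Flat A' (A' ⊗[A] M) → Ideal.map (algebraMap A A') R = ⊥) := by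
  classical
  obtain ⟨ι, bb⟩ : ∃ ι : Type (max u v), Nonempty (Module.Basis ι (A ⧸ J) ((A ⧸ J) ⊗[A] M)) :=
    ⟨_, ⟨Module.Free.chooseBasis (A ⧸ J) ((A ⧸ J) ⊗[A] M)⟩⟩
  obtain ⟨bb⟩ := bb
  have hmk := TensorProduct.mk_surjective A M (A ⧸ J) Ideal.Quotient.mk_surjective
  choose m hm using fun i => hmk (bb i)
  obtain ⟨b, hb⟩ : ∃ b : Module.Basis ι A (ι →₀ A), b = Finsupp.basisSingleOne := ⟨_, rfl⟩
  obtain ⟨π, hπ⟩ : ∃ π : (ι →₀ A) →ₗ[A] M, π = Finsupp.linearCombination A m := ⟨_, rfl⟩
  have hπb : ∀ i, π (b i) = m i := by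
    intro i
    rw [hπ, hb, Finsupp.coe_basisSingleOne, Finsupp.linearCombination_single, one_smul]
  have hbc : π.baseChange (A ⧸ J) =
      ((b.baseChange (A ⧸ J)).equiv bb (Equiv.refl ι)).toLinearMap := by
    refine (b.baseChange (A ⧸ J)).ext (fun i => ?_)
    rw [LinearEquiv.coe_coe, Module.Basis.equiv_apply, Module.Basis.baseChange_apply,
      LinearMap.baseChange_tmul, hπb, Equiv.refl_apply, ← hm i]
    rfl
  have hbij : Function.Bijective (π.lTensor (A ⧸ J)) := by
    have h1 : Function.Bijective (π.baseChange (A ⧸ J)) := by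
      rw [hbc]; exact LinearEquiv.bijective _
    have h2 : ⇑(π.baseChange (A ⧸ J)) = ⇑(π.lTensor (A ⧸ J)) := by
      rw [LinearMap.baseChange_eq_ltensor]
    rwa [h2] at h1
  have hsurj : Function.Surjective π :=
    Groth.Agent.H1.surjective_of_lTensor_surjective_of_isNilpotent hJ π hbij.2
  refine ⟨R₀ b π, fun A' _ _ => ⟨fun h0 => ?_, fun hfl => ?_⟩⟩
  · have hb' := bijective_baseChange_of_map_eq_bot b π hsurj A' h0
    exact Module.Free.of_equiv (LinearEquiv.ofBijective (π.baseChange A') hb')
  · exact map_eq_bot_of_flat b π J hJ hsurj hbij.1 A'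

end Groth.Agent.H1.UnivFlat
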