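import Mathlib
import Groth.Agent.Lib.Helper1.UnivFlat

/-!
# Flatness over semi-local rings with nilpotent radical, tested on a jointly injective family

Let `A` be a semi-local ring whose Jacobson radical is nilpotent and `(A → B i)` a family of ring
maps whose kernels have zero intersection.  Then `M` is flat over `A` iff every `B i ⊗ M` is
flat over `B i`.
-/

set_option autoImplicit false

universe u v w

open TensorProduct

namespace Groth.Agent.H1.SemilocalFlat

section elt

variable {A : Type*} [CommRing A]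

/-- an element outside `P` killing `P ^ N`. -/
theorem exists_elt [Finite (MaximalSpectrum A)] (N : ℕ) (hN : Ring.jacobson A ^ N = ⊥)
    (P : Ideal A) [hP : P.IsMaximal] : ∃ e : A, e ∉ P ∧ ∀ x ∈ P ^ N, e * x = 0 := by
  classical
  have hfin : Fintype (MaximalSpectrum A) := Fintype.ofFinite _
  -- for every maximal ideal other than `P`, an element in it outside `P`
  have hex : ∀ m : MaximalSpectrum A, ∃ x : A, x ∉ P ∧ (m.asIdeal ≠ P → x ∈ m.asIdeal) := by
    intro m
    by_cases hm : m.asIdeal = P
    · exact ⟨1, fun h => hP.ne_top ((Ideal.eq_top_iff_one _).mpr h), fun h => absurd hm h⟩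
    · have : ¬ m.asIdeal ≤ P := fun hle => hm (m.isMaximal.eq_of_le hP.ne_top hle)
      obtain ⟨x, hxm, hxP⟩ := Set.not_subset.mp this
      exact ⟨x, hxP, fun _ => hxm⟩
  choose x hxP hxm using hex
  obtain ⟨y, hy⟩ : ∃ y : A, y = ∏ m : MaximalSpectrum A, x m := ⟨_, rfl⟩
  have hyP : y ∉ P := by
    rw [hy]
    intro h
    obtain ⟨m, _, hm⟩ := (hP.isPrime.prod_mem_iff).mp h
    exact hxP m hm
  have hyJ : Ideal.span {y} * P ≤ Ring.jacobson A := by
    rw [Ring.jacobson_eq_sInf_isMaximal]
    refine le_sInf (fun Q hQ => ?_)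
    have hQ' : Q.IsMaximal := hQ
    by_cases hQP : Q = P
    · rw [hQP]; exact Ideal.mul_le_right
    · refine le_trans Ideal.mul_le_left ?_
      rw [Ideal.span_singleton_le_iff_mem, hy]
      have hmem : x ⟨Q, hQ'⟩ ∈ Q := hxm ⟨Q, hQ'⟩ hQP
      rw [← Finset.mul_prod_erase Finset.univ x (Finset.mem_univ ⟨Q, hQ'⟩)]
      exact Ideal.mul_mem_right _ _ hmem
  refine ⟨y ^ N, fun h => hyP (hP.isPrime.mem_of_pow_mem N h), fun z hz => ?_⟩
  have h1 : (Ideal.span {y} * P) ^ N ≤ ⊥ := by
    rw [← hN]; exact Ideal.pow_right_mono hyJ N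
  have h2 : y ^ N * z ∈ (Ideal.span {y} * P) ^ N := by
    rw [mul_pow, Ideal.span_singleton_pow]
    exact Ideal.mul_mem_mul (Ideal.mem_span_singleton_self _) hz
  exact (Submodule.mem_bot A).mp (h1 h2)

/-- such an element is a multiple of every `t ∉ P`. -/
theorem elt_dvd {N : ℕ} {P : Ideal A} [hP : P.IsMaximal] {e : A}
    (he : ∀ x ∈ P ^ N, e * x = 0) (t : A) (ht : t ∉ P) : ∃ α : A, e = α * t := by
  have htop : Ideal.span {t} ⊔ P ^ N = ⊤ := by
    by_contra hne
    obtain ⟨Q, hQ, hle⟩ := Ideal.exists_le_maximal _ hne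
    have h1 : P ≤ Q := hQ.isPrime.le_of_pow_le (le_trans le_sup_right hle)
    have h2 : P = Q := hP.eq_of_le hQ.ne_top h1
    exact ht (h2 ▸ hle (Ideal.mem_sup_left (Ideal.mem_span_singleton_self t)))
  have h1 : (1 : A) ∈ Ideal.span {t} ⊔ P ^ N := htop ▸ Submodule.mem_top
  obtain ⟨a, ha, μ, hμ, h⟩ := Submodule.mem_sup.mp h1
  obtain ⟨α, rfl⟩ := Ideal.mem_span_singleton'.mp ha
  refine ⟨e * α, ?_⟩
  have := he μ hμ
  calc e = e * (α * t + μ) := by rw [h, mul_one]
    _ = e * α * t := by rw [mul_add, this, add_zero, mul_assoc]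

/-- the maximal ideal of the localization is nilpotent -/
theorem maximalIdeal_pow_eq_bot {N : ℕ} {P : Ideal A} [hP : P.IsMaximal] {e : A} (heP : e ∉ P)
    (he : ∀ x ∈ P ^ N, e * x = 0) :
    IsLocalRing.maximalIdeal (Localization.AtPrime P) ^ N = ⊥ := by
  rw [← Localization.AtPrime.map_eq_maximalIdeal, ← Ideal.map_pow, Ideal.map, Ideal.span_eq_bot]
  rintro _ ⟨x, hx, rfl⟩
  rw [IsLocalization.map_eq_zero_iff P.primeCompl]
  exact ⟨⟨e, heP⟩, he x hx⟩

end elt

/-- transfer of flatness between two towers -/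
theorem flat_transfer {A : Type*} [CommRing A] (M : Type*) [AddCommGroup M] [Module A M]
    (C D E : Type*) [CommRing C] [CommRing D] [CommRing E] [Algebra A C] [Algebra A D]
    [Algebra A E] [Algebra C E] [Algebra D E] [IsScalarTower A C E] [IsScalarTower A D E]
    [Module.Flat D (D ⊗[A] M)] : Module.Flat E (E ⊗[C] (C ⊗[A] M)) := by
  have h1 : Module.Flat E (E ⊗[D] (D ⊗[A] M)) := inferInstance
  have e1 : E ⊗[D] (D ⊗[A] M) ≃ₗ[E] E ⊗[A] M :=
    AlgebraTensorModule.cancelBaseChange A D E E M
  have e2 : E ⊗[C] (C ⊗[A] M) ≃ₗ[E] E ⊗[A] M :=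
    AlgebraTensorModule.cancelBaseChange A C E E M
  exact Module.Flat.of_linearEquiv (e2 ≪≫ₗ e1.symm)

attribute [local instance] Algebra.TensorProduct.rightAlgebra in
/-- **EGA IV 11.4.x**: flatness over a semi-local ring with nilpotent radical can be tested on a
jointly injective family of ring maps. -/
theorem flat_of_forall_flat {A : Type u} [CommRing A]
    [Finite (MaximalSpectrum A)] (hnil : IsNilpotent (Ring.jacobson A))
    {ι : Type*} (B : ι → Type u) [∀ i, CommRing (B i)] [∀ i, Algebra A (B i)]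
    (hB : ∀ a : A, (∀ i, algebraMap A (B i) a = 0) → a = 0)
    (M : Type v) [AddCommGroup M] [Module A M]
    (h : ∀ i, Module.Flat (B i) (B i ⊗[A] M)) : Module.Flat A M := by
  obtain ⟨N, hN⟩ := hnil
  refine Module.flat_of_isLocalized_maximal A M
    (fun P _ => Localization.AtPrime P ⊗[A] M)
    (fun P _ => TensorProduct.mk A (Localization.AtPrime P) M 1) (fun P hP => ?_)
  obtain ⟨e, heP, he⟩ := exists_elt N hN P
  have hmax := maximalIdeal_pow_eq_bot heP he
  suffices hfl : Module.Flat (Localization.AtPrime P) (Localization.AtPrime P ⊗[A] M) from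
    Module.Flat.trans A (Localization.AtPrime P) _
  letI : Field (Localization.AtPrime P ⧸ IsLocalRing.maximalIdeal (Localization.AtPrime P)) :=
    Ideal.Quotient.field _
  obtain ⟨R, hR⟩ := Groth.Agent.H1.UnivFlat.exists_univ_flat.{u, max u v, u}
    (Localization.AtPrime P ⊗[A] M) (IsLocalRing.maximalIdeal (Localization.AtPrime P))
    ⟨N, hmax⟩ (Module.Free.of_divisionRing _ _)
  have hR0 : R = ⊥ := by
    rw [eq_bot_iff]
    intro x hx
    obtain ⟨a, s, rfl⟩ := IsLocalization.exists_mk'_eq P.primeCompl x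
    have ha : algebraMap A (Localization.AtPrime P) a ∈ R := by
      rw [← IsLocalization.mk'_spec' (Localization.AtPrime P) a s]
      exact Ideal.mul_mem_left _ _ hx
    have hea : e * a = 0 := by
      refine hB _ (fun i => ?_)
      have hfl : Module.Flat (Localization.AtPrime P ⊗[A] B i)
          ((Localization.AtPrime P ⊗[A] B i) ⊗[Localization.AtPrime P]
            (Localization.AtPrime P ⊗[A] M)) :=
        flat_transfer M (Localization.AtPrime P) (B i) (Localization.AtPrime P ⊗[A] B i)
      have h0 := (hR (Localization.AtPrime P ⊗[A] B i)).2 hfl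
      have h1 : algebraMap (Localization.AtPrime P) (Localization.AtPrime P ⊗[A] B i)
          (algebraMap A (Localization.AtPrime P) a) = 0 := by
        have := Ideal.mem_map_of_mem (algebraMap (Localization.AtPrime P)
          (Localization.AtPrime P ⊗[A] B i)) ha
        rw [h0] at this
        exact this
      have h2 : TensorProduct.mk A (Localization.AtPrime P) (B i) 1 (algebraMap A (B i) a) = 0 := by
        rw [← h1, Algebra.TensorProduct.algebraMap_apply, Algebra.algebraMap_self,
          RingHom.id_apply, TensorProduct.mk_apply, Algebra.algebraMap_eq_smul_one,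
          Algebra.algebraMap_eq_smul_one, TensorProduct.smul_tmul]
      obtain ⟨t, ht⟩ := (IsLocalizedModule.eq_zero_iff P.primeCompl
        (TensorProduct.mk A (Localization.AtPrime P) (B i) 1)).mp h2
      obtain ⟨α, hα⟩ := elt_dvd he t.1 t.2
      rw [hα, mul_assoc, map_mul]
      have : algebraMap A (B i) ((t : A) * a) = 0 := by
        rw [map_mul, ← Algebra.smul_def]; exact ht
      rw [this, mul_zero]
    rw [Submodule.mem_bot, IsLocalization.mk'_eq_zero_iff]
    exact ⟨⟨e, heP⟩, hea⟩
  have hfree := (hR (Localization.AtPrime P)).1 (by rw [hR0]; exact Ideal.map_bot)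
  have := Module.Free.of_equiv (TensorProduct.lid (Localization.AtPrime P)
    (Localization.AtPrime P ⊗[A] M))
  infer_instance

end Groth.Agent.H1.SemilocalFlat
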