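import Mathlib
import Groth.Agent.Lib.Helper1.SemilocalFlat

/-!
# Universal flattening ideal over an Artinian ring

For a module `N` over an Artinian ring `A` there is an ideal `I` such that for every `A`-algebra
`A'`, `A' ⊗ N` is flat over `A'` iff `I A' = 0`.
-/

set_option autoImplicit false

universe u v w

open TensorProduct

namespace Groth.Agent.H1.ArtinFlattening

variable {A : Type u} [CommRing A] (N : Type v) [AddCommGroup N] [Module A N]

/-- the set of ideals `K` such that `N/KN` is flat over `A/K` -/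
def FlatSet : Set (Ideal A) := {K | Module.Flat (A ⧸ K) ((A ⧸ K) ⊗[A] N)}

theorem flat_tower_iff (C E : Type*) [CommRing C] [CommRing E] [Algebra A C] [Algebra A E]
    [Algebra C E] [IsScalarTower A C E] :
    Module.Flat E (E ⊗[C] (C ⊗[A] N)) ↔ Module.Flat E (E ⊗[A] N) :=
  Module.Flat.equiv_iff (AlgebraTensorModule.cancelBaseChange A C E E N)

theorem flat_of_mem_flatSet {K : Ideal A} (hK : K ∈ FlatSet (A := A) N) (A' : Type*) [CommRing A']
    [Algebra A A'] (hle : K ≤ RingHom.ker (algebraMap A A')) : Module.Flat A' (A' ⊗[A] N) := by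
  letI : Algebra (A ⧸ K) A' :=
    (Ideal.Quotient.lift K (algebraMap A A') (fun a ha => hle ha)).toAlgebra
  haveI : IsScalarTower A (A ⧸ K) A' := IsScalarTower.of_algebraMap_eq (fun a => rfl)
  haveI : Module.Flat (A ⧸ K) ((A ⧸ K) ⊗[A] N) := hK
  exact (flat_tower_iff N (A ⧸ K) A').mp inferInstance

theorem ker_mem_flatSet [IsArtinianRing A] (A' : Type u) [CommRing A'] [Algebra A A']
    [hfl : Module.Flat A' (A' ⊗[A] N)] : RingHom.ker (algebraMap A A') ∈ FlatSet (A := A) N := by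
  obtain ⟨K, hK⟩ : ∃ K : Ideal A, K = RingHom.ker (algebraMap A A') := ⟨_, rfl⟩
  rw [← hK]
  letI : Algebra (A ⧸ K) A' :=
    (Ideal.Quotient.lift K (algebraMap A A') (fun a ha => by rw [hK] at ha; exact ha)).toAlgebra
  haveI : IsScalarTower A (A ⧸ K) A' := IsScalarTower.of_algebraMap_eq (fun a => rfl)
  refine Groth.Agent.H1.SemilocalFlat.flat_of_forall_flat (A := A ⧸ K)
    IsSemiprimaryRing.isNilpotent (ι := Unit) (fun _ => A') ?_ ((A ⧸ K) ⊗[A] N)
    (fun _ => (flat_tower_iff N (A ⧸ K) A').mpr hfl)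
  intro a ha
  obtain ⟨a, rfl⟩ := Ideal.Quotient.mk_surjective a
  have h1 : algebraMap A A' a = 0 := ha ()
  rw [Ideal.Quotient.eq_zero_iff_mem, hK]
  exact h1

theorem sInf_mem_flatSet [IsArtinianRing A] : sInf (FlatSet (A := A) N) ∈ FlatSet (A := A) N := by
  obtain ⟨I, hI⟩ : ∃ I : Ideal A, I = sInf (FlatSet (A := A) N) := ⟨_, rfl⟩
  rw [← hI]
  have hle : ∀ K : FlatSet (A := A) N, I ≤ K.1 := fun K => hI ▸ sInf_le K.2
  letI alg : ∀ K : FlatSet (A := A) N, Algebra (A ⧸ I) (A ⧸ K.1) :=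
    fun K => (Ideal.Quotient.factor (hle K)).toAlgebra
  haveI : ∀ K : FlatSet (A := A) N, IsScalarTower A (A ⧸ I) (A ⧸ K.1) :=
    fun K => IsScalarTower.of_algebraMap_eq (fun a => rfl)
  refine Groth.Agent.H1.SemilocalFlat.flat_of_forall_flat (A := A ⧸ I)
    IsSemiprimaryRing.isNilpotent (ι := FlatSet (A := A) N) (fun K => A ⧸ K.1) ?_ ((A ⧸ I) ⊗[A] N)
    (fun K => (flat_tower_iff N (A ⧸ I) (A ⧸ K.1)).mpr K.2)
  intro a ha
  obtain ⟨a, rfl⟩ := Ideal.Quotient.mk_surjective a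
  rw [Ideal.Quotient.eq_zero_iff_mem, hI, Submodule.mem_sInf]
  intro K hK
  have h1 : Ideal.Quotient.mk K a = 0 := ha ⟨K, hK⟩
  exact Ideal.Quotient.eq_zero_iff_mem.mp h1

/-- **Universal flattening over an Artinian ring.** -/
theorem exists_flattening [IsArtinianRing A] :
    ∃ I : Ideal A, ∀ (A' : Type u) [CommRing A'] [Algebra A A'],
      Module.Flat A' (A' ⊗[A] N) ↔ I.map (algebraMap A A') = ⊥ := by
  refine ⟨sInf (FlatSet (A := A) N), fun A' _ _ => ⟨fun h => ?_, fun h => ?_⟩⟩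
  · rw [Ideal.map_eq_bot_iff_le_ker]
    exact sInf_le (ker_mem_flatSet N A')
  · rw [Ideal.map_eq_bot_iff_le_ker] at h
    exact flat_of_mem_flatSet N (sInf_mem_flatSet N) A' h

end Groth.Agent.H1.ArtinFlattening
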