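import Mathlib
import Groth.Agent.Lib.Helper1.FibInj7

/-!
# Associated primes of `N ⊗_R M` for `N` flat over a Noetherian ring `R`
(Bourbaki AC IV §2.6 Thm 2 / Matsumura 23.2), for the radical form of associated primes
-/

set_option autoImplicit false

universe u

open TensorProduct Function

namespace Groth.Agent.H1.AssFlat


section basic

variable {R S : Type*} [CommRing R] [CommRing S] [Algebra R S]
  (N : Type*) [AddCommGroup N] [Module S N] [Module R N] [IsScalarTower R S N]

/-- `n ↦ n ⊗ 1`, `S`-linear, `N → N ⊗ R/p` -/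
noncomputable def mkQuot (p : Ideal R) : N →ₗ[S] N ⊗[R] (R ⧸ p) where
  toFun n := n ⊗ₜ 1
  map_add' x y := add_tmul x y 1
  map_smul' _ _ := rfl

theorem mkQuot_apply (p : Ideal R) (n : N) : mkQuot (S := S) N p n = n ⊗ₜ 1 := rfl

theorem mkQuot_surjective (p : Ideal R) : Surjective (mkQuot (S := S) N p) := by
  intro z
  induction z using TensorProduct.induction_on with
  | zero => exact ⟨0, map_zero _⟩
  | add a b ha hb =>
    obtain ⟨x, rfl⟩ := ha
    obtain ⟨y, rfl⟩ := hb
    exact ⟨x + y, map_add _ _ _⟩
  | tmul n r =>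
    obtain ⟨r, rfl⟩ := Ideal.Quotient.mk_surjective r
    refine ⟨r • n, ?_⟩
    rw [mkQuot_apply, TensorProduct.smul_tmul]
    congr 1
    rw [Algebra.smul_def, mul_one]
    rfl

theorem ker_mkQuot (p : Ideal R) :
    LinearMap.ker (mkQuot (S := S) N p) = p.map (algebraMap R S) • (⊤ : Submodule S N) := by
  ext n
  rw [LinearMap.mem_ker, mkQuot_apply, FibInj.mem_map_smul_top_iff,
    ← FibreFree.one_tmul_eq_zero_iff]
  constructor
  · intro h
    have := congrArg (TensorProduct.comm R N (R ⧸ p)) h
    rwa [TensorProduct.comm_tmul, map_zero] at this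
  · intro h
    have := congrArg (TensorProduct.comm R N (R ⧸ p)).symm h
    rwa [TensorProduct.comm_symm_tmul, map_zero] at this

/-- `N/pN ≃ N ⊗ R/p`, `S`-linear -/
noncomputable def quotEquiv (p : Ideal R) :
    (N ⧸ (p.map (algebraMap R S) • (⊤ : Submodule S N))) ≃ₗ[S] N ⊗[R] (R ⧸ p) :=
  Submodule.quotEquivOfEq _ _ (ker_mkQuot N p).symm ≪≫ₗ
    (mkQuot (S := S) N p).quotKerEquivOfSurjective (mkQuot_surjective N p)

end basic



section comap

variable {R S : Type*} [CommRing R] [CommRing S] [Algebra R S]
  (N : Type*) [AddCommGroup N] [Module S N] [Module R N] [IsScalarTower R S N]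

/-- characterization of membership in an associated prime (radical form) -/
theorem mem_of_isAssociatedPrime {T : Type*} [AddCommGroup T] [Module S T] {P : Ideal S} {ξ : T}
    (h : P = (Submodule.colon (⊥ : Submodule S T) {ξ}).radical) (s : S) :
    s ∈ P ↔ ∃ k : ℕ, s ^ k • ξ = 0 := by
  rw [h, Ideal.mem_radical_iff]
  simp only [Submodule.mem_colon_singleton, Submodule.mem_bot]

/-- an associated prime of `N ⊗ R/p` (with `N` flat) contracts to `p` -/
theorem comap_eq_of_mem_associatedPrimes_quot [Module.Flat R N] (p : Ideal R) [p.IsPrime]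
    (P : Ideal S) (hP : P ∈ associatedPrimes S (N ⊗[R] (R ⧸ p))) :
    P.comap (algebraMap R S) = p := by
  obtain ⟨hprime, ξ, hξ⟩ := hP
  have hmem := mem_of_isAssociatedPrime hξ
  have hξ0 : ξ ≠ 0 := by
    rintro rfl
    apply hprime.ne_top
    rw [Ideal.eq_top_iff_one, hmem]
    exact ⟨0, smul_zero _⟩
  ext r
  rw [Ideal.mem_comap, hmem]
  constructor
  · rintro ⟨k, hk⟩
    by_contra hr
    apply hξ0
    have hrk : r ^ k ∉ p := fun h => hr (Ideal.IsPrime.mem_of_pow_mem ‹_› k h)
    -- multiplication by `r^k` on `R/p` is injective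
    let μ : (R ⧸ p) →ₗ[R] (R ⧸ p) := LinearMap.lsmul R (R ⧸ p) (r ^ k)
    have hμ : Injective μ := by
      rw [← LinearMap.ker_eq_bot, LinearMap.ker_eq_bot']
      intro x hx
      obtain ⟨x, rfl⟩ := Ideal.Quotient.mk_surjective x
      change r ^ k • Ideal.Quotient.mk p x = 0 at hx
      rw [Algebra.smul_def, Ideal.Quotient.algebraMap_eq, ← map_mul,
        Ideal.Quotient.eq_zero_iff_mem] at hx
      rw [Ideal.Quotient.eq_zero_iff_mem]
      exact (Ideal.IsPrime.mem_or_mem ‹_› hx).resolve_left hrk
    have hinj := Module.Flat.lTensor_preserves_injective_linearMap (M := N) μ hμ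
    apply hinj
    rw [map_zero]
    have h1 : ∀ z : N ⊗[R] (R ⧸ p), μ.lTensor N z = r ^ k • z := by
      intro z
      induction z using TensorProduct.induction_on with
      | zero => simp
      | add a b ha hb => rw [map_add, ha, hb, smul_add]
      | tmul n x =>
        rw [LinearMap.lTensor_tmul, TensorProduct.smul_tmul', TensorProduct.smul_tmul]
        rfl
    rw [h1, ← algebraMap_smul S (r ^ k) ξ, map_pow]
    exact hk
  · intro hr
    refine ⟨1, ?_⟩
    rw [pow_one, algebraMap_smul]
    have h2 : ∀ z : N ⊗[R] (R ⧸ p), r • z = 0 := by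
      intro z
      induction z using TensorProduct.induction_on with
      | zero => exact smul_zero _
      | add a b ha hb => rw [smul_add, ha, hb, add_zero]
      | tmul n x =>
        rw [TensorProduct.smul_tmul', TensorProduct.smul_tmul]
        obtain ⟨x, rfl⟩ := Ideal.Quotient.mk_surjective x
        have : r • Ideal.Quotient.mk p x = 0 := by
          rw [Algebra.smul_def, Ideal.Quotient.algebraMap_eq, ← map_mul,
            Ideal.Quotient.eq_zero_iff_mem]
          exact Ideal.mul_mem_right _ _ hr
        rw [this, tmul_zero]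
    exact h2 ξ

end comap



section filt

variable {R S : Type u} [CommRing R] [IsNoetherianRing R] [CommRing S] [Algebra R S]
  (N : Type u) [AddCommGroup N] [Module S N] [Module R N] [IsScalarTower R S N] [Module.Flat R N]

/-- for finite `M`, an associated prime `P` of `N ⊗ M` is associated to `N ⊗ R/(P ∩ R)` -/
theorem mem_associatedPrimes_quot_comap_of_finite (M : Type u) [AddCommGroup M] [Module R M]
    [hfin : Module.Finite R M] (P : Ideal S) (hP : P ∈ associatedPrimes S (N ⊗[R] M)) :
    P ∈ associatedPrimes S (N ⊗[R] (R ⧸ P.comap (algebraMap R S))) := by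
  revert P
  induction hfin using IsNoetherianRing.induction_on_isQuotientEquivQuotientPrime R with
  | subsingleton M =>
    intro P hP
    exact absurd hP (not_isAssociatedPrime_of_subsingleton)
  | quotient M q e =>
    intro P hP
    let e' : N ⊗[R] M ≃ₗ[S] N ⊗[R] (R ⧸ q.asIdeal) :=
      TensorProduct.AlgebraTensorModule.congr (LinearEquiv.refl S N) e
    have h1 : P ∈ associatedPrimes S (N ⊗[R] (R ⧸ q.asIdeal)) :=
      (LinearEquiv.AssociatedPrimes.eq e') ▸ hP
    have h2 := comap_eq_of_mem_associatedPrimes_quot N q.asIdeal P h1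
    rw [h2]
    exact h1
  | exact M₁ M₂ M₃ f g hf hg hfg ih₁ ih₃ =>
    intro P hP
    have hinj : Injective (TensorProduct.AlgebraTensorModule.lTensor S N f) :=
      Module.Flat.lTensor_preserves_injective_linearMap (M := N) f hf
    have hex : Exact (TensorProduct.AlgebraTensorModule.lTensor S N f)
        (TensorProduct.AlgebraTensorModule.lTensor S N g) :=
      Module.Flat.lTensor_exact N hfg
    rcases associatedPrimes.subset_union_of_exact hinj hex hP with h | h
    · exact ih₁ P h
    · exact ih₃ P h

end filt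



section pull

variable {S : Type*} [CommRing S] {T T' : Type*} [AddCommGroup T] [Module S T]
  [AddCommGroup T'] [Module S T']

/-- the radical annihilator is preserved by injective maps -/
theorem radical_colon_eq_of_injective (f : T →ₗ[S] T') (hf : Injective f) (ξ : T) :
    (Submodule.colon (⊥ : Submodule S T') {f ξ}).radical =
      (Submodule.colon (⊥ : Submodule S T) {ξ}).radical := by
  congr 1
  ext s
  rw [Submodule.mem_colon_singleton, Submodule.mem_colon_singleton, Submodule.mem_bot,
    Submodule.mem_bot, ← map_smul, map_eq_zero_iff f hf]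

end pull

section main

variable {R S : Type u} [CommRing R] [IsNoetherianRing R] [CommRing S] [Algebra R S]
  (N : Type u) [AddCommGroup N] [Module S N] [Module R N] [IsScalarTower R S N] [Module.Flat R N]

omit [IsNoetherianRing R] in
/-- finitely generated reduction -/
theorem exists_finite_submodule (M : Type u) [AddCommGroup M] [Module R M] (P : Ideal S)
    (ξ : N ⊗[R] M) (hξ : P = (Submodule.colon (⊥ : Submodule S (N ⊗[R] M)) {ξ}).radical) :
    ∃ (M' : Submodule R M) (_ : Module.Finite R M') (ξ' : N ⊗[R] M'),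
      M'.subtype.lTensor N ξ' = ξ ∧
      P = (Submodule.colon (⊥ : Submodule S (N ⊗[R] M')) {ξ'}).radical := by
  obtain ⟨M', hfin, hsub⟩ := TensorProduct.exists_finite_submodule_right_of_setFinite
    ({ξ} : Set (N ⊗[R] M)) (Set.finite_singleton ξ)
  obtain ⟨ξ', hξ'⟩ := hsub (Set.mem_singleton ξ)
  refine ⟨M', hfin, ξ', hξ', ?_⟩
  have hinj : Injective (TensorProduct.AlgebraTensorModule.lTensor S N M'.subtype) :=
    Module.Flat.lTensor_preserves_injective_linearMap (M := N) M'.subtype
      (Submodule.injective_subtype M')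
  rw [hξ, ← radical_colon_eq_of_injective _ hinj ξ']
  congr 3
  exact hξ'.symm

omit [IsNoetherianRing R] [Module.Flat R N] in
theorem smul_eq_zero_of_forall_smul_eq_zero (M : Type u) [AddCommGroup M] [Module R M] (r : R)
    (h : ∀ x : M, r • x = 0) (z : N ⊗[R] M) : r • z = 0 := by
  induction z using TensorProduct.induction_on with
  | zero => exact smul_zero _
  | add a b ha hb => rw [smul_add, ha, hb, add_zero]
  | tmul n x => rw [TensorProduct.smul_tmul', TensorProduct.smul_tmul, h, tmul_zero]

set_option maxHeartbeats 800000 in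
/-- the contraction of an associated prime of `N ⊗ M` is an associated prime of `M` -/
theorem comap_mem_associatedPrimes (M : Type u) [AddCommGroup M] [Module R M] (P : Ideal S)
    (hP : P ∈ associatedPrimes S (N ⊗[R] M)) :
    P.comap (algebraMap R S) ∈ associatedPrimes R M := by
  classical
  obtain ⟨hprime, ξ, hξ⟩ := hP
  set p := P.comap (algebraMap R S) with hp
  haveI : p.IsPrime := Ideal.comap_isPrime _ _
  -- Step 1: a power of `p` kills `ξ`
  obtain ⟨k, hk⟩ : ∃ k : ℕ, (p.map (algebraMap R S)) ^ k ≤
      Submodule.colon (⊥ : Submodule S (N ⊗[R] M)) {ξ} := by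
    refine Ideal.exists_pow_le_of_le_radical_of_fg ?_ (Ideal.FG.map (IsNoetherian.noetherian p) _)
    rw [← hξ]
    exact Ideal.map_comap_le
  have hkill : ∀ a ∈ p ^ (k + 1), a • ξ = 0 := by
    intro a ha
    have h1 : algebraMap R S a ∈ (p.map (algebraMap R S)) ^ k := by
      rw [← Ideal.map_pow]
      exact Ideal.mem_map_of_mem _ (Ideal.pow_le_pow_right (Nat.le_succ k) ha)
    have h2 := hk h1
    rw [Submodule.mem_colon_singleton, Submodule.mem_bot, algebraMap_smul] at h2
    exact h2
  -- Step 2: `ξ` comes from `N ⊗ M[p^(k+1)]`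
  obtain ⟨s, hs⟩ : (p ^ (k + 1)).FG := IsNoetherian.noetherian _
  let φ : M →ₗ[R] (s → M) := LinearMap.pi fun b => LinearMap.lsmul R M (b : R)
  have hφξ : φ.lTensor N ξ = 0 := by
    apply (TensorProduct.piRight R R N (fun _ : s => M)).injective
    rw [map_zero]
    funext b
    have h1 : ∀ z : N ⊗[R] M, TensorProduct.piRight R R N (fun _ : s => M) (φ.lTensor N z) b =
        (b : R) • z := by
      intro z
      induction z using TensorProduct.induction_on with
      | zero => simp
      | add x y hx hy => rw [map_add, map_add, Pi.add_apply, hx, hy, smul_add]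
      | tmul n x =>
        rw [LinearMap.lTensor_tmul, TensorProduct.piRight_apply, TensorProduct.piRightHom_tmul,
          TensorProduct.smul_tmul', TensorProduct.smul_tmul]
        rfl
    rw [h1, Pi.zero_apply]
    exact hkill _ (hs ▸ Ideal.subset_span b.2)
  have hex := Module.Flat.lTensor_exact N (LinearMap.exact_subtype_ker_map φ)
  set M₁ : Submodule R M := LinearMap.ker φ with hM₁
  obtain ⟨ξ₁, hξ₁⟩ := (hex ξ).mp hφξ
  have hM₁kill : ∀ a ∈ p ^ (k + 1), ∀ x : M₁, a • x = 0 := by
    intro a ha x
    have hx : ∀ b : s, (b : R) • (x : M) = 0 := fun b => congrFun (LinearMap.mem_ker.mp x.2) b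
    rw [← hs] at ha
    apply Subtype.ext
    rw [Submodule.coe_smul, Submodule.coe_zero]
    refine Submodule.span_induction (p := fun a _ => a • (x : M) = 0) ?_ ?_ ?_ ?_ ha
    · intro b hb
      exact hx ⟨b, hb⟩
    · exact zero_smul _ _
    · intro a b _ _ ha hb
      rw [add_smul, ha, hb, add_zero]
    · intro c a _ ha
      rw [smul_eq_mul, mul_smul, ha, smul_zero]
  have hinj₁ : Injective (TensorProduct.AlgebraTensorModule.lTensor S N M₁.subtype) :=
    Module.Flat.lTensor_preserves_injective_linearMap (M := N) M₁.subtype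
      (Submodule.injective_subtype M₁)
  have hξ₁' : P = (Submodule.colon (⊥ : Submodule S (N ⊗[R] M₁)) {ξ₁}).radical := by
    rw [hξ, ← radical_colon_eq_of_injective _ hinj₁ ξ₁]
    congr 3
    exact hξ₁.symm
  -- Step 3: finitely generated reduction
  obtain ⟨M₂, hfin, ξ₂, -, hξ₂⟩ := exists_finite_submodule N M₁ P ξ₁ hξ₁'
  have hmem₂ : ∀ s : S, s ∈ P ↔ ∃ k : ℕ, s ^ k • ξ₂ = 0 := by
    intro s
    rw [hξ₂, Ideal.mem_radical_iff]
    simp only [Submodule.mem_colon_singleton, Submodule.mem_bot]
  -- Step 4: `p` is minimal over the annihilator of `M₂`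
  have hmin : p ∈ (Module.annihilator R M₂).minimalPrimes := by
    refine ⟨⟨inferInstance, ?_⟩, ?_⟩
    · intro r hr
      rw [Module.mem_annihilator] at hr
      have h1 : r • ξ₂ = 0 := smul_eq_zero_of_forall_smul_eq_zero N M₂ r hr ξ₂
      rw [hp, Ideal.mem_comap, hmem₂]
      exact ⟨1, by rw [pow_one, algebraMap_smul]; exact h1⟩
    · rintro q ⟨hq, hq'⟩ hqp
      have h1 : p ^ (k + 1) ≤ Module.annihilator R M₂ := by
        intro a ha
        rw [Module.mem_annihilator]
        intro x
        apply Subtype.ext
        rw [Submodule.coe_smul, Submodule.coe_zero]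
        exact hM₁kill a ha x.1
      exact (Ideal.IsPrime.pow_le_iff (Nat.succ_ne_zero k)).mp (h1.trans hq')
  have h3 := Module.associatedPrimes.minimalPrimes_annihilator_subset_associatedPrimes R M₂ hmin
  exact associatedPrimes.subset_of_injective (Submodule.injective_subtype M₁)
    (associatedPrimes.subset_of_injective (Submodule.injective_subtype M₂) h3)

end main

end Groth.Agent.H1.AssFlat
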