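import Mathlib
import Groth.Prelude.Def_FlatCA
import Groth.Agent.Lib.Helper1.RegFib1
import Groth.Agent.Lib.Helper1.AssFlat

/-!
# Associated primes of `N/pN` versus associated primes of the fibre module over the fibre ring
-/

set_option autoImplicit false

universe u

open TensorProduct Function

namespace Groth.Agent.H1.AssFibre

attribute [local instance] Algebra.TensorProduct.rightAlgebra



section maps

variable {R : Type u} [CommRing R] (p : Ideal R) [p.IsPrime] (S : Type u) [CommRing S]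
  [Algebra R S] (N : Type u) [AddCommGroup N] [Module S N] [Module R N] [IsScalarTower R S N]

/-- `κ ⊗ S → N ⊗ κ`, `k ⊗ s ↦ (s n) ⊗ k` -/
noncomputable def psi (n : N) : p.Fiber S →ₗ[R] N ⊗[R] p.ResidueField :=
  (LinearMap.rTensor p.ResidueField ((LinearMap.toSpanSingleton S N n).restrictScalars R)) ∘ₗ
    (TensorProduct.comm R p.ResidueField S).toLinearMap

theorem psi_tmul (n : N) (k : p.ResidueField) (s : S) :
    psi p S N n (k ⊗ₜ[R] s) = (s • n) ⊗ₜ[R] k := rfl

theorem psi_smul_left (n : N) (s₀ : S) (x : p.Fiber S) :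
    psi p S N n (s₀ • x) = s₀ • psi p S N n x := by
  induction x using TensorProduct.induction_on with
  | zero => rw [smul_zero, map_zero, smul_zero]
  | add a b ha hb => rw [smul_add, map_add, ha, hb, map_add, smul_add]
  | tmul k s =>
    have : s₀ • (k ⊗ₜ[R] s : p.Fiber S) = k ⊗ₜ[R] (s₀ * s) := by
      rw [Algebra.smul_def]
      change (1 : p.ResidueField) ⊗ₜ[R] s₀ * k ⊗ₜ[R] s = _
      rw [Algebra.TensorProduct.tmul_mul_tmul, one_mul]
    rw [this, psi_tmul, psi_tmul, mul_smul, TensorProduct.smul_tmul']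

theorem psi_add (n n' : N) (x : p.Fiber S) :
    psi p S N (n + n') x = psi p S N n x + psi p S N n' x := by
  induction x using TensorProduct.induction_on with
  | zero => simp
  | add a b ha hb => rw [map_add, ha, hb, map_add, map_add]; abel
  | tmul k s => rw [psi_tmul, psi_tmul, psi_tmul, smul_add, add_tmul]

theorem psi_smul_right (n : N) (s₀ : S) (x : p.Fiber S) :
    psi p S N (s₀ • n) x = s₀ • psi p S N n x := by
  induction x using TensorProduct.induction_on with
  | zero => rw [map_zero, map_zero, smul_zero]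
  | add a b ha hb => rw [map_add, ha, hb, map_add, smul_add]
  | tmul k s => rw [psi_tmul, psi_tmul, TensorProduct.smul_tmul', smul_smul, smul_smul, mul_comm]

/-- `(κ ⊗ S) ⊗_S N → N ⊗ κ` -/
noncomputable def Phi : FlatCA.fiberMod p S N →ₗ[S] N ⊗[R] p.ResidueField :=
  TensorProduct.lift (LinearMap.mk₂ S (fun (x : p.Fiber S) (n : N) => psi p S N n x)
    (fun x y _ => map_add _ x y)
    (fun s₀ x n => psi_smul_left p S N n s₀ x)
    (fun x n n' => psi_add p S N n n' x)
    (fun s₀ x n => psi_smul_right p S N n s₀ x))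

theorem Phi_one_tmul (n : N) :
    Phi p S N ((1 : p.Fiber S) ⊗ₜ[S] n) = n ⊗ₜ[R] (1 : p.ResidueField) := by
  change psi p S N n ((1 : p.ResidueField) ⊗ₜ[R] (1 : S)) = _
  rw [psi_tmul, one_smul]

/-- vanishing of `1 ⊗ n` in the fibre module -/
theorem exists_smul_mem_of_one_tmul_eq_zero (n : N)
    (h : ((1 : p.Fiber S) ⊗ₜ[S] n : FlatCA.fiberMod p S N) = 0) :
    ∃ a ∈ p.primeCompl, a • n ∈ p • (⊤ : Submodule R N) := by
  have h1 := Phi_one_tmul p S N n
  have h2 : Phi p S N ((1 : p.Fiber S) ⊗ₜ[S] n) = 0 :=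
    (congrArg (Phi p S N) h).trans (map_zero (Phi p S N))
  exact RegFib.exists_smul_mem_of_tmul_one_eq_zero p N n (h1.symm.trans h2)

end maps




section main

variable {R : Type u} [CommRing R] (p : Ideal R) [p.IsPrime] (S : Type u) [CommRing S]
  [Algebra R S] (N : Type u) [AddCommGroup N] [Module S N] [Module R N] [IsScalarTower R S N]

/-- the inclusion `S → κ(p) ⊗ S` -/
noncomputable abbrev inc : S →+* p.Fiber S :=
  (Algebra.TensorProduct.includeRight (R := R) (A := p.ResidueField) (B := S)).toRingHom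

theorem inc_apply (s : S) : inc p S s = (1 : p.ResidueField) ⊗ₜ[R] s := rfl

omit [Module R N] [IsScalarTower R S N] in
theorem inc_smul_one_tmul (s : S) (n : N) :
    (inc p S s • ((1 : p.Fiber S) ⊗ₜ[S] n : (p.Fiber S) ⊗[S] N)) = (1 : p.Fiber S) ⊗ₜ[S] (s • n) := by
  rw [TensorProduct.smul_tmul', smul_eq_mul, mul_one, ← TensorProduct.smul_tmul, Algebra.smul_def,
    mul_one]
  rfl

theorem one_tmul_eq_zero_of_mem (m : N) (hm : m ∈ p • (⊤ : Submodule R N)) :
    ((1 : p.Fiber S) ⊗ₜ[S] m : (p.Fiber S) ⊗[S] N) = 0 := by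
  refine Submodule.smul_induction_on hm ?_ ?_
  · intro a ha m' _
    rw [← algebraMap_smul S a m', ← TensorProduct.smul_tmul, Algebra.smul_def, mul_one]
    have : algebraMap S (p.Fiber S) (algebraMap R S a) = 0 := by
      change (1 : p.ResidueField) ⊗ₜ[R] (algebraMap R S a) = 0
      rw [Algebra.algebraMap_eq_smul_one, ← TensorProduct.smul_tmul, Algebra.smul_def, mul_one,
        Ideal.algebraMap_residueField_eq_zero.mpr ha, zero_tmul]
    rw [this, zero_tmul]
  · intro x y hx hy
    rw [tmul_add, hx, hy, add_zero]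

theorem isUnit_algebraMap_of_notMem (r : R) (hr : r ∉ p) :
    IsUnit (algebraMap R (p.Fiber S) r) := by
  have h1 : IsUnit (algebraMap R p.ResidueField r) := by
    rw [isUnit_iff_ne_zero, ne_eq, Ideal.algebraMap_residueField_eq_zero]
    exact hr
  have h2 : algebraMap R (p.Fiber S) r =
      (Algebra.TensorProduct.includeLeft (R := R) (S := R) (A := p.ResidueField) (B := S))
        (algebraMap R p.ResidueField r) := by
    rw [Algebra.TensorProduct.includeLeft_apply, Algebra.TensorProduct.algebraMap_apply]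
  rw [h2]
  exact h1.map _

theorem mem_of_smul_mem (J : Ideal (p.Fiber S)) (r : R) (hr : r ∉ p) (x : p.Fiber S)
    (h : r • x ∈ J) : x ∈ J := by
  obtain ⟨u, hu⟩ := isUnit_algebraMap_of_notMem p S r hr
  have : x = (↑u⁻¹ : p.Fiber S) * (r • x) := by
    rw [Algebra.smul_def, ← hu, ← mul_assoc, Units.inv_mul, one_mul]
  rw [this]
  exact J.mul_mem_left _ h

set_option maxHeartbeats 800000 in
/-- an associated prime of `N/pN` lying over `p` extends to an associated prime of the fibre module
over the fibre ring -/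
theorem fiberIdeal_mem_associatedPrimes [IsNoetherianRing S] (q : Ideal S) [q.IsPrime]
    [q.LiesOver p] (hq : q ∈ associatedPrimes S (N ⊗[R] (R ⧸ p))) :
    FlatCA.fiberIdeal p q ∈ associatedPrimes (p.Fiber S) (FlatCA.fiberMod p S N) := by
  rw [← LinearEquiv.AssociatedPrimes.eq (AssFlat.quotEquiv (S := S) N p)] at hq
  obtain ⟨-, xbar, hx⟩ := (isAssociatedPrime_iff).mp hq
  obtain ⟨n, rfl⟩ := Submodule.Quotient.mk_surjective _ xbar
  have hqn : ∀ s : S, s ∈ q ↔ s • n ∈ p • (⊤ : Submodule R N) := by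
    intro s
    rw [hx, Submodule.mem_colon_singleton, Submodule.mem_bot, ← Submodule.Quotient.mk_smul,
      Submodule.Quotient.mk_eq_zero, FibInj.mem_map_smul_top_iff]
  have hcomap : ∀ a : R, a ∉ p → algebraMap R S a ∉ q := by
    intro a ha h
    apply ha
    rw [Ideal.LiesOver.over (p := p) (P := q)]
    exact h
  set η : (p.Fiber S) ⊗[S] N := (1 : p.Fiber S) ⊗ₜ[S] n with hη
  -- (F3)
  have F3 : ∀ s : S, inc p S s • η = 0 → s ∈ q := by
    intro s hs
    rw [hη, inc_smul_one_tmul] at hs
    obtain ⟨a, ha, ham⟩ := exists_smul_mem_of_one_tmul_eq_zero p S N (s • n) hs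
    rw [← algebraMap_smul S a (s • n), smul_smul, ← hqn] at ham
    exact (Ideal.IsPrime.mem_or_mem ‹q.IsPrime› ham).resolve_left (hcomap a ha)
  have F4 : ∀ s : S, s ∈ q → inc p S s • η = 0 := by
    intro s hs
    rw [hη, inc_smul_one_tmul]
    exact one_tmul_eq_zero_of_mem p S N _ ((hqn s).mp hs)
  have F5 : ∀ x : p.Fiber S, ∃ r : R, r ∉ p ∧ ∃ s : S, r • x = inc p S s := fun x => by
    obtain ⟨r, hr, s, e⟩ := Ideal.Fiber.exists_smul_eq_one_tmul p x
    exact ⟨r, hr, s, e⟩
  set P' : Ideal (p.Fiber S) := FlatCA.fiberIdeal p q with hP'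
  have hP'def : P' = q.map (inc p S) := rfl
  have hsub : ∀ x : p.Fiber S, x ∈ P' → x • η = 0 := by
    intro x hx
    have hle : q.map (inc p S) ≤ (Submodule.colon (⊥ : Submodule (p.Fiber S) ((p.Fiber S) ⊗[S] N)) {η}) := by
      rw [Ideal.map_le_iff_le_comap]
      intro s hs
      rw [Ideal.mem_comap, Submodule.mem_colon_singleton, Submodule.mem_bot]
      exact F4 s hs
    have := hle (hP'def ▸ hx)
    rwa [Submodule.mem_colon_singleton, Submodule.mem_bot] at this
  have hsup : ∀ x : p.Fiber S, x • η = 0 → x ∈ P' := by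
    intro x hx
    obtain ⟨r, hr, s, e⟩ := F5 x
    have h1 : inc p S s • η = 0 := by
      rw [← e, smul_assoc, hx, smul_zero]
    have h2 : inc p S s ∈ P' := hP'def ▸ Ideal.mem_map_of_mem _ (F3 s h1)
    rw [← e] at h2
    exact mem_of_smul_mem p S P' r hr x h2
  have hprime : P'.IsPrime := by
    constructor
    · intro htop
      have h1 : (1 : p.Fiber S) ∈ P' := by rw [htop]; exact Submodule.mem_top
      have h2 := hsub 1 h1
      have h3 : inc p S 1 • η = 0 := by rw [map_one]; exact h2
      exact ‹q.IsPrime›.ne_top ((Ideal.eq_top_iff_one q).mpr (F3 1 h3))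
    · intro x y hxy
      obtain ⟨r, hr, s, e⟩ := F5 x
      obtain ⟨r', hr', s', e'⟩ := F5 y
      have h1 : inc p S (s * s') ∈ P' := by
        rw [map_mul, ← e, ← e', smul_mul_smul_comm, Algebra.smul_def]
        exact P'.mul_mem_left _ hxy
      have h2 : s * s' ∈ q := F3 _ (hsub _ h1)
      rcases Ideal.IsPrime.mem_or_mem ‹q.IsPrime› h2 with h3 | h3
      · left
        have h4 : inc p S s ∈ P' := hP'def ▸ Ideal.mem_map_of_mem _ h3
        rw [← e] at h4
        exact mem_of_smul_mem p S P' r hr x h4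
      · right
        have h4 : inc p S s' ∈ P' := hP'def ▸ Ideal.mem_map_of_mem _ h3
        rw [← e'] at h4
        exact mem_of_smul_mem p S P' r' hr' y h4
  refine ⟨hprime, η, ?_⟩
  have hcolon : (Submodule.colon (⊥ : Submodule (p.Fiber S) ((p.Fiber S) ⊗[S] N)) {η}) = P' := by
    ext x
    rw [Submodule.mem_colon_singleton, Submodule.mem_bot]
    exact ⟨hsup x, hsub x⟩
  change P' = (Submodule.colon (⊥ : Submodule (p.Fiber S) ((p.Fiber S) ⊗[S] N)) {η}).radical
  rw [hcolon, hprime.radical]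

end main

end Groth.Agent.H1.AssFibre
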