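import Mathlib
import Groth.Agent.Lib.Helper2.ExtInd3

universe w v u

open CategoryTheory CategoryTheory.Limits

namespace Groth.Agent.H1.BCH

open Abelian Groth.Agent.H2.ExtInd

section ExtPart

variable {C : Type u} [Category.{v} C] [Abelian C] [HasExt.{w} C] [EnoughInjectives C]
variable {D : Type u} [Category.{v} D] [Abelian D] [HasExt.{w} D] [EnoughInjectives D]
variable {E : Type u} [Category.{v} E] [Abelian E] [HasExt.{w} E]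

/-- Abstract pullback on Ext along an exact functor `L`, with a comparison `c : P' ⟶ L P`. -/
noncomputable def pb (L : C ⥤ D) [L.Additive] [PreservesFiniteLimits L] [PreservesFiniteColimits L]
    {P : C} {P' : D} (c : P' ⟶ L.obj P) {G : C} {n : ℕ} (e : Ext.{w} P G n) :
    Ext.{w} P' (L.obj G) n :=
  (Ext.mk₀ c).comp (e.mapExactFunctor L) (zero_add n)

variable (L : C ⥤ D) [L.Additive] [PreservesFiniteLimits L] [PreservesFiniteColimits L]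

lemma pb_comp_mk₀ {P : C} {P' : D} (c : P' ⟶ L.obj P) {G G' : C} {n : ℕ} (e : Ext.{w} P G n)
    (v : G ⟶ G') :
    pb L c (e.comp (Ext.mk₀ v) (add_zero n)) =
      (pb L c e).comp (Ext.mk₀ (L.map v)) (add_zero n) := by
  unfold pb
  rw [Ext.mapExactFunctor_comp, Ext.mapExactFunctor_mk₀]
  exact (Ext.comp_assoc _ _ _ (zero_add n) (add_zero n) (by omega)).symm

lemma pb_pb (L' : D ⥤ E) [L'.Additive] [PreservesFiniteLimits L'] [PreservesFiniteColimits L']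
    {P : C} {P' : D} {P'' : E} (c : P' ⟶ L.obj P) (c' : P'' ⟶ L'.obj P') {G : C} {n : ℕ}
    (e : Ext.{w} P G n) :
    pb L' c' (pb L c e) = pb (L ⋙ L') (c' ≫ L'.map c) e := by
  unfold pb
  rw [Ext.mapExactFunctor_comp, Ext.mapExactFunctor_mk₀, Ext.mk₀_comp_mk₀_assoc,
    mapExactFunctor_comp_functor]

lemma pb_natIso (L₂ : C ⥤ D) [L₂.Additive] [PreservesFiniteLimits L₂] [PreservesFiniteColimits L₂]
    (θ : L ≅ L₂) {P : C} {P' : D} (c : P' ⟶ L₂.obj P) {G : C} {n : ℕ} (e : Ext.{w} P G n) :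
    pb L₂ c e = (pb L (c ≫ θ.inv.app P) e).comp (Ext.mk₀ (θ.hom.app G)) (add_zero n) := by
  unfold pb
  rw [mapExactFunctor_natIso L L₂ θ e]
  unfold conj
  rw [Ext.mk₀_comp_mk₀_assoc]
  exact (Ext.comp_assoc _ _ _ (zero_add n) (add_zero n) (by omega)).symm

end ExtPart

section Square

variable {C₁ : Type u} [Category.{v} C₁] [Abelian C₁] [HasExt.{w} C₁] [EnoughInjectives C₁]
variable {C₂ : Type u} [Category.{v} C₂] [Abelian C₂] [HasExt.{w} C₂] [EnoughInjectives C₂]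
variable {C₃ : Type u} [Category.{v} C₃] [Abelian C₃] [HasExt.{w} C₃] [EnoughInjectives C₃]
variable {C₄ : Type u} [Category.{v} C₄] [Abelian C₄] [HasExt.{w} C₄] [EnoughInjectives C₄]

theorem ext_square
    (Lf : C₁ ⥤ C₂) [Lf.Additive] [PreservesFiniteLimits Lf] [PreservesFiniteColimits Lf]
    (Lg' : C₂ ⥤ C₄) [Lg'.Additive] [PreservesFiniteLimits Lg'] [PreservesFiniteColimits Lg']
    (Lg : C₁ ⥤ C₃) [Lg.Additive] [PreservesFiniteLimits Lg] [PreservesFiniteColimits Lg]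
    (Lf' : C₃ ⥤ C₄) [Lf'.Additive] [PreservesFiniteLimits Lf'] [PreservesFiniteColimits Lf']
    (θ : Lf ⋙ Lg' ≅ Lg ⋙ Lf')
    {P : C₁} {P₂ : C₂} {P₃ : C₃} {P₄ : C₄}
    (cf : P₂ ⟶ Lf.obj P) (cg' : P₄ ⟶ Lg'.obj P₂) (cg : P₃ ⟶ Lg.obj P) (cf' : P₄ ⟶ Lf'.obj P₃)
    (hA : cf' ≫ Lf'.map cg ≫ θ.inv.app P = cg' ≫ Lg'.map cf)
    {G : C₁} {F : C₂} {H : C₃} (εf : Lf.obj G ⟶ F) (bc : Lg.obj G ⟶ H)
    (εf' : Lf'.obj H ⟶ Lg'.obj F)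
    (hB : θ.hom.app G ≫ Lf'.map bc ≫ εf' = Lg'.map εf) {n : ℕ} (ζ : Ext.{w} P G n) :
    pb Lg' cg' ((pb Lf cf ζ).comp (Ext.mk₀ εf) (add_zero n)) =
      (pb Lf' cf' ((pb Lg cg ζ).comp (Ext.mk₀ bc) (add_zero n))).comp (Ext.mk₀ εf')
        (add_zero n) := by
  rw [pb_comp_mk₀, pb_pb, pb_comp_mk₀, pb_pb, pb_natIso (Lf ⋙ Lg') (Lg ⋙ Lf') θ,
    comp_mk₀_comp_mk₀, comp_mk₀_comp_mk₀]
  simp only [Category.assoc]
  rw [hA, hB]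

end Square

section Mates

variable {A B A' B' : Type*} [Category A] [Category B] [Category A'] [Category B']
  {Lf : A ⥤ B} {Rf : B ⥤ A} (af : Lf ⊣ Rf)
  {Lg : A ⥤ A'} {Rg : A' ⥤ A} (ag : Lg ⊣ Rg)
  {Lf' : A' ⥤ B'} {Rf' : B' ⥤ A'} (af' : Lf' ⊣ Rf')
  {Lg' : B ⥤ B'} {Rg' : B' ⥤ B} (ag' : Lg' ⊣ Rg')

/-- The mate `L_g ⋙ L_f' ⟶ L_f ⋙ L_g'` of `ρ : R_g' ⋙ R_f ⟶ R_f' ⋙ R_g`. -/
noncomputable def tau (ρ : Rg' ⋙ Rf ⟶ Rf' ⋙ Rg) : Lg ⋙ Lf' ⟶ Lf ⋙ Lg' :=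
  (conjugateEquiv (af.comp ag') (ag.comp af')).symm ρ

/-- The mate as an isomorphism. -/
noncomputable def theta (ρ : Rg' ⋙ Rf ≅ Rf' ⋙ Rg) : Lf ⋙ Lg' ≅ Lg ⋙ Lf' :=
  ((conjugateIsoEquiv (af.comp ag') (ag.comp af')).symm ρ).symm

lemma theta_inv (ρ : Rg' ⋙ Rf ≅ Rf' ⋙ Rg) :
    (theta af ag af' ag' ρ).inv = tau af ag af' ag' ρ.hom := rfl

theorem mate_counit (ρ : Rg' ⋙ Rf ⟶ Rf' ⋙ Rg) (F : B) :
    (tau af ag af' ag' ρ).app (Rf.obj F) ≫ Lg'.map (af.counit.app F) =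
      Lf'.map ((ag.homEquiv _ _).symm (Rf.map (ag'.unit.app F) ≫ ρ.app (Lg'.obj F))) ≫
        af'.counit.app (Lg'.obj F) := by
  have h1 : Lf'.map (Lg.map (ρ.app (Lg'.obj F))) ≫ Lf'.map (ag.counit.app (Rf'.obj (Lg'.obj F))) ≫
      af'.counit.app (Lg'.obj F) =
      (tau af ag af' ag' ρ).app (Rf.obj (Rg'.obj (Lg'.obj F))) ≫
        Lg'.map (af.counit.app (Rg'.obj (Lg'.obj F))) ≫ ag'.counit.app (Lg'.obj F) := by
    have := conjugateEquiv_counit_symm (af.comp ag') (ag.comp af') ρ (Lg'.obj F)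
    simpa [tau, Adjunction.comp_counit_app] using this
  have h2 : Lf'.map (Lg.map (Rf.map (ag'.unit.app F))) ≫
      (tau af ag af' ag' ρ).app (Rf.obj (Rg'.obj (Lg'.obj F))) =
      (tau af ag af' ag' ρ).app (Rf.obj F) ≫ Lg'.map (Lf.map (Rf.map (ag'.unit.app F))) :=
    (tau af ag af' ag' ρ).naturality (Rf.map (ag'.unit.app F))
  have h3 : Lf.map (Rf.map (ag'.unit.app F)) ≫ af.counit.app (Rg'.obj (Lg'.obj F)) =
      af.counit.app F ≫ ag'.unit.app F := af.counit.naturality (ag'.unit.app F)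
  have h4 : Lg'.map (ag'.unit.app F) ≫ ag'.counit.app (Lg'.obj F) = 𝟙 _ :=
    ag'.left_triangle_components F
  rw [Adjunction.homEquiv_counit]
  simp only [Functor.map_comp, Category.assoc]
  rw [h1, reassoc_of% h2, ← Lg'.map_comp_assoc, h3, Lg'.map_comp_assoc, h4, Category.comp_id]

variable {𝒢 : Type*} [Category 𝒢]

/-- The comparison `K_X ⟶ K_Y ⋙ L_f` of "constant sheaf" functors. -/
noncomputable def cc {KY : 𝒢 ⥤ A} {ΓY : A ⥤ 𝒢} (kY : KY ⊣ ΓY) {KX : 𝒢 ⥤ B} {ΓX : B ⥤ 𝒢}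
    (kX : KX ⊣ ΓX) (γf : Rf ⋙ ΓY ≅ ΓX) : KX ⟶ KY ⋙ Lf :=
  (Adjunction.leftAdjointUniq ((kY.comp af).ofNatIsoRight γf) kX).inv

lemma unit_cc {KY : 𝒢 ⥤ A} {ΓY : A ⥤ 𝒢} (kY : KY ⊣ ΓY) {KX : 𝒢 ⥤ B} {ΓX : B ⥤ 𝒢}
    (kX : KX ⊣ ΓX) (γf : Rf ⋙ ΓY ≅ ΓX) (M : 𝒢) :
    kX.unit.app M ≫ ΓX.map ((cc af kY kX γf).app M) =
      kY.unit.app M ≫ ΓY.map (af.unit.app (KY.obj M)) ≫ γf.hom.app (Lf.obj (KY.obj M)) := by
  unfold cc
  rw [Adjunction.leftAdjointUniq_inv_app, Adjunction.unit_leftAdjointUniq_hom_app,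
    ← Adjunction.homEquiv_id, Adjunction.homEquiv_ofNatIsoRight_apply, Adjunction.homEquiv_id,
    Adjunction.comp_unit_app, Category.assoc]
  rfl

lemma cc_comp {KY : 𝒢 ⥤ A} {ΓY : A ⥤ 𝒢} (kY : KY ⊣ ΓY) {KX : 𝒢 ⥤ B} {ΓX : B ⥤ 𝒢}
    (kX : KX ⊣ ΓX) (γf : Rf ⋙ ΓY ≅ ΓX) {KX' : 𝒢 ⥤ B'} {ΓX' : B' ⥤ 𝒢}
    (kX' : KX' ⊣ ΓX') (γg' : Rg' ⋙ ΓX ≅ ΓX') (γ : (Rg' ⋙ Rf) ⋙ ΓY ≅ ΓX')
    (hγ : ∀ N, γ.hom.app N = γf.hom.app (Rg'.obj N) ≫ γg'.hom.app N) (M : 𝒢) :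
    (cc (af.comp ag') kY kX' γ).app M =
      (cc ag' kX kX' γg').app M ≫ Lg'.map ((cc af kY kX γf).app M) := by
  apply (kX'.homEquiv _ _).injective
  rw [Adjunction.homEquiv_unit, Adjunction.homEquiv_unit, unit_cc, ΓX'.map_comp,
    reassoc_of% (unit_cc ag' kX kX' γg' M), hγ, Adjunction.comp_unit_app]
  have n1 := γg'.hom.naturality (Lg'.map ((cc af kY kX γf).app M))
  have n2 := ag'.unit.naturality ((cc af kY kX γf).app M)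
  have n3 := γf.hom.naturality (ag'.unit.app (Lf.obj (KY.obj M)))
  simp only [Functor.comp_map, Functor.comp_obj, Functor.id_map, Functor.id_obj] at n1 n2 n3
  rw [← n1, ← ΓX.map_comp_assoc, ← n2, ΓX.map_comp_assoc, reassoc_of% (unit_cc af kY kX γf M),
    ← reassoc_of% n3, ΓY.map_comp_assoc]
  rfl

lemma cc_conj {L₁ L₂ : A ⥤ B'} {R₁ R₂ : B' ⥤ A} (adj₁ : L₁ ⊣ R₁) (adj₂ : L₂ ⊣ R₂)
    {KY : 𝒢 ⥤ A} {ΓY : A ⥤ 𝒢} (kY : KY ⊣ ΓY) {KX' : 𝒢 ⥤ B'} {ΓX' : B' ⥤ 𝒢}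
    (kX' : KX' ⊣ ΓX') (γ₁ : R₁ ⋙ ΓY ≅ ΓX') (γ₂ : R₂ ⋙ ΓY ≅ ΓX') (ρ : R₁ ⟶ R₂)
    (hρ : ∀ N, ΓY.map (ρ.app N) ≫ γ₂.hom.app N = γ₁.hom.app N) (M : 𝒢) :
    (cc adj₂ kY kX' γ₂).app M ≫ ((conjugateEquiv adj₁ adj₂).symm ρ).app (KY.obj M) =
      (cc adj₁ kY kX' γ₁).app M := by
  apply (kX'.homEquiv _ _).injective
  rw [Adjunction.homEquiv_unit, Adjunction.homEquiv_unit, unit_cc, ΓX'.map_comp,
    reassoc_of% (unit_cc adj₂ kY kX' γ₂ M)]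
  have n1 := γ₂.hom.naturality (((conjugateEquiv adj₁ adj₂).symm ρ).app (KY.obj M))
  have n2 := unit_conjugateEquiv_symm adj₁ adj₂ ρ (KY.obj M)
  simp only [Functor.comp_map, Functor.comp_obj] at n1
  rw [← n1, ← ΓY.map_comp_assoc, ← n2, ΓY.map_comp_assoc, hρ]

end Mates

end Groth.Agent.H1.BCH
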