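import Mathlib
import Groth.Prelude.Def_EtLim
import Groth.Agent.Lib.Helper1.BCHa
import Groth.Agent.Lib.Helper2.HpullA

universe u
open CategoryTheory CategoryTheory.Limits AlgebraicGeometry Opposite

namespace Groth.Agent.H1.BCH

section Abs

variable {A B A' B' 𝒢 : Type*} [Category A] [Category B] [Category A'] [Category B'] [Category 𝒢]
  {Lf : A ⥤ B} {Rf : B ⥤ A} (af : Lf ⊣ Rf)
  {Lg : A ⥤ A'} {Rg : A' ⥤ A} (ag : Lg ⊣ Rg)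
  {Lf' : A' ⥤ B'} {Rf' : B' ⥤ A'} (af' : Lf' ⊣ Rf')
  {Lg' : B ⥤ B'} {Rg' : B' ⥤ B} (ag' : Lg' ⊣ Rg')
  {KY : 𝒢 ⥤ A} {ΓY : A ⥤ 𝒢} (kY : KY ⊣ ΓY) {KX : 𝒢 ⥤ B} {ΓX : B ⥤ 𝒢} (kX : KX ⊣ ΓX)
  {KY' : 𝒢 ⥤ A'} {ΓY' : A' ⥤ 𝒢} (kY' : KY' ⊣ ΓY') {KX' : 𝒢 ⥤ B'} {ΓX' : B' ⥤ 𝒢} (kX' : KX' ⊣ ΓX')
  (γf : Rf ⋙ ΓY ≅ ΓX) (γg : Rg ⋙ ΓY ≅ ΓY') (γf' : Rf' ⋙ ΓY' ≅ ΓX') (γg' : Rg' ⋙ ΓX ≅ ΓX')

theorem cc_square (ρ : Rg' ⋙ Rf ⟶ Rf' ⋙ Rg)
    (hρ : ∀ N, ΓY.map (ρ.app N) ≫ γg.hom.app (Rf'.obj N) ≫ γf'.hom.app N =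
      γf.hom.app (Rg'.obj N) ≫ γg'.hom.app N) (M : 𝒢) :
    (cc af' kY' kX' γf').app M ≫ Lf'.map ((cc ag kY kY' γg).app M) ≫
        (tau af ag af' ag' ρ).app (KY.obj M) =
      (cc ag' kX kX' γg').app M ≫ Lg'.map ((cc af kY kX γf).app M) := by
  let γ₁ : (Rg' ⋙ Rf) ⋙ ΓY ≅ ΓX' :=
    Functor.associator Rg' Rf ΓY ≪≫ Functor.isoWhiskerLeft Rg' γf ≪≫ γg'
  let γ₂ : (Rf' ⋙ Rg) ⋙ ΓY ≅ ΓX' :=
    Functor.associator Rf' Rg ΓY ≪≫ Functor.isoWhiskerLeft Rf' γg ≪≫ γf'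
  have h1 := cc_comp af ag' kY kX γf kX' γg' γ₁ (fun N => by simp [γ₁]) M
  have h2 := cc_comp ag af' kY kY' γg kX' γf' γ₂ (fun N => by simp [γ₂]) M
  have h3 := cc_conj (af.comp ag') (ag.comp af') kY kX' γ₁ γ₂ ρ
    (fun N => by simpa [γ₁, γ₂] using hρ N) M
  rw [← Category.assoc, ← h2, ← h1]
  exact h3

end Abs

variable {X Y X' Y' : Scheme.{u}}

/-- Maps between sections of `N` induced by a morphism of the site. -/
def IsRes {T : Scheme.{u}} (N : EtCoh.Ab T) {U V : T.Etale}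
    (φ : N.obj.obj (op U) ⟶ N.obj.obj (op V)) : Prop :=
  ∃ m : V ⟶ U, φ = N.obj.map m.op

lemma IsRes.comp {T : Scheme.{u}} (N : EtCoh.Ab T) {U V W : T.Etale}
    {φ : N.obj.obj (op U) ⟶ N.obj.obj (op V)} {ψ : N.obj.obj (op V) ⟶ N.obj.obj (op W)}
    (h1 : IsRes N φ) (h2 : IsRes N ψ) : IsRes N (φ ≫ ψ) := by
  obtain ⟨m1, rfl⟩ := h1
  obtain ⟨m2, rfl⟩ := h2
  exact ⟨m2 ≫ m1, by rw [op_comp, N.obj.map_comp]⟩

lemma IsRes.eq_of_isTerminal {T : Scheme.{u}} (N : EtCoh.Ab T) {U V : T.Etale} (hU : IsTerminal U)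
    {φ ψ : N.obj.obj (op U) ⟶ N.obj.obj (op V)} (h1 : IsRes N φ) (h2 : IsRes N ψ) : φ = ψ := by
  obtain ⟨m1, rfl⟩ := h1
  obtain ⟨m2, rfl⟩ := h2
  rw [hU.hom_ext m1 m2]

/-- The isomorphism of right adjoints for a commutative square. -/
noncomputable def rho (f : X ⟶ Y) (g : Y' ⟶ Y) (f' : X' ⟶ Y') (g' : X' ⟶ X)
    (w : g' ≫ f = f' ≫ g) :
    EtCoh.push g' ⋙ EtCoh.push f ≅ EtCoh.push f' ⋙ EtCoh.push g :=
  EtCoh.pushComp f g' ≪≫ EtCoh.pushCongr w ≪≫ (EtCoh.pushComp g f').symm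

lemma isRes_pushComp_hom {T₁ T₂ T₃ : Scheme.{u}} (f : T₂ ⟶ T₁) (g : T₃ ⟶ T₂) (N : EtCoh.Ab T₃)
    (V : T₁.Etale) :
    IsRes N (U := (EtCoh.bc g).obj ((EtCoh.bc f).obj V)) (V := (EtCoh.bc (g ≫ f)).obj V)
      (((EtCoh.pushComp f g).hom.app N).hom.app (op V)) := by
  refine ⟨?_, ?_⟩
  rotate_left
  · simp [EtCoh.pushComp]
    rfl

lemma isRes_pushComp_inv {T₁ T₂ T₃ : Scheme.{u}} (f : T₂ ⟶ T₁) (g : T₃ ⟶ T₂) (N : EtCoh.Ab T₃)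
    (V : T₁.Etale) :
    IsRes N (U := (EtCoh.bc (g ≫ f)).obj V) (V := (EtCoh.bc g).obj ((EtCoh.bc f).obj V))
      (((EtCoh.pushComp f g).inv.app N).hom.app (op V)) := by
  refine ⟨?_, ?_⟩
  rotate_left
  · simp [EtCoh.pushComp]
    rfl

lemma isRes_pushCongr_hom {T₁ T₂ : Scheme.{u}} {f f' : T₂ ⟶ T₁} (h : f = f') (N : EtCoh.Ab T₂)
    (V : T₁.Etale) :
    IsRes N (U := (EtCoh.bc f).obj V) (V := (EtCoh.bc f').obj V)
      (((EtCoh.pushCongr h).hom.app N).hom.app (op V)) := by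
  refine ⟨?_, ?_⟩
  rotate_left
  · simp [EtCoh.pushCongr]
    rfl

theorem hrho (f : X ⟶ Y) (g : Y' ⟶ Y) (f' : X' ⟶ Y') (g' : X' ⟶ X) (w : g' ≫ f = f' ≫ g)
    (N : EtCoh.Ab X') :
    (EtCore.gsec Y).map ((rho f g f' g' w).hom.app N) ≫
      (EtCore.pushGsecIso g).hom.app ((EtCoh.push f').obj N) ≫ (EtCore.pushGsecIso f').hom.app N =
    (EtCore.pushGsecIso f).hom.app ((EtCoh.push g').obj N) ≫ (EtCore.pushGsecIso g').hom.app N := by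
  have hterm : IsTerminal ((EtCoh.bc g').obj ((EtCoh.bc f).obj (EtCoh.top Y))) :=
    IsTerminal.isTerminalObj (EtCoh.bc g') _ (EtCore.bcTopIsTerminal f)
  have hA : IsRes N (U := (EtCoh.bc g').obj ((EtCoh.bc f).obj (EtCoh.top Y)))
      (V := (EtCoh.bc f').obj ((EtCoh.bc g).obj (EtCoh.top Y)))
      ((EtCore.gsec Y).map ((rho f g f' g' w).hom.app N)) :=
    IsRes.comp N (isRes_pushComp_hom f g' N (EtCoh.top Y))
      (IsRes.comp N (isRes_pushCongr_hom w N (EtCoh.top Y)) (isRes_pushComp_inv g f' N (EtCoh.top Y)))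
  have hB : IsRes N (U := (EtCoh.bc f').obj ((EtCoh.bc g).obj (EtCoh.top Y)))
      (V := (EtCoh.bc f').obj (EtCoh.top Y'))
      ((EtCore.pushGsecIso g).hom.app ((EtCoh.push f').obj N)) :=
    ⟨(EtCoh.bc f').map (EtCore.bcTopIso g).inv, rfl⟩
  have hC : IsRes N (U := (EtCoh.bc f').obj (EtCoh.top Y')) (V := EtCoh.top X')
      ((EtCore.pushGsecIso f').hom.app N) :=
    ⟨(EtCore.bcTopIso f').inv, rfl⟩
  have hD : IsRes N (U := (EtCoh.bc g').obj ((EtCoh.bc f).obj (EtCoh.top Y)))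
      (V := (EtCoh.bc g').obj (EtCoh.top X))
      ((EtCore.pushGsecIso f).hom.app ((EtCoh.push g').obj N)) :=
    ⟨(EtCoh.bc g').map (EtCore.bcTopIso f).inv, rfl⟩
  have hE : IsRes N (U := (EtCoh.bc g').obj (EtCoh.top X)) (V := EtCoh.top X')
      ((EtCore.pushGsecIso g').hom.app N) :=
    ⟨(EtCore.bcTopIso g').inv, rfl⟩
  exact IsRes.eq_of_isTerminal N hterm (IsRes.comp N hA (IsRes.comp N hB hC)) (IsRes.comp N hD hE)

lemma Hpull_eq_pb {S T : Scheme.{u}} (h : T ⟶ S) [PreservesFiniteLimits (EtCoh.pull h)]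
    (G : EtCoh.Ab S) (n : ℕ) (x : EtCoh.H S G n) :
    EtCore.Hpull h G n x = pb (EtCoh.pull h) (EtCore.pullConst h ℤ).inv x := rfl

lemma HofPush_eq {S T : Scheme.{u}} (h : T ⟶ S) [PreservesFiniteLimits (EtCoh.pull h)]
    (G : EtCoh.Ab T) (n : ℕ) (x : EtCoh.H S ((EtCoh.push h).obj G) n) :
    EtLim.HofPush h G n x = (EtCore.Hpull h ((EtCoh.push h).obj G) n x).comp
      (Abelian.Ext.mk₀ ((EtCoh.pullPushAdj h).counit.app G)) (add_zero n) := rfl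

lemma HF_map_hom {S : Scheme.{u}} {G G' : EtCoh.Ab S} (v : G ⟶ G') (n : ℕ) (x : EtCoh.H S G n) :
    ((EtCoh.HF S n).map v).hom x = x.comp (Abelian.Ext.mk₀ v) (add_zero n) := rfl

open Abelian in
theorem s14389 (f : X ⟶ Y) (g : Y' ⟶ Y) (f' : X' ⟶ Y') (g' : X' ⟶ X) (w : g' ≫ f = f' ≫ g)
    (F : EtCoh.Ab X) (q : ℕ)
    [PreservesFiniteLimits (EtCoh.pull f)] [PreservesFiniteLimits (EtCoh.pull g)]
    [PreservesFiniteLimits (EtCoh.pull f')] [PreservesFiniteLimits (EtCoh.pull g')]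
    (ζ : EtCoh.H Y ((EtCoh.push f).obj F) q) :
    EtCore.Hpull g' F q (EtLim.HofPush f F q ζ) =
      EtLim.HofPush f' ((EtCoh.pull g').obj F) q
        (((EtCoh.HF Y' q).map (EtCoh.baseChange0 f g f' g' w F)).hom
          (EtCore.Hpull g ((EtCoh.push f).obj F) q ζ)) := by
  let M₀ : AddCommGrpCat.{u + 1} := AddCommGrpCat.of (ULift.{u + 1} ℤ)
  let af := EtCoh.pullPushAdj f
  let ag := EtCoh.pullPushAdj g
  let af' := EtCoh.pullPushAdj f'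
  let ag' := EtCoh.pullPushAdj g'
  let ρ := rho f g f' g' w
  let θ := theta af ag af' ag' ρ
  have hA : (EtCore.pullConst f' ℤ).inv ≫ (EtCoh.pull f').map (EtCore.pullConst g ℤ).inv ≫
      θ.inv.app (EtCoh.const Y ℤ) =
      (EtCore.pullConst g' ℤ).inv ≫ (EtCoh.pull g').map (EtCore.pullConst f ℤ).inv :=
    cc_square af ag af' ag' (EtCore.constAdj Y) (EtCore.constAdj X) (EtCore.constAdj Y')
      (EtCore.constAdj X') (EtCore.pushGsecIso f) (EtCore.pushGsecIso g) (EtCore.pushGsecIso f')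
      (EtCore.pushGsecIso g') ρ.hom (hrho f g f' g' w) M₀
  have mc : θ.inv.app ((EtCoh.push f).obj F) ≫ (EtCoh.pull g').map (af.counit.app F) =
      (EtCoh.pull f').map (EtCoh.baseChange0 f g f' g' w F) ≫
        af'.counit.app ((EtCoh.pull g').obj F) :=
    mate_counit af ag af' ag' ρ.hom F
  have hB : θ.hom.app ((EtCoh.push f).obj F) ≫
      (EtCoh.pull f').map (EtCoh.baseChange0 f g f' g' w F) ≫
        af'.counit.app ((EtCoh.pull g').obj F) = (EtCoh.pull g').map (af.counit.app F) := by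
    rw [← mc, ← Category.assoc, θ.hom_inv_id_app, Category.id_comp]
  rw [HofPush_eq, HofPush_eq, HF_map_hom, Hpull_eq_pb, Hpull_eq_pb, Hpull_eq_pb, Hpull_eq_pb]
  exact ext_square (EtCoh.pull f) (EtCoh.pull g') (EtCoh.pull g) (EtCoh.pull f') θ _ _ _ _ hA _ _ _
    hB ζ

end Groth.Agent.H1.BCH
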