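import Mathlib
import Groth.Prelude.Def_Curv2
import Groth.Agent.Lib.Helper1.BCTowerApp

/-! Helper1: local Noetherianity and finitely generated extensions of the base field. -/

set_option autoImplicit false
set_option linter.style.haveILetI false
universe u
open CategoryTheory CategoryTheory.Limits AlgebraicGeometry IsLocalRing TensorProduct

namespace Groth.Agent.H1.BCNoeth

theorem isNoetherianRing_tensor_iff (k k' R : Type u) [Field k] [Field k'] [Algebra k k']
    [Algebra.EssFiniteType k k'] [CommRing R] [Algebra k R] :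
    IsNoetherianRing (R ⊗[k] k') ↔ IsNoetherianRing R := by
  constructor
  · intro h
    haveI : Module.FaithfullyFlat R (R ⊗[k] k') := inferInstance
    exact Groth.Agent.H1.BCTower.isNoetherianRing_of_faithfullyFlat R (R ⊗[k] k')
  · intro h
    exact Algebra.EssFiniteType.isNoetherianRing R _

theorem isLocallyNoetherian_pullback_spec_iff (k k' : Type u) [Field k] [Field k'] [Algebra k k']
    [Algebra.EssFiniteType k k'] (R : CommRingCat.{u}) (g : Spec R ⟶ Spec (CommRingCat.of k)) :
    IsLocallyNoetherian (pullback g (Spec.map (CommRingCat.ofHom (algebraMap k k')))) ↔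
      IsNoetherianRing R := by
  obtain ⟨φ, rfl⟩ := Spec.map_surjective g
  algebraize [φ.hom]
  let e : pullback (Spec.map φ) (Spec.map (CommRingCat.ofHom (algebraMap k k'))) ≅
      Spec (CommRingCat.of (R ⊗[k] k')) := pullbackSpecIso k R k'
  rw [← isNoetherianRing_tensor_iff k k' R]
  constructor
  · intro h
    haveI := isLocallyNoetherian_of_isOpenImmersion e.inv
    exact (isLocallyNoetherian_Spec (R := CommRingCat.of (R ⊗[k] k'))).mp inferInstance
  · intro h
    haveI : IsLocallyNoetherian (Spec (CommRingCat.of (R ⊗[k] k'))) :=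
      isLocallyNoetherian_Spec.mpr h
    exact isLocallyNoetherian_of_isOpenImmersion e.hom

theorem isLocallyNoetherian_pullback_affine_iff (k k' : Type u) [Field k] [Field k']
    [Algebra k k'] [Algebra.EssFiniteType k k'] (U : Scheme.{u}) [IsAffine U]
    (g : U ⟶ Spec (CommRingCat.of k)) :
    IsLocallyNoetherian (pullback g (Spec.map (CommRingCat.ofHom (algebraMap k k')))) ↔
      IsLocallyNoetherian U := by
  let e := U.isoSpec
  let f := pullback.map g (Spec.map (CommRingCat.ofHom (algebraMap k k'))) (e.inv ≫ g)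
    (Spec.map (CommRingCat.ofHom (algebraMap k k'))) e.hom (𝟙 _) (𝟙 _) (by simp) (by simp)
  haveI : IsIso f := by dsimp only [f]; infer_instance
  have h1 := isLocallyNoetherian_pullback_spec_iff k k' Γ(U, ⊤) (e.inv ≫ g)
  constructor
  · intro h
    haveI := isLocallyNoetherian_of_isOpenImmersion (inv f)
    haveI : IsLocallyNoetherian (Spec Γ(U, ⊤)) := isLocallyNoetherian_Spec.mpr (h1.mp inferInstance)
    exact isLocallyNoetherian_of_isOpenImmersion e.hom
  · intro h
    haveI := isLocallyNoetherian_of_isOpenImmersion e.inv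
    haveI := h1.mpr (isLocallyNoetherian_Spec.mp inferInstance)
    exact isLocallyNoetherian_of_isOpenImmersion f

theorem s7605 (k : Type u) [Field k] (X : Scheme.{u}) [X.Over (Spec (CommRingCat.of k))]
    (k' : Type u) [Field k'] [Algebra k k']
    (hfg : (⊤ : IntermediateField k k').FG) :
    IsLocallyNoetherian X ↔ IsLocallyNoetherian (Curv2.bc k X k') := by
  haveI : Algebra.EssFiniteType k k' := IntermediateField.fg_top_iff.mp hfg
  let 𝒰 := X.affineCover
  let 𝒱 := 𝒰.pullback₁ (Curv2.bcFst k X k')
  rw [isLocallyNoetherian_iff_openCover 𝒰, isLocallyNoetherian_iff_openCover 𝒱]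
  refine forall_congr' fun i => ?_
  let e : 𝒱.X i ≅ pullback (𝒰.f i ≫ (X ↘ Spec (CommRingCat.of k)))
      (Spec.map (CommRingCat.ofHom (algebraMap k k'))) :=
    pullbackSymmetry _ _ ≪≫ pullbackRightPullbackFstIso (X ↘ Spec (CommRingCat.of k))
      (Spec.map (CommRingCat.ofHom (algebraMap k k'))) (𝒰.f i)
  rw [← isLocallyNoetherian_pullback_affine_iff k k' (𝒰.X i)
    (𝒰.f i ≫ (X ↘ Spec (CommRingCat.of k)))]
  constructor
  · intro h
    exact isLocallyNoetherian_of_isOpenImmersion e.hom
  · intro h
    exact isLocallyNoetherian_of_isOpenImmersion e.inv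

end Groth.Agent.H1.BCNoeth
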