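import Mathlib
import Groth.Prelude.Def_Curv2
import Groth.Prelude.Def_Pi1
import Groth.Agent.Lib.Helper1.BCStalkApp
import Groth.Agent.Lib.Helper8.SepBaseChange

/-! Helper1: normality of the base change of a normal scheme to a separable field extension. -/

set_option autoImplicit false
set_option linter.style.haveILetI false
universe u
open CategoryTheory CategoryTheory.Limits AlgebraicGeometry IsLocalRing TensorProduct

namespace Groth.Agent.H1.BCStalk

/-- geometric reducedness of `Spec K → Spec k` in Mathlib's scheme-theoretic sense implies the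
algebraic one. -/
theorem isGeometricallyReduced_of_specMap (k K : Type u) [Field k] [Field K] [Algebra k K]
    [GeometricallyReduced (Spec.map (CommRingCat.ofHom (algebraMap k K)))] :
    Algebra.IsGeometricallyReduced k K := by
  have h : geometrically IsReduced (Spec.map (CommRingCat.ofHom (algebraMap k K))) := by
    rw [← GeometricallyReduced.eq_geometrically]; infer_instance
  rw [geometrically_iff_of_commRing_of_isClosedUnderIsomorphisms] at h
  have h1 : IsReduced (Spec (CommRingCat.of (K ⊗[k] AlgebraicClosure k))) := by
    haveI := h (AlgebraicClosure k)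
    exact isReduced_of_isOpenImmersion (pullbackSpecIso k K (AlgebraicClosure k)).inv
  rw [affine_isReduced_iff] at h1
  rw [Algebra.isGeometricallyReduced_field_iff]
  let e := Algebra.TensorProduct.comm k (AlgebraicClosure k) K
  exact isReduced_of_injective e.toRingEquiv.toRingHom e.injective

/-- normal local ring: localisation at the maximal ideal. -/
theorem normal_localization_maximalIdeal (A : Type u) [CommRing A] [IsLocalRing A] [IsDomain A]
    [IsIntegrallyClosed A] :
    IsDomain (Localization.AtPrime (maximalIdeal A)) ∧
      IsIntegrallyClosed (Localization.AtPrime (maximalIdeal A)) := by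
  let e : A ≃ₐ[A] Localization.AtPrime (maximalIdeal A) :=
    IsLocalization.atUnits A (maximalIdeal A).primeCompl (fun x hx => by
      by_contra hnu
      exact hx ((IsLocalRing.mem_maximalIdeal x).mpr hnu))
  exact ⟨e.symm.toRingEquiv.toMulEquiv.isDomain _, IsIntegrallyClosed.of_equiv e.toRingEquiv⟩

attribute [local instance] Curv2.resAlgebra Curv2.stalkAlgebra

theorem s7602 (k : Type u) [Field k] (X : Scheme.{u}) [X.Over (Spec (CommRingCat.of k))]
    (hX : Pi1.IsNormalScheme X)
    (K : Type u) [Field K] [Algebra k K]
    [GeometricallyReduced (Spec.map (CommRingCat.ofHom (algebraMap k K)))] :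
    Pi1.IsNormalScheme (Curv2.bc k X K) := by
  haveI := isGeometricallyReduced_of_specMap k K
  intro x'
  obtain ⟨x, hx⟩ : ∃ x, Curv2.bcFst k X K x' = x := ⟨_, rfl⟩
  have hP : ∀ (R S : Type u) [CommRing R] [CommRing S], (R ≃+* S) →
      (IsDomain R ∧ IsIntegrallyClosed R) → (IsDomain S ∧ IsIntegrallyClosed S) :=
    fun R S _ _ e h => by
      haveI := h.1
      haveI := h.2
      exact ⟨e.symm.toMulEquiv.isDomain _, IsIntegrallyClosed.of_equiv e⟩
  refine (forall_point_iff k X K x
    (fun R _ => IsDomain R ∧ IsIntegrallyClosed R) hP).mpr ?_ x' hx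
  intro q hq
  haveI := (hX x).1
  haveI := (hX x).2
  haveI := (normal_localization_maximalIdeal (X.presheaf.stalk x)).1
  haveI := (normal_localization_maximalIdeal (X.presheaf.stalk x)).2
  exact Groth.Agent.H8.SepBC.normal_localization_tensor k (X.presheaf.stalk x) K q.asIdeal
    (maximalIdeal (X.presheaf.stalk x)) hq

end Groth.Agent.H1.BCStalk
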