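import Mathlib
import Groth.Prelude.Def_Curv2
import Groth.Prelude.Def_EGA4b
import Groth.Agent.Lib.Helper1.BCStalkApp
import Groth.Agent.Lib.Helper8.GeomNormal
import Groth.Agent.Lib.Helper3.CA.GeomNormalLoc

/-! Helper1: geometric normality at a point (EGA IV 6.7.7 pointwise form). -/

set_option autoImplicit false
universe u
open CategoryTheory CategoryTheory.Limits AlgebraicGeometry IsLocalRing TensorProduct

namespace Groth.Agent.H1.BCStalk

open Groth.Agent.H8.GNorm

attribute [local instance] Curv2.resAlgebra Curv2.stalkAlgebra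

/-- a local ring which is a normal ring is a normal domain. -/
theorem normal_of_isLocalRing_of_normalLoc (C : Type u) [CommRing C] [IsLocalRing C]
    (h : NormalLoc C) : IsDomain C ∧ IsIntegrallyClosed C := by
  let e : C ≃ₐ[C] (Localization.AtPrime (maximalIdeal C)) :=
    IsLocalization.atUnits C (maximalIdeal C).primeCompl (fun x => by simpa using! fun a => a)
  obtain ⟨h1, h2⟩ := h (maximalIdeal C)
  exact ⟨e.toRingEquiv.toMulEquiv.isDomain _, IsIntegrallyClosed.of_equiv e.symm.toRingEquiv⟩

theorem normalLoc_of_isIntegrallyClosed (R : Type u) [CommRing R] [IsDomain R]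
    [IsIntegrallyClosed R] : NormalLoc R := fun p _ =>
  ⟨inferInstance, isIntegrallyClosed_of_isLocalization _ p.primeCompl
    p.primeCompl_le_nonZeroDivisors⟩

/-- normality can be checked at maximal ideals. -/
theorem normalLoc_of_forall_maximal (R : Type u) [CommRing R]
    (h : ∀ (m : Ideal R) [m.IsMaximal],
      IsDomain (Localization.AtPrime m) ∧ IsIntegrallyClosed (Localization.AtPrime m)) :
    NormalLoc R := by
  intro q hq
  obtain ⟨m, hm, hqm⟩ := Ideal.exists_le_maximal q hq.ne_top
  haveI := hm
  obtain ⟨h1, h2⟩ := h m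
  have hle : m.primeCompl ≤ q.primeCompl := fun x hx hxq => hx (hqm hxq)
  letI : Algebra (Localization.AtPrime m) (Localization.AtPrime q) :=
    IsLocalization.localizationAlgebraOfSubmonoidLe (Localization.AtPrime m)
      (Localization.AtPrime q) m.primeCompl q.primeCompl hle
  haveI : IsScalarTower R (Localization.AtPrime m) (Localization.AtPrime q) :=
    IsLocalization.localization_isScalarTower_of_submonoid_le (Localization.AtPrime m)
      (Localization.AtPrime q) m.primeCompl q.primeCompl hle
  haveI : IsLocalization (q.primeCompl.map (algebraMap R (Localization.AtPrime m)))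
      (Localization.AtPrime q) :=
    IsLocalization.isLocalization_of_submonoid_le (Localization.AtPrime m)
      (Localization.AtPrime q) m.primeCompl q.primeCompl hle
  have hT : NormalLoc (Localization.AtPrime m) := normalLoc_of_isIntegrallyClosed _
  have hT' : NormalLoc (Localization.AtPrime q) :=
    Groth.Agent.H3.NorLoc.isNormalRing_of_isLocalization
      (q.primeCompl.map (algebraMap R (Localization.AtPrime m))) hT
  exact normal_of_isLocalRing_of_normalLoc _ hT'

variable (k : Type u) [Field k] (X : Scheme.{u}) [X.Over (Spec (CommRingCat.of k))]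

/-- for algebraic `K/k`: normality of the local rings of `X_K` at points over `x` gives normality of
`K ⊗ O_x`. -/
theorem normalLoc_tensor_of_forall_point (K : Type u) [Field K] [Algebra k K]
    [Algebra.IsAlgebraic k K] (x : X)
    (h : ∀ x' : ↥(Curv2.bc k X K), Curv2.bcFst k X K x' = x →
      IsDomain ((Curv2.bc k X K).presheaf.stalk x') ∧
      IsIntegrallyClosed ((Curv2.bc k X K).presheaf.stalk x')) :
    NormalLoc (K ⊗[k] X.presheaf.stalk x) := by
  refine NormalLoc.of_ringEquiv
    (Algebra.TensorProduct.comm k (X.presheaf.stalk x) K).toRingEquiv ?_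
  apply normalLoc_of_forall_maximal
  intro J hJ
  haveI : Algebra.IsIntegral k K := Algebra.IsAlgebraic.isIntegral
  have hmax : (J.comap (algebraMap (X.presheaf.stalk x) (X.presheaf.stalk x ⊗[k] K))).IsMaximal :=
    Ideal.isMaximal_comap_of_isIntegral_of_isMaximal J
  obtain ⟨x', hx', ⟨e⟩⟩ := exists_point_of_prime k X K x ⟨J, hJ.isPrime⟩
    (IsLocalRing.eq_maximalIdeal hmax)
  obtain ⟨h1, h2⟩ := h x' hx'
  exact ⟨e.symm.toMulEquiv.isDomain _, IsIntegrallyClosed.of_equiv e⟩

/-- normality of `K ⊗ O_x` gives normality of the local rings of `X_K` at points over `x`. -/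
theorem normal_stalk_of_normalLoc_tensor (K : Type u) [Field K] [Algebra k K] (x : X)
    (h : NormalLoc (K ⊗[k] X.presheaf.stalk x))
    (x' : ↥(Curv2.bc k X K)) (hx' : Curv2.bcFst k X K x' = x) :
    IsDomain ((Curv2.bc k X K).presheaf.stalk x') ∧
      IsIntegrallyClosed ((Curv2.bc k X K).presheaf.stalk x') := by
  obtain ⟨q, -, ⟨e⟩⟩ := exists_prime_of_point k X K x x' hx'
  have h' : NormalLoc (X.presheaf.stalk x ⊗[k] K) := NormalLoc.of_ringEquiv
    (Algebra.TensorProduct.comm k K (X.presheaf.stalk x)).toRingEquiv h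
  obtain ⟨h1, h2⟩ := h' q.asIdeal
  exact ⟨e.toMulEquiv.isDomain _, IsIntegrallyClosed.of_equiv e.symm⟩

theorem s7599 (x : ↥X) :
    ((∀ (k' : Type u) [Field k'] [Algebra k k'] (x' : ↥(Curv2.bc k X k')),
        Curv2.bcFst k X k' x' = x →
          IsDomain ↥((Curv2.bc k X k').presheaf.stalk x') ∧
          IsIntegrallyClosed ↥((Curv2.bc k X k').presheaf.stalk x')) ↔
      (∀ (k' : Type u) [Field k'] [Algebra k k'] [FiniteDimensional k k']
        [IsPurelyInseparable k k'] (x' : ↥(Curv2.bc k X k')), Curv2.bcFst k X k' x' = x →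
          IsDomain ↥((Curv2.bc k X k').presheaf.stalk x') ∧
          IsIntegrallyClosed ↥((Curv2.bc k X k').presheaf.stalk x'))) ∧
    ((∀ (k' : Type u) [Field k'] [Algebra k k'] [FiniteDimensional k k']
        [IsPurelyInseparable k k'] (x' : ↥(Curv2.bc k X k')), Curv2.bcFst k X k' x' = x →
          IsDomain ↥((Curv2.bc k X k').presheaf.stalk x') ∧
          IsIntegrallyClosed ↥((Curv2.bc k X k').presheaf.stalk x')) ↔
      ∀ (k' : Type u) [Field k'] [Algebra k k'],
        EGA4.IsNormalRing (k' ⊗[k] ↥(X.presheaf.stalk x))) := by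
  have h23 : (∀ (k' : Type u) [Field k'] [Algebra k k'] [FiniteDimensional k k']
        [IsPurelyInseparable k k'] (x' : ↥(Curv2.bc k X k')), Curv2.bcFst k X k' x' = x →
          IsDomain ↥((Curv2.bc k X k').presheaf.stalk x') ∧
          IsIntegrallyClosed ↥((Curv2.bc k X k').presheaf.stalk x')) →
      ∀ (k' : Type u) [Field k'] [Algebra k k'],
        EGA4.IsNormalRing (k' ⊗[k] ↥(X.presheaf.stalk x)) := by
    intro h K _ _
    exact normalLoc_tensor_of_forall_finite_purelyInseparable k (X.presheaf.stalk x)
      (fun k' _ _ hfin hpi =>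
        haveI := hfin
        haveI := hpi
        haveI : Algebra.IsAlgebraic k k' := Algebra.IsAlgebraic.of_finite k k'
        normalLoc_tensor_of_forall_point k X k' x (h k')) K
  have h31 : (∀ (k' : Type u) [Field k'] [Algebra k k'],
        EGA4.IsNormalRing (k' ⊗[k] ↥(X.presheaf.stalk x))) →
      (∀ (k' : Type u) [Field k'] [Algebra k k'] (x' : ↥(Curv2.bc k X k')),
        Curv2.bcFst k X k' x' = x →
          IsDomain ↥((Curv2.bc k X k').presheaf.stalk x') ∧
          IsIntegrallyClosed ↥((Curv2.bc k X k').presheaf.stalk x')) := by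
    intro h k' _ _ x' hx'
    exact normal_stalk_of_normalLoc_tensor k X k' x (h k') x' hx'
  refine ⟨⟨fun h k' _ _ _ _ => h k', fun h => h31 (h23 h)⟩, ⟨h23, fun h k' _ _ _ _ => h31 h k'⟩⟩

end Groth.Agent.H1.BCStalk
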