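import Mathlib
import Groth.Agent.Lib.Helper1.FlatDim
import Groth.Agent.Lib.Helper1.RegFlat
import Groth.Agent.Lib.Helper1.RegLoc
import Groth.Agent.Lib.Helper6.FlatNormal

/-! Stalk maps of étale (and unramified) morphisms. -/

set_option autoImplicit false
universe u
open CategoryTheory AlgebraicGeometry IsLocalRing

namespace Groth.Agent.H1.EtStalk

/-- The stalk map of an unramified l.f.t. morphism sends the maximal ideal onto the maximal ideal. -/
theorem map_maximalIdeal_stalkMap {X Y : Scheme.{u}} (f : X ⟶ Y)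
    [AlgebraicGeometry.FormallyUnramified f] [LocallyOfFiniteType f] (x : X) :
    (maximalIdeal (Y.presheaf.stalk (f x))).map (f.stalkMap x).hom =
      maximalIdeal (X.presheaf.stalk x) := by
  have h1 := AlgebraicGeometry.FormallyUnramified.stalkMap f x
  have h2 := LocallyOfFiniteType.stalkMap f x
  algebraize [(f.stalkMap x).hom]
  haveI : IsLocalHom (algebraMap (Y.presheaf.stalk (f x)) (X.presheaf.stalk x)) :=
    f.toLRSHom.prop x
  exact Algebra.FormallyUnramified.map_maximalIdeal

theorem isNoetherianRing_stalk {X Y : Scheme.{u}} (f : X ⟶ Y)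
    [LocallyOfFiniteType f] [IsLocallyNoetherian Y] (x : X) :
    IsNoetherianRing (X.presheaf.stalk x) := by
  have h2 := LocallyOfFiniteType.stalkMap f x
  algebraize [(f.stalkMap x).hom]
  exact Groth.Agent.H1.RegFlat.isNoetherianRing_of_essFiniteType
    (Y.presheaf.stalk (f x)) (X.presheaf.stalk x)

end Groth.Agent.H1.EtStalk

namespace Groth.Agent.H1.EtStalk

theorem ringKrullDim_stalk_eq {X Y : Scheme.{u}} (f : X ⟶ Y) [AlgebraicGeometry.Etale f]
    [IsLocallyNoetherian Y] (x : X) :
    ringKrullDim (X.presheaf.stalk x) = ringKrullDim (Y.presheaf.stalk (f x)) := by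
  have h0 := map_maximalIdeal_stalkMap f x
  have hfl := Flat.stalkMap f x
  haveI := isNoetherianRing_stalk f x
  algebraize [(f.stalkMap x).hom]
  haveI : IsLocalHom (algebraMap (Y.presheaf.stalk (f x)) (X.presheaf.stalk x)) :=
    f.toLRSHom.prop x
  rw [Groth.Agent.H1.FlatDim.ringKrullDim_eq_add_fiber_of_flat (Y.presheaf.stalk (f x))
    (X.presheaf.stalk x)]
  have h0' : (maximalIdeal (Y.presheaf.stalk (f x))).map
      (algebraMap (Y.presheaf.stalk (f x)) (X.presheaf.stalk x)) =
      maximalIdeal (X.presheaf.stalk x) := h0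
  rw [h0']
  haveI : IsField (X.presheaf.stalk x ⧸ maximalIdeal (X.presheaf.stalk x)) :=
    (Ideal.Quotient.maximal_ideal_iff_isField_quotient _).mp inferInstance
  rw [ringKrullDim_eq_zero_of_isField this, add_zero]

theorem isRegularLocalRing_stalk_iff {X Y : Scheme.{u}} (f : X ⟶ Y) [AlgebraicGeometry.Etale f]
    [IsLocallyNoetherian Y] (x : X) :
    IsRegularLocalRing (X.presheaf.stalk x) ↔ IsRegularLocalRing (Y.presheaf.stalk (f x)) := by
  have h0 := map_maximalIdeal_stalkMap f x
  have hfl := Flat.stalkMap f x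
  haveI := isNoetherianRing_stalk f x
  algebraize [(f.stalkMap x).hom]
  haveI : IsLocalHom (algebraMap (Y.presheaf.stalk (f x)) (X.presheaf.stalk x)) :=
    f.toLRSHom.prop x
  constructor
  · intro h
    exact Groth.Agent.H1.Reg.isRegularLocalRing_of_flat (Y.presheaf.stalk (f x))
      (X.presheaf.stalk x)
  · intro h
    exact Groth.Agent.H1.RegFlat.isRegularLocalRing_of_flat_of_map_eq (Y.presheaf.stalk (f x))
      (X.presheaf.stalk x) h0

end Groth.Agent.H1.EtStalk

namespace Groth.Agent.H1.EtStalk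

theorem isIntegrallyClosed_of_faithfullyFlat (A B : Type*) [CommRing A] [CommRing B] [Algebra A B]
    [Module.FaithfullyFlat A B] [IsDomain B] [IsIntegrallyClosed B] :
    IsDomain A ∧ IsIntegrallyClosed A := by
  have hinj : Function.Injective (algebraMap A B) := FaithfulSMul.algebraMap_injective A B
  haveI : IsDomain A := hinj.isDomain _
  refine ⟨inferInstance, ?_⟩
  rw [isIntegrallyClosed_iff (FractionRing A)]
  intro x hx
  obtain ⟨a, b, hb, rfl⟩ := IsFractionRing.div_surjective (A := A) x
  have hb0 : b ≠ 0 := nonZeroDivisors.ne_zero hb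
  let g : FractionRing A →+* FractionRing B := IsFractionRing.map hinj
  have hg : ∀ a : A, g (algebraMap A (FractionRing A) a) =
      algebraMap B (FractionRing B) (algebraMap A B a) := fun a => IsLocalization.map_eq _ a
  have h1 : IsIntegral B (g (algebraMap A (FractionRing A) a / algebraMap A (FractionRing A) b)) := by
    refine IsIntegral.map_of_comp_eq (algebraMap A B) g ?_ hx
    ext a
    simp [hg]
  obtain ⟨y, hy⟩ := (isIntegrallyClosed_iff (FractionRing B)).mp inferInstance h1
  have hgb : algebraMap B (FractionRing B) (algebraMap A B b) ≠ 0 := by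
    intro h
    exact hb0 (hinj (by simpa using (IsFractionRing.injective B (FractionRing B)) (h.trans (map_zero _).symm)))
  have h2 : y * algebraMap A B b = algebraMap A B a := by
    apply IsFractionRing.injective B (FractionRing B)
    rw [map_mul, hy, map_div₀, hg, hg, div_mul_cancel₀ _ hgb]
  have h3 : a ∈ Ideal.span {b} := by
    rw [← Ideal.comap_map_eq_self_of_faithfullyFlat (B := B) (Ideal.span {b}), Ideal.mem_comap,
      Ideal.map_span, Set.image_singleton, Ideal.mem_span_singleton']
    exact ⟨y, h2⟩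
  obtain ⟨c, hc⟩ := Ideal.mem_span_singleton'.mp h3
  refine ⟨c, ?_⟩
  have hb' : algebraMap A (FractionRing A) b ≠ 0 := by
    intro h
    exact hb0 ((IsFractionRing.injective A (FractionRing A)) (h.trans (map_zero _).symm))
  rw [eq_div_iff hb', ← map_mul, hc]

theorem normal_of_isMaximal {R : Type*} [CommRing R] (I : Ideal R) [I.IsMaximal] :
    IsDomain (R ⧸ I) ∧ IsIntegrallyClosed (R ⧸ I) := by
  letI := Ideal.Quotient.field I
  exact ⟨inferInstance, inferInstance⟩

theorem fibLocRing_normal_of_unramified (A B : Type u) [CommRing A] [CommRing B] [Algebra A B]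
    [Algebra.FormallyUnramified A B] [Algebra.EssFiniteType A B] (q : Ideal B) [q.IsPrime] :
    IsDomain (EGA4.FibLocRing A B q) ∧ IsIntegrallyClosed (EGA4.FibLocRing A B q) := by
  haveI : q.LiesOver (q.comap (algebraMap A B)) := ⟨rfl⟩
  letI := Localization.AtPrime.algebraOfLiesOver (q.comap (algebraMap A B)) q
  have h := ((Algebra.isUnramifiedAt_iff_map_eq A (q.comap (algebraMap A B)) q).mp inferInstance).2
  unfold EGA4.FibLocRing
  rw [h]
  exact normal_of_isMaximal _

theorem normal_atPrime_of_etale {A B : Type u} [CommRing A] [CommRing B] [Algebra A B]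
    [IsNoetherianRing A] [Algebra.Etale A B] (q : Ideal B) [q.IsPrime] (p : Ideal A) [p.IsPrime]
    (hp : p = q.comap (algebraMap A B))
    (Ap : Type u) [CommRing Ap] [Algebra A Ap] [IsLocalization.AtPrime Ap p] 
    [IsDomain Ap] [IsIntegrallyClosed Ap]
    (Bq : Type u) [CommRing Bq] [Algebra B Bq] [IsLocalization.AtPrime Bq q] :
    IsDomain Bq ∧ IsIntegrallyClosed Bq := by
  subst hp
  haveI : IsNoetherianRing B := Algebra.FiniteType.isNoetherianRing A B
  let e1 : Localization.AtPrime (q.comap (algebraMap A B)) ≃ₐ[A] Ap :=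
    IsLocalization.algEquiv (q.comap (algebraMap A B)).primeCompl _ _
  let e2 : Localization.AtPrime q ≃ₐ[B] Bq := IsLocalization.algEquiv q.primeCompl _ _
  haveI : IsDomain (Localization.AtPrime (q.comap (algebraMap A B))) :=
    e1.toRingEquiv.toMulEquiv.isDomain
  haveI : IsIntegrallyClosed (Localization.AtPrime (q.comap (algebraMap A B))) :=
    IsIntegrallyClosed.of_equiv e1.symm.toRingEquiv
  obtain ⟨h1, h2⟩ := Groth.Agent.H6.FlatNormal.normal_localization A B
    (fun r _ => fibLocRing_normal_of_unramified A B r) q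
  haveI := h1
  haveI := h2
  exact ⟨e2.symm.toRingEquiv.toMulEquiv.isDomain, IsIntegrallyClosed.of_equiv e2.toRingEquiv⟩

theorem normal_stalk_of_etale {X Y : Scheme.{u}} (f : X ⟶ Y) [AlgebraicGeometry.Etale f]
    [IsLocallyNoetherian Y] (x : X) [IsDomain (Y.presheaf.stalk (f x))]
    [IsIntegrallyClosed (Y.presheaf.stalk (f x))] :
    IsDomain (X.presheaf.stalk x) ∧ IsIntegrallyClosed (X.presheaf.stalk x) := by
  obtain ⟨_, ⟨U, hU : IsAffineOpen U, rfl⟩, hxU, -⟩ :=
    Y.isBasis_affineOpens.exists_subset_of_mem_open (Set.mem_univ (f x)) isOpen_univ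
  obtain ⟨_, ⟨V, hV : IsAffineOpen V, rfl⟩, hxV, hVU⟩ :=
    X.isBasis_affineOpens.exists_subset_of_mem_open (show x ∈ (f ⁻¹ᵁ U : Set X) from hxU)
      (f ⁻¹ᵁ U).isOpen
  have e : V ≤ f ⁻¹ᵁ U := hVU
  have hsm : (f.appLE U V e).hom.Etale := f.etale_appLE hU hV e
  algebraize [(f.appLE U V e).hom]
  have hsm' : Algebra.Etale Γ(Y, U) Γ(X, V) := hsm
  haveI : IsNoetherianRing Γ(Y, U) := IsLocallyNoetherian.component_noetherian ⟨U, hU⟩
  let q := (hV.primeIdealOf ⟨x, hxV⟩).asIdeal
  let p := (hU.primeIdealOf ⟨f x, hxU⟩).asIdeal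
  have hp : p = q.comap (algebraMap Γ(Y, U) Γ(X, V)) := by
    have := IsAffineOpen.comap_primeIdealOf_appLE (f := f) U hU V hV e hxV
    exact (congrArg PrimeSpectrum.asIdeal this).symm
  let _ := Y.presheaf.algebra_section_stalk ⟨f x, hxU⟩
  let _ := X.presheaf.algebra_section_stalk ⟨x, hxV⟩
  have h1 : IsLocalization.AtPrime (Y.presheaf.stalk (f x)) p := hU.isLocalization_stalk ⟨f x, hxU⟩
  have h2 : IsLocalization.AtPrime (X.presheaf.stalk x) q := hV.isLocalization_stalk ⟨x, hxV⟩
  exact normal_atPrime_of_etale q p hp (Y.presheaf.stalk (f x)) (X.presheaf.stalk x)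

theorem normal_stalk_iff {X Y : Scheme.{u}} (f : X ⟶ Y) [AlgebraicGeometry.Etale f]
    [IsLocallyNoetherian Y] (x : X) :
    (IsDomain (X.presheaf.stalk x) ∧ IsIntegrallyClosed (X.presheaf.stalk x)) ↔
      (IsDomain (Y.presheaf.stalk (f x)) ∧ IsIntegrallyClosed (Y.presheaf.stalk (f x))) := by
  constructor
  · rintro ⟨h1, h2⟩
    have hfl := Flat.stalkMap f x
    algebraize [(f.stalkMap x).hom]
    haveI : IsLocalHom (algebraMap (Y.presheaf.stalk (f x)) (X.presheaf.stalk x)) :=
      f.toLRSHom.prop x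
    haveI : Module.FaithfullyFlat (Y.presheaf.stalk (f x)) (X.presheaf.stalk x) :=
      Module.FaithfullyFlat.of_flat_of_isLocalHom
    exact isIntegrallyClosed_of_faithfullyFlat (Y.presheaf.stalk (f x)) (X.presheaf.stalk x)
  · rintro ⟨h1, h2⟩
    exact normal_stalk_of_etale f x

end Groth.Agent.H1.EtStalk
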