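import Mathlib

/-! Helper1: the ideal cutting out the locus where a surjection from a projective module becomes
bijective after base change. -/
universe u
open TensorProduct

namespace Groth.Agent.H1

theorem exists_ideal_baseChange_bijective_iff {A : Type u} [CommRing A] {M N : Type u}
    [AddCommGroup M] [Module A M] [Module.Projective A M]
    [AddCommGroup N] [Module A N] (u : M →ₗ[A] N) (hu : Function.Surjective u) :
    ∃ I : Ideal A, ∀ (B : Type u) [CommRing B] [Algebra A B],
      Function.Bijective (u.baseChange B) ↔ I.map (algebraMap A B) = ⊥ := by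
  obtain ⟨s, hs⟩ := (Module.projective_def' (R := A) (P := M)).1 inferInstance
  let K := LinearMap.ker u
  let G : Set A := {a | ∃ k ∈ K, ∃ m : M, a = s k m}
  refine ⟨Ideal.span G, fun B _ _ => ?_⟩
  -- step 1: bijective ↔ ∀ k ∈ K, 1 ⊗ k = 0
  have hex : Function.Exact (LinearMap.lTensor B K.subtype) (LinearMap.lTensor B u) :=
    lTensor_exact B (LinearMap.exact_subtype_ker_map u) hu
  have hsurj : Function.Surjective (u.baseChange B) := LinearMap.lTensor_surjective B hu
  have step1 : Function.Bijective (u.baseChange B) ↔ ∀ k ∈ K, (1 : B) ⊗ₜ[A] k = 0 := by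
    constructor
    · intro hb k hk
      apply hb.1
      rw [map_zero]
      change LinearMap.lTensor B u _ = 0
      rw [LinearMap.lTensor_tmul, hk, tmul_zero]
    · intro h
      have hzero : LinearMap.lTensor B K.subtype = 0 := by
        apply TensorProduct.ext'
        intro b k
        rw [LinearMap.lTensor_tmul, LinearMap.zero_apply]
        have : b ⊗ₜ[A] (K.subtype k) = b • ((1 : B) ⊗ₜ[A] (k : M)) := by
          rw [smul_tmul', smul_eq_mul, mul_one]; rfl
        rw [this, h k k.2, smul_zero]
      refine ⟨?_, hsurj⟩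
      rw [← LinearMap.ker_eq_bot, eq_bot_iff]
      intro x hx
      have hx' : LinearMap.lTensor B u x = 0 := hx
      obtain ⟨y, rfl⟩ := (hex x).1 hx'
      rw [hzero, LinearMap.zero_apply]
      exact Submodule.zero_mem _
  -- step 2: 1 ⊗ k = 0 ↔ all coordinates vanish
  have step2 : ∀ k : M, (1 : B) ⊗ₜ[A] k = 0 ↔ ∀ m : M, algebraMap A B (s k m) = 0 := by
    intro k
    classical
    let e := TensorProduct.finsuppScalarRight A A B M
    have hinj : Function.Injective (LinearMap.lTensor B s) := by
      have hl : (LinearMap.lTensor B (Finsupp.linearCombination A id)) ∘ₗ (LinearMap.lTensor B s) =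
          LinearMap.id := by
        rw [← LinearMap.lTensor_comp, hs, LinearMap.lTensor_id]
      exact Function.LeftInverse.injective (g := LinearMap.lTensor B (Finsupp.linearCombination A id))
        (fun x => by rw [← LinearMap.comp_apply, hl, LinearMap.id_apply])
    have h1 : (1 : B) ⊗ₜ[A] k = 0 ↔ e ((1 : B) ⊗ₜ[A] (s k)) = 0 := by
      rw [LinearEquiv.map_eq_zero_iff, ← LinearMap.lTensor_tmul, ← map_zero (LinearMap.lTensor B s)]
      exact hinj.eq_iff.symm
    rw [h1, Finsupp.ext_iff]
    refine forall_congr' fun m => ?_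
    simp only [e]
    rw [TensorProduct.finsuppScalarRight_apply_tmul_apply, Finsupp.zero_apply, Algebra.smul_def,
      mul_one]
  rw [step1, Ideal.map_span, Ideal.span_eq_bot]
  constructor
  · rintro h _ ⟨a, ⟨k, hk, m, rfl⟩, rfl⟩
    exact (step2 k).1 (h k hk) m
  · intro h k hk
    rw [step2]
    intro m
    exact h _ ⟨_, ⟨k, hk, m, rfl⟩, rfl⟩

end Groth.Agent.H1
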