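import Mathlib
import Groth.Agent.Lib.Helper9.Misc.GeomSurj

/-! helper1: surjectivity of morphisms of schemes locally of finite type over a field `K` can be
tested on `Ω`-points, `Ω` algebraically closed of infinite transcendence degree (S4365). -/

set_option autoImplicit false
set_option linter.style.haveILetI false

universe u

namespace Groth.Agent.H1.BigField

open AlgebraicGeometry CategoryTheory

/-- a finite type domain over `K` embeds in a big algebraically closed field. -/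
theorem exists_injective_algHom (K D Ω : Type u) [Field K] [CommRing D] [IsDomain D] [Algebra K D]
    [Algebra.FiniteType K D] [Field Ω] [IsAlgClosed Ω] [Algebra K Ω] (t : ℕ → Ω)
    (ht : AlgebraicIndependent K t) : ∃ φ : D →ₐ[K] Ω, Function.Injective φ := by
  classical
  obtain ⟨T, hT⟩ := (Algebra.FiniteType.out : (⊤ : Subalgebra K D).FG)
  haveI halg : Algebra.IsAlgebraic (Algebra.adjoin K (T : Set D)) D :=
    ⟨fun d => isAlgebraic_algebraMap
      (⟨d, by rw [hT]; exact Algebra.mem_top⟩ : Algebra.adjoin K (T : Set D))⟩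
  have hemp : AlgebraicIndepOn K id (∅ : Set D) := algebraicIndependent_empty_type
  obtain ⟨u, -, huT, hu⟩ := exists_isTranscendenceBasis_between (R := K) (∅ : Set D) (T : Set D)
    (Set.empty_subset _) hemp
  haveI : Finite u := (T.finite_toSet.subset huT).to_subtype
  obtain ⟨n, ⟨e⟩⟩ := Finite.exists_equiv_fin u
  let j : u → ℕ := fun x => (e x : ℕ)
  have hj : Function.Injective j := Fin.val_injective.comp e.injective
  have ht' : AlgebraicIndependent K (t ∘ j) := ht.comp j hj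
  let ψ : Algebra.adjoin K (Set.range ((↑) : u → D)) →ₐ[K] Ω :=
    (MvPolynomial.aeval (t ∘ j)).comp (hu.1.aevalEquiv.symm : _ →ₐ[K] MvPolynomial u K)
  have hψ : Function.Injective ψ := fun a b h => hu.1.aevalEquiv.symm.injective (ht' h)
  letI : Algebra (Algebra.adjoin K (Set.range ((↑) : u → D))) Ω := ψ.toRingHom.toAlgebra
  haveI : IsScalarTower K (Algebra.adjoin K (Set.range ((↑) : u → D))) Ω :=
    IsScalarTower.of_algebraMap_eq (fun x => (ψ.commutes x).symm)
  haveI : Module.IsTorsionFree (Algebra.adjoin K (Set.range ((↑) : u → D))) Ω :=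
    Module.isTorsionFree_iff_algebraMap_injective.mpr hψ
  haveI : Algebra.IsAlgebraic (Algebra.adjoin K (Set.range ((↑) : u → D))) D := hu.isAlgebraic
  let φ' : D →ₐ[Algebra.adjoin K (Set.range ((↑) : u → D))] Ω := IsAlgClosed.lift
  refine ⟨φ'.restrictScalars K, ?_⟩
  rw [injective_iff_map_eq_zero]
  intro d hd
  by_contra hd0
  obtain ⟨r, hr0, c, hc⟩ := (Algebra.IsAlgebraic.isAlgebraic
    (R := Algebra.adjoin K (Set.range ((↑) : u → D))) d).exists_nonzero_dvd
    (mem_nonZeroDivisors_of_ne_zero hd0)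
  have h1 : φ' (algebraMap _ D r) = 0 := by
    rw [hc, map_mul]
    have : φ' d = 0 := hd
    rw [this, zero_mul]
  rw [φ'.commutes] at h1
  have h2 : ψ r = ψ 0 := by rw [map_zero]; exact h1
  exact hr0 (hψ h2)

/-- every point of a scheme locally of finite type over `K` is the image of an `Ω`-point. -/
theorem exists_geometric_point (K Ω : Type u) [Field K] [Field Ω] [IsAlgClosed Ω] [Algebra K Ω]
    (t : ℕ → Ω) (ht : AlgebraicIndependent K t) {Y : Scheme.{u}}
    (pY : Y ⟶ Spec (CommRingCat.of K)) [LocallyOfFiniteType pY] (y₀ : Y) :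
    ∃ y : Spec (CommRingCat.of Ω) ⟶ Y,
      y ≫ pY = Spec.map (CommRingCat.ofHom (algebraMap K Ω)) ∧ ∀ z, y z = y₀ := by
  obtain ⟨_, ⟨V, hV, rfl⟩, hyV, -⟩ :=
    Y.isBasis_affineOpens.exists_subset_of_mem_open (Set.mem_univ y₀) isOpen_univ
  have hV' : IsAffineOpen V := hV
  have e' : V ≤ pY ⁻¹ᵁ ⊤ := fun _ _ => trivial
  let e : Γ(Spec (CommRingCat.of K), ⊤) ≃+* K :=
    (Scheme.ΓSpecIso (CommRingCat.of K)).commRingCatIsoToRingEquiv
  let ρ : K →+* Γ(Y, V) :=
    (pY.appLE ⊤ V e').hom.comp (e.symm : K →+* Γ(Spec (CommRingCat.of K), ⊤))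
  have hρ : ρ.FiniteType := (pY.finiteType_appLE (isAffineOpen_top _) hV' e').comp
    (RingHom.FiniteType.of_surjective _ e.symm.surjective)
  letI : Algebra K Γ(Y, V) := ρ.toAlgebra
  haveI : Algebra.FiniteType K Γ(Y, V) := hρ
  obtain ⟨p, hp⟩ : ∃ p : Ideal Γ(Y, V), p = (hV'.primeIdealOf ⟨y₀, hyV⟩).asIdeal := ⟨_, rfl⟩
  haveI : p.IsPrime := hp ▸ (hV'.primeIdealOf ⟨y₀, hyV⟩).isPrime
  haveI : Algebra.FiniteType K (Γ(Y, V) ⧸ p) :=
    Algebra.FiniteType.of_surjective (Ideal.Quotient.mkₐ K p) Ideal.Quotient.mk_surjective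
  obtain ⟨φ₀, hφ₀⟩ := exists_injective_algHom K (Γ(Y, V) ⧸ p) Ω t ht
  let φ : Γ(Y, V) →+* Ω := (φ₀ : (Γ(Y, V) ⧸ p) →+* Ω).comp (Ideal.Quotient.mk p)
  have hker : ∀ a, φ a = 0 ↔ a ∈ p := fun a => by
    show φ₀ (Ideal.Quotient.mk p a) = 0 ↔ _
    rw [map_eq_zero_iff φ₀ hφ₀, Ideal.Quotient.eq_zero_iff_mem]
  refine ⟨Spec.map (CommRingCat.ofHom φ) ≫ hV'.fromSpec, ?_, ?_⟩
  · rw [Category.assoc, ← IsAffineOpen.SpecMap_appLE_fromSpec pY (isAffineOpen_top _) hV' e',
      IsAffineOpen.fromSpec_top, Scheme.isoSpec_Spec_inv, ← Spec.map_comp, ← Spec.map_comp]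
    congr 1
    ext k
    show φ₀ (Ideal.Quotient.mk p (algebraMap K Γ(Y, V) k)) = algebraMap K Ω k
    exact φ₀.commutes k
  · intro z
    rw [Scheme.Hom.comp_apply]
    have hz : z.asIdeal = ⊥ := (Ideal.eq_bot_or_top z.asIdeal).resolve_right z.isPrime.ne_top
    have h1 : (Spec.map (CommRingCat.ofHom φ)) z = hV'.primeIdealOf ⟨y₀, hyV⟩ := by
      apply PrimeSpectrum.ext
      ext a
      show φ a ∈ z.asIdeal ↔ a ∈ (hV'.primeIdealOf ⟨y₀, hyV⟩).asIdeal
      rw [hz, Ideal.mem_bot, hker, hp]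
    rw [h1]
    exact hV'.fromSpec_primeIdealOf ⟨y₀, hyV⟩

/-- **S4365** -/
theorem main (K Ω : Type u) [Field K] [Field Ω] [IsAlgClosed Ω] [Algebra K Ω]
    (t : ℕ → Ω) (ht : AlgebraicIndependent K t)
    {X Y : Scheme.{u}} (pX : X ⟶ Spec (CommRingCat.of K)) (pY : Y ⟶ Spec (CommRingCat.of K))
    [LocallyOfFiniteType pX] [LocallyOfFiniteType pY] (f : X ⟶ Y) (hf : f ≫ pY = pX) :
    Surjective f ↔ ∀ y : Spec (CommRingCat.of Ω) ⟶ Y,
      y ≫ pY = Spec.map (CommRingCat.ofHom (algebraMap K Ω)) →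
        ∃ x : Spec (CommRingCat.of Ω) ⟶ X, x ≫ f = y := by
  haveI : LocallyOfFiniteType (f ≫ pY) := hf ▸ inferInstance
  haveI : LocallyOfFiniteType f := locallyOfFiniteType_of_comp f pY
  constructor
  · intro hs y _
    exact (Groth.Agent.H9.GeomSurj.main f).mp hs Ω y
  · intro h
    refine ⟨fun y₀ => ?_⟩
    obtain ⟨y, hy, hy₀⟩ := exists_geometric_point K Ω t ht pY y₀
    obtain ⟨x, hx⟩ := h y hy
    refine ⟨x (IsLocalRing.closedPoint Ω), ?_⟩
    rw [← Scheme.Hom.comp_apply, hx]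
    exact hy₀ _

end Groth.Agent.H1.BigField
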