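import Mathlib
import Groth.Prelude

set_option autoImplicit false
set_option linter.style.haveILetI false

universe u

namespace Groth.Agent.H1.StalkIsoOI

open AlgebraicGeometry CategoryTheory CategoryTheory.Limits TopologicalSpace Topology Opposite

variable {X Y S : Scheme.{u}}

/-- a section vanishing at all generic points of components (inside `W`) of a reduced scheme is
zero (copied from helper9's `FRD1`). -/
theorem eq_zero_of_forall_generic [IsReduced Y] {W : Y.Opens} (a : Γ(Y, W))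
    (h : ∀ (η : Y) (hη : η ∈ W), closure {η} ∈ irreducibleComponents ↥Y →
      Y.evaluation W η hη a = 0) : a = 0 := by
  rw [← AlgebraicGeometry.basicOpen_eq_bot_iff]
  by_contra hne
  obtain ⟨z, hz⟩ : ∃ z : Y, z ∈ Y.basicOpen a := by
    by_contra hcon
    push Not at hcon
    apply hne
    ext z
    simp only [TopologicalSpace.Opens.coe_bot, Set.mem_empty_iff_false, iff_false]
    exact hcon z
  have hZ := irreducibleComponent_mem_irreducibleComponents z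
  have hZirr : IsIrreducible (irreducibleComponent z) := isIrreducible_irreducibleComponent
  have hZcl : IsClosed (irreducibleComponent z) := isClosed_irreducibleComponent
  obtain ⟨η, hη⟩ := QuasiSober.sober hZirr hZcl
  have hcl : closure {η} = irreducibleComponent z := hη
  have hspec : η ⤳ z := by
    rw [specializes_iff_mem_closure, hcl]
    exact mem_irreducibleComponent
  have hηb : η ∈ Y.basicOpen a := hspec.mem_open (Y.basicOpen a).2 hz
  have hηW : η ∈ W := Y.basicOpen_le a hηb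
  have h0 := h η hηW (by rw [hcl]; exact hZ)
  rw [Scheme.evaluation_eq_zero_iff_notMem_basicOpen] at h0
  exact h0 hηb

/-- A reduced scheme with finitely many irreducible components is germ-injective at every point. -/
theorem isGermInjectiveAt_of_isReduced_of_finite (S : Scheme.{u}) [IsReduced S]
    (hS : (irreducibleComponents (S : Type u)).Finite) (s : S) : S.IsGermInjectiveAt s := by
  have hTcl : IsClosed (⋃₀ {Z | Z ∈ irreducibleComponents (S : Type u) ∧ s ∉ Z}) := by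
    rw [Set.sUnion_eq_biUnion]
    exact (hS.subset (fun Z hZ => hZ.1)).isClosed_biUnion
      fun Z hZ => isClosed_of_mem_irreducibleComponents Z hZ.1
  have hsT : s ∉ (⋃₀ {Z | Z ∈ irreducibleComponents (S : Type u) ∧ s ∉ Z}) := by
    rintro ⟨Z, ⟨-, hsZ⟩, hs⟩; exact hsZ hs
  obtain ⟨_, ⟨(W : S.Opens), hW, rfl⟩, hsW, hWT⟩ :=
    S.isBasis_affineOpens.exists_subset_of_mem_open
      (show s ∈ (⋃₀ {Z | Z ∈ irreducibleComponents (S : Type u) ∧ s ∉ Z})ᶜ from hsT)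
      hTcl.isOpen_compl
  refine ⟨⟨W, hsW, hW, ?_⟩⟩
  rw [RingHom.injective_iff_ker_eq_bot, RingHom.ker_eq_bot_iff_eq_zero]
  intro a ha
  have ha' : S.presheaf.germ W s hsW a = 0 := ha
  apply eq_zero_of_forall_generic a
  intro η hηW hη
  have hηs : η ⤳ s := by
    by_contra hns
    exact hWT hηW ⟨closure {η}, ⟨hη, fun h => hns (specializes_iff_mem_closure.mpr h)⟩,
      subset_closure rfl⟩
  have h1 : S.presheaf.germ W η hηW a = 0 := by
    have h2 := TopCat.Presheaf.germ_stalkSpecializes_apply S.presheaf hsW hηs a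
    calc S.presheaf.germ W η hηW a
        = (S.presheaf.stalkSpecializes hηs) (S.presheaf.germ W s hsW a) := h2.symm
      _ = (S.presheaf.stalkSpecializes hηs) 0 := by rw [ha']
      _ = 0 := map_zero _
  show (S.residue η) (S.presheaf.germ W η hηW a) = 0
  rw [h1, map_zero]

set_option backward.isDefEq.respectTransparency.types false in
/-- Uniqueness of spreading out for morphisms into a scheme locally of finite type over a base
(no germ-injectivity needed). -/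
theorem spread_out_unique_of_lft (sY : Y ⟶ S) [LocallyOfFiniteType sY]
    {x : X} (f g : X ⟶ Y) (hfg : f ≫ sY = g ≫ sY) (e : f x = g x)
    (H : f.stalkMap x =
      Y.presheaf.stalkSpecializes (Inseparable.of_eq e.symm).specializes ≫ g.stalkMap x) :
    ∃ (U : X.Opens), x ∈ U ∧ U.ι ≫ f = U.ι ≫ g := by
  obtain ⟨_, ⟨S₀ : S.Opens, hS₀, rfl⟩, hxS₀, -⟩ :=
    S.isBasis_affineOpens.exists_subset_of_mem_open (Set.mem_univ (sY (f x))) isOpen_univ
  obtain ⟨_, ⟨V : Y.Opens, hV, rfl⟩, hxV, hVS₀⟩ :=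
    Y.isBasis_affineOpens.exists_subset_of_mem_open (show f x ∈ sY ⁻¹ᵁ S₀ from hxS₀)
      (sY ⁻¹ᵁ S₀).2
  have hxV' : g x ∈ V := e ▸ hxV
  have hVS₀' : V ≤ sY ⁻¹ᵁ S₀ := hVS₀
  obtain ⟨U₁, hU₁⟩ : ∃ U₁ : X.Opens, U₁ = f ⁻¹ᵁ V ⊓ g ⁻¹ᵁ V := ⟨_, rfl⟩
  have hU₁f : U₁ ≤ f ⁻¹ᵁ V := hU₁ ▸ inf_le_left
  have hU₁g : U₁ ≤ g ⁻¹ᵁ V := hU₁ ▸ inf_le_right
  have hxU₁ : x ∈ U₁ := hU₁ ▸ ⟨hxV, hxV'⟩
  have hgerm : f.appLE V U₁ hU₁f ≫ X.presheaf.germ U₁ x hxU₁ =
      g.appLE V U₁ hU₁g ≫ X.presheaf.germ U₁ x hxU₁ := by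
    simp only [Scheme.Hom.appLE, Category.assoc, X.presheaf.germ_res', ← Scheme.Hom.germ_stalkMap, H]
    simp only [TopCat.Presheaf.germ_stalkSpecializes_assoc, Scheme.Hom.germ_stalkMap]
  have hgerm' : ∀ c : Γ(Y, V), X.presheaf.germ U₁ x hxU₁ (f.appLE V U₁ hU₁f c) =
      X.presheaf.germ U₁ x hxU₁ (g.appLE V U₁ hU₁g c) := fun c => by
    have := congr($hgerm c)
    rwa [CommRingCat.comp_apply, CommRingCat.comp_apply] at this
  choose W hxW iU iV hW using fun c : Γ(Y, V) =>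
    X.presheaf.germ_eq x hxU₁ hxU₁ _ _ (hgerm' c)
  have hfin := sY.finiteType_appLE hS₀ hV hVS₀'
  letI := (sY.appLE S₀ V hVS₀').hom.toAlgebra
  obtain ⟨s, hs⟩ := hfin
  classical
  obtain ⟨U, hU⟩ : ∃ U : X.Opens, U = s.inf W ⊓ U₁ := ⟨_, rfl⟩
  have hxU : x ∈ U := by
    rw [hU, ← SetLike.mem_coe, TopologicalSpace.Opens.coe_inf,
      TopologicalSpace.Opens.coe_finset_inf]
    exact ⟨by simpa using fun c _ ↦ hxW c, hxU₁⟩
  have hUU₁ : U ≤ U₁ := hU ▸ inf_le_right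
  have hUW : ∀ c ∈ s, U ≤ W c := fun c hc => hU ▸ (inf_le_left.trans (Finset.inf_le hc))
  refine ⟨U, hxU, ?_⟩
  rw [← Scheme.Hom.resLE_comp_ι _ (hUU₁.trans hU₁f), ← Scheme.Hom.resLE_comp_ι _ (hUU₁.trans hU₁g)]
  congr 1
  have : IsAffine V := hV
  suffices hsuff : ∀ (U₀ V₀) (eU : U = U₀) (eV : V = V₀),
      f.appLE V₀ U₀ (eU ▸ eV ▸ hUU₁.trans hU₁f) =
        g.appLE V₀ U₀ (eU ▸ eV ▸ hUU₁.trans hU₁g) by
    rw [← cancel_mono V.toScheme.isoSpec.hom]
    simp only [Scheme.isoSpec, asIso_hom, Scheme.toSpecΓ_naturality,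
      Scheme.Hom.app_eq_appLE, Scheme.Hom.resLE_appLE]
    congr 2
    apply hsuff <;> simp
  rintro U₀ V₀ rfl rfl
  have hfU : f.appLE V U (hUU₁.trans hU₁f) =
      f.appLE V U₁ hU₁f ≫ X.presheaf.map (homOfLE hUU₁).op :=
    (f.appLE_map hU₁f (homOfLE hUU₁).op).symm
  have hgU : g.appLE V U (hUU₁.trans hU₁g) =
      g.appLE V U₁ hU₁g ≫ X.presheaf.map (homOfLE hUU₁).op :=
    (g.appLE_map hU₁g (homOfLE hUU₁).op).symm
  have hgen : ∀ c ∈ s, f.appLE V U (hUU₁.trans hU₁f) c = g.appLE V U (hUU₁.trans hU₁g) c := by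
    intro c hc
    have h1 : X.presheaf.map (homOfLE hUU₁).op =
        X.presheaf.map (iU c).op ≫ X.presheaf.map (homOfLE (hUW c hc)).op := by
      rw [← Functor.map_comp, ← op_comp]
      exact congrArg (fun i : U ⟶ U₁ => X.presheaf.map i.op) (Subsingleton.elim _ _)
    have h2 : X.presheaf.map (homOfLE hUU₁).op =
        X.presheaf.map (iV c).op ≫ X.presheaf.map (homOfLE (hUW c hc)).op := by
      rw [← Functor.map_comp, ← op_comp]
      exact congrArg (fun i : U ⟶ U₁ => X.presheaf.map i.op) (Subsingleton.elim _ _)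
    calc f.appLE V U (hUU₁.trans hU₁f) c
        = X.presheaf.map (homOfLE hUU₁).op (f.appLE V U₁ hU₁f c) := by
          rw [hfU, CommRingCat.comp_apply]
      _ = X.presheaf.map (homOfLE (hUW c hc)).op
            (X.presheaf.map (iU c).op (f.appLE V U₁ hU₁f c)) := by
          rw [h1, CommRingCat.comp_apply]
      _ = X.presheaf.map (homOfLE (hUW c hc)).op
            (X.presheaf.map (iV c).op (g.appLE V U₁ hU₁g c)) := by rw [hW c]
      _ = X.presheaf.map (homOfLE hUU₁).op (g.appLE V U₁ hU₁g c) := by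
          rw [h2, CommRingCat.comp_apply]
      _ = g.appLE V U (hUU₁.trans hU₁g) c := by rw [hgU, CommRingCat.comp_apply]
  have hR : ∀ r : Γ(S, S₀), f.appLE V U (hUU₁.trans hU₁f) (sY.appLE S₀ V hVS₀' r) =
      g.appLE V U (hUU₁.trans hU₁g) (sY.appLE S₀ V hVS₀' r) := by
    intro r
    have h1 := Scheme.Hom.appLE_comp_appLE f sY S₀ V U hVS₀' (hUU₁.trans hU₁f)
    have h2 := Scheme.Hom.appLE_comp_appLE g sY S₀ V U hVS₀' (hUU₁.trans hU₁g)
    have h3 : ∀ (a b : X ⟶ S) (_ : a = b) (e1 : U ≤ a ⁻¹ᵁ S₀) (e2 : U ≤ b ⁻¹ᵁ S₀),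
        a.appLE S₀ U e1 = b.appLE S₀ U e2 := by
      intro a b hab e1 e2; subst hab; rfl
    have h4 := congr($h1 r)
    have h5 := congr($h2 r)
    rw [CommRingCat.comp_apply] at h4 h5
    rw [h4, h5, h3 _ _ hfg]
  ext c
  have hc : c ∈ Algebra.adjoin Γ(S, S₀) (s : Set Γ(Y, V)) := by rw [hs]; trivial
  induction hc using Algebra.adjoin_induction with
  | mem c hc => exact hgen c hc
  | algebraMap r => exact hR r
  | add c d _ _ hc hd => rw [map_add, map_add, hc, hd]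
  | mul c d _ _ hc hd => rw [map_mul, map_mul, hc, hd]

set_option backward.isDefEq.respectTransparency.types false in
theorem spread_out_unique_of_lft' (sY : Y ⟶ S) [LocallyOfFiniteType sY]
    {x : X} (f g : X ⟶ Y) (hfg : f ≫ sY = g ≫ sY)
    (e : X.fromSpecStalk x ≫ f = X.fromSpecStalk x ≫ g) :
    ∃ (U : X.Opens), x ∈ U ∧ U.ι ≫ f = U.ι ≫ g := by
  fapply spread_out_unique_of_lft sY f g hfg
  · simpa using congr($e (IsLocalRing.closedPoint _))
  · apply Spec.map_injective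
    rw [← cancel_mono (Y.fromSpecStalk _)]
    simpa [Scheme.SpecMap_stalkSpecializes_fromSpecStalk]

/-- If `k ≫ g` and `g ≫ f` are open immersions then so is `k`. -/
theorem isOpenImmersion_of_comp_comp {T V X S : Scheme.{u}} (k : T ⟶ V) (g : V ⟶ X) (f : X ⟶ S)
    [hj : IsOpenImmersion (k ≫ g)] [hι : IsOpenImmersion (g ≫ f)] : IsOpenImmersion k := by
  let W : V.Opens := g ⁻¹ᵁ (k ≫ g).opensRange
  have hk : Set.range k ⊆ Set.range W.ι := by
    rintro _ ⟨t, rfl⟩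
    rw [Scheme.Opens.range_ι]
    show g (k t) ∈ (k ≫ g).opensRange
    exact ⟨t, rfl⟩
  have hb : Set.range (W.ι ≫ g) ⊆ Set.range (k ≫ g) := by
    rintro _ ⟨w, rfl⟩
    have hw : W.ι w ∈ W := by
      have : W.ι w ∈ Set.range W.ι := ⟨w, rfl⟩
      rw [Scheme.Opens.range_ι] at this
      exact this
    have hw' : g (W.ι w) ∈ Set.range (k ≫ g) := hw
    exact hw'
  let a : T ⟶ W.toScheme := IsOpenImmersion.lift W.ι k hk
  let b : W.toScheme ⟶ T := IsOpenImmersion.lift (k ≫ g) (W.ι ≫ g) hb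
  have ha : a ≫ W.ι = k := IsOpenImmersion.lift_fac _ _ _
  have hb' : b ≫ (k ≫ g) = W.ι ≫ g := IsOpenImmersion.lift_fac _ _ _
  have h1 : a ≫ b = 𝟙 T := by
    rw [← cancel_mono (k ≫ g)]
    calc (a ≫ b) ≫ k ≫ g = a ≫ (b ≫ (k ≫ g)) := by simp only [Category.assoc]
      _ = a ≫ (W.ι ≫ g) := by rw [hb']
      _ = (a ≫ W.ι) ≫ g := by rw [Category.assoc]
      _ = k ≫ g := by rw [ha]
      _ = 𝟙 T ≫ k ≫ g := by rw [Category.id_comp]
  have hbk : b ≫ k = W.ι := by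
    rw [← cancel_mono (g ≫ f)]
    calc (b ≫ k) ≫ g ≫ f = (b ≫ (k ≫ g)) ≫ f := by simp only [Category.assoc]
      _ = (W.ι ≫ g) ≫ f := by rw [hb']
      _ = W.ι ≫ g ≫ f := by rw [Category.assoc]
  have h2 : b ≫ a = 𝟙 W.toScheme := by
    rw [← cancel_mono W.ι, Category.assoc, ha, hbk, Category.id_comp]
  haveI : IsIso a := ⟨b, h1, h2⟩
  rw [← ha]
  infer_instance

set_option backward.isDefEq.respectTransparency false in
theorem s7659 {X S : Scheme.{u}} (f : X ⟶ S)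
    [LocallyOfFiniteType f] [IsReduced S] (hS : (irreducibleComponents (S : Type u)).Finite)
    (x : X) (hx : IsIso (f.stalkMap x)) :
    ∃ U : X.Opens, x ∈ U ∧ IsOpenImmersion (U.ι ≫ f) := by
  haveI := hx
  haveI : S.IsGermInjectiveAt (f x) := isGermInjectiveAt_of_isReduced_of_finite S hS (f x)
  have hφ₀ : (Spec.map (inv (f.stalkMap x)) ≫ X.fromSpecStalk x) ≫ f =
      S.fromSpecStalk (f x) ≫ 𝟙 S := by
    rw [Category.comp_id, Category.assoc, ← Scheme.SpecMap_stalkMap_fromSpecStalk,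
      ← Category.assoc, ← Spec.map_comp, IsIso.hom_inv_id, Spec.map_id, Category.id_comp]
  obtain ⟨V, hsV, g, hg1, hg2⟩ := spread_out_of_isGermInjective' (𝟙 S) f _ hφ₀
  rw [Category.comp_id] at hg2
  have hab : (f ⁻¹ᵁ V).ι ≫ f = ((f ∣_ V) ≫ g) ≫ f := by
    rw [Category.assoc, hg2, morphismRestrict_ι]
  have hFa : (f ⁻¹ᵁ V).fromSpecStalkOfMem x hsV ≫ (f ⁻¹ᵁ V).ι = X.fromSpecStalk x :=
    Scheme.Opens.fromSpecStalkOfMem_ι _ _ _
  have hFf : (f ⁻¹ᵁ V).fromSpecStalkOfMem x hsV ≫ (f ∣_ V) =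
      Spec.map (f.stalkMap x) ≫ V.fromSpecStalkOfMem (f x) hsV := by
    rw [← cancel_mono V.ι]
    calc ((f ⁻¹ᵁ V).fromSpecStalkOfMem x hsV ≫ (f ∣_ V)) ≫ V.ι
        = (f ⁻¹ᵁ V).fromSpecStalkOfMem x hsV ≫ ((f ∣_ V) ≫ V.ι) := by rw [Category.assoc]
      _ = ((f ⁻¹ᵁ V).fromSpecStalkOfMem x hsV ≫ (f ⁻¹ᵁ V).ι) ≫ f := by
          rw [morphismRestrict_ι, Category.assoc]
      _ = X.fromSpecStalk x ≫ f := by rw [hFa]
      _ = Spec.map (f.stalkMap x) ≫ S.fromSpecStalk (f x) :=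
          (Scheme.SpecMap_stalkMap_fromSpecStalk f).symm
      _ = Spec.map (f.stalkMap x) ≫ (V.fromSpecStalkOfMem (f x) hsV ≫ V.ι) := by
          rw [Scheme.Opens.fromSpecStalkOfMem_ι]
      _ = (Spec.map (f.stalkMap x) ≫ V.fromSpecStalkOfMem (f x) hsV) ≫ V.ι := by
          rw [Category.assoc]
  have hFb : (f ⁻¹ᵁ V).fromSpecStalkOfMem x hsV ≫ ((f ∣_ V) ≫ g) = X.fromSpecStalk x := by
    calc (f ⁻¹ᵁ V).fromSpecStalkOfMem x hsV ≫ ((f ∣_ V) ≫ g)
        = ((f ⁻¹ᵁ V).fromSpecStalkOfMem x hsV ≫ (f ∣_ V)) ≫ g := by rw [Category.assoc]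
      _ = Spec.map (f.stalkMap x) ≫ (V.fromSpecStalkOfMem (f x) hsV ≫ g) := by
          rw [hFf, Category.assoc]
      _ = Spec.map (f.stalkMap x) ≫ (Spec.map (inv (f.stalkMap x)) ≫ X.fromSpecStalk x) := by
          rw [← hg1]
      _ = Spec.map (inv (f.stalkMap x) ≫ f.stalkMap x) ≫ X.fromSpecStalk x := by
          rw [Spec.map_comp, Category.assoc]
      _ = X.fromSpecStalk x := by
          rw [IsIso.inv_hom_id, Spec.map_id, Category.id_comp]
  have hFdef : (f ⁻¹ᵁ V).fromSpecStalkOfMem x hsV =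
      Spec.map (inv ((f ⁻¹ᵁ V).ι.stalkMap ⟨x, hsV⟩)) ≫
        (f ⁻¹ᵁ V).toScheme.fromSpecStalk ⟨x, hsV⟩ := rfl
  have he : (f ⁻¹ᵁ V).toScheme.fromSpecStalk ⟨x, hsV⟩ ≫ (f ⁻¹ᵁ V).ι =
      (f ⁻¹ᵁ V).toScheme.fromSpecStalk ⟨x, hsV⟩ ≫ ((f ∣_ V) ≫ g) := by
    rw [← cancel_epi (Spec.map (inv ((f ⁻¹ᵁ V).ι.stalkMap ⟨x, hsV⟩))), ← Category.assoc,
      ← Category.assoc, ← hFdef, hFa, hFb]
  obtain ⟨U', hxU', hU'⟩ := spread_out_unique_of_lft' f (f ⁻¹ᵁ V).ι ((f ∣_ V) ≫ g) hab he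
  have hkg : (U'.ι ≫ (f ∣_ V)) ≫ g = U'.ι ≫ (f ⁻¹ᵁ V).ι := by
    rw [Category.assoc]; exact hU'.symm
  haveI : IsOpenImmersion ((U'.ι ≫ (f ∣_ V)) ≫ g) := by rw [hkg]; infer_instance
  haveI : IsOpenImmersion (g ≫ f) := by rw [hg2]; infer_instance
  haveI hk : IsOpenImmersion (U'.ι ≫ (f ∣_ V)) := isOpenImmersion_of_comp_comp _ g f
  have hjf : (U'.ι ≫ (f ⁻¹ᵁ V).ι) ≫ f = (U'.ι ≫ (f ∣_ V)) ≫ V.ι := by
    rw [Category.assoc, Category.assoc, morphismRestrict_ι]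
  haveI : IsOpenImmersion ((U'.ι ≫ (f ⁻¹ᵁ V).ι) ≫ f) := by rw [hjf]; infer_instance
  refine ⟨(U'.ι ≫ (f ⁻¹ᵁ V).ι).opensRange, ⟨⟨⟨x, hsV⟩, hxU'⟩, rfl⟩, ?_⟩
  have h3 : (U'.ι ≫ (f ⁻¹ᵁ V).ι).opensRange.ι =
      (U'.ι ≫ (f ⁻¹ᵁ V).ι).isoOpensRange.inv ≫ (U'.ι ≫ (f ⁻¹ᵁ V).ι) :=
    (Scheme.Hom.isoOpensRange_inv_comp _).symm
  rw [h3, Category.assoc]
  infer_instance

end Groth.Agent.H1.StalkIsoOI
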