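import Mathlib
import Groth.Agent.Lib.Helper1.StalkIsoOI

open AlgebraicGeometry CategoryTheory Limits TopologicalSpace IsLocalRing

universe u

namespace Groth.Agent.H1.BirCodim1

/-- Noetherian local integrally closed domain of dimension ≤ 1 is a valuation ring -/
lemma valuationRing_of_dim_le_one (R : Type u) [CommRing R] [IsDomain R] [IsLocalRing R]
    [IsNoetherianRing R] [IsIntegrallyClosed R] (h : ringKrullDim R ≤ 1) : ValuationRing R := by
  haveI : Ring.KrullDimLE 1 R := Ring.krullDimLE_iff.mpr h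
  have h1 := (Ring.krullDimLE_one_iff_of_isPrime_bot (R := R)).mp inferInstance
  have htfae := (tfae_of_isNoetherianRing_of_isLocalRing_of_isDomain R).out 3 1
  exact htfae.mp ⟨inferInstance, fun P hP hP' => IsLocalRing.eq_maximalIdeal (h1 P hP hP')⟩

lemma bijective_stalkClosedPointTo_of_eq {Y : Scheme.{u}} (y : Y)
    (g : Spec (Y.presheaf.stalk y) ⟶ Y) (hg : g = Y.fromSpecStalk y) :
    Function.Bijective (Scheme.stalkClosedPointTo g).hom := by
  subst hg
  rw [Scheme.stalkClosedPointTo_fromSpecStalk]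
  exact ConcreteCategory.bijective_of_isIso _

lemma halg {Y : Scheme.{u}} [IsIntegral Y] (y : Y) (hsp : genericPoint Y ⤳ y) :
    CommRingCat.ofHom (algebraMap (Y.presheaf.stalk y) Y.functionField) =
      Y.presheaf.stalkSpecializes hsp := rfl

lemma existence_of_isProper {X Y : Scheme.{u}} (f : X ⟶ Y) [IsProper f] :
    ValuativeCriterion.Existence f := by
  have hUC : UniversallyClosed f := inferInstance
  rw [UniversallyClosed.eq_valuativeCriterion] at hUC
  exact hUC.1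

lemma exists_lift_of_sq {X Y : Scheme.{u}} [IsIntegral X] [IsIntegral Y]
    (f : X ⟶ Y) (hex : ValuativeCriterion.Existence f)
    (y : Y) [hv : ValuationRing (Y.presheaf.stalk y)] (hsp : genericPoint Y ⤳ y)
    (i₁ : Spec Y.functionField ⟶ X)
    (hi₁ : i₁ ≫ f = Spec.map (Y.presheaf.stalkSpecializes hsp) ≫ Y.fromSpecStalk y) :
    ∃ l : Spec (Y.presheaf.stalk y) ⟶ X, l ≫ f = Y.fromSpecStalk y ∧
      Spec.map (Y.presheaf.stalkSpecializes hsp) ≫ l = i₁ := by
  rw [← halg y hsp] at hi₁ ⊢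
  haveI hd : IsDomain (Y.presheaf.stalk y) := inferInstance
  let S : ValuativeCommSq f :=
    { R := Y.presheaf.stalk y
      domain := hd
      valuationRing := hv
      K := Y.functionField
      i₁ := i₁
      i₂ := Y.fromSpecStalk y
      commSq := ⟨hi₁⟩ }
  haveI : S.commSq.HasLift := hex S
  let l : Spec (Y.presheaf.stalk y) ⟶ X := S.commSq.lift
  have h1 : l ≫ f = Y.fromSpecStalk y := S.commSq.fac_right
  have h2 : Spec.map (CommRingCat.ofHom (algebraMap (Y.presheaf.stalk y) Y.functionField)) ≫ l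
      = i₁ := S.commSq.fac_left
  exact ⟨l, h1, h2⟩

theorem exists_lift {X Y : Scheme.{u}} [IsIntegral X] [IsIntegral Y]
    (f : X ⟶ Y) [IsProper f] (V : Y.Opens) (hVne : (V : Set Y).Nonempty) [hiso : IsIso (f ∣_ V)]
    (y : Y) [ValuationRing (Y.presheaf.stalk y)] (hsp : genericPoint Y ⤳ y) :
    ∃ l : Spec (Y.presheaf.stalk y) ⟶ X, l ≫ f = Y.fromSpecStalk y ∧
      l ((Spec.map (Y.presheaf.stalkSpecializes hsp)) (closedPoint Y.functionField)) =
        genericPoint X := by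
  classical
  have hηV : genericPoint Y ∈ V :=
    ((genericPoint_spec Y).mem_open_set_iff V.2).mpr (by simpa using hVne)
  haveI : Nonempty (V : Scheme.{u}) := ⟨⟨_, hηV⟩⟩
  haveI : Nonempty ((f ⁻¹ᵁ V : X.Opens) : Scheme.{u}) := ⟨(inv (f ∣_ V)) ⟨_, hηV⟩⟩
  haveI : IsIntegral (V : Scheme.{u}) := isIntegral_of_isOpenImmersion V.ι
  haveI : IsIntegral ((f ⁻¹ᵁ V : X.Opens) : Scheme.{u}) := isIntegral_of_isOpenImmersion (f ⁻¹ᵁ V).ι
  let K : CommRingCat := Y.functionField
  have hrange : Set.range (Y.fromSpecStalk (genericPoint Y)) ⊆ Set.range V.ι := by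
    rw [Scheme.range_fromSpecStalk, Scheme.Opens.range_ι]
    intro z hz
    exact hz.mem_open V.2 hηV
  let g : Spec K ⟶ ↑V := IsOpenImmersion.lift V.ι (Y.fromSpecStalk (genericPoint Y)) hrange
  have hg : g ≫ V.ι = Y.fromSpecStalk (genericPoint Y) := IsOpenImmersion.lift_fac _ _ _
  let i₁ : Spec K ⟶ X := g ≫ inv (f ∣_ V) ≫ (f ⁻¹ᵁ V).ι
  have hi₁ : i₁ ≫ f = Spec.map (Y.presheaf.stalkSpecializes hsp) ≫ Y.fromSpecStalk y := by
    rw [Scheme.SpecMap_stalkSpecializes_fromSpecStalk, ← hg]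
    simp only [i₁, Category.assoc]
    rw [← morphismRestrict_ι f V, IsIso.inv_hom_id_assoc]
  -- `i₁` hits the generic point of `X`
  have hp : i₁ (closedPoint K) = genericPoint X := by
    have h1 : V.ι (g (closedPoint K)) = genericPoint Y := by
      have h0 : (g ≫ V.ι) (closedPoint K) = genericPoint Y := by
        rw [hg]; exact Scheme.fromSpecStalk_closedPoint
      exact h0
    have h2 : V.ι (genericPoint ↑V) = genericPoint Y := genericPoint_eq_of_isOpenImmersion V.ι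
    have h3 : g (closedPoint K) = genericPoint ↑V :=
      V.ι.isOpenEmbedding.injective (h1.trans h2.symm)
    have h4 : (f ∣_ V) (genericPoint ↑(f ⁻¹ᵁ V)) = genericPoint ↑V :=
      genericPoint_eq_of_isOpenImmersion (f ∣_ V)
    have h5 : (inv (f ∣_ V)) (genericPoint ↑V) = genericPoint ↑(f ⁻¹ᵁ V) := by
      have h0 : ((f ∣_ V) ≫ inv (f ∣_ V)) (genericPoint ↑(f ⁻¹ᵁ V)) = genericPoint ↑(f ⁻¹ᵁ V) := by
        rw [IsIso.hom_inv_id]; rfl
      rw [← h4]
      exact h0
    have h6 : (f ⁻¹ᵁ V).ι (genericPoint ↑(f ⁻¹ᵁ V)) = genericPoint X :=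
      genericPoint_eq_of_isOpenImmersion _
    show (f ⁻¹ᵁ V).ι ((inv (f ∣_ V)) (g (closedPoint K))) = genericPoint X
    rw [h3, h5, h6]
  obtain ⟨l, hl2, hl1⟩ := exists_lift_of_sq f (existence_of_isProper f) y hsp i₁ hi₁
  refine ⟨l, hl2, ?_⟩
  have h0 : (Spec.map (Y.presheaf.stalkSpecializes hsp) ≫ l) (closedPoint K) = genericPoint X := by
    rw [hl1]; exact hp
  exact h0

theorem isIso_stalkMap_of_lift {X Y : Scheme.{u}} [IsIntegral X] [IsIntegral Y]
    (f : X ⟶ Y) (y : Y) (hsp : genericPoint Y ⤳ y)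
    (l : Spec (Y.presheaf.stalk y) ⟶ X) (hl2 : l ≫ f = Y.fromSpecStalk y)
    (ht : l ((Spec.map (Y.presheaf.stalkSpecializes hsp)) (closedPoint Y.functionField)) =
        genericPoint X) :
    ∃ x : X, f x = y ∧ IsIso (f.stalkMap x) := by
  let x : X := l (closedPoint (Y.presheaf.stalk y))
  have hfx : f x = y := by
    have h0 : (l ≫ f) (closedPoint (Y.presheaf.stalk y)) = y := by
      rw [hl2]; exact Scheme.fromSpecStalk_closedPoint
    exact h0
  refine ⟨x, hfx, ?_⟩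
  let φ : X.presheaf.stalk x ⟶ Y.presheaf.stalk y := Scheme.stalkClosedPointTo l
  have hcomp : Scheme.stalkClosedPointTo (l ≫ f) = f.stalkMap x ≫ φ :=
    Scheme.stalkClosedPointTo_comp l f
  have hbij := bijective_stalkClosedPointTo_of_eq y (l ≫ f) hl2
  rw [hcomp] at hbij
  have hφ : Function.Injective φ.hom := by
    rw [injective_iff_map_eq_zero]
    intro a ha
    let t : Spec (Y.presheaf.stalk y) :=
      (Spec.map (Y.presheaf.stalkSpecializes hsp)) (closedPoint Y.functionField)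
    have hfac : Spec.map φ ≫ X.fromSpecStalk x = l :=
      Scheme.Spec_stalkClosedPointTo_fromSpecStalk l
    let b : Spec (X.presheaf.stalk x) := (Spec.map φ) t
    have hb : (X.fromSpecStalk x) b = genericPoint X := by
      have h0 : (Spec.map φ ≫ X.fromSpecStalk x) t = genericPoint X := by
        rw [hfac]; exact ht
      exact h0
    let b0 : Spec (X.presheaf.stalk x) :=
      (⟨⊥, Ideal.isPrime_bot⟩ : PrimeSpectrum (X.presheaf.stalk x))
    have hsp' : b ⤳ b0 := by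
      rw [← (X.fromSpecStalk x).isEmbedding.isInducing.specializes_iff, hb]
      exact genericPoint_specializes _
    have hle : b.asIdeal ≤ b0.asIdeal := (PrimeSpectrum.le_iff_specializes b b0).mpr hsp'
    have hmem : a ∈ b.asIdeal := by
      show a ∈ Ideal.comap φ.hom t.asIdeal
      rw [Ideal.mem_comap, ha]; exact zero_mem _
    have h0 : a ∈ (⊥ : Ideal (X.presheaf.stalk x)) := hle hmem
    exact Ideal.mem_bot.mp h0
  have hψ : Function.Bijective (f.stalkMap x).hom := by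
    have hbij : Function.Bijective (⇑φ.hom ∘ ⇑(f.stalkMap x).hom) := hbij
    refine ⟨hbij.1.of_comp, fun b => ?_⟩
    obtain ⟨a, ha⟩ := hbij.2 (φ.hom b)
    exact ⟨a, hφ ha⟩
  exact (ConcreteCategory.isIso_iff_bijective _).mpr hψ

theorem exists_isIso_stalkMap {X Y : Scheme.{u}} [IsIntegral X] [IsIntegral Y]
    (f : X ⟶ Y) [IsProper f] (V : Y.Opens) (hVne : (V : Set Y).Nonempty) [hiso : IsIso (f ∣_ V)]
    (y : Y) [ValuationRing (Y.presheaf.stalk y)] :
    ∃ x : X, f x = y ∧ IsIso (f.stalkMap x) := by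
  have hsp : genericPoint Y ⤳ y := (genericPoint_spec Y).specializes trivial
  obtain ⟨l, hl2, ht⟩ := exists_lift f V hVne y hsp
  exact isIso_stalkMap_of_lift f y hsp l hl2 ht

theorem isIso_restrict_of_isOpenImmersion {X Y : Scheme.{u}} [IsIntegral X] (f : X ⟶ Y)
    [IsSeparated f] (U : X.Opens) [hOI : IsOpenImmersion (U.ι ≫ f)] (hUne : (U : Set X).Nonempty)
    (W : Y.Opens) (hW : (W : Set Y) = Set.range (U.ι ≫ f)) :
    IsIso (f ∣_ W) := by
  have hUT : U ≤ f ⁻¹ᵁ W := by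
    intro u hu
    show f u ∈ (W : Set Y)
    rw [hW]
    exact ⟨⟨u, hu⟩, rfl⟩
  have hrange : Set.range W.ι ⊆ Set.range (U.ι ≫ f) := by
    rw [Scheme.Opens.range_ι, hW]
  let σ : (W : Scheme.{u}) ⟶ (U : Scheme.{u}) := IsOpenImmersion.lift (U.ι ≫ f) W.ι hrange
  have hσ : σ ≫ U.ι ≫ f = W.ι := IsOpenImmersion.lift_fac _ _ _
  let s₀ : (W : Scheme.{u}) ⟶ ((f ⁻¹ᵁ W : X.Opens) : Scheme.{u}) := σ ≫ X.homOfLE hUT
  have h1 : s₀ ≫ (f ∣_ W) = 𝟙 _ := by
    rw [← cancel_mono W.ι]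
    simp only [s₀, Category.assoc, Category.id_comp]
    rw [morphismRestrict_ι, X.homOfLE_ι_assoc, hσ]
  have h2 : X.homOfLE hUT ≫ (f ∣_ W) ≫ σ = 𝟙 _ := by
    rw [← cancel_mono (U.ι ≫ f)]
    simp only [Category.assoc, Category.id_comp]
    rw [hσ, morphismRestrict_ι, X.homOfLE_ι_assoc]
  haveI : IsSeparated (f ∣_ W) := IsZariskiLocalAtTarget.restrict ‹_› W
  haveI : IsDominant (X.homOfLE hUT) := by
    haveI : IsDominant (X.homOfLE hUT ≫ (f ⁻¹ᵁ W).ι) := by
      rw [X.homOfLE_ι]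
      refine ⟨?_⟩
      rw [DenseRange, Scheme.Opens.range_ι]
      exact U.2.dense hUne
    exact IsDominant.of_comp_of_isOpenImmersion (X.homOfLE hUT) (f ⁻¹ᵁ W).ι
  have h3 : (f ∣_ W) ≫ s₀ = 𝟙 _ := by
    refine ext_of_isDominant_of_isSeparated (f ∣_ W) ?_ (X.homOfLE hUT) ?_
    · rw [Category.assoc, h1, Category.comp_id, Category.id_comp]
    · simp only [s₀]
      rw [Category.comp_id, ← Category.assoc, ← Category.assoc, Category.assoc (X.homOfLE hUT), h2,
        Category.id_comp]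
  exact ⟨⟨s₀, h3, h1⟩⟩

theorem s14523 {X Y : Scheme.{u}} [IsIntegral X] [IsIntegral Y] [IsLocallyNoetherian Y]
    (hY : ∀ y : Y, IsIntegrallyClosed (Y.presheaf.stalk y)) (f : X ⟶ Y) [IsProper f]
    (hbir : ∃ V : Y.Opens, (V : Set Y).Nonempty ∧ IsIso (f ∣_ V))
    (y : Y) (hy : ringKrullDim (Y.presheaf.stalk y) ≤ 1) :
    ∃ V : Y.Opens, y ∈ V ∧ IsIso (f ∣_ V) := by
  obtain ⟨V, hVne, hVi⟩ := hbir
  haveI := hY y
  haveI : ValuationRing (Y.presheaf.stalk y) := valuationRing_of_dim_le_one _ hy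
  obtain ⟨x, hfx, hx⟩ := exists_isIso_stalkMap f V hVne y
  have hfin : (irreducibleComponents (Y : Type u)).Finite := by
    rw [irreducibleComponents_eq_singleton]; exact Set.finite_singleton _
  obtain ⟨U, hxU, hOI⟩ := StalkIsoOI.s7659 f hfin x hx
  refine ⟨(U.ι ≫ f).opensRange, ?_,
    isIso_restrict_of_isOpenImmersion f U ⟨x, hxU⟩ _ (Scheme.Hom.coe_opensRange _)⟩
  rw [← hfx]
  exact ⟨⟨x, hxU⟩, rfl⟩

end Groth.Agent.H1.BirCodim1
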