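import Mathlib
import Groth.Agent.Lib.Helper1.LimFlat7

/-!
# Generic freeness at the generic point of an irreducible spectrum (model form)
-/

set_option autoImplicit false

universe u

open TensorProduct Function

namespace Groth.Agent.H1.LimFlat

open Groth.Agent.H1.PolyModel

attribute [local instance] MvPolynomial.algebraMvPolynomial

section

variable {n : ℕ} {A : Type u} [CommRing A] (r t : ℕ)

/-- flatness over the local ring at a prime spreads out to a principal open of the base -/
theorem exists_flat_away_of_flat_atPrime (k : Fin t → (Fin r → P n A)) (p : Ideal A) [p.IsPrime]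
    [Module.Flat (Localization.AtPrime p) (Mod r t (kmap (Localization.AtPrime p) r t k))] :
    ∃ t₀ : A, t₀ ∉ p ∧
      Module.Flat (Localization.Away t₀) (Mod r t (kmap (Localization.Away t₀) r t k)) := by
  classical
  let T : Submonoid A := p.primeCompl
  let S : Submonoid (P n A) := Algebra.algebraMapSubmonoid (P n A) T
  -- Step a: flatness of the localization at `S`
  haveI h1 : Module.Flat (Localization.AtPrime p) (LocalizedModule T (Mod r t k)) :=
    Module.Flat.of_linearEquiv (localizedEquivModel r t T k (LinearEquiv.refl A _))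
  haveI h2 : Module.Flat A (LocalizedModule T (Mod r t k)) :=
    Module.Flat.trans A (Localization.AtPrime p) _
  let mkS := LocalizedModule.mkLinearMap S (Mod r t k)
  haveI h3 : IsLocalizedModule T (mkS.restrictScalars A) := IsLocalizedModule.restrictScalars T mkS
  haveI h4 : Module.Flat A (LocalizedModule S (Mod r t k)) :=
    Module.Flat.of_linearEquiv (IsLocalizedModule.iso T (mkS.restrictScalars A)).symm
  have h2a : ∀ (q : Ideal (P n A)) [q.IsPrime], Disjoint (q : Set (P n A)) S →
      Module.Flat A (LocalizedModule q.primeCompl (Mod r t k)) := by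
    intro q _ hq
    have hle : S ≤ q.primeCompl := fun s hs hsq => Set.disjoint_left.mp hq hsq hs
    exact Groth.Agent.H1.FlatLocus.flat_of_isLocalizedModule_of_le (R := A) (B := P n A) S mkS
      q.primeCompl hle (LocalizedModule.mkLinearMap q.primeCompl (Mod r t k))
  -- Step b: the ideal of good elements
  let good : Set (P n A) := {g | ∀ (q' : Ideal (P n A)) [q'.IsPrime], g ∉ q' →
    Module.Flat A (LocalizedModule q'.primeCompl (Mod r t k))}
  have hgoodI : ∀ g ∈ Ideal.span good, g ∈ good := by
    intro g hg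
    induction hg using Submodule.span_induction with
    | mem x hx => exact hx
    | zero => exact fun q' _ h => absurd (Ideal.zero_mem q') h
    | add x y _ _ hx hy =>
      intro q' _ hxy
      by_cases hxq : x ∈ q'
      · exact hy q' fun hyq => hxy (Ideal.add_mem _ hxq hyq)
      · exact hx q' hxq
    | smul c x _ hx =>
      intro q' _ hcx
      exact hx q' fun hxq => hcx (Ideal.mul_mem_left _ _ hxq)
  have hmeet : ¬ Disjoint ((Ideal.span good : Ideal (P n A)) : Set (P n A)) S := by
    intro hdisj
    obtain ⟨q, hq, hIq, hqS⟩ := Ideal.exists_le_prime_disjoint (Ideal.span good) S hdisj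
    haveI := h2a q hqS
    obtain ⟨g, hgq, hg⟩ := exists_flat_nhd_model r t k q
    exact hgq (hIq (Ideal.subset_span (fun q' _ h => hg q' h)))
  obtain ⟨s, hsI, hsS⟩ := Set.not_disjoint_iff.mp hmeet
  obtain ⟨t₀, ht₀, rfl⟩ := hsS
  have hgood := hgoodI _ hsI
  refine ⟨t₀, ht₀, ?_⟩
  -- Step c: flatness over `A_{t₀}`
  let A' := Localization.Away t₀
  refine Groth.Agent.H1.FlatBCLoc.flat_of_forall_flat_localizedModule_prime (A := A')
    (B := P n A') fun Q _ => ?_
  let q' : Ideal (P n A) := Q.comap (algebraMap (P n A) (P n A'))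
  haveI : q'.IsPrime := Ideal.comap_isPrime _ _
  have hq' : algebraMap A (P n A) t₀ ∉ q' := by
    intro h
    have h5 : algebraMap (P n A) (P n A') (algebraMap A (P n A) t₀) ∈ Q := h
    have h6 : IsUnit (algebraMap (P n A) (P n A') (algebraMap A (P n A) t₀)) := by
      rw [MvPolynomial.algebraMap_def, MvPolynomial.algebraMap_apply, MvPolynomial.map_C]
      exact (IsLocalization.Away.algebraMap_isUnit t₀).map MvPolynomial.C
    exact (Ideal.IsPrime.ne_top inferInstance) (Ideal.eq_top_of_isUnit_mem _ h5 h6)
  haveI := hgood q' hq'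
  exact Groth.Agent.H1.FlatBCLoc.flat_localized_of_isBaseChange (R := A) (R' := A')
    (B := P n A) (B' := P n A') (muM A' r t k) (isBaseChange_muM_restrictScalars A' r t k)
    q'.primeCompl Q.primeCompl (fun s hs => hs)
    (LocalizedModule.mkLinearMap q'.primeCompl (Mod r t k))
    (LocalizedModule.mkLinearMap Q.primeCompl (Mod r t (kmap A' r t k)))

/-- a flat model over `A_{t₀}`, where the nilradical `p` of `A` is prime, is free over a smaller
principal open -/
theorem exists_free_away_of_flat_away (k : Fin t → (Fin r → P n A)) (p : Ideal A) [p.IsPrime]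
    (hp : p ≤ nilradical A) (t₀ : A) (ht₀ : t₀ ∉ p)
    [Module.Flat (Localization.Away t₀) (Mod r t (kmap (Localization.Away t₀) r t k))] :
    ∃ a : A, t₀ * a ∉ p ∧ Module.Free (Localization.Away (t₀ * a))
      (Mod r t (kmap (Localization.Away (t₀ * a)) r t k)) := by
  let A' := Localization.Away t₀
  let k' := kmap A' r t k
  obtain ⟨S₂, hS₂, k₂, hk₂, hflat₂⟩ := exists_fg_flat_model r t k'
  haveI := isNoetherianRing_of_fg S₂ hS₂
  -- `A'` and `S₂` are nontrivial
  have hnil : ∀ x : A, IsNilpotent (algebraMap A A' x) → x ∈ p := by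
    rintro x ⟨N, hN⟩
    rw [← map_pow, IsLocalization.map_eq_zero_iff (Submonoid.powers t₀)] at hN
    obtain ⟨⟨_, m, rfl⟩, hm⟩ := hN
    have : t₀ ^ m * x ^ N ∈ p := by rw [hm]; exact Ideal.zero_mem _
    rcases Ideal.IsPrime.mem_or_mem inferInstance this with h | h
    · exact absurd (Ideal.IsPrime.mem_of_pow_mem inferInstance _ h) ht₀
    · exact Ideal.IsPrime.mem_of_pow_mem inferInstance _ h
  haveI : Nontrivial S₂ := by
    refine ⟨⟨1, 0, fun h => ?_⟩⟩
    have h1 : (1 : A') = 0 := congrArg Subtype.val h
    have h2 : IsNilpotent (algebraMap A A' 1) := ⟨1, by rw [map_one, pow_one, h1]⟩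
    exact (Ideal.IsPrime.ne_top inferInstance) ((Ideal.eq_top_iff_one p).mpr (hnil 1 h2))
  obtain ⟨f₂, hf₂, hfree⟩ := exists_free_away_of_flat r t k₂
  obtain ⟨⟨a, s⟩, has⟩ := IsLocalization.surj (Submonoid.powers t₀) (f₂ : A')
  have hsunit : IsUnit (algebraMap A A' s) := IsLocalization.map_units A' s
  have hap : a ∉ p := by
    intro hap
    apply hf₂
    obtain ⟨N, hN⟩ := mem_nilradical.mp (hp hap)
    have h1 : ((f₂ : A') * algebraMap A A' s) ^ N = 0 := by
      rw [has, ← map_pow, hN, map_zero]
    rw [mul_pow] at h1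
    have h2 : (f₂ : A') ^ N = 0 := (hsunit.pow N).mul_left_eq_zero.mp h1
    exact mem_nilradical.mpr ⟨N, Subtype.ext h2⟩
  refine ⟨a, fun h => (Ideal.IsPrime.mem_or_mem inferInstance h).elim ht₀ hap, ?_⟩
  let C := Localization.Away (t₀ * a)
  have hunit : IsUnit (algebraMap A C (t₀ * a)) := IsLocalization.Away.algebraMap_isUnit _
  rw [map_mul] at hunit
  have hunit₀ : IsUnit (algebraMap A C t₀) := isUnit_of_mul_isUnit_left hunit
  have hunita : IsUnit (algebraMap A C a) := isUnit_of_mul_isUnit_right hunit
  let χ : A' →+* C := IsLocalization.Away.lift t₀ hunit₀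
  have hχ : χ.comp (algebraMap A A') = algebraMap A C := IsLocalization.Away.lift_comp t₀ hunit₀
  have hχf : IsUnit ((χ.comp (algebraMap S₂ A')) f₂) := by
    have h1 : χ ((f₂ : A') * algebraMap A A' s) = algebraMap A C a := by
      rw [has, ← RingHom.comp_apply, hχ]
    rw [map_mul] at h1
    have h2 : IsUnit (χ (f₂ : A') * χ (algebraMap A A' s)) := h1 ▸ hunita
    exact isUnit_of_mul_isUnit_left h2
  let ψ : Localization.Away f₂ →+* C := IsLocalization.Away.lift f₂ hχf
  haveI := hfree
  refine free_model_of_ringHom r t ψ (kmap (Localization.Away f₂) r t k₂) _ fun u b => ?_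
  change MvPolynomial.map ψ (MvPolynomial.map (algebraMap S₂ (Localization.Away f₂)) (k₂ u b)) =
    MvPolynomial.map (algebraMap A C) (k u b)
  rw [MvPolynomial.map_map, IsLocalization.Away.lift_comp, ← hχ, ← MvPolynomial.map_map,
    ← MvPolynomial.map_map]
  congr 1
  exact congrFun (congrFun hk₂ u) b

end

end Groth.Agent.H1.LimFlat
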