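import Mathlib
import Groth.Agent.Lib.Helper1.LimFlat8
import Groth.Agent.Lib.Helper1.CMQF

/-! helper1: generic flatness over a reduced base whose set of maximal points is quasi-compact
(S14790): a finitely presented morphism is flat over a dense quasi-compact open. -/

set_option autoImplicit false
set_option linter.style.haveILetI false

universe u

namespace Groth.Agent.H1.FlatGenRed

open AlgebraicGeometry CategoryTheory TopologicalSpace Topology
open Groth.Agent.H1.PolyModel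

attribute [local instance] MvPolynomial.algebraMvPolynomial

theorem flat_of_isField {K M : Type*} [CommRing K] (hK : IsField K) [AddCommGroup M]
    [Module K M] : Module.Flat K M := by
  letI := hK.toField
  infer_instance

/-- finitely presented algebra over a ring whose localization at `p` is a field: flat over a
principal open neighbourhood of `p`. -/
theorem exists_flat_of_isField_atPrime {A B : Type u} [CommRing A] [CommRing B] [Algebra A B]
    [Algebra.FinitePresentation A B] (p : Ideal A) [p.IsPrime]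
    (hK : IsField (Localization.AtPrime p)) :
    ∃ t : A, t ∉ p ∧ ∀ (q : Ideal B) [q.IsPrime], algebraMap A B t ∉ q →
      Module.Flat A (LocalizedModule q.primeCompl B) := by
  classical
  obtain ⟨n, r, t, k, ⟨e⟩⟩ :=
    Groth.Agent.H1.LimFlat.exists_model_of_fp (R := A) (S := B) (M := B)
  haveI : Module.Flat (Localization.AtPrime p)
      (Mod r t (kmap (Localization.AtPrime p) r t k)) := flat_of_isField hK
  obtain ⟨t₀, ht₀, hfl⟩ := Groth.Agent.H1.LimFlat.exists_flat_away_of_flat_atPrime r t k p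
  haveI := hfl
  refine ⟨t₀, ht₀, ?_⟩
  intro q _ hq
  let T : Submonoid A := Submonoid.powers t₀
  let S : Submonoid B := Algebra.algebraMapSubmonoid B T
  haveI h1 : Module.Flat (Localization.Away t₀) (LocalizedModule T B) :=
    Module.Flat.of_linearEquiv (Groth.Agent.H1.LimFlat.localizedEquivModel r t T k e)
  haveI h2 : Module.Flat A (LocalizedModule T B) :=
    Module.Flat.trans A (Localization.Away t₀) _
  let mkS := LocalizedModule.mkLinearMap S B
  haveI h3 : IsLocalizedModule T (mkS.restrictScalars A) := IsLocalizedModule.restrictScalars T mkS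
  haveI h4 : Module.Flat A (LocalizedModule S B) :=
    Module.Flat.of_linearEquiv (IsLocalizedModule.iso T (mkS.restrictScalars A)).symm
  have hle : S ≤ q.primeCompl := by
    rintro _ ⟨a, ⟨m, rfl⟩, rfl⟩ hmem
    have hmem' : algebraMap A B (t₀ ^ m) ∈ q := hmem
    rw [map_pow] at hmem'
    exact hq (Ideal.IsPrime.mem_of_pow_mem ‹q.IsPrime› m hmem')
  exact Groth.Agent.H1.FlatLocus.flat_of_isLocalizedModule_of_le (R := A) (B := B) S mkS
    q.primeCompl hle (LocalizedModule.mkLinearMap q.primeCompl B)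

variable {X Y : Scheme.{u}}

lemma notMem_primeIdealOf_iff {U : X.Opens} (hU : IsAffineOpen U) (x : X)
    (hx : x ∈ U) (f : Γ(X, U)) :
    f ∉ (hU.primeIdealOf ⟨x, hx⟩).asIdeal ↔ x ∈ X.basicOpen f := by
  have h1 : hU.fromSpec (hU.primeIdealOf ⟨x, hx⟩) = x := hU.fromSpec_primeIdealOf ⟨x, hx⟩
  have h2 : hU.primeIdealOf ⟨x, hx⟩ ∈ hU.fromSpec ⁻¹ᵁ X.basicOpen f ↔
      f ∉ (hU.primeIdealOf ⟨x, hx⟩).asIdeal := by
    rw [hU.fromSpec_preimage_basicOpen]
    rfl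
  rw [← h2]
  constructor
  · intro h
    rw [← h1]
    exact h
  · intro h
    show hU.fromSpec (hU.primeIdealOf ⟨x, hx⟩) ∈ X.basicOpen f
    rw [h1]
    exact h

theorem flat_morphismRestrict_of_stalkMap (f : X ⟶ Y) (U : Y.Opens)
    (h : ∀ x : X, f x ∈ U → (f.stalkMap x).hom.Flat) : Flat (f ∣_ U) := by
  refine Flat.of_stalkMap _ fun x' => ?_
  exact (RingHom.Flat.respectsIso.arrow_mk_iso_iff (morphismRestrictStalkMap f U x')).mpr
    (h x'.1 x'.2)

/-- a maximal point (no proper generization) of an affine open gives a minimal prime. -/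
theorem primeIdealOf_mem_minimalPrimes {V : Y.Opens} (hV : IsAffineOpen V) (η : Y) (hη : η ∈ V)
    (hmax : ∀ y' : Y, y' ⤳ η → y' = η) :
    (hV.primeIdealOf ⟨η, hη⟩).asIdeal ∈ minimalPrimes Γ(Y, V) := by
  refine ⟨⟨(hV.primeIdealOf ⟨η, hη⟩).isPrime, bot_le⟩, ?_⟩
  rintro q ⟨hq, -⟩ hqp
  let q' : PrimeSpectrum Γ(Y, V) := ⟨q, hq⟩
  have h1 : q' ⤳ hV.primeIdealOf ⟨η, hη⟩ := (PrimeSpectrum.le_iff_specializes _ _).mp hqp
  have h2 : hV.fromSpec q' ⤳ hV.fromSpec (hV.primeIdealOf ⟨η, hη⟩) :=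
    h1.map hV.fromSpec.continuous
  have h0 : hV.fromSpec (hV.primeIdealOf ⟨η, hη⟩) = η := hV.fromSpec_primeIdealOf ⟨η, hη⟩
  rw [h0] at h2
  have h3 := hmax _ h2
  have h4 : q' = hV.primeIdealOf ⟨η, hη⟩ := by
    apply hV.fromSpec.isOpenEmbedding.injective
    rw [h0]; exact h3
  rw [← h4]

/-- every point of a scheme has a maximal generization. -/
theorem exists_maximal_generization (y : Y) :
    ∃ η : Y, η ⤳ y ∧ ∀ y' : Y, y' ⤳ η → y' = η := by
  obtain ⟨_, ⟨V, hV, rfl⟩, hyV, -⟩ :=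
    Y.isBasis_affineOpens.exists_subset_of_mem_open (Set.mem_univ y) isOpen_univ
  obtain ⟨q, hqmin, hqle⟩ := Ideal.exists_minimalPrimes_le
    (show (⊥ : Ideal Γ(Y, V)) ≤ (hV.primeIdealOf ⟨y, hyV⟩).asIdeal from bot_le)
  have hqP : q.IsPrime := hqmin.1.1
  let q' : PrimeSpectrum Γ(Y, V) := ⟨q, hqP⟩
  refine ⟨hV.fromSpec q', ?_, ?_⟩
  · have h1 : q' ⤳ hV.primeIdealOf ⟨y, hyV⟩ := (PrimeSpectrum.le_iff_specializes _ _).mp hqle
    have h2 := h1.map hV.fromSpec.continuous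
    have h0 : hV.fromSpec (hV.primeIdealOf ⟨y, hyV⟩) = y := hV.fromSpec_primeIdealOf ⟨y, hyV⟩
    rwa [h0] at h2
  · intro y' hy'
    have hηV : hV.fromSpec q' ∈ (V : Set Y) := by
      rw [← hV.range_fromSpec]; exact ⟨q', rfl⟩
    have hy'V : y' ∈ V := hy'.mem_open V.isOpen hηV
    have h3 : hV.fromSpec (hV.primeIdealOf ⟨y', hy'V⟩) = y' :=
      hV.fromSpec_primeIdealOf ⟨y', hy'V⟩
    have h4 : hV.primeIdealOf ⟨y', hy'V⟩ ⤳ q' := by
      have h40 : hV.fromSpec (hV.primeIdealOf ⟨y', hy'V⟩) ⤳ hV.fromSpec q' := by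
        rw [h3]; exact hy'
      exact (hV.fromSpec.isOpenEmbedding.toIsEmbedding.toIsInducing.specializes_iff).mp h40
    have h5 : (hV.primeIdealOf ⟨y', hy'V⟩).asIdeal ≤ q :=
      (PrimeSpectrum.le_iff_specializes _ _).mpr h4
    have h6 : q ≤ (hV.primeIdealOf ⟨y', hy'V⟩).asIdeal :=
      hqmin.2 ⟨(hV.primeIdealOf ⟨y', hy'V⟩).isPrime, bot_le⟩ h5
    have h7 : hV.primeIdealOf ⟨y', hy'V⟩ = q' := PrimeSpectrum.ext (le_antisymm h5 h6)
    exact h3.symm.trans (by rw [h7])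

theorem exists_flat_chart (f : X ⟶ Y) [LocallyOfFinitePresentation f] {V : Y.Opens}
    (hV : IsAffineOpen V) (p : Ideal Γ(Y, V)) [p.IsPrime]
    (hK : IsField (Localization.AtPrime p))
    {W : X.Opens} (hW : IsAffineOpen W) (e : W ≤ f ⁻¹ᵁ V) :
    ∃ t : Γ(Y, V), t ∉ p ∧ ∀ (x : X) (hx : x ∈ W),
      t ∉ (hV.primeIdealOf ⟨f x, e hx⟩).asIdeal → (f.stalkMap x).hom.Flat := by
  letI := (f.appLE V W e).hom.toAlgebra
  haveI : Algebra.FinitePresentation Γ(Y, V) Γ(X, W) := f.finitePresentation_appLE hV hW e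
  obtain ⟨t, htp, ht⟩ := exists_flat_of_isField_atPrime (A := Γ(Y, V)) (B := Γ(X, W)) p hK
  refine ⟨t, htp, fun x hx htx => ?_⟩
  rw [Groth.Agent.H1.CMQF.flat_stalkMap_iff_chart f hV hW e x hx]
  apply ht
  intro hmem
  apply htx
  have h1 := IsAffineOpen.comap_primeIdealOf_appLE V hV W hW e hx
  rw [← h1]
  exact hmem

theorem exists_flat_nhd_of_maximal [IsReduced Y] (f : X ⟶ Y) [LocallyOfFinitePresentation f]
    [QuasiCompact f] (η : Y) (hmax : ∀ y' : Y, y' ⤳ η → y' = η) :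
    ∃ D : Y.Opens, η ∈ D ∧ IsCompact (D : Set Y) ∧
      ∀ x : X, f x ∈ D → (f.stalkMap x).hom.Flat := by
  classical
  obtain ⟨_, ⟨V, hV, rfl⟩, hηV, -⟩ :=
    Y.isBasis_affineOpens.exists_subset_of_mem_open (Set.mem_univ η) isOpen_univ
  have hmin := primeIdealOf_mem_minimalPrimes hV η hηV hmax
  haveI : Ring.KrullDimLE 0 (Localization.AtPrime (hV.primeIdealOf ⟨η, hηV⟩).asIdeal) :=
    .of_isLocalization _ hmin _
  have hK : IsField (Localization.AtPrime (hV.primeIdealOf ⟨η, hηV⟩).asIdeal) :=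
    Ring.KrullDimLE.isField_of_isReduced
  have hc : IsCompact ((f ⁻¹ᵁ V : X.Opens) : Set X) :=
    QuasiCompact.isCompact_preimage (f := f) _ V.isOpen hV.isCompact
  obtain ⟨s, hs, hsU⟩ :=
    isCompact_and_isOpen_iff_finite_and_eq_biUnion_affineOpens.mp ⟨hc, (f ⁻¹ᵁ V).isOpen⟩
  have hle : ∀ W : X.affineOpens, W ∈ s → W.1 ≤ f ⁻¹ᵁ V := by
    intro W hW x hx
    have : x ∈ ⋃ i ∈ s, ((i : X.Opens) : Set X) := Set.mem_biUnion hW hx
    rw [← hsU] at this
    exact this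
  have hch : ∀ W : X.affineOpens, ∃ t : Γ(Y, V), t ∉ (hV.primeIdealOf ⟨η, hηV⟩).asIdeal ∧
      ∀ (e : W.1 ≤ f ⁻¹ᵁ V) (x : X) (hx : x ∈ W.1),
      t ∉ (hV.primeIdealOf ⟨f x, e hx⟩).asIdeal → (f.stalkMap x).hom.Flat := by
    intro W
    by_cases e : W.1 ≤ f ⁻¹ᵁ V
    · obtain ⟨t, h1, h2⟩ := exists_flat_chart f hV _ hK W.2 e
      exact ⟨t, h1, fun _ x hx h => h2 x hx h⟩
    · exact ⟨1, (Ideal.ne_top_iff_one _).mp (hV.primeIdealOf ⟨η, hηV⟩).isPrime.ne_top,
        fun e' => absurd e' e⟩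
  choose t ht1 ht2 using hch
  obtain ⟨T, hTdef⟩ : ∃ T : Γ(Y, V), T = ∏ W ∈ hs.toFinset, t W := ⟨_, rfl⟩
  have hT : T ∉ (hV.primeIdealOf ⟨η, hηV⟩).asIdeal := by
    intro h
    rw [hTdef] at h
    obtain ⟨W, _, hW⟩ := (Ideal.IsPrime.prod_mem_iff).mp h
    exact ht1 W hW
  refine ⟨Y.basicOpen T, ?_, (hV.basicOpen T).isCompact, ?_⟩
  · rw [← notMem_primeIdealOf_iff hV η hηV T]; exact hT
  · intro x hx
    have hxV : f x ∈ V := Y.basicOpen_le T hx
    have hx' : x ∈ ((f ⁻¹ᵁ V : X.Opens) : Set X) := hxV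
    rw [hsU] at hx'
    obtain ⟨W, hWs, hxW⟩ := Set.mem_iUnion₂.mp hx'
    refine ht2 W (hle W hWs) x hxW ?_
    intro hmem
    have h1 : T ∈ (hV.primeIdealOf ⟨f x, hle W hWs hxW⟩).asIdeal := by
      rw [hTdef]
      exact Ideal.mem_of_dvd _ (Finset.dvd_prod_of_mem t (hs.mem_toFinset.mpr hWs)) hmem
    exact (notMem_primeIdealOf_iff hV (f x) _ T).mpr hx h1

/-- **S14790** -/
theorem main [IsReduced Y]
    (hgen : IsCompact {y : Y | ∀ y' : Y, y' ⤳ y → y' = y})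
    (f : X ⟶ Y) [LocallyOfFinitePresentation f] [QuasiCompact f] :
    ∃ U : Y.Opens, Dense (U : Set Y) ∧ IsCompact (U : Set Y) ∧ Flat (f ∣_ U) := by
  classical
  have hex : ∀ η ∈ {y : Y | ∀ y' : Y, y' ⤳ y → y' = y}, ∃ D : Y.Opens, η ∈ D ∧
      IsCompact (D : Set Y) ∧ ∀ x : X, f x ∈ D → (f.stalkMap x).hom.Flat :=
    fun η hη => exists_flat_nhd_of_maximal f η hη
  choose D hD1 hD2 hD3 using hex
  obtain ⟨t, ht⟩ := hgen.elim_nhds_subcover' (fun η hη => (D η hη : Set Y))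
    (fun η hη => (D η hη).isOpen.mem_nhds (hD1 η hη))
  obtain ⟨U, hUdef⟩ : ∃ U : Y.Opens, U = ⨆ x : t, D x.1.1 x.1.2 := ⟨_, rfl⟩
  have hUcoe : (U : Set Y) = ⋃ x : t, (D x.1.1 x.1.2 : Set Y) := by
    rw [hUdef, Opens.coe_iSup]
  refine ⟨U, ?_, ?_, ?_⟩
  · rw [dense_iff_inter_open]
    rintro O hO ⟨y, hy⟩
    obtain ⟨η, hηy, hηmax⟩ := exists_maximal_generization y
    have hηO : η ∈ O := hηy.mem_open hO hy
    have hηM := ht hηmax
    obtain ⟨x, hxt, hηD⟩ := Set.mem_iUnion₂.mp hηM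
    refine ⟨η, hηO, ?_⟩
    rw [hUcoe]
    exact Set.mem_iUnion.mpr ⟨⟨x, hxt⟩, hηD⟩
  · rw [hUcoe]
    exact isCompact_iUnion fun x => hD2 x.1.1 x.1.2
  · apply flat_morphismRestrict_of_stalkMap
    intro x hx
    have hx' : f x ∈ (U : Set Y) := hx
    rw [hUcoe] at hx'
    obtain ⟨i, hi⟩ := Set.mem_iUnion.mp hx'
    exact hD3 i.1.1 i.1.2 x hi

end Groth.Agent.H1.FlatGenRed
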