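import Mathlib
import Groth.Agent.Lib.Helper3.AlgSpMor.Codim1QF
import Groth.Agent.Lib.Helper1.FlatGenRed
import Groth.Agent.Lib.Helper1.AlgSpDim3
import Groth.Agent.Lib.Helper1.AlgSpQF
import Groth.Agent.Lib.Helper1.ValDim

set_option autoImplicit false
universe u

namespace Groth.Agent.H1.BirFinFib

open CategoryTheory AlgebraicGeometry CategoryTheory.Limits

/-- a minimal prime of a noetherian ring lies in every dense open of the spectrum. -/
theorem minimal_mem_dense_open (A : Type*) [CommRing A] [IsNoetherianRing A]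
    (p : PrimeSpectrum A) (hp : p.asIdeal ∈ minimalPrimes A)
    (D : Set (PrimeSpectrum A)) (hDo : IsOpen D) (hD : Dense D) : p ∈ D := by
  classical
  have hfin : (minimalPrimes A).Finite := minimalPrimes.finite_of_isNoetherianRing A
  let T : Finset (Ideal A) := hfin.toFinset.erase p.asIdeal
  let q : Ideal A := T.inf id
  have hqp : ¬ q ≤ p.asIdeal := by
    intro hle
    obtain ⟨p', hp'T, hp'le⟩ := (Ideal.IsPrime.inf_le' p.isPrime).mp hle
    have hp'min : p' ∈ minimalPrimes A := hfin.mem_toFinset.mp (Finset.mem_of_mem_erase hp'T)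
    have hne : p' ≠ p.asIdeal := Finset.ne_of_mem_erase hp'T
    apply hne
    have hle2 : p.asIdeal ≤ p' := hp.2 ⟨hp'min.1.1, bot_le⟩ hp'le
    exact le_antisymm hp'le hle2
  have hOopen : IsOpen (PrimeSpectrum.zeroLocus (q : Set A))ᶜ :=
    (PrimeSpectrum.isClosed_zeroLocus _).isOpen_compl
  have hpO : p ∈ (PrimeSpectrum.zeroLocus (q : Set A))ᶜ := by
    intro hmem
    exact hqp ((PrimeSpectrum.mem_zeroLocus _ _).mp hmem)
  obtain ⟨r, hrO, hrD⟩ := hD.inter_open_nonempty _ hOopen ⟨p, hpO⟩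
  obtain ⟨p'', hp''min, hp''le⟩ := Ideal.exists_minimalPrimes_le (J := r.asIdeal) bot_le
  have hp''eq : p'' = p.asIdeal := by
    by_contra hne
    apply hrO
    rw [PrimeSpectrum.mem_zeroLocus]
    have hp''T : p'' ∈ T := Finset.mem_erase.mpr ⟨hne, hfin.mem_toFinset.mpr hp''min⟩
    have : q ≤ p'' := Finset.inf_le (f := id) hp''T
    exact this.trans hp''le
  have hspec : p ⤳ r := by
    rw [← PrimeSpectrum.le_iff_specializes]
    change p.asIdeal ≤ r.asIdeal
    rw [← hp''eq]; exact hp''le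
  exact hspec.mem_open hDo hrD

/-- maximal points lie in every dense open of a locally Noetherian scheme. -/
theorem maximal_mem_dense_open {Y : Scheme.{u}} [IsLocallyNoetherian Y] (W : Set Y)
    (hWo : IsOpen W) (hW : Dense W) (ξ : Y) (hξ : ∀ z : Y, z ⤳ ξ → z = ξ) : ξ ∈ W := by
  obtain ⟨_, ⟨V, hV : IsAffineOpen V, rfl⟩, hξV, -⟩ :=
    Y.isBasis_affineOpens.exists_subset_of_mem_open (Set.mem_univ ξ) isOpen_univ
  haveI : IsNoetherianRing Γ(Y, V) := IsLocallyNoetherian.component_noetherian ⟨V, hV⟩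
  have hmin := Groth.Agent.H1.FlatGenRed.primeIdealOf_mem_minimalPrimes hV ξ hξV hξ
  have hD : Dense (hV.fromSpec.base ⁻¹' W) :=
    hW.preimage hV.fromSpec.isOpenEmbedding.isOpenMap
  have hDo : IsOpen (hV.fromSpec.base ⁻¹' W) := hWo.preimage hV.fromSpec.continuous
  have := minimal_mem_dense_open Γ(Y, V) (hV.primeIdealOf ⟨ξ, hξV⟩) hmin _
    hDo hD
  have h9 : hV.fromSpec (hV.primeIdealOf ⟨ξ, hξV⟩) ∈ W := this
  rwa [hV.fromSpec_primeIdealOf] at h9

theorem main {X Y : Scheme.{u}}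
    [IsLocallyNoetherian X] [IsLocallyNoetherian Y] (f : Y ⟶ X) [LocallyOfFiniteType f]
    [QuasiCompact f]
    (U : X.Opens) (hU' : Dense ((f ⁻¹ᵁ U : Y.Opens) : Set Y))
    (hiso : IsIso (f ∣_ U))
    (x : X) (hx : ringKrullDim (X.presheaf.stalk x) ≤ 1) :
    (f.base ⁻¹' {x}).Finite := by
  -- Step 1: fibre dimension zero at all points over x
  have hyp : ∀ ξ : Y, ringKrullDim ↥(Y.presheaf.stalk ξ) = 0 → f ξ ⤳ x →
      Dual3.resTrdeg f ξ = 0 := by
    intro ξ hξ0 _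
    have hmax : ∀ z : Y, z ⤳ ξ → z = ξ := fun z hz =>
      Groth.Agent.H1.DimIneq.eq_of_specializes_of_stalk_dim_eq_zero ξ z hξ0 hz
    have hξU : ξ ∈ (f ⁻¹ᵁ U : Y.Opens) :=
      maximal_mem_dense_open _ (f ⁻¹ᵁ U).isOpen hU' ξ hmax
    apply Groth.Agent.H3.Codim1QF.resTrdeg_eq_zero_of_fibreDimAt_le_zero
    have h1 := Groth.Agent.H1.ValDim.fibreDimAt_morphismRestrict f U ⟨ξ, hξU⟩
    haveI : LocallyQuasiFinite (f ∣_ U) := inferInstance
    have h2 : FlatMor.fibreDimAt (f ∣_ U) ⟨ξ, hξU⟩ = 0 :=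
      (Groth.Agent.H1.QFDim.locallyQuasiFinite_iff_fibreDimAt _).mp inferInstance _
    rw [h2] at h1
    rw [← h1]
    exact le_refl _
  have hfib : ∀ y : Y, f y = x → FlatMor.fibreDimAt f y ≤ ((0 : ℕ) : WithBot ℕ∞) := fun y hy =>
    Groth.Agent.H3.Codim1QF.fibreDimAt_le_zero_of_codim_le_one f x hx hyp y hy
  -- Step 2: the quasi-finite locus
  let W : Y.Opens := ⟨{y | FlatMor.fibreDimAt f y ≤ ((0 : ℕ) : WithBot ℕ∞)},
    Groth.Agent.H1.Chev.isOpen_fibreDimAt_le f 0⟩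
  haveI : LocallyQuasiFinite (W.ι ≫ f) := by
    apply Groth.Agent.H1.QFDim.locallyQuasiFinite_of_forall_quasiFiniteAt
    intro w
    rw [Scheme.Hom.quasiFiniteAt_comp_iff_of_isOpenImmersion,
      ← Groth.Agent.H1.QFDim.fibreDimAt_eq_zero_iff]
    exact le_antisymm w.2 (Groth.Agent.H1.Chev.zero_le_fibreDimAt f _)
  have hdisc : _root_.IsDiscrete (W.ι.base '' ((W.ι ≫ f).base ⁻¹' {x})) :=
    ((W.ι ≫ f).isDiscrete_preimage_singleton x).image W.ι.isEmbedding.toIsInducing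
  have heq : W.ι.base '' ((W.ι ≫ f).base ⁻¹' {x}) = f.base ⁻¹' {x} := by
    ext y
    constructor
    · rintro ⟨w, hw, rfl⟩
      exact hw
    · intro hy
      exact ⟨⟨y, hfib y hy⟩, hy, rfl⟩
  rw [heq] at hdisc
  exact (f.isCompact_preimage_singleton x).finite hdisc

end Groth.Agent.H1.BirFinFib
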