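import Mathlib
import Groth.Agent.Lib.Helper8.LocalIso
import Groth.Agent.Lib.Helper1.PushO4

/-! helper1: a flat, separated, surjective, birational morphism of integral schemes which is affine or
locally of finite presentation is an isomorphism (S10879). -/

set_option linter.style.haveILetI false
set_option linter.unusedSectionVars false
set_option linter.unusedVariables false

universe u
open AlgebraicGeometry CategoryTheory IsLocalRing

namespace Groth.Agent.H1.BirFlatIso

/-- Algebraic core: a faithfully flat algebra `A → B`, `B` a domain, such that every `b : B` is a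
fraction of elements of `A`, is surjective. -/
theorem surjective_of_faithfullyFlat {A B : Type*} [CommRing A] [CommRing B] [Algebra A B]
    [IsDomain B] [Module.FaithfullyFlat A B]
    (h : ∀ b : B, ∃ a₁ a₂ : A, algebraMap A B a₂ ≠ 0 ∧
      algebraMap A B a₂ * b = algebraMap A B a₁) :
    Function.Surjective (algebraMap A B) := by
  intro b
  obtain ⟨a₁, a₂, h2, h⟩ := h b
  have hmem : a₁ ∈ ((Ideal.span {a₂}).map (algebraMap A B)).comap (algebraMap A B) := by
    rw [Ideal.mem_comap, Ideal.map_span, Set.image_singleton, Ideal.mem_span_singleton']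
    exact ⟨b, by rw [mul_comm]; exact h⟩
  rw [Ideal.comap_map_eq_self_of_faithfullyFlat, Ideal.mem_span_singleton'] at hmem
  obtain ⟨a, ha⟩ := hmem
  refine ⟨a, ?_⟩
  have : algebraMap A B a₂ * (algebraMap A B a - b) = 0 := by
    rw [mul_sub, h, ← map_mul, mul_comm a₂ a, ha, sub_self]
  rcases mul_eq_zero.mp this with h0 | h0
  · exact absurd h0 h2
  · exact sub_eq_zero.mp h0

theorem stalkMap_germ_appLE {X' X : Scheme.{u}} (f : X' ⟶ X) (U : X.Opens) (W' : X'.Opens)
    (e : W' ≤ f ⁻¹ᵁ U) (x' : X') (hx' : x' ∈ W') (a : Γ(X, U)) :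
    (f.stalkMap x').hom (X.presheaf.germ U (f.base x') (e hx') a) =
      X'.presheaf.germ W' x' hx' ((f.appLE U W' e).hom a) := by
  refine (Scheme.Hom.germ_stalkMap_apply f U x' (e hx') a).trans ?_
  have : (f.appLE U W' e).hom a = (X'.presheaf.map (homOfLE e).op).hom ((f.app U).hom a) := rfl
  rw [this]
  exact (TopCat.Presheaf.germ_res_apply X'.presheaf (homOfLE e) x' hx' _).symm

/-- fraction representation of sections of `X'` by sections of `X` for a birational morphism. -/
theorem exists_fraction {X' X : Scheme.{u}} [IsIntegral X'] [IsIntegral X] (f : X' ⟶ X)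
    (hK : IsIso (f.stalkMap (genericPoint X')))
    (U : X.Opens) (hU : IsAffineOpen U) (W' : X'.Opens) (hW' : (W' : Set X').Nonempty)
    (e : W' ≤ f ⁻¹ᵁ U) (β : Γ(X', W')) :
    ∃ a₁ a₂ : Γ(X, U), (f.appLE U W' e).hom a₂ ≠ 0 ∧
      (f.appLE U W' e).hom a₂ * β = (f.appLE U W' e).hom a₁ := by
  have hη'W : genericPoint X' ∈ W' :=
    ((genericPoint_spec X').mem_open_set_iff W'.isOpen).mpr (by simpa using hW')
  have hηU : f.base (genericPoint X') ∈ U := e hη'W
  obtain ⟨t, ht⟩ := ((ConcreteCategory.isIso_iff_bijective _).mp hK).2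
    (X'.presheaf.germ W' (genericPoint X') hη'W β)
  letI : Algebra Γ(X, U) (X.presheaf.stalk (f.base (genericPoint X'))) :=
    (X.presheaf.germ U (f.base (genericPoint X')) hηU).hom.toAlgebra
  haveI : IsLocalization.AtPrime (X.presheaf.stalk (f.base (genericPoint X')))
      (hU.primeIdealOf ⟨f.base (genericPoint X'), hηU⟩).asIdeal :=
    hU.isLocalization_stalk ⟨f.base (genericPoint X'), hηU⟩
  obtain ⟨⟨a₁, a₂⟩, h⟩ := IsLocalization.surj
    (hU.primeIdealOf ⟨f.base (genericPoint X'), hηU⟩).asIdeal.primeCompl t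
  have h' : t * (X.presheaf.germ U (f.base (genericPoint X')) hηU).hom a₂.1 =
      (X.presheaf.germ U (f.base (genericPoint X')) hηU).hom a₁ := h
  have h2 := congrArg (f.stalkMap (genericPoint X')).hom h'
  rw [map_mul, stalkMap_germ_appLE f U W' e _ hη'W, stalkMap_germ_appLE f U W' e _ hη'W] at h2
  have ht' : (f.stalkMap (genericPoint X')).hom t =
      X'.presheaf.germ W' (genericPoint X') hη'W β := ht
  rw [ht'] at h2
  have hinj := germ_injective_of_isIntegral X' (genericPoint X') hη'W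
  refine ⟨a₁, a₂.1, ?_, ?_⟩
  · intro h0
    have hu : IsUnit ((X.presheaf.germ U (f.base (genericPoint X')) hηU).hom a₂.1) :=
      IsLocalization.map_units _ a₂
    have hu2 := hu.map (f.stalkMap (genericPoint X')).hom
    rw [stalkMap_germ_appLE f U W' e _ hη'W, h0, map_zero] at hu2
    exact not_isUnit_zero hu2
  · apply hinj
    rw [map_mul, mul_comm]; exact h2

/-- a flat birational morphism of integral schemes induces isomorphisms on all stalks. -/
theorem isIso_stalkMap_of_flat {X' X : Scheme.{u}} [IsIntegral X'] [IsIntegral X] (f : X' ⟶ X)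
    [Flat f] (hK : IsIso (f.stalkMap (genericPoint X'))) (x' : X') : IsIso (f.stalkMap x') := by
  obtain ⟨_, ⟨U, hU, rfl⟩, hxU, -⟩ := X.isBasis_affineOpens.exists_subset_of_mem_open
    (Set.mem_univ (f.base x')) isOpen_univ
  letI : Algebra (X.presheaf.stalk (f.base x')) (X'.presheaf.stalk x') :=
    (f.stalkMap x').hom.toAlgebra
  haveI : Module.Flat (X.presheaf.stalk (f.base x')) (X'.presheaf.stalk x') :=
    Flat.stalkMap f x'
  haveI : IsLocalHom (algebraMap (X.presheaf.stalk (f.base x')) (X'.presheaf.stalk x')) :=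
    (inferInstance : IsLocalHom (f.stalkMap x').hom)
  haveI : Module.FaithfullyFlat (X.presheaf.stalk (f.base x')) (X'.presheaf.stalk x') :=
    Module.FaithfullyFlat.of_flat_of_isLocalHom
  have hsurj : Function.Surjective
      (algebraMap (X.presheaf.stalk (f.base x')) (X'.presheaf.stalk x')) := by
    apply surjective_of_faithfullyFlat
    intro b
    have hx'U : x' ∈ f ⁻¹ᵁ U := hxU
    obtain ⟨W', e, hxW', β, hβ⟩ := TopCat.Presheaf.exists_le_germ_eq X'.presheaf b hx'U
    obtain ⟨a₁, a₂, hne, heq⟩ := exists_fraction f hK U hU W' ⟨x', hxW'⟩ e β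
    refine ⟨X.presheaf.germ U _ hxU a₁, X.presheaf.germ U _ hxU a₂, ?_, ?_⟩
    · show (f.stalkMap x').hom _ ≠ 0
      rw [stalkMap_germ_appLE f U W' e x' hxW']
      intro h0
      exact hne (germ_injective_of_isIntegral X' x' hxW' (by rw [h0, map_zero]))
    · show (f.stalkMap x').hom _ * b = (f.stalkMap x').hom _
      rw [stalkMap_germ_appLE f U W' e x' hxW', stalkMap_germ_appLE f U W' e x' hxW', ← hβ,
        ← map_mul, heq]
  have hinj : Function.Injective
      (algebraMap (X.presheaf.stalk (f.base x')) (X'.presheaf.stalk x')) :=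
    FaithfulSMul.algebraMap_injective _ _
  exact (ConcreteCategory.isIso_iff_bijective _).mpr ⟨hinj, hsurj⟩

theorem isIso_of_isAffineHom {X' X : Scheme.{u}} [IsIntegral X'] [IsIntegral X] (f : X' ⟶ X)
    [Surjective f] [Flat f] [IsAffineHom f] (hK : IsIso (f.stalkMap (genericPoint X'))) :
    IsIso f := by
  show MorphismProperty.isomorphisms Scheme f
  apply IsZariskiLocalAtTarget.of_forall_exists_morphismRestrict
  intro x
  obtain ⟨_, ⟨U, hU, rfl⟩, hxU, -⟩ := X.isBasis_affineOpens.exists_subset_of_mem_open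
    (Set.mem_univ x) isOpen_univ
  refine ⟨U, hxU, ?_⟩
  show IsIso (f ∣_ U)
  have hU' : IsAffineOpen (f ⁻¹ᵁ U) := hU.preimage f
  apply Groth.Agent.H1.PushO.isIso_morphismRestrict_of_isIso_app f hU hU'
  rw [Scheme.Hom.app_eq_appLE]
  obtain ⟨x', hx'⟩ := f.surjective x
  have hx'U : x' ∈ f ⁻¹ᵁ U := by
    show f.base x' ∈ U
    rw [hx']; exact hxU
  haveI : Nonempty (f ⁻¹ᵁ U).toScheme := ⟨⟨x', hx'U⟩⟩
  haveI : IsDomain Γ(X', f ⁻¹ᵁ U) := IsIntegral.component_integral _
  letI : Algebra Γ(X, U) Γ(X', f ⁻¹ᵁ U) := (f.appLE U (f ⁻¹ᵁ U) le_rfl).hom.toAlgebra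
  haveI : Module.Flat Γ(X, U) Γ(X', f ⁻¹ᵁ U) := f.flat_appLE hU hU' le_rfl
  haveI : Module.FaithfullyFlat Γ(X, U) Γ(X', f ⁻¹ᵁ U) := by
    apply Module.FaithfullyFlat.of_comap_surjective
    intro p
    have hp : hU.primeIdealOf (hU.isoSpec.inv.base p) = p := by
      show hU.isoSpec.hom.base (hU.isoSpec.inv.base p) = p
      rw [← Scheme.Hom.comp_apply, Iso.inv_hom_id]; rfl
    obtain ⟨z', hz'⟩ := f.surjective (hU.isoSpec.inv.base p).1
    have hz'U : z' ∈ f ⁻¹ᵁ U := by
      show f.base z' ∈ U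
      rw [hz']; exact (hU.isoSpec.inv.base p).2
    refine ⟨hU'.primeIdealOf ⟨z', hz'U⟩, ?_⟩
    have h1 := IsAffineOpen.comap_primeIdealOf_appLE (f := f) U hU (f ⁻¹ᵁ U) hU' le_rfl hz'U
    have h2 : (⟨f.base z', hz'U⟩ : ↥U) = hU.isoSpec.inv.base p := Subtype.ext hz'
    rw [h2, hp] at h1
    exact h1
  have hsurj : Function.Surjective (algebraMap Γ(X, U) Γ(X', f ⁻¹ᵁ U)) := by
    apply surjective_of_faithfullyFlat
    intro b
    exact exists_fraction f hK U hU (f ⁻¹ᵁ U) ⟨x', hx'U⟩ le_rfl b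
  have hinj : Function.Injective (algebraMap Γ(X, U) Γ(X', f ⁻¹ᵁ U)) :=
    FaithfulSMul.algebraMap_injective _ _
  exact (ConcreteCategory.isIso_iff_bijective _).mpr ⟨hinj, hsurj⟩

theorem isIso_of_locallyOfFinitePresentation {X' X : Scheme.{u}} [IsIntegral X'] [IsIntegral X]
    (f : X' ⟶ X) [Surjective f] [IsSeparated f] [Flat f] [LocallyOfFinitePresentation f]
    (hK : IsIso (f.stalkMap (genericPoint X'))) : IsIso f := by
  show MorphismProperty.isomorphisms Scheme f
  apply IsZariskiLocalAtTarget.of_forall_exists_morphismRestrict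
  intro x
  obtain ⟨x', hx'⟩ := f.surjective x
  haveI : IsIso (f.stalkMap x') := isIso_stalkMap_of_flat f hK x'
  obtain ⟨U', hxU', hU'⟩ :=
    Groth.Agent.H8.LocalIso.exists_isOpenImmersion_of_isIso_stalkMap f x'
  haveI := hU'
  refine ⟨(U'.ι ≫ f).opensRange, ?_, ?_⟩
  · rw [← hx']; exact ⟨⟨x', hxU'⟩, rfl⟩
  · exact Groth.Agent.H8.LocalIso.isIso_morphismRestrict_of_isOpenImmersion f U' ⟨x', hxU'⟩

theorem main {X' X : Scheme.{u}} [IsIntegral X'] [IsIntegral X]
    (f : X' ⟶ X) [Surjective f] [IsSeparated f] (hK : IsIso (f.stalkMap (genericPoint X')))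
    (h : IsAffineHom f ∨ LocallyOfFinitePresentation f) :
    Flat f ↔ IsIso f := by
  constructor
  · intro hfl
    rcases h with h | h
    · exact isIso_of_isAffineHom f hK
    · exact isIso_of_locallyOfFinitePresentation f hK
  · intro h; infer_instance

end Groth.Agent.H1.BirFlatIso
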