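import Mathlib
import Groth.Prelude.Def_Pi1
import Groth.Agent.Lib.Helper1.CDivKit5
import Groth.Agent.Lib.Helper1.AffNbhd
import Groth.Agent.Lib.Helper1.StalkGen
import Groth.Agent.Lib.Helper1.CartierKit

/-! Divisors on normal integral locally Noetherian schemes: localized Hartogs and orders. -/

universe u
set_option linter.style.haveILetI false
open CategoryTheory AlgebraicGeometry TopologicalSpace Opposite

namespace Groth.Agent.H1.CDivKit

open CDiv Groth.Agent.H6

variable {X : Scheme.{u}} [IsIntegral X] [IsLocallyNoetherian X]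

/-- localized algebraic Hartogs: a rational function lying in `O_y` for all codimension-one
generizations `y` of `x` lies in `O_x`. -/
theorem mem_O_of_forall_specializes (hX : Pi1.IsNormalScheme X) (f : X.functionField) (x : X)
    (h : ∀ y : X, y ⤳ x → Order.coheight y = 1 → f ∈ O y) : f ∈ O x := by
  obtain ⟨_, ⟨V, hV, rfl⟩, hx, -⟩ := X.isBasis_affineOpens.exists_subset_of_mem_open
    (Set.mem_univ x) isOpen_univ
  haveI : Nonempty V := ⟨⟨x, hx⟩⟩
  haveI : IsNoetherianRing Γ(X, V) := IsLocallyNoetherian.component_noetherian ⟨V, hV⟩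
  haveI : IsFractionRing Γ(X, V) X.functionField :=
    functionField_isFractionRing_of_isAffineOpen X V hV
  haveI := isIntegrallyClosed_sections hX hV
  rw [mem_O_iff_inLoc hV x hx]
  by_contra hcon
  obtain ⟨b, hb0, P, hP, hPp, hPass, hnot⟩ := CDivAlg.exists_assoc_prime f
    (hV.primeIdealOf ⟨x, hx⟩).asIdeal hcon
  have hht := SerreNormal.height_eq_one_of_mem_associatedPrimes Γ(X, V) b hb0 P hPass
  let P' : PrimeSpectrum Γ(X, V) := ⟨P, hP⟩
  have hyV := fromSpec_mem hV P'
  have hco : Order.coheight (hV.fromSpec P') = 1 := by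
    rw [← height_primeIdealOf hV _ hyV, primeIdealOf_fromSpec hV P']
    exact hht
  have hsp : hV.fromSpec P' ⤳ x := by
    have h1 : P' ⤳ hV.primeIdealOf ⟨x, hx⟩ :=
      (PrimeSpectrum.le_iff_specializes P' (hV.primeIdealOf ⟨x, hx⟩)).mp hPp
    have h2 := h1.map hV.fromSpec.continuous
    rwa [hV.fromSpec_primeIdealOf] at h2
  have h1 := h _ hsp hco
  rw [mem_O_iff_inLoc hV _ hyV, primeIdealOf_fromSpec hV P'] at h1
  exact hnot h1

theorem eq_of_specializes_of_coheight {x y : X} (h : y ⤳ x) (hy : Order.coheight y = 1)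
    (hx : Order.coheight x = 1) : x = y := by
  have hle : x ≤ y := h
  by_contra hne
  have hlt : x < y := by
    apply lt_of_le_not_ge hle
    intro hyx
    have hyx' : x ⤳ y := hyx
    exact hne (hyx'.antisymm h).eq
  have h1 := Order.coheight_add_one_le hlt
  rw [hy, hx] at h1
  exact absurd h1 (by decide)

theorem ord_one (hX : Pi1.IsNormalScheme X) (y : X) :
    Scheme.ord ((1 : KUnits X) : X.functionField) y = 0 := by
  by_cases hy : Order.coheight y = 1
  · rw [← germOf_eq_one_iff_ord_eq_zero hX y hy]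
    rfl
  · exact Scheme.ord_eq_zero_of_coheight_neq_one hy _

theorem ord_mul (y : X) (f g : KUnits X) :
    Scheme.ord ((f * g : KUnits X) : X.functionField) y =
      Scheme.ord (f : X.functionField) y + Scheme.ord (g : X.functionField) y := by
  rw [Units.val_mul]
  exact Scheme.ord_mul f.ne_zero g.ne_zero

theorem ord_inv (hX : Pi1.IsNormalScheme X) (y : X) (f : KUnits X) :
    Scheme.ord ((f⁻¹ : KUnits X) : X.functionField) y = - Scheme.ord (f : X.functionField) y := by
  have h1 := ord_mul y f⁻¹ f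
  rw [inv_mul_cancel, ord_one hX] at h1
  omega

theorem ord_eq_of_germOf_eq (hX : Pi1.IsNormalScheme X) (y : X) (hy : Order.coheight y = 1)
    (f g : KUnits X) (h : germOf X y f = germOf X y g) :
    Scheme.ord (f : X.functionField) y = Scheme.ord (g : X.functionField) y := by
  rw [germOf_eq_germOf_iff, ← germOf_eq_one_iff, germOf_eq_one_iff_ord_eq_zero hX y hy,
    ord_mul, ord_inv hX] at h
  omega

/-- a rational function all of whose orders at codimension-one generizations of `x` vanish is a
unit at `x` -/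
theorem germOf_eq_one_of_forall_ord (hX : Pi1.IsNormalScheme X) (x : X) (f : KUnits X)
    (h : ∀ z : X, z ⤳ x → Order.coheight z = 1 → Scheme.ord (f : X.functionField) z = 0) :
    germOf X x f = 1 := by
  rw [germOf_eq_one_iff, mem_stalkUnits_iff]
  constructor
  · apply mem_O_of_forall_specializes hX _ x
    intro z hz hco
    rw [mem_O_iff_ord_nonneg hX z hco, h z hz hco]
  · apply mem_O_of_forall_specializes hX _ x
    intro z hz hco
    rw [mem_O_iff_ord_nonneg hX z hco, ord_inv hX, h z hz hco, neg_zero]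

theorem germOf_eq_of_forall_ord_eq (hX : Pi1.IsNormalScheme X) (x : X) (f g : KUnits X)
    (h : ∀ z : X, z ⤳ x → Order.coheight z = 1 →
      Scheme.ord (f : X.functionField) z = Scheme.ord (g : X.functionField) z) :
    germOf X x f = germOf X x g := by
  rw [germOf_eq_germOf_iff, ← germOf_eq_one_iff]
  apply germOf_eq_one_of_forall_ord hX
  intro z hz hco
  rw [ord_mul, ord_inv hX, h z hz hco]
  omega

/-- order one means: a uniformizer -/
theorem ord_eq_one_iff (hX : Pi1.IsNormalScheme X) (y : X) (hy : Order.coheight y = 1)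
    (f : KUnits X) :
    Scheme.ord (f : X.functionField) y = 1 ↔
      ∃ π : X.presheaf.stalk y, Irreducible π ∧
        algebraMap (X.presheaf.stalk y) X.functionField π = f := by
  haveI := isDVR_stalk hX y hy
  have hf0 : (f : X.functionField) ≠ 0 := f.ne_zero
  rw [Scheme.ord_eq_iff hy hf0]
  change Ring.ordFrac (X.presheaf.stalk y) (f : X.functionField) = _ ↔ _
  obtain ⟨ϖ, hϖ⟩ := IsDiscreteValuationRing.exists_irreducible (X.presheaf.stalk y)
  have hexp : ((Multiplicative.ofAdd (1 : ℤ) : Multiplicative ℤ) : WithZero (Multiplicative ℤ)) =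
      WithZero.exp 1 := rfl
  rw [hexp]
  constructor
  · intro h
    rw [← Ring.ordFrac_irreducible (K := X.functionField) hϖ] at h
    obtain ⟨u, hu⟩ := Ring.associated_of_ordFrac_eq _ _ h.symm
    refine ⟨u * ϖ, ?_, ?_⟩
    · exact (irreducible_units_mul u).mpr hϖ
    · rw [← hu, map_mul, Units.smul_def, Algebra.smul_def]
  · rintro ⟨π, hπ, hπf⟩
    rw [← hπf]
    exact Ring.ordFrac_irreducible hπ

/-- specialization in an affine chart via the primes -/
theorem specializes_of_primeIdealOf_le {V : X.Opens} (hV : IsAffineOpen V) {x z : X} (hx : x ∈ V)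
    (hz : z ∈ V)
    (h : (hV.primeIdealOf ⟨z, hz⟩).asIdeal ≤ (hV.primeIdealOf ⟨x, hx⟩).asIdeal) : z ⤳ x := by
  have h1 : hV.primeIdealOf ⟨z, hz⟩ ⤳ hV.primeIdealOf ⟨x, hx⟩ :=
    (PrimeSpectrum.le_iff_specializes _ _).mp h
  have h2 := h1.map hV.fromSpec.continuous
  rwa [hV.fromSpec_primeIdealOf, hV.fromSpec_primeIdealOf] at h2

/-- local finiteness of the divisor of a rational function: near `x`, the codimension-one points
where `f` has non-zero order all pass through `x`. -/
theorem exists_nbhd_ord (hX : Pi1.IsNormalScheme X) (f : KUnits X) (x : X) :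
    ∃ U : X.Opens, x ∈ U ∧ ∀ z : X, z ∈ U → Order.coheight z = 1 →
      Scheme.ord (f : X.functionField) z ≠ 0 → z ⤳ x := by
  obtain ⟨_, ⟨V, hV, rfl⟩, hx, -⟩ := X.isBasis_affineOpens.exists_subset_of_mem_open
    (Set.mem_univ x) isOpen_univ
  haveI : Nonempty V := ⟨⟨x, hx⟩⟩
  haveI : IsNoetherianRing Γ(X, V) := IsLocallyNoetherian.component_noetherian ⟨V, hV⟩
  haveI : IsFractionRing Γ(X, V) X.functionField :=
    functionField_isFractionRing_of_isAffineOpen X V hV
  haveI : IsDomain Γ(X, V) := inferInstance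
  obtain ⟨a, b, hb, hab⟩ := IsFractionRing.div_surjective (A := Γ(X, V)) (f : X.functionField)
  have hinj : Function.Injective (algebraMap Γ(X, V) X.functionField) :=
    IsFractionRing.injective _ _
  have hb0 : b ≠ 0 := nonZeroDivisors.ne_zero hb
  have hbK : algebraMap Γ(X, V) X.functionField b ≠ 0 :=
    fun h0 => hb0 (hinj (h0.trans (map_zero _).symm))
  have ha0 : a ≠ 0 := by
    rintro rfl
    rw [map_zero, zero_div] at hab
    exact f.ne_zero hab.symm
  have haK : algebraMap Γ(X, V) X.functionField a ≠ 0 :=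
    fun h0 => ha0 (hinj (h0.trans (map_zero _).symm))
  obtain ⟨s, hs, hsp⟩ := AffNbhd.exists_notMem_forall_le (Ideal.span {a * b})
    (hV.primeIdealOf ⟨x, hx⟩).asIdeal
  refine ⟨X.basicOpen s, ?_, ?_⟩
  · by_contra hcon
    exact hs ((CartierKit.mem_primeIdealOf_iff hV x hx s).mpr hcon)
  · intro z hzU hco hord
    have hz : z ∈ V := X.basicOpen_le s hzU
    have hsz : s ∉ (hV.primeIdealOf ⟨z, hz⟩).asIdeal := by
      intro hcon
      exact ((CartierKit.mem_primeIdealOf_iff hV z hz s).mp hcon) hzU
    have hJ : Ideal.span {a * b} ≤ (hV.primeIdealOf ⟨z, hz⟩).asIdeal := by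
      rw [Ideal.span_singleton_le_iff_mem]
      by_contra hcon
      have ha' : a ∉ (hV.primeIdealOf ⟨z, hz⟩).asIdeal :=
        fun h => hcon (Ideal.mul_mem_right _ _ h)
      have hb' : b ∉ (hV.primeIdealOf ⟨z, hz⟩).asIdeal :=
        fun h => hcon (Ideal.mul_mem_left _ _ h)
      apply hord
      rw [← germOf_eq_one_iff_ord_eq_zero hX z hco, germOf_eq_one_iff, mem_stalkUnits_iff]
      constructor
      · rw [mem_O_iff_inLoc hV z hz]
        refine ⟨b, hb', a, ?_⟩
        rw [← hab, div_mul_cancel₀ _ hbK]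
      · rw [mem_O_iff_inLoc hV z hz]
        refine ⟨a, ha', b, ?_⟩
        rw [Units.val_inv_eq_inv_val, ← hab, inv_div, div_mul_cancel₀ _ haK]
    obtain ⟨r, hr, hJr, hrz, hrx⟩ := hsp _ (hV.primeIdealOf ⟨z, hz⟩).2 hsz hJ
    have hht : (hV.primeIdealOf ⟨z, hz⟩).asIdeal.height ≤ 1 := by
      rw [height_primeIdealOf hV z hz, hco]
    have hrr : r = (hV.primeIdealOf ⟨z, hz⟩).asIdeal := by
      by_contra hne
      have hlt : r < (hV.primeIdealOf ⟨z, hz⟩).asIdeal := lt_of_le_of_ne hrz hne
      have hmin := AffNbhd.mem_minimalPrimes_of_lt hht hlt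
      rw [IsDomain.minimalPrimes_eq_singleton_bot, Set.mem_singleton_iff] at hmin
      have hab0 : a * b ∈ r := hJr (Ideal.mem_span_singleton_self _)
      rw [hmin, Ideal.mem_bot] at hab0
      exact mul_ne_zero ha0 hb0 hab0
    apply specializes_of_primeIdealOf_le hV hx hz
    rw [← hrr]
    exact hrx

end Groth.Agent.H1.CDivKit
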