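import Mathlib

set_option autoImplicit false
universe u
open CategoryTheory CategoryTheory.Limits AlgebraicGeometry

namespace Groth.Agent.Lib.Helper1.CILift

lemma ker_specMap_eq_bot {A B : CommRingCat.{u}} (φ : A ⟶ B) (hφ : Function.Injective φ.hom) :
    (Spec.map φ).ker = ⊥ := by
  rw [Scheme.ker_of_isAffine]
  have hinj : Function.Injective (Spec.map φ).appTop.hom := by
    have h1 : (Spec.map φ).appTop = (Scheme.ΓSpecIso A).hom ≫ φ ≫ (Scheme.ΓSpecIso B).inv := by
      rw [← Scheme.ΓSpecIso_naturality_assoc, Iso.hom_inv_id, Category.comp_id]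
    rw [h1]
    simp only [CommRingCat.hom_comp, RingHom.coe_comp]
    exact ((ConcreteCategory.bijective_of_isIso (Scheme.ΓSpecIso B).inv).1.comp hφ).comp
      (ConcreteCategory.bijective_of_isIso (Scheme.ΓSpecIso A).hom).1
  rw [(RingHom.injective_iff_ker_eq_bot _).1 hinj]
  exact map_bot (Scheme.IdealSheafData.equivOfIsAffine (X := Spec A)).symm

theorem lift_of_isClosedImmersion {X Y : Scheme.{u}} (f : X ⟶ Y) [IsClosedImmersion f]
    (A B : Type u) [CommRing A] [CommRing B] (φ : A →+* B) (hφ : Function.Injective φ)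
    (a : Spec (CommRingCat.of B) ⟶ X) (b : Spec (CommRingCat.of A) ⟶ Y)
    (h : Spec.map (CommRingCat.ofHom φ) ≫ b = a ≫ f) :
    ∃ l : Spec (CommRingCat.of A) ⟶ X, Spec.map (CommRingCat.ofHom φ) ≫ l = a ∧ l ≫ f = b := by
  have hker : f.ker ≤ b.ker := by
    have h1 : f.ker ≤ (a ≫ f).ker := Scheme.Hom.le_ker_comp a f
    rw [← h, Scheme.Hom.ker_comp, ker_specMap_eq_bot _ hφ, Scheme.IdealSheafData.map_bot] at h1
    exact h1
  refine ⟨IsClosedImmersion.lift f b hker, ?_, IsClosedImmersion.lift_fac f b hker⟩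
  rw [← cancel_mono f, Category.assoc, IsClosedImmersion.lift_fac, h]


/-- the lifting property of the statement. -/
def LiftProp {X Y : Scheme.{u}} (f : X ⟶ Y) : Prop :=
  ∀ (A B : Type u) [CommRing A] [CommRing B] (φ : A →+* B), Function.Injective φ →
    ∀ (a : Spec (CommRingCat.of B) ⟶ X) (b : Spec (CommRingCat.of A) ⟶ Y),
      Spec.map (CommRingCat.ofHom φ) ≫ b = a ≫ f →
      ∃ l : Spec (CommRingCat.of A) ⟶ X, Spec.map (CommRingCat.ofHom φ) ≫ l = a ∧ l ≫ f = b

lemma LiftProp.pullback_snd {X Y Y' : Scheme.{u}} (f : X ⟶ Y) (g : Y' ⟶ Y) (h : LiftProp f) :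
    LiftProp (pullback.snd f g) := by
  intro A B _ _ φ hφ a b hab
  obtain ⟨l, hl1, hl2⟩ := h A B φ hφ (a ≫ pullback.fst f g) (b ≫ g) (by
    have := congrArg (· ≫ g) hab
    simpa [pullback.condition] using this)
  refine ⟨pullback.lift l b hl2, ?_, pullback.lift_snd _ _ _⟩
  apply pullback.hom_ext
  · rw [Category.assoc, pullback.lift_fst, hl1]
  · rw [Category.assoc, pullback.lift_snd, hab]

theorem isClosedImmersion_of_liftProp_spec {X : Scheme.{u}} (R : CommRingCat.{u})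
    (f : X ⟶ Spec R) [QuasiCompact f] (hL : LiftProp f) : IsClosedImmersion f := by
  haveI : CompactSpace X := QuasiCompact.compactSpace_of_compactSpace f
  let 𝒰 := X.affineCover.finiteSubcover
  let Bi : 𝒰.I₀ → CommRingCat.{u} := fun i => Γ(𝒰.X i, ⊤)
  let gi : ∀ i, Spec (Bi i) ⟶ X := fun i => (𝒰.X i).isoSpec.inv ≫ 𝒰.f i
  let B : CommRingCat.{u} := CommRingCat.of (Π i, Bi i)
  obtain ⟨a, ha⟩ : ∃ a : Spec B ⟶ X,
      ∀ i, Spec.map (CommRingCat.ofHom (Pi.evalRingHom (fun i => Bi i) i)) ≫ a = gi i := by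
    refine ⟨inv (sigmaSpec Bi) ≫ Sigma.desc gi, fun i => ?_⟩
    rw [← ι_sigmaSpec_assoc, IsIso.hom_inv_id_assoc, Sigma.ι_desc]
  -- joint epi
  have hepi : ∀ {W : Scheme.{u}} (h h' : X ⟶ W), a ≫ h = a ≫ h' → h = h' := by
    intro W h h' hh
    apply 𝒰.hom_ext
    intro i
    have : gi i ≫ h = gi i ≫ h' := by
      rw [← ha i, Category.assoc, Category.assoc, hh]
    rw [← cancel_epi (𝒰.X i).isoSpec.inv]
    simpa [gi] using this
  -- the ring map
  let ψ : R ⟶ B := Spec.preimage (a ≫ f)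
  have hψ : Spec.map ψ = a ≫ f := Spec.map_preimage _
  let mk : R →+* (R ⧸ RingHom.ker ψ.hom) := Ideal.Quotient.mk _
  let φ : (R ⧸ RingHom.ker ψ.hom) →+* (Π i, Bi i) := RingHom.kerLift ψ.hom
  have hφ : Function.Injective φ := RingHom.kerLift_injective ψ.hom
  have hφmk : CommRingCat.ofHom mk ≫ CommRingCat.ofHom φ = ψ := by
    apply CommRingCat.hom_ext
    exact RingHom.ext fun r => RingHom.kerLift_mk ψ.hom r
  let ιZ : Spec (CommRingCat.of (R ⧸ RingHom.ker ψ.hom)) ⟶ Spec R := Spec.map (CommRingCat.ofHom mk)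
  haveI : IsClosedImmersion ιZ :=
    IsClosedImmersion.spec_of_surjective _ Ideal.Quotient.mk_surjective
  have hsq : Spec.map (CommRingCat.ofHom φ) ≫ ιZ = a ≫ f := by
    calc Spec.map (CommRingCat.ofHom φ) ≫ ιZ
        = Spec.map (CommRingCat.ofHom mk ≫ CommRingCat.ofHom φ) := (Spec.map_comp _ _).symm
      _ = Spec.map ψ := congrArg Spec.map hφmk
      _ = a ≫ f := hψ
  obtain ⟨l, hl1, hl2⟩ := hL _ _ φ hφ a ιZ hsq
  -- factor f through Z
  have hker : ιZ.ker ≤ f.ker := by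
    rw [← Scheme.Hom.iInf_ker_openCover_map_comp f 𝒰]
    refine le_iInf fun i => ?_
    have h1 : 𝒰.f i = (𝒰.X i).isoSpec.hom ≫ gi i := by simp [gi]
    have h2 : gi i ≫ f = (Spec.map (CommRingCat.ofHom (Pi.evalRingHom (fun i => Bi i) i)) ≫
        Spec.map (CommRingCat.ofHom φ)) ≫ ιZ := by
      rw [← ha i, Category.assoc, Category.assoc, hsq]
    have : 𝒰.f i ≫ f = ((𝒰.X i).isoSpec.hom ≫
        Spec.map (CommRingCat.ofHom (Pi.evalRingHom (fun i => Bi i) i)) ≫
        Spec.map (CommRingCat.ofHom φ)) ≫ ιZ := by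
      rw [h1, Category.assoc, h2, Category.assoc, Category.assoc, Category.assoc]
      rfl
    rw [this]
    exact Scheme.Hom.le_ker_comp _ _
  let g : X ⟶ Spec (CommRingCat.of (R ⧸ RingHom.ker ψ.hom)) := IsClosedImmersion.lift ιZ f hker
  have hg : g ≫ ιZ = f := IsClosedImmersion.lift_fac ιZ f hker
  have hag : a ≫ g = Spec.map (CommRingCat.ofHom φ) := by
    rw [← cancel_mono ιZ, Category.assoc, hg, hsq]
  have hlg : l ≫ g = 𝟙 _ := by
    rw [← cancel_mono ιZ, Category.assoc, hg, hl2, Category.id_comp]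
  have hgl : g ≫ l = 𝟙 X := by
    apply hepi
    rw [← Category.assoc, hag, hl1, Category.comp_id]
  haveI : IsIso g := ⟨l, hgl, hlg⟩
  rw [← hg]
  infer_instance


theorem isClosedImmersion_of_liftProp {X Y : Scheme.{u}} (f : X ⟶ Y) [QuasiCompact f]
    (hL : LiftProp f) : IsClosedImmersion f := by
  rw [IsZariskiLocalAtTarget.iff_of_openCover (P := @IsClosedImmersion) Y.affineCover]
  intro i
  have : IsClosedImmersion (pullback.snd f (Y.affineCover.f i)) :=
    isClosedImmersion_of_liftProp_spec _ (pullback.snd f (Y.affineCover.f i))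
      (hL.pullback_snd f _)
  exact this

theorem isClosedImmersion_iff_liftProp {X Y : Scheme.{u}} (f : X ⟶ Y) [QuasiCompact f] :
    IsClosedImmersion f ↔ LiftProp f :=
  ⟨fun _ A B _ _ φ hφ a b h => lift_of_isClosedImmersion f A B φ hφ a b h,
    isClosedImmersion_of_liftProp f⟩

end Groth.Agent.Lib.Helper1.CILift
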