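import Mathlib
import Groth.Agent.Lib.Helper1.ComplDepth
import Groth.Agent.S0543

/-! Helper1: the adic completion of a quotient `A/I` of a Noetherian ring is `Â/IÂ`. -/

set_option autoImplicit false

universe u

open IsLocalRing

namespace Groth.Agent.H1.ComplQuot

section

variable {A B : Type u} [CommRing A] [CommRing B] (f : A →+* B) (𝔞 : Ideal A) (𝔫 : Ideal B)

/-- The maps `Â → B/𝔫ⁿ`. -/
noncomputable def level (h𝔫 : 𝔫 = 𝔞.map f) (n : ℕ) :
    AdicCompletion 𝔞 A →+* B ⧸ 𝔫 ^ n :=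
  (Ideal.quotientMap (𝔫 ^ n) f (by
    rw [h𝔫, ← Ideal.map_pow]
    exact Ideal.le_comap_map)).comp (AdicCompletion.evalₐ 𝔞 n).toRingHom

theorem level_mk (h𝔫 : 𝔫 = 𝔞.map f) (n : ℕ)
    (s : AdicCompletion.AdicCauchySequence 𝔞 A) :
    level f 𝔞 𝔫 h𝔫 n (AdicCompletion.mk 𝔞 A s) =
      Ideal.Quotient.mk (𝔫 ^ n) (f (s n)) := by
  simp [level]

theorem level_of (h𝔫 : 𝔫 = 𝔞.map f) (n : ℕ) (a : A) :
    level f 𝔞 𝔫 h𝔫 n (algebraMap A (AdicCompletion 𝔞 A) a) =
      Ideal.Quotient.mk (𝔫 ^ n) (f a) := by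
  simp [level]

theorem level_compat (h𝔫 : 𝔫 = 𝔞.map f) {k n : ℕ} (hle : k ≤ n) :
    (Ideal.Quotient.factorPow 𝔫 hle).comp (level f 𝔞 𝔫 h𝔫 n) = level f 𝔞 𝔫 h𝔫 k := by
  ext x
  induction x using AdicCompletion.induction_on with
  | h s =>
    rw [RingHom.comp_apply, level_mk, level_mk]
    simp only [Ideal.Quotient.factorPow, Ideal.Quotient.factor_mk]
    have h1 := AdicCompletion.Ideal.mk_eq_mk 𝔞 hle s
    rw [Ideal.Quotient.eq] at h1 ⊢
    rw [← map_sub, h𝔫, ← Ideal.map_pow]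
    exact Ideal.mem_map_of_mem _ h1

/-- The canonical map `Â → B^`. -/
noncomputable def compMap (h𝔫 : 𝔫 = 𝔞.map f) :
    AdicCompletion 𝔞 A →+* AdicCompletion 𝔫 B :=
  AdicCompletion.liftRingHom 𝔫 (level f 𝔞 𝔫 h𝔫) (fun hle => level_compat f 𝔞 𝔫 h𝔫 hle)

theorem evalₐ_compMap (h𝔫 : 𝔫 = 𝔞.map f) (n : ℕ) (x : AdicCompletion 𝔞 A) :
    AdicCompletion.evalₐ 𝔫 n (compMap f 𝔞 𝔫 h𝔫 x) = level f 𝔞 𝔫 h𝔫 n x :=
  AdicCompletion.evalₐ_liftRingHom 𝔫 _ _ n x

theorem compMap_of (h𝔫 : 𝔫 = 𝔞.map f) (a : A) :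
    compMap f 𝔞 𝔫 h𝔫 (algebraMap A (AdicCompletion 𝔞 A) a) =
      algebraMap B (AdicCompletion 𝔫 B) (f a) := by
  apply AdicCompletion.ext_evalₐ
  intro n
  rw [evalₐ_compMap, level_of]
  simp

theorem compMap_mk (h𝔫 : 𝔫 = 𝔞.map f) (s : AdicCompletion.AdicCauchySequence 𝔞 A)
    (t : AdicCompletion.AdicCauchySequence 𝔫 B) (hst : ∀ n, f (s n) = t n) :
    compMap f 𝔞 𝔫 h𝔫 (AdicCompletion.mk 𝔞 A s) = AdicCompletion.mk 𝔫 B t := by
  apply AdicCompletion.ext_evalₐ
  intro n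
  rw [evalₐ_compMap, level_mk, AdicCompletion.evalₐ_mk, hst]

theorem compMap_surjective (hf : Function.Surjective f) (h𝔫 : 𝔫 = 𝔞.map f) :
    Function.Surjective (compMap f 𝔞 𝔫 h𝔫) := by
  intro y
  induction y using AdicCompletion.induction_on with
  | h t =>
    have step : ∀ n (a : {a : A // f a = t n}),
        ∃ a' : {a : A // f a = t (n + 1)}, a'.1 - a.1 ∈ 𝔞 ^ n := by
      intro n a
      have h1 : t (n + 1) - t n ∈ 𝔫 ^ n := by
        have := AdicCompletion.Ideal.mk_eq_mk 𝔫 (Nat.le_succ n) t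
        rw [Ideal.Quotient.eq] at this
        exact this
      have h1' : t (n + 1) - t n ∈ (𝔞 ^ n).map f := by
        rw [Ideal.map_pow, ← h𝔫]; exact h1
      rw [Ideal.mem_map_iff_of_surjective f hf] at h1'
      obtain ⟨d, hd, hd'⟩ := h1'
      exact ⟨⟨a.1 + d, by rw [map_add, a.2, hd']; ring⟩, by simpa using hd⟩
    choose g hg using step
    obtain ⟨a0, ha0⟩ := hf (t 0)
    let s : ∀ n, {a : A // f a = t n} := fun n =>
      Nat.rec (motive := fun n => {a : A // f a = t n}) ⟨a0, ha0⟩ (fun n a => g n a) n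
    have hs : ∀ n, (s (n + 1)).1 - (s n).1 ∈ 𝔞 ^ n := fun n => hg n (s n)
    let S : AdicCompletion.AdicCauchySequence 𝔞 A :=
      AdicCompletion.AdicCauchySequence.mk 𝔞 A (fun n => (s n).1) (by
        intro n
        rw [SModEq.sub_mem, smul_eq_mul, Ideal.mul_top]
        have := hs n
        rw [← neg_sub] at this
        exact (Ideal.neg_mem_iff _).mp this)
    exact ⟨AdicCompletion.mk 𝔞 A S, compMap_mk f 𝔞 𝔫 h𝔫 S t (fun n => (s n).2)⟩

theorem ker_evalₐ_le (h𝔞 : 𝔞.FG) (n : ℕ) :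
    RingHom.ker (AdicCompletion.evalₐ 𝔞 n : AdicCompletion 𝔞 A →+* A ⧸ 𝔞 ^ n) ≤
      (𝔞 ^ n).map (algebraMap A (AdicCompletion 𝔞 A)) := by
  intro x hx
  rw [RingHom.mem_ker] at hx
  have h1 : x ∈ (AdicCompletion.eval 𝔞 A n).ker := by
    rw [LinearMap.mem_ker]
    have h2 := AdicCompletion.factor_eval_eq_evalₐ (n := n) 𝔞 x (le_of_eq (Ideal.mul_top _))
    have hinj : Function.Injective
        (Ideal.Quotient.factor (le_of_eq (Ideal.mul_top (𝔞 ^ n)))) := by
      rw [RingHom.injective_iff_ker_eq_bot, Ideal.Quotient.factor_ker]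
      exact Ideal.map_mk_eq_bot_of_le (le_of_eq (Ideal.mul_top _).symm)
    apply hinj
    rw [map_zero]
    exact h2.trans hx
  rw [← AdicCompletion.pow_smul_top_eq_ker_eval h𝔞] at h1
  refine Submodule.smul_induction_on h1 ?_ ?_
  · intro r hr y _
    rw [Algebra.smul_def]
    exact Ideal.mul_mem_right _ _ (Ideal.mem_map_of_mem _ hr)
  · intro y z hy hz
    exact Ideal.add_mem _ hy hz

theorem ker_compMap [IsNoetherianRing A] (hf : Function.Surjective f) (h𝔫 : 𝔫 = 𝔞.map f) :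
    RingHom.ker (compMap f 𝔞 𝔫 h𝔫) = (RingHom.ker f).map (algebraMap A (AdicCompletion 𝔞 A)) := by
  have h𝔞 : 𝔞.FG := IsNoetherian.noetherian 𝔞
  haveI : IsNoetherianRing (AdicCompletion 𝔞 A) := Groth.Agent.S0543.result A 𝔞
  apply le_antisymm
  · intro x hx
    rw [RingHom.mem_ker] at hx
    set J := (RingHom.ker f).map (algebraMap A (AdicCompletion 𝔞 A)) with hJ
    set 𝔞' := 𝔞.map (algebraMap A (AdicCompletion 𝔞 A)) with h𝔞'
    haveI := AdicCompletion.isAdicComplete_self 𝔞 h𝔞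
    haveI : IsHausdorff 𝔞' (AdicCompletion 𝔞 A ⧸ J) :=
      IsHausdorff.of_le_jacobson _ _ (IsAdicComplete.le_jacobson_bot 𝔞')
    have key : ∀ n, x ∈ J ⊔ 𝔞' ^ n := by
      intro n
      have h1 : level f 𝔞 𝔫 h𝔫 n x = 0 := by
        rw [← evalₐ_compMap, hx, map_zero]
      obtain ⟨s, rfl⟩ := AdicCompletion.mk_surjective 𝔞 A x
      rw [level_mk, Ideal.Quotient.eq_zero_iff_mem] at h1
      have h1' : f (s n) ∈ (𝔞 ^ n).map f := by
        rw [Ideal.map_pow, ← h𝔫]; exact h1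
      rw [Ideal.mem_map_iff_of_surjective f hf] at h1'
      obtain ⟨d, hd, hd'⟩ := h1'
      have h2 : AdicCompletion.mk 𝔞 A s - algebraMap A _ (s n) ∈
          (𝔞 ^ n).map (algebraMap A (AdicCompletion 𝔞 A)) := by
        apply ker_evalₐ_le 𝔞 h𝔞 n
        rw [RingHom.mem_ker, map_sub]
        simp
      have h3 : algebraMap A (AdicCompletion 𝔞 A) (s n - d) ∈ J :=
        Ideal.mem_map_of_mem _ (by rw [RingHom.mem_ker, map_sub, hd', sub_self])
      have h4 : algebraMap A (AdicCompletion 𝔞 A) d ∈ 𝔞' ^ n := by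
        rw [h𝔞', ← Ideal.map_pow]
        exact Ideal.mem_map_of_mem _ hd
      rw [Ideal.map_pow, ← h𝔞'] at h2
      have : AdicCompletion.mk 𝔞 A s = algebraMap A (AdicCompletion 𝔞 A) (s n - d) +
          (algebraMap A (AdicCompletion 𝔞 A) d +
            (AdicCompletion.mk 𝔞 A s - algebraMap A _ (s n))) := by
        rw [map_sub]; ring
      rw [this]
      exact Submodule.add_mem_sup h3 (Ideal.add_mem _ h4 h2)
    have hzero : Ideal.Quotient.mk J x = 0 := by
      apply IsHausdorff.haus' (I := 𝔞') (Ideal.Quotient.mk J x)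
      intro n
      rw [SModEq.zero]
      obtain ⟨j, hj, e, he, hje⟩ := Submodule.mem_sup.mp (key n)
      rw [← hje, map_add, Ideal.Quotient.eq_zero_iff_mem.mpr hj, zero_add]
      have : Ideal.Quotient.mk J e = e • (1 : AdicCompletion 𝔞 A ⧸ J) := by
        rw [Algebra.smul_def, mul_one]; rfl
      rw [this]
      exact Submodule.smul_mem_smul he Submodule.mem_top
    exact Ideal.Quotient.eq_zero_iff_mem.mp hzero
  · rw [Ideal.map_le_iff_le_comap]
    intro a ha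
    rw [Ideal.mem_comap, RingHom.mem_ker, compMap_of, (RingHom.mem_ker).mp ha, map_zero]

/-- The completion of a quotient: `B^ ≃ Â / (ker f) Â`. -/
noncomputable def complQuotEquiv [IsNoetherianRing A] (hf : Function.Surjective f)
    (h𝔫 : 𝔫 = 𝔞.map f) :
    (AdicCompletion 𝔞 A ⧸ (RingHom.ker f).map (algebraMap A (AdicCompletion 𝔞 A))) ≃+*
      AdicCompletion 𝔫 B :=
  (Ideal.quotEquivOfEq (ker_compMap f 𝔞 𝔫 hf h𝔫).symm).trans
    (RingHom.quotientKerEquivOfSurjective (compMap_surjective f 𝔞 𝔫 hf h𝔫))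

theorem complQuotEquiv_mk [IsNoetherianRing A] (hf : Function.Surjective f)
    (h𝔫 : 𝔫 = 𝔞.map f) (x : AdicCompletion 𝔞 A) :
    complQuotEquiv f 𝔞 𝔫 hf h𝔫 (Ideal.Quotient.mk _ x) = compMap f 𝔞 𝔫 h𝔫 x := by
  simp [complQuotEquiv]

end

section Local

variable {A B : Type u} [CommRing A] [CommRing B] [IsNoetherianRing A] [IsLocalRing A]
  [IsLocalRing B] (f : A →+* B)

/-- The completion of a local quotient `B` of a Noetherian local ring `A` is `Â/(ker f)Â`. -/
noncomputable def localEquiv (hf : Function.Surjective f) :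
    (AdicCompletion (maximalIdeal A) A ⧸
      (RingHom.ker f).map (algebraMap A (AdicCompletion (maximalIdeal A) A))) ≃+*
      AdicCompletion (maximalIdeal B) B :=
  complQuotEquiv f (maximalIdeal A) (maximalIdeal B) hf
    (IsLocalRing.map_maximalIdeal_of_surjective f hf).symm

theorem localEquiv_mk_of (hf : Function.Surjective f) (a : A) :
    localEquiv f hf (Ideal.Quotient.mk _ (algebraMap A (AdicCompletion (maximalIdeal A) A) a)) =
      algebraMap B (AdicCompletion (maximalIdeal B) B) (f a) := by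
  rw [localEquiv, complQuotEquiv_mk, compMap_of]

end Local

section Quot

variable {A : Type u} [CommRing A] [IsNoetherianRing A] [IsLocalRing A] (I : Ideal A)
  [IsLocalRing (A ⧸ I)]

/-- The completion of `A/I` is `Â/IÂ`. -/
noncomputable def quotEquiv :
    (AdicCompletion (maximalIdeal A) A ⧸
      I.map (algebraMap A (AdicCompletion (maximalIdeal A) A))) ≃+*
      AdicCompletion (maximalIdeal (A ⧸ I)) (A ⧸ I) :=
  (Ideal.quotEquivOfEq (by rw [Ideal.mk_ker])).trans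
    (localEquiv (Ideal.Quotient.mk I) Ideal.Quotient.mk_surjective)

theorem quotEquiv_mk_of (a : A) :
    quotEquiv I (Ideal.Quotient.mk _ (algebraMap A (AdicCompletion (maximalIdeal A) A) a)) =
      algebraMap (A ⧸ I) (AdicCompletion (maximalIdeal (A ⧸ I)) (A ⧸ I))
        (Ideal.Quotient.mk I a) := by
  rw [quotEquiv, RingEquiv.trans_apply, Ideal.quotEquivOfEq_mk, localEquiv_mk_of]

end Quot

end Groth.Agent.H1.ComplQuot
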