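import Mathlib
import Groth.Prelude
import Groth.Agent.Lib.Helper1.ComplQuot
import Groth.Agent.S19474

/-! Helper1: quotients of regular local rings by regular sequences are complete intersections. -/

set_option autoImplicit false
universe u

namespace Groth.Agent.H1.CIQuot

/-- A local quotient `A/(rs)` of a regular local ring by a regular sequence is a complete
intersection in the sense of `Pi1.IsCompleteIntersection`. -/
theorem ci_of_regular_quotient (A : Type u) [CommRing A] [IsRegularLocalRing A] (rs : List A)
    (hmem : ∀ r ∈ rs, r ∈ IsLocalRing.maximalIdeal A)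
    (hreg : RingTheory.Sequence.IsWeaklyRegular A rs)
    [IsLocalRing (A ⧸ Ideal.ofList rs)] :
    Pi1.IsCompleteIntersection (A ⧸ Ideal.ofList rs) := by
  let B := AdicCompletion (IsLocalRing.maximalIdeal A) A
  haveI : IsRegularLocalRing B :=
    ((Groth.Agent.S19474.result A (IsLocalRing.maximalIdeal A)
      (Ideal.IsPrime.ne_top inferInstance)).2).mp inferInstance
  haveI : Module.FaithfullyFlat A B := Module.FaithfullyFlat.of_flat_of_isLocalHom
  refine ⟨B, inferInstance, inferInstance, rs.map (algebraMap A B), ?_, ?_, ?_⟩
  · intro r hr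
    obtain ⟨a, ha, rfl⟩ := List.mem_map.mp hr
    have := hmem a ha
    rw [AdicCompletion.maximalIdeal_eq_map]
    exact Ideal.mem_map_of_mem _ this
  · refine (IsLocalRing.isRegular_iff_isWeaklyRegular_of_subset_maximalIdeal ?_).mpr
      hreg.of_flat
    intro r hr
    obtain ⟨a, ha, rfl⟩ := List.mem_map.mp hr
    have := hmem a ha
    rw [AdicCompletion.maximalIdeal_eq_map]
    exact Ideal.mem_map_of_mem _ this
  · have e := Groth.Agent.H1.ComplQuot.quotEquiv (Ideal.ofList rs)
    have h : Ideal.span {r | r ∈ rs.map (algebraMap A B)} =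
        (Ideal.ofList rs).map (algebraMap A B) := by
      rw [Ideal.map_ofList]
    exact ⟨e.symm.trans (Ideal.quotEquivOfEq h.symm)⟩

end Groth.Agent.H1.CIQuot
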