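import Mathlib
import Groth.Agent.Lib.Helper1.Chev3
import Groth.Agent.Lib.Helper1.FibDimFP
import Groth.Agent.Lib.Helper1.DimFormula

set_option autoImplicit false
set_option linter.style.haveILetI false
universe u

namespace Groth.Agent.H1.FibLocDim

open AlgebraicGeometry CategoryTheory TopologicalSpace Topology TensorProduct

set_option backward.isDefEq.respectTransparency false in
/-- the local dimension of the fibre ring `κ(p) ⊗ S` at the prime over `q` is the local fibre
dimension of `Spec S → Spec R` at `q`. -/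
theorem localDim_fiber_eq_fibreDimAt_Spec (R S : Type u) [CommRing R] [CommRing S] [Algebra R S]
    (q : PrimeSpectrum S) (Q : PrimeSpectrum ((q.asIdeal.under R).Fiber S))
    (hQ : Q.asIdeal.comap (Algebra.TensorProduct.includeRight.toRingHom) = q.asIdeal) :
    FlatMor.localDim (PrimeSpectrum ((q.asIdeal.under R).Fiber S)) Q =
      FlatMor.fibreDimAt (Spec.map (CommRingCat.ofHom (algebraMap R S))) q := by
  set f := Spec.map (CommRingCat.ofHom (algebraMap R S)) with hf
  set p : PrimeSpectrum R := ⟨q.asIdeal.under R, inferInstance⟩ with hp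
  have hfq : f q = p := rfl
  let e := PrimeSpectrum.preimageHomeomorphFiber R S p
  have hw : (e.symm Q).1 = q := by
    apply PrimeSpectrum.ext
    exact hQ
  let z : f.fiber p := (f.fiberHomeo p).symm ⟨q, hfq⟩
  have hz : f.fiberι p z = q := f.fiberι_fiberHomeo_symm p ⟨q, hfq⟩
  rw [← Groth.Agent.H1.Chev.localDim_fiber_eq_fibreDimAt f q p hfq z hz]
  let h : f.fiber p ≃ₜ PrimeSpectrum (p.asIdeal.Fiber S) := (f.fiberHomeo p).trans e
  have hhz : h z = Q := by
    change e ((f.fiberHomeo p) ((f.fiberHomeo p).symm ⟨q, hfq⟩)) = Q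
    rw [Homeomorph.apply_symm_apply]
    rw [← e.apply_symm_apply Q]
    congr 1
    exact Subtype.ext hw.symm
  rw [Groth.Agent.H1.DimFormula.localDim_eq_of_isOpenEmbedding h.isOpenEmbedding z, hhz]

theorem s9176 (R S : Type u) [CommRing R]
    [CommRing S] [Algebra R S] [Algebra.FinitePresentation R S] (n : ℕ) :
    IsOpen {q : PrimeSpectrum S | ∀ Q : PrimeSpectrum ((q.asIdeal.under R).Fiber S),
        Q.asIdeal.comap (Algebra.TensorProduct.includeRight.toRingHom) = q.asIdeal →
          FlatMor.localDim (PrimeSpectrum ((q.asIdeal.under R).Fiber S)) Q ≤ (n : WithBot ℕ∞)} ∧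
      IsCompact {q : PrimeSpectrum S | ∀ Q : PrimeSpectrum ((q.asIdeal.under R).Fiber S),
        Q.asIdeal.comap (Algebra.TensorProduct.includeRight.toRingHom) = q.asIdeal →
          FlatMor.localDim (PrimeSpectrum ((q.asIdeal.under R).Fiber S)) Q ≤ (n : WithBot ℕ∞)} := by
  have hset : {q : PrimeSpectrum S | ∀ Q : PrimeSpectrum ((q.asIdeal.under R).Fiber S),
        Q.asIdeal.comap (Algebra.TensorProduct.includeRight.toRingHom) = q.asIdeal →
          FlatMor.localDim (PrimeSpectrum ((q.asIdeal.under R).Fiber S)) Q ≤ (n : WithBot ℕ∞)} =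
      {y : Spec (CommRingCat.of S) |
        FlatMor.fibreDimAt (Spec.map (CommRingCat.ofHom (algebraMap R S))) y ≤ n} := by
    ext q
    change (∀ Q : PrimeSpectrum ((q.asIdeal.under R).Fiber S),
        Q.asIdeal.comap (Algebra.TensorProduct.includeRight.toRingHom) = q.asIdeal →
          FlatMor.localDim (PrimeSpectrum ((q.asIdeal.under R).Fiber S)) Q ≤ (n : WithBot ℕ∞)) ↔
      FlatMor.fibreDimAt (Spec.map (CommRingCat.ofHom (algebraMap R S))) q ≤ n
    constructor
    · intro H
      -- the prime of the fibre over `q`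
      let p : PrimeSpectrum R := ⟨q.asIdeal.under R, inferInstance⟩
      let e := PrimeSpectrum.preimageHomeomorphFiber R S p
      let Q : PrimeSpectrum ((q.asIdeal.under R).Fiber S) := e ⟨q, rfl⟩
      have hQ : Q.asIdeal.comap (Algebra.TensorProduct.includeRight.toRingHom) = q.asIdeal := by
        have := congrArg (fun w => (w.1 : PrimeSpectrum S).asIdeal) (e.symm_apply_apply ⟨q, rfl⟩)
        exact this
      rw [← localDim_fiber_eq_fibreDimAt_Spec R S q Q hQ]
      exact H Q hQ
    · intro H Q hQ
      rw [localDim_fiber_eq_fibreDimAt_Spec R S q Q hQ]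
      exact H
  rw [hset]
  haveI : LocallyOfFiniteType (Spec.map (CommRingCat.ofHom (algebraMap R S))) := by
    rw [HasRingHomProperty.Spec_iff (P := @LocallyOfFiniteType)]
    exact RingHom.finiteType_algebraMap.mpr inferInstance
  exact ⟨Groth.Agent.H1.Chev.isOpen_fibreDimAt_le _ n,
    Groth.Agent.H1.FibDimFP.isCompact_fibreDimAt_le_Spec R S n⟩

end Groth.Agent.H1.FibLocDim
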