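import Mathlib
import Groth.Agent.Lib.Helper1.CMQF
import Groth.Agent.Lib.Helper1.FibLocDim
import Groth.Agent.Lib.Helper2.FFib3

/-! Helper1: decomposition of a flat finitely presented algebra with Cohen–Macaulay fibres into
pieces of constant fibre dimension (S9165). -/

set_option autoImplicit false
set_option linter.style.haveILetI false
universe u

namespace Groth.Agent.H1.CMDecomp

open AlgebraicGeometry CategoryTheory TopologicalSpace Topology TensorProduct

section Idem

variable {S : Type u} [CommRing S]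

theorem eq_zero_of_idem_of_forall_mem {e : S} (he : IsIdempotentElem e)
    (h : ∀ x : PrimeSpectrum S, e ∈ x.asIdeal) : e = 0 := by
  have hnil : IsNilpotent e := by
    rw [nilpotent_iff_mem_prime]
    intro J hJ
    exact h ⟨J, hJ⟩
  obtain ⟨n, hn⟩ := hnil
  cases n with
  | zero =>
    rw [pow_zero] at hn
    rw [← mul_one e, hn, mul_zero]
  | succ n => rw [← he.pow_succ_eq n]; exact hn

theorem exists_decomp (R : Type u) [CommRing R] [Algebra R S] (δ : PrimeSpectrum S → ℕ)
    (hδ : IsLocallyConstant δ) (N : ℕ) (hN : ∀ x, δ x ≤ N) :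
    ∃ e : Fin (N + 1) → S, (∀ d, IsIdempotentElem (e d)) ∧
      (∀ d, ∀ x : PrimeSpectrum S, e d ∉ x.asIdeal ↔ δ x = (d : ℕ)) ∧
      Nonempty (S ≃ₐ[R] ((d : Fin (N + 1)) → S ⧸ Ideal.span {1 - e d})) := by
  classical
  have hcl : ∀ d : Fin (N + 1), ∃ e : S, IsIdempotentElem e ∧
      ({x | δ x = (d : ℕ)} : Set (PrimeSpectrum S)) = PrimeSpectrum.basicOpen e := fun d =>
    PrimeSpectrum.isClopen_iff.mp (hδ.isClopen_fiber _)
  choose e he1 he2 using hcl
  have hmem : ∀ d, ∀ x : PrimeSpectrum S, e d ∉ x.asIdeal ↔ δ x = (d : ℕ) := by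
    intro d x
    have : x ∈ ({x | δ x = (d : ℕ)} : Set (PrimeSpectrum S)) ↔
        x ∈ (PrimeSpectrum.basicOpen (e d) : Set (PrimeSpectrum S)) := by rw [he2 d]
    change (δ x = (d : ℕ)) ↔ _ at this
    rw [this]
    exact (PrimeSpectrum.mem_basicOpen _ _).symm
  refine ⟨e, he1, hmem, ?_⟩
  -- orthogonality
  have horth : ∀ i j : Fin (N + 1), i ≠ j → e i * e j = 0 := by
    intro i j hij
    apply eq_zero_of_idem_of_forall_mem ((he1 i).mul (he1 j))
    intro x
    by_contra hx
    have h1 : e i ∉ x.asIdeal := fun h => hx (Ideal.mul_mem_right _ _ h)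
    have h2 : e j ∉ x.asIdeal := fun h => hx (Ideal.mul_mem_left _ _ h)
    have h3 := (hmem i x).mp h1
    have h4 := (hmem j x).mp h2
    exact hij (Fin.ext (h3.symm.trans h4))
  let I : Fin (N + 1) → Ideal S := fun d => Ideal.span {1 - e d}
  have hcop : Pairwise (Function.onFun IsCoprime I) := by
    intro i j hij
    change IsCoprime (I i) (I j)
    rw [Ideal.isCoprime_iff_exists]
    refine ⟨1 - e i, Ideal.subset_span rfl, e i, ?_, by ring⟩
    have : e i = e i * (1 - e j) := by rw [mul_sub, mul_one, horth i j hij, sub_zero]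
    rw [this]
    exact Ideal.mul_mem_left _ _ (Ideal.subset_span rfl)
  -- the product of the `1 - e d` is nilpotent
  have hu : IsNilpotent (∏ d : Fin (N + 1), (1 - e d)) := by
    rw [nilpotent_iff_mem_prime]
    intro J hJ
    let x : PrimeSpectrum S := ⟨J, hJ⟩
    let d₀ : Fin (N + 1) := ⟨δ x, Nat.lt_succ_of_le (hN x)⟩
    have h1 : e d₀ ∉ J := (hmem d₀ x).mpr rfl
    have h2 : 1 - e d₀ ∈ J := by
      have h3 : e d₀ * (1 - e d₀) ∈ J := by
        have : e d₀ * (1 - e d₀) = 0 := by rw [mul_sub, mul_one, (he1 d₀).eq, sub_self]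
        rw [this]; exact J.zero_mem
      exact (hJ.mem_or_mem h3).resolve_left h1
    rw [← Finset.mul_prod_erase Finset.univ _ (Finset.mem_univ d₀)]
    exact Ideal.mul_mem_right _ _ h2
  have hbot : ⨅ d, I d = ⊥ := by
    rw [eq_bot_iff]
    intro x hx
    rw [Ideal.mem_iInf] at hx
    have hx1 : ∀ d, x * (1 - e d) = x := by
      intro d
      obtain ⟨y, hy⟩ := Ideal.mem_span_singleton'.mp (hx d)
      rw [← hy, mul_assoc, (he1 d).one_sub.eq]
    have hx2 : ∀ s : Finset (Fin (N + 1)), x * ∏ d ∈ s, (1 - e d) = x := by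
      intro s
      induction s using Finset.induction_on with
      | empty => simp
      | insert a s ha ih => rw [Finset.prod_insert ha, ← mul_assoc, hx1 a, ih]
    have hx3 : ∀ n : ℕ, x * (∏ d : Fin (N + 1), (1 - e d)) ^ n = x := by
      intro n
      induction n with
      | zero => simp
      | succ n ih => rw [pow_succ, ← mul_assoc, ih, hx2]
    obtain ⟨n, hn⟩ := hu
    have := hx3 n
    rw [hn, mul_zero] at this
    rw [Ideal.mem_bot]; exact this.symm
  -- the map
  let φ : S →ₐ[R] ((d : Fin (N + 1)) → S ⧸ I d) :=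
    Pi.algHom R (fun d => S ⧸ I d) (fun d => Ideal.Quotient.mkₐ R (I d))
  have hinj : Function.Injective φ := by
    rw [injective_iff_map_eq_zero]
    intro x hx
    have : x ∈ ⨅ d, I d := by
      rw [Ideal.mem_iInf]
      intro d
      have := congrFun hx d
      exact Ideal.Quotient.eq_zero_iff_mem.mp this
    rw [hbot] at this
    exact this
  have hsurj : Function.Surjective φ := by
    intro y
    obtain ⟨z, hz⟩ := Ideal.quotientInfToPiQuotient_surj hcop y
    obtain ⟨x, rfl⟩ := Ideal.Quotient.mk_surjective z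
    refine ⟨x, ?_⟩
    rw [← hz, Ideal.quotientInfToPiQuotient_mk]
    rfl
  exact ⟨AlgEquiv.ofBijective φ ⟨hinj, hsurj⟩⟩

end Idem

section Quot

variable (R S : Type u) [CommRing R] [CommRing S] [Algebra R S]

theorem flat_quot [Module.Flat R S] {e : S} (he : IsIdempotentElem e) :
    Module.Flat R (S ⧸ Ideal.span {1 - e}) := by
  haveI : IsLocalization.Away e (S ⧸ Ideal.span {1 - e}) :=
    IsLocalization.Away.quotient_of_isIdempotentElem he
  haveI : Module.Flat S (S ⧸ Ideal.span {1 - e}) := IsLocalization.flat _ (Submonoid.powers e)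
  exact Module.Flat.trans R S _

theorem fp_quot [Algebra.FinitePresentation R S] (e : S) :
    Algebra.FinitePresentation R (S ⧸ Ideal.span {1 - e}) :=
  Algebra.FinitePresentation.quotient (Submodule.fg_span_singleton _)

theorem cm_quot (hCM : ∀ p : PrimeSpectrum R, LocCoh.IsCohenMacaulayRing (p.asIdeal.Fiber S))
    {e : S} (he : IsIdempotentElem e) (p : PrimeSpectrum R) :
    LocCoh.IsCohenMacaulayRing (p.asIdeal.Fiber (S ⧸ Ideal.span {1 - e})) := by
  haveI : IsLocalization.Away e (S ⧸ Ideal.span {1 - e}) :=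
    IsLocalization.Away.quotient_of_isIdempotentElem he
  exact Groth.Agent.H2.FFib.cm_fibres_of_isLocalization R S _ (Submonoid.powers e)
    (fun q hq => hCM ⟨q, hq⟩) p.asIdeal

set_option backward.isDefEq.respectTransparency false in
theorem isCMAt_Spec [Module.Flat R S]
    (hCM : ∀ p : PrimeSpectrum R, LocCoh.IsCohenMacaulayRing (p.asIdeal.Fiber S))
    (x : Spec (CommRingCat.of S)) :
    MoreMor.IsCMAt (Spec.map (CommRingCat.ofHom (algebraMap R S))) x := by
  set f := Spec.map (CommRingCat.ofHom (algebraMap R S)) with hf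
  haveI : Flat f := by
    rw [hf, HasRingHomProperty.Spec_iff (P := @Flat)]
    exact RingHom.flat_algebraMap_iff.mpr inferInstance
  refine ⟨Flat.stalkMap f x, ?_⟩
  let q : PrimeSpectrum R := f x
  let e := Groth.Agent.H1.SmoothDim.fiberSpecIso R S q
  let z : f.fiber q := f.asFiber x
  let i1 := asIso (e.hom.stalkMap z)
  let i2 := Spec.stalkIso (CommRingCat.of (q.asIdeal.Fiber S)) (e.hom z)
  haveI := hCM q
  haveI : LocCoh.IsCohenMacaulayLocalRing
      (Localization.AtPrime (e.hom z : PrimeSpectrum (q.asIdeal.Fiber S)).asIdeal) :=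
    LocCoh.IsCohenMacaulayRing.isCohenMacaulayLocalRing_localization _
  exact Groth.Agent.H6.Liai.cmLocal_of_ringEquiv ((i2.symm ≪≫ i1).commRingCatIsoToRingEquiv)

set_option backward.isDefEq.respectTransparency false in
theorem aux (T : Type u) [CommRing T] [Algebra R T] (q : PrimeSpectrum T) (p : PrimeSpectrum R)
    (hp : p = ⟨q.asIdeal.under R, inferInstance⟩) (Q : PrimeSpectrum (p.asIdeal.Fiber T))
    (hQ : Q.asIdeal.comap (Algebra.TensorProduct.includeRight.toRingHom) = q.asIdeal) :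
    FlatMor.localDim (PrimeSpectrum (p.asIdeal.Fiber T)) Q =
      FlatMor.fibreDimAt (Spec.map (CommRingCat.ofHom (algebraMap R T))) q := by
  subst hp
  exact Groth.Agent.H1.FibLocDim.localDim_fiber_eq_fibreDimAt_Spec R T q Q hQ

set_option backward.isDefEq.respectTransparency false in
theorem dim_component (T : Type u) [CommRing T] [Algebra S T] [Algebra R T] [IsScalarTower R S T]
    [Algebra.FiniteType R T] (s : S) [IsLocalization.Away s T]
    (p : PrimeSpectrum R) (P : Ideal (p.asIdeal.Fiber T))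
    (hP : P ∈ minimalPrimes (p.asIdeal.Fiber T)) :
    ∃ y : PrimeSpectrum S, s ∉ y.asIdeal ∧ ringKrullDim (p.asIdeal.Fiber T ⧸ P) =
      FlatMor.fibreDimAt (Spec.map (CommRingCat.ofHom (algebraMap R S))) y := by
  haveI hPp : P.IsPrime := hP.1.1
  let Q : PrimeSpectrum (p.asIdeal.Fiber T) := ⟨P, hPp⟩
  have hht : P.height = 0 := Ideal.height_eq_zero_iff.mpr hP
  have h1 : FlatMor.localDim (PrimeSpectrum (p.asIdeal.Fiber T)) Q =
      ((P.height : ℕ∞) : WithBot ℕ∞) + ringKrullDim (p.asIdeal.Fiber T ⧸ P) :=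
    Groth.Agent.H1.DimFormula.localDim_Spec p.asIdeal.ResidueField (p.asIdeal.Fiber T) Q
  rw [hht] at h1
  have h1' : FlatMor.localDim (PrimeSpectrum (p.asIdeal.Fiber T)) Q =
      ringKrullDim (p.asIdeal.Fiber T ⧸ P) := by rw [h1]; simp
  let E := PrimeSpectrum.preimageHomeomorphFiber R T p
  let q : PrimeSpectrum T := (E.symm Q).1
  have hq : PrimeSpectrum.comap (algebraMap R T) q = p := (E.symm Q).2
  have h2 := aux R T q p hq.symm Q rfl
  let j : Spec (CommRingCat.of T) ⟶ Spec (CommRingCat.of S) :=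
    Spec.map (CommRingCat.ofHom (algebraMap S T))
  haveI : IsOpenImmersion j := IsOpenImmersion.of_isLocalization s
  have hcomp : Spec.map (CommRingCat.ofHom (algebraMap R T)) =
      j ≫ Spec.map (CommRingCat.ofHom (algebraMap R S)) := by
    rw [← Spec.map_comp, ← CommRingCat.ofHom_comp, ← IsScalarTower.algebraMap_eq]
  have h3 : FlatMor.fibreDimAt (Spec.map (CommRingCat.ofHom (algebraMap R T))) q =
      FlatMor.fibreDimAt (Spec.map (CommRingCat.ofHom (algebraMap R S))) (j q) := by
    rw [hcomp]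
    exact Groth.Agent.H1.CMQF.fibreDimAt_comp_isOpenImmersion j _ q
  refine ⟨j q, ?_, ?_⟩
  · intro hmem
    have h5 : algebraMap S T s ∈ q.asIdeal := hmem
    exact q.isPrime.ne_top (Ideal.eq_top_of_isUnit_mem _ h5
      (IsLocalization.Away.algebraMap_isUnit s))
  · rw [← h1', h2, h3]

end Quot

set_option backward.isDefEq.respectTransparency false in
theorem main (R S : Type u) [CommRing R] [CommRing S] [Algebra R S] [Module.Flat R S]
    [Algebra.FinitePresentation R S]
    (hCM : ∀ p : PrimeSpectrum R, LocCoh.IsCohenMacaulayRing (p.asIdeal.Fiber S)) :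
    ∃ (N : ℕ) (T : Fin (N + 1) → Type u) (_ : ∀ d, CommRing (T d)) (_ : ∀ d, Algebra R (T d)),
      Nonempty (S ≃ₐ[R] ((d : Fin (N + 1)) → T d)) ∧
        ∀ d : Fin (N + 1), Module.Flat R (T d) ∧ Algebra.FinitePresentation R (T d) ∧
          (∀ p : PrimeSpectrum R, LocCoh.IsCohenMacaulayRing (p.asIdeal.Fiber (T d))) ∧
          ∀ (p : PrimeSpectrum R), ∀ P ∈ minimalPrimes (p.asIdeal.Fiber (T d)),
            ringKrullDim (p.asIdeal.Fiber (T d) ⧸ P) = ((d : ℕ) : WithBot ℕ∞) := by
  classical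
  set f := Spec.map (CommRingCat.ofHom (algebraMap R S)) with hf
  haveI : Flat f := by
    rw [hf, HasRingHomProperty.Spec_iff (P := @Flat)]
    exact RingHom.flat_algebraMap_iff.mpr inferInstance
  haveI : LocallyOfFinitePresentation f := by
    rw [hf, HasRingHomProperty.Spec_iff (P := @LocallyOfFinitePresentation)]
    exact RingHom.finitePresentation_algebraMap.mpr inferInstance
  have hcm : ∀ x, MoreMor.IsCMAt f x := isCMAt_Spec R S hCM
  have hlc := Groth.Agent.H1.CMQF.s9374 f hcm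
  let g : WithBot ℕ∞ → ℕ := fun w => (WithBot.unbotD 0 w).toNat
  let δ : PrimeSpectrum S → ℕ := fun x => g (FlatMor.fibreDimAt f x)
  have hδ : IsLocallyConstant δ := hlc.comp g
  have hδ' : ∀ x : PrimeSpectrum S, FlatMor.fibreDimAt f x = (δ x : WithBot ℕ∞) := by
    intro x
    obtain ⟨n, hn⟩ := Groth.Agent.H1.CMQF.exists_nat_fibreDimAt f x
    change _ = ((g (FlatMor.fibreDimAt f x) : ℕ) : WithBot ℕ∞)
    rw [hn]
    have h0 : ((n : ℕ) : WithBot ℕ∞) = ((n : ℕ∞) : WithBot ℕ∞) := rfl
    change _ = (((WithBot.unbotD 0 ((n : ℕ) : WithBot ℕ∞)).toNat : ℕ) : WithBot ℕ∞)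
    rw [h0, WithBot.unbotD_coe, ENat.toNat_natCast]
    rfl
  obtain ⟨N, hN⟩ : ∃ N, ∀ x, δ x ≤ N := by
    obtain ⟨N, hN⟩ := hδ.range_finite.bddAbove
    exact ⟨N, fun x => hN ⟨x, rfl⟩⟩
  obtain ⟨e, he1, hmem, ⟨ψ⟩⟩ := exists_decomp R δ hδ N hN
  refine ⟨N, fun d => S ⧸ Ideal.span {1 - e d}, fun d => inferInstance, fun d => inferInstance,
    ⟨ψ⟩, fun d => ⟨flat_quot R S (he1 d), fp_quot R S (e d), cm_quot R S hCM (he1 d), ?_⟩⟩
  intro p P hP
  haveI : IsLocalization.Away (e d) (S ⧸ Ideal.span {1 - e d}) :=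
    IsLocalization.Away.quotient_of_isIdempotentElem (he1 d)
  haveI : Algebra.FinitePresentation R (S ⧸ Ideal.span {1 - e d}) := fp_quot R S (e d)
  obtain ⟨y, hy1, hy2⟩ := dim_component R S (S ⧸ Ideal.span {1 - e d}) (e d) p P hP
  rw [hy2]
  change FlatMor.fibreDimAt f y = _
  rw [hδ' y, (hmem d y).mp hy1]

end Groth.Agent.H1.CMDecomp
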