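import Mathlib
import Groth.Prelude.Def_Cyc
import Groth.Agent.Lib.Helper1.EquidimLoc
import Groth.Agent.Lib.Helper1.FibDimCons
import Groth.Agent.Lib.Helper1.DimLocC

/-! # Dimension of `Cyc.LocQuot` as a relative height. -/

set_option autoImplicit false
set_option linter.style.haveILetI false
universe u
open CategoryTheory AlgebraicGeometry

namespace Groth.Agent.H1.LocQuotDim

/-- general form of `ringKrullDim_localization_quotient` for any localization at a prime. -/
theorem ringKrullDim_quotient_of_isLocalization {B L : Type u} [CommRing B] [CommRing L]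
    [Algebra B L] (q₀ q : Ideal B) [q₀.IsPrime] [q.IsPrime] [IsLocalization.AtPrime L q]
    (hle : q₀ ≤ q) (I : Ideal L) (hI : I.comap (algebraMap B L) = q₀) :
    ringKrullDim (L ⧸ I) = ((q.map (Ideal.Quotient.mk q₀)).height : WithBot ℕ∞) := by
  rw [← Groth.Agent.H1.EquidimLoc.ringKrullDim_localization_quotient q₀ q hle]
  let e : Localization.AtPrime q ≃ₐ[B] L := IsLocalization.algEquiv q.primeCompl _ _
  have hI' : I = q₀.map (algebraMap B L) := by
    rw [← hI]; exact (IsLocalization.map_under q.primeCompl L I).symm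
  have hmap : I = (q₀.map (algebraMap B (Localization.AtPrime q))).map (e : Localization.AtPrime q →+* L) := by
    rw [hI', Ideal.map_map]
    congr 1
    ext b
    simp
  exact (ringKrullDim_eq_of_ringEquiv (Ideal.quotientEquiv _ I e.toRingEquiv hmap)).symm

variable {X : Scheme.{u}}

theorem ringKrullDim_locQuot {V : X.Opens} (hV : IsAffineOpen V) (z ξ : X) (hz : z ∈ V)
    (hξ : ξ ∈ V) (h : ξ ⤳ z) :
    ringKrullDim (Cyc.LocQuot z ξ h) =
      (((hV.primeIdealOf ⟨z, hz⟩).asIdeal.map
        (Ideal.Quotient.mk (hV.primeIdealOf ⟨ξ, hξ⟩).asIdeal)).height : WithBot ℕ∞) := by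
  letI : Algebra Γ(X, V) (X.presheaf.stalk z) := X.presheaf.algebra_section_stalk ⟨z, hz⟩
  haveI := hV.isLocalization_stalk ⟨z, hz⟩
  have hle := Groth.Agent.H1.DimLoc.primeIdealOf_le_of_specializes hV z ξ hz hξ h
  refine ringKrullDim_quotient_of_isLocalization (B := Γ(X, V)) (L := X.presheaf.stalk z)
    (hV.primeIdealOf ⟨ξ, hξ⟩).asIdeal (hV.primeIdealOf ⟨z, hz⟩).asIdeal hle _ ?_
  rw [← Groth.Agent.H1.FibDim.ker_evaluation hV ξ hξ]
  ext a
  rw [Ideal.mem_comap, RingHom.mem_ker, RingHom.mem_ker]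
  have : Cyc.specMap z ξ h (algebraMap Γ(X, V) (X.presheaf.stalk z) a) =
      (X.evaluation V ξ hξ).hom a := by
    change (X.presheaf.germ V z hz ≫ X.presheaf.stalkSpecializes h ≫ X.residue ξ).hom a = _
    rw [TopCat.Presheaf.germ_stalkSpecializes_assoc]
    rfl
  rw [this]

end Groth.Agent.H1.LocQuotDim
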