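import Mathlib
import Groth.Prelude.Def_Cyc
import Groth.Agent.Lib.Helper1.LocQuotDim
import Groth.Agent.Lib.Helper1.DimFun
import Groth.Agent.Lib.Helper1.EquidimLocC
import Groth.Agent.Lib.Helper6.CMKit

/-! # Dimension functions on Cohen–Macaulay schemes. -/

set_option autoImplicit false
set_option linter.style.haveILetI false
universe u
open CategoryTheory AlgebraicGeometry

namespace Groth.Agent.H1.CMDelta

/-- a minimal prime of `B` inside `q` extends to a minimal prime of any localization at `q`. -/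
theorem map_mem_minimalPrimes' {B L : Type u} [CommRing B] [CommRing L] [Algebra B L]
    (q₀ q : Ideal B) [q.IsPrime] [IsLocalization.AtPrime L q] (hq₀ : q₀ ∈ minimalPrimes B)
    (hle : q₀ ≤ q) :
    q₀.map (algebraMap B L) ∈ minimalPrimes L := by
  haveI : q₀.IsPrime := hq₀.1.1
  have hdisj : Disjoint (q.primeCompl : Set B) q₀ := by
    rw [Set.disjoint_left]
    intro r hr hr0
    exact hr (hle hr0)
  have h1 := IsLocalization.minimalPrimes_map q.primeCompl L (⊥ : Ideal B)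
  rw [Ideal.map_bot] at h1
  change q₀.map (algebraMap B L) ∈ (⊥ : Ideal L).minimalPrimes
  rw [h1, Set.mem_preimage,
    IsLocalization.under_map_of_isPrime_disjoint q.primeCompl L inferInstance hdisj]
  exact hq₀

/-- in a Cohen–Macaulay local ring all minimal primes have the same dimension. -/
theorem ringKrullDim_quotient_eq_of_cm {R : Type u} [CommRing R]
    [hR : LocCoh.IsCohenMacaulayLocalRing R] (P : Ideal R) (hP : P ∈ minimalPrimes R) :
    ringKrullDim (R ⧸ P) = ringKrullDim R := by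
  haveI : IsNoetherianRing R := inferInstance
  haveI : IsLocalRing R := inferInstance
  have hass : P ∈ associatedPrimes R R := by
    apply Module.associatedPrimes.minimalPrimes_annihilator_subset_associatedPrimes
    have : Module.annihilator R R = ⊥ := by
      rw [eq_bot_iff]
      intro r hr
      have := Module.mem_annihilator.1 hr (1 : R)
      simpa using this
    rw [this]
    exact hP
  rw [Groth.Agent.H6.CM.ringKrullDim_quotient_eq_of_cm R hR.supportDim_eq_depth P hass,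
    Module.supportDim_self_eq_ringKrullDim]

variable {X : Scheme.{u}}

theorem primeIdealOf_mem_minimalPrimes {V : X.Opens} (hV : IsAffineOpen V) (ξ : X) (hξ : ξ ∈ V)
    (hgen : ∀ ξ' : X, ξ' ⤳ ξ → ξ' = ξ) :
    (hV.primeIdealOf ⟨ξ, hξ⟩).asIdeal ∈ minimalPrimes Γ(X, V) := by
  refine ⟨⟨(hV.primeIdealOf ⟨ξ, hξ⟩).isPrime, bot_le⟩, ?_⟩
  rintro q ⟨hq, -⟩ hle
  haveI := hq
  obtain ⟨Q, hQ⟩ : ∃ Q : ↥(Spec Γ(X, V)), Q = (⟨q, hq⟩ : PrimeSpectrum Γ(X, V)) := ⟨_, rfl⟩
  have h1 : Q ⤳ hV.primeIdealOf ⟨ξ, hξ⟩ := by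
    rw [hQ]
    exact (PrimeSpectrum.le_iff_specializes (R := Γ(X, V)) _ _).1 hle
  have h2 := h1.map hV.fromSpec.continuous
  rw [hV.fromSpec_primeIdealOf] at h2
  have h3 := hgen _ h2
  have h4 : Q = hV.primeIdealOf ⟨ξ, hξ⟩ := by
    apply hV.fromSpec.isOpenEmbedding.injective
    rw [hV.fromSpec_primeIdealOf]
    exact h3
  rw [← h4, hQ]

/-- on a locally Noetherian scheme with Cohen–Macaulay local rings, a dimension function is locally
constant on generic points. -/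
theorem exists_open_delta_const (δ : X → ℤ) (hX : Cyc.IsSetup X δ)
    (hCM : ∀ x : X, LocCoh.IsCohenMacaulayLocalRing ↑(X.presheaf.stalk x)) (x : X) :
    ∃ (U : X.Opens) (n : ℤ), x ∈ U ∧
      ∀ ξ : X, ξ ∈ U → (∀ ξ' : X, ξ' ⤳ ξ → ξ' = ξ) → δ ξ = n := by
  obtain ⟨hN, hUC, hδ⟩ := hX
  haveI := hN
  obtain ⟨V, hV, hxV⟩ : ∃ V : X.Opens, IsAffineOpen V ∧ x ∈ V := by
    obtain ⟨_, ⟨V, hV : IsAffineOpen V, rfl⟩, hzV, -⟩ :=
      X.isBasis_affineOpens.exists_subset_of_mem_open (Set.mem_univ x) isOpen_univ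
    exact ⟨V, hV, hzV⟩
  haveI : IsNoetherianRing Γ(X, V) := IsLocallyNoetherian.component_noetherian ⟨V, hV⟩
  obtain ⟨U₀, hxU₀, hU₀V, hgen⟩ :=
    Groth.Agent.H1.EquidimLoc.exists_open_forall_generic_specializes x V hV hxV
      (minimalPrimes.finite_of_isNoetherianRing Γ(X, V))
  haveI : IsNoetherianRing (X.presheaf.stalk x) := inferInstance
  obtain ⟨d, hd⟩ : ∃ d : ℕ, ringKrullDim (X.presheaf.stalk x) = d := by
    have h1 : ringKrullDim (X.presheaf.stalk x) ≠ ⊤ := ringKrullDim_ne_top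
    have h2 : ringKrullDim (X.presheaf.stalk x) ≠ ⊥ := ringKrullDim_ne_bot
    obtain ⟨e, he⟩ := WithBot.ne_bot_iff_exists.1 h2
    rw [← he] at h1 ⊢
    have h3 : e ≠ ⊤ := fun h => h1 (by rw [h]; rfl)
    exact ⟨e.toNat, by rw [← ENat.natCast_toNat h3]; rfl⟩
  refine ⟨U₀, δ x + d, hxU₀, ?_⟩
  intro ξ hξ hmax
  have hsp : ξ ⤳ x := hgen ξ hξ hmax
  have hξV : ξ ∈ V := hU₀V hξ
  have hle := Groth.Agent.H1.DimLoc.primeIdealOf_le_of_specializes hV x ξ hxV hξV hsp
  have hmin := primeIdealOf_mem_minimalPrimes hV ξ hξV hmax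
  letI : Algebra Γ(X, V) (X.presheaf.stalk x) := X.presheaf.algebra_section_stalk ⟨x, hxV⟩
  haveI := hV.isLocalization_stalk ⟨x, hxV⟩
  have hmin' := map_mem_minimalPrimes' (L := X.presheaf.stalk x) _ _ hmin hle
  have hdisj : Disjoint ((hV.primeIdealOf ⟨x, hxV⟩).asIdeal.primeCompl : Set Γ(X, V))
      (hV.primeIdealOf ⟨ξ, hξV⟩).asIdeal := by
    rw [Set.disjoint_left]
    intro r hr hr0
    exact hr (hle hr0)
  have h1 := Groth.Agent.H1.LocQuotDim.ringKrullDim_quotient_of_isLocalization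
    (L := X.presheaf.stalk x) (hV.primeIdealOf ⟨ξ, hξV⟩).asIdeal
    (hV.primeIdealOf ⟨x, hxV⟩).asIdeal hle
    ((hV.primeIdealOf ⟨ξ, hξV⟩).asIdeal.map (algebraMap Γ(X, V) (X.presheaf.stalk x)))
    (IsLocalization.under_map_of_isPrime_disjoint (hV.primeIdealOf ⟨x, hxV⟩).asIdeal.primeCompl
      (X.presheaf.stalk x) inferInstance hdisj)
  haveI := hCM x
  rw [ringKrullDim_quotient_eq_of_cm _ hmin', hd] at h1
  have h2 : ((hV.primeIdealOf ⟨x, hxV⟩).asIdeal.map
      (Ideal.Quotient.mk (hV.primeIdealOf ⟨ξ, hξV⟩).asIdeal)).height = d := by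
    have : ((d : ℕ∞) : WithBot ℕ∞) = (((hV.primeIdealOf ⟨x, hxV⟩).asIdeal.map
      (Ideal.Quotient.mk (hV.primeIdealOf ⟨ξ, hξV⟩).asIdeal)).height : WithBot ℕ∞) := h1
    exact (WithBot.coe_injective this).symm
  exact Groth.Agent.H1.DimFun.dimFun_eq_add_height δ hδ hV x ξ hxV hξV hsp d h2

end Groth.Agent.H1.CMDelta
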