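import Mathlib
import Groth.Agent.Lib.Helper1.CMQF
import Groth.Agent.Lib.Helper1.EquidimLocC
import Groth.Agent.Lib.Helper1.GenPts
import Groth.Agent.Lib.Helper1.EtNhd
import Groth.Agent.Lib.Helper9.Misc.GSD5

set_option autoImplicit false
set_option linter.style.haveILetI false
universe u

namespace Groth.Agent.H1.CMEquidim

open AlgebraicGeometry CategoryTheory CategoryTheory.Limits Topology
open Groth.Agent.H1.CMQF

set_option backward.isDefEq.respectTransparency false in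
theorem s2595 {X Y : Scheme.{u}} [IsLocallyNoetherian Y] (f : X ⟶ Y)
    [LocallyOfFiniteType f] (x : X) (hflat : (f.stalkMap x).hom.Flat)
    (hCM : LocCoh.IsCohenMacaulayLocalRing ((f.fiber (f.base x)).presheaf.stalk (f.asFiber x))) :
    EGA43.IsEquidimAt f x := by
  haveI : LocallyOfFinitePresentation f := Groth.Agent.H1.EtNhd.lfp_of_lft_of_noetherian f
  have hcm : MoreMor.IsCMAt f x := ⟨hflat, hCM⟩
  obtain ⟨d, hd⟩ := exists_nat_fibreDimAt f x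
  obtain ⟨U₂, hxU₂, hU₂⟩ := exists_nhd_isCMAt f x d hd hcm
  obtain ⟨V, hV, hfxV⟩ : ∃ V : Y.Opens, IsAffineOpen V ∧ f x ∈ V := by
    obtain ⟨_, ⟨V, hV, rfl⟩, hz, -⟩ :=
      Y.isBasis_affineOpens.exists_subset_of_mem_open (Set.mem_univ (f x)) isOpen_univ
    exact ⟨V, hV, hz⟩
  obtain ⟨U₁, hU₁, hxU₁, eU⟩ :=
    exists_isAffineOpen_mem_and_subset (x := x) (U := f ⁻¹ᵁ V ⊓ U₂) ⟨hfxV, hxU₂⟩
  have eUV : U₁ ≤ f ⁻¹ᵁ V := eU.trans inf_le_left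
  have eU₂ : U₁ ≤ U₂ := eU.trans inf_le_right
  letI algRS := (f.appLE V U₁ eUV).hom.toAlgebra
  haveI : Algebra.FiniteType Γ(Y, V) Γ(X, U₁) := f.finiteType_appLE hV hU₁ eUV
  haveI : IsNoetherianRing Γ(Y, V) := IsLocallyNoetherian.component_noetherian ⟨V, hV⟩
  haveI : IsNoetherianRing Γ(X, U₁) := Algebra.FiniteType.isNoetherianRing Γ(Y, V) Γ(X, U₁)
  have hfin : (minimalPrimes Γ(X, U₁)).Finite := minimalPrimes.finite_of_isNoetherianRing _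
  obtain ⟨U₀, hxU₀, hU₀₁, hspec⟩ :=
    Groth.Agent.H1.EquidimLoc.exists_open_forall_generic_specializes x U₁ hU₁ hxU₁ hfin
  refine Groth.Agent.H1.EquidimLoc.isEquidimAt_of_generic f x U₀ hxU₀ d
    (fun x' hx' => (hU₂ x' (eU₂ (hU₀₁ hx'))).2) ?_
  intro ξ hξU hξmax
  have hsp : ξ ⤳ x := hspec ξ hξU hξmax
  have hξU₂ : ξ ∈ U₂ := eU₂ (hU₀₁ hξU)
  haveI : Flat (U₂.ι ≫ f) := by
    rw [Flat.iff_flat_stalkMap]
    intro x'
    exact (H5.DS.flat_stalkMap_comp U₂.ι f x').mp (hU₂ x'.1 x'.2).1.1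
  have hgen := Flat.generalizingMap (U₂.ι ≫ f)
  have hξ' : ∀ ξ'' : (U₂ : Scheme.{u}), ξ'' ⤳ (⟨ξ, hξU₂⟩ : (U₂ : Scheme.{u})) →
      ξ'' = ⟨ξ, hξU₂⟩ := by
    intro ξ'' h
    have h1 : U₂.ι ξ'' ⤳ ξ := h.map U₂.ι.continuous
    exact Subtype.ext (hξmax _ h1)
  have hmaxY := Groth.Agent.H9.GSD.maxPt_map (U₂.ι ≫ f) hgen ⟨ξ, hξU₂⟩ hξ'
  refine ⟨Groth.Agent.H1.GenPts.closure_singleton_mem_irreducibleComponents (f ξ) hmaxY, ?_⟩
  exact (specializes_iff_mem_closure).mp (hsp.map f.continuous)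

end Groth.Agent.H1.CMEquidim
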