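import Mathlib
import Groth.Prelude.Def_Coh
import Groth.Prelude.Def_CohB1
import Groth.Agent.Lib.Helper8.CK.CmpIso
import Groth.Agent.Lib.Lead.Cech.Scheme
import Groth.Agent.Lib.Lead.QC.Push
import Groth.Agent.Lib.Lead.QC.SubExtRestrict

/-! # Čech acyclicity for basic opens with a partition of unity (EGA III 1.2.4). -/

universe u
open CategoryTheory Limits Opposite TopologicalSpace AlgebraicGeometry

namespace Groth.Agent.H1.CechPU

open Groth.Agent.LD Groth.Agent.LD.CH Groth.Agent.H8.CK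

/-- preimages of Čech products. -/
lemma map_prod {Y Z : Scheme.{u}} (h : Y ⟶ Z) {ι : Type u} (D : ι → Z.Opens) (V : ι → Y.Opens)
    (hDV : ∀ i, h ⁻¹ᵁ D i = V i) (n : ℕ) (a : Fin (n+1) → ι) :
    (Opens.map h.base).obj (∏ᶜ (D ∘ a)) = ∏ᶜ (V ∘ a) := by
  apply le_antisymm
  · apply le_prod (X := Y.toTopCat)
    intro k
    rw [← hDV]
    exact (Opens.map h.base).monotone (prod_le (X := Z.toTopCat) _ a k)
  · intro x hx
    change h.base x ∈ (∏ᶜ (D ∘ a) : Z.Opens)
    rw [prod_eq_iInf (X := Z.toTopCat)]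
    have h1 : ∀ k, x ∈ V (a k) := fun k => prod_le (X := Y.toTopCat) _ a k hx
    have h2 : h.base x ∈ ((⨅ k, D (a k) : Z.Opens) : Set _) := by
      rw [Opens.coe_iInf]
      simp only [Set.mem_iInter]
      intro k
      have := h1 k
      rw [← hDV] at this
      exact this
    exact h2

/-- images of Čech products under an open immersion. -/
lemma image_prod {Y X : Scheme.{u}} (j : Y ⟶ X) [IsOpenImmersion j] {ι : Type u} (W : ι → X.Opens)
    (hW : ∀ i, W i ≤ j.opensRange) (n : ℕ) (a : Fin (n+1) → ι) :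
    j.opensFunctor.obj (∏ᶜ ((fun i => j ⁻¹ᵁ W i) ∘ a)) = ∏ᶜ (W ∘ a) := by
  apply le_antisymm
  · apply le_prod (X := X.toTopCat)
    intro k
    rintro _ ⟨y, hy, rfl⟩
    exact prod_le (X := Y.toTopCat) (fun i => j ⁻¹ᵁ W i) a k hy
  · intro x hx
    have h1 : ∀ k, x ∈ W (a k) := fun k => prod_le (X := X.toTopCat) _ a k hx
    obtain ⟨y, rfl⟩ : ∃ y, j.base y = x := hW (a 0) (h1 0)
    refine ⟨y, ?_, rfl⟩
    have h2 : y ∈ ((⨅ k, j ⁻¹ᵁ W (a k) : Y.Opens) : Set _) := by
      rw [Opens.coe_iInf]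
      simp only [Set.mem_iInter]
      intro k
      exact h1 k
    rw [prod_eq_iInf (X := Y.toTopCat)]
    exact h2

theorem main' (X : Scheme.{u}) [X.IsSeparated] (n : ℕ)
    (f : Fin n → Γ(X, ⊤)) (Us : X.Opens) (hle : ∀ i, X.basicOpen (f i) ≤ Us)
    (hUc : IsCompact (Us : Set X))
    (g : Fin n → Γ(X, Us))
    (hg : (Finset.univ.sum fun i => g i *
      (X.presheaf.map (homOfLE (le_top : Us ≤ ⊤)).op).hom (f i)) = 1)
    (G : X.Modules) [G.IsQuasicoherent] (q : ℕ) :
    IsZero ((K (fun i : ULift.{u} (Fin n) => X.basicOpen (f i.down)) G.presheaf).homology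
      (q + 1)) := by
  classical
  haveI : CompactSpace Us.toScheme := isCompact_iff_compactSpace.mp hUc
  haveI : QuasiSeparatedSpace Us.toScheme :=
    QuasiSeparatedSpace.of_isOpenEmbedding Us.ι.isOpenEmbedding
  obtain ⟨W, hWdef⟩ : ∃ W : ULift.{u} (Fin n) → X.Opens, W = fun i => X.basicOpen (f i.down) :=
    ⟨_, rfl⟩
  obtain ⟨f', hf'⟩ : ∃ f' : Fin n → Γ(Us.toScheme, ⊤), ∀ i, f' i = Us.ι.appTop (f i) :=
    ⟨_, fun _ => rfl⟩
  have hWr : ∀ i, W i ≤ Us.ι.opensRange := by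
    intro i
    rw [Scheme.Opens.opensRange_ι, hWdef]
    exact hle i.down
  -- the modules
  haveI : (G.restrict Us.ι).IsQuasicoherent := QC.qc_restrict Us.ι G
  haveI : ((Scheme.Modules.pushforward Us.toScheme.toSpecΓ).obj (G.restrict Us.ι)).IsQuasicoherent :=
    QC.qc_pushforward Us.toScheme.toSpecΓ (G.restrict Us.ι)
  -- the covers
  obtain ⟨D, hDdef⟩ : ∃ D : ULift.{u} (Fin n) → (Spec Γ(Us.toScheme, ⊤)).Opens,
      D = fun i => PrimeSpectrum.basicOpen (f' i.down) := ⟨_, rfl⟩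
  have hD : ∀ i : ULift.{u} (Fin n), Us.toScheme.toSpecΓ ⁻¹ᵁ D i = Us.ι ⁻¹ᵁ W i := by
    intro i
    rw [hDdef]
    show Us.toScheme.toSpecΓ ⁻¹ᵁ PrimeSpectrum.basicOpen (f' i.down) = _
    rw [Scheme.toSpecΓ_preimage_basicOpen, hf', hWdef]
    exact (Scheme.preimage_basicOpen_top Us.ι (f i.down)).symm
  -- partition of unity
  have hres : ∀ i, Us.topIso.inv.hom ((X.presheaf.map (homOfLE (le_top : Us ≤ ⊤)).op).hom (f i)) =
      f' i := by
    intro i
    rw [hf']
    have h1 : X.presheaf.map (homOfLE (le_top : Us ≤ ⊤)).op ≫ Us.topIso.inv = Us.ι.appTop := by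
      rw [Scheme.Opens.ι_appTop, Scheme.Opens.topIso_inv]
      exact (X.presheaf.map_comp _ _).symm.trans (congrArg X.presheaf.map (Subsingleton.elim _ _))
    exact ConcreteCategory.congr_hom h1 (f i)
  have hspan : Ideal.span (Set.range fun i : ULift.{u} (Fin n) => f' i.down) = ⊤ := by
    rw [Ideal.eq_top_iff_one]
    have h1 : (1 : Γ(Us.toScheme, ⊤)) = ∑ i, Us.topIso.inv.hom (g i) * f' i := by
      have h2 := congrArg Us.topIso.inv.hom hg
      rw [map_sum, map_one] at h2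
      rw [← h2]
      refine Finset.sum_congr rfl fun i _ => ?_
      rw [map_mul, hres]
    rw [h1]
    exact Ideal.sum_mem _ fun i _ => Ideal.mul_mem_left _ _ (Ideal.subset_span ⟨⟨i⟩, rfl⟩)
  have key : ∀ (m : ℕ) (a : Fin (m+1) → ULift.{u} (Fin n)),
      (⨅ k, D (a k)) = PrimeSpectrum.basicOpen (∏ k, f' (a k).down) := by
    intro m a
    apply le_antisymm
    · intro x hx
      have hx' : ∀ k, x ∈ D (a k) := fun k => (iInf_le (fun k => D (a k)) k) hx
      show (∏ k, f' (a k).down) ∉ x.asIdeal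
      rw [x.isPrime.prod_mem_iff]
      rintro ⟨k, -, hk⟩
      have h5 := hx' k
      rw [hDdef] at h5
      exact h5 hk
    · apply le_iInf
      intro k x hx
      rw [hDdef]
      show f' (a k).down ∉ x.asIdeal
      intro hk
      apply hx
      exact Ideal.mem_of_dvd _ (Finset.dvd_prod_of_mem _ (Finset.mem_univ k)) hk
  have hDtop : iSup D = ⊤ := by
    rw [hDdef]
    exact (PrimeSpectrum.iSup_basicOpen_eq_top_iff).2 hspan
  have h0 := Groth.Agent.LD.CH.isZero_cech_of_affine (X := Spec Γ(Us.toScheme, ⊤)) D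
    (fun m a => (congrArg (fun V : (Spec Γ(Us.toScheme, ⊤)).Opens => IsAffineOpen V) (key m a)).mpr
      (AlgebraicGeometry.IsAffineOpen.Spec_basicOpen (R := Γ(Us.toScheme, ⊤)) _))
    ((congrArg (fun V : (Spec Γ(Us.toScheme, ⊤)).Opens => IsAffineOpen V)
      hDtop).mpr (AlgebraicGeometry.isAffineOpen_top _))
    ((Scheme.Modules.pushforward Us.toScheme.toSpecΓ).obj (G.restrict Us.ι)) q
  have isoB : K (fun i => Us.ι ⁻¹ᵁ W i) (G.restrict Us.ι).presheaf ≅
      K D
        ((Scheme.Modules.pushforward Us.toScheme.toSpecΓ).obj (G.restrict Us.ι)).presheaf :=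
    gcmpIso (Opens.map Us.toScheme.toSpecΓ.base) (G.restrict Us.ι).presheaf _ _
      (fun m a => eqToIso (map_prod Us.toScheme.toSpecΓ _ _ hD m a))
      (fun _ _ _ => Subsingleton.elim _ _)
  have isoA : K W G.presheaf ≅ K (fun i => Us.ι ⁻¹ᵁ W i) (G.restrict Us.ι).presheaf :=
    gcmpIso Us.ι.opensFunctor G.presheaf _ _
      (fun m a => eqToIso (image_prod Us.ι W hWr m a))
      (fun _ _ _ => Subsingleton.elim _ _)
  have h3 := IsZero.of_iso h0
    ((HomologicalComplex.homologyFunctor _ _ (q + 1)).mapIso (isoA ≪≫ isoB))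
  rw [hWdef] at h3
  exact h3

theorem main (X : Scheme.{u}) [X.IsSeparated] (n : ℕ)
    (f : Fin n → Γ(X, ⊤)) (hqc : ∀ i, IsCompact (X.basicOpen (f i) : Set X))
    (g : Fin n → Γ(X, ⨆ i, X.basicOpen (f i)))
    (hg : (Finset.univ.sum fun i => g i *
      (X.presheaf.map (homOfLE (le_top : (⨆ i, X.basicOpen (f i)) ≤ ⊤)).op).hom (f i)) = 1)
    (G : X.Modules) [G.IsQuasicoherent] (q : ℕ) :
    IsZero ((K (fun i : ULift.{u} (Fin n) => X.basicOpen (f i.down)) G.presheaf).homology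
      (q + 1)) := by
  refine main' X n f (⨆ i, X.basicOpen (f i)) (fun i => le_iSup (fun i => X.basicOpen (f i)) i) ?_
    g hg G q
  rw [Opens.coe_iSup]
  exact isCompact_iUnion hqc

end Groth.Agent.H1.CechPU
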