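import Groth.Agent.Lib.Lead.Cech.TopH0
import Mathlib.Algebra.Homology.HomologySequence
import Mathlib.Algebra.Homology.HomologicalComplexAbelian
import Mathlib.CategoryTheory.Abelian.FunctorCategory
import Mathlib.CategoryTheory.Limits.FunctorCategory.EpiMono
import Mathlib.Algebra.Homology.ShortComplex.ShortExact
import Mathlib.CategoryTheory.Abelian.Images
import Mathlib.Algebra.Category.Grp.Zero

/-! # Vanishing of ordered Čech cohomology above the size of a finite cover

Induction on the size of a finite "support" `S ⊆ ι` of the presheaf, using the restriction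
morphism `P ⟶ P(- ⊓ U a)`, whose target has contractible Čech complex and whose kernel and
cokernel are supported on `S \ {a}`. -/

set_option autoImplicit false
universe u
open CategoryTheory Limits Opposite TopologicalSpace

namespace Groth.Agent.H1.CechVan

open Groth.Agent.LD.CH

section abelian

variable {A : Type*} [Category A] [Abelian A] {P Q : A} (ρ : P ⟶ Q)

lemma w1 : kernel.ι ρ ≫ Abelian.factorThruImage ρ = 0 := by
  rw [← cancel_mono (Abelian.image.ι ρ), Category.assoc, Abelian.image.fac, kernel.condition,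
    zero_comp]

lemma s1_shortExact :
    (ShortComplex.mk (kernel.ι ρ) (Abelian.factorThruImage ρ) (w1 ρ)).ShortExact := by
  haveI : Mono (ShortComplex.mk (kernel.ι ρ) (Abelian.factorThruImage ρ) (w1 ρ)).f :=
    inferInstanceAs (Mono (kernel.ι ρ))
  haveI : Epi (ShortComplex.mk (kernel.ι ρ) (Abelian.factorThruImage ρ) (w1 ρ)).g :=
    inferInstanceAs (Epi (Abelian.factorThruImage ρ))
  have hex : (ShortComplex.mk (kernel.ι ρ) (Abelian.factorThruImage ρ) (w1 ρ)).Exact := by
    apply ShortComplex.exact_of_f_is_kernel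
    refine KernelFork.IsLimit.ofι' _ _ (fun {B} k hk => ?_)
    have hk' : k ≫ Abelian.factorThruImage ρ = 0 := hk
    have hk2 : k ≫ ρ = 0 := by
      have : k ≫ ρ = (k ≫ Abelian.factorThruImage ρ) ≫ Abelian.image.ι ρ := by
        rw [Category.assoc, Abelian.image.fac]
      rw [this, hk', zero_comp]
    exact ⟨kernel.lift ρ k hk2, kernel.lift_ι _ _ _⟩
  exact ShortComplex.ShortExact.mk hex

lemma w2 : Abelian.image.ι ρ ≫ cokernel.π ρ = 0 := kernel.condition _

lemma s2_shortExact :
    (ShortComplex.mk (Abelian.image.ι ρ) (cokernel.π ρ) (w2 ρ)).ShortExact := by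
  haveI : Mono (ShortComplex.mk (Abelian.image.ι ρ) (cokernel.π ρ) (w2 ρ)).f :=
    inferInstanceAs (Mono (kernel.ι (cokernel.π ρ)))
  haveI : Epi (ShortComplex.mk (Abelian.image.ι ρ) (cokernel.π ρ) (w2 ρ)).g :=
    inferInstanceAs (Epi (cokernel.π ρ))
  have hex : (ShortComplex.mk (Abelian.image.ι ρ) (cokernel.π ρ) (w2 ρ)).Exact := by
    apply ShortComplex.exact_of_f_is_kernel
    exact KernelFork.IsLimit.ofι' _ _
      (fun {B} k hk => ⟨kernel.lift (cokernel.π ρ) k hk, kernel.lift_ι _ _ _⟩)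
  exact ShortComplex.ShortExact.mk hex

end abelian

variable {X : TopCat.{u}} {ι : Type u} (U : ι → Opens X)

/-- objectwise short exact sequences of presheaves give degreewise short exact sequences of
Čech complexes (after helper8's `CechU.shortExact_cech_eval`). -/
lemma shortExact_cech_eval (S : ShortComplex ((Opens X)ᵒᵖ ⥤ AddCommGrpCat.{u}))
    (hf : ∀ W, Function.Injective (S.f.app W))
    (hg : ∀ W, Function.Surjective (S.g.app W))
    (hex : ∀ W (y : S.X₂.obj W), S.g.app W y = 0 → ∃ x, S.f.app W x = y) (n : ℕ) :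
    (S.map (cechComplexFunctor U ⋙ HomologicalComplex.eval _ _ n)).ShortExact := by
  have hmono : Mono (S.map (cechComplexFunctor U ⋙ HomologicalComplex.eval _ _ n)).f := by
    rw [AddCommGrpCat.mono_iff_injective]
    intro x y hxy
    apply coch_ext
    intro a
    apply hf
    change ((cechComplexFunctor U).map S.f).f n x = ((cechComplexFunctor U).map S.f).f n y at hxy
    have := congr_fun (congr_arg (coch U S.X₂ n) hxy) a
    rw [coch_map, coch_map] at this
    exact this
  have hepi : Epi (S.map (cechComplexFunctor U ⋙ HomologicalComplex.eval _ _ n)).g := by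
    rw [AddCommGrpCat.epi_iff_surjective]
    intro y
    choose x hx using fun a => hg _ (coch U S.X₃ n y a)
    refine ⟨(coch U S.X₂ n).symm x, ?_⟩
    apply coch_ext
    intro a
    change coch U S.X₃ n (((cechComplexFunctor U).map S.g).f n _) a = _
    rw [coch_map, AddEquiv.apply_symm_apply, hx]
  refine ShortComplex.ShortExact.mk ?_
  rw [ShortComplex.ab_exact_iff]
  intro y hy
  change ((cechComplexFunctor U).map S.g).f n y = 0 at hy
  have h1 : ∀ a, S.g.app _ (coch U S.X₂ n y a) = 0 := by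
    intro a
    have := congr_fun (congr_arg (coch U S.X₃ n) hy) a
    rw [coch_map] at this
    rw [this, map_zero]
    rfl
  choose x hx using fun a => hex _ _ (h1 a)
  refine ⟨(coch U S.X₁ n).symm x, ?_⟩
  apply coch_ext
  intro a
  change coch U S.X₂ n (((cechComplexFunctor U).map S.f).f n _) a = _
  rw [coch_map, AddEquiv.apply_symm_apply, hx]

lemma cech_shortExact (S : ShortComplex ((Opens X)ᵒᵖ ⥤ AddCommGrpCat.{u}))
    (hS : S.ShortExact) : (S.map (cechComplexFunctor U)).ShortExact := by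
  apply HomologicalComplex.shortExact_of_degreewise_shortExact
  intro n
  have hev : ∀ W : (Opens X)ᵒᵖ,
      (S.map ((evaluation (Opens X)ᵒᵖ AddCommGrpCat.{u}).obj W)).ShortExact :=
    fun W => hS.map_of_exact _
  exact shortExact_cech_eval U S
    (fun W => (hev W).ab_injective_f)
    (fun W => (hev W).ab_surjective_g)
    (fun W y hy => (ShortComplex.ab_exact_iff _).1 (hev W).exact y hy) n

/-- if all the groups of sections occurring in degree `q` vanish, so does `Ȟ^q`. -/
lemma isZero_homology_of_isZero (P : (Opens X)ᵒᵖ ⥤ AddCommGrpCat.{u}) (q : ℕ)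
    (h : ∀ a : Fin (q+1) → ι, IsZero (P.obj (op (∏ᶜ (U ∘ a))))) :
    IsZero ((K U P).homology q) := by
  have hX : IsZero ((K U P).X q) := by
    haveI : Subsingleton ((K U P).X q) := by
      refine ⟨fun x y => coch_ext U P fun a => ?_⟩
      haveI := AddCommGrpCat.subsingleton_of_isZero (h a)
      exact Subsingleton.elim _ _
    exact AddCommGrpCat.isZero_of_subsingleton _
  rw [← HomologicalComplex.exactAt_iff_isZero_homology]
  exact ShortComplex.exact_of_isZero_X₂ _ hX

/-- `W ↦ W ⊓ V`. -/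
def capF (V : Opens X) : Opens X ⥤ Opens X where
  obj W := W ⊓ V
  map f := homOfLE (inf_le_inf_right V (leOfHom f))
  map_id _ := Subsingleton.elim _ _
  map_comp _ _ := Subsingleton.elim _ _

/-- the presheaf `W ↦ P (W ⊓ V)`. -/
abbrev PV (P : (Opens X)ᵒᵖ ⥤ AddCommGrpCat.{u}) (V : Opens X) :
    (Opens X)ᵒᵖ ⥤ AddCommGrpCat.{u} :=
  (capF V).op ⋙ P

/-- restriction `P ⟶ P (- ⊓ V)`. -/
def rho (P : (Opens X)ᵒᵖ ⥤ AddCommGrpCat.{u}) (V : Opens X) : P ⟶ PV P V where
  app W := P.map (homOfLE (inf_le_left : W.unop ⊓ V ≤ W.unop)).op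
  naturality W W' f := by
    change P.map f ≫ P.map _ = P.map _ ≫ P.map _
    rw [← P.map_comp, ← P.map_comp]
    exact congrArg P.map (Quiver.Hom.unop_inj (Subsingleton.elim _ _))

lemma isIso_rho_app (P : (Opens X)ᵒᵖ ⥤ AddCommGrpCat.{u}) (V W : Opens X) (h : W ≤ V) :
    IsIso ((rho P V).app (op W)) := by
  haveI : IsIso (homOfLE (inf_le_left : W ⊓ V ≤ W)) :=
    ⟨⟨homOfLE (le_inf le_rfl h), Subsingleton.elim _ _, Subsingleton.elim _ _⟩⟩
  change IsIso (P.map (homOfLE (inf_le_left : W ⊓ V ≤ W)).op)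
  infer_instance

/-- `P` vanishes on every open contained in a member of the family outside `S`. -/
def Supp (P : (Opens X)ᵒᵖ ⥤ AddCommGrpCat.{u}) (S : Finset ι) : Prop :=
  ∀ (W : Opens X) (i : ι), i ∉ S → W ≤ U i → IsZero (P.obj (op W))

section
variable [DecidableEq ι]

lemma supp_kernel (P : (Opens X)ᵒᵖ ⥤ AddCommGrpCat.{u}) (S : Finset ι) (a : ι)
    (hP : Supp U P S) : Supp U (kernel (rho P (U a))) (S.erase a) := by
  intro W i hi hW
  by_cases hia : i = a
  · subst hia
    haveI := isIso_rho_app P (U i) W hW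
    apply IsZero.of_mono_eq_zero ((kernel.ι (rho P (U i))).app (op W))
    have hc : (kernel.ι (rho P (U i))).app (op W) ≫ (rho P (U i)).app (op W) = 0 := by
      rw [← NatTrans.comp_app, kernel.condition]
      rfl
    exact (cancel_mono ((rho P (U i)).app (op W))).1 (by rw [hc, zero_comp])
  · have hiS : i ∉ S := fun h => hi (Finset.mem_erase.2 ⟨hia, h⟩)
    exact IsZero.of_mono ((kernel.ι (rho P (U a))).app (op W)) (hP W i hiS hW)

lemma supp_cokernel (P : (Opens X)ᵒᵖ ⥤ AddCommGrpCat.{u}) (S : Finset ι) (a : ι)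
    (hP : Supp U P S) : Supp U (cokernel (rho P (U a))) (S.erase a) := by
  intro W i hi hW
  by_cases hia : i = a
  · subst hia
    haveI := isIso_rho_app P (U i) W hW
    apply IsZero.of_epi_eq_zero ((cokernel.π (rho P (U i))).app (op W))
    have hc : (rho P (U i)).app (op W) ≫ (cokernel.π (rho P (U i))).app (op W) = 0 := by
      rw [← NatTrans.comp_app, cokernel.condition]
      rfl
    exact (cancel_epi ((rho P (U i)).app (op W))).1 (by rw [hc, comp_zero])
  · have hiS : i ∉ S := fun h => hi (Finset.mem_erase.2 ⟨hia, h⟩)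
    exact IsZero.of_epi ((cokernel.π (rho P (U a))).app (op W))
      (hP (W ⊓ U a) i hiS (inf_le_left.trans hW))

end

/-- restriction `Q T ⟶ Q T'` is bijective as soon as `T ⊓ V ≤ T' ≤ T`. -/
def Cone (Q : (Opens X)ᵒᵖ ⥤ AddCommGrpCat.{u}) (V : Opens X) : Prop :=
  ∀ (T T' : Opens X) (h : T' ≤ T), T ⊓ V ≤ T' → Function.Bijective (Q.map (homOfLE h).op)

lemma cone_PV (P : (Opens X)ᵒᵖ ⥤ AddCommGrpCat.{u}) (V : Opens X) : Cone (PV P V) V := by
  intro T T' h h2
  haveI : IsIso ((capF V).map (homOfLE h)) :=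
    ⟨⟨homOfLE (le_inf h2 inf_le_right), Subsingleton.elim _ _, Subsingleton.elim _ _⟩⟩
  haveI : IsIso ((PV P V).map (homOfLE h).op) := by
    change IsIso (P.map ((capF V).map (homOfLE h)).op)
    infer_instance
  exact ConcreteCategory.bijective_of_isIso _

variable (Q : (Opens X)ᵒᵖ ⥤ AddCommGrpCat.{u})

/-- the value of a cochain on a tuple, restricted to a smaller open. -/
noncomputable def ev {n : ℕ} (x : Coch U Q n) (b : Fin (n+1) → ι) (T : Opens X)
    (hT : T ≤ (∏ᶜ (U ∘ b) : Opens X)) : Q.obj (op T) :=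
  Q.map (homOfLE hT).op (x b)

lemma ev_congr {n : ℕ} (x : Coch U Q n) {b b' : Fin (n+1) → ι} (h : b = b') (T : Opens X)
    (hT : T ≤ (∏ᶜ (U ∘ b) : Opens X)) (hT' : T ≤ (∏ᶜ (U ∘ b') : Opens X)) :
    ev U Q x b T hT = ev U Q x b' T hT' := by
  subst h
  rfl

lemma ev_d {n : ℕ} (x : (K U Q).X n) (c : Fin (n+2) → ι) (T : Opens X)
    (hT : T ≤ (∏ᶜ (U ∘ c) : Opens X)) :
    ev U Q (coch U Q (n+1) ((K U Q).d n (n+1) x)) c T hT =
      ∑ i : Fin (n+2), (-1 : ℤ)^(i:ℕ) •
        ev U Q (coch U Q n x) (c ∘ i.succAbove) T (hT.trans (face U c i).le) := by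
  unfold ev
  rw [coch_d, map_sum]
  refine Finset.sum_congr rfl fun i _ => ?_
  rw [map_zsmul]
  congr 1
  exact res_res Q (face U c i) (homOfLE hT) _ _

lemma cons_comp_zero {α : Type*} {n : ℕ} (s : α) (T : Fin (n+1) → α) :
    (Fin.cons s T : Fin (n+2) → α) ∘ (0 : Fin (n+2)).succAbove = T := by
  funext k
  simp

lemma cons_comp_succ {α : Type*} {n : ℕ} (s : α) (T : Fin (n+2) → α) (j : Fin (n+2)) :
    (Fin.cons s T : Fin (n+3) → α) ∘ j.succ.succAbove = Fin.cons s (T ∘ j.succAbove) := by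
  funext k
  refine Fin.cases ?_ (fun k => ?_) k
  · simp
  · simp

lemma cons_le (a : ι) {m : ℕ} (b : Fin (m+1) → ι) :
    (∏ᶜ (U ∘ (Fin.cons a b : Fin (m+2) → ι)) : Opens X) ≤ ∏ᶜ (U ∘ b) :=
  le_prod U b _ fun k => by
    have := prod_le U (Fin.cons a b : Fin (m+2) → ι) k.succ
    rwa [Fin.cons_succ] at this

lemma inf_le_cons (a : ι) {m : ℕ} (b : Fin (m+1) → ι) :
    (∏ᶜ (U ∘ b) : Opens X) ⊓ U a ≤ ∏ᶜ (U ∘ (Fin.cons a b : Fin (m+2) → ι)) :=
  le_prod U _ _ fun k => by
    refine Fin.cases ?_ (fun k' => ?_) k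
    · rw [Fin.cons_zero]; exact inf_le_right
    · rw [Fin.cons_succ]; exact inf_le_left.trans (prod_le U b k')

lemma cons_face_le (a : ι) {n : ℕ} (c : Fin (n+2) → ι) (i : Fin (n+2)) :
    (∏ᶜ (U ∘ (Fin.cons a c : Fin (n+3) → ι)) : Opens X) ≤
      ∏ᶜ (U ∘ (Fin.cons a (c ∘ i.succAbove) : Fin (n+2) → ι)) := by
  have h := (face U (Fin.cons a c : Fin (n+3) → ι) i.succ).le
  rw [cons_comp_succ] at h
  exact h

lemma ev_d_cons {n : ℕ} (x : (K U Q).X (n+1)) (a : ι) (c : Fin (n+2) → ι) (T : Opens X)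
    (hT : T ≤ (∏ᶜ (U ∘ (Fin.cons a c : Fin (n+3) → ι)) : Opens X))
    (h1 : T ≤ (∏ᶜ (U ∘ c) : Opens X))
    (h2 : ∀ i : Fin (n+2),
      T ≤ (∏ᶜ (U ∘ (Fin.cons a (c ∘ i.succAbove) : Fin (n+2) → ι)) : Opens X)) :
    ev U Q (coch U Q (n+2) ((K U Q).d (n+1) (n+2) x)) (Fin.cons a c) T hT =
      ev U Q (coch U Q (n+1) x) c T h1 -
        ∑ i : Fin (n+2), (-1 : ℤ)^(i:ℕ) •
          ev U Q (coch U Q (n+1) x) (Fin.cons a (c ∘ i.succAbove)) T (h2 i) := by
  refine (ev_d U Q x (Fin.cons a c : Fin (n+3) → ι) T hT).trans ?_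
  rw [Fin.sum_univ_succ, sub_eq_add_neg, ← Finset.sum_neg_distrib]
  congr 1
  · simp only [Fin.val_zero, pow_zero, one_smul]
    exact ev_congr U Q _ (cons_comp_zero a c) T _ _
  · refine Finset.sum_congr rfl fun i _ => ?_
    simp only [Fin.val_succ, pow_succ, mul_neg_one, neg_smul]
    congr 2
    exact ev_congr U Q _ (cons_comp_succ a c i) T _ _

/-- if restriction to `U a` does not change `Q`, the Čech complex is acyclic in positive
degrees (contracting homotopy "add the index `a` in front"). -/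
theorem isZero_homology_of_cone (a : ι) (hQ : Cone Q (U a)) (n : ℕ) :
    IsZero ((K U Q).homology (n+1)) := by
  rw [isZero_homology_succ_iff]
  intro x hx
  choose yfun hyfun using fun b : Fin (n+1) → ι =>
    (hQ _ _ (cons_le U a b) (inf_le_cons U a b)).2 (coch U Q (n+1) x (Fin.cons a b))
  have key : ∀ (b : Fin (n+1) → ι) (T : Opens X)
      (hT : T ≤ (∏ᶜ (U ∘ (Fin.cons a b : Fin (n+2) → ι)) : Opens X))
      (hT' : T ≤ (∏ᶜ (U ∘ b) : Opens X)),
      ev U Q yfun b T hT' = ev U Q (coch U Q (n+1) x) (Fin.cons a b) T hT := by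
    intro b T hT hT'
    unfold ev
    rw [← hyfun b]
    exact (res_res Q (homOfLE (cons_le U a b)) (homOfLE hT) (homOfLE hT') (yfun b)).symm
  refine ⟨(coch U Q n).symm yfun, ?_⟩
  apply coch_ext
  intro c
  apply (hQ _ _ (cons_le U a c) (inf_le_cons U a c)).1
  change ev U Q (coch U Q (n+1) ((K U Q).d n (n+1) ((coch U Q n).symm yfun))) c _
      (cons_le U a c) = ev U Q (coch U Q (n+1) x) c _ (cons_le U a c)
  rw [ev_d, AddEquiv.apply_symm_apply]
  have h0 := ev_d_cons U Q x a c _ (le_refl _) (cons_le U a c) (cons_face_le U a c)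
  rw [hx, map_zero] at h0
  have hz : ev U Q (0 : Coch U Q (n+2)) (Fin.cons a c) _
      (le_refl (∏ᶜ (U ∘ (Fin.cons a c : Fin (n+3) → ι)) : Opens X)) = 0 := map_zero _
  rw [hz] at h0
  refine Eq.trans ?_ (sub_eq_zero.1 h0.symm).symm
  refine Finset.sum_congr rfl fun i _ => ?_
  congr 1
  exact key _ _ _ _

section
variable [DecidableEq ι]

theorem vanish : ∀ (m : ℕ) (P : (Opens X)ᵒᵖ ⥤ AddCommGrpCat.{u}) (S : Finset ι), S.card = m →
    Supp U P S → ∀ q, m ≤ q → IsZero ((K U P).homology q) := by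
  intro m
  induction m with
  | zero =>
    intro P S hS hP q _
    have hS0 : S = ∅ := Finset.card_eq_zero.1 hS
    apply isZero_homology_of_isZero U P q
    intro b
    exact hP _ (b 0) (by rw [hS0]; simp) (prod_le U b 0)
  | succ m ih =>
    intro P S hS hP q hq
    obtain ⟨a, ha⟩ : S.Nonempty := Finset.card_pos.1 (by omega)
    have hS' : (S.erase a).card = m := by rw [Finset.card_erase_of_mem ha]; omega
    have hK := ih (kernel (rho P (U a))) (S.erase a) hS' (supp_kernel U P S a hP)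
    have hC := ih (cokernel (rho P (U a))) (S.erase a) hS' (supp_cokernel U P S a hP)
    obtain ⟨q', rfl⟩ : ∃ q', q = q' + 1 := ⟨q - 1, by omega⟩
    have hV : IsZero ((K U (PV P (U a))).homology (q'+1)) :=
      isZero_homology_of_cone U _ a (cone_PV P (U a)) q'
    have hS2 := cech_shortExact U _ (s2_shortExact (rho P (U a)))
    have hI : IsZero ((K U (Abelian.image (rho P (U a)))).homology (q'+1)) :=
      (hS2.homology_exact₁ q' (q'+1) (by simp)).isZero_of_both_isZero (hC q' (by omega)) hV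
    have hS1 := cech_shortExact U _ (s1_shortExact (rho P (U a)))
    exact (hS1.homology_exact₂ (q'+1)).isZero_of_both_isZero (hK (q'+1) (by omega)) hI

end

theorem main (P : (Opens X)ᵒᵖ ⥤ AddCommGrpCat.{u}) [Finite ι] (q : ℕ) (hq : Nat.card ι ≤ q) :
    IsZero (((cechComplexFunctor U).obj P).homology q) := by
  classical
  haveI := Fintype.ofFinite ι
  refine vanish U (Fintype.card ι) P Finset.univ Finset.card_univ
    (fun W i hi _ => absurd (Finset.mem_univ i) hi) q ?_
  rwa [← Nat.card_eq_fintype_card]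

end Groth.Agent.H1.CechVan
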