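import Mathlib

/-! # Local algebra for Chevalley's theorem: a basis of the function field extension made of
global functions, with independence and a common denominator. -/

set_option autoImplicit false
open scoped nonZeroDivisors

namespace Groth.Agent.H1.Chev

attribute [local instance] FractionRing.liftAlgebra FractionRing.isScalarTower_liftAlgebra

theorem exists_basis_sections {R₀ A₀ A' K' : Type*} [CommRing R₀] [IsDomain R₀] [CommRing A₀]
    [IsDomain A₀] [CommRing A'] [IsDomain A'] [Field K']
    [Algebra A' K'] [IsFractionRing A' K'] [Algebra A₀ K'] [IsFractionRing A₀ K']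
    (φ : R₀ →+* A₀) (hφ : Function.Injective φ) (hfin : φ.Finite)
    (ρ : A' →+* A₀) (hρ : ∀ a, algebraMap A₀ K' (ρ a) = algebraMap A' K' a) :
    ∃ (r : ℕ) (b : Fin r → A'), 0 < r ∧
      (∀ t : Fin r → R₀, ∑ k, φ (t k) * ρ (b k) = 0 → ∀ k, t k = 0) ∧
      ∃ d : R₀, d ≠ 0 ∧ ∀ x : A₀, ∃ c : Fin r → R₀, φ d * x = ∑ k, φ (c k) * ρ (b k) := by
  classical
  letI : Algebra R₀ A₀ := φ.toAlgebra
  letI : Algebra R₀ K' := ((algebraMap A₀ K').comp φ).toAlgebra
  haveI : IsScalarTower R₀ A₀ K' := IsScalarTower.of_algebraMap_eq (fun _ => rfl)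
  have hinjA : Function.Injective (algebraMap A₀ K') := IsFractionRing.injective A₀ K'
  have hinjA' : Function.Injective (algebraMap A' K') := IsFractionRing.injective A' K'
  have hinj : Function.Injective (algebraMap R₀ K') := hinjA.comp hφ
  haveI : FaithfulSMul R₀ K' := (faithfulSMul_iff_algebraMap_injective R₀ K').mpr hinj
  haveI : FaithfulSMul R₀ A₀ := (faithfulSMul_iff_algebraMap_injective R₀ A₀).mpr hφ
  haveI : Module.Finite R₀ A₀ := hfin
  haveI : Algebra.IsIntegral R₀ A₀ := Algebra.IsIntegral.of_finite R₀ A₀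
  haveI : Algebra.IsAlgebraic R₀ A₀ := Algebra.IsIntegral.isAlgebraic
  haveI : Module.Finite (FractionRing R₀) K' := Module.Finite.of_isLocalization R₀ A₀ R₀⁰
  -- a basis
  let r := Module.finrank (FractionRing R₀) K'
  have hr : 0 < r := Module.finrank_pos
  let e : Module.Basis (Fin r) (FractionRing R₀) K' := Module.finBasis (FractionRing R₀) K'
  -- clear denominators in `A'`
  obtain ⟨s, hs⟩ := IsLocalization.exist_integer_multiples_of_finset A'⁰
    (Finset.univ.image (fun k => e k))
  have hs' : ∀ k, ∃ bk : A', algebraMap A' K' bk = algebraMap A' K' s * e k := by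
    intro k
    obtain ⟨bk, hbk⟩ := hs (e k) (Finset.mem_image.mpr ⟨k, Finset.mem_univ _, rfl⟩)
    exact ⟨bk, by rw [hbk, Algebra.smul_def]⟩
  choose b hb using hs'
  have hsK : algebraMap A' K' s ≠ 0 := by
    intro h0
    have h1 : (s : A') = 0 := hinjA' (h0.trans (map_zero _).symm)
    exact nonZeroDivisors.ne_zero s.2 h1
  have hcompat : ∀ t : R₀, algebraMap A₀ K' (φ t) = algebraMap R₀ K' t := fun _ => rfl
  have htower : ∀ (t : R₀) (y : K'), algebraMap R₀ (FractionRing R₀) t • y = algebraMap R₀ K' t * y := by
    intro t y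
    rw [Algebra.smul_def, ← IsScalarTower.algebraMap_apply]
  refine ⟨r, b, hr, ?_, ?_⟩
  · intro t ht k
    have h1 := congrArg (algebraMap A₀ K') ht
    rw [map_sum, map_zero] at h1
    have h2 : ∑ k, algebraMap R₀ (FractionRing R₀) (t k) • e k = 0 := by
      apply mul_left_cancel₀ hsK
      rw [mul_zero, Finset.mul_sum, ← h1]
      apply Finset.sum_congr rfl
      intro k _
      rw [map_mul, hρ, hb, hcompat, htower]
      ring
    have h3 := Fintype.linearIndependent_iff.mp e.linearIndependent _ h2 k
    exact (IsFractionRing.injective R₀ (FractionRing R₀)) (h3.trans (map_zero _).symm)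
  · -- generators of `A₀`
    obtain ⟨G, hG⟩ := (Module.Finite.fg_top : (⊤ : Submodule R₀ A₀).FG)
    -- coefficients
    let cf : A₀ → Fin r → FractionRing R₀ := fun x k => e.repr (algebraMap A₀ K' x / algebraMap A' K' s) k
    obtain ⟨d, hd⟩ := IsLocalization.exist_integer_multiples_of_finset R₀⁰
      ((G ×ˢ (Finset.univ : Finset (Fin r))).image (fun p => cf p.1 p.2))
    have hd' : ∀ x ∈ G, ∀ k, ∃ c : R₀, algebraMap R₀ (FractionRing R₀) c =
        algebraMap R₀ (FractionRing R₀) d * cf x k := by
      intro x hx k
      obtain ⟨c, hc⟩ := hd (cf x k) (Finset.mem_image.mpr ⟨(x, k), Finset.mem_product.mpr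
        ⟨hx, Finset.mem_univ _⟩, rfl⟩)
      exact ⟨c, by rw [hc, Algebra.smul_def]⟩
    have hd0 : (d : R₀) ≠ 0 := nonZeroDivisors.ne_zero d.2
    refine ⟨d, hd0, ?_⟩
    let N : Submodule R₀ A₀ := Submodule.span R₀ (Set.range (fun k => ρ (b k)))
    have key : ∀ x : A₀, (d : R₀) • x ∈ N := by
      have hle : (⊤ : Submodule R₀ A₀) ≤ N.comap (LinearMap.lsmul R₀ A₀ (d : R₀)) := by
        rw [← hG, Submodule.span_le]
        intro x hx
        change (d : R₀) • x ∈ N
        choose c hc using hd' x hx
        have h_each : ∀ k, algebraMap A₀ K' (c k • ρ (b k)) =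
            algebraMap R₀ K' d * (algebraMap A' K' s * cf x k • e k) := by
          intro k
          have h1 : algebraMap A₀ K' (c k • ρ (b k)) =
              algebraMap R₀ K' (c k) * (algebraMap A' K' s * e k) := by
            rw [Algebra.smul_def, map_mul, hρ, hb]
            rfl
          have h2 : algebraMap R₀ K' (c k) =
              algebraMap R₀ K' d * algebraMap (FractionRing R₀) K' (cf x k) := by
            rw [IsScalarTower.algebraMap_apply R₀ (FractionRing R₀) K' (c k), hc k, map_mul,
              ← IsScalarTower.algebraMap_apply]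
          rw [h1, h2, Algebra.smul_def (cf x k) (e k)]
          ring
        have hsum : (d : R₀) • x = ∑ k, c k • ρ (b k) := by
          apply hinjA
          rw [map_sum, Algebra.smul_def, map_mul]
          have hx1 : algebraMap A₀ K' x = algebraMap A' K' s *
              ∑ k, cf x k • e k := by
            have := e.sum_repr (algebraMap A₀ K' x / algebraMap A' K' s)
            rw [this]
            field_simp
          rw [hx1]
          change algebraMap R₀ K' d * _ = _
          rw [Finset.mul_sum, Finset.mul_sum]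
          apply Finset.sum_congr rfl
          intro k _
          exact (h_each k).symm
        rw [hsum]
        exact Submodule.sum_mem _ (fun k _ => Submodule.smul_mem _ _ (Submodule.subset_span ⟨k, rfl⟩))
      intro x
      exact hle (Submodule.mem_top : x ∈ ⊤)
    intro x
    obtain ⟨c, hc⟩ := (Submodule.mem_span_range_iff_exists_fun R₀).mp (key x)
    refine ⟨c, ?_⟩
    have h1 : φ (d : R₀) * x = (d : R₀) • x := (Algebra.smul_def (d : R₀) x).symm
    rw [h1, ← hc]
    apply Finset.sum_congr rfl
    intro k _
    exact Algebra.smul_def (c k) (ρ (b k))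

end Groth.Agent.H1.Chev
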