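import Mathlib
import Groth.Agent.Lib.Lead.SC.SerreCrit
import Groth.Agent.Lib.Lead.SC.AffineCrit
import Groth.Agent.Lib.Lead.SC.Leray
import Groth.Agent.Lib.Lead.SC.Affine

/-! # `H¹ = 0` : retracts, affine schemes, direct images along affine morphisms. -/

set_option autoImplicit false
universe u
open CategoryTheory Limits Opposite AlgebraicGeometry TopologicalSpace Abelian

namespace Groth.Agent.H1.Chev
open Groth.Agent.LD.SC Groth.Agent.LD

variable {X Y : Scheme.{u}}

theorem h1Zero_of_iso {M N : X.Modules} (e : M ≅ N) (h : H1Zero M) : H1Zero N :=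
  subsingleton_ext_of_iso ((SheafOfModules.toSheaf _).mapIso e) 1 h

theorem h1Zero_of_retract {F G : X.Modules} (i : F ⟶ G) (r : G ⟶ F) (hir : i ≫ r = 𝟙 F)
    (h : H1Zero G) : H1Zero F := by
  refine ⟨fun a b => ?_⟩
  suffices hz : ∀ ξ : Ext (ZU (JX X) (⊤ : X.Opens)) (Coh.toAb F) 1, ξ = 0 by rw [hz a, hz b]
  intro ξ
  have h1 : ξ = (ξ.comp (Ext.mk₀ ((toAbF X).map i)) (add_zero 1)).comp
      (Ext.mk₀ ((toAbF X).map r)) (add_zero 1) := by
    rw [Ext.comp_assoc_of_third_deg_zero, Ext.mk₀_comp_mk₀, ← Functor.map_comp, hir,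
      CategoryTheory.Functor.map_id, Ext.comp_mk₀_id]
  have h2 : ξ.comp (Ext.mk₀ ((toAbF X).map i)) (add_zero 1) = 0 := @Subsingleton.elim _ h _ _
  rw [h1, h2, Ext.zero_comp]

theorem h1Zero_of_isAffine [IsAffine X] (M : X.Modules) [M.IsQuasicoherent] : H1Zero M :=
  subsingleton_ext_of_isAffineOpen M 0 ⊤ (isAffineOpen_top X)

theorem h1Zero_pushforward_iff (g : X ⟶ Y) [IsAffineHom g] (H : X.Modules) [H.IsQuasicoherent] :
    H1Zero ((Scheme.Modules.pushforward g).obj H) ↔ H1Zero H := by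
  obtain ⟨e⟩ := leray g.base {V : Y.Opens | IsAffineOpen V} (Scheme.isBasis_affineOpens Y) 1
    (Coh.toAb H)
    (fun V hV i => subsingleton_ext_of_isAffineOpen H i (g ⁻¹ᵁ V) (IsAffineOpen.preimage hV g)) ⊤
  constructor
  · intro h
    exact e.toEquiv.subsingleton_congr.mpr h
  · intro h
    exact e.toEquiv.subsingleton_congr.mp h

end Groth.Agent.H1.Chev
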