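import Mathlib
import Groth.Agent.Lib.Lead.QC.StalkNbhd
import Groth.Agent.Lib.Lead.QC.SuppSES
import Groth.Agent.Lib.Lead.QC.Stalk
import Groth.Agent.Lib.Lead.QC.IntegralSub
import Groth.Agent.Lib.Helper5.ChowStalk.B
import Groth.Prelude.Def_CohB1

/-! # Support lemmas for Chevalley's theorem. -/

set_option autoImplicit false
universe u
open CategoryTheory Limits Opposite AlgebraicGeometry TopologicalSpace

namespace Groth.Agent.H1.Chev
open Groth.Agent.LD.QC Groth.Agent.H5.ChowStalk

variable {X : Scheme.{u}}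

/-- a function not vanishing at `x` which kills all sections over an affine neighbourhood kills
the stalk. -/
theorem notMem_support_of_smul_eq_zero (D : X.Modules) [D.IsQuasicoherent] {U : X.Opens}
    (hU : IsAffineOpen U) (x : X) (hx : x ∈ U) (a : Γ(X, U)) (ha : x ∈ X.basicOpen a)
    (hkill : ∀ m : Γ(D, U), a • m = 0) : x ∉ CohB1.support D := by
  intro hsupp
  have h1 := (mem_support_iff_not_subsingleton_stalk D hU x hx).mpr hsupp
  rw [Module.mem_support_iff_exists_annihilator] at h1
  obtain ⟨m, hm⟩ := h1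
  refine (mem_primeCompl_of_mem_basicOpen hU x hx a ha) (hm ?_)
  rw [Submodule.mem_annihilator_span_singleton]
  exact hkill m

theorem genericPoint_mem_of_nonempty [IsIntegral X] (U : X.Opens) [h : Nonempty U] :
    genericPoint X ∈ U :=
  ((genericPoint_spec X).mem_open_set_iff U.isOpen).mpr (by simpa using h)

theorem genericPoint_notMem_support [IsIntegral X] (D : X.Modules) [D.IsQuasicoherent]
    {U : X.Opens} (hU : IsAffineOpen U) [Nonempty U] (a : Γ(X, U)) (ha : a ≠ 0)
    (hkill : ∀ m : Γ(D, U), a • m = 0) : genericPoint X ∉ CohB1.support D :=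
  notMem_support_of_smul_eq_zero D hU (genericPoint X) (genericPoint_mem_of_nonempty U) a
    ((genericPoint_mem_basicOpen_iff a).mpr ha) hkill

/-- if the stalk of the cokernel vanishes, the stalk map is surjective. -/
theorem stalkMap_surjective_of_subsingleton_cokernel {G F : X.Modules} (φ : G ⟶ F) (x : X)
    (h : Subsingleton ((cokernel φ).presheaf.stalk x)) :
    Function.Surjective ((TopCat.Presheaf.stalkFunctor _ x).map φ.mapPresheaf).hom := by
  intro b
  let S : ShortComplex X.Modules :=
    ShortComplex.mk (Abelian.image.ι φ) (cokernel.π φ) (kernel.condition _)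
  have hS : S.ShortExact :=
    { exact := ShortComplex.exact_of_f_is_kernel S (kernelIsKernel _)
      mono_f := inferInstanceAs (Mono (Abelian.image.ι φ))
      epi_g := inferInstanceAs (Epi (cokernel.π φ)) }
  obtain ⟨a, ha⟩ := stalk_exact hS x b (@Subsingleton.elim _ h _ _)
  obtain ⟨c, hc⟩ := stalkMap_surjective_of_epi (Abelian.factorThruImage φ) x a
  refine ⟨c, ?_⟩
  obtain ⟨V, hxV, s, rfl⟩ := TopCat.Presheaf.exists_germ_eq G.presheaf c
  rw [stalkMap_germ] at hc ⊢
  rw [← ha, ← hc, stalkMap_germ]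
  have h1 : (Abelian.image.ι φ).app V ((Abelian.factorThruImage φ).app V s) = φ.app V s := by
    have := Abelian.image.fac φ
    exact congrArg (fun ψ : G ⟶ F => ψ.app V s) this
  exact congrArg _ h1.symm

theorem notMem_support_cokernel_of_fac {N E B : X.Modules} (ν : N ⟶ E) (iE : E ⟶ B) [Mono iE]
    (ι' : N ⟶ B) (h : ν ≫ iE = ι') (x : X) (hx : x ∉ CohB1.support (cokernel ι')) :
    x ∉ CohB1.support (cokernel ν) := by
  intro hs
  apply hs
  have h1 : Subsingleton ((cokernel ι').presheaf.stalk x) := not_not.mp hx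
  have hsurj := stalkMap_surjective_of_subsingleton_cokernel ι' x h1
  apply subsingleton_stalk_cokernel ν x
  intro y
  obtain ⟨z, hz⟩ := hsurj (((TopCat.Presheaf.stalkFunctor _ x).map iE.mapPresheaf).hom y)
  refine ⟨z, stalkMap_injective_of_mono iE x ?_⟩
  rw [← hz]
  obtain ⟨V, hxV, t, rfl⟩ := TopCat.Presheaf.exists_germ_eq N.presheaf z
  rw [stalkMap_germ, stalkMap_germ, stalkMap_germ]
  have h2 : iE.app V (ν.app V t) = ι'.app V t :=
    congrArg (fun ψ : N ⟶ B => ψ.app V t) h
  exact congrArg _ h2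

/-- stalks of a direct image along an embedding vanish where the stalks of the module vanish. -/
theorem notMem_support_pushforward {Z : Scheme.{u}} (i : Z ⟶ X) [IsPreimmersion i]
    (M : Z.Modules) (z : Z) (hz : z ∉ CohB1.support M) :
    i z ∉ CohB1.support ((Scheme.Modules.pushforward i).obj M) := by
  intro hsupp
  apply hsupp
  have hz' : Subsingleton (M.presheaf.stalk z) := not_not.mp hz
  apply subsingleton_of_forall_eq_zero
  intro c
  obtain ⟨V, hV, m, rfl⟩ := TopCat.Presheaf.germ_exist _ c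
  have hzV : z ∈ i ⁻¹ᵁ V := hV
  have h0 : M.presheaf.germ (i ⁻¹ᵁ V) z hzV (show Γ(M, i ⁻¹ᵁ V) from m) = 0 :=
    Subsingleton.elim _ _
  obtain ⟨W, hW, hzW, hres⟩ := exists_res_eq_zero_of_germ_eq_zero M z hzV _ h0
  obtain ⟨W', hW'o, hW'eq⟩ := i.isEmbedding.isInducing.isOpen_iff.mp W.2
  let W'' : X.Opens := ⟨W', hW'o⟩ ⊓ V
  have hizW' : i z ∈ W' := by
    have : z ∈ i ⁻¹' W' := by rw [hW'eq]; exact hzW
    exact this
  have hiz : i z ∈ W'' := ⟨hizW', hV⟩
  have hle : i ⁻¹ᵁ W'' ≤ W := by
    intro y hy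
    have : y ∈ i ⁻¹' W' := hy.1
    rw [hW'eq] at this
    exact this
  rw [← germ_res _ (i z) (inf_le_right : W'' ≤ V) hiz m]
  have h1 : ((Scheme.Modules.pushforward i).obj M).presheaf.map
      (homOfLE (inf_le_right : W'' ≤ V)).op m = 0 := by
    have h2 : ((Scheme.Modules.pushforward i).obj M).presheaf.map
        (homOfLE (inf_le_right : W'' ≤ V)).op m =
        M.presheaf.map (homOfLE hle).op (M.presheaf.map (homOfLE hW).op
          (show Γ(M, i ⁻¹ᵁ V) from m)) := by
      rw [res_res]
      rfl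
    rw [h2, hres]
    exact map_zero _
  rw [h1]
  exact map_zero _

end Groth.Agent.H1.Chev
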