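import Mathlib
import Groth.Agent.Lib.Helper1.ChevAlg
import Groth.Agent.Lib.Helper1.ChevCoh
import Groth.Agent.Lib.Helper1.ChevLoc
import Groth.Agent.Lib.Lead.QC.SigmaFin
import Groth.Agent.Lib.Lead.QC.AnnIdeal
import Groth.Agent.Lib.Lead.QC.IdealMod
import Groth.Agent.Lib.Lead.QC.IdealComap
import Groth.Agent.Lib.Lead.QC.PushFin
import Groth.Agent.Lib.Lead.QC.QuotTorsion
import Groth.Agent.Lib.Lead.QC.SerreSupp
import Groth.Agent.Lib.Lead.QC.HomAffine
import Groth.Agent.Lib.Lead.QC.InvBasis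
import Groth.Agent.Lib.Lead.QC.FinType

/-! # Chevalley's theorem: the core step on an integral scheme. -/

set_option autoImplicit false
universe u
open CategoryTheory Limits Opposite AlgebraicGeometry TopologicalSpace

namespace Groth.Agent.H1.Chev
open Groth.Agent.LD.QC Groth.Agent.LD.SC Groth.Agent.H5.ChowStalk

section General
variable {X : Scheme.{u}}

lemma sum_app_apply' {M N : X.Modules} {ι : Type*} (s : Finset ι) (φ : ι → (M ⟶ N)) (U : X.Opens)
    (x : Γ(M, U)) : (∑ i ∈ s, φ i).app U x = ∑ i ∈ s, (φ i).app U x := by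
  classical
  induction s using Finset.induction_on with
  | empty =>
    rw [Finset.sum_empty, Finset.sum_empty]
    rfl
  | insert a s ha ih =>
    rw [Finset.sum_insert ha, Finset.sum_insert ha, ← ih]
    rfl

theorem isCoh_unitMod' (X : Scheme.{u}) : Coh.IsCoh (unitMod X) := by
  refine ⟨inferInstance, ?_⟩
  rw [isFiniteType_iff_finite_sections]
  intro U hU
  exact (inferInstance : Module.Finite Γ(X, U) Γ(X, U))

end General

variable {Z Z' : Scheme.{u}} (g : Z' ⟶ Z)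

/-- `B = g_* O_{Z'}`. -/
noncomputable abbrev BB : Z.Modules := (Scheme.Modules.pushforward g).obj (unitMod Z')

/-- `O_Z → B`, `1 ↦ b`. -/
noncomputable def beta (b : Γ(Z', ⊤)) : unitMod Z ⟶ BB g :=
  homOfSection (BB g) (show Γ(BB g, ⊤) from b)

lemma beta_app (b : Γ(Z', ⊤)) (U : Z.Opens) (c : Γ(Z, U)) :
    (beta g b).app U c = (show Γ(BB g, U) from
      g.app U c * Z'.presheaf.map (homOfLE (le_top : g ⁻¹ᵁ U ≤ ⊤)).op b) := by
  rw [beta, unitHom_app, homOfSection_app_one]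
  rfl


section Core
theorem core [IsIntegral Z] [IsLocallyNoetherian Z] [IsIntegral Z'] [IsAffine Z'] [IsFinite g]
    [Surjective g]
    (IH : ∀ M : Z.Modules, Coh.IsCoh M → genericPoint Z ∉ CohB1.support M → H1Zero M)
    (T : Z.Modules) (ιT : T ⟶ unitMod Z) [Mono ιT] [hT : T.IsQuasicoherent] : H1Zero T := by
  classical
  by_cases hT0 : IsZero T
  · exact h1Zero_of_isZero T hT0
  obtain ⟨U₀, hU₀, a₀, ha₀⟩ := exists_affine_section_ne_zero T hT0
  haveI hne : Nonempty U₀ := by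
    by_contra hemp
    rw [not_nonempty_iff] at hemp
    apply ha₀
    exact section_eq_zero_of_le_bot T (fun x hx => (hemp.false ⟨x, hx⟩).elim) a₀
  haveI hne' : Nonempty (g ⁻¹ᵁ U₀ : Z'.Opens) := by
    obtain ⟨⟨x, hx⟩⟩ := hne
    obtain ⟨y, rfl⟩ := g.surjective x
    exact ⟨⟨y, hx⟩⟩
  have hV₀ : IsAffineOpen (g ⁻¹ᵁ U₀) := hU₀.preimage g
  set t₀ : Γ(Z, U₀) := ιT.app U₀ a₀ with ht₀
  have ht₀0 : t₀ ≠ 0 := fun h => ha₀ (mono_app ιT U₀ (h.trans (map_zero _).symm))
  -- the algebra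
  let φ : Γ(Z, U₀) →+* Γ(Z', g ⁻¹ᵁ U₀) := (g.app U₀).hom
  let ρ : Γ(Z', ⊤) →+* Γ(Z', g ⁻¹ᵁ U₀) :=
    (Z'.presheaf.map (homOfLE (le_top : g ⁻¹ᵁ U₀ ≤ ⊤)).op).hom
  have hφinj : Function.Injective φ := by
    rw [injective_iff_map_eq_zero]
    intro s hs
    by_contra hs0
    have h1 : genericPoint Z ∈ Z.basicOpen s := (genericPoint_mem_basicOpen_iff s).mpr hs0
    obtain ⟨y, hy⟩ := g.surjective (genericPoint Z)
    have h2 : y ∈ g ⁻¹ᵁ Z.basicOpen s := by rw [← hy] at h1; exact h1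
    rw [Scheme.preimage_basicOpen] at h2
    have h3 : Z'.basicOpen (g.app U₀ s) = ⊥ := by
      have : g.app U₀ s = 0 := hs
      rw [this, Scheme.basicOpen_zero]
    rw [h3] at h2
    exact h2
  have hφfin : φ.Finite := g.finite_app U₀ hU₀
  haveI : Nonempty (⊤ : Z'.Opens) := ⟨⟨(Nonempty.some hne').1, trivial⟩⟩
  haveI := functionField_isFractionRing_of_isAffineOpen (X := Z') (⊤ : Z'.Opens) (isAffineOpen_top Z')
  haveI := functionField_isFractionRing_of_isAffineOpen (X := Z') (g ⁻¹ᵁ U₀) hV₀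
  have hρ : ∀ a, algebraMap Γ(Z', g ⁻¹ᵁ U₀) Z'.functionField (ρ a) =
      algebraMap Γ(Z', ⊤) Z'.functionField a := by
    intro a
    exact TopCat.Presheaf.germ_res_apply Z'.presheaf (homOfLE le_top) _ _ a
  obtain ⟨r, b, hr, hind, d, hd, hspan⟩ :=
    exists_basis_sections (K' := Z'.functionField) φ hφinj hφfin ρ hρ
  -- `T^r → B`
  let Tr : Z.Modules := ∐ fun _ : Fin r => T
  let α : Tr ⟶ BB g := Sigma.desc (fun k => ιT ≫ beta g (b k))
  have hα_ι : ∀ (k : Fin r) (U : Z.Opens) (t : Γ(T, U)),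
      α.app U ((Sigma.ι (fun _ : Fin r => T) k).app U t) =
        (show Γ(BB g, U) from g.app U (ιT.app U t) *
          Z'.presheaf.map (homOfLE (le_top : g ⁻¹ᵁ U ≤ ⊤)).op (b k)) := by
    intro k U t
    have h1 : Sigma.ι (fun _ : Fin r => T) k ≫ α = ιT ≫ beta g (b k) := Sigma.ι_desc _ _
    have h2 := congrArg (fun ψ : T ⟶ BB g => ψ.app U t) h1
    refine h2.trans ?_
    exact beta_app g (b k) U (ιT.app U t)
  have hdecomp : ∀ (U : Z.Opens) (x : Γ(Tr, U)),
      x = ∑ k, (Sigma.ι (fun _ : Fin r => T) k).app U ((sigmaProj T r k).app U x) := by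
    intro U x
    have h1 := congrArg (fun ψ : Tr ⟶ Tr => ψ.app U x) (sigmaProj_total T r)
    simp only [sum_app_apply'] at h1
    exact h1.symm
  have hαsum : ∀ (x : Γ(Tr, U₀)), (show Γ(Z', g ⁻¹ᵁ U₀) from α.app U₀ x) =
      ∑ k, φ (ιT.app U₀ ((sigmaProj T r k).app U₀ x)) * ρ (b k) := by
    intro x
    have h1 : α.app U₀ x = ∑ k, α.app U₀ ((Sigma.ι (fun _ : Fin r => T) k).app U₀
        ((sigmaProj T r k).app U₀ x)) := by
      conv_lhs => rw [hdecomp U₀ x]
      exact map_sum (α.app U₀).hom _ _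
    rw [h1]
    exact Finset.sum_congr rfl (fun k _ => hα_ι k U₀ _)
  have hker0 : ∀ m : Γ(kernel α, U₀), m = 0 := by
    intro m
    apply mono_app (kernel.ι α) U₀
    rw [map_zero]
    have hx0 : α.app U₀ ((kernel.ι α).app U₀ m) = 0 := kernel_ι_app_comp α U₀ m
    have h3 := hind (fun k => ιT.app U₀ ((sigmaProj T r k).app U₀ ((kernel.ι α).app U₀ m)))
      ((hαsum _).symm.trans hx0)
    rw [hdecomp U₀ ((kernel.ι α).app U₀ m)]
    apply Finset.sum_eq_zero
    intro k _
    have : (sigmaProj T r k).app U₀ ((kernel.ι α).app U₀ m) = 0 :=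
      mono_app ιT U₀ ((h3 k).trans (map_zero _).symm)
    rw [this, map_zero]
  have hUc : Coh.IsCoh (unitMod Z) := isCoh_unitMod' Z
  have hTc : Coh.IsCoh T := isCoh_of_mono ιT hT hUc
  have hTrc : Coh.IsCoh Tr := ⟨qc_sigma_fin T r, isFiniteType_sigma_fin T hTc.2 r⟩
  have hBc : Coh.IsCoh (BB g) :=
    ⟨qc_pushforward g _, isFiniteType_pushforward_of_isFinite g _ (isCoh_unitMod' Z').2⟩
  have hK : H1Zero (kernel α) := by
    have hc := isCoh_kernel α hTrc hBc
    haveI := hc.1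
    exact IH _ hc (genericPoint_notMem_support (kernel α) hU₀ (1 : Γ(Z, U₀)) one_ne_zero
      (fun m => by rw [hker0 m, smul_zero]))
  -- the cokernel and its annihilator
  have hCc : Coh.IsCoh (cokernel α) := isCoh_cokernel α hTrc hBc
  haveI hCq : (cokernel α).IsQuasicoherent := hCc.1
  let J := annIdeal (cokernel α) hCc.2
  have hπα : ∀ (U : Z.Opens) (x : Γ(Tr, U)), (cokernel.π α).app U (α.app U x) = 0 := by
    intro U x
    have h1 := congrArg (fun ψ : Tr ⟶ cokernel α => ψ.app U x) (cokernel.condition α)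
    exact h1
  have hsmulB : ∀ (U : Z.Opens) (c : Γ(Z, U)) (x : Γ(BB g, U)),
      c • x = (show Γ(BB g, U) from g.app U c * (show Γ(Z', g ⁻¹ᵁ U) from x)) := fun _ _ _ => rfl
  have haJ : t₀ * d ∈ J.ideal ⟨U₀, hU₀⟩ := by
    rw [annIdeal_ideal, Module.mem_annihilator]
    intro c
    obtain ⟨x, rfl⟩ := epi_app_affine hBc.1 hCc.1 (cokernel.π α) hU₀ c
    rw [← Scheme.Modules.Hom.app_smul]
    obtain ⟨cc, hcc⟩ := hspan (show Γ(Z', g ⁻¹ᵁ U₀) from x)
    have hx : (t₀ * d) • x =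
        α.app U₀ (∑ k, (Sigma.ι (fun _ : Fin r => T) k).app U₀ (cc k • a₀)) := by
      have h1 : α.app U₀ (∑ k, (Sigma.ι (fun _ : Fin r => T) k).app U₀ (cc k • a₀)) =
          ∑ k, α.app U₀ ((Sigma.ι (fun _ : Fin r => T) k).app U₀ (cc k • a₀)) :=
        map_sum (α.app U₀).hom _ _
      have h2 : ∀ k, α.app U₀ ((Sigma.ι (fun _ : Fin r => T) k).app U₀ (cc k • a₀)) =
          (show Γ(BB g, U₀) from φ (cc k * t₀) * ρ (b k)) := by
        intro k
        rw [hα_ι, Scheme.Modules.Hom.app_smul]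
        rfl
      rw [h1, Finset.sum_congr rfl (fun k _ => h2 k), hsmulB]
      change φ (t₀ * d) * (show Γ(Z', g ⁻¹ᵁ U₀) from x) = ∑ k, φ (cc k * t₀) * ρ (b k)
      rw [map_mul, mul_assoc, hcc, Finset.mul_sum]
      apply Finset.sum_congr rfl
      intro k _
      rw [map_mul]
      ring
    rw [hx]
    exact hπα U₀ _
  have ha0 : t₀ * d ≠ 0 := mul_ne_zero ht₀0 hd
  -- the `B`-submodule `J B`
  let I' := J.comap g
  let N' : Z.Modules := (Scheme.Modules.pushforward g).obj (ClSub.idealMod I')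
  let ι' : N' ⟶ BB g := (Scheme.Modules.pushforward g).map (ClSub.idealModι I')
  have hI'ideal : ∀ (U : Z.Opens) (hU : IsAffineOpen U),
      I'.ideal ⟨g ⁻¹ᵁ U, hU.preimage g⟩ = (J.ideal ⟨U, hU⟩).map (g.app U).hom := by
    intro U hU
    have h1 := ideal_comap_of_le J g ⟨U, hU⟩ ⟨g ⁻¹ᵁ U, hU.preimage g⟩ le_rfl
    rw [h1, Scheme.Hom.appLE_eq_app]
  have hι'π : ι' ≫ cokernel.π α = 0 := by
    apply hom_ext_affine
    intro U x
    have hmem : (ClSub.idealModι I').app (g ⁻¹ᵁ U.1) (show Γ(ClSub.idealMod I', g ⁻¹ᵁ U.1) from x) ∈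
        I'.ideal ⟨g ⁻¹ᵁ U.1, U.2.preimage g⟩ :=
      (exists_idealModι_app_eq_iff I' ⟨g ⁻¹ᵁ U.1, U.2.preimage g⟩ _).mp ⟨_, rfl⟩
    rw [hI'ideal U.1 U.2] at hmem
    have key : ∀ s ∈ (J.ideal ⟨U.1, U.2⟩).map (g.app U.1).hom,
        ∀ y : Γ(Z', g ⁻¹ᵁ U.1), (cokernel.π α).app U.1 (show Γ(BB g, U.1) from y * s) = 0 := by
      intro s hs
      refine Submodule.span_induction ?_ ?_ ?_ ?_ hs
      · rintro _ ⟨j, hj, rfl⟩ y
        have h1 : (show Γ(BB g, U.1) from y * (g.app U.1).hom j) =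
            j • (show Γ(BB g, U.1) from y) := by
          rw [hsmulB]
          exact mul_comm (y : Γ(Z', g ⁻¹ᵁ U.1)) ((g.app U.1).hom j)
        rw [h1, Scheme.Modules.Hom.app_smul]
        have hj' : j ∈ Module.annihilator Γ(Z, U.1) Γ(cokernel α, U.1) := hj
        exact Module.mem_annihilator.mp hj' _
      · intro y
        rw [mul_zero]
        exact map_zero _
      · intro s s' _ _ hs hs' y
        rw [mul_add]
        exact (map_add _ _ _).trans (by rw [hs y, hs' y, add_zero])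
      · intro y' s _ hs y
        have : y * (y' • s) = (y * y') * s := by rw [smul_eq_mul, mul_assoc]
        rw [this]
        exact hs _
    have h2 := key _ hmem 1
    rw [one_mul] at h2
    exact h2
  let E := Abelian.image α
  let iE : E ⟶ BB g := Abelian.image.ι α
  let ν : N' ⟶ E := kernel.lift (cokernel.π α) ι' hι'π
  have hν : ν ≫ iE = ι' := kernel.lift_ι _ _ _
  haveI : Mono ι' := by
    haveI : Mono (ClSub.idealModι I') := inferInstance
    exact inferInstanceAs (Mono ((Scheme.Modules.pushforward g).map (ClSub.idealModι I')))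
  haveI : Mono ν := mono_of_mono_fac hν
  have hN'q : N'.IsQuasicoherent := qc_pushforward g _
  have hN' : H1Zero N' := (h1Zero_pushforward_iff g _).mpr (h1Zero_of_isAffine _)
  have hEc : Coh.IsCoh E := isCoh_kernel _ hBc hCc
  have hN'c : Coh.IsCoh N' := isCoh_of_mono ι' hN'q hBc
  -- the quotient `E / N'` vanishes at the generic point
  have hDq : (cokernel ι').IsQuasicoherent := (isCoh_cokernel ι' hN'c hBc).1
  have hgen' : genericPoint Z ∉ CohB1.support (cokernel ι') := by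
    haveI := hDq
    refine genericPoint_notMem_support (cokernel ι') hU₀ (t₀ * d) ha0 ?_
    intro m
    obtain ⟨x, rfl⟩ := epi_app_affine hBc.1 hDq (cokernel.π ι') hU₀ m
    rw [← Scheme.Modules.Hom.app_smul, hsmulB]
    have hmem : g.app U₀ (t₀ * d) * (show Γ(Z', g ⁻¹ᵁ U₀) from x) ∈
        I'.ideal ⟨g ⁻¹ᵁ U₀, hV₀⟩ := by
      rw [hI'ideal U₀ hU₀]
      exact Ideal.mul_mem_right _ _ (Ideal.mem_map_of_mem _ haJ)
    obtain ⟨t, ht⟩ := (exists_idealModι_app_eq_iff I' ⟨g ⁻¹ᵁ U₀, hV₀⟩ _).mpr hmem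
    have h1 : (show Γ(BB g, U₀) from g.app U₀ (t₀ * d) * (show Γ(Z', g ⁻¹ᵁ U₀) from x)) =
        ι'.app U₀ (show Γ(N', U₀) from t) := ht.symm
    rw [h1]
    exact congrArg (fun ψ : N' ⟶ cokernel ι' => ψ.app U₀ (show Γ(N', U₀) from t))
      (cokernel.condition ι')
  have hgen : genericPoint Z ∉ CohB1.support (cokernel ν) :=
    notMem_support_cokernel_of_fac ν iE ι' hν (genericPoint Z) hgen'
  have hD : H1Zero (cokernel ν) := IH _ (isCoh_cokernel ν hN'c hEc) hgen
  have hE : H1Zero E := by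
    let S : ShortComplex Z.Modules := ShortComplex.mk ν (cokernel.π ν) (cokernel.condition ν)
    have hS : S.ShortExact :=
      { exact := ShortComplex.exact_of_g_is_cokernel S (cokernelIsCokernel _)
        mono_f := inferInstanceAs (Mono ν)
        epi_g := inferInstanceAs (Epi (cokernel.π ν)) }
    exact h1Zero_of_shortExact hS hN' hD
  have hTr : H1Zero Tr := by
    have hzero : kernel.ι α ≫ Abelian.factorThruImage α = 0 := by
      rw [← cancel_mono (Abelian.image.ι α), Category.assoc, Abelian.image.fac, kernel.condition,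
        zero_comp]
    have hses : (ShortComplex.mk (kernel.ι α) (Abelian.factorThruImage α) hzero).ShortExact :=
      { exact := by
          apply ShortComplex.exact_of_f_is_kernel
          exact isKernelOfComp (Abelian.image.ι α) α (kernelIsKernel α) hzero (Abelian.image.fac α)
        mono_f := inferInstanceAs (Mono (kernel.ι α))
        epi_g := inferInstanceAs (Epi (Abelian.factorThruImage α)) }
    exact h1Zero_of_shortExact hses hK hE
  have hret : Sigma.ι (fun _ : Fin r => T) ⟨0, hr⟩ ≫ sigmaProj T r ⟨0, hr⟩ = 𝟙 T := by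
    rw [sigmaProj, Sigma.ι_desc, if_pos rfl]
  exact h1Zero_of_retract _ _ hret hTr

end Core

end Groth.Agent.H1.Chev
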