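import Mathlib
import Groth.Agent.Lib.Lead.QC.IntegralSub
import Groth.Agent.Lib.Lead.QC.QuotSupp
import Groth.Agent.Lib.Lead.QC.PushFin
import Groth.Agent.Lib.Lead.QC.StalkNbhd
import Groth.Agent.Lib.Lead.QC.Extend
import Groth.Agent.Lib.Lead.QC.Support
import Groth.Agent.Lib.Helper5.ChowStalk.B
import Groth.Prelude.Def_CohB1

/-! # Finite surjective morphisms: the module `f_* j_* O_{Z'}` for an integral closed subscheme
`Z'` (S0820). -/

set_option autoImplicit false
universe u
open CategoryTheory Limits Opposite AlgebraicGeometry TopologicalSpace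

namespace Groth.Agent.H1.FinSurj
open Groth.Agent.LD.QC Groth.Agent.H5.ChowStalk

variable {X Y Z' : Scheme.{u}} (f : Y ⟶ X) (j : Z' ⟶ Y) [IsIntegral Z']

/-- the module `f_* j_* O_{Z'}`. -/
noncomputable abbrev pp : X.Modules :=
  (Scheme.Modules.pushforward f).obj ((Scheme.Modules.pushforward j).obj (unitMod Z'))

lemma map_mem_closure (y : Z') : f (j y) ∈ closure ({f (j (genericPoint Z'))} : Set X) := by
  have h1 : y ∈ closure ({genericPoint Z'} : Set Z') := by
    rw [(genericPoint_spec Z').def]; trivial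
  have hc : Continuous (fun y : Z' => f (j y)) := f.continuous.comp j.continuous
  have := image_closure_subset_closure_image hc (s := {genericPoint Z'}) ⟨y, h1, rfl⟩
  rwa [Set.image_singleton] at this

theorem smul_eq_zero_of_mem_maximalIdeal
    (a : X.presheaf.stalk (f (j (genericPoint Z'))))
    (ha : a ∈ IsLocalRing.maximalIdeal (X.presheaf.stalk (f (j (genericPoint Z')))))
    (m : ↑((pp f j).presheaf.stalk (f (j (genericPoint Z'))))) : a • m = 0 := by
  obtain ⟨V, hV, s, hs⟩ := TopCat.Presheaf.germ_exist X.presheaf a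
  obtain ⟨V', hV', n, hn⟩ := TopCat.Presheaf.germ_exist (pp f j).presheaf m
  let W : X.Opens := V ⊓ V'
  have hW : f (j (genericPoint Z')) ∈ W := ⟨hV, hV'⟩
  set s' := X.presheaf.map (homOfLE (inf_le_left : W ≤ V)).op s with hs'
  set n' := (pp f j).presheaf.map (homOfLE (inf_le_right : W ≤ V')).op n with hn'
  have ea : a = X.presheaf.germ W _ hW s' := by
    rw [hs', sgerm_res]; exact hs.symm
  have em : m = (pp f j).presheaf.germ W _ hW n' := by
    rw [hn', germ_res]; exact hn.symm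
  have hs0 : j.app (f ⁻¹ᵁ W) (f.app W s') = 0 := by
    by_contra hne
    have h1 := (genericPoint_mem_basicOpen_iff (j.app (f ⁻¹ᵁ W) (f.app W s'))).mpr hne
    rw [← Scheme.preimage_basicOpen, ← Scheme.preimage_basicOpen] at h1
    have h2 : f (j (genericPoint Z')) ∈ X.basicOpen s' := h1
    replace h2 := (Scheme.mem_basicOpen X s' _ hW).mp h2
    have h3 : X.presheaf.germ W _ hW s' ∈ IsLocalRing.maximalIdeal _ := by
      rw [← ea]; exact ha
    exact (IsLocalRing.mem_maximalIdeal _).mp h3 h2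
  have hsm : s' • n' = (show Γ(pp f j, W) from
      (j.app (f ⁻¹ᵁ W) (f.app W s')) • (show Γ(unitMod Z', j ⁻¹ᵁ f ⁻¹ᵁ W) from n')) := rfl
  rw [ea, em]
  refine (germ_smul (pp f j) _ W hW s' n').symm.trans ?_
  rw [hsm, hs0, zero_smul]
  exact map_zero _

theorem mem_support : f (j (genericPoint Z')) ∈ CohB1.support (pp f j) := by
  change ¬ Subsingleton _
  intro hsub
  have h0 : (pp f j).presheaf.germ ⊤ (f (j (genericPoint Z')))
      (show f (j (genericPoint Z')) ∈ (⊤ : X.Opens) from trivial)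
      (show Γ(pp f j, ⊤) from (1 : Γ(Z', j ⁻¹ᵁ f ⁻¹ᵁ ⊤))) = 0 :=
    Subsingleton.elim _ _
  obtain ⟨W, hW, hξW, hres⟩ := exists_res_eq_zero_of_germ_eq_zero (pp f j) (V := ⊤)
    (f (j (genericPoint Z'))) (show f (j (genericPoint Z')) ∈ (⊤ : X.Opens) from trivial) _ h0
  have h1 : (1 : Γ(Z', j ⁻¹ᵁ f ⁻¹ᵁ W)) = 0 := by
    have : (pp f j).presheaf.map (homOfLE hW).op
        (show Γ(pp f j, ⊤) from (1 : Γ(Z', j ⁻¹ᵁ f ⁻¹ᵁ ⊤)))
        = (show Γ(pp f j, W) from (1 : Γ(Z', j ⁻¹ᵁ f ⁻¹ᵁ W))) :=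
      map_one (Z'.presheaf.map (homOfLE (show j ⁻¹ᵁ f ⁻¹ᵁ W ≤ j ⁻¹ᵁ f ⁻¹ᵁ ⊤ from
        fun _ _ => trivial)).op).hom
    rw [this] at hres
    exact hres
  have h2 := (genericPoint_mem_basicOpen_iff (1 : Γ(Z', j ⁻¹ᵁ f ⁻¹ᵁ W))).mp (by
    rw [Scheme.basicOpen_one]; exact hξW)
  exact h2 h1

theorem notMem_support_of_notMem_closure (x : X)
    (hx : x ∉ closure ({f (j (genericPoint Z'))} : Set X)) :
    x ∉ CohB1.support (pp f j) := by
  let O : X.Opens := ⟨(closure ({f (j (genericPoint Z'))} : Set X))ᶜ, isClosed_closure.isOpen_compl⟩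
  intro hsupp
  apply hsupp
  apply subsingleton_of_forall_eq_zero
  intro g
  obtain ⟨V, hxV, m, rfl⟩ := TopCat.Presheaf.germ_exist (pp f j).presheaf g
  have hxVO : x ∈ V ⊓ O := ⟨hxV, hx⟩
  rw [← germ_res (pp f j) x (inf_le_left : V ⊓ O ≤ V) hxVO m]
  have hbot : j ⁻¹ᵁ f ⁻¹ᵁ (V ⊓ O) ≤ ⊥ := by
    intro y hy
    exact absurd (map_mem_closure f j y) hy.2
  have h0 : (pp f j).presheaf.map (homOfLE (inf_le_left : V ⊓ O ≤ V)).op m = 0 :=
    section_eq_zero_of_le_bot (unitMod Z') hbot
      (show Γ(unitMod Z', j ⁻¹ᵁ f ⁻¹ᵁ (V ⊓ O)) from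
        (pp f j).presheaf.map (homOfLE (inf_le_left : V ⊓ O ≤ V)).op m)
  rw [h0, map_zero]

theorem support_eq (hft : (pp f j).IsFiniteType) :
    CohB1.support (pp f j) = closure ({f (j (genericPoint Z'))} : Set X) := by
  apply Set.Subset.antisymm
  · intro x hx
    by_contra hxc
    exact notMem_support_of_notMem_closure f j x hxc hx
  · have hclosed : IsClosed (CohB1.support (pp f j)) := isClosed_support_of_isFiniteType _ hft
    exact hclosed.closure_subset_iff.mpr (Set.singleton_subset_iff.mpr (mem_support f j))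

theorem s0820 {Y X : Scheme.{u}} (f : Y ⟶ X) [IsFinite f] [Surjective f]
    (Z : Scheme.{u}) (i : Z ⟶ X) [IsClosedImmersion i] [IsIntegral Z] :
    ∃ F : Y.Modules, Coh.IsCoh F ∧ CohB1.support ((Coh.push f).obj F) = Set.range ⇑i ∧
      ∀ a ∈ IsLocalRing.maximalIdeal (X.presheaf.stalk (i (genericPoint Z))),
        ∀ m : ↑(((Coh.push f).obj F).presheaf.stalk (i (genericPoint Z))), a • m = 0 := by
  obtain ⟨η, hη⟩ := f.surjective (i (genericPoint Z))
  let Yc : Closeds Y := ⟨closure {η}, isClosed_closure⟩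
  have hirr : IsIrreducible (Yc : Set Y) := isIrreducible_singleton.closure
  haveI := isIntegral_redSub Yc hirr
  let j := redSubι Yc
  have hj : j (genericPoint (redSub Yc)) = η := by
    have h1 := closure_redSubι_genericPoint Yc hirr
    have h2 : IsGenericPoint (j (genericPoint (redSub Yc))) (closure {η}) := h1
    exact h2.eq isGenericPoint_closure
  have hξ : f (j (genericPoint (redSub Yc))) = i (genericPoint Z) := by rw [hj, hη]
  let F : Y.Modules := ClSub.quotMod (Scheme.IdealSheafData.vanishingIdeal Yc)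
  have hF : Coh.IsCoh F := isCoh_quotMod _
  haveI : F.IsQuasicoherent := hF.1
  have hft : ((Scheme.Modules.pushforward f).obj F).IsFiniteType :=
    isFiniteType_pushforward_of_isFinite f F hF.2
  refine ⟨F, hF, ?_, ?_⟩
  · have h1 : CohB1.support ((Coh.push f).obj F) = closure {f (j (genericPoint (redSub Yc)))} :=
      support_eq f j hft
    rw [hξ] at h1
    have h2 := i.isClosedEmbedding.closure_image_eq ({genericPoint Z} : Set Z)
    rw [Set.image_singleton, (genericPoint_spec Z).def, Set.image_univ] at h2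
    exact h1.trans h2
  · have key : ∀ x : X, f (j (genericPoint (redSub Yc))) = x →
        ∀ a ∈ IsLocalRing.maximalIdeal (X.presheaf.stalk x),
        ∀ m : ↑(((Coh.push f).obj F).presheaf.stalk x), a • m = 0 := by
      rintro x rfl a ha m
      exact smul_eq_zero_of_mem_maximalIdeal f j a ha m
    exact key _ hξ

end Groth.Agent.H1.FinSurj
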