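import Mathlib
import Groth.Agent.Lib.Helper1.ChevCore
import Groth.Agent.Lib.Helper1.FinSurjA
import Groth.Agent.Lib.Helper1.RegNear2
import Groth.Agent.Lib.Helper5.ImmD.A
import Groth.Agent.Lib.Helper5.ChowStalk.E
import Groth.Agent.Lib.Lead.QC.DevissageStep
import Groth.Agent.Lib.Lead.QC.QuotTorsion
import Groth.Agent.Lib.Lead.SC.SerreCrit

/-! # Chevalley's theorem for Noetherian schemes (S0021). -/

set_option autoImplicit false
universe u
open CategoryTheory Limits Opposite AlgebraicGeometry TopologicalSpace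

namespace Groth.Agent.H1.Chev
open Groth.Agent.LD.QC Groth.Agent.LD.SC Groth.Agent.H5.ChowStalk

theorem exists_integral_affine_cover {Y X : Scheme.{u}} (f : Y ⟶ X) [IsFinite f] [Surjective f]
    [IsAffine Y] (Wc : Closeds X) (hirr : IsIrreducible (Wc : Set X)) :
    ∃ (Z' : Scheme.{u}) (g : Z' ⟶ redSub Wc), IsIntegral Z' ∧ IsAffine Z' ∧ IsFinite g ∧
      Surjective g := by
  haveI := isIntegral_redSub Wc hirr
  obtain ⟨η, hη⟩ := f.surjective (redSubι Wc (genericPoint (redSub Wc)))
  let Yc : Closeds Y := ⟨closure {η}, isClosed_closure⟩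
  have hirrY : IsIrreducible (Yc : Set Y) := isIrreducible_singleton.closure
  haveI := isIntegral_redSub Yc hirrY
  have hj : redSubι Yc (genericPoint (redSub Yc)) = η := by
    have h1 := closure_redSubι_genericPoint Yc hirrY
    have h2 : IsGenericPoint (redSubι Yc (genericPoint (redSub Yc))) (closure {η}) := h1
    exact h2.eq isGenericPoint_closure
  have hξ : f (redSubι Yc (genericPoint (redSub Yc))) =
      redSubι Wc (genericPoint (redSub Wc)) := by rw [hj, hη]
  have hclW : closure ({redSubι Wc (genericPoint (redSub Wc))} : Set X) = (Wc : Set X) :=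
    closure_redSubι_genericPoint Wc hirr
  have hrange : (⟨closure (Set.range (redSubι Yc ≫ f).base), isClosed_closure⟩ : Closeds X) ≤ Wc := by
    change closure (Set.range (redSubι Yc ≫ f).base) ⊆ (Wc : Set X)
    apply closure_minimal _ Wc.isClosed
    rintro _ ⟨y, rfl⟩
    have := FinSurj.map_mem_closure f (redSubι Yc) y
    rw [hξ, hclW] at this
    exact this
  have hker : (redSubι Wc).ker ≤ (redSubι Yc ≫ f).ker := by
    rw [Scheme.IdealSheafData.ker_subschemeι]
    refine le_trans ?_ (Groth.Agent.H5.ImmD.vanishingIdeal_closure_range_le_ker (redSubι Yc ≫ f))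
    exact Scheme.IdealSheafData.vanishingIdeal_antimono hrange
  let g : redSub Yc ⟶ redSub Wc := IsClosedImmersion.lift (redSubι Wc) (redSubι Yc ≫ f) hker
  have hg : g ≫ redSubι Wc = redSubι Yc ≫ f := IsClosedImmersion.lift_fac _ _ _
  haveI : IsFinite (g ≫ redSubι Wc) := by rw [hg]; infer_instance
  haveI : IsFinite g := IsFinite.of_comp g (redSubι Wc)
  haveI : IsAffine (redSub Yc) := isAffine_of_isAffineHom (redSubι Yc)
  refine ⟨redSub Yc, g, inferInstance, inferInstance, inferInstance, ⟨?_⟩⟩
  intro z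
  have hz : redSubι Wc z ∈ closure ({redSubι Wc (genericPoint (redSub Wc))} : Set X) := by
    rw [hclW, ← range_redSubι Wc]; exact ⟨z, rfl⟩
  have hcl : IsClosed (f '' (closure {η})) := f.isClosedMap _ isClosed_closure
  have hsub : closure ({redSubι Wc (genericPoint (redSub Wc))} : Set X) ⊆ f '' closure {η} :=
    hcl.closure_subset_iff.mpr (Set.singleton_subset_iff.mpr ⟨η, subset_closure rfl, hη⟩)
  obtain ⟨y, hy, hyz⟩ := hsub hz
  have hyr : y ∈ Set.range (redSubι Yc) := by rw [range_redSubι Yc]; exact hy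
  obtain ⟨z', rfl⟩ := hyr
  refine ⟨z', ?_⟩
  apply (redSubι Wc).isClosedEmbedding.injective
  have h1 : (g ≫ redSubι Wc) z' = (redSubι Yc ≫ f) z' := by rw [hg]
  exact h1.trans hyz


/-- all coherent modules on `X` have vanishing `H¹`. -/
theorem h1Zero_of_isCoh {Y X : Scheme.{u}} (f : Y ⟶ X) [IsFinite f] [Surjective f] [IsAffine Y]
    [IsNoetherian X] (M : X.Modules) (hM : Coh.IsCoh M) : H1Zero M := by
  classical
  refine devissage_master (fun M => H1Zero M) (fun A B e _ hA => h1Zero_of_iso e hA) Set.univ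
    (fun Z hZ => h1Zero_of_isZero Z hZ)
    (fun S hS _ _ _ _ p1 p3 => h1Zero_of_shortExact hS p1 p3) ?_ M hM (Set.subset_univ _)
  intro W hWc hWirr _ IHW Q hQ hQW
  obtain ⟨ξ, hξ⟩ := QuasiSober.sober hWirr hWc
  have hξcl : closure {ξ} = W := hξ.def
  have hξW : ξ ∈ W := hξcl ▸ subset_closure rfl
  have hQ0 : ¬ IsZero Q := by
    intro hz
    have := support_eq_empty_of_isZero hz
    rw [hQW] at this
    exact hWirr.nonempty.ne_empty this
  let Wc : Closeds X := ⟨W, hWc⟩
  let I := Scheme.IdealSheafData.vanishingIdeal Wc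
  have hGc : Coh.IsCoh (ClSub.quotMod I) := isCoh_quotMod I
  have hGs : CohB1.support (ClSub.quotMod I) = W := by
    rw [support_quotMod, Scheme.IdealSheafData.coe_support_vanishingIdeal]
    rfl
  obtain ⟨G', ι, ψ, hι, hG', hψ⟩ := exists_sub_nonzero_hom (ClSub.quotMod I) Q
    hGc.1 hQ.1 hQ.2 hQ0 (by rw [hQW, hGs])
  haveI := hι
  haveI : G'.IsQuasicoherent := hG'
  have hG'c : Coh.IsCoh G' := isCoh_of_mono ι hG' hGc
  by_cases hk : IsZero (kernel ψ)
  · haveI : Mono ψ := Preadditive.mono_of_isZero_kernel ψ hk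
    obtain ⟨T, ιT, hιT, hT, ⟨e⟩⟩ := exists_ideal_of_sub_quotMod I G' ι
    refine ⟨G', ψ, inferInstance, hG'c, ?_, ?_⟩
    · intro hz
      exact hψ (hz.eq_of_src _ _)
    · apply h1Zero_of_iso e
      haveI := hT
      haveI := hιT
      rw [h1Zero_pushforward_iff]
      have hirr : IsIrreducible (Wc : Set X) := hWirr
      haveI := isIntegral_redSub Wc hirr
      haveI : IsLocallyNoetherian (redSub Wc) :=
        Groth.Agent.H1.RegNear.isLocallyNoetherian_of_isClosedImmersion (redSubι Wc)
      obtain ⟨Z', g, hZ'i, hZ'a, hgf, hgs⟩ := exists_integral_affine_cover f Wc hirr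
      haveI := hZ'i
      haveI := hZ'a
      haveI := hgf
      haveI := hgs
      have IHZ : ∀ M : (redSub Wc).Modules, Coh.IsCoh M →
          genericPoint (redSub Wc) ∉ CohB1.support M → H1Zero M := by
        intro M hM hgen
        haveI := hM.1
        rw [← h1Zero_pushforward_iff (redSubι Wc) M]
        apply IHW
        · exact ⟨qc_pushforward _ M, isFiniteType_pushforward_of_isFinite _ M hM.2⟩
        · intro x hx
          by_contra hxW
          apply hx
          apply subsingleton_stalk_pushforward_of_notMem (redSubι Wc) M x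
          rw [(redSubι Wc).isClosedEmbedding.isClosed_range.closure_eq, range_redSubι Wc]
          exact hxW
        · intro heq
          have h1 := notMem_support_pushforward (redSubι Wc) M (genericPoint (redSub Wc)) hgen
          rw [heq] at h1
          apply h1
          have : redSubι Wc (genericPoint (redSub Wc)) ∈ Set.range (redSubι Wc) := ⟨_, rfl⟩
          rw [range_redSubι Wc] at this
          exact this
      exact core g IHZ T ιT
  · have hKq : (kernel ψ).IsQuasicoherent := qc_kernel ψ hG' hQ.1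
    haveI := hKq
    have hnot := notMem_support_cokernel_of_sub_quotMod Wc ξ hξcl (kernel ψ) G' (kernel.ι ψ) ι hk
    have hNc : Coh.IsCoh (Abelian.image ψ) := isCoh_kernel _ hQ (isCoh_cokernel ψ hG'c hQ)
    have hsuppN : CohB1.support (Abelian.image ψ) = CohB1.support (cokernel (kernel.ι ψ)) :=
      (support_eq_of_iso (Abelian.coimageIsoImage ψ)).symm
    refine ⟨Abelian.image ψ, Abelian.image.ι ψ, inferInstance, hNc, ?_, ?_⟩
    · intro hz
      apply hψ
      rw [← Abelian.image.fac ψ, hz.eq_of_tgt (Abelian.factorThruImage ψ) 0, zero_comp]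
    · refine IHW _ hNc ?_ ?_
      · rw [← hQW]
        exact support_subset_of_mono (Abelian.image.ι ψ)
      · intro h
        apply hnot
        rw [← hsuppN, h]
        exact hξW

/-- **Chevalley's theorem** for Noetherian schemes. -/
theorem s0021 {Y X : Scheme.{u}} (f : Y ⟶ X) [IsFinite f] [Surjective f] [IsAffine Y]
    [IsNoetherian X] : IsAffine X := by
  apply isAffine_of_h1Zero
  intro I i hi hI
  haveI := hi
  exact h1Zero_of_isCoh f I (isCoh_of_mono i hI (isCoh_unitMod' X))

end Groth.Agent.H1.Chev
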