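import Mathlib
import Groth.Prelude.Def_EGA43
import Groth.Agent.Lib.Helper1.ChevSchC

set_option autoImplicit false
universe u

namespace Groth.Agent.H1.ChevSch

open CategoryTheory AlgebraicGeometry Groth.Agent.H3 Groth.Agent.H1.EquidimLoc

variable {X Y : Scheme.{u}}

/-- (S1454) a locally quasi-finite morphism to a locally noetherian geometrically unibranch scheme
whose irreducible components dominate irreducible components is universally open. -/
theorem s1454 (f : X ⟶ Y) [LocallyQuasiFinite f] [LocallyOfFiniteType f]
    [IsLocallyNoetherian Y]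
    (hY : ∀ y : Y, CAlg2.IsGeomUnibranch (Y.presheaf.stalk y))
    (hdom : ∀ Z ∈ irreducibleComponents ↑X, ∀ x : X, IsGenericPoint x Z →
      ∃ W ∈ irreducibleComponents ↑Y, IsGenericPoint (f x) W) :
    UniversallyOpen f := by
  apply UO4931.universallyOpen_of_forall_isUnivOpenAt
  intro x
  apply isUnivOpenAt_of_quasiFinite f x (hY _)
  intro ξ hξ _ w hw
  have hZ : closure ({ξ} : Set X) ∈ irreducibleComponents (X : Type u) :=
    Groth.Agent.H1.GenPts.closure_singleton_mem_irreducibleComponents ξ hξ
  obtain ⟨W, hW, hgen⟩ := hdom _ hZ ξ rfl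
  have h1 : closure ({f.base ξ} : Set Y) ∈ irreducibleComponents (Y : Type u) := by
    have : closure ({f.base ξ} : Set Y) = W := hgen
    rw [this]; exact hW
  exact eq_of_specializes_of_closure_mem_irreducibleComponents _ h1 w hw

end Groth.Agent.H1.ChevSch
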