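import Mathlib
import Groth.Agent.Lib.Helper1.Miracle
import Groth.Agent.Lib.Helper1.LocalCriterion

/-! Helper1: transfer of flatness along ring isomorphisms / compatible quotient presentations,
regular sequences on flat modules, and the "flatness modulo a regular sequence in the radical"
criterion. -/

set_option autoImplicit false

universe u

open TensorProduct RingTheory.Sequence

namespace Groth.Agent.H1.FlatTransfer

/-- Flatness only depends on the scalar action up to a ring isomorphism. -/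
theorem flat_of_ringEquiv {S₁ S₂ : Type*} [CommRing S₁] [CommRing S₂] (σ : S₁ ≃+* S₂)
    (X : Type*) [AddCommGroup X] [Module S₁ X] [Module S₂ X]
    (hσ : ∀ (s : S₁) (x : X), σ s • x = s • x) (h : Module.Flat S₂ X) : Module.Flat S₁ X := by
  letI : Algebra S₁ S₂ := σ.toRingHom.toAlgebra
  have halg : ∀ a : S₁, algebraMap S₁ S₂ a = σ a := fun _ => rfl
  haveI : IsScalarTower S₁ S₂ X := ⟨fun a b x => by
    rw [Algebra.smul_def, mul_smul, halg]
    exact hσ a (b • x)⟩
  let e : S₂ ≃ₗ[S₁] S₁ :=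
    { σ.symm.toAddEquiv with
      map_smul' := fun a b => by
        change σ.symm (a • b) = a • σ.symm b
        rw [Algebra.smul_def, halg, map_mul, σ.symm_apply_apply]
        rfl }
  haveI : Module.Flat S₁ S₂ := Module.Flat.of_linearEquiv e
  exact Module.Flat.trans S₁ S₂ X

theorem flat_iff_of_ringEquiv {S₁ S₂ : Type*} [CommRing S₁] [CommRing S₂] (σ : S₁ ≃+* S₂)
    (X : Type*) [AddCommGroup X] [Module S₁ X] [Module S₂ X]
    (hσ : ∀ (s : S₁) (x : X), σ s • x = s • x) : Module.Flat S₁ X ↔ Module.Flat S₂ X :=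
  ⟨fun h => flat_of_ringEquiv σ.symm X (fun s x => by
      rw [← hσ (σ.symm s) x, σ.apply_symm_apply]) h,
    fun h => flat_of_ringEquiv σ X hσ h⟩

/-- Two presentations of "the same" module over "the same" quotient ring: flatness agrees. -/
theorem flat_of_surjective_of_ker_eq {S S₁ S₂ : Type*} [CommRing S] [CommRing S₁] [CommRing S₂]
    [Algebra S S₁] [Algebra S S₂] (h₁ : Function.Surjective (algebraMap S S₁))
    (h₂ : Function.Surjective (algebraMap S S₂))
    (hker : RingHom.ker (algebraMap S S₁) = RingHom.ker (algebraMap S S₂))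
    {X₁ X₂ : Type*} [AddCommGroup X₁] [AddCommGroup X₂] [Module S X₁] [Module S X₂]
    [Module S₁ X₁] [Module S₂ X₂] [IsScalarTower S S₁ X₁] [IsScalarTower S S₂ X₂]
    (e : X₁ ≃ₗ[S] X₂) (h : Module.Flat S₁ X₁) : Module.Flat S₂ X₂ := by
  let σ : S₂ ≃+* S₁ :=
    (RingHom.quotientKerEquivOfSurjective h₂).symm.trans
      ((Ideal.quotEquivOfEq hker.symm).trans (RingHom.quotientKerEquivOfSurjective h₁))
  have hσ : ∀ s : S, σ (algebraMap S S₂ s) = algebraMap S S₁ s := by
    intro s
    have h1 : (RingHom.quotientKerEquivOfSurjective h₂).symm (algebraMap S S₂ s) =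
        Ideal.Quotient.mk _ s := by
      rw [RingEquiv.symm_apply_eq]
      rfl
    simp only [σ, RingEquiv.trans_apply, h1]
    rfl
  -- give `X₁` an `S₂`-module structure through `σ`
  letI : Module S₂ X₁ := Module.compHom X₁ (σ : S₂ →+* S₁)
  have hsm : ∀ (s : S₂) (x : X₁), s • x = σ s • x := fun _ _ => rfl
  have h3 : Module.Flat S₂ X₁ := flat_of_ringEquiv σ X₁ (fun s x => (hsm s x).symm) h
  haveI : IsScalarTower S S₂ X₁ := by
    refine IsScalarTower.of_algebraMap_smul fun s x => ?_
    rw [hsm, hσ, algebraMap_smul]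
  let e' : X₁ ≃ₗ[S₂] X₂ := LinearEquiv.extendScalarsOfSurjective h₂ e
  exact Module.Flat.of_linearEquiv e'.symm

/-- A weakly regular sequence of the ring is weakly regular on every flat module. -/
theorem isWeaklyRegular_of_flat {R : Type*} [CommRing R] (M : Type*) [AddCommGroup M]
    [Module R M] [Module.Flat R M] (rs : List R) (h : IsWeaklyRegular R rs) :
    IsWeaklyRegular M rs :=
  ((TensorProduct.lid R M).isWeaklyRegular_congr rs).mp
    (h.isWeaklyRegular_rTensor (M₂ := M))

end Groth.Agent.H1.FlatTransfer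

namespace Groth.Agent.H1.FlatTransfer

/-- `(B/J) ⊗ N ≃ N/JN` as `B/J`-modules. -/
noncomputable def quotTensorEquiv {B : Type*} [CommRing B] (J : Ideal B) (N : Type*)
    [AddCommGroup N] [Module B N] :
    ((B ⧸ J) ⊗[B] N) ≃ₗ[B ⧸ J] (N ⧸ (J • ⊤ : Submodule B N)) :=
  LinearEquiv.extendScalarsOfSurjective (Ideal.Quotient.mk_surjective (I := J))
    (TensorProduct.quotTensorEquivQuotSMul N J)

/-- Flatness over a Noetherian ring modulo a regular sequence contained in the Jacobson radical
(EGA 0_IV 15.1.21 in the semi-local form). -/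
theorem flat_iff_flat_quotient_and_isWeaklyRegular {B : Type u} [CommRing B] [IsNoetherianRing B]
    (rs : List B) (hrad : ∀ r ∈ rs, r ∈ (⊥ : Ideal B).jacobson) (hB : IsWeaklyRegular B rs)
    (N : Type u) [AddCommGroup N] [Module B N] [Module.Finite B N] :
    Module.Flat B N ↔
      Module.Flat (B ⧸ Ideal.ofList rs) (N ⧸ (Ideal.ofList rs • ⊤ : Submodule B N)) ∧
        IsWeaklyRegular N rs := by
  constructor
  · intro h
    refine ⟨?_, isWeaklyRegular_of_flat N rs hB⟩
    exact Module.Flat.of_linearEquiv (quotTensorEquiv (Ideal.ofList rs) N).symm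
  · rintro ⟨h1, h2⟩
    have hinj := Groth.Agent.H1.Miracle.rTensor_injective_of_isWeaklyRegular N rs hB h2
    haveI : Module.Flat (B ⧸ Ideal.ofList rs) ((B ⧸ Ideal.ofList rs) ⊗[B] N) :=
      Module.Flat.of_linearEquiv (quotTensorEquiv (Ideal.ofList rs) N)
    have hJ : (Ideal.ofList rs).map (algebraMap B B) ≤ Ideal.jacobson ⊥ := by
      rw [Algebra.algebraMap_self, Ideal.map_id]
      unfold Ideal.ofList
      rw [Ideal.span_le]
      intro r hr
      exact hrad r hr
    exact Groth.Agent.H1.flat_of_rTensor_injective_of_flat_quotient (B := B) (Ideal.ofList rs) hJ hinj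

end Groth.Agent.H1.FlatTransfer

namespace Groth.Agent.H1.FlatTransfer

section Rel

variable {A : Type u} [CommRing A] (R : Ideal A) (fl : List A)
  (N : Type u) [AddCommGroup N] [Module A N] [Module (A ⧸ R) N] [IsScalarTower A (A ⧸ R) N]

/-- the two descriptions of `Q N` agree. -/
theorem restrictScalars_ofList_map_smul_top :
    ((Ideal.ofList (fl.map (algebraMap A (A ⧸ R))) • ⊤ : Submodule (A ⧸ R) N)).restrictScalars A =
      ((R ⊔ Ideal.ofList fl) • ⊤ : Submodule A N) := by
  have hsurj : Function.Surjective (algebraMap A (A ⧸ R)) := Ideal.Quotient.mk_surjective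
  apply le_antisymm
  · intro x hx
    rw [Submodule.restrictScalars_mem] at hx
    refine Submodule.smul_induction_on hx ?_ ?_
    · intro j hj n _
      rw [← Ideal.map_ofList] at hj
      obtain ⟨a, ha, rfl⟩ := (Ideal.mem_map_iff_of_surjective _ hsurj).mp hj
      rw [algebraMap_smul]
      exact Submodule.smul_mem_smul (Ideal.mem_sup_right ha) Submodule.mem_top
    · intro x y hx hy
      exact add_mem hx hy
  · rw [Submodule.smul_le]
    intro q hq n _
    rw [Submodule.restrictScalars_mem, ← algebraMap_smul (A ⧸ R) q n]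
    refine Submodule.smul_mem_smul ?_ Submodule.mem_top
    rw [← Ideal.map_ofList]
    obtain ⟨r, hr, a, ha, rfl⟩ := Submodule.mem_sup.mp hq
    rw [map_add]
    have : algebraMap A (A ⧸ R) r = 0 := Ideal.Quotient.eq_zero_iff_mem.mpr hr
    rw [this, zero_add]
    exact Ideal.mem_map_of_mem _ ha

/-- Relative form: flatness over `A/R` of a finite module, modulo a regular sequence. -/
theorem flat_quotient_iff [IsNoetherianRing A] [Module.Finite A N]
    (hrad : ∀ r ∈ fl, r ∈ (⊥ : Ideal A).jacobson) (hreg : IsWeaklyRegular (A ⧸ R) fl) :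
    Module.Flat (A ⧸ R) N ↔
      Module.Flat (A ⧸ (R ⊔ Ideal.ofList fl))
          (N ⧸ ((R ⊔ Ideal.ofList fl) • ⊤ : Submodule A N)) ∧
        IsWeaklyRegular N fl := by
  have hsurj : Function.Surjective (algebraMap A (A ⧸ R)) := Ideal.Quotient.mk_surjective
  haveI : Module.Finite (A ⧸ R) N := Module.Finite.of_restrictScalars_finite A (A ⧸ R) N
  have hradB : ∀ r ∈ fl.map (algebraMap A (A ⧸ R)), r ∈ (⊥ : Ideal (A ⧸ R)).jacobson := by
    intro r hr
    obtain ⟨a, ha, rfl⟩ := List.mem_map.mp hr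
    rw [Ideal.mem_jacobson_bot]
    intro y
    obtain ⟨b, rfl⟩ := hsurj y
    have := (Ideal.mem_jacobson_bot.mp (hrad a ha)) b
    have h2 := this.map (algebraMap A (A ⧸ R))
    simpa using h2
  have hB : IsWeaklyRegular (A ⧸ R) (fl.map (algebraMap A (A ⧸ R))) :=
    (isWeaklyRegular_map_algebraMap_iff (A ⧸ R) (A ⧸ R) fl).mpr hreg
  rw [flat_iff_flat_quotient_and_isWeaklyRegular _ hradB hB N,
    isWeaklyRegular_map_algebraMap_iff (A ⧸ R) N fl]
  refine and_congr_left' ?_
  set J := Ideal.ofList (fl.map (algebraMap A (A ⧸ R))) with hJ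
  set Q := R ⊔ Ideal.ofList fl with hQ
  -- the two quotient rings are quotients of `A` with the same kernel
  have h₁ : Function.Surjective (algebraMap A ((A ⧸ R) ⧸ J)) := by
    rw [IsScalarTower.algebraMap_eq A (A ⧸ R) ((A ⧸ R) ⧸ J)]
    exact Ideal.Quotient.mk_surjective.comp hsurj
  have h₂ : Function.Surjective (algebraMap A (A ⧸ Q)) := Ideal.Quotient.mk_surjective
  have hker : RingHom.ker (algebraMap A ((A ⧸ R) ⧸ J)) = RingHom.ker (algebraMap A (A ⧸ Q)) := by
    rw [IsScalarTower.algebraMap_eq A (A ⧸ R) ((A ⧸ R) ⧸ J), ← RingHom.comap_ker]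
    have : RingHom.ker (algebraMap (A ⧸ R) ((A ⧸ R) ⧸ J)) = J := Ideal.mk_ker
    rw [this, hJ, ← Ideal.map_ofList, Ideal.comap_map_of_surjective _ hsurj]
    have h3 : RingHom.ker (algebraMap A (A ⧸ Q)) = Q := Ideal.mk_ker
    have h4 : Ideal.comap (algebraMap A (A ⧸ R)) ⊥ = R := by
      rw [← RingHom.ker_eq_comap_bot]
      exact Ideal.mk_ker
    rw [h3, h4, hQ, sup_comm]
  haveI : IsScalarTower A ((A ⧸ R) ⧸ J) (N ⧸ (J • ⊤ : Submodule (A ⧸ R) N)) := by
    refine IsScalarTower.of_algebraMap_smul (R := A) (A := (A ⧸ R) ⧸ J)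
      (M := N ⧸ (J • ⊤ : Submodule (A ⧸ R) N)) fun a x => ?_
    obtain ⟨n, rfl⟩ := Submodule.Quotient.mk_surjective _ x
    rw [IsScalarTower.algebraMap_apply A (A ⧸ R) ((A ⧸ R) ⧸ J)]
    change Ideal.Quotient.mk J (algebraMap A (A ⧸ R) a) • _ = _
    rw [Module.Quotient.mk_smul_mk, algebraMap_smul]
    rfl
  let e : (N ⧸ (J • ⊤ : Submodule (A ⧸ R) N)) ≃ₗ[A] (N ⧸ (Q • ⊤ : Submodule A N)) :=
    (Submodule.Quotient.restrictScalarsEquiv A (J • ⊤ : Submodule (A ⧸ R) N)).symm ≪≫ₗ
      Submodule.quotEquivOfEq _ _ (restrictScalars_ofList_map_smul_top R fl N)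
  constructor
  · intro h
    exact flat_of_surjective_of_ker_eq h₁ h₂ hker e h
  · intro h
    exact flat_of_surjective_of_ker_eq h₂ h₁ hker.symm e.symm h

end Rel

end Groth.Agent.H1.FlatTransfer

namespace Groth.Agent.H1.FlatTransfer

/-- Relative version (the module is finite over a Noetherian `A`-algebra `B` into whose radical
the sequence maps). -/
theorem flat_iff_flat_quotient_and_isWeaklyRegular' {A : Type u} [CommRing A] [IsNoetherianRing A]
    (B : Type*) [CommRing B] [IsNoetherianRing B] [Algebra A B]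
    (rs : List A) (hrad : (Ideal.ofList rs).map (algebraMap A B) ≤ Ideal.jacobson ⊥)
    (hA : IsWeaklyRegular A rs)
    (N : Type u) [AddCommGroup N] [Module A N] [Module B N] [IsScalarTower A B N]
    [Module.Finite B N] :
    Module.Flat A N ↔
      Module.Flat (A ⧸ Ideal.ofList rs) (N ⧸ (Ideal.ofList rs • ⊤ : Submodule A N)) ∧
        IsWeaklyRegular N rs := by
  constructor
  · intro h
    refine ⟨?_, isWeaklyRegular_of_flat N rs hA⟩
    exact Module.Flat.of_linearEquiv (quotTensorEquiv (Ideal.ofList rs) N).symm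
  · rintro ⟨h1, h2⟩
    have hinj := Groth.Agent.H1.Miracle.rTensor_injective_of_isWeaklyRegular N rs hA h2
    haveI : Module.Flat (A ⧸ Ideal.ofList rs) ((A ⧸ Ideal.ofList rs) ⊗[A] N) :=
      Module.Flat.of_linearEquiv (quotTensorEquiv (Ideal.ofList rs) N)
    exact Groth.Agent.H1.flat_of_rTensor_injective_of_flat_quotient (B := B) (Ideal.ofList rs)
      hrad hinj

end Groth.Agent.H1.FlatTransfer
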