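import Mathlib
import Groth.Agent.Lib.Helper1.FlatDimLocal
import Groth.Agent.Lib.Helper1.AusBuchReg
import Groth.Agent.Lib.Helper1.AusBuch
import Groth.Agent.Lib.Helper1.FlatTransfer
import Groth.Agent.Lib.Helper2.FibDepth
import Groth.Agent.Lib.Helper6.SemiLin
import Groth.Agent.Lib.Helper7.Reg1

set_option autoImplicit false
universe u
open IsLocalRing

namespace Groth.Agent.H1.Codepth

/-- codepth at most `n`. -/
def CDr (R : Type u) [CommRing R] [IsLocalRing R] (n : ℕ) : Prop :=
  ringKrullDim R ≤ ((LocCoh.depth R R : ℕ∞) : WithBot ℕ∞) + (n : WithBot ℕ∞)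

theorem cdr_iff_of_ringEquiv {R₁ R₂ : Type u} [CommRing R₁] [CommRing R₂] [IsLocalRing R₁]
    [IsLocalRing R₂] [IsNoetherianRing R₁] (σ : R₁ ≃+* R₂) (n : ℕ) : CDr R₁ n ↔ CDr R₂ n := by
  haveI : IsNoetherianRing R₂ := isNoetherianRing_of_ringEquiv R₁ σ
  obtain ⟨h1, -⟩ := Groth.Agent.H6.SemiLin.depth_and_dim_eq (M₁ := R₁) (M₂ := R₂) σ σ.toAddEquiv
    (fun r m => by simp)
  unfold CDr
  rw [h1, ringKrullDim_eq_of_ringEquiv σ]

theorem arith_aux (p n : ℕ) (φ : WithBot ℕ∞) (δ : ℕ∞) :
    (p : WithBot ℕ∞) + φ ≤ (((p : ℕ∞) + δ : ℕ∞) : WithBot ℕ∞) + (n : WithBot ℕ∞) ↔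
      φ ≤ (δ : WithBot ℕ∞) + (n : WithBot ℕ∞) := by
  induction φ with
  | bot => simp
  | coe a =>
    have h1 : ((p : ℕ) : WithBot ℕ∞) = (((p : ℕ) : ℕ∞) : WithBot ℕ∞) := rfl
    have h2 : ((n : ℕ) : WithBot ℕ∞) = (((n : ℕ) : ℕ∞) : WithBot ℕ∞) := rfl
    rw [h1, h2, ← WithBot.coe_add, ← WithBot.coe_add, ← WithBot.coe_add, WithBot.coe_le_coe,
      WithBot.coe_le_coe, add_assoc]
    exact WithTop.add_le_add_iff_left (ENat.natCast_ne_top p)

theorem cdr_fiber_iff (P A F : Type u) [CommRing P] [CommRing A] [CommRing F]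
    [IsRegularLocalRing P] [IsNoetherianRing A] [IsLocalRing A] [IsLocalRing F] [Algebra P A]
    [IsLocalHom (algebraMap P A)] [Module.Flat P A]
    (e : (A ⧸ (maximalIdeal P).map (algebraMap P A)) ≃+* F) (n : ℕ) : CDr A n ↔ CDr F n := by
  obtain ⟨hdepth, hdimF⟩ := Groth.Agent.H2.FibDepth.depth_eq_add P A F e
  have hdimA := Groth.Agent.H1.FlatDim.ringKrullDim_eq_add_fiber_of_flat P A
  rw [← hdimF] at hdimA
  obtain ⟨p, hp⟩ : ∃ p : ℕ, ringKrullDim P = (p : WithBot ℕ∞) :=
    ⟨(maximalIdeal P).spanFinrank, (IsRegularLocalRing.spanFinrank_maximalIdeal).symm⟩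
  have hdP := Groth.Agent.H1.AB.depth_eq_of_isRegularLocalRing p hp
  unfold CDr
  rw [hdimA, hdepth, hp, hdP]
  exact arith_aux p n _ _

/-- the fibre of the fibre: pure algebra. -/
theorem nonempty_fiberQuotEquiv {C B P A : Type u} [CommRing C] [CommRing B] [CommRing P]
    [CommRing A] [IsLocalRing C] [IsLocalRing P] (φ : C →+* B) (a : C →+* P) (b : B →+* A)
    (χ : P →+* A) (ha : Function.Surjective a) (hb : Function.Surjective b)
    (hcomm : χ.comp a = b.comp φ) (hker : RingHom.ker b ≤ (maximalIdeal C).map φ) :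
    Nonempty ((A ⧸ (maximalIdeal P).map χ) ≃+* (B ⧸ (maximalIdeal C).map φ)) := by
  haveI : IsLocalHom a := IsLocalHom.of_surjective a ha
  have hmP : maximalIdeal P = (maximalIdeal C).map a := by
    rw [← IsLocalRing.maximalIdeal_comap a, Ideal.map_comap_of_surjective a ha]
  set J := (maximalIdeal C).map φ with hJ
  have hI : (maximalIdeal P).map χ = J.map b := by
    rw [hmP, Ideal.map_map, hcomm, ← Ideal.map_map]
  let ρ : B →+* A ⧸ J.map b := (Ideal.Quotient.mk (J.map b)).comp b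
  have hρ : Function.Surjective ρ := Ideal.Quotient.mk_surjective.comp hb
  have hkerρ : RingHom.ker ρ = J := by
    have h1 : RingHom.ker ρ = (J.map b).comap b := by
      rw [← RingHom.comap_ker, Ideal.mk_ker]
    rw [h1, Ideal.comap_map_of_surjective b hb]
    have h2 : Ideal.comap b ⊥ = RingHom.ker b := rfl
    rw [h2]
    exact sup_eq_left.mpr hker
  exact ⟨(Ideal.quotEquivOfEq hI).trans
    ((RingHom.quotientKerEquivOfSurjective hρ).symm.trans (Ideal.quotEquivOfEq hkerρ))⟩

/-- flatness over a regular local ring of dimension at most one. -/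
theorem flat_of_regular_dim_le_one {P A : Type u} [CommRing P] [CommRing A] [IsRegularLocalRing P]
    [IsNoetherianRing A] [IsLocalRing A] (χ : P →+* A) [IsLocalHom χ]
    (hdim : ringKrullDim P ≤ 1)
    (h : ringKrullDim P = 0 ∨ ∃ G ∈ maximalIdeal P, IsSMulRegular A (χ G)) : χ.Flat := by
  letI := χ.toAlgebra
  haveI : IsLocalHom (algebraMap P A) := ‹IsLocalHom χ›
  have hfg : (maximalIdeal P).FG := (isNoetherianRing_iff_ideal_fg P).mp inferInstance _
  have hsf : ((maximalIdeal P).spanFinrank : WithBot ℕ∞) = ringKrullDim P :=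
    IsRegularLocalRing.spanFinrank_maximalIdeal
  by_cases hm : maximalIdeal P = ⊥
  · have hF : IsField P := IsLocalRing.isField_iff_maximalIdeal_eq.mpr hm
    letI := hF.toField
    change Module.Flat P A
    infer_instance
  · have hne0 : (maximalIdeal P).spanFinrank ≠ 0 := fun h0 =>
      hm ((Submodule.spanFinrank_eq_zero_iff_eq_bot hfg).mp h0)
    have hle1 : (maximalIdeal P).spanFinrank ≤ 1 := by
      rw [← hsf] at hdim
      exact_mod_cast hdim
    have h1 : (maximalIdeal P).spanFinrank = 1 := by omega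
    obtain ⟨hpr, -⟩ := (Submodule.spanFinrank_eq_one_iff _).mp h1
    obtain ⟨ϖ, hϖ⟩ := hpr.principal
    have hϖ' : maximalIdeal P = Ideal.span {ϖ} := hϖ
    rcases h with h0 | ⟨G, hG, hreg⟩
    · exfalso
      rw [← hsf, h1] at h0
      exact absurd h0 (by norm_num)
    · haveI : IsDomain P := Groth.Agent.H7.Reg.isDomain P
      have hϖ0 : ϖ ≠ 0 := by
        rintro rfl
        apply hm
        rw [hϖ']
        simp
      -- `χ ϖ` is regular
      obtain ⟨c, hc⟩ : ∃ c, G = c * ϖ := by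
        rw [hϖ', Ideal.mem_span_singleton'] at hG
        obtain ⟨c, hc⟩ := hG
        exact ⟨c, hc.symm⟩
      have hregϖ : IsSMulRegular A (χ ϖ) := by
        rw [hc, map_mul] at hreg
        intro x y hxy
        apply hreg
        change (χ c * χ ϖ) • x = (χ c * χ ϖ) • y
        rw [mul_smul, mul_smul]
        have : χ ϖ • x = χ ϖ • y := hxy
        rw [this]
      have hlist : Ideal.ofList [ϖ] = maximalIdeal P := by
        rw [hϖ']
        simp [Ideal.ofList]
      have hrad : (Ideal.ofList [ϖ]).map (algebraMap P A) ≤ Ideal.jacobson ⊥ := by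
        rw [hlist, IsLocalRing.jacobson_eq_maximalIdeal ⊥ bot_ne_top]
        exact Groth.Agent.H1.FlatDim.map_maximalIdeal_le P A
      have hwP : RingTheory.Sequence.IsWeaklyRegular P [ϖ] := by
        rw [RingTheory.Sequence.isWeaklyRegular_cons_iff]
        refine ⟨?_, RingTheory.Sequence.IsWeaklyRegular.nil _ _⟩
        intro x y hxy
        exact mul_left_cancel₀ hϖ0 hxy
      have hwA : RingTheory.Sequence.IsWeaklyRegular A [ϖ] := by
        rw [RingTheory.Sequence.isWeaklyRegular_cons_iff]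
        refine ⟨?_, RingTheory.Sequence.IsWeaklyRegular.nil _ _⟩
        intro x y hxy
        have h3 : χ ϖ • x = χ ϖ • y := hxy
        exact hregϖ h3
      change Module.Flat P A
      rw [Groth.Agent.H1.FlatTransfer.flat_iff_flat_quotient_and_isWeaklyRegular' A [ϖ] hrad hwP A]
      refine ⟨?_, hwA⟩
      haveI : (Ideal.ofList [ϖ]).IsMaximal := by
        rw [hlist]
        infer_instance
      letI := Ideal.Quotient.field (Ideal.ofList [ϖ])
      infer_instance

end Groth.Agent.H1.Codepth
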