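import Mathlib
import Groth.Agent.Lib.Helper1.CMBaseChange
import Groth.Agent.Lib.Helper1.CodepthAlg
import Groth.Agent.Lib.Helper1.CMFib
import Groth.Agent.Lib.Helper2.TenCM3
import Groth.Agent.Lib.Helper6.FiberDict

set_option autoImplicit false
set_option linter.style.haveILetI false
universe u
open CategoryTheory CategoryTheory.Limits AlgebraicGeometry IsLocalRing TensorProduct

namespace Groth.Agent.H1.Codepth

theorem exists_nat_eq_of_ne {a : WithBot ℕ∞} (h1 : a ≠ ⊥) (h2 : a ≠ ⊤) :
    ∃ m : ℕ, a = (m : WithBot ℕ∞) := by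
  induction a with
  | bot => exact absurd rfl h1
  | coe a =>
    cases a using ENat.recTopCoe with
    | top => exact absurd rfl h2
    | coe m => exact ⟨m, rfl⟩

theorem exists_nat_dim (R : Type u) [CommRing R] [IsLocalRing R] [IsNoetherianRing R] :
    ∃ m : ℕ, ringKrullDim R = (m : WithBot ℕ∞) :=
  exists_nat_eq_of_ne ringKrullDim_ne_bot ringKrullDim_ne_top

theorem exists_nat_depth (R : Type u) [CommRing R] [IsLocalRing R] [IsNoetherianRing R] :
    ∃ δ : ℕ, LocCoh.depth R R = (δ : ℕ∞) := by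
  obtain ⟨a, ha⟩ := exists_nat_dim R
  have h1 := Groth.Agent.H1.CMFib.depth_le_ringKrullDim R
  rw [ha] at h1
  have h2 : LocCoh.depth R R ≤ (a : ℕ∞) := by exact_mod_cast h1
  obtain ⟨δ, hδ⟩ := ENat.ne_top_iff_exists.mp (ne_top_of_le_ne_top (ENat.natCast_ne_top a) h2)
  exact ⟨δ, hδ.symm⟩

theorem cdr_iff_of_eq {R₁ R₂ : Type u} [CommRing R₁] [CommRing R₂] [IsLocalRing R₁]
    [IsLocalRing R₂] [IsNoetherianRing R₁] [IsNoetherianRing R₂]
    (E : ringKrullDim R₁ + ((LocCoh.depth R₂ R₂ : ℕ∞) : WithBot ℕ∞) =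
      ringKrullDim R₂ + ((LocCoh.depth R₁ R₁ : ℕ∞) : WithBot ℕ∞)) (n : ℕ) :
    CDr R₁ n ↔ CDr R₂ n := by
  unfold CDr
  obtain ⟨a, ha⟩ := exists_nat_dim R₁
  obtain ⟨a', ha'⟩ := exists_nat_dim R₂
  obtain ⟨δ, hδ⟩ := exists_nat_depth R₁
  obtain ⟨δ', hδ'⟩ := exists_nat_depth R₂
  rw [ha, ha', hδ, hδ'] at E
  rw [ha, ha', hδ, hδ']
  have E' : a + δ' = a' + δ := by exact_mod_cast E
  constructor
  · intro h
    have h' : a ≤ δ + n := by exact_mod_cast h
    have : a' ≤ δ' + n := by omega
    exact_mod_cast this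
  · intro h
    have h' : a' ≤ δ' + n := by exact_mod_cast h
    have : a ≤ δ + n := by omega
    exact_mod_cast this

/-- pure algebra: the codepth of `A` and of a local ring of `A ⊗ k'` over the closed point agree
when the fibres of `A → A ⊗ k'` are Cohen–Macaulay. -/
theorem cdr_iff_of_fibres (k A k' : Type u) [Field k] [CommRing A] [IsLocalRing A]
    [IsNoetherianRing A] [Algebra k A] [Field k'] [Algebra k k'] [IsNoetherianRing (A ⊗[k] k')]
    (hfib : ∀ (p : Ideal A) [p.IsPrime], LocCoh.IsCohenMacaulayRing (p.Fiber (A ⊗[k] k')))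
    (q : Ideal (A ⊗[k] k')) [q.IsPrime]
    (hq : q.comap (algebraMap A (A ⊗[k] k')) = maximalIdeal A) (n : ℕ) :
    CDr A n ↔ CDr (Localization.AtPrime q) n := by
  have hfib' := (Groth.Agent.H6.FiberDict.cm_fiber_iff (A := A) (B := A ⊗[k] k')
    (q.comap (algebraMap A (A ⊗[k] k')))).mp (hfib _) q rfl
  have E := Groth.Agent.H2.TenCM.codepth_eq (R := A) (S := A ⊗[k] k') q hfib'
  have hunits : (q.comap (algebraMap A (A ⊗[k] k'))).primeCompl ≤ IsUnit.submonoid A := by
    intro a ha
    have h1 : a ∉ maximalIdeal A := by rw [← hq]; exact ha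
    exact IsLocalRing.notMem_maximalIdeal.mp h1
  let σ : A ≃ₐ[A] Localization.AtPrime (q.comap (algebraMap A (A ⊗[k] k'))) :=
    IsLocalization.atUnits A (q.comap (algebraMap A (A ⊗[k] k'))).primeCompl hunits
  exact (cdr_iff_of_ringEquiv σ.toRingEquiv n).trans (cdr_iff_of_eq E n)

attribute [local instance] Curv2.resAlgebra Curv2.stalkAlgebra

open Groth.Agent.H1.BCStalk in
/-- the codepth of local rings is invariant under extension of the base field. -/
theorem cdr_stalk_bc (k : Type u) [Field k] (X : Scheme.{u}) [X.Over (Spec (CommRingCat.of k))]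
    [LocallyOfFiniteType (X ↘ (Spec (CommRingCat.of k)))]
    (k' : Type u) [Field k'] [Algebra k k'] (x' : ↥(Curv2.bc k X k')) (n : ℕ) :
    CDr ↥(X.presheaf.stalk (Curv2.bcFst k X k' x')) n ↔
      CDr ↥((Curv2.bc k X k').presheaf.stalk x') n := by
  haveI : IsLocallyNoetherian X :=
    LocallyOfFiniteType.isLocallyNoetherian (X ↘ (Spec (CommRingCat.of k)))
  haveI hess : Algebra.EssFiniteType k (X.presheaf.stalk (Curv2.bcFst k X k' x')) :=
    Groth.Agent.H1.SmoothReg.essFiniteType_stalkMapK k (X ↘ (Spec (CommRingCat.of k))) _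
  haveI : IsNoetherianRing (X.presheaf.stalk (Curv2.bcFst k X k' x') ⊗[k] k') := by
    haveI : Algebra.EssFiniteType k' (k' ⊗[k] X.presheaf.stalk (Curv2.bcFst k X k' x')) :=
      inferInstance
    haveI : IsNoetherianRing (k' ⊗[k] X.presheaf.stalk (Curv2.bcFst k X k' x')) :=
      Algebra.EssFiniteType.isNoetherianRing k' _
    exact isNoetherianRing_of_ringEquiv _ (Algebra.TensorProduct.comm k k' _).toRingEquiv
  have hfib : ∀ (p : Ideal (X.presheaf.stalk (Curv2.bcFst k X k' x'))) [p.IsPrime],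
      LocCoh.IsCohenMacaulayRing
        (p.Fiber (X.presheaf.stalk (Curv2.bcFst k X k' x') ⊗[k] k')) := by
    intro p _
    refine Groth.Agent.H2.FFib.cm_fibre_baseChange k _ k' (fun p' _ => ?_) p
    haveI : Algebra.EssFiniteType k p'.ResidueField := by
      haveI : Algebra.EssFiniteType k (Localization.AtPrime p') := inferInstance
      exact Algebra.EssFiniteType.of_surjective
        (IsScalarTower.toAlgHom k (Localization.AtPrime p') p'.ResidueField)
        Ideal.Quotient.mk_surjective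
    exact Groth.Agent.H2.TenCM.cm_tensor_of_essFiniteType k p'.ResidueField k'
  obtain ⟨q, hq, ⟨e⟩⟩ := exists_prime_of_point k X k' (Curv2.bcFst k X k' x') x' rfl
  exact (cdr_iff_of_fibres k _ k' hfib q.asIdeal hq n).trans (cdr_iff_of_ringEquiv e.symm n)

/-- transport of the fibre stalk along an equality of base points. -/
theorem cdr_stalk_fiber_congr {X Y : Scheme.{u}} (f : X ⟶ Y) (x : X) (y : Y) (hy : f x = y)
    (a : f.fiber y) (ha : f.fiberι y a = x) (n : ℕ) :
    CDr ((f.fiber y).presheaf.stalk a) n ↔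
      CDr ((f.fiber (f x)).presheaf.stalk (f.asFiber x)) n := by
  subst hy
  have : a = f.asFiber x :=
    (f.fiberι (f x)).isEmbedding.injective (ha.trans (f.fiberι_asFiber x).symm)
  rw [this]

set_option backward.isDefEq.respectTransparency false in
theorem cdr_fiber_stalk_iff_aux' {X Y X' Y' : Scheme.{u}} (f : X ⟶ Y) (f' : X' ⟶ Y')
    (g' : X' ⟶ X) (g : Y' ⟶ Y) [LocallyOfFiniteType f] (hc : IsPullback g' f' f g) (y' : Y')
    (a' : f'.fiber y') (n : ℕ) :
    CDr ((f.fiber (g y')).presheaf.stalk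
      ((pullback.map f' (Y'.fromSpecResidueField y') f (Y.fromSpecResidueField (g y'))
        g' (Spec.map (g.residueFieldMap y')) g hc.w.symm (by simp)) a')) n ↔
      CDr ((f'.fiber y').presheaf.stalk a') n := by
  haveI : LocallyOfFiniteType f' := MorphismProperty.of_isPullback hc inferInstance
  have hφ := isPullback_fiberToSpecResidueField_of_isPullback hc y'
  set φ : f'.fiber y' ⟶ f.fiber (g y') :=
    pullback.map f' (Y'.fromSpecResidueField y') f (Y.fromSpecResidueField (g y'))
        g' (Spec.map (g.residueFieldMap y')) g hc.w.symm (by simp) with hφdef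
  letI alg : Algebra ↑(Y.residueField (g y')) ↑(Y'.residueField y') :=
    (g.residueFieldMap y').hom.toAlgebra
  letI ov : (f.fiber (g y')).Over (Spec (CommRingCat.of ↑(Y.residueField (g y')))) :=
    ⟨f.fiberToSpecResidueField (g y')⟩
  haveI : LocallyOfFiniteType
      ((f.fiber (g y')) ↘ (Spec (CommRingCat.of ↑(Y.residueField (g y'))))) := by
    show LocallyOfFiniteType (pullback.snd f (Y.fromSpecResidueField (g y')))
    infer_instance
  let e := hφ.isoPullback
  have he : e.hom ≫ pullback.fst _ _ = φ := hφ.isoPullback_hom_fst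
  have key := cdr_stalk_bc ↑(Y.residueField (g y')) (f.fiber (g y'))
    ↑(Y'.residueField y') (e.hom a') n
  have hpt : (Curv2.bcFst ↑(Y.residueField (g y')) (f.fiber (g y')) ↑(Y'.residueField y'))
      (e.hom a') = φ a' := by
    rw [← he]; rfl
  rw [hpt] at key
  refine key.trans ?_
  exact (cdr_iff_of_ringEquiv
    (asIso (e.hom.stalkMap a')).commRingCatIsoToRingEquiv.symm n).symm

variable {X Y X' Y' : Scheme.{u}} {f : X ⟶ Y} {f' : X' ⟶ Y'} {g' : X' ⟶ X} {g : Y' ⟶ Y}

set_option backward.isDefEq.respectTransparency false in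
theorem cdr_asFiber_iff' [LocallyOfFiniteType f] (hc : IsPullback g' f' f g) (x' : X') (n : ℕ) :
    CDr ((f.fiber (f (g' x'))).presheaf.stalk (f.asFiber (g' x'))) n ↔
      CDr ((f'.fiber (f' x')).presheaf.stalk (f'.asFiber x')) n := by
  have haux := cdr_fiber_stalk_iff_aux' f f' g' g hc (f' x') (f'.asFiber x') n
  set φ : f'.fiber (f' x') ⟶ f.fiber (g (f' x')) :=
    pullback.map f' (Y'.fromSpecResidueField (f' x')) f (Y.fromSpecResidueField (g (f' x')))
        g' (Spec.map (g.residueFieldMap (f' x'))) g hc.w.symm (by simp) with hφdef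
  have hφι : φ ≫ f.fiberι (g (f' x')) = f'.fiberι (f' x') ≫ g' := by
    simp only [hφdef, Scheme.Hom.fiberι]
    exact pullback.lift_fst _ _ _
  have hι : f.fiberι (g (f' x')) (φ (f'.asFiber x')) = g' x' := by
    rw [← Scheme.Hom.comp_apply, hφι, Scheme.Hom.comp_apply, f'.fiberι_asFiber]
  have hy : f (g' x') = g (f' x') := by
    rw [← Scheme.Hom.comp_apply, hc.w, Scheme.Hom.comp_apply]
  exact (cdr_stalk_fiber_congr f (g' x') (g (f' x')) hy (φ (f'.asFiber x')) hι n).symm.trans haux

end Groth.Agent.H1.Codepth
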