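import Mathlib
import Groth.Agent.Lib.Helper1.CMQF
import Groth.Agent.Lib.Helper1.CodepthAlg
import Groth.Agent.Lib.Helper1.FibCompC

set_option autoImplicit false
set_option linter.style.haveILetI false
universe u

open IsLocalRing AlgebraicGeometry CategoryTheory CategoryTheory.Limits
  Groth.Agent.H1.CritFib Groth.Agent.H1.DimFormula Groth.Agent.H1.FibreStalk

namespace Groth.Agent.H1.Codepth

/-- the fibre local ring at `x` has codepth at most `n`. -/
def CD {X S : Scheme.{u}} (f : X ⟶ S) (x : X) (n : ℕ) : Prop :=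
  CDr ((f.fiber (f x)).presheaf.stalk (f.asFiber x)) n

theorem cd_congr {X S : Scheme.{u}} {f f' : X ⟶ S} (e : f = f') (x : X) (n : ℕ) :
    CD f x n ↔ CD f' x n := by
  subst e; rfl

theorem cdr_stalk_congr {T : Scheme.{u}} {a b : T} (e : a = b) (n : ℕ) :
    CDr (T.presheaf.stalk a) n ↔ CDr (T.presheaf.stalk b) n := by
  subst e; rfl

theorem withBot_natCast_nonneg (t : ℕ) : (0 : WithBot ℕ∞) ≤ ((t : ℕ) : WithBot ℕ∞) := by
  exact_mod_cast Nat.zero_le t

theorem withBot_coe_nonneg (a : ℕ∞) : (0 : WithBot ℕ∞) ≤ ((a : ℕ∞) : WithBot ℕ∞) := by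
  have h : (0 : ℕ∞) ≤ a := by simp
  exact_mod_cast h

theorem cd_of_fibreDimAt_le {X S : Scheme.{u}} (f : X ⟶ S) [LocallyOfFiniteType f] (x : X) (n : ℕ)
    (h : FlatMor.fibreDimAt f x ≤ (n : WithBot ℕ∞)) : CD f x n := by
  obtain ⟨t, -, ht⟩ := exists_fibreDimAt_eq_stalk_add_trdeg f x
  unfold CD CDr
  calc ringKrullDim ((f.fiber (f x)).presheaf.stalk (f.asFiber x))
      ≤ ringKrullDim ((f.fiber (f x)).presheaf.stalk (f.asFiber x)) + (t : WithBot ℕ∞) :=
        le_add_of_nonneg_right (withBot_natCast_nonneg t)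
    _ = FlatMor.fibreDimAt f x := ht.symm
    _ ≤ (n : WithBot ℕ∞) := h
    _ ≤ _ := le_add_of_nonneg_left (withBot_coe_nonneg _)

/-- the fibre local ring of `g` at `x` as the closed fibre of the map of fibre local rings. -/
theorem nonempty_fiberOfFiberEquiv {D Y S : Scheme.{u}} (g : D ⟶ Y) (π : Y ⟶ S) (x : D) :
    Nonempty ((((g ≫ π).fiber (π (g x))).presheaf.stalk ((g ≫ π).asFiber x) ⧸
        (maximalIdeal ((π.fiber (π (g x))).presheaf.stalk
          ((MoreMor.fiberMap g π (π (g x))) ((g ≫ π).asFiber x)))).map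
          ((MoreMor.fiberMap g π (π (g x))).stalkMap ((g ≫ π).asFiber x)).hom) ≃+*
      (g.fiber (g x)).presheaf.stalk (g.asFiber x)) := by
  have hsq := fibre_square g π x
  have hb := toFiberStalk_surjective (g ≫ π) x
  have ha : Function.Surjective ((((π.fiber (π (g x))).presheaf.stalkCongr
        (.of_eq (fiberMap_asFiber g π x).symm)).hom.hom).comp (toFiberStalk π (g x))) := by
    intro y
    obtain ⟨y1, hy1⟩ := (Iso.commRingCatIsoToRingEquiv ((π.fiber (π (g x))).presheaf.stalkCongr
        (.of_eq (fiberMap_asFiber g π x).symm))).surjective y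
    obtain ⟨y2, hy2⟩ := toFiberStalk_surjective π (g x) y1
    refine ⟨y2, ?_⟩
    rw [RingHom.comp_apply, hy2]
    exact hy1
  have hker : RingHom.ker (toFiberStalk (g ≫ π) x) ≤
      (maximalIdeal (Y.presheaf.stalk (g x))).map (g.stalkMap x).hom := by
    rw [ker_toFiberStalk, Ideal.map_le_iff_le_comap]
    intro t ht
    rw [Ideal.mem_comap]
    have e : ((g ≫ π).stalkMap x).hom t = (g.stalkMap x).hom ((π.stalkMap (g x)).hom t) := by
      rw [Scheme.Hom.stalkMap_comp]; rfl
    rw [e]
    apply Ideal.mem_map_of_mem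
    rw [mem_maximalIdeal, mem_nonunits_iff]
    intro hu
    exact (mem_maximalIdeal _).mp ht (isUnit_of_map_unit (π.stalkMap (g x)).hom _ hu)
  obtain ⟨e⟩ := nonempty_fiberQuotEquiv (g.stalkMap x).hom _ (toFiberStalk (g ≫ π) x) _ ha hb hsq
    hker
  exact ⟨e.trans (fiberStalkEquiv g x)⟩

set_option backward.isDefEq.respectTransparency false in
/-- **codepth through a smooth target**: if `g` is flat at `x` and `π` is smooth, then `g ≫ π` is
flat at `x` and the fibre local rings of `g ≫ π` and `g` at `x` have the same codepth. -/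
theorem cd_comp_iff {D Y S : Scheme.{u}} (g : D ⟶ Y) (π : Y ⟶ S)
    [LocallyOfFinitePresentation (g ≫ π)] [Smooth π] (x : D)
    (hfl : (g.stalkMap x).hom.Flat) (n : ℕ) :
    ((g ≫ π).stalkMap x).hom.Flat ∧ (CD (g ≫ π) x n ↔ CD g x n) := by
  haveI : LocallyOfFiniteType π := inferInstance
  haveI : Flat π := inferInstance
  haveI : LocallyOfFinitePresentation g := locallyOfFinitePresentation_of_comp g π
  have hcrit := crit_stalk_iff g π x
  obtain ⟨hf1, hf2⟩ := hcrit.mpr ⟨Flat.stalkMap π (g x), hfl⟩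
  refine ⟨hf1, ?_⟩
  haveI : Smooth (π.fiberToSpecResidueField (π (g x))) :=
    inferInstanceAs (Smooth (pullback.snd π (S.fromSpecResidueField (π (g x)))))
  haveI hreg : IsRegularLocalRing ((π.fiber (π (g x))).presheaf.stalk
      ((MoreMor.fiberMap g π (π (g x))) ((g ≫ π).asFiber x))) :=
    Groth.Agent.H1.SmoothDepth.isRegularLocalRing_stalk_of_smooth (S.residueField (π (g x)))
      (π.fiberToSpecResidueField (π (g x))) _
  letI := ((MoreMor.fiberMap g π (π (g x))).stalkMap ((g ≫ π).asFiber x)).hom.toAlgebra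
  haveI : Module.Flat ((π.fiber (π (g x))).presheaf.stalk
      ((MoreMor.fiberMap g π (π (g x))) ((g ≫ π).asFiber x)))
      (((g ≫ π).fiber (π (g x))).presheaf.stalk ((g ≫ π).asFiber x)) := hf2
  haveI : IsLocalHom (algebraMap ((π.fiber (π (g x))).presheaf.stalk
      ((MoreMor.fiberMap g π (π (g x))) ((g ≫ π).asFiber x)))
      (((g ≫ π).fiber (π (g x))).presheaf.stalk ((g ≫ π).asFiber x))) :=
    inferInstanceAs (IsLocalHom
      ((MoreMor.fiberMap g π (π (g x))).stalkMap ((g ≫ π).asFiber x)).hom)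
  obtain ⟨e⟩ := nonempty_fiberOfFiberEquiv g π x
  exact cdr_fiber_iff _ _ _ e n

set_option backward.isDefEq.respectTransparency false in
/-- the codepth of the fibre local ring is insensitive to open immersions into the source. -/
theorem cd_comp_isOpenImmersion {U X S : Scheme.{u}} (j : U ⟶ X) [IsOpenImmersion j] (f : X ⟶ S)
    [LocallyOfFiniteType f] (u : U) (n : ℕ) : CD (j ≫ f) u n ↔ CD f (j u) n := by
  have hpb := isPullback_fiberMap j f (f (j u))
  haveI : IsOpenImmersion (MoreMor.fiberMap j f (f (j u))) :=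
    MorphismProperty.of_isPullback hpb inferInstance
  have hz : (MoreMor.fiberMap j f (f (j u))) ((j ≫ f).asFiber u) = f.asFiber (j u) :=
    fiberMap_asFiber j f u
  let σ := (asIso ((MoreMor.fiberMap j f (f (j u))).stalkMap
    ((j ≫ f).asFiber u))).commRingCatIsoToRingEquiv
  exact ((cdr_iff_of_ringEquiv σ n).symm).trans (cdr_stalk_congr hz n)

theorem isAlgebraic_map_of_comp {K L M : Type*} [CommRing K] [CommRing L] [CommRing M]
    (i : K →+* L) (j : L →+* M) (τ : L) (h : @IsAlgebraic K L _ _ i.toAlgebra τ) :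
    @IsAlgebraic K M _ _ (j.comp i).toAlgebra (j τ) := by
  obtain ⟨p, hp0, hp⟩ := h
  refine ⟨p, hp0, ?_⟩
  have h1 : Polynomial.eval₂ i τ p = 0 := hp
  show Polynomial.eval₂ (j.comp i) (j τ) p = 0
  rw [← Polynomial.hom_eval₂, h1, map_zero]

theorem isAlgebraic_of_eq {K M : Type*} [CommRing K] [CommRing M] {k k' : K →+* M} (e : k = k')
    (m : M) (h : @IsAlgebraic K M _ _ k.toAlgebra m) : @IsAlgebraic K M _ _ k'.toAlgebra m := by
  subst e; exact h

set_option backward.isDefEq.respectTransparency false in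
/-- **flatness of a map to a smooth target of relative dimension one**, from a coordinate. -/
theorem flat_stalkMap_of_coord {X Y S : Scheme.{u}} (g : X ⟶ Y) (π : Y ⟶ S)
    [LocallyOfFinitePresentation (g ≫ π)] [Smooth π] (x : X)
    (hd : FlatMor.fibreDimAt π (g x) = ((1 : ℕ) : WithBot ℕ∞))
    (hfl : ((g ≫ π).stalkMap x).hom.Flat) (T : Γ(Y, ⊤))
    (hT : (toFiberStalk (g ≫ π) x ((g.stalkMap x).hom (Y.presheaf.germ ⊤ (g x) trivial T)) ∈
            maximalIdeal (((g ≫ π).fiber ((g ≫ π) x)).presheaf.stalk ((g ≫ π).asFiber x)) ∧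
          IsSMulRegular (((g ≫ π).fiber ((g ≫ π) x)).presheaf.stalk ((g ≫ π).asFiber x))
            (toFiberStalk (g ≫ π) x ((g.stalkMap x).hom (Y.presheaf.germ ⊤ (g x) trivial T)))) ∨
      (@Transcendental (S.residueField ((g ≫ π) x)) (X.residueField x) _ _
          ((g ≫ π).residueFieldMap x).hom.toAlgebra
          ((X.residue x).hom ((g.stalkMap x).hom (Y.presheaf.germ ⊤ (g x) trivial T))))) :
    (g.stalkMap x).hom.Flat := by
  haveI : LocallyOfFiniteType π := inferInstance
  have hcrit := crit_stalk_iff g π x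
  refine (hcrit.mp ⟨hfl, ?_⟩).2
  set s : S := π (g x) with hs
  set h := MoreMor.fiberMap g π s with hh
  set z := (g ≫ π).asFiber x with hz
  have hhz : h z = π.asFiber (g x) := fiberMap_asFiber g π x
  haveI : Smooth (π.fiberToSpecResidueField s) :=
    inferInstanceAs (Smooth (pullback.snd π (S.fromSpecResidueField s)))
  haveI hreg : IsRegularLocalRing ((π.fiber s).presheaf.stalk (h z)) :=
    Groth.Agent.H1.SmoothDepth.isRegularLocalRing_stalk_of_smooth (S.residueField s)
      (π.fiberToSpecResidueField s) (h z)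
  obtain ⟨t₂, ht₂, h₂'⟩ := exists_fibreDimAt_eq_stalk_add_trdeg π (g x)
  have h₂ : FlatMor.fibreDimAt π (g x) =
      ringKrullDim ((π.fiber s).presheaf.stalk (π.asFiber (g x))) + (t₂ : WithBot ℕ∞) := h₂'
  rw [hd, ← hhz] at h₂
  have hdimP : ringKrullDim ((π.fiber s).presheaf.stalk (h z)) ≤ 1 := by
    calc ringKrullDim ((π.fiber s).presheaf.stalk (h z))
        ≤ ringKrullDim ((π.fiber s).presheaf.stalk (h z)) + (t₂ : WithBot ℕ∞) :=
          le_add_of_nonneg_right (withBot_natCast_nonneg t₂)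
      _ = ((1 : ℕ) : WithBot ℕ∞) := h₂.symm
      _ = 1 := Nat.cast_one
  apply flat_of_regular_dim_le_one (h.stalkMap z).hom hdimP
  rcases hT with ⟨hmem, hregc⟩ | htr
  · right
    have hsq := fibre_square g π x
    have hχ : (h.stalkMap z).hom
        (((((π.fiber s).presheaf.stalkCongr (.of_eq (fiberMap_asFiber g π x).symm)).hom.hom).comp
          (toFiberStalk π (g x))) (Y.presheaf.germ ⊤ (g x) trivial T)) =
        toFiberStalk (g ≫ π) x ((g.stalkMap x).hom (Y.presheaf.germ ⊤ (g x) trivial T)) :=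
      RingHom.congr_fun hsq _
    refine ⟨((((π.fiber s).presheaf.stalkCongr (.of_eq (fiberMap_asFiber g π x).symm)).hom.hom).comp
          (toFiberStalk π (g x))) (Y.presheaf.germ ⊤ (g x) trivial T), ?_, ?_⟩
    · rw [mem_maximalIdeal, mem_nonunits_iff]
      intro hu
      have hu' := hu.map (h.stalkMap z).hom
      rw [hχ] at hu'
      exact (mem_maximalIdeal _).mp hmem hu'
    · rw [hχ]
      exact hregc
  · left
    have ht0 : t₂ ≠ 0 := by
      intro h0
      rw [h0] at ht₂
      letI alg1 : Algebra (S.residueField (π (g x))) (Y.residueField (g x)) :=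
        (π.residueFieldMap (g x)).hom.toAlgebra
      have halg : Algebra.IsAlgebraic (S.residueField (π (g x))) (Y.residueField (g x)) := by
        rw [← trdeg_eq_zero_iff]
        exact_mod_cast ht₂
      have h1 := halg.isAlgebraic ((Y.residue (g x)).hom (Y.presheaf.germ ⊤ (g x) trivial T))
      have h2 := isAlgebraic_map_of_comp (π.residueFieldMap (g x)).hom (g.residueFieldMap x).hom
        _ h1
      have h3 : (g.residueFieldMap x).hom
          ((Y.residue (g x)).hom (Y.presheaf.germ ⊤ (g x) trivial T)) =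
          (X.residue x).hom ((g.stalkMap x).hom (Y.presheaf.germ ⊤ (g x) trivial T)) := by
        have := Scheme.residue_residueFieldMap g x
        exact congrArg (fun r => r.hom (Y.presheaf.germ ⊤ (g x) trivial T)) this
      rw [h3] at h2
      have h4 : (g.residueFieldMap x).hom.comp (π.residueFieldMap (g x)).hom =
          ((g ≫ π).residueFieldMap x).hom := by
        rw [Scheme.residueFieldMap_comp]; rfl
      exact htr (isAlgebraic_of_eq h4 _ h2)
    have hPnn : 0 ≤ ringKrullDim ((π.fiber s).presheaf.stalk (h z)) :=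
      ringKrullDim_nonneg_of_nontrivial
    obtain ⟨d, hdP⟩ : ∃ d : ℕ∞, ringKrullDim ((π.fiber s).presheaf.stalk (h z)) =
        (d : WithBot ℕ∞) := by
      cases hP : ringKrullDim ((π.fiber s).presheaf.stalk (h z)) with
      | bot => rw [hP] at hPnn; exact absurd hPnn (by simp)
      | coe d => exact ⟨d, rfl⟩
    rw [hdP] at h₂ ⊢
    have h5 : ((1 : ℕ) : ℕ∞) = d + (t₂ : ℕ∞) := by exact_mod_cast h₂
    have hd0 : d = 0 := by
      cases d using ENat.recTopCoe with
      | top => simp at h5
      | coe m =>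
        have h6 : (1 : ℕ) = m + t₂ := by exact_mod_cast h5
        have h7 : m = 0 := by omega
        simp [h7]
    rw [hd0]
    rfl

theorem flat_stalkMap_of_coord' {X Y S : Scheme.{u}} (g : X ⟶ Y) (π : Y ⟶ S) (f : X ⟶ S)
    (hover : g ≫ π = f) [LocallyOfFinitePresentation f] [Smooth π] (x : X)
    (hd : FlatMor.fibreDimAt π (g x) = ((1 : ℕ) : WithBot ℕ∞))
    (hfl : (f.stalkMap x).hom.Flat) (T : Γ(Y, ⊤)) (c : X.presheaf.stalk x)
    (hc : (g.stalkMap x).hom (Y.presheaf.germ ⊤ (g x) trivial T) = c)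
    (hT : (toFiberStalk f x c ∈ maximalIdeal ((f.fiber (f x)).presheaf.stalk (f.asFiber x)) ∧
          IsSMulRegular ((f.fiber (f x)).presheaf.stalk (f.asFiber x)) (toFiberStalk f x c)) ∨
      (@Transcendental (S.residueField (f x)) (X.residueField x) _ _
          (f.residueFieldMap x).hom.toAlgebra ((X.residue x).hom c))) :
    (g.stalkMap x).hom.Flat := by
  subst hover
  subst hc
  exact flat_stalkMap_of_coord g π x hd hfl T hT

end Groth.Agent.H1.Codepth
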