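import Mathlib
import Groth.Agent.Lib.Helper1.CodepthSch

set_option autoImplicit false
set_option linter.style.haveILetI false
universe u

open IsLocalRing AlgebraicGeometry CategoryTheory CategoryTheory.Limits
  Groth.Agent.H1.CritFib Groth.Agent.H1.DimFormula Groth.Agent.H1.FibreStalk

namespace Groth.Agent.H1.Codepth

theorem exists_germ_mul_eq {X : Scheme.{u}} [IsAffine X] (x : X) (z : X.presheaf.stalk x) :
    ∃ b s' : Γ(X, ⊤), IsUnit (X.presheaf.germ ⊤ x trivial s') ∧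
      z * X.presheaf.germ ⊤ x trivial s' = X.presheaf.germ ⊤ x trivial b := by
  have hU : IsAffineOpen (⊤ : X.Opens) := isAffineOpen_top X
  letI := X.presheaf.algebra_section_stalk (⟨x, trivial⟩ : (⊤ : X.Opens))
  haveI := hU.isLocalization_stalk ⟨x, trivial⟩
  obtain ⟨b, s', hbs⟩ := IsLocalization.exists_mk'_eq
    (hU.primeIdealOf ⟨x, trivial⟩).asIdeal.primeCompl z
  refine ⟨b, s'.1, IsLocalization.map_units (X.presheaf.stalk x) s', ?_⟩
  rw [← hbs]
  exact IsLocalization.mk'_spec _ b s'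

set_option backward.isDefEq.respectTransparency false in
theorem exists_coord {X S : Scheme.{u}} [IsAffine X] (f : X ⟶ S) [LocallyOfFinitePresentation f]
    (x : X) (n N : ℕ) (hN : FlatMor.fibreDimAt f x = ((N + 1 : ℕ) : WithBot ℕ∞))
    (hlt : n < N + 1) (hcd : CD f x n) :
    ∃ b : Γ(X, ⊤),
      (toFiberStalk f x (X.presheaf.germ ⊤ x trivial b) ∈
          maximalIdeal ((f.fiber (f x)).presheaf.stalk (f.asFiber x)) ∧
        IsSMulRegular ((f.fiber (f x)).presheaf.stalk (f.asFiber x))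
          (toFiberStalk f x (X.presheaf.germ ⊤ x trivial b))) ∨
      (@Transcendental (S.residueField (f x)) (X.residueField x) _ _
          (f.residueFieldMap x).hom.toAlgebra
          ((X.residue x).hom (X.presheaf.germ ⊤ x trivial b))) := by
  obtain ⟨t₁, ht₁, h₁⟩ := exists_fibreDimAt_eq_stalk_add_trdeg f x
  rw [hN] at h₁
  by_cases hdep : LocCoh.depth ((f.fiber (f x)).presheaf.stalk (f.asFiber x))
      ((f.fiber (f x)).presheaf.stalk (f.asFiber x)) = 0
  · have ht1 : t₁ ≠ 0 := by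
      intro h0
      rw [h0] at h₁
      have hcd' : ringKrullDim ((f.fiber (f x)).presheaf.stalk (f.asFiber x)) ≤
          ((LocCoh.depth ((f.fiber (f x)).presheaf.stalk (f.asFiber x))
            ((f.fiber (f x)).presheaf.stalk (f.asFiber x)) : ℕ∞) : WithBot ℕ∞) +
            (n : WithBot ℕ∞) := hcd
      rw [hdep] at hcd'
      have h2 : ((N + 1 : ℕ) : WithBot ℕ∞) ≤ (n : WithBot ℕ∞) := by
        calc ((N + 1 : ℕ) : WithBot ℕ∞)
            = ringKrullDim ((f.fiber (f x)).presheaf.stalk (f.asFiber x)) +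
                ((0 : ℕ) : WithBot ℕ∞) := h₁
          _ = ringKrullDim ((f.fiber (f x)).presheaf.stalk (f.asFiber x)) := by simp
          _ ≤ ((0 : ℕ∞) : WithBot ℕ∞) + (n : WithBot ℕ∞) := hcd'
          _ = (n : WithBot ℕ∞) := by simp
      have h3 : N + 1 ≤ n := by exact_mod_cast h2
      omega
    letI alg : Algebra (S.residueField (f x)) (X.residueField x) :=
      (f.residueFieldMap x).hom.toAlgebra
    have htr : Algebra.Transcendental (S.residueField (f x)) (X.residueField x) := by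
      rw [← trdeg_ne_zero_iff, ht₁]
      exact_mod_cast ht1
    obtain ⟨τ, hτ⟩ := htr.transcendental
    obtain ⟨zz, hzz⟩ := IsLocalRing.residue_surjective τ
    have hzz' : (X.residue x).hom zz = τ := hzz
    obtain ⟨b, s', hu, hmul⟩ := exists_germ_mul_eq x zz
    by_cases hb : Transcendental (S.residueField (f x))
        ((X.residue x).hom (X.presheaf.germ ⊤ x trivial b))
    · exact ⟨b, Or.inr hb⟩
    · refine ⟨s', Or.inr ?_⟩
      intro hs
      apply hτ
      have hb' : IsAlgebraic (S.residueField (f x))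
          ((X.residue x).hom (X.presheaf.germ ⊤ x trivial b)) := not_not.mp hb
      have hmul' : τ * (X.residue x).hom (X.presheaf.germ ⊤ x trivial s') =
          (X.residue x).hom (X.presheaf.germ ⊤ x trivial b) := by
        rw [← hzz', ← hmul, map_mul]
      have hne : (X.residue x).hom (X.presheaf.germ ⊤ x trivial s') ≠ 0 :=
        (hu.map (X.residue x).hom).ne_zero
      have hτeq : τ = (X.residue x).hom (X.presheaf.germ ⊤ x trivial b) *
          ((X.residue x).hom (X.presheaf.germ ⊤ x trivial s'))⁻¹ := by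
        rw [← hmul', mul_assoc, mul_inv_cancel₀ hne, mul_one]
      rw [hτeq]
      exact hb'.mul hs.inv
  · obtain ⟨ā, hām, hāreg⟩ := Groth.Agent.H1.AB.exists_isSMulRegular_of_depth_ne_zero
      (R := (f.fiber (f x)).presheaf.stalk (f.asFiber x))
      ((f.fiber (f x)).presheaf.stalk (f.asFiber x)) hdep
    obtain ⟨zz, hzz⟩ := toFiberStalk_surjective f x ā
    obtain ⟨b, s', hu, hmul⟩ := exists_germ_mul_eq x zz
    refine ⟨b, Or.inl ?_⟩
    have hb : toFiberStalk f x (X.presheaf.germ ⊤ x trivial b) =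
        ā * toFiberStalk f x (X.presheaf.germ ⊤ x trivial s') := by
      rw [← hmul, map_mul, hzz]
    have hu' : IsUnit (toFiberStalk f x (X.presheaf.germ ⊤ x trivial s')) := hu.map _
    rw [hb]
    refine ⟨Ideal.mul_mem_right _ _ hām, ?_⟩
    intro y y' hyy
    have h1 : ā • (toFiberStalk f x (X.presheaf.germ ⊤ x trivial s') • y) =
        ā • (toFiberStalk f x (X.presheaf.germ ⊤ x trivial s') • y') := by
      rw [← mul_smul, ← mul_smul]
      exact hyy
    have h2 := hāreg h1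
    exact hu'.smul_left_cancel.mp h2

set_option backward.isDefEq.respectTransparency false in
theorem exists_coord_step {X S : Scheme.{u}} [IsAffine X] (f : X ⟶ S)
    [LocallyOfFinitePresentation f] (x : X) (hfl : (f.stalkMap x).hom.Flat) (n N : ℕ)
    (hN : FlatMor.fibreDimAt f x = ((N + 1 : ℕ) : WithBot ℕ∞)) (hlt : n < N + 1)
    (hcd : CD f x n) :
    ∃ g : X ⟶ 𝔸(ULift.{u} (Fin 1); S), g ≫ (𝔸(ULift.{u} (Fin 1); S) ↘ S) = f ∧
      (g.stalkMap x).hom.Flat ∧ CD g x n ∧ FlatMor.fibreDimAt g x = (N : WithBot ℕ∞) := by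
  obtain ⟨b, hT⟩ := exists_coord f x n N hN hlt hcd
  obtain ⟨g, hover, hgfl⟩ : ∃ g : X ⟶ 𝔸(ULift.{u} (Fin 1); S),
      g ≫ (𝔸(ULift.{u} (Fin 1); S) ↘ S) = f ∧ (g.stalkMap x).hom.Flat := by
    refine ⟨AffineSpace.homOfVector f (fun _ => b), AffineSpace.homOfVector_over f _, ?_⟩
    refine flat_stalkMap_of_coord' (AffineSpace.homOfVector f (fun _ => b))
      (𝔸(ULift.{u} (Fin 1); S) ↘ S) f (AffineSpace.homOfVector_over f _) x
      (Groth.Agent.H1.CMQF.fibreDimAt_affineSpace 1 S _) hfl (AffineSpace.coord S (ULift.up 0 : ULift.{u} (Fin 1)))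
      (X.presheaf.germ ⊤ x trivial b) ?_ hT
    rw [Scheme.Hom.germ_stalkMap_apply]
    have hb : (AffineSpace.homOfVector f (fun _ => b)).app ⊤ (AffineSpace.coord S (ULift.up 0 : ULift.{u} (Fin 1))) = b :=
      AffineSpace.homOfVector_appTop_coord f _ _
    rw [hb]
    rfl
  subst hover
  haveI : LocallyOfFinitePresentation g := locallyOfFinitePresentation_of_comp g (𝔸(ULift.{u} (Fin 1); S) ↘ S)
  obtain ⟨-, hiff⟩ := cd_comp_iff g (𝔸(ULift.{u} (Fin 1); S) ↘ S) x hgfl n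
  refine ⟨g, rfl, hgfl, hiff.mp hcd, ?_⟩
  have h1 := (fibreDimAt_comp g (𝔸(ULift.{u} (Fin 1); S) ↘ S) x).2 hgfl
  rw [hN] at h1
  have h2 : FlatMor.fibreDimAt (𝔸(ULift.{u} (Fin 1); S) ↘ S) (g.base x) =
      ((1 : ℕ) : WithBot ℕ∞) := Groth.Agent.H1.CMQF.fibreDimAt_affineSpace 1 S _
  rw [h2] at h1
  have h3 : ((N : ℕ) : WithBot ℕ∞) + ((1 : ℕ) : WithBot ℕ∞) =
      FlatMor.fibreDimAt g x + ((1 : ℕ) : WithBot ℕ∞) := by
    rw [← h1]
    push_cast
    rfl
  exact (Groth.Agent.H1.AlgSpDim.withBot_add_natCast_cancel h3).symm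

theorem exists_flat_to_smooth (n : ℕ) : ∀ (N : ℕ) {X S : Scheme.{u}} (f : X ⟶ S)
    [LocallyOfFinitePresentation f] (x : X),
    FlatMor.fibreDimAt f x = (N : WithBot ℕ∞) → (f.stalkMap x).hom.Flat → CD f x n →
    ∃ (U : Scheme.{u}) (j : U ⟶ X) (_ : IsOpenImmersion j) (u : U) (Y : Scheme.{u}) (π : Y ⟶ S)
      (_ : Smooth π) (φ : U ⟶ Y),
      j u = x ∧ φ ≫ π = j ≫ f ∧ (φ.stalkMap u).hom.Flat ∧
        FlatMor.fibreDimAt φ u ≤ (n : WithBot ℕ∞) := by
  intro N
  induction N with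
  | zero =>
    intro X S f _ x hN hfl hcd
    exact ⟨X, 𝟙 X, inferInstance, x, S, 𝟙 S, inferInstance, f, rfl, by simp, hfl,
      by rw [hN]; exact_mod_cast Nat.zero_le n⟩
  | succ N ih =>
    intro X S f _ x hN hfl hcd
    by_cases hNn : N + 1 ≤ n
    · exact ⟨X, 𝟙 X, inferInstance, x, S, 𝟙 S, inferInstance, f, rfl, by simp, hfl,
        by rw [hN]; exact_mod_cast hNn⟩
    · push Not at hNn
      obtain ⟨U₀, hU₀, hxU₀⟩ : ∃ U₀ : X.Opens, IsAffineOpen U₀ ∧ x ∈ U₀ := by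
        obtain ⟨_, ⟨U, hU, rfl⟩, hxU, -⟩ :=
          X.isBasis_affineOpens.exists_subset_of_mem_open (Set.mem_univ x) isOpen_univ
        exact ⟨U, hU, hxU⟩
      haveI : IsAffine (U₀ : Scheme.{u}) := hU₀
      let x₀ : (U₀ : Scheme.{u}) := ⟨x, hxU₀⟩
      have hfl₀ : ((U₀.ι ≫ f).stalkMap x₀).hom.Flat :=
        (H5.DS.flat_stalkMap_comp U₀.ι f x₀).mp hfl
      have hN₀ : FlatMor.fibreDimAt (U₀.ι ≫ f) x₀ = ((N + 1 : ℕ) : WithBot ℕ∞) := by
        rw [Groth.Agent.H1.CMQF.fibreDimAt_comp_isOpenImmersion U₀.ι f x₀]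
        exact hN
      have hcd₀ : CD (U₀.ι ≫ f) x₀ n := (cd_comp_isOpenImmersion U₀.ι f x₀ n).mpr hcd
      obtain ⟨g, hover, hgfl, hgcd, hgN⟩ :=
        exists_coord_step (U₀.ι ≫ f) x₀ hfl₀ n N hN₀ hNn hcd₀
      haveI : LocallyOfFinitePresentation (g ≫ (𝔸(ULift.{u} (Fin 1); S) ↘ S)) := by
        rw [hover]; infer_instance
      haveI : LocallyOfFinitePresentation g := locallyOfFinitePresentation_of_comp g (𝔸(ULift.{u} (Fin 1); S) ↘ S)
      obtain ⟨U₁, j₁, hj₁, u₁, Y, π', hπ', φ, hju, hφ, hφfl, hφd⟩ := ih g x₀ hgN hgfl hgcd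
      refine ⟨U₁, j₁ ≫ U₀.ι, inferInstance, u₁, Y, π' ≫ (𝔸(ULift.{u} (Fin 1); S) ↘ S),
        inferInstance, φ, ?_, ?_, hφfl, hφd⟩
      · rw [Scheme.Hom.comp_apply, hju]
        rfl
      · rw [← Category.assoc, hφ, Category.assoc, hover, Category.assoc]

theorem isOpen_flat_cd {X Y : Scheme.{u}} (f : X ⟶ Y) [LocallyOfFinitePresentation f] (n : ℕ) :
    IsOpen {x : X | (f.stalkMap x).hom.Flat ∧ CD f x n} := by
  rw [isOpen_iff_forall_mem_open]
  rintro x ⟨hfl, hcd⟩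
  obtain ⟨N, hN⟩ := Groth.Agent.H1.CMQF.exists_nat_fibreDimAt f x
  obtain ⟨U, j, hj, u, Z, π, hπ, φ, hju, hφ, hφfl, hφd⟩ :=
    exists_flat_to_smooth n N f x hN hfl hcd
  haveI : LocallyOfFinitePresentation (φ ≫ π) := by rw [hφ]; infer_instance
  haveI : LocallyOfFiniteType π := inferInstance
  haveI : LocallyOfFinitePresentation φ := locallyOfFinitePresentation_of_comp φ π
  obtain ⟨V, huV, hVflat⟩ := Groth.Agent.H1.CMQF.exists_flat_nhd φ u hφfl
  have hWopen := Groth.Agent.H1.FibComp.isOpen_fibreDimAt_le' φ (n : WithBot ℕ∞)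
  refine ⟨j '' ((V : Set U) ∩ {u' | FlatMor.fibreDimAt φ u' ≤ (n : WithBot ℕ∞)}), ?_, ?_, ?_⟩
  · rintro _ ⟨u', ⟨hu'V, hu'd⟩, rfl⟩
    have hfl' : (φ.stalkMap u').hom.Flat := by
      have := Flat.stalkMap (V.ι ≫ φ) ⟨u', hu'V⟩
      exact (H5.DS.flat_stalkMap_comp V.ι φ ⟨u', hu'V⟩).mpr this
    obtain ⟨h1, h2⟩ := cd_comp_iff φ π u' hfl' n
    have hcdφ : CD φ u' n := cd_of_fibreDimAt_le φ u' n hu'd
    have h3 : CD (φ ≫ π) u' n := h2.mpr hcdφ
    have h4 : CD (j ≫ f) u' n := (cd_congr hφ u' n).mp h3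
    have h5 : ((j ≫ f).stalkMap u').hom.Flat :=
      (Groth.Agent.H1.CMBC.flat_stalkMap_congr hφ u').mp h1
    exact ⟨(H5.DS.flat_stalkMap_comp j f u').mpr h5, (cd_comp_isOpenImmersion j f u' n).mp h4⟩
  · exact j.isOpenEmbedding.isOpenMap _ (V.isOpen.inter hWopen)
  · exact ⟨u, ⟨huV, hφd⟩, hju⟩

end Groth.Agent.H1.Codepth
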