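import Mathlib
import Groth.Agent.Lib.Helper1.CMQF
import Groth.Agent.Lib.Helper1.CMBaseChange
import Groth.Agent.Lib.Helper1.CMCons
import Groth.Agent.Lib.Helper1.GenFreeLoc
import Groth.Agent.Lib.Helper1.CodepthBC
import Groth.Agent.Lib.Helper1.CodepthOpen
import Groth.Agent.Lib.Helper8.ConstructibleNoeth
import Groth.Agent.Lib.Helper5.Lim.RingModel

set_option autoImplicit false
set_option linter.style.haveILetI false
universe u

namespace Groth.Agent.H1.Codepth

open AlgebraicGeometry CategoryTheory CategoryTheory.Limits Topology TensorProduct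
open Groth.Agent.H1.CMQF Groth.Agent.H1.CMBC Groth.Agent.H1.CritFib

/-- the set of points at which the fibre through the point has codepth at most `n`. -/
def cdFib {X S : Scheme.{u}} (f : X ⟶ S) (n : ℕ) : Set X := {x : X | CD f x n}

theorem mem_cdFib {X S : Scheme.{u}} (f : X ⟶ S) (n : ℕ) (x : X) :
    x ∈ cdFib f n ↔ CD f x n := Iff.rfl

/-- base change. -/
theorem cdFib_of_isPullback {X S X' S' : Scheme.{u}} (f : X ⟶ S) [LocallyOfFiniteType f]
    (f' : X' ⟶ S') (g' : X' ⟶ X) (g : S' ⟶ S) (hc : IsPullback g' f' f g) (n : ℕ) :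
    cdFib f' n = g' ⁻¹' cdFib f n := by
  ext x'
  exact (cdr_asFiber_iff' hc x' n).symm

/-- open immersions into the source. -/
theorem cdFib_comp_of_isOpenImmersion {U X S : Scheme.{u}} (j : U ⟶ X) [IsOpenImmersion j]
    (f : X ⟶ S) [LocallyOfFiniteType f] (n : ℕ) : cdFib (j ≫ f) n = j ⁻¹' cdFib f n := by
  ext x
  exact cd_comp_isOpenImmersion j f x n

/-- open immersions (or any monomorphism) out of the target. -/
theorem cdFib_comp_mono {X S T : Scheme.{u}} (f : X ⟶ S) (i : S ⟶ T) [Mono i]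
    [LocallyOfFiniteType (f ≫ i)] (n : ℕ) : cdFib (f ≫ i) n = cdFib f n := by
  have sq : IsPullback (𝟙 X) f (f ≫ i) i := IsPullback.of_horiz_isIso_mono ⟨by simp⟩
  have := cdFib_of_isPullback (f ≫ i) f (𝟙 X) i sq n
  rw [this]
  rfl

/-- for a flat morphism locally of finite presentation the fibrewise CM locus is open. -/
theorem isOpen_cdFib_of_flat {X S : Scheme.{u}} (f : X ⟶ S) [Flat f]
    [LocallyOfFinitePresentation f] (n : ℕ) : IsOpen (cdFib f n) := by
  have h := isOpen_flat_cd f n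
  have : cdFib f n = {x : X | (f.stalkMap x).hom.Flat ∧ CD f x n} := by
    ext x
    exact ⟨fun hx => ⟨Flat.stalkMap f x, hx⟩, fun hx => hx.2⟩
  rw [this]; exact h

/-- if the base change of `f` along a preimmersion `g` is flat and locally of finite presentation,
then over the range of `g` the fibrewise CM locus of `f` is cut out by an open set. -/
theorem exists_open_cdFib_of_flat_baseChange {X S X' S' : Scheme.{u}} (f : X ⟶ S)
    [LocallyOfFiniteType f] (f' : X' ⟶ S') (g' : X' ⟶ X) (g : S' ⟶ S)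
    (hc : IsPullback g' f' f g) [IsPreimmersion g] [Flat f'] [LocallyOfFinitePresentation f']
    (n : ℕ) :
    ∃ W : Set X, IsOpen W ∧ ∀ y : X, f y ∈ Set.range g → (y ∈ cdFib f n ↔ y ∈ W) := by
  haveI : IsPreimmersion g' := MorphismProperty.of_isPullback hc.flip inferInstance
  have hE' : cdFib f' n = g' ⁻¹' cdFib f n := cdFib_of_isPullback f f' g' g hc n
  have hopen : IsOpen (cdFib f' n) := isOpen_cdFib_of_flat f' n
  obtain ⟨W, hW, hWE⟩ := (g'.isEmbedding.isInducing.isOpen_iff).mp hopen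
  refine ⟨W, hW, ?_⟩
  rintro y ⟨s', hs'⟩
  obtain ⟨x', hx'1, -⟩ := AlgebraicGeometry.Scheme.exists_preimage_of_isPullback hc y s' hs'.symm
  subst hx'1
  have h1 : g' x' ∈ cdFib f n ↔ x' ∈ cdFib f' n := by rw [hE']; rfl
  have h2 : x' ∈ cdFib f' n ↔ g' x' ∈ W := by rw [← hWE]; rfl
  exact h1.trans h2



open AlgebraicGeometry CategoryTheory CategoryTheory.Limits Topology TensorProduct
open Groth.Agent.H1.CMQF Groth.Agent.H1.CMBC Groth.Agent.H1.CritFib

set_option backward.isDefEq.respectTransparency false in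
/-- the key step: generically along a closed irreducible subset, membership in the fibrewise CM
locus is constant. -/
theorem exists_open_cdFib_const (A B : Type u) [CommRing A] [CommRing B] [Algebra A B]
    [Algebra.FiniteType A B] (n : ℕ) (Y : Set (PrimeSpectrum B)) (hYc : IsClosed Y)
    (hYi : IsIrreducible Y) :
    ∃ U : Set (PrimeSpectrum B), IsOpen U ∧ (U ∩ Y).Nonempty ∧ ∀ a ∈ U ∩ Y, ∀ b ∈ U ∩ Y,
      (a ∈ cdFib (Spec.map (CommRingCat.ofHom (algebraMap A B))) n) =
        (b ∈ cdFib (Spec.map (CommRingCat.ofHom (algebraMap A B))) n) := by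
  classical
  set f := Spec.map (CommRingCat.ofHom (algebraMap A B)) with hf
  haveI : LocallyOfFiniteType f := by
    rw [hf, HasRingHomProperty.Spec_iff (P := @LocallyOfFiniteType)]
    exact RingHom.finiteType_algebraMap.mpr inferInstance
  have hq : (PrimeSpectrum.vanishingIdeal Y).IsPrime :=
    (PrimeSpectrum.isIrreducible_iff_vanishingIdeal_isPrime).mp hYi
  set Q : PrimeSpectrum B := ⟨PrimeSpectrum.vanishingIdeal Y, hq⟩ with hQdef
  have hY : Y = PrimeSpectrum.zeroLocus (Q.asIdeal : Set B) := by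
    rw [hQdef]
    simp only
    rw [PrimeSpectrum.zeroLocus_vanishingIdeal_eq_closure, hYc.closure_eq]
  have hQY : Q ∈ Y := by
    rw [hY, PrimeSpectrum.mem_zeroLocus]
  set p : Ideal A := Q.asIdeal.comap (algebraMap A B) with hp
  haveI : p.IsPrime := Ideal.IsPrime.comap _
  obtain ⟨F, hF, hgood⟩ := Groth.Agent.H1.GenFree.exists_good (R := A ⧸ p)
    (S := (A ⧸ p) ⊗[A] B) (M := (A ⧸ p) ⊗[A] B) 1 one_ne_zero
  generalize (1 : A ⧸ p) * F = F' at hF hgood
  obtain ⟨a, ha⟩ := Ideal.Quotient.mk_surjective F'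
  have hap : a ∉ p := fun h => hF (by rw [← ha]; exact Ideal.Quotient.eq_zero_iff_mem.mpr h)
  haveI hfree : Module.Free (Localization.Away F')
      (Localization.Away F' ⊗[A ⧸ p] ((A ⧸ p) ⊗[A] B)) := hgood.free_tensor_self
  haveI hfp : Algebra.FinitePresentation (Localization.Away F')
      (Localization.Away F' ⊗[A ⧸ p] ((A ⧸ p) ⊗[A] B)) := hgood.finitePresentation_tensor
  -- the squares
  have sq1 := (isPullback_SpecMap_of_isPushout _ _ _ _
    (CommRingCat.isPushout_tensorProduct A (A ⧸ p) B)).flip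
  have sq2 := (isPullback_SpecMap_of_isPushout _ _ _ _
    (CommRingCat.isPushout_tensorProduct (A ⧸ p) (Localization.Away F') ((A ⧸ p) ⊗[A] B))).flip
  have sq := sq2.paste_horiz sq1
  set g₁ := Spec.map (CommRingCat.ofHom (algebraMap A (A ⧸ p))) with hg₁
  set g₂ := Spec.map (CommRingCat.ofHom (algebraMap (A ⧸ p) (Localization.Away F'))) with hg₂
  haveI : IsClosedImmersion g₁ :=
    IsClosedImmersion.spec_of_surjective _ Ideal.Quotient.mk_surjective
  haveI : IsOpenImmersion g₂ := IsOpenImmersion.of_isLocalization F'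
  set f₂ := Spec.map (CommRingCat.ofHom (algebraMap (Localization.Away F')
    (Localization.Away F' ⊗[A ⧸ p] ((A ⧸ p) ⊗[A] B)))) with hf₂
  haveI : Flat f₂ := by
    rw [hf₂, Flat.SpecMap_iff, CommRingCat.hom_ofHom, RingHom.flat_algebraMap_iff]
    exact Module.Flat.of_free
  haveI : LocallyOfFinitePresentation f₂ := by
    rw [hf₂, HasRingHomProperty.Spec_iff (P := @LocallyOfFinitePresentation),
      CommRingCat.hom_ofHom, RingHom.finitePresentation_algebraMap]
    exact hfp
  obtain ⟨W, hW, hWE⟩ := exists_open_cdFib_of_flat_baseChange f f₂ _ (g₂ ≫ g₁) sq n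
  -- the open set over which things are controlled
  set U₀ : Set (PrimeSpectrum B) := ((PrimeSpectrum.basicOpen (algebraMap A B a) : TopologicalSpace.Opens (PrimeSpectrum B)) :
    Set (PrimeSpectrum B)) with hU₀
  have hU₀o : IsOpen U₀ := (PrimeSpectrum.basicOpen (algebraMap A B a)).isOpen
  have hQU₀ : Q ∈ U₀ := hap
  have hrange : ∀ y ∈ U₀ ∩ Y, f y ∈ Set.range (g₂ ≫ g₁) := by
    rintro y ⟨hyU, hyY⟩
    rw [hY, PrimeSpectrum.mem_zeroLocus] at hyY
    have h1 : (f y) ∈ Set.range (PrimeSpectrum.comap (Ideal.Quotient.mk p)) := by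
      rw [_root_.range_comap_of_surjective _ _ Ideal.Quotient.mk_surjective,
        Ideal.mk_ker, PrimeSpectrum.mem_zeroLocus]
      intro t ht
      exact hyY ht
    obtain ⟨r, hr⟩ := h1
    have h2 : r ∈ Set.range (PrimeSpectrum.comap (algebraMap (A ⧸ p) (Localization.Away F'))) := by
      rw [PrimeSpectrum.localization_away_comap_range (Localization.Away F') F']
      intro hFr
      apply hyU
      have : a ∈ (PrimeSpectrum.comap (Ideal.Quotient.mk p) r).asIdeal := by
        change Ideal.Quotient.mk p a ∈ r.asIdeal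
        rw [ha]; exact hFr
      rw [hr] at this
      exact this
    obtain ⟨w, hw⟩ := h2
    refine ⟨w, ?_⟩
    have e1 : g₂ w = r := hw
    have e2 : g₁ r = f y := hr
    rw [Scheme.Hom.comp_apply, e1, e2]
  have hiff : ∀ y ∈ U₀ ∩ Y, (y ∈ cdFib f n ↔ y ∈ W) := fun y hy => hWE y (hrange y hy)
  by_cases hQE : Q ∈ cdFib f n
  · have hQW : Q ∈ W := (hiff Q ⟨hQU₀, hQY⟩).mp hQE
    refine ⟨W ∩ U₀, hW.inter hU₀o, ⟨Q, ⟨hQW, hQU₀⟩, hQY⟩, ?_⟩
    rintro x ⟨⟨hxW, hxU⟩, hxY⟩ y ⟨⟨hyW, hyU⟩, hyY⟩
    have hx := (hiff x ⟨hxU, hxY⟩).mpr hxW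
    have hy := (hiff y ⟨hyU, hyY⟩).mpr hyW
    exact propext (iff_of_true hx hy)
  · have hQW : Q ∉ W := fun h => hQE ((hiff Q ⟨hQU₀, hQY⟩).mpr h)
    have hnot : ∀ y ∈ U₀ ∩ Y, y ∉ cdFib f n := by
      intro y hy hyE
      have hyW : y ∈ W := (hiff y hy).mp hyE
      have hsp : Q ⤳ y := by
        rw [← PrimeSpectrum.le_iff_specializes]
        have := hy.2
        rw [hY, PrimeSpectrum.mem_zeroLocus] at this
        exact this
      exact hQW (hsp.mem_open hW hyW)
    refine ⟨U₀, hU₀o, ⟨Q, hQU₀, hQY⟩, ?_⟩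
    intro x hx y hy
    exact propext (iff_of_false (hnot x hx) (hnot y hy))



open AlgebraicGeometry CategoryTheory CategoryTheory.Limits Topology TensorProduct
open Groth.Agent.H1.CMQF Groth.Agent.H1.CMBC Groth.Agent.H1.CritFib

/-- the Noetherian affine case. -/
theorem isConstructible_cdFib_of_isNoetherianRing (A B : Type u) [CommRing A] [CommRing B]
    [Algebra A B] [IsNoetherianRing A] [Algebra.FiniteType A B] (n : ℕ) :
    IsConstructible (cdFib (Spec.map (CommRingCat.ofHom (algebraMap A B))) n) := by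
  classical
  haveI : IsNoetherianRing B := Algebra.FiniteType.isNoetherianRing A B
  set f := Spec.map (CommRingCat.ofHom (algebraMap A B)) with hf
  have key : (∀ t, IsConstructible ((fun x : PrimeSpectrum B => (x ∈ cdFib f n)) ⁻¹' {t})) ∧
      (Set.range (fun x : PrimeSpectrum B => (x ∈ cdFib f n))).Finite := by
    rw [Groth.Agent.H8.CNoeth.constructible_map_iff]
    intro Y hYc hYi
    exact exists_open_cdFib_const A B n Y hYc hYi
  have h2 : cdFib f n = (fun x : PrimeSpectrum B => (x ∈ cdFib f n)) ⁻¹' {True} := by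
    ext x
    exact ⟨fun h => eq_true h, fun h => of_eq_true h⟩
  rw [h2]
  exact key.1 True

/-- the affine case of finite presentation, by descent to a Noetherian model. -/
theorem isConstructible_cdFib_of_finitePresentation (A B : Type u) [CommRing A] [CommRing B]
    [Algebra A B] [Algebra.FinitePresentation A B] (n : ℕ) :
    IsConstructible (cdFib (Spec.map (CommRingCat.ofHom (algebraMap A B))) n) := by
  classical
  obtain ⟨s, hs⟩ := Groth.Agent.H5.Lim.exists_model_of_finitePresentation A B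
  let A₀ : Subalgebra ℤ A := Algebra.adjoin ℤ (s : Set A)
  obtain ⟨B₀, _, _, hfp, ⟨e⟩⟩ := hs A₀ (by
    intro x hx
    exact ⟨⟨x, Algebra.subset_adjoin hx⟩, rfl⟩)
  haveI : Algebra.FiniteType ℤ A₀ := .adjoin_of_finite s.finite_toSet
  haveI : IsNoetherianRing A₀ := Algebra.FiniteType.isNoetherianRing ℤ A₀
  set φ₀ := Spec.map (CommRingCat.ofHom (algebraMap A₀ B₀)) with hφ₀
  have : LocallyOfFiniteType φ₀ := by
    rw [hφ₀, HasRingHomProperty.Spec_iff (P := @LocallyOfFiniteType)]
    exact RingHom.finiteType_algebraMap.mpr (inferInstance : Algebra.FiniteType A₀ B₀)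
  have sq := isPullback_SpecMap_of_isPushout _ _ _ _
    (CommRingCat.isPushout_tensorProduct A₀ A B₀)
  set ψ := Spec.map (CommRingCat.ofHom (Algebra.TensorProduct.includeLeftRingHom :
    A →+* A ⊗[A₀] B₀)) with hψ
  set pr := Spec.map (CommRingCat.ofHom ((Algebra.TensorProduct.includeRight :
    B₀ →ₐ[A₀] A ⊗[A₀] B₀).toRingHom)) with hpr
  have h1 : cdFib ψ n = pr ⁻¹' cdFib φ₀ n := cdFib_of_isPullback φ₀ ψ pr _ sq.flip n
  set ε := Spec.map (CommRingCat.ofHom e.toRingEquiv.toRingHom) with hε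
  have : IsIso ε := by
    rw [hε]
    have : IsIso (CommRingCat.ofHom e.toRingEquiv.toRingHom) :=
      (e.toRingEquiv.toCommRingCatIso).isIso_hom
    infer_instance
  have hεψ : ε ≫ ψ = Spec.map (CommRingCat.ofHom (algebraMap A B)) := by
    rw [hε, hψ, ← Spec.map_comp]
    congr 1
    ext a
    change e (a ⊗ₜ[A₀] (1 : B₀)) = algebraMap A B a
    have h1 : a ⊗ₜ[A₀] (1 : B₀) = algebraMap A (A ⊗[A₀] B₀) a :=
      (Algebra.TensorProduct.algebraMap_apply a).symm
    rw [h1, e.commutes]
  haveI : LocallyOfFiniteType ψ := MorphismProperty.of_isPullback sq.flip ‹LocallyOfFiniteType φ₀›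
  have h2 : cdFib (ε ≫ ψ) n = ε ⁻¹' cdFib ψ n := cdFib_comp_of_isOpenImmersion ε ψ n
  have h0 : IsConstructible (cdFib φ₀ n) := isConstructible_cdFib_of_isNoetherianRing A₀ B₀ n
  rw [← hεψ, h2, h1]
  exact Scheme.Hom.isConstructible_preimage ε (Scheme.Hom.isConstructible_preimage pr h0)



open AlgebraicGeometry CategoryTheory CategoryTheory.Limits Topology TensorProduct
open Groth.Agent.H1.CMQF Groth.Agent.H1.CMBC Groth.Agent.H1.CritFib

variable {X S : Scheme.{u}}

set_option backward.isDefEq.respectTransparency false in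
/-- in an affine chart, the fibrewise CM locus is constructible. -/
theorem isConstructible_cdFib_affine (f : X ⟶ S) [LocallyOfFinitePresentation f]
    {W : S.Opens} (hW : IsAffineOpen W) {U : X.Opens} (hU : IsAffineOpen U) (e : U ≤ f ⁻¹ᵁ W)
    (n : ℕ) :
    IsConstructible (Subtype.val ⁻¹' cdFib f n : Set U) := by
  letI := (f.appLE W U e).hom.toAlgebra
  haveI : Algebra.FinitePresentation Γ(S, W) Γ(X, U) := f.finitePresentation_appLE hW hU e
  have h0 := isConstructible_cdFib_of_finitePresentation Γ(S, W) Γ(X, U) n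
  have hφ : Spec.map (CommRingCat.ofHom (algebraMap Γ(S, W) Γ(X, U))) = Spec.map (f.appLE W U e) :=
    rfl
  rw [hφ] at h0
  have hcomm : Spec.map (f.appLE W U e) ≫ hW.fromSpec = hU.fromSpec ≫ f :=
    IsAffineOpen.SpecMap_appLE_fromSpec f hW hU e
  haveI : LocallyOfFiniteType (Spec.map (f.appLE W U e) ≫ hW.fromSpec) := by
    rw [hcomm]; infer_instance
  have h1 : cdFib (Spec.map (f.appLE W U e) ≫ hW.fromSpec) n = cdFib (Spec.map (f.appLE W U e)) n :=
    cdFib_comp_mono _ _ n
  have h2 : cdFib (hU.fromSpec ≫ f) n = hU.fromSpec ⁻¹' cdFib f n :=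
    cdFib_comp_of_isOpenImmersion _ _ n
  have hpre : (Subtype.val ⁻¹' cdFib f n : Set U) =
      (fun y : U => hU.primeIdealOf y) ⁻¹' cdFib (Spec.map (f.appLE W U e)) n := by
    ext y
    rw [← h1, hcomm, h2]
    change y.1 ∈ cdFib f n ↔ hU.fromSpec (hU.primeIdealOf y) ∈ cdFib f n
    rw [hU.fromSpec_primeIdealOf]
  rw [hpre]
  exact h0.preimage_of_isOpenEmbedding (hU.isoSpec.hom.homeomorph.isOpenEmbedding)

/-- the fibrewise Cohen–Macaulay locus of a morphism locally of finite presentation is locally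
constructible. -/
theorem isLocallyConstructible_cdFib (f : X ⟶ S) [LocallyOfFinitePresentation f] (n : ℕ) :
    IsLocallyConstructible (cdFib f n) := by
  intro x₀
  obtain ⟨_, ⟨W, hW, rfl⟩, hyW, -⟩ :=
    S.isBasis_affineOpens.exists_subset_of_mem_open (Set.mem_univ (f x₀)) isOpen_univ
  obtain ⟨_, ⟨U, hU, rfl⟩, hxU, hUW⟩ :=
    X.isBasis_affineOpens.exists_subset_of_mem_open (show x₀ ∈ ((f ⁻¹ᵁ W : X.Opens) : Set X) from hyW)
      (f ⁻¹ᵁ W).isOpen
  exact ⟨U, U.isOpen.mem_nhds hxU, U.isOpen, isConstructible_cdFib_affine f hW hU hUW n⟩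


theorem isLocallyNoetherian_fiber'' {X Y : Scheme.{u}} (f : X ⟶ Y) [LocallyOfFiniteType f]
    (y : Y) : IsLocallyNoetherian (f.fiber y) := by
  delta Scheme.Hom.fiber
  infer_instance

theorem s3453 (f : X ⟶ S) [LocallyOfFinitePresentation f] (n : ℕ) :
    Topology.IsLocallyConstructible {x : X |
      ringKrullDim ((f.fiber (f.base x)).presheaf.stalk (f.asFiber x)) =
        ((LocCoh.depth ((f.fiber (f.base x)).presheaf.stalk (f.asFiber x))
          ((f.fiber (f.base x)).presheaf.stalk (f.asFiber x)) : ℕ∞) : WithBot ℕ∞) + n} := by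
  have key : ∀ x : X, ∀ m : ℕ, x ∈ cdFib f m ↔
      ∃ a δ : ℕ, ringKrullDim ((f.fiber (f.base x)).presheaf.stalk (f.asFiber x)) =
          (a : WithBot ℕ∞) ∧
        LocCoh.depth ((f.fiber (f.base x)).presheaf.stalk (f.asFiber x))
          ((f.fiber (f.base x)).presheaf.stalk (f.asFiber x)) = (δ : ℕ∞) ∧ a ≤ δ + m := by
    intro x m
    haveI : IsLocallyNoetherian (f.fiber (f.base x)) :=
      isLocallyNoetherian_fiber'' f (f.base x)
    obtain ⟨a, ha⟩ := exists_nat_dim ((f.fiber (f.base x)).presheaf.stalk (f.asFiber x))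
    obtain ⟨δ, hδ⟩ := exists_nat_depth ((f.fiber (f.base x)).presheaf.stalk (f.asFiber x))
    change ringKrullDim ((f.fiber (f.base x)).presheaf.stalk (f.asFiber x)) ≤
      ((LocCoh.depth ((f.fiber (f.base x)).presheaf.stalk (f.asFiber x))
        ((f.fiber (f.base x)).presheaf.stalk (f.asFiber x)) : ℕ∞) : WithBot ℕ∞) + (m : WithBot ℕ∞) ↔ _
    rw [ha, hδ]
    constructor
    · intro h
      refine ⟨a, δ, rfl, rfl, ?_⟩
      exact_mod_cast h
    · rintro ⟨a', δ', h1, h2, h3⟩
      have e1 : a = a' := by exact_mod_cast h1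
      have e2 : δ = δ' := by exact_mod_cast h2
      subst e1 e2
      exact_mod_cast h3
  have hle : ∀ x : X, ((LocCoh.depth ((f.fiber (f.base x)).presheaf.stalk (f.asFiber x))
      ((f.fiber (f.base x)).presheaf.stalk (f.asFiber x)) : ℕ∞) : WithBot ℕ∞) ≤
      ringKrullDim ((f.fiber (f.base x)).presheaf.stalk (f.asFiber x)) := by
    intro x
    haveI : IsLocallyNoetherian (f.fiber (f.base x)) :=
      isLocallyNoetherian_fiber'' f (f.base x)
    exact Groth.Agent.H1.CMFib.depth_le_ringKrullDim _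
  have hset : ∀ x : X, (ringKrullDim ((f.fiber (f.base x)).presheaf.stalk (f.asFiber x)) =
        ((LocCoh.depth ((f.fiber (f.base x)).presheaf.stalk (f.asFiber x))
          ((f.fiber (f.base x)).presheaf.stalk (f.asFiber x)) : ℕ∞) : WithBot ℕ∞) + n) ↔
      (x ∈ cdFib f n ∧ ∀ m : ℕ, m < n → x ∉ cdFib f m) := by
    intro x
    haveI : IsLocallyNoetherian (f.fiber (f.base x)) :=
      isLocallyNoetherian_fiber'' f (f.base x)
    obtain ⟨a, ha⟩ := exists_nat_dim ((f.fiber (f.base x)).presheaf.stalk (f.asFiber x))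
    obtain ⟨δ, hδ⟩ := exists_nat_depth ((f.fiber (f.base x)).presheaf.stalk (f.asFiber x))
    have hxm : ∀ m : ℕ, x ∈ cdFib f m ↔ a ≤ δ + m := by
      intro m
      rw [key x m]
      constructor
      · rintro ⟨a', δ', h1, h2, h3⟩
        have e1 : a = a' := by rw [ha] at h1; exact_mod_cast h1
        have e2 : δ = δ' := by rw [hδ] at h2; exact_mod_cast h2
        subst e1 e2
        exact h3
      · intro h
        exact ⟨a, δ, ha, hδ, h⟩
    have hda : δ ≤ a := by
      have := hle x
      rw [ha, hδ] at this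
      exact_mod_cast this
    rw [ha, hδ]
    constructor
    · intro h
      have h' : a = δ + n := by exact_mod_cast h
      refine ⟨(hxm n).mpr (by omega), fun m hm hx => ?_⟩
      have := (hxm m).mp hx
      omega
    · rintro ⟨h1, h2⟩
      have h1' := (hxm n).mp h1
      have h' : a = δ + n := by
        by_contra hne
        have hlt : a < δ + n := lt_of_le_of_ne h1' hne
        rcases Nat.eq_zero_or_pos n with h0 | hpos
        · subst h0; omega
        · exact h2 (n - 1) (by omega) ((hxm (n - 1)).mpr (by omega))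
      exact_mod_cast h'
  have hS : {x : X |
      ringKrullDim ((f.fiber (f.base x)).presheaf.stalk (f.asFiber x)) =
        ((LocCoh.depth ((f.fiber (f.base x)).presheaf.stalk (f.asFiber x))
          ((f.fiber (f.base x)).presheaf.stalk (f.asFiber x)) : ℕ∞) : WithBot ℕ∞) + n} =
      cdFib f n ∩ ⋂ m ∈ Finset.range n, (cdFib f m)ᶜ := by
    ext x
    rw [Set.mem_ofPred_eq, hset x]
    simp only [Set.mem_inter_iff, Set.mem_iInter, Finset.mem_range, Set.mem_compl_iff]
  rw [hS]
  refine IsLocallyConstructible.inter (isLocallyConstructible_cdFib f n) ?_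
  generalize Finset.range n = F
  induction F using Finset.induction_on with
  | empty =>
    simp only [Finset.notMem_empty, Set.iInter_of_empty, Set.iInter_univ]
    exact IsLocallyConstructible.univ
  | insert a F ha ih =>
    rw [Finset.set_biInter_insert]
    exact IsLocallyConstructible.inter
      (Groth.Agent.H1.CMCons.isLocallyConstructible_compl (isLocallyConstructible_cdFib f a)) ih

end Groth.Agent.H1.Codepth
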