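import Mathlib
import Groth.Prelude.Def_Cyc

/-! # Composition of flat pullbacks of cycles (coefficientwise). -/

set_option autoImplicit false
set_option linter.style.haveILetI false
universe u
open CategoryTheory AlgebraicGeometry CategoryTheory.Limits

namespace Groth.Agent.H1.PullComp

/-- multiplicativity of the lengths of the fibre rings along `A → B → C` with `B → C` flat. -/
theorem length_quotient_map_comp {A B C : Type u} [CommRing A] [CommRing B] [CommRing C]
    [IsLocalRing A] [IsLocalRing B] [IsLocalRing C] (φ : A →+* B) (ψ : B →+* C)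
    [IsLocalHom ψ] (hψ : ψ.Flat) :
    Module.length C (C ⧸ Ideal.map (ψ.comp φ) (IsLocalRing.maximalIdeal A)) =
      Module.length B (B ⧸ Ideal.map φ (IsLocalRing.maximalIdeal A)) *
        Module.length C (C ⧸ Ideal.map ψ (IsLocalRing.maximalIdeal B)) := by
  letI := ψ.toAlgebra
  haveI : Module.Flat B C := hψ
  haveI : IsLocalHom (algebraMap B C) := ‹IsLocalHom ψ›
  set I := Ideal.map φ (IsLocalRing.maximalIdeal A) with hI
  have h1 := IsLocalRing.length_baseChange B C (B ⧸ I)
  have e0 : algebraMap B C = ψ := rfl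
  rw [e0] at h1
  rw [← h1]
  have hmap : Ideal.map (ψ.comp φ) (IsLocalRing.maximalIdeal A) = I.map (algebraMap B C) := by
    rw [hI, Ideal.map_map]; rfl
  rw [hmap]
  exact (Algebra.TensorProduct.quotIdealMapEquivTensorQuot C I).toLinearEquiv.length_eq

variable {X Y Z : Scheme.{u}}

/-- if the fibre ring at `x` has finite length, then `x` is maximal under generization inside its
fibre. -/
theorem fibre_generic_of_length_ne_top (f : X ⟶ Y) (x : X)
    (h : Module.length (X.presheaf.stalk x) (X.presheaf.stalk x ⧸ Ideal.map (f.stalkMap x).hom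
      (IsLocalRing.maximalIdeal (Y.presheaf.stalk (f x)))) ≠ ⊤) :
    ∀ y : X, f y = f x → y ⤳ x → y = x := by
  intro y hfy hy
  set R := X.presheaf.stalk x with hR
  set I : Ideal R := Ideal.map (f.stalkMap x).hom (IsLocalRing.maximalIdeal (Y.presheaf.stalk (f x)))
    with hI
  obtain ⟨q, hq⟩ : y ∈ Set.range (X.fromSpecStalk x) := by
    rw [Scheme.range_fromSpecStalk]; exact hy
  -- the image of `q` in `Spec O_{Y, f x}` is the closed point
  have h1 : Spec.map (f.stalkMap x) q = IsLocalRing.closedPoint (Y.presheaf.stalk (f x)) := by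
    apply (Y.fromSpecStalk (f x)).isEmbedding.injective
    rw [Scheme.fromSpecStalk_closedPoint]
    have := congrArg (fun θ : Spec (X.presheaf.stalk x) ⟶ Y => θ q)
      (Scheme.SpecMap_stalkMap_fromSpecStalk f (x := x))
    simp only [Scheme.Hom.comp_apply] at this
    rw [this, hq, hfy]
  have hIq : I ≤ q.asIdeal := by
    rw [hI, Ideal.map_le_iff_le_comap]
    intro a ha
    have h2 : (Spec.map (f.stalkMap x) q).asIdeal =
        IsLocalRing.maximalIdeal (Y.presheaf.stalk (f x)) := by rw [h1]; rfl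
    have h3 : a ∈ (Spec.map (f.stalkMap x) q).asIdeal := by rw [h2]; exact ha
    exact h3
  -- `R ⧸ I` is Artinian
  have hfl : IsFiniteLength R (R ⧸ I) := Module.length_ne_top_iff.1 h
  rw [isFiniteLength_iff_isNoetherian_isArtinian] at hfl
  haveI : IsArtinianRing (R ⧸ I) := isArtinian_of_tower R hfl.2
  haveI hqp : (q.asIdeal.map (Ideal.Quotient.mk I)).IsPrime :=
    Ideal.map_isPrime_of_surjective Ideal.Quotient.mk_surjective (by rw [Ideal.mk_ker]; exact hIq)
  haveI hqm : (q.asIdeal.map (Ideal.Quotient.mk I)).IsMaximal :=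
    IsArtinianRing.isMaximal_of_isPrime _
  have hcm : (Ideal.comap (Ideal.Quotient.mk I) (q.asIdeal.map (Ideal.Quotient.mk I))).IsMaximal :=
    Ideal.comap_isMaximal_of_surjective _ Ideal.Quotient.mk_surjective
  rw [Ideal.comap_map_of_surjective _ Ideal.Quotient.mk_surjective, ← RingHom.ker_eq_comap_bot,
    Ideal.mk_ker, sup_eq_left.2 hIq] at hcm
  have hqc : q = IsLocalRing.closedPoint R := by
    apply PrimeSpectrum.ext
    exact IsLocalRing.eq_maximalIdeal hcm
  rw [← hq, hqc, Scheme.fromSpecStalk_closedPoint]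

/-- the local length factor appearing in `Cyc.pullFun`. -/
noncomputable def lenFac (f : X ⟶ Y) (x : X) : ℕ :=
  (Module.length (X.presheaf.stalk x) (X.presheaf.stalk x ⧸ Ideal.map (f.stalkMap x).hom
    (IsLocalRing.maximalIdeal (Y.presheaf.stalk (f x))))).toNat

theorem pullFun_apply (f : X ⟶ Y) (δX : X → ℤ) (δY : Y → ℤ) (r : ℤ) (α : Y → ℤ) (x : X) :
    Cyc.pullFun f δX δY r α x =
      if δX x = δY (f x) + r then α (f x) * (lenFac f x : ℤ) else 0 := rfl

theorem lenFac_comp (f : X ⟶ Y) (g : Y ⟶ Z) [Flat f] (x : X) :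
    lenFac (f ≫ g) x = lenFac g (f x) * lenFac f x := by
  unfold lenFac
  rw [← ENat.toNat_mul]
  congr 1
  have h := length_quotient_map_comp (g.stalkMap (f x)).hom (f.stalkMap x).hom (Flat.stalkMap f x)
  rw [← h]
  have e : ((f ≫ g).stalkMap x).hom = (f.stalkMap x).hom.comp (g.stalkMap (f x)).hom := by
    rw [Scheme.Hom.stalkMap_comp]; rfl
  rw [e]
  rfl

theorem lenFac_eq_zero_of_not_generic (f : X ⟶ Y) (x : X)
    (h : ¬ ∀ y : X, f y = f x → y ⤳ x → y = x) : lenFac f x = 0 := by
  by_contra hne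
  apply h
  apply fibre_generic_of_length_ne_top f x
  intro htop
  apply hne
  unfold lenFac
  rw [htop]
  rfl

theorem pullFun_comp (f : X ⟶ Y) (g : Y ⟶ Z) [Flat f] (δX : X → ℤ) (δY : Y → ℤ) (δZ : Z → ℤ)
    (r s : ℤ)
    (h1 : ∀ x : X, (∀ y, f y = f x → y ⤳ x → y = x) → δX x = δY (f x) + r)
    (h2 : ∀ y : Y, (∀ y', g y' = g y → y' ⤳ y → y' = y) → δY y = δZ (g y) + s)
    (α : Z → ℤ) :
    Cyc.pullFun (f ≫ g) δX δZ (s + r) α = Cyc.pullFun f δX δY r (Cyc.pullFun g δY δZ s α) := by
  funext x
  rw [pullFun_apply, pullFun_apply, pullFun_apply, lenFac_comp]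
  have e : (f ≫ g) x = g (f x) := rfl
  rw [e]
  by_cases E1 : δX x = δY (f x) + r
  · by_cases E2 : δY (f x) = δZ (g (f x)) + s
    · rw [if_pos E1, if_pos E2, if_pos (by rw [E1, E2]; ring)]
      push_cast
      ring
    · rw [if_pos E1, if_neg E2]
      have : lenFac g (f x) = 0 := lenFac_eq_zero_of_not_generic g (f x) (fun hh => E2 (h2 _ hh))
      rw [this]
      simp
  · rw [if_neg E1]
    have : lenFac f x = 0 := lenFac_eq_zero_of_not_generic f x (fun hh => E1 (h1 _ hh))
    rw [this]
    simp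

end Groth.Agent.H1.PullComp
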