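import Mathlib
import Groth.Prelude.Def_Cyc
import Groth.Agent.Lib.Helper1.PullComp
import Groth.Agent.Lib.Helper1.RelDim
import Groth.Agent.Lib.Helper1.DimFormula2
import Groth.Agent.Lib.Helper1.FibDimBC

/-! # Flat pullback of cycles: shift conditions from relative dimension. -/

set_option autoImplicit false
set_option linter.style.haveILetI false
universe u
open CategoryTheory AlgebraicGeometry CategoryTheory.Limits

namespace Groth.Agent.H1.PullComp

/-- for a morphism of relative dimension `r` with compatible dimension functions, the dimension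
function shifts by `r` at the generic points of the fibres. -/
theorem shift_of_hasRelDim {X Y : Scheme.{u}} (f : X ⟶ Y) [LocallyOfFiniteType f] (δX : X → ℤ)
    (δY : Y → ℤ) (r : ℕ) (hr : Cyc.HasRelDim f r) (hf : Cyc.DeltaCompat f δX δY) (x : X)
    (hgen : ∀ y, f y = f x → y ⤳ x → y = x) : δX x = δY (f x) + r := by
  obtain ⟨n, hn1, hn2⟩ := hf x
  obtain ⟨t, ht1, ht2⟩ := Groth.Agent.H1.DimFormula.fibreDimAt_eq_trdeg_of_generic f x hgen
  have h3 := (Groth.Agent.H1.RelDim.hasRelDim_iff f r).1 hr x
  rw [ht2] at h3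
  have htr : t = r := by exact_mod_cast h3
  have hnt : n = t := by
    have : (n : Cardinal.{u}) = t := hn1.symm.trans ht1
    exact_mod_cast this
  rw [hn2, hnt, htr]

/-- relative dimension is stable under base change. -/
theorem hasRelDim_snd {X Y X' : Scheme.{u}} (f : Y ⟶ X) (p : X' ⟶ X) [LocallyOfFiniteType f]
    (r : ℕ) (hr : Cyc.HasRelDim f r) : Cyc.HasRelDim (pullback.snd f p) r := by
  rw [Groth.Agent.H1.RelDim.hasRelDim_iff]
  intro y'
  rw [Groth.Agent.H1.FibDimBC.fibreDimAt_eq_of_isPullback f p (pullback.fst f p) (pullback.snd f p)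
    (IsPullback.of_hasPullback f p) y']
  exact (Groth.Agent.H1.RelDim.hasRelDim_iff f r).1 hr _

end Groth.Agent.H1.PullComp
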