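import Groth.Agent.Lib.Helper1.CohLen
import Groth.Agent.Lib.Helper1.PullComp2
import Groth.Agent.Lib.Lead.QC.StalkPullback

/-!
# Flat pullback of coherent modules and cycles

* `length_stalk_pullback`: `ℓ((f^*G)_x) = ℓ(G_{f x}) · ℓ(O_{X,x}/𝔪_{f x} O_{X,x})` for flat `f`.
* `exists_fibre_generic_specializes`: every point is a specialization of a point of its fibre which
  is maximal (under generization) in that fibre.
* `pullFun_sheafFun`: `f^*[F]_k = [f^*F]_{k+c}`.
-/

set_option autoImplicit false
set_option linter.style.haveILetI false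

universe u

open CategoryTheory Limits AlgebraicGeometry TopologicalSpace Opposite TensorProduct

namespace Groth.Agent.H1.CohLen

open Groth.Agent.LD.QC Groth.Agent.H1.SchFlat

variable {X Y : Scheme.{u}}

/-- **Length of the stalk of a flat pullback.** -/
theorem length_stalk_pullback (f : X ⟶ Y) [Flat f] (G : Y.Modules) [G.IsQuasicoherent] (x : X) :
    Module.length (X.presheaf.stalk x) (((Scheme.Modules.pullback f).obj G).presheaf.stalk x) =
      Module.length (Y.presheaf.stalk (f x)) (G.presheaf.stalk (f x)) *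
        Module.length (X.presheaf.stalk x) (X.presheaf.stalk x ⧸ Ideal.map (f.stalkMap x).hom
          (IsLocalRing.maximalIdeal (Y.presheaf.stalk (f x)))) := by
  letI := stalkModuleOver f ((Scheme.Modules.pullback f).obj G) x
  letI : Algebra (Y.presheaf.stalk (f x)) (X.presheaf.stalk x) := (f.stalkMap x).hom.toAlgebra
  haveI : IsScalarTower (Y.presheaf.stalk (f x)) (X.presheaf.stalk x)
      (((Scheme.Modules.pullback f).obj G).presheaf.stalk x) :=
    IsScalarTower.of_algebraMap_smul fun r m => rfl
  obtain ⟨σ, hσ⟩ := exists_stalk_pullback_isBaseChange f G x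
  haveI : Module.Flat (Y.presheaf.stalk (f x)) (X.presheaf.stalk x) := Flat.stalkMap f x
  haveI : IsLocalHom (algebraMap (Y.presheaf.stalk (f x)) (X.presheaf.stalk x)) :=
    inferInstanceAs (IsLocalHom (f.stalkMap x).hom)
  rw [← hσ.equiv.length_eq]
  exact IsLocalRing.length_baseChange (Y.presheaf.stalk (f x)) (X.presheaf.stalk x)
    (G.presheaf.stalk (f x))

/-- Every point `x` is a specialization of a point of its fibre which is maximal under generization
in that fibre. -/
theorem exists_fibre_generic_specializes (f : X ⟶ Y) (x : X) :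
    ∃ y : X, f y = f x ∧ y ⤳ x ∧ ∀ w : X, f w = f y → w ⤳ y → w = y := by
  set R := X.presheaf.stalk x with hR
  set I : Ideal R := Ideal.map (f.stalkMap x).hom (IsLocalRing.maximalIdeal (Y.presheaf.stalk (f x)))
    with hI
  have hIm : I ≤ IsLocalRing.maximalIdeal R := by
    rw [hI, Ideal.map_le_iff_le_comap]
    intro a ha
    exact (IsLocalRing.mem_maximalIdeal _).2 (fun hu => ha ((isUnit_map_iff (f.stalkMap x).hom a).1 hu))
  obtain ⟨q, hqmin, -⟩ := Ideal.exists_minimalPrimes_le hIm
  haveI hqp : q.IsPrime := hqmin.1.1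
  have hIq : I ≤ q := hqmin.1.2
  -- key fact: points of the fibre generizing `x` correspond to primes containing `I`
  have key : ∀ Q : Spec R, f (X.fromSpecStalk x Q) = f x ↔ I ≤ Q.asIdeal := by
    intro Q
    have hnat : f (X.fromSpecStalk x Q) = Y.fromSpecStalk (f x) (Spec.map (f.stalkMap x) Q) := by
      have := congrArg (fun θ : Spec (X.presheaf.stalk x) ⟶ Y => θ Q)
        (Scheme.SpecMap_stalkMap_fromSpecStalk f (x := x))
      simp only [Scheme.Hom.comp_apply] at this
      exact this.symm
    rw [hnat]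
    constructor
    · intro h
      have h1 : Spec.map (f.stalkMap x) Q = IsLocalRing.closedPoint (Y.presheaf.stalk (f x)) := by
        apply (Y.fromSpecStalk (f x)).isEmbedding.injective
        rw [Scheme.fromSpecStalk_closedPoint, h]
      rw [hI, Ideal.map_le_iff_le_comap]
      intro a ha
      have h2 : (Spec.map (f.stalkMap x) Q).asIdeal =
          IsLocalRing.maximalIdeal (Y.presheaf.stalk (f x)) := by rw [h1]; rfl
      have h3 : a ∈ (Spec.map (f.stalkMap x) Q).asIdeal := by rw [h2]; exact ha
      exact h3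
    · intro h
      have h1 : Spec.map (f.stalkMap x) Q = IsLocalRing.closedPoint (Y.presheaf.stalk (f x)) := by
        apply PrimeSpectrum.ext
        symm
        apply (IsLocalRing.maximalIdeal.isMaximal _).eq_of_le
          (Spec.map (f.stalkMap x) Q).2.ne_top
        intro a ha
        change (f.stalkMap x).hom a ∈ Q.asIdeal
        exact h (Ideal.mem_map_of_mem _ ha)
      rw [h1, Scheme.fromSpecStalk_closedPoint]
  obtain ⟨Q, hQ⟩ : ∃ Q : Spec R, Q.asIdeal = q := ⟨⟨q, hqp⟩, rfl⟩
  have hyx : X.fromSpecStalk x Q ⤳ x := by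
    have : X.fromSpecStalk x Q ∈ Set.range (X.fromSpecStalk x) := ⟨Q, rfl⟩
    rwa [Scheme.range_fromSpecStalk] at this
  have hfy : f (X.fromSpecStalk x Q) = f x := (key Q).2 (hQ ▸ hIq)
  refine ⟨X.fromSpecStalk x Q, hfy, hyx, ?_⟩
  intro w hfw hwy
  obtain ⟨Qw, rfl⟩ : w ∈ Set.range (X.fromSpecStalk x) := by
    rw [Scheme.range_fromSpecStalk]; exact hwy.trans hyx
  have h1 : I ≤ Qw.asIdeal := (key Qw).1 (hfw.trans hfy)
  have h2 : Qw ⤳ Q := (X.fromSpecStalk x).isEmbedding.isInducing.specializes_iff.1 hwy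
  have h3 : Qw.asIdeal ≤ Q.asIdeal := (PrimeSpectrum.le_iff_specializes (R := R) Qw Q).2 h2
  have h4 : q ≤ Qw.asIdeal := hqmin.2 ⟨Qw.2, h1⟩ (hQ ▸ h3)
  have h5 : Qw = Q := by
    apply PrimeSpectrum.ext
    rw [hQ]
    exact le_antisymm (hQ ▸ h3) h4
  rw [h5]

end Groth.Agent.H1.CohLen
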