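import Groth.Agent.Lib.Helper1.CohLen
import Groth.Agent.Lib.Lead.QC.FreeHom

/-!
# Stalks of direct images along closed immersions: lengths

* `length_eq_of_surjective_isLocalizedModule`: the algebra behind it.
* `length_unit_stalk`: the stalk of the structure module has the length of the local ring.
* `subsingleton_stalk_push_of_notMem_range`: the stalk of `i_* G` vanishes off the closed image.
* `length_stalk_push_closedImmersion`: `ℓ_{O_{X,i z}} (i_* G)_{i z} = ℓ_{O_{Z,z}} G_z`.
-/

set_option autoImplicit false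
set_option linter.style.haveILetI false

universe u

open CategoryTheory Limits AlgebraicGeometry TopologicalSpace Opposite

namespace Groth.Agent.H1.CohLen

open Groth.Agent.LD.QC Groth.Agent.H1.SchFlat

section Alg

theorem algebraMapSubmonoid_primeCompl_of_surjective {A B : Type*} [CommRing A] [CommRing B]
    [Algebra A B] (hφ : Function.Surjective (algebraMap A B)) (q : Ideal B) [q.IsPrime]
    (p : Ideal A) [p.IsPrime] (hp : p = q.comap (algebraMap A B)) :
    Algebra.algebraMapSubmonoid B p.primeCompl = q.primeCompl := by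
  ext b
  constructor
  · rintro ⟨a, ha, rfl⟩
    intro hb
    apply ha
    rw [hp]
    exact hb
  · intro hb
    obtain ⟨a, rfl⟩ := hφ b
    refine ⟨a, ?_, rfl⟩
    intro ha
    apply hb
    rw [hp] at ha
    exact ha

/-- Lengths of localized modules along a surjection of rings. -/
theorem length_eq_of_surjective_isLocalizedModule
    {A B : Type u} [CommRing A] [CommRing B] [Algebra A B]
    (hφ : Function.Surjective (algebraMap A B))
    (q : Ideal B) [q.IsPrime] (p : Ideal A) [p.IsPrime] (hp : p = q.comap (algebraMap A B))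
    (Ap Bq : Type u) [CommRing Ap] [CommRing Bq] [Algebra A Ap] [Algebra B Bq]
    [IsLocalization.AtPrime Ap p] [Algebra Ap Bq]
    (hψ : Function.Surjective (algebraMap Ap Bq))
    {M N N' : Type u} [AddCommGroup M] [Module A M] [Module B M] [IsScalarTower A B M]
    [AddCommGroup N] [Module A N] [Module Ap N] [IsScalarTower A Ap N]
    (g : M →ₗ[A] N) [IsLocalizedModule p.primeCompl g]
    [AddCommGroup N'] [Module B N'] [Module Bq N'] [Module A N'] [IsScalarTower A B N']
    [Module Ap N'] [IsScalarTower Ap Bq N'] [IsScalarTower A Ap N']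
    (g' : M →ₗ[B] N') [IsLocalizedModule q.primeCompl g'] :
    Module.length Ap N = Module.length Bq N' := by
  haveI : IsLocalizedModule (Algebra.algebraMapSubmonoid B p.primeCompl) g' := by
    rw [algebraMapSubmonoid_primeCompl_of_surjective hφ q p hp]
    infer_instance
  haveI : IsLocalizedModule p.primeCompl (g'.restrictScalars A) :=
    IsLocalizedModule.restrictScalars p.primeCompl g'
  let e : N ≃ₗ[A] N' := IsLocalizedModule.linearEquiv p.primeCompl g (g'.restrictScalars A)
  let e' : N ≃ₗ[Ap] N' := e.extendScalarsOfIsLocalization p.primeCompl Ap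
  rw [e'.length_eq]
  exact Module.length_eq_of_surjective hψ

end Alg

variable {X Z : Scheme.{u}}

/-- the sections of the structure module are the sections of the structure sheaf. -/
noncomputable def unitΓEquiv (V : Z.Opens) : Γ(unitMod Z, V) ≃ₗ[Γ(Z, V)] Γ(Z, V) where
  toFun s := s
  invFun s := s
  map_add' _ _ := rfl
  map_smul' _ _ := rfl
  left_inv _ := rfl
  right_inv _ := rfl

lemma isScalarTower_stalk (F : X.Modules) (x : X) (U : X.Opens) (hxU : x ∈ U) :
    letI := stalkΓModule F x U hxU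
    letI : Algebra Γ(X, U) (X.presheaf.stalk x) := X.presheaf.algebra_section_stalk ⟨x, hxU⟩
    IsScalarTower Γ(X, U) (X.presheaf.stalk x) (F.presheaf.stalk x) := by
  letI := stalkΓModule F x U hxU
  letI : Algebra Γ(X, U) (X.presheaf.stalk x) := X.presheaf.algebra_section_stalk ⟨x, hxU⟩
  exact ⟨fun r s m => by
      change (r • s) • m = X.presheaf.germ U x hxU r • (s • m)
      rw [Algebra.smul_def, mul_smul]
      rfl⟩

/-- The stalk of the structure module has the same length as the local ring. -/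
theorem length_unit_stalk (z : Z) :
    Module.length (Z.presheaf.stalk z) ((unitMod Z).presheaf.stalk z) =
      Module.length (Z.presheaf.stalk z) (Z.presheaf.stalk z) := by
  obtain ⟨V, hV, hzV, -⟩ := exists_isAffineOpen_mem_and_subset (x := z) (U := ⊤) trivial
  letI := stalkΓModule (unitMod Z) z V hzV
  haveI hloc := isLocalizedModule_germ (unitMod Z) hV z hzV
  letI : Algebra Γ(Z, V) (Z.presheaf.stalk z) := Z.presheaf.algebra_section_stalk ⟨z, hzV⟩
  haveI := hV.isLocalization_stalk ⟨z, hzV⟩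
  haveI := isScalarTower_stalk (unitMod Z) z V hzV
  set q := (hV.primeIdealOf ⟨z, hzV⟩).asIdeal with hq
  haveI : IsLocalizedModule q.primeCompl (Algebra.linearMap Γ(Z, V) (Z.presheaf.stalk z)) :=
    inferInstance
  haveI : IsLocalizedModule q.primeCompl
      ((Algebra.linearMap Γ(Z, V) (Z.presheaf.stalk z)) ∘ₗ (unitΓEquiv V).toLinearMap) :=
    IsLocalizedModule.of_linearEquiv_right _ _ _
  let e : (unitMod Z).presheaf.stalk z ≃ₗ[Γ(Z, V)] Z.presheaf.stalk z :=
    IsLocalizedModule.linearEquiv q.primeCompl (germLinear (unitMod Z) z V hzV)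
      ((Algebra.linearMap Γ(Z, V) (Z.presheaf.stalk z)) ∘ₗ (unitΓEquiv V).toLinearMap)
  exact (e.extendScalarsOfIsLocalization q.primeCompl (Z.presheaf.stalk z)).length_eq

lemma subsingleton_sections_bot (G : Z.Modules) (V : Z.Opens) (hV : V = ⊥) :
    Subsingleton Γ(G, V) := by
  subst hV
  exact Module.subsingleton Γ(Z, ⊥) Γ(G, ⊥)

/-- The stalk of a direct image vanishes off the closure of the image. -/
theorem subsingleton_stalk_push_of_notMem_closure (i : Z ⟶ X) (G : Z.Modules) (x : X)
    (hx : x ∉ closure (Set.range i)) :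
    Subsingleton (((Scheme.Modules.pushforward i).obj G).presheaf.stalk x) := by
  let W₀ : X.Opens := ⟨(closure (Set.range i))ᶜ, isClosed_closure.isOpen_compl⟩
  have hxW₀ : x ∈ W₀ := hx
  have hz : ∀ c : ((Scheme.Modules.pushforward i).obj G).presheaf.stalk x, c = 0 := by
    intro c
    obtain ⟨W, hxW, s, rfl⟩ :=
      TopCat.Presheaf.exists_germ_eq ((Scheme.Modules.pushforward i).obj G).presheaf c
    have hbot : i ⁻¹ᵁ (W ⊓ W₀) = ⊥ := by
      ext z
      simp only [Scheme.Hom.mem_preimage, Opens.coe_bot, Set.mem_empty_iff_false, iff_false]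
      rintro ⟨-, h2⟩
      exact h2 (subset_closure ⟨z, rfl⟩)
    haveI : Subsingleton Γ((Scheme.Modules.pushforward i).obj G, W ⊓ W₀) :=
      subsingleton_sections_bot G _ hbot
    rw [germ_eq_zero_iff]
    exact ⟨W ⊓ W₀, inf_le_left, ⟨hxW, hxW₀⟩, Subsingleton.elim _ _⟩
  exact ⟨fun a b => by rw [hz a, hz b]⟩

/-- For a closed immersion `i` and a quasi-coherent module `G`, the stalk of `i_* G` at `i z` has the
same length as the stalk of `G` at `z`. -/
theorem length_stalk_push_closedImmersion (i : Z ⟶ X) [IsClosedImmersion i] (G : Z.Modules)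
    [G.IsQuasicoherent] (z : Z) :
    Module.length (X.presheaf.stalk (i z))
        (((Scheme.Modules.pushforward i).obj G).presheaf.stalk (i z)) =
      Module.length (Z.presheaf.stalk z) (G.presheaf.stalk z) := by
  obtain ⟨U, hU, hxU, -⟩ := exists_isAffineOpen_mem_and_subset (x := i z) (U := ⊤) trivial
  have hV : IsAffineOpen (i ⁻¹ᵁ U) := hU.preimage i
  have hzV : z ∈ i ⁻¹ᵁ U := hxU
  haveI : ((Scheme.Modules.pushforward i).obj G).IsQuasicoherent := qc_pushforward i G
  -- structures on the stalk of `N`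
  letI mN := stalkΓModule ((Scheme.Modules.pushforward i).obj G) (i z) U hxU
  haveI hlocN := isLocalizedModule_germ ((Scheme.Modules.pushforward i).obj G) hU (i z) hxU
  letI algA : Algebra Γ(X, U) (X.presheaf.stalk (i z)) :=
    X.presheaf.algebra_section_stalk ⟨i z, hxU⟩
  haveI := hU.isLocalization_stalk ⟨i z, hxU⟩
  haveI := isScalarTower_stalk ((Scheme.Modules.pushforward i).obj G) (i z) U hxU
  -- structures on the stalk of `G`
  letI mG := stalkΓModule G z (i ⁻¹ᵁ U) hzV
  haveI hlocG := isLocalizedModule_germ G hV z hzV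
  letI algB : Algebra Γ(Z, i ⁻¹ᵁ U) (Z.presheaf.stalk z) :=
    Z.presheaf.algebra_section_stalk ⟨z, hzV⟩
  haveI := hV.isLocalization_stalk ⟨z, hzV⟩
  haveI := isScalarTower_stalk G z (i ⁻¹ᵁ U) hzV
  -- the ring maps
  letI algAB : Algebra Γ(X, U) Γ(Z, i ⁻¹ᵁ U) := (i.app U).hom.toAlgebra
  letI algψ : Algebra (X.presheaf.stalk (i z)) (Z.presheaf.stalk z) := (i.stalkMap z).hom.toAlgebra
  have hφ : Function.Surjective (algebraMap Γ(X, U) Γ(Z, i ⁻¹ᵁ U)) := i.app_surjective U hU
  have hψ : Function.Surjective (algebraMap (X.presheaf.stalk (i z)) (Z.presheaf.stalk z)) :=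
    i.stalkMap_surjective z
  -- the prime ideals
  have hp : (hU.primeIdealOf ⟨i z, hxU⟩).asIdeal =
      (hV.primeIdealOf ⟨z, hzV⟩).asIdeal.comap (algebraMap Γ(X, U) Γ(Z, i ⁻¹ᵁ U)) := by
    have h := primeIdealOf_comap i hV hU le_rfl z hzV
    rw [Scheme.Hom.appLE_eq_app] at h
    exact h
  -- module structures over `Γ(X, U)` and `O_{X, i z}` on the stalk of `G`
  letI mB : Module Γ(Z, i ⁻¹ᵁ U) Γ((Scheme.Modules.pushforward i).obj G, U) :=
    inferInstanceAs (Module Γ(Z, i ⁻¹ᵁ U) Γ(G, i ⁻¹ᵁ U))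
  haveI : IsScalarTower Γ(X, U) Γ(Z, i ⁻¹ᵁ U) Γ((Scheme.Modules.pushforward i).obj G, U) :=
    IsScalarTower.of_algebraMap_smul fun r m => rfl
  letI mAG : Module Γ(X, U) (G.presheaf.stalk z) :=
    Module.compHom (G.presheaf.stalk z) (algebraMap Γ(X, U) Γ(Z, i ⁻¹ᵁ U))
  haveI : IsScalarTower Γ(X, U) Γ(Z, i ⁻¹ᵁ U) (G.presheaf.stalk z) :=
    IsScalarTower.of_algebraMap_smul fun r m => rfl
  letI mApG : Module (X.presheaf.stalk (i z)) (G.presheaf.stalk z) :=
    Module.compHom (G.presheaf.stalk z) (algebraMap (X.presheaf.stalk (i z)) (Z.presheaf.stalk z))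
  haveI : IsScalarTower (X.presheaf.stalk (i z)) (Z.presheaf.stalk z) (G.presheaf.stalk z) :=
    IsScalarTower.of_algebraMap_smul fun r m => rfl
  haveI : IsScalarTower Γ(X, U) (X.presheaf.stalk (i z)) (G.presheaf.stalk z) := by
    refine ⟨fun a r n => ?_⟩
    change (i.stalkMap z).hom (a • r) • n =
      Z.presheaf.germ (i ⁻¹ᵁ U) z hzV ((i.app U).hom a) • ((i.stalkMap z).hom r • n)
    rw [Algebra.smul_def, map_mul, mul_smul]
    congr 1
    exact i.germ_stalkMap_apply U z hxU a
  let g' : Γ((Scheme.Modules.pushforward i).obj G, U) →ₗ[Γ(Z, i ⁻¹ᵁ U)] G.presheaf.stalk z :=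
    germLinear G z (i ⁻¹ᵁ U) hzV
  haveI : IsLocalizedModule (hV.primeIdealOf ⟨z, hzV⟩).asIdeal.primeCompl g' := hlocG
  exact length_eq_of_surjective_isLocalizedModule hφ (hV.primeIdealOf ⟨z, hzV⟩).asIdeal
    (hU.primeIdealOf ⟨i z, hxU⟩).asIdeal hp (X.presheaf.stalk (i z)) (Z.presheaf.stalk z) hψ
    (germLinear ((Scheme.Modules.pushforward i).obj G) (i z) U hxU) g'

/-- For a closed map `π` and a module `F` with closed support, the support of `π_* F` lies in the
image of the support of `F`. -/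
theorem exists_nontrivial_stalk_of_push {Y : Scheme.{u}} (π : X ⟶ Y) (hπ : IsClosedMap π)
    (F : X.Modules) (hcl : IsClosed {x : X | ¬ Subsingleton (F.presheaf.stalk x)}) (y : Y)
    (h : Nontrivial (((Scheme.Modules.pushforward π).obj F).presheaf.stalk y)) :
    ∃ x : X, π x = y ∧ Nontrivial (F.presheaf.stalk x) := by
  by_contra hcon
  push Not at hcon
  have hy : y ∉ π '' {x : X | ¬ Subsingleton (F.presheaf.stalk x)} := by
    rintro ⟨x, hx, rfl⟩
    exact hx (hcon x rfl)
  let W₀ : Y.Opens := ⟨(π '' {x : X | ¬ Subsingleton (F.presheaf.stalk x)})ᶜ,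
    (hπ _ hcl).isOpen_compl⟩
  have hyW₀ : y ∈ W₀ := hy
  have hz : ∀ c : ((Scheme.Modules.pushforward π).obj F).presheaf.stalk y, c = 0 := by
    intro c
    obtain ⟨W, hyW, s, rfl⟩ :=
      TopCat.Presheaf.exists_germ_eq ((Scheme.Modules.pushforward π).obj F).presheaf c
    rw [germ_eq_zero_iff]
    refine ⟨W ⊓ W₀, inf_le_left, ⟨hyW, hyW₀⟩, ?_⟩
    apply section_eq_zero_of_germ F (U := π ⁻¹ᵁ (W ⊓ W₀))
    intro x hx
    have hxs : Subsingleton (F.presheaf.stalk x) := by
      by_contra hns
      exact hx.2 ⟨x, hns, rfl⟩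
    exact Subsingleton.elim _ _
  obtain ⟨a, b, hab⟩ := h
  exact hab (by rw [hz a, hz b])

end Groth.Agent.H1.CohLen
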