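import Mathlib
import Groth.Agent.Lib.Helper1.ComplFlat

/-!
# Closedness of images in complete modules with flat reductions; completed free modules are
Mittag-Leffler
-/

set_option autoImplicit false

universe u

open Function TensorProduct

namespace Groth.Agent.H1.ComplFlat

section closed

variable {A : Type u} [CommRing A] [IsNoetherianRing A] (I : Ideal A)
  {N : Type u} [AddCommGroup N] [Module A N]

/-- **closedness of images**: in a complete module with flat reductions over a Noetherian ring, an
element of `N^l` which is approximated to any order by elements of the image of a matrix is in the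
image. -/
theorem exists_eq_of_forall_approx [IsHausdorff I N] [IsPrecomplete I N]
    (hflat : ∀ m : ℕ, Module.Flat (A ⧸ I ^ m) (N ⧸ (I ^ m • ⊤ : Submodule A N)))
    {k l : ℕ} (w : Fin k → Fin l → A) (x : Fin l → N)
    (happ : ∀ n : ℕ, ∃ ζ : Fin k → N, ∀ i, x i - ∑ j', w j' i • ζ j' ∈
      (I ^ n • ⊤ : Submodule A N)) :
    ∃ L : Fin k → N, ∀ i, x i = ∑ j', w j' i • L j' := by
  classical
  set V : (Fin k → A) →ₗ[A] (Fin l → A) := Fintype.linearCombination A w with hV
  obtain ⟨c₂, hc₂⟩ := exists_AR I (LinearMap.range V)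
  -- Step B
  have stepB : ∀ (n : ℕ) (ζ : Fin k → N),
      (∀ i, ∑ j', w j' i • ζ j' ∈ (I ^ (n + c₂) • ⊤ : Submodule A N)) →
      ∃ ζ' : Fin k → N, (∀ i, ∑ j', w j' i • ζ' j' = 0) ∧
        ∀ j', ζ j' - ζ' j' ∈ (I ^ n • ⊤ : Submodule A N) := by
    intro n ζ hζ
    haveI := hflat (n + c₂)
    obtain ⟨k₁, b, y, hb, hby⟩ := exists_approx I (n + c₂) n (Nat.le_add_right _ _) w (hc₂ n) ζ hζ
    refine ⟨fun j' => ∑ t, b t j' • y t, fun i => ?_, hby⟩
    simp_rw [Finset.smul_sum, smul_smul]
    rw [Finset.sum_comm]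
    refine Finset.sum_eq_zero fun t _ => ?_
    rw [← Finset.sum_smul]
    have h2 := congrFun (hb t) i
    rw [linearCombination_apply', Pi.zero_apply] at h2
    have h3 : ∑ j', w j' i * b t j' = 0 := by
      rw [← h2]
      exact Finset.sum_congr rfl fun j' _ => mul_comm _ _
    rw [h3, zero_smul]
  choose ζA hζA using happ
  -- the recursion
  let P : ℕ → (Fin k → N) → Prop := fun n ξ =>
    ∀ i, x i - ∑ j', w j' i • ξ j' ∈ (I ^ (n + c₂) • ⊤ : Submodule A N)
  have step : ∀ (n : ℕ) (ξ : {ξ : Fin k → N // P n ξ}),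
      ∃ ξ' : {ξ : Fin k → N // P (n + 1) ξ},
        ∀ j', ξ'.1 j' - ξ.1 j' ∈ (I ^ n • ⊤ : Submodule A N) := by
    rintro n ⟨ξ, hξ⟩
    have h1 : ∀ i, ∑ j', w j' i • (ζA (n + 1 + c₂) j' - ξ j') ∈
        (I ^ (n + c₂) • ⊤ : Submodule A N) := by
      intro i
      have e : ∑ j', w j' i • (ζA (n + 1 + c₂) j' - ξ j') =
          (x i - ∑ j', w j' i • ξ j') - (x i - ∑ j', w j' i • ζA (n + 1 + c₂) j') := by
        simp only [smul_sub, Finset.sum_sub_distrib]
        abel
      rw [e]
      refine Submodule.sub_mem _ (hξ i) ?_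
      have hle : (I ^ (n + 1 + c₂) • ⊤ : Submodule A N) ≤ I ^ (n + c₂) • ⊤ :=
        Submodule.smul_mono_left (Ideal.pow_le_pow_right (by omega))
      exact hle (hζA (n + 1 + c₂) i)
    obtain ⟨ζ', hζ'0, hζ'⟩ := stepB n _ h1
    refine ⟨⟨fun j' => ζA (n + 1 + c₂) j' - ζ' j', ?_⟩, ?_⟩
    · intro i
      have e : ∑ j', w j' i • (ζA (n + 1 + c₂) j' - ζ' j') =
          ∑ j', w j' i • ζA (n + 1 + c₂) j' := by
        simp only [smul_sub, Finset.sum_sub_distrib, hζ'0 i, sub_zero]
      rw [e]
      exact hζA (n + 1 + c₂) i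
    · intro j'
      have e : ζA (n + 1 + c₂) j' - ζ' j' - ξ j' = ζA (n + 1 + c₂) j' - ξ j' - ζ' j' := by abel
      change ζA (n + 1 + c₂) j' - ζ' j' - ξ j' ∈ _
      rw [e]
      exact hζ' j'
  choose nxt hnxt using step
  let seq : ∀ n : ℕ, {ξ : Fin k → N // P n ξ} := fun n =>
    Nat.rec (motive := fun n => {ξ : Fin k → N // P n ξ})
      ⟨ζA (0 + c₂), fun i => hζA (0 + c₂) i⟩ (fun n ih => nxt n ih) n
  have hseq : ∀ n j', (seq (n + 1)).1 j' - (seq n).1 j' ∈ (I ^ n • ⊤ : Submodule A N) :=
    fun n j' => hnxt n (seq n) j'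
  have hcauchy : ∀ j' (m n : ℕ), m ≤ n →
      (seq n).1 j' - (seq m).1 j' ∈ (I ^ m • ⊤ : Submodule A N) := by
    intro j' m n hmn
    induction n, hmn using Nat.le_induction with
    | base => rw [sub_self]; exact Submodule.zero_mem _
    | succ n hmn ih =>
      have e : (seq (n + 1)).1 j' - (seq m).1 j' =
          ((seq (n + 1)).1 j' - (seq n).1 j') + ((seq n).1 j' - (seq m).1 j') := by abel
      rw [e]
      refine Submodule.add_mem _ ?_ ih
      have hle : (I ^ n • ⊤ : Submodule A N) ≤ I ^ m • ⊤ :=
        Submodule.smul_mono_left (Ideal.pow_le_pow_right hmn)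
      exact hle (hseq n j')
  have hlim : ∀ j', ∃ L : N, ∀ n, (seq n).1 j' ≡ L [SMOD (I ^ n • ⊤ : Submodule A N)] := by
    intro j'
    refine IsPrecomplete.prec ‹IsPrecomplete I N› (f := fun n => (seq n).1 j') ?_
    intro m n hmn
    rw [SModEq.sub_mem]
    have := hcauchy j' m n hmn
    rw [← Submodule.neg_mem_iff, neg_sub] at this
    exact this
  choose L hL using hlim
  refine ⟨L, fun i => ?_⟩
  rw [← sub_eq_zero]
  apply IsHausdorff.haus ‹IsHausdorff I N›
  intro n
  rw [SModEq.sub_mem, sub_zero]
  have e : x i - ∑ j', w j' i • L j' =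
      (x i - ∑ j', w j' i • (seq n).1 j') + ∑ j', w j' i • ((seq n).1 j' - L j') := by
    simp only [smul_sub, Finset.sum_sub_distrib]
    abel
  rw [e]
  refine Submodule.add_mem _ ?_ ?_
  · have hle : (I ^ (n + c₂) • ⊤ : Submodule A N) ≤ I ^ n • ⊤ :=
      Submodule.smul_mono_left (Ideal.pow_le_pow_right (by omega))
    exact hle ((seq n).2 i)
  · refine Submodule.sum_mem _ fun j' _ => Submodule.smul_mem _ _ ?_
    rw [← SModEq.sub_mem]
    exact hL j' n

end closed


section coord

variable {R : Type u} [CommRing R] (I : Ideal R) [IsAdicComplete I R] (α : Type u)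

/-- the `a`-th coordinate of an element of the completed free module -/
noncomputable def coord (a : α) : AdicCompletion I (α →₀ R) →ₗ[R] R :=
  (AdicCompletion.ofLinearEquiv I R).symm.toLinearMap ∘ₗ
    (AdicCompletion.map I (Finsupp.lapply (R := R) (M := R) a)).restrictScalars R

theorem coord_of (a : α) (f : α →₀ R) : coord I α a (AdicCompletion.of I _ f) = f a := by
  rw [coord, LinearMap.comp_apply, LinearMap.restrictScalars_apply, AdicCompletion.map_of]
  exact AdicCompletion.ofLinearEquiv_symm_of (I := I) (M := R) _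

theorem coord_mem (a : α) (n : ℕ) (x : AdicCompletion I (α →₀ R))
    (hx : x ∈ (I ^ n • ⊤ : Submodule R (AdicCompletion I (α →₀ R)))) :
    coord I α a x ∈ I ^ n := by
  have h1 : coord I α a x ∈ Submodule.map (coord I α a) (I ^ n • ⊤) := ⟨x, hx, rfl⟩
  rw [Submodule.map_smul''] at h1
  have h2 : I ^ n • Submodule.map (coord I α a) ⊤ ≤ I ^ n := by
    rw [Submodule.smul_le]
    intro r hr y _
    exact Ideal.mul_mem_right _ _ hr
  exact h2 h1

omit [IsAdicComplete I R] in
theorem finsupp_mem_smul_top (J : Ideal R) (h : α →₀ R) (hh : ∀ a, h a ∈ J) :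
    h ∈ J • (⊤ : Submodule R (α →₀ R)) := by
  classical
  rw [← Finsupp.sum_single h]
  refine Submodule.sum_mem _ fun a _ => ?_
  have : Finsupp.single a (h a) = h a • Finsupp.single a (1 : R) := by
    rw [Finsupp.smul_single, smul_eq_mul, mul_one]
  rw [this]
  exact Submodule.smul_mem_smul (hh a) Submodule.mem_top

omit [IsAdicComplete I R] in
theorem of_mem (n : ℕ) (h : α →₀ R) (hh : h ∈ I ^ n • (⊤ : Submodule R (α →₀ R))) :
    AdicCompletion.of I _ h ∈ (I ^ n • ⊤ : Submodule R (AdicCompletion I (α →₀ R))) := by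
  have h1 : AdicCompletion.of I _ h ∈ Submodule.map (AdicCompletion.of I (α →₀ R))
      (I ^ n • ⊤) := ⟨h, hh, rfl⟩
  rw [Submodule.map_smul''] at h1
  have hle : I ^ n • Submodule.map (AdicCompletion.of I (α →₀ R)) ⊤ ≤
      (I ^ n • ⊤ : Submodule R (AdicCompletion I (α →₀ R))) := smul_mono_right _ le_top
  exact hle h1

omit [IsAdicComplete I R] in
theorem exists_sub_of_mem (hI : I.FG) (n : ℕ) (x : AdicCompletion I (α →₀ R)) :
    ∃ f : α →₀ R, x - AdicCompletion.of I _ f ∈
      (I ^ n • ⊤ : Submodule R (AdicCompletion I (α →₀ R))) := by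
  obtain ⟨f, hf⟩ := Submodule.Quotient.mk_surjective _ (x.val n)
  refine ⟨f, ?_⟩
  rw [AdicCompletion.pow_smul_top_eq_ker_eval hI, LinearMap.mem_ker, map_sub, sub_eq_zero]
  change x.val n = (AdicCompletion.of I _ f).val n
  rw [← hf]
  rfl

end coord


section ML

variable {R : Type u} [CommRing R] [IsNoetherianRing R] (I : Ideal R) (α : Type u)

omit [IsNoetherianRing R] in
theorem flat_quotient_adicCompletion (hI : I.FG) (M : Type u) [AddCommGroup M] [Module R M]
    [Module.Flat R M] (m : ℕ) :
    Module.Flat (R ⧸ I ^ m)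
      (AdicCompletion I M ⧸ (I ^ m • ⊤ : Submodule R (AdicCompletion I M))) := by
  haveI := flat_quotient_of_flat M (I ^ m)
  exact Module.Flat.of_linearEquiv
    ((quotEquiv I M hI m).extendScalarsOfSurjective (S := R ⧸ I ^ m) Ideal.Quotient.mk_surjective)

variable [IsAdicComplete I R]

/-- decomposition of a finite family in the completed free module along the submodule generated by
its coordinate vectors -/
theorem exists_decomp {l : ℕ} (m : Fin l → AdicCompletion I (α →₀ R)) :
    ∃ (s : ℕ) (u : Fin s → Fin l → R) (c : Fin s → AdicCompletion I (α →₀ R)),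
      (∀ t, u t ∈ Submodule.span R (Set.range fun a : α => fun k => coord I α a (m k))) ∧
      ∀ k, m k = ∑ t, u t k • c t := by
  classical
  have hI : I.FG := IsNoetherian.noetherian I
  set r : α → Fin l → R := fun a k => coord I α a (m k) with hr
  set F' : Submodule R (Fin l → R) := Submodule.span R (Set.range r) with hF'
  obtain ⟨s, u, hu⟩ := Submodule.fg_iff_exists_fin_generating_family.mp
    (IsNoetherian.noetherian F')
  have humem : ∀ t, u t ∈ F' := fun t => by
    rw [← hu]
    exact Submodule.subset_span ⟨t, rfl⟩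
  have hd : ∀ a, ∃ d : Fin s → R, ∑ t, d t • u t = r a := by
    intro a
    have h1 : r a ∈ F' := Submodule.subset_span ⟨a, rfl⟩
    rw [← hu, ← Fintype.range_linearCombination] at h1
    obtain ⟨d, hd⟩ := h1
    exact ⟨d, by rw [← hd, Fintype.linearCombination_apply]⟩
  choose d hd using hd
  haveI : IsAdicComplete I (AdicCompletion I (α →₀ R)) := AdicCompletion.isAdicComplete hI
  obtain ⟨c, hc⟩ := exists_eq_of_forall_approx I (N := AdicCompletion I (α →₀ R))
    (fun m' => flat_quotient_adicCompletion I hI (α →₀ R) m') u m (by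
      intro n
      have hf : ∀ k, ∃ f : α →₀ R, m k - AdicCompletion.of I _ f ∈
          (I ^ n • ⊤ : Submodule R (AdicCompletion I (α →₀ R))) :=
        fun k => exists_sub_of_mem I α hI n (m k)
      choose f hf using hf
      let supp : Finset α := Finset.univ.biUnion fun k => (f k).support
      let g : Fin s → (α →₀ R) := fun t =>
        Finsupp.onFinset supp (fun a => if a ∈ supp then d a t else 0) (by
          intro a ha
          by_contra h
          exact ha (if_neg h))
      refine ⟨fun t => AdicCompletion.of I _ (g t), fun k => ?_⟩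
      have e : m k - ∑ t, u t k • AdicCompletion.of I (α →₀ R) (g t) =
          (m k - AdicCompletion.of I _ (f k)) +
            AdicCompletion.of I _ (f k - ∑ t, u t k • g t) := by
        rw [map_sub, map_sum]
        simp only [map_smul]
        abel
      rw [e]
      refine Submodule.add_mem _ (hf k) (of_mem I α n _ (finsupp_mem_smul_top α _ _ fun a => ?_))
      rw [Finsupp.sub_apply, Finsupp.finsetSum_apply]
      simp only [Finsupp.smul_apply, smul_eq_mul]
      by_cases ha : a ∈ supp
      · have h1 : ∀ t, g t a = d a t := fun t => by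
          change (if a ∈ supp then d a t else 0) = _
          rw [if_pos ha]
        simp_rw [h1]
        have h2 : ∑ t, u t k * d a t = r a k := by
          rw [← hd a, Finset.sum_apply]
          exact Finset.sum_congr rfl fun t _ => by rw [Pi.smul_apply, smul_eq_mul, mul_comm]
        rw [h2, hr]
        change f k a - coord I α a (m k) ∈ I ^ n
        rw [← coord_of I α a (f k), ← map_sub]
        apply coord_mem
        rw [← Submodule.neg_mem_iff, neg_sub]
        exact hf k
      · have h1 : ∀ t, g t a = 0 := fun t => by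
          change (if a ∈ supp then d a t else 0) = _
          rw [if_neg ha]
        have h2 : f k a = 0 := by
          by_contra h
          apply ha
          exact Finset.mem_biUnion.mpr ⟨k, Finset.mem_univ _, Finsupp.mem_support_iff.mpr h⟩
        simp_rw [h1]
        simp [h2])
  exact ⟨s, u, c, humem, hc⟩

/-- **The completion of a free module over a complete Noetherian ring is Mittag-Leffler.** -/
theorem injective_piRightHom_adicCompletion_free (ι : Type u) (Q : ι → Type u)
    [∀ i, AddCommGroup (Q i)] [∀ i, Module R (Q i)] :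
    Injective (TensorProduct.piRightHom R R (AdicCompletion I (α →₀ R)) Q) := by
  classical
  rw [injective_iff_map_eq_zero]
  intro z hz
  obtain ⟨S, hS⟩ := TensorProduct.exists_finset z
  let e : Fin S.card ≃ S := S.equivFin.symm
  let m : Fin S.card → AdicCompletion I (α →₀ R) := fun k => (e k).1.1
  let q : Fin S.card → (∀ i, Q i) := fun k => (e k).1.2
  have hz' : z = ∑ k, m k ⊗ₜ[R] q k := by
    rw [hS, ← Finset.sum_coe_sort S (fun p => p.1 ⊗ₜ[R] p.2)]
    exact (Equiv.sum_comp e (fun p : S => p.1.1 ⊗ₜ[R] p.1.2)).symm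
  have hzi : ∀ i, ∑ k, m k ⊗ₜ[R] q k i = 0 := by
    intro i
    have := congrFun hz i
    rw [hz', map_sum, Finset.sum_apply] at this
    simpa only [TensorProduct.piRightHom_tmul, Pi.zero_apply] using this
  have hcoord : ∀ a i, ∑ k, coord I α a (m k) • q k i = 0 := by
    intro a i
    have := congrArg (fun w => TensorProduct.lid R (Q i) ((coord I α a).rTensor (Q i) w)) (hzi i)
    simpa only [map_sum, LinearMap.rTensor_tmul, TensorProduct.lid_tmul, map_zero] using this
  obtain ⟨s, u, c, hu, hmc⟩ := exists_decomp I α m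
  have hspan : ∀ v ∈ Submodule.span R (Set.range fun a : α => fun k => coord I α a (m k)),
      ∀ i, ∑ k, v k • q k i = 0 := by
    intro v hv
    induction hv using Submodule.span_induction with
    | mem v hv =>
      obtain ⟨a, rfl⟩ := hv
      exact hcoord a
    | zero => intro i; simp
    | add v w _ _ hv hw =>
      intro i
      simp only [Pi.add_apply, add_smul, Finset.sum_add_distrib, hv i, hw i, add_zero]
    | smul b v _ hv =>
      intro i
      simp only [Pi.smul_apply, smul_eq_mul, mul_smul]
      rw [← Finset.smul_sum, hv i, smul_zero]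
  have hq0 : ∀ t, ∑ k, u t k • q k = 0 := by
    intro t
    funext i
    rw [Finset.sum_apply]
    exact hspan (u t) (hu t) i
  rw [hz']
  calc ∑ k, m k ⊗ₜ[R] q k = ∑ k, ∑ t, c t ⊗ₜ[R] (u t k • q k) := by
        refine Finset.sum_congr rfl fun k _ => ?_
        rw [hmc k, TensorProduct.sum_tmul]
        refine Finset.sum_congr rfl fun t _ => ?_
        rw [TensorProduct.smul_tmul]
    _ = ∑ t, c t ⊗ₜ[R] (∑ k, u t k • q k) := by
        rw [Finset.sum_comm]
        refine Finset.sum_congr rfl fun t _ => ?_
        rw [TensorProduct.tmul_sum]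
    _ = 0 := by
        simp only [hq0, TensorProduct.tmul_zero, Finset.sum_const_zero]

end ML

end Groth.Agent.H1.ComplFlat
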