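import Mathlib

set_option autoImplicit false
universe u
open Function

namespace Groth.Agent.H1.ComplSplit

section endo

variable {R : Type u} [CommRing R] (I : Ideal R) {F : Type u} [AddCommGroup F] [Module R F]

/-- `φ` maps `F` into `I ^ n • F` -/
def MapsInto (n : ℕ) (φ : Module.End R F) : Prop := ∀ x, φ x ∈ (I ^ n • ⊤ : Submodule R F)

variable {I}

theorem MapsInto.mono {a b : ℕ} (h : a ≤ b) {φ : Module.End R F} (hφ : MapsInto I b φ) :
    MapsInto I a φ :=
  fun x => Submodule.smul_mono_left (Ideal.pow_le_pow_right h) (hφ x)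

theorem MapsInto.add {a : ℕ} {φ ψ : Module.End R F} (hφ : MapsInto I a φ) (hψ : MapsInto I a ψ) :
    MapsInto I a (φ + ψ) := fun x => Submodule.add_mem _ (hφ x) (hψ x)

theorem MapsInto.sub {a : ℕ} {φ ψ : Module.End R F} (hφ : MapsInto I a φ) (hψ : MapsInto I a ψ) :
    MapsInto I a (φ - ψ) := fun x => Submodule.sub_mem _ (hφ x) (hψ x)

theorem MapsInto.mul_right {a : ℕ} {φ : Module.End R F} (hφ : MapsInto I a φ)
    (ψ : Module.End R F) : MapsInto I a (φ * ψ) := fun x => hφ (ψ x)

theorem map_mem_of_mem {G : Type u} [AddCommGroup G] [Module R G] (φ : F →ₗ[R] G) {a : ℕ} {x : F}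
    (hx : x ∈ (I ^ a • ⊤ : Submodule R F)) : φ x ∈ (I ^ a • ⊤ : Submodule R G) := by
  refine Submodule.smul_induction_on hx ?_ ?_
  · intro r hr y _
    rw [map_smul]
    exact Submodule.smul_mem_smul hr Submodule.mem_top
  · intro y z hy hz
    rw [map_add]
    exact Submodule.add_mem _ hy hz

theorem MapsInto.mul_left {a : ℕ} {φ : Module.End R F} (ψ : Module.End R F)
    (hφ : MapsInto I a φ) : MapsInto I a (ψ * φ) := fun x => map_mem_of_mem ψ (hφ x)

theorem MapsInto.apply_mem {a b : ℕ} {φ : Module.End R F} (hφ : MapsInto I a φ) {x : F}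
    (hx : x ∈ (I ^ b • ⊤ : Submodule R F)) : φ x ∈ (I ^ (a + b) • ⊤ : Submodule R F) := by
  refine Submodule.smul_induction_on hx ?_ ?_
  · intro r hr y _
    rw [map_smul, add_comm, pow_add, Submodule.mul_smul]
    exact Submodule.smul_mem_smul hr (hφ y)
  · intro y z hy hz
    rw [map_add]
    exact Submodule.add_mem _ hy hz

theorem MapsInto.mul {a b : ℕ} {φ ψ : Module.End R F} (hφ : MapsInto I a φ)
    (hψ : MapsInto I b ψ) : MapsInto I (a + b) (φ * ψ) := fun x => hφ.apply_mem (hψ x)

/-- Newton step for idempotents -/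
def newton (φ : Module.End R F) : Module.End R F := 3 * φ * φ - 2 * φ * φ * φ

theorem newton_sub (φ : Module.End R F) :
    newton φ - φ = (φ * φ - φ) * (1 - 2 * φ) := by
  unfold newton; noncomm_ring

theorem newton_sq_sub (φ : Module.End R F) :
    newton φ * newton φ - newton φ =
      (φ * φ - φ) * ((φ * φ - φ) * ((2 * φ - 3) * (2 * φ + 1))) := by
  unfold newton; noncomm_ring

/-- Newton iteration -/
def seq (φ : Module.End R F) : ℕ → Module.End R F
  | 0 => φ
  | k + 1 => newton (seq φ k)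

theorem seq_idem (φ : Module.End R F) (h0 : MapsInto I 1 (φ * φ - φ)) (k : ℕ) :
    MapsInto I (k + 1) (seq φ k * seq φ k - seq φ k) := by
  induction k with
  | zero => exact h0
  | succ k ih =>
    change MapsInto I (k + 1 + 1) (newton (seq φ k) * newton (seq φ k) - newton (seq φ k))
    rw [newton_sq_sub]
    have := (ih.mul (ih.mul_right ((2 * seq φ k - 3) * (2 * seq φ k + 1))))
    exact this.mono (by omega)

theorem seq_succ_sub (φ : Module.End R F) (h0 : MapsInto I 1 (φ * φ - φ)) (k : ℕ) :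
    MapsInto I (k + 1) (seq φ (k + 1) - seq φ k) := by
  change MapsInto I (k + 1) (newton (seq φ k) - seq φ k)
  rw [newton_sub]
  exact (seq_idem φ h0 k).mul_right _

theorem seq_sub (φ : Module.End R F) (h0 : MapsInto I 1 (φ * φ - φ)) {m n : ℕ} (hmn : m ≤ n) :
    MapsInto I (m + 1) (seq φ n - seq φ m) := by
  induction n, hmn using Nat.le_induction with
  | base => rw [sub_self]; exact fun x => Submodule.zero_mem _
  | succ n hmn ih =>
    have e : seq φ (n + 1) - seq φ m = (seq φ (n + 1) - seq φ n) + (seq φ n - seq φ m) := by abel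
    rw [e]
    exact ((seq_succ_sub φ h0 n).mono (by omega)).add ih

end endo


section main

variable {R : Type u} [CommRing R] (I : Ideal R) {F M : Type u} [AddCommGroup F] [Module R F]
  [AddCommGroup M] [Module R M] (π : F →ₗ[R] M)

/-- `ψ` is idempotent mod `I ^ n`, and mod `I` it is a projector with kernel `ker π` -/
structure Good (ψ : Module.End R F) (n : ℕ) : Prop where
  idem : MapsInto I n (ψ * ψ - ψ)
  h2 : ∀ x, π x - π (ψ x) ∈ (I • ⊤ : Submodule R M)
  h3 : ∀ k, π k = 0 → ψ k ∈ (I • ⊤ : Submodule R F)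

variable {I π}

theorem Good.surj {ψ : Module.End R F} {n : ℕ} (h : Good I π ψ n) (hπ : Surjective π) (j : ℕ)
    (m : M) : ∃ x : F, m - π (ψ x) ∈ (I ^ j • ⊤ : Submodule R M) := by
  induction j generalizing m with
  | zero => exact ⟨0, by simp⟩
  | succ j ih =>
    obtain ⟨x, hx⟩ := ih m
    have key : ∀ d ∈ (I ^ j • ⊤ : Submodule R M),
        ∃ y : F, d - π (ψ y) ∈ (I ^ (j + 1) • ⊤ : Submodule R M) := by
      intro d hd
      refine Submodule.smul_induction_on hd ?_ ?_
      · intro a ha m' _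
        obtain ⟨y, rfl⟩ := hπ m'
        refine ⟨a • y, ?_⟩
        rw [map_smul, map_smul, ← smul_sub, pow_succ, Submodule.mul_smul]
        exact Submodule.smul_mem_smul ha (h.h2 y)
      · rintro d1 d2 ⟨y1, h1⟩ ⟨y2, h2⟩
        refine ⟨y1 + y2, ?_⟩
        have : d1 + d2 - π (ψ (y1 + y2)) = (d1 - π (ψ y1)) + (d2 - π (ψ y2)) := by
          rw [map_add, map_add]; abel
        rw [this]
        exact Submodule.add_mem _ h1 h2
    obtain ⟨y, hy⟩ := key _ hx
    refine ⟨x + y, ?_⟩
    have : m - π (ψ (x + y)) = (m - π (ψ x)) - π (ψ y) := by rw [map_add, map_add]; abel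
    rw [this]; exact hy

theorem Good.inj [Module.Flat R M] {ψ : Module.End R F} {n : ℕ} (h : Good I π ψ n)
    (hπ : Surjective π) (x : F)
    (hx : π (ψ x) ∈ (I ^ n • ⊤ : Submodule R M)) : ψ x ∈ (I ^ n • ⊤ : Submodule R F) := by
  have hmap : (I ^ n • ⊤ : Submodule R M) = Submodule.map π (I ^ n • ⊤) := by
    rw [Submodule.map_smul'', Submodule.map_top, LinearMap.range_eq_top.mpr hπ]
  rw [hmap] at hx
  obtain ⟨p0, hp0, hp0x⟩ := hx
  have hkπ : π (ψ x - p0) = 0 := by rw [map_sub, hp0x, sub_self]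
  have hψk : ψ (ψ x - p0) - (ψ x - p0) ∈ (I ^ n • ⊤ : Submodule R F) := by
    have e : ψ (ψ x - p0) - (ψ x - p0) = (ψ * ψ - ψ) x - (ψ p0 - p0) := by
      simp only [map_sub, LinearMap.sub_apply, Module.End.mul_apply]; abel
    rw [e]
    exact Submodule.sub_mem _ (h.idem x) (Submodule.sub_mem _ (map_mem_of_mem ψ hp0) hp0)
  have hkj : ∀ j ≤ n, ψ x - p0 ∈ (I ^ j • ⊤ : Submodule R F) := by
    intro j hj
    induction j with
    | zero => simp
    | succ j ih =>
      have hkj := ih (by omega)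
      have hk2 : ψ x - p0 ∈ LinearMap.ker π ⊓ (I ^ j • ⊤ : Submodule R F) := ⟨hkπ, hkj⟩
      rw [LinearMap.ker_inf_smul_top_eq_smul_of_flat (I ^ j) π hπ] at hk2
      have hψk2 : ψ (ψ x - p0) ∈ (I ^ (j + 1) • ⊤ : Submodule R F) := by
        refine Submodule.smul_induction_on hk2 ?_ ?_
        · intro a ha k' hk'
          rw [map_smul, pow_succ, Submodule.mul_smul]
          exact Submodule.smul_mem_smul ha (h.h3 k' hk')
        · intro a b ha hb; rw [map_add]; exact Submodule.add_mem _ ha hb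
      have : ψ x - p0 = ψ (ψ x - p0) - (ψ (ψ x - p0) - (ψ x - p0)) := by abel
      rw [this]
      exact Submodule.sub_mem _ hψk2 (Submodule.smul_mono_left (Ideal.pow_le_pow_right hj) hψk)
  have : ψ x = (ψ x - p0) + p0 := by abel
  rw [this]
  exact Submodule.add_mem _ (hkj n le_rfl) hp0

end main


section level

variable {R : Type u} [CommRing R] {I : Ideal R} {F M : Type u} [AddCommGroup F] [Module R F]
  [AddCommGroup M] [Module R M] {π : F →ₗ[R] M}

variable (I π) in
/-- reduction of `π` mod `I ^ n`, as an `R`-linear map -/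
noncomputable def πn (n : ℕ) :
    F ⧸ (I ^ n • ⊤ : Submodule R F) →ₗ[R] M ⧸ (I ^ n • ⊤ : Submodule R M) :=
  (π.reduceModIdeal (I ^ n)).restrictScalars R

theorem πn_mk (n : ℕ) (x : F) :
    πn I π n (Submodule.Quotient.mk x) = Submodule.Quotient.mk (π x) := rfl

variable (I) in
/-- the image of `ψ` mod `I ^ n` -/
def Nn (ψ : Module.End R F) (n : ℕ) : Submodule R (F ⧸ (I ^ n • ⊤ : Submodule R F)) :=
  LinearMap.range ((Submodule.mkQ (I ^ n • ⊤ : Submodule R F)) ∘ₗ ψ)

theorem mem_Nn {ψ : Module.End R F} {n : ℕ} {y : F ⧸ (I ^ n • ⊤ : Submodule R F)} :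
    y ∈ Nn I ψ n ↔ ∃ x : F, Submodule.Quotient.mk (ψ x) = y := Iff.rfl

theorem bijective_θ [Module.Flat R M] {ψ : Module.End R F} {n : ℕ} (h : Good I π ψ n)
    (hπ : Surjective π) : Bijective ((πn I π n).domRestrict (Nn I ψ n)) := by
  constructor
  · rw [injective_iff_map_eq_zero]
    rintro ⟨y, hy⟩ hy0
    obtain ⟨x, rfl⟩ := mem_Nn.mp hy
    have h1 : πn I π n (Submodule.Quotient.mk (ψ x)) = 0 := hy0
    rw [πn_mk, Submodule.Quotient.mk_eq_zero] at h1
    have h2 := h.inj hπ x h1
    apply Subtype.ext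
    exact (Submodule.Quotient.mk_eq_zero _).mpr h2
  · intro mb
    obtain ⟨m, rfl⟩ := Submodule.Quotient.mk_surjective _ mb
    obtain ⟨x, hx⟩ := h.surj hπ n m
    refine ⟨⟨Submodule.Quotient.mk (ψ x), mem_Nn.mpr ⟨x, rfl⟩⟩, ?_⟩
    change πn I π n (Submodule.Quotient.mk (ψ x)) = _
    rw [πn_mk]
    symm
    exact (Submodule.Quotient.eq _).mpr hx

/-- the section of `πn` with image `Nn` -/
noncomputable def sn [Module.Flat R M] {ψ : Module.End R F} {n : ℕ} (h : Good I π ψ n)
    (hπ : Surjective π) :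
    M ⧸ (I ^ n • ⊤ : Submodule R M) →ₗ[R] F ⧸ (I ^ n • ⊤ : Submodule R F) :=
  (Nn I ψ n).subtype ∘ₗ (LinearEquiv.ofBijective _ (bijective_θ h hπ)).symm.toLinearMap

theorem sn_mem [Module.Flat R M] {ψ : Module.End R F} {n : ℕ} (h : Good I π ψ n)
    (hπ : Surjective π) (mb : M ⧸ (I ^ n • ⊤ : Submodule R M)) : sn h hπ mb ∈ Nn I ψ n :=
  Subtype.property _

theorem πn_sn [Module.Flat R M] {ψ : Module.End R F} {n : ℕ} (h : Good I π ψ n)
    (hπ : Surjective π) (mb : M ⧸ (I ^ n • ⊤ : Submodule R M)) : πn I π n (sn h hπ mb) = mb := by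
  have := (LinearEquiv.ofBijective _ (bijective_θ h hπ)).apply_symm_apply mb
  exact this

theorem eq_sn_of_mem [Module.Flat R M] {ψ : Module.End R F} {n : ℕ} (h : Good I π ψ n)
    (hπ : Surjective π) {mb : M ⧸ (I ^ n • ⊤ : Submodule R M)}
    {y : F ⧸ (I ^ n • ⊤ : Submodule R F)} (hy : y ∈ Nn I ψ n) (hπy : πn I π n y = mb) :
    y = sn h hπ mb := by
  have h1 : (LinearEquiv.ofBijective _ (bijective_θ h hπ)) ⟨y, hy⟩ = mb := hπy
  have h2 : (⟨y, hy⟩ : Nn I ψ n) = (LinearEquiv.ofBijective _ (bijective_θ h hπ)).symm mb := by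
    rw [← h1, LinearEquiv.symm_apply_apply]
  exact congrArg Subtype.val h2

end level


section system

variable {R : Type u} [CommRing R] {I : Ideal R} {F M : Type u} [AddCommGroup F] [Module R F]
  [AddCommGroup M] [Module R M] [Module.Flat R M] {π : F →ₗ[R] M} (hπ : Surjective π)
  (φ : Module.End R F) (h0 : MapsInto I 1 (φ * φ - φ))
  (h2 : ∀ x, π x - π (φ x) ∈ (I • ⊤ : Submodule R M))
  (h3 : ∀ k, π k = 0 → φ k ∈ (I • ⊤ : Submodule R F))

omit [Module.Flat R M] in
include h0 h2 h3 in
theorem good_seq (n : ℕ) : Good I π (seq φ n) n := by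
  have hdiff : MapsInto I 1 (seq φ n - φ) := seq_sub φ h0 (Nat.zero_le n)
  refine ⟨(seq_idem φ h0 n).mono (Nat.le_succ n), fun x => ?_, fun k hk => ?_⟩
  · have e : π x - π (seq φ n x) = (π x - π (φ x)) - π ((seq φ n - φ) x) := by
      rw [LinearMap.sub_apply, map_sub]; abel
    rw [e]
    refine Submodule.sub_mem _ (h2 x) ?_
    have := map_mem_of_mem π (hdiff x)
    rwa [pow_one] at this
  · have e : seq φ n k = φ k + (seq φ n - φ) k := by rw [LinearMap.sub_apply]; abel
    rw [e]
    refine Submodule.add_mem _ (h3 k hk) ?_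
    have := hdiff k
    rwa [pow_one] at this

theorem transition_sn {m n : ℕ} (hmn : m ≤ n) (xb : M ⧸ (I ^ n • ⊤ : Submodule R M)) :
    AdicCompletion.transitionMap I F hmn (sn (good_seq φ h0 h2 h3 n) hπ xb) =
      sn (good_seq φ h0 h2 h3 m) hπ (AdicCompletion.transitionMap I M hmn xb) := by
  apply eq_sn_of_mem
  · obtain ⟨x, hx⟩ := mem_Nn.mp (sn_mem (good_seq φ h0 h2 h3 n) hπ xb)
    rw [← hx]
    refine mem_Nn.mpr ⟨x, ?_⟩
    change Submodule.Quotient.mk (seq φ m x) =
      Submodule.factor _ (Submodule.Quotient.mk (seq φ n x))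
    refine Eq.trans ?_ (Submodule.factor_mk (Submodule.pow_smul_top_le I F hmn) (seq φ n x)).symm
    change Submodule.Quotient.mk (seq φ m x) = Submodule.Quotient.mk (seq φ n x)
    rw [Submodule.Quotient.eq]
    have := (seq_sub φ h0 hmn).mono (Nat.le_succ m) x
    rw [LinearMap.sub_apply] at this
    rw [← Submodule.neg_mem_iff, neg_sub]
    exact this
  · have nat : ∀ y : F ⧸ (I ^ n • ⊤ : Submodule R F),
        πn I π m (AdicCompletion.transitionMap I F hmn y) =
          AdicCompletion.transitionMap I M hmn (πn I π n y) := by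
      intro y
      obtain ⟨z, rfl⟩ := Submodule.Quotient.mk_surjective _ y
      rfl
    rw [nat, πn_sn]

/-- the compatible family of maps `M^ → F / I ^ n F` -/
noncomputable def σ (n : ℕ) : AdicCompletion I M →ₗ[R] F ⧸ (I ^ n • ⊤ : Submodule R F) :=
  sn (good_seq φ h0 h2 h3 n) hπ ∘ₗ AdicCompletion.eval I M n

/-- the section, as an `R`-linear map -/
noncomputable def sR : AdicCompletion I M →ₗ[R] AdicCompletion I F :=
  AdicCompletion.lift I (σ hπ φ h0 h2 h3) (by
    intro m n hmn
    apply LinearMap.ext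
    intro x
    simp only [σ, LinearMap.comp_apply]
    rw [transition_sn hπ φ h0 h2 h3 hmn]
    congr 1
    exact AdicCompletion.transitionMap_comp_eval_apply I M hmn x)

theorem sR_val (x : AdicCompletion I M) (n : ℕ) :
    (sR hπ φ h0 h2 h3 x).val n = sn (good_seq φ h0 h2 h3 n) hπ (x.val n) := rfl

theorem map_sR (x : AdicCompletion I M) :
    AdicCompletion.map I π (sR hπ φ h0 h2 h3 x) = x := by
  apply AdicCompletion.ext
  intro n
  rw [AdicCompletion.map_val_apply, sR_val]
  exact πn_sn _ hπ _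

theorem sR_smul (r : AdicCompletion I R) (x : AdicCompletion I M) :
    sR hπ φ h0 h2 h3 (r • x) = r • sR hπ φ h0 h2 h3 x := by
  apply AdicCompletion.ext
  intro n
  rw [sR_val, AdicCompletion.smul_eval, AdicCompletion.smul_eval, sR_val]
  obtain ⟨r0, hr0⟩ := Ideal.Quotient.mk_surjective (r.val n)
  obtain ⟨x0, hx0⟩ := Submodule.Quotient.mk_surjective _ (x.val n)
  rw [← hr0, ← hx0, AdicCompletion.mk_smul_mk, map_smul]
  generalize sn (good_seq φ h0 h2 h3 n) hπ (Submodule.Quotient.mk x0) = y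
  obtain ⟨y0, rfl⟩ := Submodule.Quotient.mk_surjective _ y
  rw [AdicCompletion.mk_smul_mk]

/-- the section, linear over the completed ring -/
noncomputable def sHat : AdicCompletion I M →ₗ[AdicCompletion I R] AdicCompletion I F where
  toFun := sR hπ φ h0 h2 h3
  map_add' := map_add _
  map_smul' := sR_smul hπ φ h0 h2 h3

theorem map_comp_sHat :
    AdicCompletion.map I π ∘ₗ sHat hπ φ h0 h2 h3 = LinearMap.id := by
  apply LinearMap.ext
  intro x
  exact map_sR hπ φ h0 h2 h3 x

end system


section final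

variable {R : Type u} [CommRing R] (I : Ideal R) {F M : Type u} [AddCommGroup F] [Module R F]
  [AddCommGroup M] [Module R M]

theorem exists_phi [Module.Free R F] (π : F →ₗ[R] M) (hπ : Surjective π)
    [Module.Projective (R ⧸ I) (M ⧸ (I • ⊤ : Submodule R M))] :
    ∃ φ : Module.End R F, MapsInto I 1 (φ * φ - φ) ∧
      (∀ x, π x - π (φ x) ∈ (I • ⊤ : Submodule R M)) ∧
      (∀ k, π k = 0 → φ k ∈ (I • ⊤ : Submodule R F)) := by
  have hπ1 : Surjective (π.reduceModIdeal I) := by
    intro y
    obtain ⟨m, rfl⟩ := Submodule.Quotient.mk_surjective _ y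
    obtain ⟨x, rfl⟩ := hπ m
    exact ⟨Submodule.Quotient.mk x, rfl⟩
  obtain ⟨t, ht⟩ := Module.projective_lifting_property (π.reduceModIdeal I) LinearMap.id hπ1
  let e1 : F ⧸ (I • ⊤ : Submodule R F) →ₗ[R] F ⧸ (I • ⊤ : Submodule R F) :=
    (t ∘ₗ π.reduceModIdeal I).restrictScalars R
  let b := Module.Free.chooseBasis R F
  let φ : Module.End R F := b.constr R (fun i => Classical.choose
    (Submodule.Quotient.mk_surjective _ (e1 (Submodule.Quotient.mk (b i)))))
  have hφ : ∀ x, (Submodule.Quotient.mk (φ x) : F ⧸ (I • ⊤ : Submodule R F)) =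
      e1 (Submodule.Quotient.mk x) := by
    have : (Submodule.mkQ (I • ⊤ : Submodule R F)) ∘ₗ φ = e1 ∘ₗ (Submodule.mkQ _) := by
      apply b.ext
      intro i
      simp only [LinearMap.comp_apply, φ, Module.Basis.constr_basis]
      exact Classical.choose_spec
        (Submodule.Quotient.mk_surjective _ (e1 (Submodule.Quotient.mk (b i))))
    exact fun x => LinearMap.congr_fun this x
  have hπt : ∀ y, π.reduceModIdeal I (t y) = y := fun y => LinearMap.congr_fun ht y
  have he1 : ∀ y, e1 y = t (π.reduceModIdeal I y) := fun y => rfl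
  refine ⟨φ, fun x => ?_, fun x => ?_, fun k hk => ?_⟩
  · rw [pow_one, ← Submodule.Quotient.mk_eq_zero, LinearMap.sub_apply, Module.End.mul_apply,
      Submodule.Quotient.mk_sub, hφ, hφ, sub_eq_zero, he1, he1, hπt]
  · rw [← Submodule.Quotient.mk_eq_zero, Submodule.Quotient.mk_sub, sub_eq_zero]
    have e : (Submodule.Quotient.mk (π (φ x)) : M ⧸ (I • ⊤ : Submodule R M)) =
        π.reduceModIdeal I (Submodule.Quotient.mk (φ x)) := rfl
    rw [e, hφ, he1, hπt]
    rfl
  · rw [← Submodule.Quotient.mk_eq_zero, hφ, he1, LinearMap.reduceModIdeal_apply, hk,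
      Submodule.Quotient.mk_zero, map_zero]

theorem exists_section_free [Module.Free R F] [Module.Flat R M] (π : F →ₗ[R] M)
    (hπ : Surjective π) [Module.Projective (R ⧸ I) (M ⧸ (I • ⊤ : Submodule R M))] :
    ∃ s : AdicCompletion I M →ₗ[AdicCompletion I R] AdicCompletion I F,
      AdicCompletion.map I π ∘ₗ s = LinearMap.id := by
  obtain ⟨φ, h0, h2, h3⟩ := exists_phi I π hπ
  exact ⟨sHat hπ φ h0 h2 h3, map_comp_sHat hπ φ h0 h2 h3⟩

/-- **The completion of a surjection onto a flat module with projective reduction splits.** -/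
theorem exists_section {P : Type u} [AddCommGroup P] [Module R P] [Module.Flat R M]
    [Module.Projective (R ⧸ I) (M ⧸ (I • ⊤ : Submodule R M))] (g : P →ₗ[R] M)
    (hg : Surjective g) :
    ∃ s : AdicCompletion I M →ₗ[AdicCompletion I R] AdicCompletion I P,
      AdicCompletion.map I g ∘ₗ s = LinearMap.id := by
  let π : (M →₀ R) →ₗ[R] M := Finsupp.linearCombination R id
  have hπ : Surjective π := Finsupp.linearCombination_id_surjective R M
  obtain ⟨s, hs⟩ := exists_section_free I π hπ
  let h : (M →₀ R) →ₗ[R] P := Finsupp.linearCombination R (fun m => Classical.choose (hg m))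
  have hgh : g ∘ₗ h = π := by
    apply Finsupp.lhom_ext'
    intro m
    ext
    simp [h, π, Classical.choose_spec (hg m)]
  refine ⟨AdicCompletion.map I h ∘ₗ s, ?_⟩
  rw [← LinearMap.comp_assoc, AdicCompletion.map_comp, hgh, hs]

variable {K P : Type u} [AddCommGroup K] [Module R K] [AddCommGroup P] [Module R P]
  [Module.Flat R M] (f : K →ₗ[R] P) (g : P →ₗ[R] M)

include g in
theorem mem_of_map_mem (hf : Injective f) (hg : Surjective g) (hfg : Exact f g) (n : ℕ) (k : K)
    (hk : f k ∈ (I ^ n • ⊤ : Submodule R P)) : k ∈ (I ^ n • ⊤ : Submodule R K) := by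
  have h1 : f k ∈ LinearMap.ker g ⊓ (I ^ n • ⊤ : Submodule R P) :=
    ⟨(hfg (f k)).mpr ⟨k, rfl⟩, hk⟩
  rw [LinearMap.ker_inf_smul_top_eq_smul_of_flat (I ^ n) g hg, hfg.linearMap_ker_eq,
    LinearMap.range_eq_map, ← Submodule.map_smul''] at h1
  obtain ⟨k', hk', e⟩ := h1
  rwa [← hf e]

theorem injective_map (hf : Injective f) (hg : Surjective g) (hfg : Exact f g) :
    Injective (AdicCompletion.map I f) := by
  rw [injective_iff_map_eq_zero]
  intro x hx
  apply AdicCompletion.ext
  intro n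
  obtain ⟨k, hk⟩ := Submodule.Quotient.mk_surjective _ (x.val n)
  have h1 : (AdicCompletion.map I f x).val n = 0 := by rw [hx]; rfl
  rw [AdicCompletion.map_val_apply, ← hk, LinearMap.reduceModIdeal_apply,
    Submodule.Quotient.mk_eq_zero] at h1
  rw [← hk]
  exact (Submodule.Quotient.mk_eq_zero _).mpr (mem_of_map_mem I f g hf hg hfg n k h1)

theorem exact_map (hf : Injective f) (hg : Surjective g) (hfg : Exact f g) :
    Exact (AdicCompletion.map I f) (AdicCompletion.map I g) := by
  intro y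
  constructor
  · intro hy
    have hex : ∀ n : ℕ, ∃ k : K, (Submodule.Quotient.mk (f k) : P ⧸ (I ^ n • ⊤ : Submodule R P)) =
        y.val n := by
      intro n
      obtain ⟨p, hp⟩ := Submodule.Quotient.mk_surjective _ (y.val n)
      have h1 : (AdicCompletion.map I g y).val n = 0 := by rw [hy]; rfl
      rw [AdicCompletion.map_val_apply, ← hp, LinearMap.reduceModIdeal_apply,
        Submodule.Quotient.mk_eq_zero] at h1
      have hmap : (I ^ n • ⊤ : Submodule R M) = Submodule.map g (I ^ n • ⊤) := by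
        rw [Submodule.map_smul'', Submodule.map_top, LinearMap.range_eq_top.mpr hg]
      rw [hmap] at h1
      obtain ⟨p0, hp0, e⟩ := h1
      have h2 : g (p - p0) = 0 := by rw [map_sub, e, sub_self]
      obtain ⟨k, hk⟩ := (hfg _).mp h2
      refine ⟨k, ?_⟩
      rw [hk, ← hp, Submodule.Quotient.eq]
      have : p - p0 - p = -p0 := by abel
      rw [this]
      exact Submodule.neg_mem _ hp0
    choose kk hkk using hex
    have hcompat : ∀ {m n : ℕ} (hmn : m ≤ n),
        AdicCompletion.transitionMap I K hmn (Submodule.Quotient.mk (kk n)) =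
          Submodule.Quotient.mk (kk m) := by
      intro m n hmn
      change Submodule.factor _ (Submodule.Quotient.mk (kk n)) = _
      refine (Submodule.factor_mk (Submodule.pow_smul_top_le I K hmn) (kk n)).trans ?_
      change Submodule.Quotient.mk (kk n) = Submodule.Quotient.mk (kk m)
      rw [Submodule.Quotient.eq]
      apply mem_of_map_mem I f g hf hg hfg
      rw [map_sub, ← Submodule.Quotient.eq]
      have h3 := AdicCompletion.transitionMap_comp_eval_apply I P hmn y
      rw [← hkk n, ← hkk m] at h3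
      exact h3
    let x : AdicCompletion I K := ⟨fun n => Submodule.Quotient.mk (kk n), hcompat⟩
    refine ⟨x, ?_⟩
    apply AdicCompletion.ext
    intro n
    rw [AdicCompletion.map_val_apply]
    exact hkk n
  · rintro ⟨x, rfl⟩
    rw [AdicCompletion.map_comp_apply, hfg.linearMap_comp_eq_zero, AdicCompletion.map_zero]
    rfl

end final

end Groth.Agent.H1.ComplSplit
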