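import Mathlib

/-! Helper1: conormal module `I/I²` and numbers of generators. -/

set_option autoImplicit false

universe u

namespace Groth.Agent.H1.Conormal

/-- The cotangent module `I/I²` is generated over `R/I` by the images of generators of `I`. -/
theorem spanFinrank_cotangent_le {R : Type u} [CommRing R] (I : Ideal R) (rs : List R)
    (h : Ideal.ofList rs = I) :
    (⊤ : Submodule (R ⧸ I) I.Cotangent).spanFinrank ≤ rs.length := by
  classical
  let S : Set I := I.subtype ⁻¹' {r | r ∈ rs}
  have hSfin : S.Finite := Set.Finite.preimage (Function.Injective.injOn I.injective_subtype)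
    (List.finite_toSet rs)
  have hS : Submodule.span R S = ⊤ := by
    apply Submodule.map_injective_of_injective I.injective_subtype
    rw [Submodule.map_span, Submodule.map_top, Submodule.range_subtype,
      Set.image_preimage_eq_inter_range]
    have : {r | r ∈ rs} ∩ Set.range I.subtype = {r | r ∈ rs} := by
      apply Set.inter_eq_left.mpr
      intro r hr
      have hrI : r ∈ I := by rw [← h]; exact Ideal.subset_span hr
      exact ⟨⟨r, hrI⟩, rfl⟩
    rw [this]
    exact h
  have htop : (⊤ : Submodule (R ⧸ I) I.Cotangent) =
      Submodule.span (R ⧸ I) (I.toCotangent '' S) := by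
    symm
    rw [eq_top_iff]
    intro c _
    obtain ⟨y, rfl⟩ := I.toCotangent_surjective c
    have hy : y ∈ Submodule.span R S := by rw [hS]; trivial
    have h2 : I.toCotangent y ∈ Submodule.span R (I.toCotangent '' S) := by
      rw [← Submodule.map_span]
      exact Submodule.mem_map_of_mem hy
    exact (Submodule.span_le_restrictScalars R (R ⧸ I) _) h2
  rw [htop]
  refine (Submodule.spanFinrank_span_le_ncard_of_finite (hSfin.image _)).trans ?_
  refine (Set.ncard_image_le hSfin).trans ?_
  have h3 : S.ncard ≤ ({r | r ∈ rs} : Set R).ncard := by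
    rw [← Set.ncard_image_of_injective S I.injective_subtype]
    apply Set.ncard_le_ncard _ (List.finite_toSet rs)
    rintro _ ⟨y, hy, rfl⟩
    exact hy
  refine h3.trans ?_
  have : ({r | r ∈ rs} : Set R) = ↑rs.toFinset := by ext; simp
  rw [this, Set.ncard_coe_finset]
  exact List.toFinset_card_le rs

/-- Nakayama: `I` is generated by `μ(I/I²)` elements. -/
theorem exists_list_ofList_eq {R : Type u} [CommRing R] [IsLocalRing R] [IsNoetherianRing R]
    (I : Ideal R) (hI : I ≠ ⊤) :
    ∃ xs : List R, xs.length = (⊤ : Submodule (R ⧸ I) I.Cotangent).spanFinrank ∧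
      Ideal.ofList xs = I := by
  classical
  haveI : Module.Finite R I.Cotangent := Module.Finite.of_surjective _ I.toCotangent_surjective
  haveI : Module.Finite (R ⧸ I) I.Cotangent := Module.Finite.of_restrictScalars_finite R _ _
  obtain ⟨T, hT₁, hT₂⟩ := Submodule.FG.exists_span_finset_card_eq_spanFinrank
    (Module.Finite.fg_top (R := R ⧸ I) (M := I.Cotangent))
  let lift : I.Cotangent → I := Function.surjInv I.toCotangent_surjective
  have hlift : ∀ t, I.toCotangent (lift t) = t := Function.surjInv_eq I.toCotangent_surjective
  let xs : List R := T.toList.map (fun t => (lift t : R))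
  refine ⟨xs, by simp [xs, hT₁], ?_⟩
  have hJI : Ideal.ofList xs ≤ I := by
    unfold Ideal.ofList
    rw [Ideal.span_le]
    intro x hx
    simp only [xs, List.mem_map, Set.mem_setOf_eq] at hx
    obtain ⟨t, -, rfl⟩ := hx
    exact (lift t).2
  apply le_antisymm hJI
  apply Submodule.le_of_le_smul_of_le_jacobson_bot (I := I) (IsNoetherian.noetherian I)
  · rw [IsLocalRing.jacobson_eq_maximalIdeal ⊥ bot_ne_top]
    exact IsLocalRing.le_maximalIdeal hI
  · intro y hy
    have h1 : I.toCotangent ⟨y, hy⟩ ∈ Submodule.span (R ⧸ I) (T : Set I.Cotangent) := by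
      rw [hT₂]; trivial
    rw [← Submodule.restrictScalars_mem R, Submodule.restrictScalars_span R (R ⧸ I)
      Ideal.Quotient.mk_surjective] at h1
    have h2 : (T : Set I.Cotangent) = I.toCotangent '' (lift '' (T : Set I.Cotangent)) := by
      rw [← Set.image_comp]
      have : (I.toCotangent ∘ lift) = id := funext hlift
      rw [this, Set.image_id]
    rw [h2, ← Submodule.map_span] at h1
    obtain ⟨z, hz, hzy⟩ := h1
    have h3 : ((z : R) - y) ∈ I ^ 2 := by
      have := (Ideal.toCotangent_eq (I := I) (x := z) (y := ⟨y, hy⟩)).mp hzy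
      exact this
    have h4 : (z : R) ∈ Ideal.ofList xs := by
      have : Submodule.map I.subtype (Submodule.span R (lift '' (T : Set I.Cotangent))) ≤
          Ideal.ofList xs := by
        rw [Submodule.map_span, Submodule.span_le]
        rintro _ ⟨_, ⟨t, ht, rfl⟩, rfl⟩
        apply Ideal.subset_span
        simp only [xs, List.mem_map, Set.mem_setOf_eq]
        exact ⟨t, by simpa using ht, rfl⟩
      exact this (Submodule.mem_map_of_mem hz)
    have h5 : y = (z : R) - ((z : R) - y) := by ring
    rw [h5]
    refine Submodule.sub_mem _ (Submodule.mem_sup_left h4) (Submodule.mem_sup_right ?_)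
    rw [smul_eq_mul, ← pow_two]
    exact h3

end Groth.Agent.H1.Conormal
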