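import Mathlib
import Groth.Agent.Lib.Helper1.ConsFibP1
import Groth.Agent.Lib.Helper1.ConsFibF
import Groth.Agent.Lib.Helper1.FpqcDescent
import Groth.Agent.Lib.Helper3.ConsP.QFin
import Groth.Agent.Lib.Helper2.UnrLoc6

/-!
# The locus where the fibre maps are proper / finite / closed immersions — helper1
-/

set_option autoImplicit false
set_option linter.style.haveILetI false

universe u

open CategoryTheory CategoryTheory.Limits AlgebraicGeometry Topology TopologicalSpace

namespace Groth.Agent.H1.ConsFib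

open Groth.Agent.H3.ConsP H5.Cons Groth.Agent.LD.Chow

/-- there is a locally constructible subset of `S` describing over which points of `S` the
morphism `f` becomes proper. -/
def HasProperLocus {X Y S : Scheme.{u}} (f : X ⟶ Y) (g : Y ⟶ S) : Prop :=
  ∃ E : Set S, IsLocallyConstructible E ∧ ∀ (s : S) (Y₀ : Scheme.{u}) (j : Y₀ ⟶ Y),
    IsPreimmersion j → Set.range j = g ⁻¹' {s} → (s ∈ E ↔ BCProper f j)

theorem hasProperLocus_of_isIntegral {X Y S : Scheme.{u}} [IsIntegral X] [IsAffine Y]
    [IsNoetherian Y] (f : X ⟶ Y) [IsSeparated f] [LocallyOfFiniteType f] [QuasiCompact f]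
    (g : Y ⟶ S) [LocallyOfFinitePresentation g] [QuasiCompact g] [QuasiSeparated g] :
    HasProperLocus f g := by
  let A : Type u := Γ(Y, ⊤)
  haveI : IsNoetherianRing A :=
    IsLocallyNoetherian.component_noetherian ⟨⊤, isAffineOpen_top Y⟩
  let e : Y ≅ Spec (CommRingCat.of A) := Y.isoSpec
  obtain ⟨N, Z', π, q, hcomm, hπ, hπs, hq⟩ := chow_quasiProjective A (f ≫ e.hom)
  haveI := hπ
  haveI := hq
  haveI : IsProper (pStr N A) := Groth.Agent.H5.AG.isProper_toSpec N A
  set p : Proj (CohB1.polyGrading N A) ⟶ Y := pStr N A ≫ e.inv with hp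
  haveI : IsProper p := by rw [hp]; infer_instance
  have hcomm' : π ≫ f = q ≫ p := by
    rw [hp, ← Category.assoc, ← hcomm, Category.assoc, Category.assoc, e.hom_inv_id,
      Category.comp_id]
  haveI : LocallyOfFinitePresentation p := Groth.Agent.H1.EtNhd.lfp_of_lft_of_noetherian p
  haveI : IsLocallyNoetherian (Proj (CohB1.polyGrading N A)) :=
    LocallyOfFiniteType.isLocallyNoetherian p
  haveI : CompactSpace ↥(Proj (CohB1.polyGrading N A)) :=
    QuasiCompact.compactSpace_of_compactSpace p
  haveI : IsNoetherian (Proj (CohB1.polyGrading N A)) := {}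
  have hT : IsLocallyConstructible (Set.range q) :=
    (isConstructible_of_isLocallyClosed q.isLocallyClosed_range).isLocallyConstructible
  refine ⟨{s | IsClosed (Subtype.val ⁻¹' Set.range q : Set ↥((p ≫ g) ⁻¹' {s}))},
    isLocallyConstructible_closed (p ≫ g) (Set.range q) hT, ?_⟩
  intro s Y₀ j hj hjr
  haveI := hj
  have h1 := bcProper_iff_forall_comp (ι := Unit) (T := fun _ => Z') (fun _ => π) (fun _ => hπ)
    (fun x => ⟨(), hπs.surj x⟩) f j
  have h2 : BCProper f j ↔ BCProper (π ≫ f) j := h1.trans ⟨fun h => h (), fun h _ => h⟩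
  rw [h2, hcomm', bcProper_iff_isClosed q p j, isClosed_preimage_fst_iff p g s j hjr]
  rfl

theorem hasProperLocus_of_isAffine {X Y S : Scheme.{u}} [IsAffine Y] [IsNoetherian Y]
    (f : X ⟶ Y) [IsSeparated f] [LocallyOfFiniteType f] [QuasiCompact f]
    (g : Y ⟶ S) [LocallyOfFinitePresentation g] [QuasiCompact g] [QuasiSeparated g] :
    HasProperLocus f g := by
  haveI : IsLocallyNoetherian X := LocallyOfFiniteType.isLocallyNoetherian f
  haveI : CompactSpace X := QuasiCompact.compactSpace_of_compactSpace f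
  haveI : IsNoetherian X := {}
  haveI : Finite ↥(irreducibleComponents X) :=
    (TopologicalSpace.NoetherianSpace.finite_irreducibleComponents).to_subtype
  have key : ∀ W : ↥(irreducibleComponents X), ∃ (Z : Scheme.{u}) (i : Z ⟶ X),
      IsClosedImmersion i ∧ Set.range i = W.1 ∧ IsIntegral Z :=
    fun W => exists_integral_closedImmersion X W.1
      (isClosed_of_mem_irreducibleComponents W.1 W.2) W.2.1
  choose Z i hi hir hint using key
  have key2 : ∀ W, HasProperLocus (i W ≫ f) g := fun W => by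
    haveI := hi W
    haveI := hint W
    exact hasProperLocus_of_isIntegral (i W ≫ f) g
  choose E hE1 hE2 using key2
  refine ⟨⋂ W, E W, IsLocallyConstructible.iInter hE1, ?_⟩
  intro s Y₀ j hj hjr
  have hsurj : ∀ x : X, ∃ W, x ∈ Set.range (i W) := fun x =>
    ⟨⟨irreducibleComponent x, irreducibleComponent_mem_irreducibleComponents x⟩, by
      rw [hir]; exact mem_irreducibleComponent⟩
  have h1 := bcProper_iff_forall_comp i (fun W => by haveI := hi W; infer_instance) hsurj f j
  rw [Set.mem_iInter, h1]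
  exact forall_congr' fun W => hE2 W s Y₀ j hj hjr

theorem hasProperLocus_of_isSeparated {X Y S : Scheme.{u}} [IsNoetherian Y]
    (f : X ⟶ Y) [IsSeparated f] [LocallyOfFiniteType f] [QuasiCompact f]
    (g : Y ⟶ S) [LocallyOfFinitePresentation g] [QuasiCompact g] [QuasiSeparated g] :
    HasProperLocus f g := by
  let 𝒰 := Y.affineCover.finiteSubcover
  let V : 𝒰.I₀ → Y.Opens := fun i => (𝒰.f i).opensRange
  have h𝒰 : ∀ i, IsAffine (𝒰.X i) := fun i => by dsimp [𝒰]; infer_instance
  have hVaff : ∀ i, IsAffineOpen (V i) := fun i => by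
    haveI := h𝒰 i
    exact isAffineOpen_opensRange (𝒰.f i)
  have hVtop : ⨆ i, V i = ⊤ := 𝒰.iSup_opensRange
  have key : ∀ i, HasProperLocus (f ∣_ V i) ((V i).ι ≫ g) := fun i => by
    haveI : IsAffine (V i).toScheme := hVaff i
    haveI : AlgebraicGeometry.IsNoetherian (V i).toScheme := {}
    exact hasProperLocus_of_isAffine (f ∣_ V i) ((V i).ι ≫ g)
  choose E hE1 hE2 using key
  refine ⟨⋂ i, E i, IsLocallyConstructible.iInter hE1, ?_⟩
  intro s Y₀ j hj hjr
  haveI := hj
  have hV' : ⨆ i, j ⁻¹ᵁ V i = ⊤ := by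
    rw [eq_top_iff]
    intro y _
    have : j y ∈ (⨆ i, V i : Y.Opens) := by rw [hVtop]; trivial
    obtain ⟨i, hi⟩ := Opens.mem_iSup.mp this
    exact Opens.mem_iSup.mpr ⟨i, hi⟩
  rw [Set.mem_iInter, bcProper_iff_forall_restrict f j V hV']
  refine forall_congr' fun i => hE2 i s _ (j ∣_ V i)
    (MorphismProperty.of_isPullback (P := @IsPreimmersion)
      (isPullback_morphismRestrict j (V i)).flip inferInstance) ?_
  rw [range_eq_preimage_range (isPullback_morphismRestrict j (V i)), hjr]
  rfl

theorem isSeparated_morphismRestrict_of_closure {X Y : Scheme.{u}} (f : X ⟶ Y) (V : Y.Opens)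
    (hcl : closure (Set.range (pullback.diagonal f)) ∩
      (pullback.fst f f ≫ f) ⁻¹' (V : Set Y) ⊆ Set.range (pullback.diagonal f)) :
    IsSeparated (f ∣_ V) := by
  have sq : IsPullback (f ⁻¹ᵁ V).ι (f ∣_ V) f V.ι := (isPullback_morphismRestrict f V).flip
  have H2 := isPullback_pullbackMap_base sq
  have H5' := isPullback_diagonal_base sq
  set m := pullback.map (f ∣_ V) (f ∣_ V) f f (f ⁻¹ᵁ V).ι (f ⁻¹ᵁ V).ι V.ι sq.w.symm sq.w.symm
    with hm
  have hrange : Set.range m = (pullback.fst f f ≫ f) ⁻¹' (V : Set Y) := by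
    rw [range_eq_preimage_range H2, Scheme.Opens.range_ι]
  have hdiag : Set.range (pullback.diagonal (f ∣_ V)) =
      m ⁻¹' Set.range (pullback.diagonal f) :=
    range_eq_preimage_range H5'.flip
  have hcl' : m ⁻¹' Set.range (pullback.diagonal f) =
      m ⁻¹' closure (Set.range (pullback.diagonal f)) := by
    ext y
    constructor
    · intro hy
      exact subset_closure hy
    · intro hy
      exact hcl ⟨hy, hrange ▸ Set.mem_range_self y⟩
  refine ⟨IsClosedImmersion.of_isPreimmersion _ ?_⟩
  rw [hdiag, hcl']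
  exact isClosed_closure.preimage m.continuous

theorem exists_open_isSeparated {X Y S : Scheme.{u}} (f : X ⟶ Y) (g : Y ⟶ S) [IsIntegral S]
    [IsNoetherian S] [LocallyOfFiniteType g] [QuasiCompact g] [LocallyOfFiniteType (f ≫ g)]
    [QuasiCompact (f ≫ g)] (V : Set S) (hV : IsOpen V) (hVne : V.Nonempty)
    (hsep : ∀ s ∈ V, IsSeparated (fibMap f g s)) :
    ∃ U : S.Opens, (U : Set S).Nonempty ∧ (U : Set S) ⊆ V ∧ IsSeparated (f ∣_ (g ⁻¹ᵁ U)) := by
  haveI : QuasiSeparated g := quasiSeparated_of_noeth g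
  haveI : LocallyOfFiniteType f := locallyOfFiniteType_of_comp f g
  haveI : QuasiCompact f := QuasiCompact.of_comp f g
  haveI : LocallyOfFiniteType ((pullback.fst f f ≫ f) ≫ g) := by
    rw [Category.assoc]; infer_instance
  haveI : QuasiCompact ((pullback.fst f f ≫ f) ≫ g) := by
    rw [Category.assoc]; infer_instance
  set h := (pullback.fst f f ≫ f) ≫ g with hh
  haveI : IsLocallyNoetherian (pullback f f) := LocallyOfFiniteType.isLocallyNoetherian h
  haveI : CompactSpace ↥(pullback f f) := QuasiCompact.compactSpace_of_compactSpace h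
  haveI : IsNoetherian (pullback f f) := {}
  have hZ : IsConstructible (Set.range (pullback.diagonal f)) :=
    isConstructible_of_isLocallyClosed (pullback.diagonal f).isLocallyClosed_range
  obtain ⟨U₂, hU₂, hηU₂, hPG⟩ := PG_of_isConstructible h _ hZ
  have hηV : genericPoint S ∈ V := by
    obtain ⟨v, hv⟩ := hVne
    exact (genericPoint_specializes v).mem_open hV hv
  refine ⟨⟨V ∩ U₂, hV.inter hU₂⟩, ⟨genericPoint S, hηV, hηU₂⟩, Set.inter_subset_left, ?_⟩
  apply isSeparated_morphismRestrict_of_closure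
  rintro x ⟨hx, hxU⟩
  have hsV : h x ∈ V := hxU.1
  have hsU₂ : h x ∈ U₂ := hxU.2
  have h1 : x ∈ closure (Set.range (pullback.diagonal f) ∩ h ⁻¹' {h x}) :=
    hPG (h x) hsU₂ ⟨hx, rfl⟩
  have h2 := (fibMap_isSeparated_iff f g (h x)).mp (hsep (h x) hsV)
  have h3 := (mem_ESet_closed_iff h (Set.range (pullback.diagonal f))
    (Set.range (pullback.diagonal f)) (h x)).mp h2
  exact h3 ⟨h1, rfl⟩

theorem dichotomy_isProper {X Y S : Scheme.{u}} (f : X ⟶ Y) (g : Y ⟶ S) [IsIntegral S]
    [IsNoetherian S] [LocallyOfFiniteType g] [QuasiCompact g] [LocallyOfFiniteType (f ≫ g)]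
    [QuasiCompact (f ≫ g)] :
    (interior (ConsProp.locusMor (fun _ _ _ f _ => IsProper f) f g)).Nonempty ∨
      (interior (ConsProp.locusMor (fun _ _ _ f _ => IsProper f) f g)ᶜ).Nonempty := by
  change (interior {s : S | IsProper (fibMap f g s)}).Nonempty ∨
    (interior {s : S | IsProper (fibMap f g s)}ᶜ).Nonempty
  haveI : LocallyOfFinitePresentation g := Groth.Agent.H1.EtNhd.lfp_of_lft_of_noetherian g
  haveI : LocallyOfFinitePresentation (f ≫ g) :=
    Groth.Agent.H1.EtNhd.lfp_of_lft_of_noetherian (f ≫ g)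
  haveI : QuasiSeparated g := quasiSeparated_of_noeth g
  haveI : QuasiSeparated (f ≫ g) := quasiSeparated_of_noeth (f ≫ g)
  have hsepc : IsConstructible {s : S | IsSeparated (fibMap f g s)} :=
    (main3424 f g).isConstructible
  rcases Groth.Agent.H8.CNoeth.dichotomy (Y := Set.univ) (IrreducibleSpace.isIrreducible_univ S)
    hsepc with ⟨V, hV, hVne, hVsub⟩ | ⟨V, hV, hVne, hVsub⟩
  · have hVne' : V.Nonempty := hVne.mono Set.inter_subset_left
    obtain ⟨U, hUne, hUV, hsepU⟩ := exists_open_isSeparated f g V hV hVne'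
      (fun s hs => hVsub ⟨hs, Set.mem_univ _⟩)
    haveI : IsLocallyNoetherian Y := LocallyOfFiniteType.isLocallyNoetherian g
    haveI : CompactSpace Y := QuasiCompact.compactSpace_of_compactSpace g
    haveI : IsNoetherian Y := {}
    haveI : LocallyOfFiniteType f := locallyOfFiniteType_of_comp f g
    haveI : QuasiCompact f := QuasiCompact.of_comp f g
    haveI : CompactSpace ↥(g ⁻¹ᵁ U).toScheme := by
      change CompactSpace ((g ⁻¹ᵁ U : Y.Opens) : Set Y)
      infer_instance
    haveI : AlgebraicGeometry.IsNoetherian (g ⁻¹ᵁ U).toScheme := {}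
    haveI := hsepU
    obtain ⟨E', hE'c, hE'⟩ := hasProperLocus_of_isSeparated (f ∣_ (g ⁻¹ᵁ U)) ((g ⁻¹ᵁ U).ι ≫ g)
    have hEE' : ∀ s ∈ (U : Set S), IsProper (fibMap f g s) ↔ s ∈ E' := by
      intro s hs
      have hj : Set.range (pullback.fst g (S.fromSpecResidueField s)) = g ⁻¹' {s} :=
        range_fst_fromSpecResidueField g s
      haveI : IsPreimmersion (pullback.fst g (S.fromSpecResidueField s)) :=
        inferInstanceAs (IsPreimmersion (g.fiberι s))
      have hcover : ⨆ _ : Unit, (pullback.fst g (S.fromSpecResidueField s)) ⁻¹ᵁ (g ⁻¹ᵁ U) = ⊤ := by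
        rw [eq_top_iff]
        intro y _
        refine Opens.mem_iSup.mpr ⟨(), ?_⟩
        show g (pullback.fst g (S.fromSpecResidueField s) y) ∈ U
        have hy : pullback.fst g (S.fromSpecResidueField s) y ∈ g ⁻¹' {s} :=
          hj ▸ Set.mem_range_self y
        rw [show g (pullback.fst g (S.fromSpecResidueField s) y) = s from hy]
        exact hs
      have h1 := bcProper_iff_of_isPullback (isPullback_fibMap f g s)
      have h2 := bcProper_iff_forall_restrict f (pullback.fst g (S.fromSpecResidueField s))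
        (fun _ : Unit => g ⁻¹ᵁ U) hcover
      have hpre : IsPreimmersion ((pullback.fst g (S.fromSpecResidueField s)) ∣_ (g ⁻¹ᵁ U)) :=
        MorphismProperty.of_isPullback (P := @IsPreimmersion)
          (isPullback_morphismRestrict (pullback.fst g (S.fromSpecResidueField s))
            (g ⁻¹ᵁ U)).flip inferInstance
      have hrange : Set.range ((pullback.fst g (S.fromSpecResidueField s)) ∣_ (g ⁻¹ᵁ U)) =
          ((g ⁻¹ᵁ U).ι ≫ g) ⁻¹' {s} := by
        rw [range_eq_preimage_range (isPullback_morphismRestrict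
          (pullback.fst g (S.fromSpecResidueField s)) (g ⁻¹ᵁ U)), hj]
        rfl
      have h3 := hE' s _ ((pullback.fst g (S.fromSpecResidueField s)) ∣_ (g ⁻¹ᵁ U)) hpre hrange
      exact h1.symm.trans (h2.trans ⟨fun h => h3.mpr (h ()), fun h _ => h3.mp h⟩)
    have hE'cons : IsConstructible E' := hE'c.isConstructible
    rcases Groth.Agent.H8.CNoeth.dichotomy (Y := Set.univ)
      (IrreducibleSpace.isIrreducible_univ S) hE'cons with
      ⟨V', hV', hV'ne, hV'sub⟩ | ⟨V', hV', hV'ne, hV'sub⟩
    · left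
      have hV'ne' : V'.Nonempty := hV'ne.mono Set.inter_subset_left
      obtain ⟨s₀, hs₀U, hs₀V⟩ := nonempty_preirreducible_inter U.isOpen hV' hUne hV'ne'
      refine ⟨s₀, interior_maximal ?_ (U.isOpen.inter hV') ⟨hs₀U, hs₀V⟩⟩
      rintro s ⟨hsU, hsV⟩
      exact (hEE' s hsU).mpr (hV'sub ⟨hsV, Set.mem_univ _⟩)
    · right
      have hV'ne' : V'.Nonempty := hV'ne.mono Set.inter_subset_left
      obtain ⟨s₀, hs₀U, hs₀V⟩ := nonempty_preirreducible_inter U.isOpen hV' hUne hV'ne'
      refine ⟨s₀, interior_maximal ?_ (U.isOpen.inter hV') ⟨hs₀U, hs₀V⟩⟩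
      rintro s ⟨hsU, hsV⟩ hs
      exact hV'sub ⟨hsV, Set.mem_univ _⟩ ((hEE' s hsU).mp hs)
  · right
    have hVne' : V.Nonempty := hVne.mono Set.inter_subset_left
    obtain ⟨s₀, hs₀⟩ := hVne'
    refine ⟨s₀, interior_maximal ?_ hV hs₀⟩
    rintro s hsV hs
    haveI : IsProper (fibMap f g s) := hs
    exact hVsub ⟨hsV, Set.mem_univ _⟩ (inferInstance : IsSeparated (fibMap f g s))

/-- properness is a constructible property of morphisms of algebraic schemes. -/
theorem isConsMor_isProper : ConsProp.IsConsMor.{u} (fun _ _ _ f _ => IsProper f) := by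
  haveI := Groth.Agent.H1.descendsAlong_isProper.{u}
  have hfs : ConsProp.IsFieldStableMor.{u} (fun _ _ _ f _ => IsProper f) :=
    isFieldStableMor_of_descendsAlong (Q := @IsProper)
  refine ⟨hfs, ?_⟩
  intro X Y S f g _ _ _ _ _ _
  exact dichotomy_isProper f g

section Main

variable {X Y S : Scheme.{u}} (f : X ⟶ Y) (g : Y ⟶ S)
  [LocallyOfFinitePresentation g] [QuasiCompact g] [QuasiSeparated g]
  [LocallyOfFinitePresentation (f ≫ g)] [QuasiCompact (f ≫ g)] [QuasiSeparated (f ≫ g)]

theorem main2577 : IsLocallyConstructible {s : S | IsProper (fibMap f g s)} :=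
  isLocallyConstructible_locusMor_of_fp f g isConsMor_isProper

theorem main2576 : IsLocallyConstructible {s : S | IsClosedImmersion (fibMap f g s)} := by
  have h1 := main2577 f g
  have h2 := Groth.Agent.H2.UnrLoc.main3426 f g
  convert h1.inter h2 using 1
  ext s
  exact IsClosedImmersion.iff_isProper_and_mono (fibMap f g s)

theorem main2585 : IsLocallyConstructible {s : S | IsFinite (fibMap f g s)} := by
  haveI : LocallyOfFinitePresentation f :=
    Groth.Agent.H5.EtSrc.locallyOfFinitePresentation_of_comp f g inferInstance inferInstance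
  haveI : QuasiCompact f := QuasiCompact.of_comp f g
  have h1 := main2577 f g
  have h2 : IsLocallyConstructible {s : S | LocallyQuasiFinite (fibMap f g s)} := by
    have := isLocallyConstructible_locusMor_of_fp f g isConsMor_quasiFinite
    convert this using 1
    ext s
    haveI : LocallyOfFiniteType (fibMap f g s) :=
      MorphismProperty.of_isPullback (P := @LocallyOfFiniteType) (isPullback_fibMap f g s)
        inferInstance
    haveI : QuasiCompact (fibMap f g s) :=
      MorphismProperty.of_isPullback (P := @QuasiCompact) (isPullback_fibMap f g s)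
        inferInstance
    show LocallyQuasiFinite (fibMap f g s) ↔ (LocallyOfFiniteType (fibMap f g s) ∧
      QuasiCompact (fibMap f g s) ∧ LocallyQuasiFinite (fibMap f g s))
    exact ⟨fun h => ⟨inferInstance, inferInstance, h⟩, fun h => h.2.2⟩
  convert h1.inter h2 using 1
  ext s
  exact IsFinite.iff_isProper_and_locallyQuasiFinite (fibMap f g s)

end Main

end Groth.Agent.H1.ConsFib
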