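import Mathlib
import Groth.Agent.Lib.Helper1.ConsFibP2
import Groth.Agent.Lib.Helper1.PushO4

/-!
# The locus where the fibre maps are immersions — helper1
-/

set_option autoImplicit false
set_option linter.style.haveILetI false

universe u

open CategoryTheory CategoryTheory.Limits AlgebraicGeometry Topology TopologicalSpace

namespace Groth.Agent.H1.ConsFib

open Groth.Agent.H3.ConsP H5.Cons

/-- the coborder of the range of a morphism with locally closed range, as an open. -/
def cobOpen {X Y : Scheme.{u}} (f : X ⟶ Y) (hlc : IsLocallyClosed (Set.range f)) : Y.Opens :=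
  ⟨coborder (Set.range f), hlc.isOpen_coborder⟩

theorem isProper_restrict_congr {X Y : Scheme.{u}} (f : X ⟶ Y) {U V : Y.Opens} (h : U = V) :
    IsProper (f ∣_ U) ↔ IsProper (f ∣_ V) := by
  subst h; rfl

theorem isImmersion_of_isProper_restrict {X Y : Scheme.{u}} (f : X ⟶ Y) [Mono f] (V : Y.Opens)
    (hsurj : ∀ x : X, f x ∈ V) [IsProper (f ∣_ V)] : IsImmersion f := by
  haveI : IsIso (f ⁻¹ᵁ V).ι := by
    rw [isIso_iff_isOpenImmersion_and_surjective]
    exact ⟨inferInstance, ⟨fun x' => ⟨⟨x', hsurj x'⟩, rfl⟩⟩⟩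
  haveI : Mono (f ∣_ V ≫ V.ι) := by
    rw [morphismRestrict_ι]
    infer_instance
  haveI : Mono (f ∣_ V) := mono_of_mono (f ∣_ V) V.ι
  haveI : IsClosedImmersion (f ∣_ V) :=
    (IsClosedImmersion.iff_isProper_and_mono (f ∣_ V)).mpr ⟨inferInstance, inferInstance⟩
  have e : f = inv (f ⁻¹ᵁ V).ι ≫ f ∣_ V ≫ V.ι := by
    rw [morphismRestrict_ι, IsIso.inv_hom_id_assoc]
  rw [e]
  infer_instance

theorem isProper_restrict_coborderRange {X Y : Scheme.{u}} (f : X ⟶ Y) [IsImmersion f] :
    IsProper (f ∣_ f.coborderRange) := by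
  have hsurj : ∀ x' : X, f x' ∈ f.coborderRange := fun x' =>
    subset_coborder (s := Set.range f) ⟨x', rfl⟩
  haveI : IsIso (f ⁻¹ᵁ f.coborderRange).ι := by
    rw [isIso_iff_isOpenImmersion_and_surjective]
    exact ⟨inferInstance, ⟨fun x' => ⟨⟨x', hsurj x'⟩, rfl⟩⟩⟩
  have e : f ∣_ f.coborderRange = (f ⁻¹ᵁ f.coborderRange).ι ≫ f.liftCoborder := by
    rw [← cancel_mono f.coborderRange.ι, morphismRestrict_ι, Category.assoc, f.liftCoborder_ι]
  rw [e]
  infer_instance

/-- **characterisation of immersions**: a monomorphism with locally closed range which is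
proper over the coborder of its range. -/
theorem isImmersion_iff_mono_proper {X Y : Scheme.{u}} (f : X ⟶ Y) :
    IsImmersion f ↔ Mono f ∧ ∃ hlc : IsLocallyClosed (Set.range f),
      IsProper (f ∣_ cobOpen f hlc) := by
  constructor
  · intro hf
    haveI := hf
    exact ⟨inferInstance, f.isLocallyClosed_range, isProper_restrict_coborderRange f⟩
  · rintro ⟨hm, hlc, hP⟩
    haveI := hm
    haveI := hP
    exact isImmersion_of_isProper_restrict f (cobOpen f hlc)
      (fun x => subset_coborder (s := Set.range f) ⟨x, rfl⟩)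

theorem bcProper_of_comp_fpqc {X Y Y₀ Y₁ : Scheme.{u}} (f : X ⟶ Y) (j : Y₀ ⟶ Y) (k : Y₁ ⟶ Y₀)
    (hk : (@Surjective ⊓ @Flat ⊓ @QuasiCompact : MorphismProperty Scheme.{u}) k)
    (h : BCProper f (k ≫ j)) : BCProper f j := by
  haveI := Groth.Agent.H1.descendsAlong_isProper.{u}
  have H : IsPullback (pullback.fst f j) (pullback.snd f j) f j := IsPullback.of_hasPullback f j
  have H' : IsPullback (pullback.fst (pullback.snd f j) k) (pullback.snd (pullback.snd f j) k)
      (pullback.snd f j) k := IsPullback.of_hasPullback _ _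
  have big := H'.paste_horiz H
  have h1 : IsProper (pullback.snd (pullback.snd f j) k) := (bcProper_iff_of_isPullback big).mp h
  exact MorphismProperty.of_isPullback_of_descendsAlong (P := @IsProper)
    (Q := (@Surjective ⊓ @Flat ⊓ @QuasiCompact)) H'.flip hk h1

theorem bcProper_restrict_iff {X Y Y₀ X₀ : Scheme.{u}} {f : X ⟶ Y} {j : Y₀ ⟶ Y}
    {j' : X₀ ⟶ X} {f₀ : X₀ ⟶ Y₀} (H : IsPullback j' f₀ f j) (V : Y.Opens) :
    BCProper (f ∣_ V) (j ∣_ V) ↔ IsProper (f₀ ∣_ (j ⁻¹ᵁ V)) := by
  have big := ((isPullback_morphismRestrict f₀ (j ⁻¹ᵁ V)).flip).paste_horiz H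
  have right := (isPullback_morphismRestrict f V).flip
  have e : (j ⁻¹ᵁ V).ι ≫ j = (j ∣_ V) ≫ V.ι := (morphismRestrict_ι j V).symm
  have w : ((f₀ ⁻¹ᵁ (j ⁻¹ᵁ V)).ι ≫ j') ≫ f = (f₀ ∣_ (j ⁻¹ᵁ V) ≫ (j ∣_ V)) ≫ V.ι := by
    rw [big.w, e, Category.assoc]
  have s : IsPullback (right.lift _ _ w ≫ (f ⁻¹ᵁ V).ι) (f₀ ∣_ (j ⁻¹ᵁ V)) f
      ((j ∣_ V) ≫ V.ι) := by
    rw [right.lift_fst, ← e]
    exact big
  have left := IsPullback.of_right s (right.lift_snd _ _ w) right
  exact bcProper_iff_of_isPullback left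

/-- being an immersion is invariant under extension of the base field. -/
theorem isFieldStableMor_isImmersion :
    ConsProp.IsFieldStableMor.{u} (fun _ _ _ f _ => IsImmersion f) := by
  intro X X' Y Y' T T' f g f' g' eX eY h _ _ _ _ _ _ _ _ sqY sqX
  constructor
  · intro hf
    exact MorphismProperty.of_isPullback (P := @IsImmersion) sqX hf
  · intro hf'
    have hh := Groth.Agent.H3.ConsUI.fpqc_of_subsingleton h
    have heY : (@Surjective ⊓ @Flat ⊓ @QuasiCompact : MorphismProperty Scheme.{u}) eY :=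
      MorphismProperty.of_isPullback sqY.flip hh
    haveI : UniversallyOpen eY :=
      MorphismProperty.of_isPullback (P := @UniversallyOpen) sqY.flip inferInstance
    have hsurj : Function.Surjective eY := heY.1.1.surj
    have hopen : IsOpenMap eY := eY.isOpenMap
    have hcont : Continuous eY := eY.continuous
    have hrange : Set.range f' = eY ⁻¹' Set.range f := range_eq_preimage_range sqX.flip
    obtain ⟨hm', hlc', hP'⟩ := (isImmersion_iff_mono_proper f').mp hf'
    show IsImmersion f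
    rw [isImmersion_iff_mono_proper]
    have hm : Mono f := by
      haveI := Groth.Agent.H1.descendsAlong_monomorphisms.{u}
      exact MorphismProperty.of_isPullback_of_descendsAlong
        (P := MorphismProperty.monomorphisms Scheme.{u})
        (Q := (@Surjective ⊓ @Flat ⊓ @QuasiCompact)) sqX.flip heY hm'
    have hcob : coborder (Set.range f') = eY ⁻¹' coborder (Set.range f) := by
      rw [hrange, coborder_preimage hopen hcont]
    have hlc : IsLocallyClosed (Set.range f) := by
      rw [isLocallyClosed_iff_isOpen_coborder]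
      rw [isLocallyClosed_iff_isOpen_coborder, hcob] at hlc'
      exact (hopen.isQuotientMap hcont hsurj).isCoinducing.isOpen_preimage.mp hlc'
    refine ⟨hm, hlc, ?_⟩
    have hW : cobOpen f' hlc' = eY ⁻¹ᵁ cobOpen f hlc := by
      ext y
      show y ∈ coborder (Set.range f') ↔ eY y ∈ coborder (Set.range f)
      rw [hcob]; rfl
    have hP'' : IsProper (f' ∣_ (eY ⁻¹ᵁ cobOpen f hlc)) :=
      (isProper_restrict_congr f' hW).mp hP'
    have hk : (@Surjective ⊓ @Flat ⊓ @QuasiCompact : MorphismProperty Scheme.{u})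
        (eY ∣_ cobOpen f hlc) :=
      MorphismProperty.of_isPullback (isPullback_morphismRestrict eY (cobOpen f hlc)).flip heY
    have big := ((isPullback_morphismRestrict f' (eY ⁻¹ᵁ cobOpen f hlc)).flip).paste_horiz sqX
    have h1 : BCProper f ((eY ⁻¹ᵁ cobOpen f hlc).ι ≫ eY) :=
      (bcProper_iff_of_isPullback big).mpr hP''
    have e : (eY ⁻¹ᵁ cobOpen f hlc).ι ≫ eY = (eY ∣_ cobOpen f hlc) ≫ (cobOpen f hlc).ι :=
      (morphismRestrict_ι eY (cobOpen f hlc)).symm
    rw [e] at h1
    have h2 := bcProper_of_comp_fpqc f (cobOpen f hlc).ι (eY ∣_ cobOpen f hlc) hk h1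
    exact (bcProper_iff_of_isPullback (isPullback_morphismRestrict f (cobOpen f hlc)).flip).mp h2

/-! ### topology of the fibres -/

theorem isLocallyClosed_preimage_iff_of_isEmbedding {F P : Type u} [TopologicalSpace F]
    [TopologicalSpace P] {m : F → P} (hm : IsEmbedding m) {A : Set P} (hA : Set.range m = A)
    (R : Set P) :
    IsLocallyClosed (m ⁻¹' R) ↔ IsLocallyClosed (Subtype.val ⁻¹' R : Set ↥A) := by
  subst hA
  exact inv_lc F ↥(Set.range m) hm.toHomeomorph hm.toHomeomorph.continuous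
    hm.toHomeomorph.isOpenMap hm.toHomeomorph.surjective (Subtype.val ⁻¹' R) (Subtype.val ⁻¹' R)

theorem coborder_preimage_of_isEmbedding {F P : Type*} [TopologicalSpace F] [TopologicalSpace P]
    {j : F → P} (hj : IsEmbedding j) {T : Set P} (hT : Set.range j = T) (Z : Set P)
    (ha : closure Z ∩ T ⊆ closure (Z ∩ T))
    (hb : closure (closure Z \ Z) ∩ T ⊆ closure ((closure Z \ Z) ∩ T))
    (hc : IsLocallyClosed (j ⁻¹' Z)) :
    coborder (j ⁻¹' Z) = j ⁻¹' (closure (closure Z \ Z))ᶜ := by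
  subst hT
  have h1 : closure (j ⁻¹' Z) = j ⁻¹' closure Z := by
    rw [hj.isInducing.closure_eq_preimage_closure_image, Set.image_preimage_eq_inter_range]
    ext p
    constructor
    · intro hp
      exact closure_mono Set.inter_subset_left hp
    · intro hp
      exact ha ⟨hp, Set.mem_range_self p⟩
  have h2 : closure (j ⁻¹' Z) \ j ⁻¹' Z = j ⁻¹' (closure Z \ Z) := by
    rw [h1]; rfl
  have h3 : IsClosed (j ⁻¹' (closure Z \ Z)) := by
    rw [← h2]
    have := hc.isOpen_coborder
    rw [coborder] at this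
    exact isOpen_compl_iff.mp this
  have h4 : j ⁻¹' (closure Z \ Z) = j ⁻¹' closure (closure Z \ Z) := by
    apply subset_antisymm
    · exact Set.preimage_mono subset_closure
    · intro p hp
      have hp' : j p ∈ closure ((closure Z \ Z) ∩ Set.range j) :=
        hb ⟨hp, Set.mem_range_self p⟩
      have : p ∈ closure (j ⁻¹' (closure Z \ Z)) := by
        rw [hj.isInducing.closure_eq_preimage_closure_image, Set.image_preimage_eq_inter_range]
        exact hp'
      rwa [h3.closure_eq] at this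
  rw [coborder, h2, h4]
  rfl

/-! ### the generic dichotomy -/

theorem dichotomy_isImmersion {X Y S : Scheme.{u}} (f : X ⟶ Y) (g : Y ⟶ S) [IsIntegral S]
    [IsNoetherian S] [LocallyOfFiniteType g] [QuasiCompact g] [LocallyOfFiniteType (f ≫ g)]
    [QuasiCompact (f ≫ g)] :
    (interior (ConsProp.locusMor (fun _ _ _ f _ => IsImmersion f) f g)).Nonempty ∨
      (interior (ConsProp.locusMor (fun _ _ _ f _ => IsImmersion f) f g)ᶜ).Nonempty := by
  change (interior {s : S | IsImmersion (fibMap f g s)}).Nonempty ∨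
    (interior {s : S | IsImmersion (fibMap f g s)}ᶜ).Nonempty
  haveI : LocallyOfFinitePresentation g := Groth.Agent.H1.EtNhd.lfp_of_lft_of_noetherian g
  haveI : LocallyOfFinitePresentation (f ≫ g) :=
    Groth.Agent.H1.EtNhd.lfp_of_lft_of_noetherian (f ≫ g)
  haveI : QuasiSeparated g := quasiSeparated_of_noeth g
  haveI : QuasiSeparated (f ≫ g) := quasiSeparated_of_noeth (f ≫ g)
  haveI : IsLocallyNoetherian Y := LocallyOfFiniteType.isLocallyNoetherian g
  haveI : CompactSpace Y := QuasiCompact.compactSpace_of_compactSpace g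
  haveI : IsNoetherian Y := {}
  haveI : LocallyOfFinitePresentation f :=
    Groth.Agent.H5.EtSrc.locallyOfFinitePresentation_of_comp f g inferInstance inferInstance
  haveI : LocallyOfFiniteType f := locallyOfFiniteType_of_comp f g
  haveI : QuasiCompact f := QuasiCompact.of_comp f g
  have hirr : IsIrreducible (Set.univ : Set S) := IrreducibleSpace.isIrreducible_univ S
  have hjrange : ∀ s : S, Set.range (pullback.fst g (S.fromSpecResidueField s)) = g ⁻¹' {s} :=
    fun s => range_fst_fromSpecResidueField g s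
  have hjpre : ∀ s : S, IsPreimmersion (pullback.fst g (S.fromSpecResidueField s)) := fun s =>
    inferInstanceAs (IsPreimmersion (g.fiberι s))
  have hfrange : ∀ s : S, Set.range (fibMap f g s) =
      (pullback.fst g (S.fromSpecResidueField s)) ⁻¹' Set.range f := fun s =>
    range_eq_preimage_range (isPullback_fibMap f g s).flip
  -- a failing open gives `right`
  have hright : ∀ (E₀ : Set S), (∀ s, IsImmersion (fibMap f g s) → s ∈ E₀) → ∀ V : Set S,
      IsOpen V → (V ∩ Set.univ).Nonempty → V ∩ Set.univ ⊆ E₀ᶜ →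
      (interior {s : S | IsImmersion (fibMap f g s)}ᶜ).Nonempty := by
    intro E₀ hE₀ V hV hVne hVsub
    obtain ⟨s₀, hs₀, -⟩ := hVne
    refine ⟨s₀, interior_maximal ?_ hV hs₀⟩
    intro s hsV hs
    exact hVsub ⟨hsV, Set.mem_univ _⟩ (hE₀ s hs)
  -- the mono locus
  have hmonoc : IsConstructible {s : S | Mono (fibMap f g s)} :=
    (Groth.Agent.H2.UnrLoc.main3426 f g).isConstructible
  rcases Groth.Agent.H8.CNoeth.dichotomy (Y := Set.univ) hirr hmonoc with
    ⟨V₁, hV₁, hV₁ne, hV₁sub⟩ | ⟨V₁, hV₁, hV₁ne, hV₁sub⟩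
  swap
  · right
    exact hright _ (fun s hs => by
      haveI := hs
      exact (inferInstance : Mono (fibMap f g s))) V₁ hV₁ hV₁ne hV₁sub
  -- the locus of locally closed range
  have hT : IsLocallyConstructible (Set.range f) := by
    rw [← Set.image_univ]
    exact f.isLocallyConstructible_image IsLocallyConstructible.univ
  have hlcc : IsConstructible
      {s : S | IsLocallyClosed (Subtype.val ⁻¹' Set.range f : Set ↥(g ⁻¹' {s}))} :=
    (isLocallyConstructible_locallyClosed g (Set.range f) hT).isConstructible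
  rcases Groth.Agent.H8.CNoeth.dichotomy (Y := Set.univ) hirr hlcc with
    ⟨V₂, hV₂, hV₂ne, hV₂sub⟩ | ⟨V₂, hV₂, hV₂ne, hV₂sub⟩
  swap
  · right
    refine hright _ (fun s hs => ?_) V₂ hV₂ hV₂ne hV₂sub
    haveI := hs
    haveI := hjpre s
    have h1 := (fibMap f g s).isLocallyClosed_range
    rw [hfrange s] at h1
    exact (isLocallyClosed_preimage_iff_of_isEmbedding
      (pullback.fst g (S.fromSpecResidueField s)).isEmbedding (hjrange s) _).mp h1
  have hZc : IsConstructible (Set.range f) := hT.isConstructible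
  have hBc : IsConstructible (closure (Set.range f) \ Set.range f) :=
    (Groth.Agent.H8.CNoeth.isConstructible_of_isClosed isClosed_closure).sdiff hZc
  obtain ⟨U₂, hU₂, hηU₂, hPG₂⟩ := PG_of_isConstructible g _ hZc
  obtain ⟨U₃, hU₃, hηU₃, hPG₃⟩ := PG_of_isConstructible g _ hBc
  have hV₁ne' : V₁.Nonempty := hV₁ne.mono Set.inter_subset_left
  have hV₂ne' : V₂.Nonempty := hV₂ne.mono Set.inter_subset_left
  obtain ⟨U₄, hU₄ne, hU₄V, hsepU⟩ := exists_open_isSeparated f g V₁ hV₁ hV₁ne'
    (fun s hs => by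
      haveI : Mono (fibMap f g s) := hV₁sub ⟨hs, Set.mem_univ _⟩
      infer_instance)
  let 𝒰 : Y.Opens := ⟨(closure (closure (Set.range f) \ Set.range f))ᶜ,
    isClosed_closure.isOpen_compl⟩
  let 𝒰' : Y.Opens := 𝒰 ⊓ g ⁻¹ᵁ U₄
  have h𝒰'le : 𝒰' ≤ g ⁻¹ᵁ U₄ := inf_le_right
  haveI : IsSeparated (f ∣_ 𝒰') :=
    Groth.Agent.H1.PushO.morphismRestrict_of_le (P := @IsSeparated) f h𝒰'le hsepU
  haveI : CompactSpace ↥𝒰'.toScheme := by
    change CompactSpace ((𝒰' : Y.Opens) : Set Y)
    infer_instance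
  haveI : AlgebraicGeometry.IsNoetherian 𝒰'.toScheme := {}
  obtain ⟨E', hE'c, hE'⟩ := hasProperLocus_of_isSeparated (f ∣_ 𝒰') (𝒰'.ι ≫ g)
  have hηmem : ∀ V : Set S, IsOpen V → V.Nonempty → genericPoint S ∈ V := by
    rintro V hV ⟨v, hv⟩
    exact (genericPoint_specializes v).mem_open hV hv
  have hW_open : IsOpen (V₁ ∩ V₂ ∩ U₂ ∩ U₃ ∩ (U₄ : Set S)) :=
    (((hV₁.inter hV₂).inter hU₂).inter hU₃).inter U₄.isOpen
  have hηW : genericPoint S ∈ V₁ ∩ V₂ ∩ U₂ ∩ U₃ ∩ (U₄ : Set S) :=
    ⟨⟨⟨⟨hηmem V₁ hV₁ hV₁ne', hηmem V₂ hV₂ hV₂ne'⟩, hηU₂⟩, hηU₃⟩,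
      hηmem _ U₄.isOpen hU₄ne⟩
  have hEE' : ∀ s ∈ V₁ ∩ V₂ ∩ U₂ ∩ U₃ ∩ (U₄ : Set S),
      IsImmersion (fibMap f g s) ↔ s ∈ E' := by
    rintro s ⟨⟨⟨⟨hs1, hs2⟩, hs3⟩, hs4⟩, hs5⟩
    haveI := hjpre s
    have hmono : Mono (fibMap f g s) := hV₁sub ⟨hs1, Set.mem_univ _⟩
    have hlc0 : IsLocallyClosed ((pullback.fst g (S.fromSpecResidueField s)) ⁻¹' Set.range f) :=
      (isLocallyClosed_preimage_iff_of_isEmbedding
        (pullback.fst g (S.fromSpecResidueField s)).isEmbedding (hjrange s) _).mpr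
        (hV₂sub ⟨hs2, Set.mem_univ _⟩)
    have hlc : IsLocallyClosed (Set.range (fibMap f g s)) := by
      rw [hfrange s]; exact hlc0
    have hopens : ∀ hlc' : IsLocallyClosed (Set.range (fibMap f g s)),
        cobOpen (fibMap f g s) hlc' = (pullback.fst g (S.fromSpecResidueField s)) ⁻¹ᵁ 𝒰' := by
      intro hlc'
      ext p
      have hp : g ((pullback.fst g (S.fromSpecResidueField s)) p) = s := by
        have : (pullback.fst g (S.fromSpecResidueField s)) p ∈ g ⁻¹' {s} :=
          (hjrange s).subset ⟨p, rfl⟩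
        exact this
      have hcobp : p ∈ coborder (Set.range (fibMap f g s)) ↔
          (pullback.fst g (S.fromSpecResidueField s)) p ∈
            (closure (closure (Set.range f) \ Set.range f))ᶜ := by
        rw [hfrange s, coborder_preimage_of_isEmbedding
          (pullback.fst g (S.fromSpecResidueField s)).isEmbedding (hjrange s) (Set.range f)
          (hPG₂ s hs3) (hPG₃ s hs4) hlc0]
        rfl
      constructor
      · intro h
        refine ⟨hcobp.mp h, ?_⟩
        show g ((pullback.fst g (S.fromSpecResidueField s)) p) ∈ U₄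
        rw [hp]; exact hs5
      · intro h
        exact hcobp.mpr h.1
    rw [isImmersion_iff_mono_proper]
    have h1 : (Mono (fibMap f g s) ∧ ∃ hlc' : IsLocallyClosed (Set.range (fibMap f g s)),
        IsProper (fibMap f g s ∣_ cobOpen (fibMap f g s) hlc')) ↔
        IsProper (fibMap f g s ∣_ ((pullback.fst g (S.fromSpecResidueField s)) ⁻¹ᵁ 𝒰')) := by
      constructor
      · rintro ⟨-, hlc', hP⟩
        exact (isProper_restrict_congr _ (hopens hlc')).mp hP
      · intro hP
        exact ⟨hmono, hlc, (isProper_restrict_congr _ (hopens hlc)).mpr hP⟩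
    rw [h1, ← bcProper_restrict_iff (isPullback_fibMap f g s) 𝒰']
    have hpre : IsPreimmersion ((pullback.fst g (S.fromSpecResidueField s)) ∣_ 𝒰') :=
      MorphismProperty.of_isPullback (P := @IsPreimmersion)
        (isPullback_morphismRestrict (pullback.fst g (S.fromSpecResidueField s)) 𝒰').flip
        inferInstance
    have hrange' : Set.range ((pullback.fst g (S.fromSpecResidueField s)) ∣_ 𝒰') =
        (𝒰'.ι ≫ g) ⁻¹' {s} := by
      rw [range_eq_preimage_range (isPullback_morphismRestrict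
        (pullback.fst g (S.fromSpecResidueField s)) 𝒰'), hjrange s]
      rfl
    exact (hE' s _ ((pullback.fst g (S.fromSpecResidueField s)) ∣_ 𝒰') hpre hrange').symm
  have hE'cons : IsConstructible E' := hE'c.isConstructible
  rcases Groth.Agent.H8.CNoeth.dichotomy (Y := Set.univ) hirr hE'cons with
    ⟨V', hV', hV'ne, hV'sub⟩ | ⟨V', hV', hV'ne, hV'sub⟩
  · left
    have hV'ne' : V'.Nonempty := hV'ne.mono Set.inter_subset_left
    obtain ⟨s₀, hs₀W, hs₀V⟩ := nonempty_preirreducible_inter hW_open hV' ⟨_, hηW⟩ hV'ne'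
    refine ⟨s₀, interior_maximal ?_ (hW_open.inter hV') ⟨hs₀W, hs₀V⟩⟩
    rintro s ⟨hsW, hsV⟩
    exact (hEE' s hsW).mpr (hV'sub ⟨hsV, Set.mem_univ _⟩)
  · right
    have hV'ne' : V'.Nonempty := hV'ne.mono Set.inter_subset_left
    obtain ⟨s₀, hs₀W, hs₀V⟩ := nonempty_preirreducible_inter hW_open hV' ⟨_, hηW⟩ hV'ne'
    refine ⟨s₀, interior_maximal ?_ (hW_open.inter hV') ⟨hs₀W, hs₀V⟩⟩
    rintro s ⟨hsW, hsV⟩ hs
    exact hV'sub ⟨hsV, Set.mem_univ _⟩ ((hEE' s hsW).mp hs)

/-- being an immersion is a constructible property of morphisms of algebraic schemes. -/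
theorem isConsMor_isImmersion : ConsProp.IsConsMor.{u} (fun _ _ _ f _ => IsImmersion f) := by
  refine ⟨isFieldStableMor_isImmersion, ?_⟩
  intro X Y S f g _ _ _ _ _ _
  exact dichotomy_isImmersion f g

section Main

variable {X Y S : Scheme.{u}} (f : X ⟶ Y) (g : Y ⟶ S)
  [LocallyOfFinitePresentation g] [QuasiCompact g] [QuasiSeparated g]
  [LocallyOfFinitePresentation (f ≫ g)] [QuasiCompact (f ≫ g)] [QuasiSeparated (f ≫ g)]

theorem main3446 : IsLocallyConstructible {s : S | IsImmersion (fibMap f g s)} :=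
  isLocallyConstructible_locusMor_of_fp f g isConsMor_isImmersion

end Main

end Groth.Agent.H1.ConsFib
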