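import Mathlib
import Groth.Agent.Lib.Helper1.CritFib2

set_option autoImplicit false

universe u

open TensorProduct Function

namespace Groth.Agent.H1.CritFib

section torloc

variable {S S' : Type*} [CommRing S] [CommRing S'] [Algebra S S']
  {M : Type*} [AddCommGroup M] [Module S' M] [Module S M] [IsScalarTower S S' M]
  (V : Submonoid S') {M' : Type*} [AddCommGroup M'] [Module S' M'] [Module S M']
  [IsScalarTower S S' M'] (f : M →ₗ[S'] M') [IsLocalizedModule V f]

include V f in
/-- `Tor₁(S/J, M) = 0` passes to localizations of `M` over a bigger ring. -/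
theorem rTensor_subtype_injective_of_isLocalizedModule (J : Ideal S)
    (hJ : Injective (J.subtype.rTensor M)) : Injective (J.subtype.rTensor M') := by
  have h1 : Injective (J.subtype.lTensor M) := (LinearMap.lTensor_inj_iff_rTensor_inj _ _).mpr hJ
  have h2 : Injective (AlgebraTensorModule.lTensor S' M J.subtype) := h1
  have h3 := IsLocalizedModule.map_injective V (AlgebraTensorModule.rTensor S J f)
    (AlgebraTensorModule.rTensor S S f) _ h2
  rw [IsLocalizedModule.map_lTensor] at h3
  have h4 : Injective (J.subtype.lTensor M') := h3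
  exact (LinearMap.lTensor_inj_iff_rTensor_inj _ _).mp h4

end torloc

section torbase

variable {S A : Type*} [CommRing S] [CommRing A] [Algebra S A] (U : Submonoid S)
  [IsLocalization U A] {N : Type*} [AddCommGroup N] [Module A N] [Module S N]
  [IsScalarTower S A N]

include U in
/-- `Tor₁^S(S/J, N) = 0` implies `Tor₁^A(A/JA, N) = 0` for `A` a localization of `S`. -/
theorem rTensor_subtype_injective_map_of_isLocalization (J : Ideal S)
    (hJ : Injective (J.subtype.rTensor N)) :
    Injective ((J.map (algebraMap S A)).subtype.rTensor N) := by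
  set J' := J.map (algebraMap S A) with hJ'
  let jm : J →ₗ[S] J' :=
    { toFun := fun j => ⟨algebraMap S A j, Ideal.mem_map_of_mem _ j.2⟩
      map_add' := fun x y => by ext; simp
      map_smul' := fun s x => by ext; simp [Algebra.smul_def] }
  let Ψ : J ⊗[S] N →ₗ[S] J' ⊗[A] N :=
    (TensorProduct.mapOfCompatibleSMul A S S J' N) ∘ₗ (TensorProduct.map jm LinearMap.id)
  have hΨ : ∀ (j : J) (n : N), Ψ (j ⊗ₜ n) = (jm j) ⊗ₜ n := fun j n => rfl
  have hsurj : Surjective Ψ := by
    intro x
    induction x with
    | zero => exact ⟨0, map_zero _⟩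
    | add x y hx hy =>
      obtain ⟨a, rfl⟩ := hx
      obtain ⟨b, rfl⟩ := hy
      exact ⟨a + b, map_add _ _ _⟩
    | tmul a n =>
      obtain ⟨⟨j, u⟩, hju⟩ := (IsLocalization.mem_map_algebraMap_iff U A).mp a.2
      obtain ⟨v, hv⟩ := (IsLocalization.map_units A u).exists_left_inv
      refine ⟨j ⊗ₜ (v • n), ?_⟩
      rw [hΨ, ← TensorProduct.smul_tmul]
      congr 1
      ext
      change v * algebraMap S A j = a
      rw [← hju, mul_comm (a : A), ← mul_assoc, hv, one_mul]
  rw [injective_iff_map_eq_zero]
  intro x hx
  obtain ⟨y, rfl⟩ := hsurj x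
  have key : ∀ y : J ⊗[S] N, TensorProduct.lid A N (J'.subtype.rTensor N (Ψ y)) =
      TensorProduct.lid S N (J.subtype.rTensor N y) := by
    intro y
    induction y with
    | zero => simp
    | add x y hx hy => simp only [map_add, hx, hy]
    | tmul j n =>
      rw [hΨ]
      simp only [LinearMap.rTensor_tmul, Submodule.subtype_apply, TensorProduct.lid_tmul]
      exact algebraMap_smul A (j : S) n
  have h0 : J.subtype.rTensor N y = 0 := by
    apply (TensorProduct.lid S N).injective
    rw [← key, hx, map_zero, map_zero]
  rw [hJ (h0.trans (map_zero _).symm), map_zero]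

end torbase

end Groth.Agent.H1.CritFib

namespace Groth.Agent.H1.CritFib

section glob

/-- **Critère de platitude par fibres, global module form.**  `R → S → S'` with `S'` of finite
presentation over `S`, `M` a finitely presented `S'`-module flat over `R`, `𝔞` an ideal of `R`
with `M/𝔞M` flat over `S/𝔞S`.  Then `M_P` is flat over `S` for every prime `P` of `S'` over
`V(𝔞S)`. -/
theorem flat_localizedModule_of_flat_fibre {R : Type*} {S S' : Type u} [CommRing R] [CommRing S]
    [CommRing S'] [Algebra R S] [Algebra S S'] [Algebra.FinitePresentation S S'] (𝔞 : Ideal R)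
    (T : Type*) [CommRing T] [Algebra S T] (hsurj : Surjective (algebraMap S T))
    (hker : RingHom.ker (algebraMap S T) = 𝔞.map (algebraMap R S))
    {M : Type u} [AddCommGroup M] [Module S' M] [Module S M] [Module R M] [IsScalarTower S S' M]
    [IsScalarTower R S M] [Module.FinitePresentation S' M] [Module.Flat R M]
    [Module.Flat T (T ⊗[S] M)]
    (P : Ideal S') [P.IsPrime] (hP : 𝔞.map (algebraMap R S) ≤ P.comap (algebraMap S S')) :
    Module.Flat S (LocalizedModule P.primeCompl M) := by
  set q : Ideal S := P.comap (algebraMap S S') with hq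
  have h1 : Injective ((𝔞.map (algebraMap R S)).subtype.rTensor M) :=
    rTensor_map_subtype_injective_of_flat 𝔞
  have h2 : Injective (q.subtype.rTensor M) :=
    rTensor_subtype_injective_of_le (𝔞.map (algebraMap R S)) q hP T hsurj hker h1
  have h3 : Injective (q.subtype.rTensor (LocalizedModule P.primeCompl M)) :=
    rTensor_subtype_injective_of_isLocalizedModule P.primeCompl
      (LocalizedModule.mkLinearMap P.primeCompl M) q h2
  let Sq := Localization.AtPrime q
  let S'P := Localization.AtPrime P
  letI algL : Algebra Sq S'P := (Localization.localRingHom q P (algebraMap S S') rfl).toAlgebra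
  haveI tow1 : IsScalarTower S Sq S'P := IsScalarTower.of_algebraMap_eq fun s => by
    change _ = Localization.localRingHom q P (algebraMap S S') rfl (algebraMap S Sq s)
    rw [Localization.localRingHom_to_map, ← IsScalarTower.algebraMap_apply]
  haveI locH : IsLocalHom (algebraMap Sq S'P) :=
    Localization.isLocalHom_localRingHom q P (algebraMap S S') rfl
  letI modL : Module Sq (LocalizedModule P.primeCompl M) :=
    Module.compHom (LocalizedModule P.primeCompl M) (algebraMap Sq S'P)
  haveI tow2 : IsScalarTower Sq S'P (LocalizedModule P.primeCompl M) :=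
    IsScalarTower.of_algebraMap_smul fun _ _ => rfl
  haveI tow3 : IsScalarTower S Sq (LocalizedModule P.primeCompl M) :=
    IsScalarTower.of_algebraMap_smul fun s x => by
      change (algebraMap Sq S'P (algebraMap S Sq s)) • x = s • x
      rw [← IsScalarTower.algebraMap_apply S Sq S'P, algebraMap_smul]
  have h4 : Injective ((q.map (algebraMap S Sq)).subtype.rTensor (LocalizedModule P.primeCompl M)) :=
    rTensor_subtype_injective_map_of_isLocalization q.primeCompl q h3
  have hmax : q.map (algebraMap S Sq) = IsLocalRing.maximalIdeal Sq :=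
    Localization.AtPrime.map_eq_maximalIdeal
  rw [hmax] at h4
  obtain ⟨S₀', _, _, _, _, Mon, hfp, hloc⟩ :=
    exists_essFP_of_atPrime (C := S) (D := S') (S := Sq) (S' := S'P) q P (fun x hx => hx)
  haveI : Module.FinitePresentation S'P (LocalizedModule P.primeCompl M) := inferInstance
  haveI : Module.Flat Sq (LocalizedModule P.primeCompl M) :=
    flat_of_rTensor_maximalIdeal_injective (A := Sq) (B₀ := S₀') (B := S'P) Mon h4
  exact (Module.flat_iff_of_isLocalization Sq q.primeCompl (LocalizedModule P.primeCompl M)).mp
    inferInstance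

end glob

end Groth.Agent.H1.CritFib
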