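import Mathlib
import Groth.Agent.Lib.Helper1.GeomRed

/-! Helper1: geometric reducedness over a field without noetherian hypotheses: products with
reduced schemes are reduced, products of geometrically reduced schemes are geometrically reduced,
and a reduced scheme dominated by a family of geometrically reduced schemes is geometrically
reduced. -/

set_option autoImplicit false
set_option linter.style.haveILetI false
set_option linter.unusedSectionVars false
set_option linter.unusedVariables false

universe u

namespace Groth.Agent.H1.GRedProd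

open CategoryTheory CategoryTheory.Limits AlgebraicGeometry TensorProduct MonoidalCategory
  CartesianMonoidalCategory

section Algebra

variable {F R B : Type u} [Field F] [CommRing R] [Algebra F R] [CommRing B] [Algebra F B]

/-- a jointly injective family of algebra maps stays jointly injective after tensoring. -/
lemma eq_zero_of_family (x : R ⊗[F] B)
    (h : ∀ r : R, r ≠ 0 → ∃ (C : Type u) (_ : CommRing C) (_ : Algebra F C) (ψ : R →ₐ[F] C),
      ψ r ≠ 0 ∧ Algebra.TensorProduct.map ψ (AlgHom.id F B) x = 0) : x = 0 := by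
  let b := Module.Basis.ofVectorSpace F B
  apply (Algebra.TensorProduct.basis R b).repr.injective
  ext i
  rw [map_zero, Finsupp.zero_apply]
  by_contra hne
  obtain ⟨C, _, _, ψ, h1, h2⟩ := h _ hne
  have h3 := Groth.Agent.H1.GeomRed.repr_map b ψ x i
  rw [h2, map_zero, Finsupp.zero_apply] at h3
  exact h1 h3.symm

lemma isReduced_tensor_of_family
    (h : ∀ r : R, r ≠ 0 → ∃ (C : Type u) (_ : CommRing C) (_ : Algebra F C) (ψ : R →ₐ[F] C),
      ψ r ≠ 0 ∧ IsReduced (C ⊗[F] B)) : IsReduced (R ⊗[F] B) := by
  constructor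
  intro x hx
  apply eq_zero_of_family x
  intro r hr
  obtain ⟨C, iC, aC, ψ, h1, h2⟩ := h r hr
  haveI := h2
  exact ⟨C, iC, aC, ψ, h1, (hx.map (Algebra.TensorProduct.map ψ (AlgHom.id F B))).eq_zero⟩

lemma isReduced_comm (h : IsReduced (R ⊗[F] B)) : IsReduced (B ⊗[F] R) :=
  isReduced_of_injective (Algebra.TensorProduct.comm F B R).toRingEquiv.toRingHom
    (Algebra.TensorProduct.comm F B R).injective

end Algebra

section Sch

variable {k : Type u} [Field k]

/-- the `k`-algebra structure on an affine scheme over `Spec k`. -/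
@[reducible] noncomputable def algOf {A : CommRingCat.{u}}
    (s : Spec A ⟶ Spec (CommRingCat.of k)) : Algebra k A :=
  (Spec.preimage s).hom.toAlgebra

lemma specMap_algOf {A : CommRingCat.{u}} (s : Spec A ⟶ Spec (CommRingCat.of k)) :
    Spec.map (CommRingCat.ofHom (@algebraMap k A _ _ (algOf s))) = s :=
  Spec.map_preimage s

lemma isReduced_tensor_of_chart {X : Scheme.{u}} (p : X ⟶ Spec (CommRingCat.of k))
    [GeometricallyReduced p] (C : Type u) [CommRing C] [Algebra k C]
    (c : Spec (CommRingCat.of C) ⟶ X) [IsOpenImmersion c]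
    (hc : c ≫ p = Spec.map (CommRingCat.ofHom (algebraMap k C)))
    (K : Type u) [Field K] [Algebra k K] : IsReduced (C ⊗[k] K) := by
  have h : geometrically IsReduced p := by
    rw [← GeometricallyReduced.eq_geometrically]; infer_instance
  haveI h1 : IsReduced (pullback p (Spec.map (CommRingCat.ofHom (algebraMap k K)))) :=
    pullback_of_geometrically h K _
  haveI h2 : IsReduced (pullback (Spec.map (CommRingCat.ofHom (algebraMap k C)))
      (Spec.map (CommRingCat.ofHom (algebraMap k K)))) :=
    isReduced_of_isOpenImmersion (pullback.map (Spec.map (CommRingCat.ofHom (algebraMap k C)))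
      (Spec.map (CommRingCat.ofHom (algebraMap k K))) p
      (Spec.map (CommRingCat.ofHom (algebraMap k K))) c (𝟙 _) (𝟙 _)
      (by rw [Category.comp_id, hc]) (by rw [Category.comp_id, Category.id_comp]))
  haveI h3 : IsReduced (Spec (CommRingCat.of (C ⊗[k] K))) :=
    isReduced_of_isOpenImmersion (pullbackSpecIso k C K).inv
  exact (affine_isReduced_iff _).mp h3

lemma isReduced_tensor_of_chart' {X : Scheme.{u}} (p : X ⟶ Spec (CommRingCat.of k))
    [GeometricallyReduced p] (C : Type u) [CommRing C] [Algebra k C]
    (c : Spec (CommRingCat.of C) ⟶ X) [IsOpenImmersion c]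
    (hc : c ≫ p = Spec.map (CommRingCat.ofHom (algebraMap k C)))
    (K : Type u) [Field K] [Algebra k K] : IsReduced (K ⊗[k] C) :=
  isReduced_comm (isReduced_tensor_of_chart p C c hc K)

lemma isReduced_pullback_affine {X Y : Scheme.{u}} (p : X ⟶ Spec (CommRingCat.of k))
    (q : Y ⟶ Spec (CommRingCat.of k)) [GeometricallyReduced p] [IsReduced Y]
    (A B : CommRingCat.{u}) (cA : Spec A ⟶ X) [IsOpenImmersion cA] (cB : Spec B ⟶ Y)
    [IsOpenImmersion cB] : IsReduced (pullback (cA ≫ p) (cB ≫ q)) := by
  letI algA : Algebra k A := algOf (cA ≫ p)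
  letI algB : Algebra k B := algOf (cB ≫ q)
  haveI hB : IsReduced (Spec B) := isReduced_of_isOpenImmersion cB
  haveI hB' : _root_.IsReduced B := (affine_isReduced_iff _).mp hB
  haveI hBA : _root_.IsReduced (B ⊗[k] A) := by
    apply Groth.Agent.H1.GeomRed.isReduced_tensor_of_forall_prime
    intro 𝔭 _
    exact isReduced_tensor_of_chart' p A cA (specMap_algOf (cA ≫ p)).symm 𝔭.ResidueField
  haveI hAB : _root_.IsReduced (A ⊗[k] B) := isReduced_comm hBA
  haveI : IsReduced (Spec (CommRingCat.of (A ⊗[k] B))) := (affine_isReduced_iff _).mpr hAB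
  exact isReduced_of_isOpenImmersion
    ((pullback.congrHom (specMap_algOf (cA ≫ p)).symm (specMap_algOf (cB ≫ q)).symm).hom ≫
      (pullbackSpecIso k A B).hom)

/-- **geometrically reduced × reduced is reduced** (no noetherian hypothesis). -/
theorem isReduced_pullback_of_geomRed {X Y : Scheme.{u}} (p : X ⟶ Spec (CommRingCat.of k))
    (q : Y ⟶ Spec (CommRingCat.of k)) [GeometricallyReduced p] [IsReduced Y] :
    IsReduced (pullback p q) := by
  haveI : ∀ ij, IsReduced ((Scheme.Pullback.openCoverOfLeftRight X.affineOpenCover.openCover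
      Y.affineOpenCover.openCover p q).X ij) := fun ij =>
    isReduced_pullback_affine p q _ _ (X.affineOpenCover.f ij.1) (Y.affineOpenCover.f ij.2)
  exact IsReduced.of_openCover _ (Scheme.Pullback.openCoverOfLeftRight
    X.affineOpenCover.openCover Y.affineOpenCover.openCover p q)

local notation "Sk" => Over (Spec (CommRingCat.of k))

lemma isReduced_left (T : Sk) [GeometricallyReduced T.hom] : IsReduced T.left := by
  have h : geometrically IsReduced T.hom := by
    rw [← GeometricallyReduced.eq_geometrically]; infer_instance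
  haveI : Subsingleton ↥(Spec (CommRingCat.of k)) :=
    inferInstanceAs (Subsingleton (PrimeSpectrum k))
  exact self_of_isIntegral_of_geometrically h

theorem geomRed_id (S : Scheme.{u}) : GeometricallyReduced (𝟙 S) := by
  refine ⟨fun K _ y W a b h => ?_⟩
  haveI : IsIso b := h.isIso_snd_of_isIso
  exact isReduced_of_isOpenImmersion b

instance geomRed_unit : GeometricallyReduced (𝟙_ Sk).hom := geomRed_id _

/-- products of geometrically reduced `k`-schemes are geometrically reduced. -/
theorem geomRed_tensor (T T' : Sk) [GeometricallyReduced T.hom] [GeometricallyReduced T'.hom] :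
    GeometricallyReduced (T ⊗ T').hom := by
  refine ⟨fun K _ y W a b h => ?_⟩
  have hT' : geometrically IsReduced T'.hom := by
    rw [← GeometricallyReduced.eq_geometrically]; infer_instance
  haveI hred : IsReduced (pullback T'.hom y) := pullback_of_geometrically hT' K y
  have hw : (snd T T').left ≫ T'.hom = (T ⊗ T').hom := Over.w (snd T T')
  let b' : W ⟶ pullback T'.hom y := pullback.lift (a ≫ (snd T T').left) b (by
    rw [Category.assoc, hw]; exact h.w)
  have hb'1 : b' ≫ pullback.fst T'.hom y = a ≫ (snd T T').left := pullback.lift_fst _ _ _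
  have hb'2 : b' ≫ pullback.snd T'.hom y = b := pullback.lift_snd _ _ _
  have s1 : IsPullback b' a (pullback.fst T'.hom y) (snd T T').left := by
    refine IsPullback.of_right ?_ hb'1 (IsPullback.of_hasPullback T'.hom y).flip
    rw [hb'2, hw]
    exact h.flip
  have s2 : IsPullback (snd T T').left (fst T T').left T'.hom T.hom := by
    rw [Over.fst_left, Over.snd_left]
    exact (IsPullback.of_hasPullback T.hom T'.hom).flip
  have s3 : IsPullback (a ≫ (fst T T').left) b' T.hom (pullback.fst T'.hom y ≫ T'.hom) :=
    (s1.paste_vert s2).flip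
  haveI : IsReduced (pullback T.hom (pullback.fst T'.hom y ≫ T'.hom)) :=
    isReduced_pullback_of_geomRed T.hom (pullback.fst T'.hom y ≫ T'.hom)
  exact isReduced_of_isOpenImmersion s3.isoPullback.hom

/-- key step: a nonzero function on an affine open of a reduced scheme dominated by a family of
geometrically reduced schemes survives in the coordinate ring of some member of the family. -/
lemma exists_psi (Γ : Sk) (D : Set Γ.left) (hD : Dense D)
    (hfam : ∀ d ∈ D, ∃ (T : Sk) (_ : GeometricallyReduced T.hom) (w : T ⟶ Γ),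
      d ∈ Set.range w.left.base)
    (R : CommRingCat.{u}) (c : Spec R ⟶ Γ.left) [IsOpenImmersion c] [_root_.IsReduced R]
    (r : R) (hr : r ≠ 0) (K : Type u) [Field K] [Algebra k K] :
    ∃ (C : Type u) (_ : CommRing C) (_ : Algebra k C)
      (ψ : @AlgHom k R C _ _ _ (algOf (c ≫ Γ.hom)) _), ψ r ≠ 0 ∧ IsReduced (C ⊗[k] K) := by
  letI algR : Algebra k R := algOf (c ≫ Γ.hom)
  have hne : (PrimeSpectrum.basicOpen r : Set (PrimeSpectrum R)).Nonempty := by
    by_contra h
    rw [Set.not_nonempty_iff_eq_empty] at h
    have h' : PrimeSpectrum.basicOpen r = ⊥ := TopologicalSpace.Opens.ext h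
    exact hr ((PrimeSpectrum.basicOpen_eq_bot_iff r).mp h').eq_zero
  have hO : IsOpen (c.base '' (PrimeSpectrum.basicOpen r : Set (PrimeSpectrum R))) :=
    c.isOpenEmbedding.isOpenMap _ (PrimeSpectrum.basicOpen r).isOpen
  obtain ⟨d, ⟨x, hx, rfl⟩, hdD⟩ := hD.inter_open_nonempty _ hO (hne.image _)
  obtain ⟨T, hT, w, ⟨t, ht⟩⟩ := hfam _ hdD
  haveI := hT
  obtain ⟨z, hz1, hz2⟩ := Scheme.Pullback.exists_preimage_pullback (f := w.left) (g := c) t x ht
  obtain ⟨z', hz'⟩ := (pullback w.left c).affineOpenCover.covers z
  obtain ⟨A, e, he, hez⟩ : ∃ (A : CommRingCat.{u}) (e : Spec A ⟶ pullback w.left c)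
      (_ : IsOpenImmersion e), z ∈ Set.range e.base :=
    ⟨_, (pullback w.left c).affineOpenCover.f _, inferInstance, ⟨z', hz'⟩⟩
  haveI := he
  obtain ⟨z'', rfl⟩ := hez
  haveI : IsOpenImmersion (e ≫ pullback.fst w.left c) := inferInstance
  letI algC : Algebra k A := algOf ((e ≫ pullback.fst w.left c) ≫ T.hom)
  have hψ₀ : Spec.map (Spec.preimage (e ≫ pullback.snd w.left c)) =
      e ≫ pullback.snd w.left c := Spec.map_preimage _
  have e1 : Spec.map (CommRingCat.ofHom (algebraMap k R)) = c ≫ Γ.hom := specMap_algOf _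
  have e2 : Spec.map (CommRingCat.ofHom (algebraMap k A)) =
      (e ≫ pullback.fst w.left c) ≫ T.hom := specMap_algOf _
  have hcomm : CommRingCat.ofHom (algebraMap k R) ≫ Spec.preimage (e ≫ pullback.snd w.left c) =
      CommRingCat.ofHom (algebraMap k A) := by
    apply Spec.map_injective
    rw [Spec.map_comp, hψ₀, e1, e2, Category.assoc, Category.assoc, ← Over.w w,
      pullback.condition_assoc]
  let ψ : R →ₐ[k] A :=
    { (Spec.preimage (e ≫ pullback.snd w.left c)).hom with
      commutes' := fun a => congrArg (fun φ => φ.hom a) hcomm }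
  refine ⟨A, inferInstance, algC, ψ, ?_, ?_⟩
  · intro h0
    have hxz : (Spec.map (Spec.preimage (e ≫ pullback.snd w.left c))).base z'' = x := by
      rw [hψ₀, Scheme.Hom.comp_apply]
      exact hz2
    have h1 : r ∈ (x : PrimeSpectrum R).asIdeal := by
      rw [← hxz]
      show (Spec.preimage (e ≫ pullback.snd w.left c)).hom r ∈ (z'' : PrimeSpectrum A).asIdeal
      have h0' : (Spec.preimage (e ≫ pullback.snd w.left c)).hom r = 0 := h0
      rw [h0']
      exact Ideal.zero_mem _
    exact hx h1
  · exact isReduced_tensor_of_chart T.hom A (e ≫ pullback.fst w.left c) e2.symm K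

lemma isReduced_pullback_affine_of_family (Γ : Sk) [IsReduced Γ.left] (D : Set Γ.left)
    (hD : Dense D)
    (hfam : ∀ d ∈ D, ∃ (T : Sk) (_ : GeometricallyReduced T.hom) (w : T ⟶ Γ),
      d ∈ Set.range w.left.base)
    (R : CommRingCat.{u}) (c : Spec R ⟶ Γ.left) [IsOpenImmersion c]
    (K : Type u) [Field K] [Algebra k K] :
    IsReduced (pullback (c ≫ Γ.hom) (Spec.map (CommRingCat.ofHom (algebraMap k K)))) := by
  letI algR : Algebra k R := algOf (c ≫ Γ.hom)
  haveI hR : IsReduced (Spec R) := isReduced_of_isOpenImmersion c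
  haveI hR' : _root_.IsReduced R := (affine_isReduced_iff _).mp hR
  haveI hRK : _root_.IsReduced (R ⊗[k] K) := by
    apply isReduced_tensor_of_family
    intro r hr
    exact exists_psi Γ D hD hfam R c r hr K
  haveI : IsReduced (Spec (CommRingCat.of (R ⊗[k] K))) := (affine_isReduced_iff _).mpr hRK
  exact isReduced_of_isOpenImmersion
    ((pullback.congrHom (specMap_algOf (c ≫ Γ.hom)).symm rfl).hom ≫ (pullbackSpecIso k R K).hom)

/-- a reduced `k`-scheme in which the images of a family of geometrically reduced schemes are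
jointly dense is geometrically reduced. -/
theorem geomRed_of_dense_family (Γ : Sk) [IsReduced Γ.left] (D : Set Γ.left) (hD : Dense D)
    (hfam : ∀ d ∈ D, ∃ (T : Sk) (_ : GeometricallyReduced T.hom) (w : T ⟶ Γ),
      d ∈ Set.range w.left.base) : GeometricallyReduced Γ.hom := by
  rw [geometricallyReduced_iff, geometrically_iff_of_commRing_of_isClosedUnderIsomorphisms]
  intro K _ _
  haveI : ∀ i, IsReduced ((Scheme.Pullback.openCoverOfLeft Γ.left.affineOpenCover.openCover Γ.hom
      (Spec.map (CommRingCat.ofHom (algebraMap k K)))).X i) := fun i =>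
    isReduced_pullback_affine_of_family Γ D hD hfam _ (Γ.left.affineOpenCover.f i) K
  exact IsReduced.of_openCover _ (Scheme.Pullback.openCoverOfLeft
    Γ.left.affineOpenCover.openCover Γ.hom (Spec.map (CommRingCat.ofHom (algebraMap k K))))

end Sch

end Groth.Agent.H1.GRedProd
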