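import Mathlib
import Groth.Prelude.Def_AlgGrp
import Groth.Agent.Lib.Helper9.AlgGrpAct
import Groth.Agent.Lib.Helper9.Misc.GZB2
import Groth.Agent.H4.SmRed2
import Groth.Agent.Lib.Helper2.ProjInter1
import Groth.Agent.Lib.Helper1.GrpMaxRedB

/-! S14634: a curve with a nontrivial action of a smooth connected algebraic group is almost
homogeneous (helper1). The key input is `dim (C × C) ≤ 2`. -/

set_option autoImplicit false
set_option linter.style.haveILetI false
universe u

namespace Groth.Agent.H1.CurveAH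

open CategoryTheory CategoryTheory.Limits MonoidalCategory CartesianMonoidalCategory MonObj GrpObj
  AlgebraicGeometry Topology TopologicalSpace

section Dim

theorem dim_le_of_cover {X : Type u} [TopologicalSpace X] (n : WithBot ℕ∞)
    (h : ∀ x : X, ∃ (Y : Type u) (_ : TopologicalSpace Y) (f : Y → X),
      IsOpenEmbedding f ∧ x ∈ Set.range f ∧ topologicalKrullDim Y ≤ n) :
    topologicalKrullDim X ≤ n := by
  unfold topologicalKrullDim
  rw [Order.krullDim_eq_iSup_coheight]
  refine iSup_le fun Z => ?_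
  obtain ⟨x, hx⟩ := Z.isIrreducible.nonempty
  obtain ⟨Y, _, f, hf, ⟨y, rfl⟩, hdim⟩ := h x
  obtain ⟨Z', hZ'⟩ : ∃ Z' : IrreducibleCloseds Y,
      IrreducibleCloseds.map f hf.continuous Z' = Z := by
    refine ⟨(IrreducibleCloseds.orderIsoOfIsOpenEmbedding f hf).symm ⟨Z, ⟨y, hx⟩⟩, ?_⟩
    exact congrArg Subtype.val
      ((IrreducibleCloseds.orderIsoOfIsOpenEmbedding f hf).apply_symm_apply ⟨Z, ⟨y, hx⟩⟩)
  rw [← hZ', hf.coheight_map]
  exact (Order.coheight_le_krullDim Z').trans hdim

theorem dim_le_of_openCover {X : Scheme.{u}} (𝒰 : X.OpenCover) (n : WithBot ℕ∞)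
    (h : ∀ i, topologicalKrullDim ↥(𝒰.X i) ≤ n) : topologicalKrullDim ↥X ≤ n := by
  refine dim_le_of_cover n fun x => ?_
  obtain ⟨i, y, hy⟩ := 𝒰.exists_eq x
  exact ⟨↥(𝒰.X i), inferInstance, fun z => (𝒰.f i) z, (𝒰.f i).isOpenEmbedding, ⟨y, hy⟩, h i⟩

theorem dim_spec_le (k : Type u) [Field k] {R₁ R₂ : CommRingCat.{u}}
    (f : Spec R₁ ⟶ Spec (CommRingCat.of k)) (g : Spec R₂ ⟶ Spec (CommRingCat.of k))
    [LocallyOfFiniteType f] [LocallyOfFiniteType g]
    (h₁ : topologicalKrullDim ↥(Spec R₁) ≤ 1) (h₂ : topologicalKrullDim ↥(Spec R₂) ≤ 1) :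
    topologicalKrullDim ↥(pullback f g) ≤ 2 := by
  obtain ⟨φ, rfl⟩ : ∃ φ, Spec.map φ = f := ⟨Spec.preimage f, Spec.map_preimage f⟩
  obtain ⟨ψ, rfl⟩ : ∃ ψ, Spec.map ψ = g := ⟨Spec.preimage g, Spec.map_preimage g⟩
  have hφ : φ.hom.FiniteType :=
    (HasRingHomProperty.Spec_iff (P := @LocallyOfFiniteType)).mp inferInstance
  have hψ : ψ.hom.FiniteType :=
    (HasRingHomProperty.Spec_iff (P := @LocallyOfFiniteType)).mp inferInstance
  letI : Algebra k R₁ := φ.hom.toAlgebra
  letI : Algebra k R₂ := ψ.hom.toAlgebra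
  haveI : Algebra.FiniteType k R₁ := hφ
  haveI : Algebra.FiniteType k R₂ := hψ
  have h₁' : ringKrullDim R₁ ≤ 1 := by
    rw [← PrimeSpectrum.topologicalKrullDim_eq_ringKrullDim]; exact h₁
  have h₂' : ringKrullDim R₂ ≤ 1 := by
    rw [← PrimeSpectrum.topologicalKrullDim_eq_ringKrullDim]; exact h₂
  have e : pullback (Spec.map φ) (Spec.map ψ) ≅ Spec (CommRingCat.of (TensorProduct k R₁ R₂)) :=
    pullbackSpecIso k R₁ R₂
  have hd : topologicalKrullDim ↥(pullback (Spec.map φ) (Spec.map ψ)) =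
      ringKrullDim (TensorProduct k R₁ R₂) := by
    rw [← PrimeSpectrum.topologicalKrullDim_eq_ringKrullDim]
    exact IsHomeomorph.topologicalKrullDim_eq _ (Scheme.homeoOfIso e).isHomeomorph
  rw [hd]
  rcases subsingleton_or_nontrivial R₁ with hs | hn₁
  · haveI : Subsingleton (TensorProduct k R₁ R₂) := by
      apply subsingleton_of_zero_eq_one
      rw [Algebra.TensorProduct.one_def, Subsingleton.elim (1 : R₁) 0, TensorProduct.zero_tmul]
    rw [ringKrullDim_eq_bot_of_subsingleton]; exact bot_le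
  rcases subsingleton_or_nontrivial R₂ with hs | hn₂
  · haveI : Subsingleton (TensorProduct k R₁ R₂) := by
      apply subsingleton_of_zero_eq_one
      rw [Algebra.TensorProduct.one_def, Subsingleton.elim (1 : R₂) 0, TensorProduct.tmul_zero]
    rw [ringKrullDim_eq_bot_of_subsingleton]; exact bot_le
  rw [Groth.Agent.H2.ProjInter.ringKrullDim_tensorProduct k R₁ R₂]
  calc ringKrullDim R₁ + ringKrullDim R₂ ≤ 1 + 1 := add_le_add h₁' h₂'
    _ = 2 := one_add_one_eq_two

theorem dim_prod_le (k : Type u) [Field k] (C : Over (Spec (CommRingCat.of k)))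
    [LocallyOfFiniteType C.hom] (hdim : topologicalKrullDim ↥C.left ≤ 1) :
    topologicalKrullDim ↥(pullback C.hom C.hom) ≤ 2 := by
  refine dim_le_of_openCover (Scheme.Pullback.openCoverOfLeftRight C.left.affineCover
    C.left.affineCover C.hom C.hom) 2 ?_
  intro ij
  have hle : ∀ i, topologicalKrullDim ↥(C.left.affineCover.X i) ≤ 1 := fun i =>
    ((C.left.affineCover.f i).isOpenEmbedding.isInducing.topologicalKrullDim_le).trans hdim
  have hlft : ∀ i, LocallyOfFiniteType (C.left.affineCover.f i ≫ C.hom) := fun i => inferInstance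
  exact @dim_spec_le k _ _ _ (C.left.affineCover.f ij.1 ≫ C.hom)
    (C.left.affineCover.f ij.2 ≫ C.hom) (hlft ij.1) (hlft ij.2) (hle ij.1) (hle ij.2)

theorem exists_ne_genericPoint {X : Scheme.{u}} [IrreducibleSpace X]
    (hdim : topologicalKrullDim ↥X = 1) : ∃ x : X, x ≠ genericPoint X := by
  by_contra hall
  have hall' : ∀ x : X, x = genericPoint X := fun x => by_contra fun hx => hall ⟨x, hx⟩
  haveI : Subsingleton X := ⟨fun x y => (hall' x).trans (hall' y).symm⟩
  haveI : Subsingleton (IrreducibleCloseds X) := ⟨fun A B => by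
    apply IrreducibleCloseds.ext
    ext y
    constructor
    · intro _
      obtain ⟨z, hz⟩ := B.isIrreducible.nonempty
      rwa [Subsingleton.elim y z]
    · intro _
      obtain ⟨z, hz⟩ := A.isIrreducible.nonempty
      rwa [Subsingleton.elim y z]⟩
  have h0 : topologicalKrullDim ↥X ≤ 0 := Order.krullDim_nonpos_of_subsingleton
  rw [hdim] at h0
  have h1 : (1 : ℕ∞) ≤ 0 := by exact_mod_cast h0
  exact one_ne_zero (nonpos_iff_eq_zero.mp h1)

end Dim

variable {k : Type u} [Field k] {G C : Over (Spec (CommRingCat.of k))}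

theorem fst_diag_apply (y : C.left) :
    (fst C C).left ((lift (𝟙 C) (𝟙 C)).left y) = y := by
  have h : (lift (𝟙 C) (𝟙 C)).left ≫ (fst C C).left = 𝟙 C.left := by
    rw [← Over.comp_left, lift_fst, Over.id_left]
  calc (fst C C).left ((lift (𝟙 C) (𝟙 C)).left y)
      = ((lift (𝟙 C) (𝟙 C)).left ≫ (fst C C).left) y := (Scheme.Hom.comp_apply _ _ _).symm
    _ = (𝟙 C.left : C.left ⟶ C.left) y := by rw [h]
    _ = y := rfl

theorem snd_diag_apply (y : C.left) :
    (snd C C).left ((lift (𝟙 C) (𝟙 C)).left y) = y := by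
  have h : (lift (𝟙 C) (𝟙 C)).left ≫ (snd C C).left = 𝟙 C.left := by
    rw [← Over.comp_left, lift_snd, Over.id_left]
  calc (snd C C).left ((lift (𝟙 C) (𝟙 C)).left y)
      = ((lift (𝟙 C) (𝟙 C)).left ≫ (snd C C).left) y := (Scheme.Hom.comp_apply _ _ _).symm
    _ = (𝟙 C.left : C.left ⟶ C.left) y := by rw [h]
    _ = y := rfl

theorem isClosedImmersion_diag [IsSeparated C.hom] :
    IsClosedImmersion (lift (𝟙 C) (𝟙 C)).left := by
  have h : pullback.diagonal C.hom = (lift (𝟙 C) (𝟙 C)).left := by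
    apply pullback.hom_ext
    · rw [pullback.diagonal_fst]
      show 𝟙 _ = (lift (𝟙 C) (𝟙 C)).left ≫ (fst C C).left
      rw [← Over.comp_left, lift_fst, Over.id_left]
    · rw [pullback.diagonal_snd]
      show 𝟙 _ = (lift (𝟙 C) (𝟙 C)).left ≫ (snd C C).left
      rw [← Over.comp_left, lift_snd, Over.id_left]
  rw [← h]; infer_instance

/-- `⇒`: if the graph morphism is dominant, the action is nontrivial. -/
theorem mp [IsSeparated C.hom] [GeometricallyIntegral C.hom]
    (hdim : topologicalKrullDim ↥C.left = 1) (act : G ⊗ C ⟶ C)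
    (hdom : IsDominant (lift (snd G C) act).left) : act ≠ snd G C := by
  intro hact
  haveI : IsIntegral C.left := GeometricallyIntegral.isIntegral_of_subsingleton C.hom
  obtain ⟨Δ, hΔ⟩ : ∃ Δ : C ⟶ C ⊗ C, Δ = lift (𝟙 C) (𝟙 C) := ⟨_, rfl⟩
  haveI hΔc : IsClosedImmersion Δ.left := by rw [hΔ]; exact isClosedImmersion_diag
  have e : lift (snd G C) act = snd G C ≫ Δ := by
    rw [hact, hΔ]
    apply CartesianMonoidalCategory.hom_ext
    · rw [lift_fst, Category.assoc, lift_fst, Category.comp_id]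
    · rw [lift_snd, Category.assoc, lift_snd, Category.comp_id]
  rw [e, Over.comp_left] at hdom
  have hcl : IsClosed (Set.range Δ.left) := Δ.left.isClosedEmbedding.isClosed_range
  have hsub : Set.range ((snd G C).left ≫ Δ.left) ⊆ Set.range Δ.left := by
    rintro _ ⟨z, rfl⟩
    exact ⟨(snd G C).left z, (Scheme.Hom.comp_apply _ _ _).symm⟩
  have huniv : Set.univ ⊆ Set.range Δ.left := by
    rw [← hdom.denseRange.closure_range]
    exact closure_minimal hsub hcl
  obtain ⟨x, hx⟩ := exists_ne_genericPoint (X := C.left) hdim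
  obtain ⟨z, hz1, hz2⟩ := Scheme.Pullback.exists_preimage_pullback (f := C.hom) (g := C.hom) x
    (genericPoint C.left) (Subsingleton.elim _ _)
  obtain ⟨y, hy⟩ := huniv (Set.mem_univ z)
  have h1 : (fst C C).left z = y := by rw [← hy, hΔ]; exact fst_diag_apply y
  have h2 : (snd C C).left z = y := by rw [← hy, hΔ]; exact snd_diag_apply y
  exact hx ((hz1.symm.trans h1).trans (h2.symm.trans hz2))

set_option maxHeartbeats 800000 in
/-- `⇐`: if the action is nontrivial, the graph morphism is dominant. -/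
theorem mpr [GrpObj G] [Smooth G.hom] [QuasiCompact G.hom] [ConnectedSpace ↥G.left]
    [IsSeparated C.hom] [LocallyOfFiniteType C.hom] [QuasiCompact C.hom]
    [GeometricallyIntegral C.hom] (hdim : topologicalKrullDim ↥C.left = 1)
    (a : AlgGrp.Action G C) (hne : a.act ≠ snd G C) :
    IsDominant (lift (snd G C) a.act).left := by
  by_contra hnd
  haveI : AlgebraicGeometry.IsReduced G.left :=
    Groth.Agent.H4.SmRed.isReduced_of_smooth_scheme G.hom
  haveI : IrreducibleSpace G.left := Groth.Agent.H9.GZB.S0348_main G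
  haveI : IsIntegral G.left := isIntegral_of_irreducibleSpace_of_isReduced G.left
  haveI : IsLocallyNoetherian G.left := LocallyOfFiniteType.isLocallyNoetherian G.hom
  haveI : IsIntegral C.left := GeometricallyIntegral.isIntegral_of_subsingleton C.hom
  haveI : IsLocallyNoetherian C.left := LocallyOfFiniteType.isLocallyNoetherian C.hom
  haveI hGC : IsIntegral (G ⊗ C).left := by
    show IsIntegral (pullback G.hom C.hom)
    infer_instance
  haveI hCC : IsIntegral (C ⊗ C).left := by
    show IsIntegral (pullback C.hom C.hom)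
    infer_instance
  have hT : topologicalKrullDim ↥(C ⊗ C).left ≤ 2 := dim_prod_le k C hdim.le
  obtain ⟨Δ, hΔ⟩ : ∃ Δ : C ⟶ C ⊗ C, Δ = lift (𝟙 C) (𝟙 C) := ⟨_, rfl⟩
  obtain ⟨Γ, hΓ⟩ : ∃ Γ : G ⊗ C ⟶ C ⊗ C, Γ = lift (snd G C) a.act := ⟨_, rfl⟩
  rw [← hΓ] at hnd
  haveI hΔc : IsClosedImmersion Δ.left := by rw [hΔ]; exact isClosedImmersion_diag
  have hΔΓ : lift (1 : C ⟶ G) (𝟙 C) ≫ Γ = Δ := by
    rw [hΓ, hΔ]
    apply CartesianMonoidalCategory.hom_ext
    · rw [Category.assoc, lift_fst, lift_snd, lift_fst]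
    · rw [Category.assoc, lift_snd, lift_snd]
      exact Groth.Agent.H9.AlgGrpAct.lift_one_act a (𝟙 C)
  have hsubΔΓ : Set.range Δ.left ⊆ Set.range Γ.left := by
    rintro _ ⟨x, rfl⟩
    refine ⟨(lift (1 : C ⟶ G) (𝟙 C)).left x, ?_⟩
    rw [← Scheme.Hom.comp_apply, ← Over.comp_left, hΔΓ]
  have hcl : IsClosed (Set.range Δ.left) := Δ.left.isClosedEmbedding.isClosed_range
  have hkey : Set.range Γ.left ⊆ Set.range Δ.left := by
    by_contra hns
    have hirrΔ : IsIrreducible (Set.range Δ.left) := by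
      rw [← Set.image_univ]
      exact (IrreducibleSpace.isIrreducible_univ _).image _ Δ.left.continuous.continuousOn
    have hirrΓ : IsIrreducible (closure (Set.range Γ.left)) := by
      rw [← Set.image_univ]
      exact ((IrreducibleSpace.isIrreducible_univ _).image _
        Γ.left.continuous.continuousOn).closure
    obtain ⟨x, hx⟩ := exists_ne_genericPoint (X := C.left) hdim
    obtain ⟨a0, ha0⟩ : ∃ a0 : IrreducibleCloseds ↥(C ⊗ C).left,
        (a0 : Set ↥(C ⊗ C).left) = closure {Δ.left x} :=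
      ⟨⟨_, isIrreducible_singleton.closure, isClosed_closure⟩, rfl⟩
    obtain ⟨b0, hb0⟩ : ∃ b0 : IrreducibleCloseds ↥(C ⊗ C).left,
        (b0 : Set ↥(C ⊗ C).left) = Set.range Δ.left := ⟨⟨_, hirrΔ, hcl⟩, rfl⟩
    obtain ⟨c0, hc0⟩ : ∃ c0 : IrreducibleCloseds ↥(C ⊗ C).left,
        (c0 : Set ↥(C ⊗ C).left) = closure (Set.range Γ.left) :=
      ⟨⟨_, hirrΓ, isClosed_closure⟩, rfl⟩
    obtain ⟨d0, hd0⟩ : ∃ d0 : IrreducibleCloseds ↥(C ⊗ C).left,
        (d0 : Set ↥(C ⊗ C).left) = Set.univ :=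
      ⟨⟨_, IrreducibleSpace.isIrreducible_univ _, isClosed_univ⟩, rfl⟩
    have hab : a0 < b0 := by
      refine lt_of_le_of_ne (SetLike.coe_subset_coe.mp ?_) ?_
      · rw [ha0, hb0]
        exact closure_minimal (Set.singleton_subset_iff.mpr ⟨x, rfl⟩) hcl
      · intro hEq
        have h1 : Δ.left (genericPoint C.left) ∈ (a0 : Set ↥(C ⊗ C).left) := by
          rw [hEq, hb0]; exact ⟨_, rfl⟩
        rw [ha0] at h1
        have h2 : Δ.left x ⤳ Δ.left (genericPoint C.left) := specializes_iff_mem_closure.mpr h1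
        have h3 := h2.map (fst C C).left.continuous
        rw [hΔ, fst_diag_apply, fst_diag_apply] at h3
        exact hx (h3.antisymm (genericPoint_specializes x)).eq
    have hbc : b0 < c0 := by
      refine lt_of_le_of_ne (SetLike.coe_subset_coe.mp ?_) ?_
      · rw [hb0, hc0]
        exact hsubΔΓ.trans subset_closure
      · intro hEq
        apply hns
        have : closure (Set.range Γ.left) = Set.range Δ.left := by rw [← hc0, ← hEq, hb0]
        rw [← this]; exact subset_closure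
    have hcd : c0 < d0 := by
      refine lt_of_le_of_ne (SetLike.coe_subset_coe.mp ?_) ?_
      · rw [hd0]; exact Set.subset_univ _
      · intro hEq
        apply hnd
        refine ⟨dense_iff_closure_eq.mpr ?_⟩
        rw [← hc0, hEq, hd0]
    have h1 := Order.height_add_one_le hab
    have h2 := Order.height_add_one_le hbc
    have h3 := Order.height_add_one_le hcd
    have e1 : (1 : ℕ∞) ≤ Order.height b0 := le_add_self.trans h1
    have e2 : (2 : ℕ∞) ≤ Order.height c0 := by
      refine le_trans ?_ h2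
      rw [← one_add_one_eq_two]
      exact add_le_add e1 le_rfl
    have e3 : (3 : ℕ∞) ≤ Order.height d0 := by
      refine le_trans ?_ h3
      rw [← two_add_one_eq_three]
      exact add_le_add e2 le_rfl
    have h5 : ((Order.height d0 : ℕ∞) : WithBot ℕ∞) ≤ 2 :=
      (Order.height_le_krullDim d0).trans hT
    have h6 : ((3 : ℕ∞) : WithBot ℕ∞) ≤ 2 := (WithBot.coe_le_coe.mpr e3).trans h5
    have h6' : (3 : ℕ∞) ≤ 2 :=
      WithBot.coe_le_coe.mp (show ((3 : ℕ∞) : WithBot ℕ∞) ≤ ((2 : ℕ∞) : WithBot ℕ∞) from h6)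
    exact absurd h6' (by norm_num)
  obtain ⟨l, hl⟩ := Groth.Agent.H1.GrpMaxRedB.exists_lift_of_isReduced_of_range_subset
    Γ.left Δ.left hkey
  apply hne
  apply Over.OverMorphism.ext
  have e1 : Δ.left ≫ (fst C C).left = 𝟙 _ := by
    rw [← Over.comp_left, hΔ, lift_fst, Over.id_left]
  have e2 : Δ.left ≫ (snd C C).left = 𝟙 _ := by
    rw [← Over.comp_left, hΔ, lift_snd, Over.id_left]
  have e3 : Γ.left ≫ (fst C C).left = (snd G C).left := by
    rw [← Over.comp_left, hΓ, lift_fst]
  have e4 : Γ.left ≫ (snd C C).left = a.act.left := by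
    rw [← Over.comp_left, hΓ, lift_snd]
  calc a.act.left = Γ.left ≫ (snd C C).left := e4.symm
    _ = l ≫ Δ.left ≫ (snd C C).left := by rw [← hl, Category.assoc]
    _ = l := by rw [e2, Category.comp_id]
    _ = l ≫ Δ.left ≫ (fst C C).left := by rw [e1, Category.comp_id]
    _ = Γ.left ≫ (fst C C).left := by rw [← Category.assoc, hl]
    _ = (snd G C).left := e3

theorem main (k : Type u) [Field k] (G C : Over (Spec (CommRingCat.of k))) [GrpObj G]
    [Smooth G.hom] [QuasiCompact G.hom] [ConnectedSpace ↥G.left]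
    [IsSeparated C.hom] [LocallyOfFiniteType C.hom] [QuasiCompact C.hom]
    [GeometricallyIntegral C.hom] (hdim : topologicalKrullDim ↥C.left = 1)
    (a : AlgGrp.Action G C) :
    IsDominant (lift (snd G C) a.act).left ↔ a.act ≠ snd G C :=
  ⟨fun h => mp hdim a.act h, fun h => mpr hdim a h⟩

end Groth.Agent.H1.CurveAH
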