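import Mathlib
import Groth.Agent.Lib.Helper3.TopDim

/-! Helper1: finiteness of proper closed subsets of one-dimensional irreducible noetherian spaces,
and finiteness of morphisms from proper curves. -/

set_option autoImplicit false
set_option linter.style.haveILetI false
universe u
open AlgebraicGeometry CategoryTheory TopologicalSpace

namespace Groth.Agent.H1.CurveFin

section Top

variable {T : Type*} [TopologicalSpace T]

theorem le_zero_of_lt_one {c : WithBot ℕ∞} (h : c < 1) : c ≤ 0 := by
  induction c with
  | bot => exact bot_le
  | coe c =>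
    have h1 : (c : WithBot ℕ∞) < ((1 : ℕ∞) : WithBot ℕ∞) := h
    rw [WithBot.coe_lt_coe] at h1
    have : c = 0 := ENat.lt_one_iff_eq_zero.mp h1
    rw [this]
    rfl

/-- a space of dimension `≤ 0` which is noetherian and `T0` is finite. -/
theorem finite_of_dim_le_zero [NoetherianSpace T] [T0Space T] (h : topologicalKrullDim T ≤ 0) :
    Finite T := by
  rcases isEmpty_or_nonempty T with he | hne
  · infer_instance
  · have : topologicalKrullDim T = 0 := le_antisymm h Groth.Agent.H3.TopDim.dim_nonneg
    exact (Groth.Agent.H3.TopDim.dim_eq_zero_iff_finite_discrete.mp this).1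

/-- a proper closed subset of an irreducible noetherian `T0` space of dimension `≤ 1` is
finite. -/
theorem finite_of_isClosed_ne_univ [NoetherianSpace T] [T0Space T] [IrreducibleSpace T]
    (hdim : topologicalKrullDim T ≤ 1) (C : Set T) (hC : IsClosed C) (hne : C ≠ Set.univ) :
    C.Finite := by
  have hfin : topologicalKrullDim T ≠ ⊤ := by
    intro h
    rw [h] at hdim
    exact absurd hdim (by decide)
  have h1 := Groth.Agent.H3.TopDim.dim_lt_of_isClosed_ne_univ hfin C hC hne
  have h2 : topologicalKrullDim ↥C ≤ 0 := le_zero_of_lt_one (h1.trans_le hdim)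
  haveI : NoetherianSpace ↥C := inferInstance
  haveI := finite_of_dim_le_zero h2
  exact Set.toFinite C

/-- a closed subset of an irreducible closed subset `Z` of dimension `≤ 1` of a noetherian `T0`
space, different from `Z`, is finite. -/
theorem finite_of_isClosed_ne [NoetherianSpace T] [T0Space T] (Z : Set T) (hZ : IsIrreducible Z)
    (hdim : topologicalKrullDim ↥Z ≤ 1) (C : Set T) (hC : IsClosed C) (hCZ : C ⊆ Z)
    (hne : C ≠ Z) : C.Finite := by
  haveI : IrreducibleSpace ↥Z := Subtype.irreducibleSpace hZ
  haveI : NoetherianSpace ↥Z := inferInstance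
  have h1 := finite_of_isClosed_ne_univ hdim ((↑) ⁻¹' C : Set ↥Z) (hC.preimage continuous_subtype_val)
    (by
      intro h
      apply hne
      apply subset_antisymm hCZ
      intro z hz
      have : (⟨z, hz⟩ : ↥Z) ∈ ((↑) ⁻¹' C : Set ↥Z) := by rw [h]; trivial
      exact this)
  have : C = (↑) '' ((↑) ⁻¹' C : Set ↥Z) := by
    rw [Subtype.image_preimage_coe, Set.inter_eq_right.mpr hCZ]
  rw [this]
  exact h1.image _

/-- a point of an irreducible closed subset `Z` of dimension `≤ 1` which is not the generic point
is closed. -/
theorem isClosed_singleton_of_closure_ne [NoetherianSpace T] [T0Space T] (Z : Set T)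
    (hZ : IsIrreducible Z) (hZc : IsClosed Z) (hdim : topologicalKrullDim ↥Z ≤ 1) (x : T)
    (hx : x ∈ Z) (hne : closure ({x} : Set T) ≠ Z) : IsClosed ({x} : Set T) := by
  haveI : IrreducibleSpace ↥Z := Subtype.irreducibleSpace hZ
  haveI : NoetherianSpace ↥Z := inferInstance
  have hfin : topologicalKrullDim ↥Z ≠ ⊤ := by
    intro h
    rw [h] at hdim
    exact absurd hdim (by decide)
  have hsub : closure ({x} : Set T) ⊆ Z := closure_minimal (Set.singleton_subset_iff.mpr hx) hZc
  set C : Set ↥Z := (↑) ⁻¹' (closure ({x} : Set T)) with hCdef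
  have hCc : IsClosed C := isClosed_closure.preimage continuous_subtype_val
  have hCne : C ≠ Set.univ := by
    intro h
    apply hne
    apply subset_antisymm hsub
    intro z hz
    have : (⟨z, hz⟩ : ↥Z) ∈ C := by rw [h]; trivial
    exact this
  have h1 := Groth.Agent.H3.TopDim.dim_lt_of_isClosed_ne_univ hfin C hCc hCne
  have h2 : topologicalKrullDim ↥C ≤ 0 := le_zero_of_lt_one (h1.trans_le hdim)
  haveI : NoetherianSpace ↥C := inferInstance
  haveI : Nonempty ↥C := ⟨⟨⟨x, hx⟩, subset_closure rfl⟩⟩
  have h3 : topologicalKrullDim ↥C = 0 := le_antisymm h2 Groth.Agent.H3.TopDim.dim_nonneg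
  haveI hdisc := (Groth.Agent.H3.TopDim.dim_eq_zero_iff_finite_discrete.mp h3).2
  have h4 : IsClosed ({⟨⟨x, hx⟩, subset_closure rfl⟩} : Set ↥C) := isClosed_discrete _
  have h5 := hCc.isClosedMap_subtype_val _ h4
  have h6 := hZc.isClosedMap_subtype_val _ h5
  simpa using h6

end Top

section Alg

/-- an injective map from a noetherian integrally closed domain of dimension `≤ 1` to a domain is
flat. -/
theorem flat_of_injective_of_dim_le_one (A B : Type*) [CommRing A] [IsNoetherianRing A]
    [IsDomain A] [IsIntegrallyClosed A] (h : ringKrullDim A ≤ 1) [CommRing B] [IsDomain B]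
    [Algebra A B] (hinj : Function.Injective (algebraMap A B)) : Module.Flat A B := by
  have h1 : Ring.KrullDimLE 1 A := Ring.krullDimLE_iff.mpr (by simpa using h)
  have h2 : Ring.DimensionLEOne A :=
    ⟨fun {p} hp hpp => Ring.krullDimLE_one_iff_of_noZeroDivisors.mp h1 p hp hpp⟩
  haveI : IsDedekindDomain A := { }
  haveI : Module.IsTorsionFree A B := ⟨fun r hr b₁ b₂ hb => by
    have hr0 : r ≠ 0 := hr.ne_zero
    simp only [Algebra.smul_def] at hb
    exact mul_left_cancel₀ ((map_ne_zero_iff _ hinj).mpr hr0) hb⟩
  infer_instance

end Alg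

section Sch

variable {X Y : Scheme.{u}}

/-- on an integral scheme the specialization maps of stalks are injective. -/
theorem stalkSpecializes_injective [IsIntegral Y] {y' y : Y} (h : y' ⤳ y) :
    Function.Injective (Y.presheaf.stalkSpecializes h).hom := by
  have hη : genericPoint Y ⤳ y' := (genericPoint_spec Y).specializes trivial
  have hcomp : Y.presheaf.stalkSpecializes h ≫ Y.presheaf.stalkSpecializes hη =
      Y.presheaf.stalkSpecializes (hη.trans h) := Y.presheaf.stalkSpecializes_comp _ _
  have hinj : Function.Injective (Y.presheaf.stalkSpecializes (hη.trans h)).hom :=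
    IsFractionRing.injective (Y.presheaf.stalk y) Y.functionField
  rw [← hcomp] at hinj
  exact Function.Injective.of_comp (f := (Y.presheaf.stalkSpecializes hη).hom) hinj

/-- the stalk of an integral scheme at a generic point is a field. -/
theorem isField_stalk_of_isGenericPoint [IsIntegral Y] (y : Y) (hy : IsGenericPoint y ⊤) :
    IsField (Y.presheaf.stalk y) := by
  obtain rfl : y = genericPoint Y := hy.eq (genericPoint_spec Y)
  exact Field.toIsField Y.functionField

/-- a morphism of integral schemes which maps the generic point to the generic point is injective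
on stalks. -/
theorem stalkMap_injective_of_dominant [IsIntegral X] [IsIntegral Y] (f : X ⟶ Y)
    (hgen : IsGenericPoint (f (genericPoint X)) ⊤) (x : X) :
    Function.Injective (f.stalkMap x).hom := by
  have hξ : genericPoint X ⤳ x := (genericPoint_spec X).specializes trivial
  have hsq := Scheme.Hom.stalkSpecializes_stalkMap f (genericPoint X) x hξ
  have h1 : Function.Injective (Y.presheaf.stalkSpecializes (f.base.hom.map_specializes hξ)).hom :=
    stalkSpecializes_injective _
  have h2 : Function.Injective (f.stalkMap (genericPoint X)).hom := by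
    letI := (isField_stalk_of_isGenericPoint _ hgen).toField
    exact RingHom.injective _
  have h3 : Function.Injective
      (Y.presheaf.stalkSpecializes (f.base.hom.map_specializes hξ) ≫
        f.stalkMap (genericPoint X)).hom := by
    rw [CommRingCat.hom_comp, RingHom.coe_comp]
    exact h2.comp h1
  rw [hsq, CommRingCat.hom_comp, RingHom.coe_comp] at h3
  exact Function.Injective.of_comp h3

end Sch

end Groth.Agent.H1.CurveFin
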