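import Mathlib
import Groth.Agent.Lib.Helper1.GenFibND
import Groth.Agent.Lib.Helper1.GenFibCover
import Groth.Agent.Lib.Helper1.GenFin

/-!
# Scheme theoretic density of an open in the generic fibre spreads out (helper1)
-/

set_option autoImplicit false
universe u
open AlgebraicGeometry CategoryTheory TopologicalSpace Opposite Limits TensorProduct

namespace Groth.Agent.H1.GenFib

/-- only `0` is killed by powers of all elements of `S`. -/
def TorsFree {B : Type*} [CommRing B] (S : Set B) : Prop :=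
  ∀ b : B, (∀ t ∈ S, ∃ n : ℕ, t ^ n * b = 0) → b = 0

/-- restriction of a section to a union of basic opens vanishes iff it is killed by powers. -/
theorem res_eq_zero_iff_of_isAffine {Z : Scheme.{u}} [IsAffine Z] (O : Z.Opens)
    (S : Set Γ(Z, ⊤)) (hO : O = ⨆ t : S, Z.basicOpen (t : Γ(Z, ⊤))) (x : Γ(Z, ⊤)) :
    Z.presheaf.map (homOfLE (le_top : O ≤ ⊤)).op x = 0 ↔ ∀ t ∈ S, ∃ n : ℕ, t ^ n * x = 0 := by
  have hle : ∀ t : S, Z.basicOpen (t : Γ(Z, ⊤)) ≤ O := by
    intro t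
    rw [hO]
    exact le_iSup (fun t : S => Z.basicOpen (t : Γ(Z, ⊤))) t
  have hcomp : ∀ t : S, Z.presheaf.map (homOfLE (hle t)).op
      (Z.presheaf.map (homOfLE (le_top : O ≤ ⊤)).op x) =
      Z.presheaf.map (homOfLE (le_top : Z.basicOpen (t : Γ(Z, ⊤)) ≤ ⊤)).op x := by
    intro t
    rw [← CommRingCat.comp_apply, ← Functor.map_comp]
    rfl
  constructor
  · intro hx t ht
    apply exists_pow_mul_eq_zero_of_res_basicOpen_eq_zero_of_isCompact Z
      (U := ⊤) (isCompact_univ) x t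
    have := hcomp ⟨t, ht⟩
    rw [hx, map_zero] at this
    exact this.symm
  · intro h
    have key : ∀ t : S, Z.presheaf.map (homOfLE (hle t)).op
        (Z.presheaf.map (homOfLE (le_top : O ≤ ⊤)).op x) = 0 := by
      intro t
      rw [hcomp]
      obtain ⟨n, hn⟩ := h t.1 t.2
      have hu := RingedSpace.isUnit_res_basicOpen Z.toRingedSpace (U := ⊤) (t : Γ(Z, ⊤))
      have h1 := congrArg (Z.presheaf.map (homOfLE (le_top : Z.basicOpen (t : Γ(Z, ⊤)) ≤ ⊤)).op) hn
      rw [map_mul, map_pow, map_zero] at h1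
      exact (hu.pow n).mul_right_eq_zero.mp h1
    refine Z.sheaf.eq_of_locally_eq' (fun t : S => Z.basicOpen (t : Γ(Z, ⊤))) O
      (fun t => homOfLE (hle t)) (by rw [hO]) _ _ ?_
    intro t
    exact (key t).trans (map_zero _).symm



theorem isSchemeTheoreticallyDominant_ι_iff_of_isAffine {Z : Scheme.{u}} [IsAffine Z]
    (O : Z.Opens) (S : Set Γ(Z, ⊤)) (hO : O = ⨆ t : S, Z.basicOpen (t : Γ(Z, ⊤))) :
    IsSchemeTheoreticallyDominant O.ι ↔ TorsFree S := by
  have hker : IsSchemeTheoreticallyDominant O.ι ↔ RingHom.ker O.ι.appTop.hom = ⊥ := by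
    constructor
    · intro h
      have h1 := h.ker_eq_bot
      rw [Scheme.ker_of_isAffine] at h1
      have h2 := congrArg (fun I => I.ideal ⟨⊤, isAffineOpen_top Z⟩) h1
      simpa using h2
    · intro h
      refine ⟨?_⟩
      rw [Scheme.ker_of_isAffine, h]
      exact Scheme.IdealSheafData.ext_of_isAffine (by simp)
  have happ : ∀ x : Γ(Z, ⊤), O.ι.appTop.hom x = 0 ↔
      Z.presheaf.map (homOfLE (le_top : O ≤ ⊤)).op x = 0 := by
    intro x
    rw [Scheme.Opens.ι_appTop]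
    have aux : ∀ (O' : Z.Opens) (h : O' = O),
        (Z.presheaf.map (homOfLE (le_top : O' ≤ ⊤)).op x = 0 ↔
          Z.presheaf.map (homOfLE (le_top : O ≤ ⊤)).op x = 0) := by
      intro O' h
      subst h
      rfl
    exact aux _ (Scheme.Opens.ι_image_top O)
  rw [hker, ← RingHom.injective_iff_ker_eq_bot, injective_iff_map_eq_zero]
  constructor
  · intro h b hb
    apply h b
    rw [happ, res_eq_zero_iff_of_isAffine O S hO]
    exact hb
  · intro h x hx
    apply h x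
    rw [happ, res_eq_zero_iff_of_isAffine O S hO] at hx
    exact hx



theorem torsFree_image_iff {B B' : Type*} [CommRing B] [CommRing B'] (e : B ≃+* B') (S : Set B) :
    TorsFree (e '' S) ↔ TorsFree S := by
  constructor
  · intro h b hb
    have := h (e b) (by
      rintro _ ⟨t, ht, rfl⟩
      obtain ⟨n, hn⟩ := hb t ht
      exact ⟨n, by rw [← map_pow, ← map_mul, hn, map_zero]⟩)
    exact e.injective (this.trans (map_zero e).symm)
  · intro h b' hb'
    obtain ⟨b, rfl⟩ := e.surjective b'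
    rw [h b (by
      intro t ht
      obtain ⟨n, hn⟩ := hb' (e t) ⟨t, ht, rfl⟩
      refine ⟨n, e.injective ?_⟩
      rw [map_mul, map_pow, hn, map_zero]), map_zero]

theorem isSchemeTheoreticallyDominant_preimage_iff {A B : CommRingCat.{u}} (φ : A ⟶ B)
    (OA : (Spec A).Opens) :
    IsSchemeTheoreticallyDominant ((Spec.map φ ⁻¹ᵁ OA).ι) ↔
      TorsFree (φ.hom '' (PrimeSpectrum.vanishingIdeal ((OA : Set (Spec A))ᶜ) : Set A)) := by
  set 𝔞 : Ideal A := PrimeSpectrum.vanishingIdeal ((OA : Set (Spec A))ᶜ) with h𝔞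
  rw [← torsFree_image_iff (Scheme.ΓSpecIso B).commRingCatIsoToRingEquiv.symm]
  apply isSchemeTheoreticallyDominant_ι_iff_of_isAffine
  ext P
  have hcl : PrimeSpectrum.zeroLocus (𝔞 : Set A) = (OA : Set (Spec A))ᶜ := by
    rw [h𝔞, PrimeSpectrum.zeroLocus_vanishingIdeal_eq_closure]
    exact (OA.isOpen.isClosed_compl).closure_eq
  simp only [SetLike.mem_coe]
  rw [Opens.mem_iSup]
  constructor
  · intro hP
    have h1 : (Spec.map φ) P ∉ (OA : Set (Spec A))ᶜ := fun h => h hP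
    rw [← hcl] at h1
    change ¬ (_ ∈ PrimeSpectrum.zeroLocus (𝔞 : Set A)) at h1
    rw [PrimeSpectrum.mem_zeroLocus, Set.not_subset] at h1
    obtain ⟨a, ha, haP⟩ := h1
    refine ⟨⟨_, ⟨φ.hom a, ⟨a, ha, rfl⟩, rfl⟩⟩, ?_⟩
    change P ∈ (Spec B).basicOpen ((Scheme.ΓSpecIso B).inv (φ.hom a))
    rw [basicOpen_eq_of_affine]
    exact haP
  · rintro ⟨⟨_, ⟨_, ⟨a, ha, rfl⟩, rfl⟩⟩, hP⟩
    change P ∈ (Spec B).basicOpen ((Scheme.ΓSpecIso B).inv (φ.hom a)) at hP
    rw [basicOpen_eq_of_affine] at hP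
    by_contra hcon
    have h1 : (Spec.map φ) P ∈ (OA : Set (Spec A))ᶜ := hcon
    rw [← hcl] at h1
    exact hP (h1 ha)

/-- in a noetherian ring, an ideal generated by a set `S` with `TorsFree S` contains a
nonzerodivisor. -/
theorem exists_nzd_of_torsFree {B : Type*} [CommRing B] [IsNoetherianRing B] (S : Set B)
    (h : TorsFree S) : ∃ t ∈ Ideal.span S, ∀ z : B, t * z = 0 → z = 0 := by
  classical
  have hfin := associatedPrimes.finite B B
  have hJ : ∀ p ∈ associatedPrimes B B, ¬ Ideal.span S ≤ p := by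
    intro p hp hle
    rw [AssociatedPrimes.mem_iff, isAssociatedPrime_iff] at hp
    obtain ⟨hpp, m, rfl⟩ := hp
    have hm : m = 0 := by
      apply h
      intro t ht
      refine ⟨1, ?_⟩
      have := hle (Ideal.subset_span ht)
      rw [Submodule.mem_colon_singleton, Submodule.mem_bot, smul_eq_mul] at this
      rw [pow_one]; exact this
    apply hpp.ne_top
    rw [Ideal.eq_top_iff_one, Submodule.mem_colon_singleton, hm, smul_zero]
    exact Submodule.zero_mem _
  have hav : ¬ ((Ideal.span S : Set B) ⊆ ⋃ i ∈ (↑hfin.toFinset : Set (Ideal B)), (id i : Ideal B)) := by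
    rw [Ideal.subset_union_prime (f := id) ⊥ ⊥
      (fun i hi _ _ => ((AssociatedPrimes.mem_iff).mp (hfin.mem_toFinset.mp hi)).isPrime)]
    rintro ⟨q, hq, hJq'⟩
    exact hJ q (hfin.mem_toFinset.mp hq) hJq'
  rw [Set.not_subset] at hav
  obtain ⟨t, htJ, htn⟩ := hav
  refine ⟨t, htJ, ?_⟩
  have ht : t ∈ nonZeroDivisors B := by
    by_contra hcon
    have : t ∈ ((nonZeroDivisors B : Set B))ᶜ := hcon
    rw [← biUnion_associatedPrimes_eq_compl_nonZeroDivisors] at this
    apply htn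
    simp only [Set.mem_iUnion] at this ⊢
    obtain ⟨p, hp, htp⟩ := this
    exact ⟨p, hfin.mem_toFinset.mpr hp, htp⟩
  intro z hz
  exact (mul_left_mem_nonZeroDivisors_eq_zero_iff ht).mp hz

theorem exists_forall_torsFree (R A K : Type u) [CommRing R] [CommRing A] [Algebra R A]
    [Algebra.FiniteType R A] [Field K] [Algebra R K]
    (hker : ∀ r : R, algebraMap R K r = 0 → IsNilpotent r)
    (hfrac : ∀ z : K, ∃ a b : R, algebraMap R K b ≠ 0 ∧ z * algebraMap R K b = algebraMap R K a)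
    (J : Ideal A)
    (h : TorsFree ((Algebra.TensorProduct.includeRight : A →ₐ[R] K ⊗[R] A) '' (J : Set A))) :
    ∃ g : R, algebraMap R K g ≠ 0 ∧ ∀ (L : Type u) [Field L] [Algebra R L],
      algebraMap R L g ≠ 0 →
        TorsFree ((Algebra.TensorProduct.includeRight : A →ₐ[R] L ⊗[R] A) '' (J : Set A)) := by
  haveI : IsNoetherianRing (K ⊗[R] A) := Algebra.FiniteType.isNoetherianRing K (K ⊗[R] A)
  obtain ⟨t, htJ, ht⟩ := exists_nzd_of_torsFree _ h
  have htJ' : t ∈ J.map (Algebra.TensorProduct.includeRight : A →ₐ[R] K ⊗[R] A) := htJ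
  obtain ⟨s, a, hs, haJ, hsa⟩ := exists_smul_eq_one_tmul_of_mem_map hfrac J t htJ'
  have ha : ∀ z : K ⊗[R] A, ((1 : K) ⊗ₜ[R] a) * z = 0 → z = 0 := by
    intro z hz
    apply ht z
    rw [← hsa, smul_mul_assoc, ← algebraMap_smul K s] at hz
    have := congrArg (fun w => (algebraMap R K s)⁻¹ • w) hz
    simp only [smul_zero] at this
    rwa [smul_smul, inv_mul_cancel₀ hs, one_smul] at this
  obtain ⟨g, hg, H⟩ := exists_forall_nzd R A K hker a ha
  refine ⟨g, hg, ?_⟩
  intro L _ _ hL b hb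
  obtain ⟨n, hn⟩ := hb ((1 : L) ⊗ₜ[R] a) ⟨a, haJ, rfl⟩
  exact nzd_pow _ (H L hL) n b hn

/-- scheme theoretic density of an open passes to open subschemes. -/
theorem isSchemeTheoreticallyDominant_preimage_ι {T Z : Scheme.{u}} (j : T ⟶ Z)
    [IsOpenImmersion j] (O : Z.Opens) [QuasiCompact O.ι] [IsSchemeTheoreticallyDominant O.ι] :
    IsSchemeTheoreticallyDominant (j ⁻¹ᵁ O).ι :=
  IsSchemeTheoreticallyDominant.of_isPullback (isPullback_morphismRestrict j O)

/-- scheme theoretic density of an open can be checked on an open cover by affines. -/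
theorem isSchemeTheoreticallyDominant_ι_of_cover {Z : Scheme.{u}} (O : Z.Opens)
    [QuasiCompact O.ι] {ι : Type*} (B : ι → CommRingCat.{u}) (j : ∀ i, Spec (B i) ⟶ Z)
    [∀ i, IsOpenImmersion (j i)] (hcov : ∀ z : Z, ∃ i, z ∈ Set.range (j i))
    (h : ∀ i, IsSchemeTheoreticallyDominant (j i ⁻¹ᵁ O).ι) :
    IsSchemeTheoreticallyDominant O.ι := by
  refine ⟨?_⟩
  refine Scheme.IdealSheafData.ext_of_iSup_eq_top
    (fun i => ⟨j i ''ᵁ ⊤, (isAffineOpen_top _).image_of_isOpenImmersion (j i)⟩) ?_ ?_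
  · rw [eq_top_iff]
    intro z _
    obtain ⟨i, t, rfl⟩ := hcov z
    rw [Opens.mem_iSup]
    exact ⟨i, ⟨t, trivial, rfl⟩⟩
  · intro i
    have H := Scheme.ker_ideal_of_isPullback_of_isOpenImmersion O.ι (j i ⁻¹ᵁ O).ι
      (j i ∣_ O) (j i) (isPullback_morphismRestrict (j i) O).flip ⟨⊤, isAffineOpen_top _⟩
    rw [(h i).ker_eq_bot] at H
    simp only [Scheme.IdealSheafData.ideal_bot, Pi.bot_apply] at H ⊢
    have hbij := ConcreteCategory.bijective_of_isIso ((j i).appIso ⊤).inv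
    rw [eq_bot_iff]
    intro x hx
    obtain ⟨x', rfl⟩ := hbij.2 x
    have : x' ∈ (⊥ : Ideal _) := by
      rw [H]
      exact hx
    rw [Ideal.mem_bot] at this
    rw [this, map_zero]
    exact Ideal.zero_mem _


variable {X Y : Scheme.{u}}

instance isLocallyNoetherian_fiber (f : X ⟶ Y) [LocallyOfFiniteType f] (y : Y) :
    IsLocallyNoetherian (f.fiber y) := by
  delta Scheme.Hom.fiber
  infer_instance

/-- scheme theoretic density on an affine piece of a fibre, in algebraic terms. -/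
theorem exists_piece_std_iff (f : X ⟶ Y) {U : X.Opens} {W : Y.Opens}
    (hU : IsAffineOpen U) (hW : IsAffineOpen W) (e : U ≤ f ⁻¹ᵁ W) (y : Y) (hy : y ∈ W)
    (O : X.Opens) :
    letI := (f.appLE W U e).hom.toAlgebra
    letI := (Y.evaluation W y hy).hom.toAlgebra
    ∃ j : Spec (CommRingCat.of ((Y.residueField y) ⊗[Γ(Y, W)] Γ(X, U))) ⟶ f.fiber y,
      IsOpenImmersion j ∧ Set.range j = (f.fiberι y) ⁻¹' (U : Set X) ∧
      (IsSchemeTheoreticallyDominant (j ⁻¹ᵁ (f.fiberι y ⁻¹ᵁ O)).ι ↔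
        TorsFree ((Algebra.TensorProduct.includeRight :
          Γ(X, U) →ₐ[Γ(Y, W)] (Y.residueField y) ⊗[Γ(Y, W)] Γ(X, U)) ''
            ((PrimeSpectrum.vanishingIdeal
              ((hU.fromSpec ⁻¹ᵁ O : (Spec Γ(X, U)).Opens) : Set (Spec Γ(X, U)))ᶜ :
                Ideal Γ(X, U)) : Set Γ(X, U)))) := by
  letI := (f.appLE W U e).hom.toAlgebra
  letI := (Y.evaluation W y hy).hom.toAlgebra
  have sq := (CommRingCat.isPushout_tensorProduct Γ(Y, W) (Y.residueField y) Γ(X, U)).flip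
  obtain ⟨j, hjo, hj1, -, hjr⟩ := exists_fiberPiece f hU hW e y hy _ _ sq
  refine ⟨j, hjo, hjr, ?_⟩
  have hpre : j ⁻¹ᵁ (f.fiberι y ⁻¹ᵁ O) =
      (Spec.map (CommRingCat.ofHom (S := (Y.residueField y) ⊗[Γ(Y, W)] Γ(X, U))
          (Algebra.TensorProduct.includeRight :
            Γ(X, U) →ₐ[Γ(Y, W)] (Y.residueField y) ⊗[Γ(Y, W)] Γ(X, U)).toRingHom)) ⁻¹ᵁ
        (hU.fromSpec ⁻¹ᵁ O) := by
    rw [← Scheme.Hom.comp_preimage, ← Scheme.Hom.comp_preimage, hj1]
  rw [hpre]
  exact isSchemeTheoreticallyDominant_preimage_iff _ _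

/-- scheme theoretic density spreads out on an affine piece. -/
theorem exists_basicOpen_piece_std (f : X ⟶ Y) [IrreducibleSpace Y]
    [LocallyOfFiniteType f] {U : X.Opens} {W : Y.Opens} (hU : IsAffineOpen U)
    (hW : IsAffineOpen W) (e : U ≤ f ⁻¹ᵁ W) (hη : genericPoint Y ∈ W) (O : X.Opens)
    (h : IsSchemeTheoreticallyDominant (f.fiberι (genericPoint Y) ⁻¹ᵁ O).ι) :
    ∃ g : Γ(Y, W), genericPoint Y ∈ Y.basicOpen g ∧ ∀ y ∈ Y.basicOpen g,
      ∃ (B : CommRingCat.{u}) (j : Spec B ⟶ f.fiber y), IsOpenImmersion j ∧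
        Set.range j = (f.fiberι y) ⁻¹' (U : Set X) ∧
        IsSchemeTheoreticallyDominant (j ⁻¹ᵁ (f.fiberι y ⁻¹ᵁ O)).ι := by
  letI algA := (f.appLE W U e).hom.toAlgebra
  letI algK := (Y.evaluation W (genericPoint Y) hη).hom.toAlgebra
  haveI : Algebra.FiniteType Γ(Y, W) Γ(X, U) := f.finiteType_appLE hW hU e
  obtain ⟨j, hjo, hjr, hiff⟩ := exists_piece_std_iff f hU hW e (genericPoint Y) hη O
  have h0 := hiff.mp (isSchemeTheoreticallyDominant_preimage_ι j _)
  obtain ⟨g, hg, H⟩ := exists_forall_torsFree Γ(Y, W) Γ(X, U)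
    (Y.residueField (genericPoint Y))
    (fun r hr => isNilpotent_of_evaluation_genericPoint hW hη r hr)
    (fun z => Groth.Agent.H1.GenFin.exists_frac_evaluation hW (genericPoint Y) hη z)
    _ h0
  refine ⟨g, (Scheme.evaluation_ne_zero_iff_mem_basicOpen Y _ hη g).mp hg, ?_⟩
  intro y hy
  have hyW : y ∈ W := Y.basicOpen_le g hy
  letI algy := (Y.evaluation W y hyW).hom.toAlgebra
  obtain ⟨j', hjo', hjr', hiff'⟩ := exists_piece_std_iff f hU hW e y hyW O
  exact ⟨_, j', hjo', hjr', hiff'.mpr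
    (H (Y.residueField y) ((Scheme.evaluation_ne_zero_iff_mem_basicOpen Y y hyW g).mpr hy))⟩

/-- **Scheme theoretic density of an open in the generic fibre spreads out.** -/
theorem exists_open_forall_isSchemeTheoreticallyDominant (f : X ⟶ Y) [IrreducibleSpace Y]
    [LocallyOfFiniteType f] [QuasiCompact f] (O : X.Opens)
    (h : IsSchemeTheoreticallyDominant (f.fiberι (genericPoint Y) ⁻¹ᵁ O).ι) :
    ∃ V : Y.Opens, genericPoint Y ∈ V ∧
      ∀ y ∈ V, IsSchemeTheoreticallyDominant (f.fiberι y ⁻¹ᵁ O).ι := by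
  obtain ⟨W, hW, s, -, hs, V, hηV, hVW, hV⟩ := exists_cover_of_forall_affine f
    (fun U y => ∃ (B : CommRingCat.{u}) (j : Spec B ⟶ f.fiber y), IsOpenImmersion j ∧
        Set.range j = (f.fiberι y) ⁻¹' (U : Set X) ∧
        IsSchemeTheoreticallyDominant (j ⁻¹ᵁ (f.fiberι y ⁻¹ᵁ O)).ι)
    (fun {U W} hU hW e hη => exists_basicOpen_piece_std f hU hW e hη O h)
  refine ⟨V, hηV, ?_⟩
  intro y hy
  have H := hV y hy
  choose B j hjo hjr hstd using H
  haveI : ∀ i : s, IsOpenImmersion (j i.1 i.2) := fun i => hjo i.1 i.2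
  refine isSchemeTheoreticallyDominant_ι_of_cover _ (fun i : s => B i.1 i.2)
    (fun i : s => j i.1 i.2) ?_ (fun i => hstd i.1 i.2)
  intro x
  have hxW : f (f.fiberι y x) ∈ W := by
    rw [fiberι_apply_mem]; exact hVW hy
  obtain ⟨i, hi, hxi⟩ := exists_mem_of_mem_preimage f hs _ hxW
  refine ⟨⟨i, hi⟩, ?_⟩
  rw [hjr i hi]
  exact hxi

end Groth.Agent.H1.GenFib
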