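import Mathlib
import Groth.Prelude
import Groth.Agent.Lib.Helper7.GorEt
import Groth.Agent.Lib.Helper8.AlgLCI.Basic
import Groth.Agent.Lib.Helper3.Residual.FieldStalk
import Groth.Agent.Lib.Helper1.CMQF
import Groth.Agent.Lib.Helper1.GenFibSTD
import Groth.Agent.Lib.Helper1.DimFormula4
import Groth.Agent.Lib.Helper6.Liai3

/-! Étale-local properties (Cohen–Macaulay, Gorenstein, lci) of the classifying morphism
`h_X ⟶ h_{Spec k}` of a scheme over a field point (helper1). -/

set_option autoImplicit false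
set_option linter.style.haveILetI false

universe u

open CategoryTheory CategoryTheory.Limits AlgebraicGeometry IsLocalRing

namespace Groth.Agent.H1.CurvePtLoc

open Groth.Agent.H7.GorEt Groth.Agent.H7.GorFib Groth.Agent.H1.CMFib Groth.Agent.H1.FibreStalk
  Groth.Agent.H1.CMBC

theorem cm_of_isField {K : Type u} [CommRing K] (hK : IsField K) :
    LocCoh.IsCohenMacaulayLocalRing K := by
  letI := hK.toField
  exact Groth.Agent.H1.CMQF.cmLocal_of_dim_zero K
    (Groth.Agent.H3.Residual.ringKrullDim_eq_zero_of_isField' hK)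

section Square

variable {U V W : Scheme.{u}}

theorem cmAt_comp_etale_source_iff {U'' : Scheme.{u}} (p : U'' ⟶ U) [Etale p] (h : U ⟶ V)
    (r : U'')
    [IsNoetherianRing ((h.fiber (h (p r))).presheaf.stalk (h.asFiber (p r)))]
    [IsNoetherianRing (((p ≫ h).fiber ((p ≫ h) r)).presheaf.stalk ((p ≫ h).asFiber r))] :
    MoreMor.IsCMAt (p ≫ h) r ↔ MoreMor.IsCMAt h (p r) := by
  have hp : (p.stalkMap r).hom.Flat := Flat.stalkMap p r
  have key := cm_fiber_comp_iff_sch p h r hp
  constructor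
  · intro hg
    exact ⟨Groth.Agent.H1.EtNhd.stalk_flat_of_comp h p r hp hg.1, (key.mp hg.2).1⟩
  · intro hg
    exact ⟨flat_stalkMap_comp' p h r hp hg.1,
      key.mpr ⟨hg.2, cm_of_isField (isField_fiberStalk_of_etale p r)⟩⟩

theorem cmAt_comp_etale_target_iff (h : U ⟶ V) (q : V ⟶ W) [Etale q] (r : U)
    [IsNoetherianRing (((h ≫ q).fiber ((h ≫ q) r)).presheaf.stalk ((h ≫ q).asFiber r))] :
    MoreMor.IsCMAt (h ≫ q) r ↔ MoreMor.IsCMAt h r := by
  have hq : LocCoh.IsCohenMacaulayLocalRing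
      ((q.fiber (q (h r))).presheaf.stalk (q.asFiber (h r))) :=
    cm_of_isField (isField_fiberStalk_of_etale q (h r))
  haveI : IsNoetherianRing ((q.fiber (q (h r))).presheaf.stalk (q.asFiber (h r))) :=
    hq.toIsNoetherian
  constructor
  · intro hg
    have hfl := flat_of_comp_etale h q r hg.1
    exact ⟨hfl, ((cm_fiber_comp_iff_sch h q r hfl).mp hg.2).2⟩
  · intro hg
    exact ⟨flat_stalkMap_comp' h q r hg.1 (Flat.stalkMap q _),
      (cm_fiber_comp_iff_sch h q r hg.1).mpr ⟨hq, hg.2⟩⟩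

theorem cmAt_congr {h h' : U ⟶ V} (e : h = h') (r : U) :
    MoreMor.IsCMAt h r ↔ MoreMor.IsCMAt h' r := by
  subst e; rfl

/-- Cohen–Macaulayness at a point is invariant under étale squares. -/
theorem cmAt_etale_square {U'' V'' : Scheme.{u}} (h : U ⟶ V) (h'' : U'' ⟶ V'') (p : U'' ⟶ U)
    (q : V'' ⟶ V) [Etale p] [Etale q] (comm : h'' ≫ q = p ≫ h) (r : U'')
    (hN1 : ∀ v, IsLocallyNoetherian (h.fiber v))
    (hN2 : ∀ v, IsLocallyNoetherian ((p ≫ h).fiber v)) :
    MoreMor.IsCMAt h'' r ↔ MoreMor.IsCMAt h (p r) := by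
  haveI := hN1 (h (p r))
  haveI := hN2 ((p ≫ h) r)
  haveI : IsLocallyNoetherian ((h'' ≫ q).fiber ((h'' ≫ q) r)) := by
    have := hN2 ((h'' ≫ q) r)
    rw [← comm] at this
    exact this
  haveI : IsNoetherianRing ((h.fiber (h (p r))).presheaf.stalk (h.asFiber (p r))) :=
    inferInstance
  haveI : IsNoetherianRing (((p ≫ h).fiber ((p ≫ h) r)).presheaf.stalk ((p ≫ h).asFiber r)) :=
    inferInstance
  haveI : IsNoetherianRing
      (((h'' ≫ q).fiber ((h'' ≫ q) r)).presheaf.stalk ((h'' ≫ q).asFiber r)) := inferInstance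
  rw [← cmAt_comp_etale_target_iff h'' q r, cmAt_congr comm r,
    cmAt_comp_etale_source_iff p h r]

end Square

section Pt

variable {k : Type u} [Field k] {X : Scheme.{u}} (p : X ⟶ Spec (CommRingCat.of k))

theorem isField_stalk_spec (y : Spec (CommRingCat.of k)) :
    IsField ((Spec (CommRingCat.of k)).presheaf.stalk y) := by
  let y' : PrimeSpectrum k := y
  have hp : y'.asIdeal.IsPrime := y'.isPrime
  show IsField ((Spec.structureSheaf k).presheaf.stalk y')
  have hloc : IsLocalization.AtPrime ((Spec.structureSheaf k).presheaf.stalk y') y'.asIdeal :=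
    inferInstance
  have hM : y'.asIdeal.primeCompl ≤ IsUnit.submonoid k := by
    intro a ha
    have ha0 : a ≠ 0 := by
      rintro rfl
      exact ha (Ideal.zero_mem _)
    exact ha0.isUnit
  let e2 : k ≃ₐ[k] ((Spec.structureSheaf k).presheaf.stalk y') :=
    IsLocalization.atUnits k y'.asIdeal.primeCompl hM
  exact e2.symm.toMulEquiv.isField (Field.toIsField k)

/-- the fibre local ring of `p : X ⟶ Spec k` at `x` is `O_{X,x}`. -/
theorem nonempty_fiberStalkEquiv_field (x : X) :
    Nonempty (X.presheaf.stalk x ≃+* (p.fiber (p x)).presheaf.stalk (p.asFiber x)) := by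
  have hm : maximalIdeal ((Spec (CommRingCat.of k)).presheaf.stalk (p x)) = ⊥ :=
    IsLocalRing.isField_iff_maximalIdeal_eq.mp (isField_stalk_spec (p x))
  have hmap : (maximalIdeal ((Spec (CommRingCat.of k)).presheaf.stalk (p x))).map
      (p.stalkMap x).hom = ⊥ := by rw [hm, Ideal.map_bot]
  exact ⟨((RingEquiv.quotientBot _).symm.trans (Ideal.quotEquivOfEq hmap.symm)).trans
    (fiberStalkEquiv p x)⟩

theorem cmAt_iff_field (x : X) :
    MoreMor.IsCMAt p x ↔ LocCoh.IsCohenMacaulayLocalRing (X.presheaf.stalk x) := by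
  obtain ⟨e⟩ := nonempty_fiberStalkEquiv_field p x
  haveI := Groth.Agent.H1.DimFormula.flat_of_field p
  constructor
  · intro h
    haveI := h.2
    exact Groth.Agent.H6.Liai.cmLocal_of_ringEquiv e.symm
  · intro h
    haveI := h
    exact ⟨Flat.stalkMap p x, Groth.Agent.H6.Liai.cmLocal_of_ringEquiv e⟩

theorem gorAt_iff_field (x : X) :
    Dual3.IsGorensteinAt p x ↔ LocCoh.IsGorensteinLocalRing (X.presheaf.stalk x) := by
  obtain ⟨e⟩ := nonempty_fiberStalkEquiv_field p x
  haveI := Groth.Agent.H1.DimFormula.flat_of_field p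
  constructor
  · intro h
    exact (gor_iff_of_ringEquiv e).mpr h.2
  · intro h
    exact ⟨Flat.stalkMap p x, (gor_iff_of_ringEquiv e).mp h⟩

/-- unwinding `LocP` for the morphism `h_X ⟶ h_{Spec k}`. -/
theorem locP_pt_iff {S : Scheme.{u}} (t : Spec (CommRingCat.of k) ⟶ S)
    (Q : ∀ {U V : Scheme.{u}}, (U ⟶ V) → U → Prop)
    (hQ : ∀ {U V : Scheme.{u}} (h : U ⟶ V) (a : U ⟶ X) (b : V ⟶ Spec (CommRingCat.of k))
      [Etale a] [Etale b], h ≫ b = a ≫ p → (∀ x : X, Q p x) → ∀ r : U, Q h r) :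
    AlgSp.LocP (fun _ _ g => ∀ x, Q g x)
      ((AlgSp.yon S).map (Over.homMk p rfl : Over.mk (p ≫ t) ⟶ Over.mk t)) ↔
      ∀ x : X, Q p x := by
  constructor
  · intro h
    exact AlgSp.locP_yon_map h
  · intro hX U V a b h ha hb comm u
    let a' : U ⟶ Over.mk (p ≫ t) := (AlgSp.yon S).preimage a
    let b' : V ⟶ Over.mk t := (AlgSp.yon S).preimage b
    have ha' : (AlgSp.yon S).map a' = a := (AlgSp.yon S).map_preimage a
    have hb' : (AlgSp.yon S).map b' = b := (AlgSp.yon S).map_preimage b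
    have ha2 : AlgSp.RepWith @Etale ((AlgSp.yon S).map a') := by rw [ha']; exact ha
    have hb2 : AlgSp.RepWith @Etale ((AlgSp.yon S).map b') := by rw [hb']; exact hb
    haveI : Etale a'.left := (AlgSp.repWith_yon_map_iff @Etale a').mp ha2
    haveI : Etale b'.left := (AlgSp.repWith_yon_map_iff @Etale b').mp hb2
    have comm' : h ≫ b' = a' ≫ (Over.homMk p rfl : Over.mk (p ≫ t) ⟶ Over.mk t) := by
      apply (AlgSp.yon S).map_injective
      rw [Functor.map_comp, Functor.map_comp, ha', hb']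
      exact comm.symm
    have comm'' : h.left ≫ b'.left = a'.left ≫ p := by
      have := congrArg (fun φ => φ.left) comm'
      simpa using this
    exact hQ h.left a'.left b'.left comm'' hX u

end Pt

section Main

variable (S : Scheme.{u}) (k : Type u) [Field k] (t : Spec (CommRingCat.of k) ⟶ S)
  (X : Scheme.{u}) (p : X ⟶ Spec (CommRingCat.of k)) [LocallyOfFiniteType p]

theorem isLocallyNoetherian_fiber' {A B : Scheme.{u}} (f : A ⟶ B) [LocallyOfFiniteType f] (y : B) :
    IsLocallyNoetherian (f.fiber y) := by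
  delta Scheme.Hom.fiber
  infer_instance

theorem s17306 :
    AlgSp.LocP (fun _ _ g => ∀ x, MoreMor.IsCMAt g x)
      ((AlgSp.yon S).map (Over.homMk p rfl : Over.mk (p ≫ t) ⟶ Over.mk t)) ↔
      ∀ x : ↥X, LocCoh.IsCohenMacaulayLocalRing (X.presheaf.stalk x) := by
  refine (locP_pt_iff p t (Q := @MoreMor.IsCMAt) ?_).trans ?_
  · intro U V h a b _ _ comm hX r
    exact (cmAt_etale_square p h a b comm r (fun v => isLocallyNoetherian_fiber' p v)
      (fun v => isLocallyNoetherian_fiber' (a ≫ p) v)).mpr (hX (a r))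
  · exact forall_congr' (fun x => cmAt_iff_field p x)

theorem s17307 :
    AlgSp.LocP (fun _ _ g => ∀ x, (g.stalkMap x).hom.Flat ∧
        LocCoh.IsGorensteinLocalRing ((g.fiber (g x)).presheaf.stalk (g.asFiber x)))
      ((AlgSp.yon S).map (Over.homMk p rfl : Over.mk (p ≫ t) ⟶ Over.mk t)) ↔
      ∀ x : ↥X, LocCoh.IsGorensteinLocalRing (X.presheaf.stalk x) := by
  refine (locP_pt_iff p t (Q := @Dual3.IsGorensteinAt) ?_).trans ?_
  · intro U V h a b _ _ comm hX r
    exact (gorAt_etale_square p h a b comm r (fun v => isLocallyNoetherian_fiber' p v)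
      (fun v => isLocallyNoetherian_fiber' (a ≫ p) v)).mpr (hX (a r))
  · exact forall_congr' (fun x => gorAt_iff_field p x)

omit [LocallyOfFiniteType p] in
open Groth.Agent.H8.LCIHom Groth.Agent.H8.KosQuot in
theorem s17308 :
    AlgSp.IsLCIMor ((AlgSp.yon S).map (Over.homMk p rfl : Over.mk (p ≫ t) ⟶ Over.mk t)) ↔
      ∀ x : ↥X, Synt.IsKoszulAt p x := by
  refine locP_pt_iff p t (Q := @Synt.IsKoszulAt) ?_
  intro U V h a b _ _ comm hX r
  have h1 : LCIP p := lcip_of_forall_isKoszulAt p hX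
  have h2 : LCIP a := lcip_of_smooth a
  have h3 : LCIP (h ≫ b) := by
    rw [comm]
    exact lcip_comp a p h2 h1
  exact isKoszulAt_of_lcip_comp_smooth h b h3 r

end Main

end Groth.Agent.H1.CurvePtLoc
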