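import Mathlib
import Groth.Prelude
import Groth.Agent.Lib.Helper5.Lim.ReducedLimit
import Groth.Agent.Lib.Helper3.FBaseDim
import Groth.Agent.Lib.Helper3.FBaseDim2

/-! Unwinding `CurvSt.GeomFib` for the classifying object of a scheme over a field point of the
base, and the resulting characterisations (helper1). -/

set_option autoImplicit false

universe u

open CategoryTheory CategoryTheory.Limits AlgebraicGeometry

namespace Groth.Agent.H1.GeomFibPt

variable {S : Scheme.{u}}

theorem isPullback_yon_map_iff {P X Y Z : Over S} (fst : P ⟶ X) (snd : P ⟶ Y) (f : X ⟶ Z)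
    (g : Y ⟶ Z) :
    IsPullback ((AlgSp.yon S).map fst) ((AlgSp.yon S).map snd) ((AlgSp.yon S).map f)
      ((AlgSp.yon S).map g) ↔ IsPullback fst snd f g := by
  constructor
  · intro h
    have w : fst ≫ f = snd ≫ g := (AlgSp.yon S).map_injective (by
      rw [Functor.map_comp, Functor.map_comp]; exact h.w)
    exact IsPullback.of_map (AlgSp.yon S) w h
  · intro h
    exact h.map (AlgSp.yon S)

theorem isPullback_left_iff {P X Y Z : Over S} (fst : P ⟶ X) (snd : P ⟶ Y) (f : X ⟶ Z)
    (g : Y ⟶ Z) : IsPullback fst.left snd.left f.left g.left ↔ IsPullback fst snd f g := by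
  constructor
  · intro h
    have w : fst ≫ f = snd ≫ g := Over.OverMorphism.ext (by simpa using h.w)
    exact IsPullback.of_map (Over.forget S) w h
  · intro h
    exact h.map (Over.forget S)

/-- unwinding of `GeomFib` for a scheme family over a field point. -/
theorem geomFib_iff (k : Type u) [Field k] (t : Spec (CommRingCat.of k) ⟶ S) (X : Scheme.{u})
    (p : X ⟶ Spec (CommRingCat.of k))
    (P : ∀ (Ω : Type u) [Field Ω] [IsAlgClosed Ω] (X' : Scheme.{u}),
      (X' ⟶ Spec (CommRingCat.of Ω)) → Prop) :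
    CurvSt.GeomFib (fun Ω _ _ X' q _ => P Ω X' q)
      ((CurvSt.toSpFam S 0).obj ⟨Over.mk t, X, p, Fin.elim0, fun i => i.elim0⟩) ↔
    ∀ (Ω : Type u) [Field Ω] [IsAlgClosed Ω]
      (t' : Spec (CommRingCat.of Ω) ⟶ Spec (CommRingCat.of k))
      (X' : Scheme.{u}) (q : X' ⟶ Spec (CommRingCat.of Ω)) (i : X' ⟶ X),
      IsPullback i q p t' → P Ω X' q := by
  let A₀ : CurvSt.PtFamObj S 0 := ⟨Over.mk t, X, p, Fin.elim0, fun i => i.elim0⟩
  let A := (CurvSt.toSpFam S 0).obj A₀
  constructor
  · intro h Ω _ _ t' X' q i sq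
    let i' : A.ptOver (q ≫ t') ⟶ A₀.totOver := Over.homMk i (by
      show i ≫ (p ≫ t) = (q ≫ t') ≫ t
      rw [← Category.assoc, sq.w, Category.assoc])
    have sq' : IsPullback i' (A.fibHom t' q) A₀.fOver (A.ptHom t') :=
      (isPullback_left_iff i' (A.fibHom t' q) A₀.fOver (A.ptHom t')).mp sq
    exact h Ω t' X' q ((AlgSp.yon S).map i') (sq'.map (AlgSp.yon S))
  · intro h Ω _ _ t' X' q i hP
    show P Ω X' q
    let i' : A.ptOver (q ≫ t') ⟶ A₀.totOver := (AlgSp.yon S).preimage i
    have hi : (AlgSp.yon S).map i' = i := (AlgSp.yon S).map_preimage i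
    have hP' : IsPullback ((AlgSp.yon S).map i') ((AlgSp.yon S).map (A.fibHom t' q))
        ((AlgSp.yon S).map A₀.fOver) ((AlgSp.yon S).map (A.ptHom t')) := by
      rw [hi]
      exact hP
    have sq' := (isPullback_yon_map_iff _ _ _ _).mp hP'
    have sq : IsPullback i'.left q p t' :=
      (isPullback_left_iff i' (A.fibHom t' q) A₀.fOver (A.ptHom t')).mpr sq'
    exact h Ω t' X' q i'.left sq

section FieldExt

variable {K : Type u} [Field K] {Z : Scheme.{u}} (snd : Z ⟶ Spec (CommRingCat.of K))

/-- the map `Spec K̄ ⟶ Spec K`. -/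
noncomputable abbrev jbar (K : Type u) [Field K] :
    Spec (CommRingCat.of (AlgebraicClosure K)) ⟶ Spec (CommRingCat.of K) :=
  Spec.map (CommRingCat.ofHom (algebraMap K (AlgebraicClosure K)))

theorem flat_fst_jbar : Flat (pullback.fst snd (jbar K)) :=
  Groth.Agent.H1.FibDimBC.flat_of_isPullback_field
    (CommRingCat.ofHom (algebraMap K (AlgebraicClosure K))) snd (pullback.snd snd (jbar K))
    (pullback.fst snd (jbar K)) (IsPullback.of_hasPullback snd (jbar K))

theorem surjective_fst_jbar : Function.Surjective (pullback.fst snd (jbar K)) :=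
  Groth.Agent.H3.FBaseDim.surjective_of_isPullback_field
    (CommRingCat.ofHom (algebraMap K (AlgebraicClosure K))) snd (pullback.snd snd (jbar K))
    (pullback.fst snd (jbar K)) (IsPullback.of_hasPullback snd (jbar K))

end FieldExt

theorem s17309 (S : Scheme.{u}) (k : Type u) [Field k] (t : Spec (CommRingCat.of k) ⟶ S)
    (X : Scheme.{u}) (p : X ⟶ Spec (CommRingCat.of k)) :
    CurvSt.GeomFib (fun _ _ _ X' _ _ => IsReduced X')
      ((CurvSt.toSpFam S 0).obj ⟨Over.mk t, X, p, Fin.elim0, fun i => i.elim0⟩) ↔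
      GeometricallyReduced p := by
  refine (geomFib_iff k t X p (fun _ _ _ X' _ => IsReduced X')).trans ?_
  constructor
  · intro h
    refine ⟨fun K _ y Z fst snd sq => ?_⟩
    have big : IsPullback (pullback.fst snd (jbar K) ≫ fst) (pullback.snd snd (jbar K)) p
        (jbar K ≫ y) := (IsPullback.of_hasPullback snd (jbar K)).paste_horiz sq
    haveI : IsReduced (pullback snd (jbar K)) := h (AlgebraicClosure K) (jbar K ≫ y) _ _ _ big
    haveI := flat_fst_jbar snd
    haveI : Surjective (pullback.fst snd (jbar K)) := ⟨surjective_fst_jbar snd⟩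
    exact Groth.Agent.H5.Lim.isReduced_of_flat_of_surjective (pullback.fst snd (jbar K))
  · intro h Ω _ _ t' X' q i sq
    exact h.geometrically_isReduced t' i q sq

theorem s17310 (S : Scheme.{u}) (k : Type u) [Field k] (t : Spec (CommRingCat.of k) ⟶ S)
    (X : Scheme.{u}) (p : X ⟶ Spec (CommRingCat.of k)) [LocallyOfFiniteType p] :
    CurvSt.GeomFib (fun _ _ _ X' _ _ => IsReduced X' ∧ ConnectedSpace ↥X' ∧
        topologicalKrullDim ↥X' = 1)
      ((CurvSt.toSpFam S 0).obj ⟨Over.mk t, X, p, Fin.elim0, fun i => i.elim0⟩) ↔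
      GeometricallyReduced p ∧ GeometricallyConnected p ∧ topologicalKrullDim ↥X = 1 := by
  refine (geomFib_iff k t X p (fun _ _ _ X' _ => IsReduced X' ∧ ConnectedSpace ↥X' ∧
        topologicalKrullDim ↥X' = 1)).trans ?_
  constructor
  · intro h
    refine ⟨⟨fun K _ y Z fst snd sq => ?_⟩, ⟨fun K _ y Z fst snd sq => ?_⟩, ?_⟩
    · have big : IsPullback (pullback.fst snd (jbar K) ≫ fst) (pullback.snd snd (jbar K)) p
          (jbar K ≫ y) := (IsPullback.of_hasPullback snd (jbar K)).paste_horiz sq
      haveI : IsReduced (pullback snd (jbar K)) :=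
        (h (AlgebraicClosure K) (jbar K ≫ y) _ _ _ big).1
      haveI := flat_fst_jbar snd
      haveI : Surjective (pullback.fst snd (jbar K)) := ⟨surjective_fst_jbar snd⟩
      exact Groth.Agent.H5.Lim.isReduced_of_flat_of_surjective (pullback.fst snd (jbar K))
    · have big : IsPullback (pullback.fst snd (jbar K) ≫ fst) (pullback.snd snd (jbar K)) p
          (jbar K ≫ y) := (IsPullback.of_hasPullback snd (jbar K)).paste_horiz sq
      haveI : ConnectedSpace ↥(pullback snd (jbar K)) :=
        (h (AlgebraicClosure K) (jbar K ≫ y) _ _ _ big).2.1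
      exact (surjective_fst_jbar snd).connectedSpace (pullback.fst snd (jbar K)).continuous
    · have sq := IsPullback.of_hasPullback p (jbar k)
      have h1 := (h (AlgebraicClosure k) (jbar k) _ _ _ sq).2.2
      rw [← h1]
      exact (Groth.Agent.H3.FBaseDim.dim_of_isPullback_field
        (CommRingCat.ofHom (algebraMap k (AlgebraicClosure k))) p (pullback.snd p (jbar k))
        (pullback.fst p (jbar k)) sq).symm
  · rintro ⟨h1, h2, h3⟩ Ω _ _ t' X' q i sq
    refine ⟨h1.geometrically_isReduced t' i q sq, h2.geometrically_connectedSpace t' i q sq, ?_⟩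
    have ht' : Spec.map (Spec.preimage t') = t' := Spec.map_preimage t'
    have sq2 : IsPullback i q p (Spec.map (Spec.preimage t')) := by rw [ht']; exact sq
    rw [← h3]
    exact Groth.Agent.H3.FBaseDim.dim_of_isPullback_field (Spec.preimage t') p q i sq2

end Groth.Agent.H1.GeomFibPt
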