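import Mathlib
import Groth.Agent.Lib.Helper1.EquidimLoc
import Groth.Agent.Lib.Helper1.DimLocG
import Groth.Agent.Lib.Helper1.DimLocD
import Groth.Agent.Lib.Helper1.DimLocF
import Groth.Agent.Lib.Helper1.ClosureDim
import Groth.Agent.Lib.Helper1.Chev4
import Groth.Agent.Lib.Helper3.AG.FibreDim
import Groth.Agent.Lib.Helper5.Catenary
import Groth.Agent.Lib.Helper6.Catenary

/-! Dimension theory over Jacobson universally catenary bases with equicodimensional components
(EGA IV 10.6.1, helper1). -/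

set_option autoImplicit false
set_option linter.style.haveILetI false

universe u

open CategoryTheory AlgebraicGeometry TopologicalSpace Topology

namespace Groth.Agent.H1.JacDim

open Groth.Agent.H1.EquidimLoc Groth.Agent.H1.DimLoc Groth.Agent.H1.DimIneq

/-- **Additivity of relative heights** below a prime whose local ring is Noetherian and catenary. -/
theorem height_map_mk_add {A : Type u} [CommRing A] (p₀ p₁ p₂ : Ideal A) [p₀.IsPrime]
    [p₁.IsPrime] [p₂.IsPrime] (h01 : p₀ ≤ p₁) (h12 : p₁ ≤ p₂)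
    (hN : IsNoetherianRing (Localization.AtPrime p₂))
    (hcat : CAlg.IsCatenary (Localization.AtPrime p₂)) :
    (p₂.map (Ideal.Quotient.mk p₀)).height =
      (p₁.map (Ideal.Quotient.mk p₀)).height + (p₂.map (Ideal.Quotient.mk p₁)).height := by
  have h02 : p₀ ≤ p₂ := h01.trans h12
  set L := Localization.AtPrime p₂ with hL
  have hd0 : Disjoint (p₂.primeCompl : Set A) p₀ := by
    rw [Set.disjoint_left]; intro r hr hr0; exact hr (h02 hr0)
  have hd1 : Disjoint (p₂.primeCompl : Set A) p₁ := by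
    rw [Set.disjoint_left]; intro r hr hr0; exact hr (h12 hr0)
  set P₀ : Ideal L := p₀.map (algebraMap A L) with hP₀
  set P₁ : Ideal L := p₁.map (algebraMap A L) with hP₁
  haveI hP₀p : P₀.IsPrime := IsLocalization.isPrime_of_isPrime_disjoint p₂.primeCompl L p₀
    inferInstance hd0
  haveI hP₁p : P₁.IsPrime := IsLocalization.isPrime_of_isPrime_disjoint p₂.primeCompl L p₁
    inferInstance hd1
  have hP01 : P₀ ≤ P₁ := Ideal.map_mono h01
  have hu1 : P₁.under A = p₁ :=
    IsLocalization.under_map_of_isPrime_disjoint p₂.primeCompl L inferInstance hd1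
  haveI : IsLocalRing (L ⧸ P₀) :=
    IsLocalRing.of_surjective' (Ideal.Quotient.mk P₀) Ideal.Quotient.mk_surjective
  have hcat'' : CAlg.IsCatenary (L ⧸ P₀) := Groth.Agent.H5.isCatenary_quotient L P₀ hcat
  have heq : ∀ p ∈ minimalPrimes (L ⧸ P₀), ringKrullDim ((L ⧸ P₀) ⧸ p) = ringKrullDim (L ⧸ P₀) := by
    intro p hp
    have hpb : p = ⊥ := by
      have h1 : (⊥ : Ideal (L ⧸ P₀)) ≤ p := bot_le
      exact le_antisymm (hp.2 ⟨Ideal.isPrime_bot, le_refl _⟩ h1) h1
    rw [hpb]
    exact ringKrullDim_eq_of_ringEquiv (RingEquiv.quotientBot (L ⧸ P₀))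
  haveI hQp : (P₁.map (Ideal.Quotient.mk P₀)).IsPrime :=
    Ideal.map_isPrime_of_surjective Ideal.Quotient.mk_surjective (by rw [Ideal.mk_ker]; exact hP01)
  set Q : PrimeSpectrum (L ⧸ P₀) := ⟨P₁.map (Ideal.Quotient.mk P₀), hQp⟩ with hQ
  have key := Groth.Agent.H6.Cat.height_add_coheight hcat'' heq Q
  -- the three terms
  have t1 : ringKrullDim (L ⧸ P₀) = ((p₂.map (Ideal.Quotient.mk p₀)).height : WithBot ℕ∞) :=
    ringKrullDim_localization_quotient p₀ p₂ h02
  have t2 : (Order.coheight Q : WithBot ℕ∞) =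
      ((p₂.map (Ideal.Quotient.mk p₁)).height : WithBot ℕ∞) := by
    rw [← Groth.Agent.H6.Cat.ringKrullDim_quotient_eq_coheight Q,
      ← ringKrullDim_localization_quotient p₁ p₂ h12]
    exact ringKrullDim_eq_of_ringEquiv (DoubleQuot.quotQuotEquivQuotOfLE hP01)
  have t3 : Q.asIdeal.height = (p₁.map (Ideal.Quotient.mk p₀)).height := by
    have h1 := IsLocalization.height_under (Algebra.algebraMapSubmonoid (A ⧸ p₀) p₂.primeCompl)
      (A := L ⧸ P₀) Q.asIdeal
    rw [← h1]
    congr 1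
    ext x
    obtain ⟨a, rfl⟩ := Ideal.Quotient.mk_surjective x
    rw [Ideal.under_def, Ideal.mem_comap, Ideal.mem_quotient_iff_mem h01]
    change algebraMap (A ⧸ p₀) (L ⧸ P₀) (Ideal.Quotient.mk p₀ a) ∈ P₁.map (Ideal.Quotient.mk P₀) ↔ _
    have : algebraMap (A ⧸ p₀) (L ⧸ P₀) (Ideal.Quotient.mk p₀ a) =
        Ideal.Quotient.mk P₀ (algebraMap A L a) := rfl
    rw [this, Ideal.mem_quotient_iff_mem hP01, ← hu1, Ideal.under_def, Ideal.mem_comap]
  rw [t1] at key
  have key' : ((Q.asIdeal.height + Order.coheight Q : ℕ∞) : WithBot ℕ∞) =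
      ((Q.asIdeal.height : ℕ∞) : WithBot ℕ∞) + (Order.coheight Q : WithBot ℕ∞) := by
    push_cast; rfl
  rw [key', t2, t3, ← WithBot.coe_add] at key
  exact (WithBot.coe_injective key).symm

variable {S : Scheme.{u}}

/-- the space of points between `σ₀` and `s` (generizations of `s` inside the closure of `σ₀`) has
dimension the relative height `ht (p_s / p_σ₀)`. -/
theorem dim_between_eq_height {V : S.Opens} (hV : IsAffineOpen V) (s σ₀ : S) (hs : s ∈ V)
    (hσ : σ₀ ∈ V) (hsp : σ₀ ⤳ s) :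
    topologicalKrullDim ↥{t : S | σ₀ ⤳ t ∧ t ⤳ s} =
      (((hV.primeIdealOf ⟨s, hs⟩).asIdeal.map
        (Ideal.Quotient.mk (hV.primeIdealOf ⟨σ₀, hσ⟩).asIdeal)).height : WithBot ℕ∞) := by
  set p₂ := (hV.primeIdealOf ⟨s, hs⟩).asIdeal with hp₂
  set p₀ := (hV.primeIdealOf ⟨σ₀, hσ⟩).asIdeal with hp₀
  have h02 : p₀ ≤ p₂ := primeIdealOf_le_of_specializes hV s σ₀ hs hσ hsp
  rw [← ringKrullDim_localization_quotient p₀ p₂ h02,
    ← PrimeSpectrum.topologicalKrullDim_eq_ringKrullDim]
  set L := Localization.AtPrime p₂ with hL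
  set P₀ : Ideal L := p₀.map (algebraMap Γ(S, V) L) with hP₀
  have he₁ := PrimeSpectrum.isClosedEmbedding_comap_of_surjective (L ⧸ P₀) (Ideal.Quotient.mk P₀)
    Ideal.Quotient.mk_surjective
  have he₂ := PrimeSpectrum.localization_comap_isEmbedding L p₂.primeCompl
  have he₃ : IsEmbedding hV.fromSpec := hV.fromSpec.isOpenEmbedding.isEmbedding
  set E : PrimeSpectrum (L ⧸ P₀) → S := fun Q =>
    hV.fromSpec (PrimeSpectrum.comap (algebraMap Γ(S, V) L)
      (PrimeSpectrum.comap (Ideal.Quotient.mk P₀) Q)) with hE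
  have hEemb : IsEmbedding E := he₃.comp (he₂.comp he₁.isEmbedding)
  have hrange : Set.range E = {t : S | σ₀ ⤳ t ∧ t ⤳ s} := by
    ext t
    constructor
    · rintro ⟨Q, rfl⟩
      set P : PrimeSpectrum Γ(S, V) := PrimeSpectrum.comap (algebraMap Γ(S, V) L)
        (PrimeSpectrum.comap (Ideal.Quotient.mk P₀) Q) with hP
      have h1 : p₀ ≤ P.asIdeal := by
        intro a ha
        change Ideal.Quotient.mk P₀ (algebraMap Γ(S, V) L a) ∈ Q.asIdeal
        have : algebraMap Γ(S, V) L a ∈ P₀ := Ideal.mem_map_of_mem _ ha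
        rw [Ideal.Quotient.eq_zero_iff_mem.2 this]
        exact Q.asIdeal.zero_mem
      have h2 : P.asIdeal ≤ p₂ := by
        have hmem : P ∈ Set.range (PrimeSpectrum.comap (algebraMap Γ(S, V) L)) := ⟨_, rfl⟩
        rw [PrimeSpectrum.localization_comap_range L p₂.primeCompl] at hmem
        intro a ha
        by_contra hna
        exact Set.disjoint_left.1 hmem hna ha
      constructor
      · have h3 : hV.primeIdealOf ⟨σ₀, hσ⟩ ⤳ P :=
          (PrimeSpectrum.le_iff_specializes (R := Γ(S, V)) _ _).1 h1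
        have := h3.map hV.fromSpec.continuous
        rwa [hV.fromSpec_primeIdealOf] at this
      · have h3 : P ⤳ hV.primeIdealOf ⟨s, hs⟩ :=
          (PrimeSpectrum.le_iff_specializes (R := Γ(S, V)) _ _).1 h2
        have := h3.map hV.fromSpec.continuous
        rwa [hV.fromSpec_primeIdealOf] at this
    · rintro ⟨h1, h2⟩
      have htV : t ∈ V := h2.mem_open V.isOpen hs
      have h3 : p₀ ≤ (hV.primeIdealOf ⟨t, htV⟩).asIdeal :=
        primeIdealOf_le_of_specializes hV t σ₀ htV hσ h1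
      have h4 : (hV.primeIdealOf ⟨t, htV⟩).asIdeal ≤ p₂ :=
        primeIdealOf_le_of_specializes hV s t hs htV h2
      have hmem : hV.primeIdealOf ⟨t, htV⟩ ∈
          Set.range (PrimeSpectrum.comap (algebraMap Γ(S, V) L)) := by
        rw [PrimeSpectrum.localization_comap_range L p₂.primeCompl]
        change Disjoint _ _
        rw [Set.disjoint_left]
        intro a ha hat
        exact ha (h4 hat)
      obtain ⟨P', hP'⟩ := hmem
      have hmem' : P' ∈ Set.range (PrimeSpectrum.comap (Ideal.Quotient.mk P₀)) := by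
        rw [range_comap_of_surjective _ _ Ideal.Quotient.mk_surjective, Ideal.mk_ker,
          PrimeSpectrum.mem_zeroLocus, SetLike.coe_subset_coe, hP₀, Ideal.map_le_iff_le_comap]
        have : P'.asIdeal.comap (algebraMap Γ(S, V) L) = (hV.primeIdealOf ⟨t, htV⟩).asIdeal :=
          congrArg PrimeSpectrum.asIdeal hP'
        rw [this]
        exact h3
      obtain ⟨Q, hQ⟩ := hmem'
      refine ⟨Q, ?_⟩
      change hV.fromSpec (PrimeSpectrum.comap (algebraMap Γ(S, V) L)
        (PrimeSpectrum.comap (Ideal.Quotient.mk P₀) Q)) = t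
      rw [hQ, hP', hV.fromSpec_primeIdealOf]
  rw [← hrange]
  exact (IsHomeomorph.topologicalKrullDim_eq _ hEemb.toHomeomorph.isHomeomorph).symm

variable {X : Scheme.{u}}

/-- a one-point space has dimension zero. -/
theorem topologicalKrullDim_singleton {T : Type*} [TopologicalSpace T] (z : T) :
    topologicalKrullDim ↥({z} : Set T) = 0 := by
  unfold topologicalKrullDim
  haveI : Nonempty (IrreducibleCloseds ↥({z} : Set T)) :=
    ⟨⟨Set.univ, ⟨⟨⟨z, rfl⟩, trivial⟩, (Set.subsingleton_of_subsingleton).isPreirreducible⟩,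
      isClosed_univ⟩⟩
  haveI : Subsingleton (IrreducibleCloseds ↥({z} : Set T)) := by
    constructor
    intro a b
    apply IrreducibleCloseds.ext
    ext w
    have hw : w = ⟨z, rfl⟩ := Subtype.ext w.2
    obtain ⟨a0, ha0⟩ := a.isIrreducible'.nonempty
    obtain ⟨b0, hb0⟩ := b.isIrreducible'.nonempty
    have ha0' : a0 = ⟨z, rfl⟩ := Subtype.ext a0.2
    have hb0' : b0 = ⟨z, rfl⟩ := Subtype.ext b0.2
    rw [hw]
    constructor
    · intro _; rw [← hb0']; exact hb0
    · intro _; rw [← ha0']; exact ha0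
  exact Order.krullDim_eq_zero

/-- the residue field extension at a point closed in its fibre is algebraic. -/
theorem trdeg_eq_zero_of_isClosed (h : X ⟶ S) [LocallyOfFiniteType h] (x : X)
    (hx : IsClosed ({x} : Set X)) :
    @Algebra.trdeg (S.residueField (h x)) (X.residueField x) _ _
      (h.residueFieldMap x).hom.toAlgebra = 0 := by
  obtain ⟨t, ht, hdim⟩ := @Groth.Agent.H1.ClosureDim.exists_trdeg_eq_dim_closure
    (S.residueField (h x)) _ _ (h.fiberToSpecResidueField (h x))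
    (Groth.Agent.H1.Chev.locallyOfFiniteType_fiberToSpecResidueField h (h x)) (h.asFiber x)
  have hcl : IsClosed ({h.asFiber x} : Set (h.fiber (h x))) := by
    have h1 : (h.fiberι (h x)) ⁻¹' {x} = {h.asFiber x} := by
      ext w
      simp only [Set.mem_preimage, Set.mem_singleton_iff]
      constructor
      · intro hw
        apply (h.fiberι (h x)).isEmbedding.injective
        rw [hw, h.fiberι_asFiber]
      · rintro rfl
        exact h.fiberι_asFiber x
    rw [← h1]
    exact hx.preimage (h.fiberι (h x)).continuous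
  rw [hcl.closure_eq, topologicalKrullDim_singleton] at hdim
  have ht0 : t = 0 := by exact_mod_cast hdim.symm
  obtain ⟨θ⟩ := Groth.Agent.H1.DimFormula.exists_residueField_fiber_equiv h x
  letI a1 := (h.residueFieldMap x).hom.toAlgebra
  letI a2 := (Groth.Agent.H1.DimFormula.toResidueField (k := S.residueField (h x))
      (h.fiberToSpecResidueField (h x)) (h.asFiber x)).hom.toAlgebra
  rw [θ.trdeg_eq, ht, ht0]
  rfl

/-- in a locally Noetherian scheme the space of points between two points has finite dimension. -/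
theorem exists_natCast_dim_between {S : Scheme.{u}} [IsLocallyNoetherian S] (σ₀ s : S)
    (hsp : σ₀ ⤳ s) :
    ∃ c : ℕ, topologicalKrullDim ↥{t : S | σ₀ ⤳ t ∧ t ⤳ s} = (c : WithBot ℕ∞) := by
  obtain ⟨V, hV, hsV⟩ : ∃ V : S.Opens, IsAffineOpen V ∧ s ∈ V := by
    obtain ⟨_, ⟨V, hV, rfl⟩, hz, -⟩ :=
      S.isBasis_affineOpens.exists_subset_of_mem_open (Set.mem_univ s) isOpen_univ
    exact ⟨V, hV, hz⟩
  have hσ₀V : σ₀ ∈ V := hsp.mem_open V.isOpen hsV
  haveI : IsNoetherianRing Γ(S, V) := IsLocallyNoetherian.component_noetherian ⟨V, hV⟩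
  rw [dim_between_eq_height hV _ σ₀ hsV hσ₀V hsp]
  have hle := primeIdealOf_le_of_specializes hV _ _ hsV hσ₀V hsp
  have hfin : ((hV.primeIdealOf ⟨s, hsV⟩).asIdeal.map
      (Ideal.Quotient.mk (hV.primeIdealOf ⟨σ₀, hσ₀V⟩).asIdeal)).height ≠ ⊤ :=
    ne_top_of_le_ne_top
      (Ideal.height_ne_top (hV.primeIdealOf ⟨s, hsV⟩).isPrime.ne_top)
      (height_map_mk_le _ _ hle)
  obtain ⟨c, hc⟩ := ENat.ne_top_iff_exists.mp hfin
  exact ⟨c, by rw [← hc]; rfl⟩

/-- **Closed point formula** over a Jacobson universally catenary base whose irreducible components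
are equicodimensional. -/
theorem stalk_dim_add_eq_of_isClosed [IsLocallyNoetherian S] [JacobsonSpace S]
    (h2 : ∀ s : S, CAlg.IsUniversallyCatenary (S.presheaf.stalk s))
    (p : X ⟶ S) [LocallyOfFiniteType p] [IrreducibleSpace X]
    (S' : Set S) (σ₀ : S) (hσ₀ : closure ({σ₀} : Set S) = S')
    (hσS' : p (genericPoint X) ∈ S')
    (h3 : ∀ s ∈ S', IsClosed ({s} : Set S) →
      topologicalKrullDim (↥S' : Type u) = topologicalKrullDim ↥{t : S | t ∈ S' ∧ t ⤳ s})
    (tξ : ℕ) (htξ : @Algebra.trdeg (S.residueField (p (genericPoint X)))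
      (X.residueField (genericPoint X)) _ _ (p.residueFieldMap (genericPoint X)).hom.toAlgebra = tξ)
    (x : X) (hx : IsClosed ({x} : Set X)) :
    ringKrullDim (X.presheaf.stalk x) +
        topologicalKrullDim ↥{t : S | σ₀ ⤳ t ∧ t ⤳ p (genericPoint X)} =
      topologicalKrullDim (↥S' : Type u) + (tξ : WithBot ℕ∞) := by
  have hmemS' : ∀ t : S, t ∈ S' ↔ σ₀ ⤳ t := by
    intro t
    rw [← hσ₀, specializes_iff_mem_closure]
  have hsclosed : IsClosed ({p x} : Set S) :=
    p.closePoints_subset_preimage_closedPoints hx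
  have hξx : genericPoint X ⤳ x := genericPoint_specializes x
  have hσs : p (genericPoint X) ⤳ p x := hξx.map p.continuous
  have hσ₀σ : σ₀ ⤳ p (genericPoint X) := (hmemS' _).1 hσS'
  have hσ₀s : σ₀ ⤳ p x := hσ₀σ.trans hσs
  have hsS' : p x ∈ S' := (hmemS' _).2 hσ₀s
  obtain ⟨V, hV, hsV⟩ : ∃ V : S.Opens, IsAffineOpen V ∧ p x ∈ V := by
    obtain ⟨_, ⟨V, hV, rfl⟩, hz, -⟩ :=
      S.isBasis_affineOpens.exists_subset_of_mem_open (Set.mem_univ (p x)) isOpen_univ
    exact ⟨V, hV, hz⟩
  obtain ⟨U, hU, hxU, eUV⟩ :=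
    exists_isAffineOpen_mem_and_subset (x := x) (U := p ⁻¹ᵁ V) hsV
  have hξU : genericPoint X ∈ U := hξx.mem_open U.isOpen hxU
  have hσ₀V : σ₀ ∈ V := hσ₀s.mem_open V.isOpen hsV
  letI algRS := (p.appLE V U eUV).hom.toAlgebra
  haveI : Algebra.FiniteType Γ(S, V) Γ(X, U) := p.finiteType_appLE hV hU eUV
  haveI : IsNoetherianRing Γ(S, V) := IsLocallyNoetherian.component_noetherian ⟨V, hV⟩
  haveI : IsNoetherianRing Γ(X, U) := Algebra.FiniteType.isNoetherianRing Γ(S, V) Γ(X, U)
  have htx : @Algebra.trdeg (S.residueField (p x)) (X.residueField x) _ _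
      (p.residueFieldMap x).hom.toAlgebra = ((0 : ℕ) : Cardinal) := by
    rw [trdeg_eq_zero_of_isClosed p x hx]; simp
  have hrel := chart_relative_eq_enat p hU hV eUV x (genericPoint X) hxU hξU hξx (h2 (p x))
    0 tξ htx htξ
  have hfinX : ringKrullDim (X.presheaf.stalk x) ≠ ⊤ := by
    rw [ringKrullDim_stalk_eq_height hU x hxU]
    have := Ideal.height_ne_top (hU.primeIdealOf ⟨x, hxU⟩).isPrime.ne_top
    exact_mod_cast this
  rw [height_map_mk_genericPoint hU x hxU hξU hfinX, Nat.cast_zero, add_zero] at hrel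
  have hUC := isUniversallyCatenary_atPrime_of_stalk hV (p x) hsV (h2 (p x))
  have hadd := height_map_mk_add (hV.primeIdealOf ⟨σ₀, hσ₀V⟩).asIdeal
    (hV.primeIdealOf ⟨p (genericPoint X), eUV hξU⟩).asIdeal
    (hV.primeIdealOf ⟨p x, hsV⟩).asIdeal
    (primeIdealOf_le_of_specializes hV _ _ (eUV hξU) hσ₀V hσ₀σ)
    (primeIdealOf_le_of_specializes hV _ _ hsV (eUV hξU) hσs) hUC.1
    (hUC.2 _ inferInstance)
  have hset : {t : S | t ∈ S' ∧ t ⤳ p x} = {t : S | σ₀ ⤳ t ∧ t ⤳ p x} := by
    ext t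
    simp only [Set.mem_ofPred_eq, hmemS']
  rw [h3 (p x) hsS' hsclosed, hset, dim_between_eq_height hV (p x) σ₀ hsV hσ₀V hσ₀s,
    dim_between_eq_height hV (p (genericPoint X)) σ₀ (eUV hξU) hσ₀V hσ₀σ,
    ringKrullDim_stalk_eq_height hU x hxU, hadd, hrel]
  push_cast
  ring

/-- the local rings grow under specialization. -/
theorem stalk_dim_le_of_specializes {x x' : X} (h : x ⤳ x') :
    ringKrullDim (X.presheaf.stalk x) ≤ ringKrullDim (X.presheaf.stalk x') := by
  letI := specializationOrder X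
  rw [ringKrullDim_stalk_eq_coheight, ringKrullDim_stalk_eq_coheight]
  have hle : x' ≤ x := h
  exact_mod_cast Order.coheight_anti hle

/-- **Dimension of an irreducible scheme locally of finite type over a Jacobson universally catenary
base with equicodimensional components.** -/
theorem dim_add_eq [IsLocallyNoetherian S] [JacobsonSpace S]
    (h2 : ∀ s : S, CAlg.IsUniversallyCatenary (S.presheaf.stalk s))
    (p : X ⟶ S) [LocallyOfFiniteType p] [IrreducibleSpace X]
    (S' : Set S) (σ₀ : S) (hσ₀ : closure ({σ₀} : Set S) = S')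
    (hσS' : p (genericPoint X) ∈ S')
    (h3 : ∀ s ∈ S', IsClosed ({s} : Set S) →
      topologicalKrullDim (↥S' : Type u) = topologicalKrullDim ↥{t : S | t ∈ S' ∧ t ⤳ s})
    (tξ : ℕ) (htξ : @Algebra.trdeg (S.residueField (p (genericPoint X)))
      (X.residueField (genericPoint X)) _ _ (p.residueFieldMap (genericPoint X)).hom.toAlgebra = tξ) :
    topologicalKrullDim X +
        topologicalKrullDim ↥{t : S | σ₀ ⤳ t ∧ t ⤳ p (genericPoint X)} =
      topologicalKrullDim (↥S' : Type u) + (tξ : WithBot ℕ∞) := by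
  haveI : JacobsonSpace X := LocallyOfFiniteType.jacobsonSpace p
  have hK := stalk_dim_add_eq_of_isClosed h2 p S' σ₀ hσ₀ hσS' h3 tξ htξ
  -- the constant `c` is a natural number
  have hσ₀σ : σ₀ ⤳ p (genericPoint X) := by
    rw [specializes_iff_mem_closure, hσ₀]; exact hσS'
  obtain ⟨c, hc⟩ : ∃ c : ℕ, topologicalKrullDim ↥{t : S | σ₀ ⤳ t ∧ t ⤳ p (genericPoint X)} =
      (c : WithBot ℕ∞) := by
    obtain ⟨V, hV, hsV⟩ : ∃ V : S.Opens, IsAffineOpen V ∧ p (genericPoint X) ∈ V := by
      obtain ⟨_, ⟨V, hV, rfl⟩, hz, -⟩ :=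
        S.isBasis_affineOpens.exists_subset_of_mem_open (Set.mem_univ (p (genericPoint X)))
          isOpen_univ
      exact ⟨V, hV, hz⟩
    have hσ₀V : σ₀ ∈ V := hσ₀σ.mem_open V.isOpen hsV
    haveI : IsNoetherianRing Γ(S, V) := IsLocallyNoetherian.component_noetherian ⟨V, hV⟩
    rw [dim_between_eq_height hV _ σ₀ hsV hσ₀V hσ₀σ]
    have hle := primeIdealOf_le_of_specializes hV _ _ hsV hσ₀V hσ₀σ
    have hfin : ((hV.primeIdealOf ⟨p (genericPoint X), hsV⟩).asIdeal.map
        (Ideal.Quotient.mk (hV.primeIdealOf ⟨σ₀, hσ₀V⟩).asIdeal)).height ≠ ⊤ :=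
      ne_top_of_le_ne_top
        (Ideal.height_ne_top (hV.primeIdealOf ⟨p (genericPoint X), hsV⟩).isPrime.ne_top)
        (height_map_mk_le _ _ hle)
    obtain ⟨c, hc⟩ := ENat.ne_top_iff_exists.mp hfin
    exact ⟨c, by rw [← hc]; rfl⟩
  rw [hc] at hK ⊢
  -- a closed point
  obtain ⟨x₀, hx₀⟩ : (closedPoints X).Nonempty := by
    by_contra hne
    rw [Set.not_nonempty_iff_eq_empty] at hne
    have := closure_closedPoints (X := X)
    rw [hne, closure_empty] at this
    exact Set.empty_ne_univ this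
  have hx₀' : IsClosed ({x₀} : Set X) := hx₀
  have hle : ∀ x : X, ringKrullDim (X.presheaf.stalk x) ≤ ringKrullDim (X.presheaf.stalk x₀) := by
    intro x
    obtain ⟨x', hx'cl, hx'⟩ := nonempty_inter_closedPoints (X := X)
      (Z := closure ({x} : Set X)) ⟨x, subset_closure rfl⟩ isClosed_closure.isLocallyClosed
    have hx'c : IsClosed ({x'} : Set X) := hx'
    have hsp : x ⤳ x' := by rw [specializes_iff_mem_closure]; exact hx'cl
    refine (stalk_dim_le_of_specializes hsp).trans (le_of_eq ?_)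
    apply Groth.Agent.H1.DimLoc.withBot_add_natCast_cancel c
    rw [hK x' hx'c, hK x₀ hx₀']
  have hdim : topologicalKrullDim X = ringKrullDim (X.presheaf.stalk x₀) := by
    rw [Groth.Agent.H3.FibreDim.scheme_dim_eq_iSup_stalk]
    exact le_antisymm (iSup_le hle) (le_iSup (fun z : X => ringKrullDim (X.presheaf.stalk z)) x₀)
  rw [hdim]
  exact hK x₀ hx₀'

end Groth.Agent.H1.JacDim
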