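import Mathlib
import Groth.Prelude
import Groth.Agent.Lib.Helper1.GeomFibPt
import Groth.Agent.Lib.Helper1.UOVal
import Groth.Agent.Lib.Helper1.CurveFin
import Groth.Agent.Lib.Helper1.JacDim

/-! The non-smooth locus under extension of the base field; the substack of curves with isolated
singularities at a field point (helper1). -/

set_option autoImplicit false
set_option linter.style.haveILetI false

universe u

open CategoryTheory CategoryTheory.Limits AlgebraicGeometry TopologicalSpace

namespace Groth.Agent.H1.CurvePtSing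

open Groth.Agent.H1.GeomFibPt

section General

variable {X' Y : Scheme.{u}}

/-- the non-smooth set of a morphism. -/
def Sing (q : X' ⟶ Y) : Set X' := {x | ¬ ∃ U : X'.Opens, x ∈ U ∧ Smooth (U.ι ≫ q)}

theorem isClosed_sing (q : X' ⟶ Y) : IsClosed (Sing q) := by
  rw [← isOpen_compl_iff, isOpen_iff_forall_mem_open]
  intro x hx
  have hx' : ∃ U : X'.Opens, x ∈ U ∧ Smooth (U.ι ≫ q) := by
    by_contra hcon
    exact hx hcon
  obtain ⟨U, hxU, hU⟩ := hx'
  exact ⟨U, fun y hy hy' => hy' ⟨U, hy, hU⟩, U.isOpen, hxU⟩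

set_option backward.isDefEq.respectTransparency.types false in
theorem smooth_restrict_of_forall (q : X' ⟶ Y) (V : X'.Opens)
    (hV : ∀ x' ∈ V, ∃ U' : X'.Opens, x' ∈ U' ∧ Smooth (U'.ι ≫ q)) : Smooth (V.ι ≫ q) := by
  choose U' hxU' hsm using hV
  refine IsZariskiLocalAtSource.of_iSup_eq_top (P := @Smooth)
    (fun v : V => V.ι ⁻¹ᵁ (U' v.1 v.2)) ?_ ?_
  · rw [eq_top_iff]
    rintro w -
    rw [Opens.mem_iSup]
    exact ⟨w, hxU' w.1 w.2⟩
  · intro v
    have e : (V.ι ⁻¹ᵁ U' v.1 v.2).ι ≫ V.ι = (V.ι ∣_ U' v.1 v.2) ≫ (U' v.1 v.2).ι :=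
      (morphismRestrict_ι V.ι (U' v.1 v.2)).symm
    rw [← Category.assoc, e, Category.assoc]
    exact IsZariskiLocalAtSource.comp (hsm v.1 v.2) _

theorem isClosed_singleton_of_mem_finite_closed {T : Type*} [TopologicalSpace T]
    [JacobsonSpace T] (F : Set T) (hF : F.Finite) (hcl : IsClosed F) (x : T) (hx : x ∈ F) :
    IsClosed ({x} : Set T) := by
  have hsub : closure ({x} : Set T) ⊆ F := hcl.closure_subset_iff.mpr (by simpa using hx)
  have h1 := JacobsonSpace.closure_inter_closedPoints (X := T) (Z := closure {x}) isClosed_closure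
  have hfin : (closure ({x} : Set T) ∩ closedPoints T).Finite :=
    hF.subset (fun y hy => hsub hy.1)
  have hcl2 : IsClosed (closure ({x} : Set T) ∩ closedPoints T) := by
    rw [← Set.biUnion_of_singleton (closure ({x} : Set T) ∩ closedPoints T)]
    exact hfin.isClosed_biUnion (fun y hy => hy.2)
  rw [hcl2.closure_eq] at h1
  have hx2 : x ∈ closure ({x} : Set T) ∩ closedPoints T := by
    rw [h1]
    exact subset_closure rfl
  exact hx2.2

end General

section BC

variable {k Ω : Type u} [Field k] [Field Ω] {X X' : Scheme.{u}}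
  {p : X ⟶ Spec (CommRingCat.of k)} {q : X' ⟶ Spec (CommRingCat.of Ω)} {i : X' ⟶ X}
  {t' : Spec (CommRingCat.of Ω) ⟶ Spec (CommRingCat.of k)} (sq : IsPullback i q p t')

include sq

theorem isPullback_restrict (U : X.Opens) :
    IsPullback (i ∣_ U) ((i ⁻¹ᵁ U).ι ≫ q) (U.ι ≫ p) t' :=
  (isPullback_morphismRestrict i U).paste_vert sq

theorem smooth_preimage (U : X.Opens) (hU : Smooth (U.ι ≫ p)) :
    Smooth ((i ⁻¹ᵁ U).ι ≫ q) :=
  MorphismProperty.of_isPullback (P := @Smooth) (isPullback_restrict sq U) hU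

theorem sing_subset_preimage : Sing q ⊆ i ⁻¹' Sing p := by
  intro x' hx'
  show ¬ ∃ U : X.Opens, i x' ∈ U ∧ Smooth (U.ι ≫ p)
  rintro ⟨U, hxU, hU⟩
  exact hx' ⟨i ⁻¹ᵁ U, hxU, smooth_preimage sq U hU⟩

theorem smooth_of_preimage (hs : Surjective t') (hf : Flat t') (hqc : QuasiCompact t')
    (U : X.Opens) (h : Smooth ((i ⁻¹ᵁ U).ι ≫ q)) : Smooth (U.ι ≫ p) :=
  MorphismProperty.of_isPullback_of_descendsAlong (P := @Smooth)
    (Q := @Surjective ⊓ @Flat ⊓ @QuasiCompact)
    (isPullback_restrict sq U).flip ⟨⟨hs, hf⟩, hqc⟩ h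

theorem sing_subset_image (hcl : IsClosedMap i) (hs : Surjective t') (hf : Flat t')
    (hqc : QuasiCompact t') : Sing p ⊆ i '' Sing q := by
  intro x hx
  by_contra hcon
  apply hx
  have hC : IsClosed (i '' Sing q) := hcl _ (isClosed_sing q)
  let U : X.Opens := ⟨(i '' Sing q)ᶜ, hC.isOpen_compl⟩
  refine ⟨U, hcon, ?_⟩
  apply smooth_of_preimage sq hs hf hqc U
  apply smooth_restrict_of_forall
  intro x' hx'
  by_contra hns
  exact hx' ⟨x', hns, rfl⟩

theorem finite_sing_of_finite [LocallyOfFiniteType p] [QuasiCompact p]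
    (hF : (Sing p).Finite) : (Sing q).Finite := by
  refine (hF.preimage' ?_).subset (sing_subset_preimage sq)
  intro x hx
  haveI : JacobsonSpace X := LocallyOfFiniteType.jacobsonSpace p
  have hxc : IsClosed ({x} : Set X) :=
    isClosed_singleton_of_mem_finite_closed (Sing p) hF (isClosed_sing p) x hx
  have ht' : Spec.map (Spec.preimage t') = t' := Spec.map_preimage t'
  have sq2 : IsPullback i q p (Spec.map (Spec.preimage t')) := by rw [ht']; exact sq
  have hdim := Groth.Agent.H1.UOVal.dim_preimage_closed_of_isPullback_field (Spec.preimage t')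
    p q i sq2 {x} hxc
  rw [Groth.Agent.H1.JacDim.topologicalKrullDim_singleton] at hdim
  haveI : LocallyOfFiniteType q :=
    MorphismProperty.of_isPullback (P := @LocallyOfFiniteType) sq inferInstance
  haveI : QuasiCompact q :=
    MorphismProperty.of_isPullback (P := @QuasiCompact) sq inferInstance
  haveI : IsLocallyNoetherian X' := LocallyOfFiniteType.isLocallyNoetherian q
  haveI : CompactSpace X' := QuasiCompact.compactSpace_of_compactSpace q
  haveI : IsNoetherian X' := {}
  haveI : Finite ↥(i ⁻¹' {x}) := Groth.Agent.H1.CurveFin.finite_of_dim_le_zero hdim.le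
  exact Set.toFinite _

end BC

theorem s17311 (S : Scheme.{u}) (k : Type u) [Field k] (t : Spec (CommRingCat.of k) ⟶ S)
    (X : Scheme.{u}) (p : X ⟶ Spec (CommRingCat.of k)) [LocallyOfFiniteType p] [QuasiCompact p] :
    CurvSt.GeomFib (fun _ _ _ X' q _ =>
        Set.Finite {x : ↥X' | ¬ ∃ U : X'.Opens, x ∈ U ∧ Smooth (U.ι ≫ q)})
      ((CurvSt.toSpFam S 0).obj ⟨Over.mk t, X, p, Fin.elim0, fun i => i.elim0⟩) ↔
      Set.Finite {x : ↥X | ¬ ∃ U : X.Opens, x ∈ U ∧ Smooth (U.ι ≫ p)} := by
  refine (geomFib_iff k t X p (fun _ _ _ X' q =>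
    Set.Finite {x : ↥X' | ¬ ∃ U : X'.Opens, x ∈ U ∧ Smooth (U.ι ≫ q)})).trans ?_
  constructor
  · intro h
    have sq := IsPullback.of_hasPullback p (jbar k)
    have hfin : (Sing (pullback.snd p (jbar k))).Finite :=
      h (AlgebraicClosure k) (jbar k) _ _ _ sq
    haveI hint : IsIntegralHom (jbar k) := by
      rw [IsIntegralHom.SpecMap_iff]
      exact algebraMap_isIntegral_iff.mpr inferInstance
    haveI : IsIntegralHom (pullback.fst p (jbar k)) := inferInstance
    have hcl : IsClosedMap (pullback.fst p (jbar k)) := (pullback.fst p (jbar k)).isClosedMap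
    have hs : Surjective (jbar k) := by
      refine ⟨fun y => ?_⟩
      have hsub : Subsingleton (Spec (.of k)) := inferInstanceAs (Subsingleton (PrimeSpectrum k))
      obtain ⟨x⟩ : Nonempty (Spec (.of (AlgebraicClosure k))) :=
        inferInstanceAs (Nonempty (PrimeSpectrum (AlgebraicClosure k)))
      exact ⟨x, Subsingleton.elim _ _⟩
    have hf : Flat (jbar k) := Groth.Agent.H1.DimFormula.flat_of_field _
    have hqc : QuasiCompact (jbar k) := inferInstance
    exact (hfin.image _).subset (sing_subset_image sq hcl hs hf hqc)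
  · intro hF Ω _ _ t' X' q i sq
    exact finite_sing_of_finite sq hF

end Groth.Agent.H1.CurvePtSing
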