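import Mathlib
import Groth.Prelude.Def_CycDet

/-!
# Determinants of finite length modules: basic API (helper1)
-/

set_option autoImplicit false
universe u v w

namespace Groth.Agent.H1.CycDetA

open IsLocalRing CycDet

variable {R : Type u} [CommRing R] [IsLocalRing R] {M : Type v} [AddCommGroup M] [Module R M]

section Span

variable {l : ℕ}

lemma spanBefore_mono (e : Fin l → M) {i j : ℕ} (h : i ≤ j) :
    spanBefore R M e i ≤ spanBefore R M e j := by
  apply Submodule.span_mono
  apply Set.image_mono
  intro k hk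
  exact lt_of_lt_of_le hk h

lemma mem_spanBefore (e : Fin l → M) {j : Fin l} {i : ℕ} (h : (j : ℕ) < i) :
    e j ∈ spanBefore R M e i :=
  Submodule.subset_span ⟨j, h, rfl⟩

lemma spanBefore_zero (e : Fin l → M) : spanBefore R M e 0 = ⊥ := by
  unfold spanBefore
  have : {j : Fin l | (j : ℕ) < 0} = ∅ := by
    ext j; simp
  rw [this, Set.image_empty, Submodule.span_empty]

lemma spanBefore_of_ge (e : Fin l → M) {i : ℕ} (h : l ≤ i) :
    spanBefore R M e i = Submodule.span R (Set.range e) := by
  unfold spanBefore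
  have : {j : Fin l | (j : ℕ) < i} = Set.univ := by
    ext j; simp; omega
  rw [this, Set.image_univ]

lemma spanBefore_succ (e : Fin l → M) (i : Fin l) :
    spanBefore R M e ((i : ℕ) + 1) = spanBefore R M e i ⊔ Submodule.span R {e i} := by
  unfold spanBefore
  have : {j : Fin l | (j : ℕ) < (i : ℕ) + 1} = {j : Fin l | (j : ℕ) < i} ∪ {i} := by
    ext j
    simp only [Set.mem_setOf_eq, Set.union_singleton, Set.mem_insert_iff]
    constructor
    · intro h
      rcases Nat.lt_succ_iff_lt_or_eq.1 h with h1 | h1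
      · right; exact h1
      · left; exact Fin.ext h1
    · rintro (h | h)
      · rw [h]; omega
      · omega
  rw [this, Set.image_union, Submodule.span_union, Set.image_singleton]

lemma spanBefore_le_range (e : Fin l → M) (i : ℕ) :
    spanBefore R M e i ≤ Submodule.span R (Set.range e) := by
  apply Submodule.span_mono
  rintro _ ⟨j, _, rfl⟩
  exact ⟨j, rfl⟩

lemma spanBefore_congr (e e' : Fin l → M) (i : ℕ)
    (h : ∀ j : Fin l, (j : ℕ) < i → e j = e' j) :
    spanBefore R M e i = spanBefore R M e' i := by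
  unfold spanBefore
  congr 1
  ext x
  constructor
  · rintro ⟨j, hj, rfl⟩
    exact ⟨j, hj, (h j hj).symm⟩
  · rintro ⟨j, hj, rfl⟩
    exact ⟨j, hj, h j hj⟩

/-- `spanBefore` only depends on the set of earlier entries. -/
lemma spanBefore_le_of_forall_mem (e : Fin l → M) (i : ℕ) (N : Submodule R M)
    (h : ∀ j : Fin l, (j : ℕ) < i → e j ∈ N) : spanBefore R M e i ≤ N := by
  apply Submodule.span_le.2
  rintro _ ⟨j, hj, rfl⟩
  exact h j hj

lemma spanBefore_map {M' : Type w} [AddCommGroup M'] [Module R M'] (π : M →ₗ[R] M')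
    (e : Fin l → M) (i : ℕ) :
    spanBefore R M' (π ∘ e) i = (spanBefore R M e i).map π := by
  unfold spanBefore
  rw [Submodule.map_span, Set.image_image]
  rfl

end Span

section Mk

variable {l : ℕ}

/-- The class of an admissible tuple in `DetOfLen`. -/
noncomputable def mk (e : Adm R M l) : DetOfLen R M l :=
  Submodule.Quotient.mk (sym R M e)

lemma symbol_eq_mk (e : Adm R M (Module.length R M).toNat) : symbol R M e = mk e := rfl

theorem mk_relA (e : Adm R M l) (a : Fin l) (h : e.1 a ∈ spanBefore R M e.1 a) : mk e = 0 := by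
  unfold mk
  rw [Submodule.Quotient.mk_eq_zero]
  apply Submodule.subset_span
  left; left
  exact ⟨e, a, h, rfl⟩

theorem mk_relB (e e' : Adm R M l) (a : Fin l) (c : Rˣ) (h1 : ∀ j, j ≠ a → e.1 j = e'.1 j)
    (h2 : e.1 a - (c : R) • e'.1 a ∈ spanBefore R M e.1 a) :
    mk e = residue R (c : R) • mk e' := by
  unfold mk
  rw [← Submodule.Quotient.mk_smul, ← sub_eq_zero, ← Submodule.Quotient.mk_sub,
    Submodule.Quotient.mk_eq_zero]
  apply Submodule.subset_span
  left; right
  exact ⟨e, e', a, c, h1, h2, rfl⟩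

theorem mk_relC (e e' : Adm R M l) (a b : Fin l) (hab : (b : ℕ) + 1 = (a : ℕ))
    (h : ∀ r ∈ maximalIdeal R, r • e.1 a ∈ spanBefore R M e.1 b)
    (he' : e'.1 = e.1 ∘ Equiv.swap a b) : mk e + mk e' = 0 := by
  unfold mk
  rw [← Submodule.Quotient.mk_add, Submodule.Quotient.mk_eq_zero]
  apply Submodule.subset_span
  right
  exact ⟨e, e', a, b, hab, h, he', rfl⟩

theorem span_range_mk :
    Submodule.span (ResidueField R) (Set.range (mk : Adm R M l → DetOfLen R M l)) = ⊤ := by
  rw [eq_top_iff]
  rintro x -
  obtain ⟨y, rfl⟩ := Submodule.Quotient.mk_surjective _ x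
  induction y using Finsupp.induction_linear with
  | zero => simp
  | add f g hf hg =>
    rw [Submodule.Quotient.mk_add]
    exact Submodule.add_mem _ hf hg
  | single e c =>
    have : (Finsupp.single e c : Free R M l) = c • sym R M e := by
      unfold sym
      rw [Finsupp.smul_single, smul_eq_mul, mul_one]
    rw [this, Submodule.Quotient.mk_smul]
    exact Submodule.smul_mem _ _ (Submodule.subset_span ⟨e, rfl⟩)

variable {V : Type w} [AddCommGroup V] [Module (ResidueField R) V]

/-- Define a linear map out of `DetOfLen` by giving its values on symbols, compatibly with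
the three admissible relations. -/
noncomputable def lift (φ : Adm R M l → V)
    (hA : ∀ (e : Adm R M l) (a : Fin l), e.1 a ∈ spanBefore R M e.1 a → φ e = 0)
    (hB : ∀ (e e' : Adm R M l) (a : Fin l) (c : Rˣ), (∀ j, j ≠ a → e.1 j = e'.1 j) →
      e.1 a - (c : R) • e'.1 a ∈ spanBefore R M e.1 a → φ e = residue R (c : R) • φ e')
    (hC : ∀ (e e' : Adm R M l) (a b : Fin l), (b : ℕ) + 1 = (a : ℕ) →
      (∀ r ∈ maximalIdeal R, r • e.1 a ∈ spanBefore R M e.1 b) →
      e'.1 = e.1 ∘ Equiv.swap a b → φ e + φ e' = 0) :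
    DetOfLen R M l →ₗ[ResidueField R] V :=
  Submodule.liftQ _ (Finsupp.linearCombination (ResidueField R) φ) (by
    rw [Submodule.span_le]
    rintro x ((⟨e, a, h, rfl⟩ | ⟨e, e', a, c, h1, h2, rfl⟩) | ⟨e, e', a, b, hab, h, he', rfl⟩)
    · simp only [SetLike.mem_coe, LinearMap.mem_ker, sym, Finsupp.linearCombination_single,
        one_smul]
      exact hA e a h
    · simp only [SetLike.mem_coe, LinearMap.mem_ker, sym, map_sub, map_smul,
        Finsupp.linearCombination_single, one_smul]
      rw [hB e e' a c h1 h2, sub_self]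
    · simp only [SetLike.mem_coe, LinearMap.mem_ker, sym, map_add,
        Finsupp.linearCombination_single, one_smul]
      exact hC e e' a b hab h he')

@[simp]
theorem lift_mk (φ : Adm R M l → V) (hA) (hB) (hC) (e : Adm R M l) :
    lift φ hA hB hC (mk e) = φ e := by
  unfold lift mk
  rw [Submodule.liftQ_apply]
  simp [sym]

end Mk

end Groth.Agent.H1.CycDetA
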