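import Groth.Agent.Lib.Helper1.CycDetA

/-!
# Determinants of finite length modules: admissibility and length lemmas (helper1)
-/

set_option autoImplicit false
universe u v w

namespace Groth.Agent.H1.CycDetA

open IsLocalRing CycDet

variable {R : Type u} [CommRing R] [IsLocalRing R] {M : Type v} [AddCommGroup M] [Module R M]

section Perm

variable {l : ℕ}

lemma spanBefore_comp_perm (e : Fin l → M) (σ : Equiv.Perm (Fin l)) (i : ℕ)
    (h : ∀ j : Fin l, ((σ j : Fin l) : ℕ) < i ↔ (j : ℕ) < i) :
    spanBefore R M (e ∘ σ) i = spanBefore R M e i := by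
  unfold spanBefore
  congr 1
  ext x
  constructor
  · rintro ⟨j, hj, rfl⟩
    exact ⟨σ j, (h j).2 hj, rfl⟩
  · rintro ⟨j, hj, rfl⟩
    refine ⟨σ.symm j, ?_, by simp⟩
    have := h (σ.symm j)
    rw [Equiv.apply_symm_apply] at this
    exact this.1 hj

lemma spanBefore_comp_swap (e : Fin l → M) (a b : Fin l) (hab : (b : ℕ) + 1 = (a : ℕ)) (i : ℕ)
    (hi : i ≤ (b : ℕ) ∨ (a : ℕ) < i) :
    spanBefore R M (e ∘ Equiv.swap a b) i = spanBefore R M e i := by
  apply spanBefore_comp_perm
  intro j
  by_cases hja : j = a
  · subst hja
    rw [Equiv.swap_apply_left]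
    omega
  by_cases hjb : j = b
  · subst hjb
    rw [Equiv.swap_apply_right]
    omega
  rw [Equiv.swap_apply_of_ne_of_ne hja hjb]

lemma range_comp_swap (e : Fin l → M) (a b : Fin l) :
    Set.range (e ∘ Equiv.swap a b) = Set.range e := by
  rw [Set.range_comp, Equiv.range_eq_univ, Set.image_univ]

/-- Swapping two adjacent entries preserves admissibility when the later one is killed by the
maximal ideal modulo the span of the entries before both. -/
theorem isAdmissible_comp_swap (e : Fin l → M) (he : IsAdmissible R M e) (a b : Fin l)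
    (hab : (b : ℕ) + 1 = (a : ℕ))
    (h : ∀ r ∈ maximalIdeal R, r • e a ∈ spanBefore R M e b) :
    IsAdmissible R M (e ∘ Equiv.swap a b) := by
  intro j r hr
  by_cases hja : j = a
  · subst hja
    rw [Function.comp_apply, Equiv.swap_apply_left]
    -- entry e b at position a
    have h1 : r • e b ∈ spanBefore R M e b := he b r hr
    have h2 : spanBefore R M e b = spanBefore R M (e ∘ Equiv.swap j b) b :=
      (spanBefore_comp_swap e j b hab b (Or.inl le_rfl)).symm
    rw [h2] at h1
    exact spanBefore_mono _ (by omega) h1
  by_cases hjb : j = b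
  · subst hjb
    rw [Function.comp_apply, Equiv.swap_apply_right]
    rw [spanBefore_comp_swap e a j hab j (Or.inl le_rfl)]
    exact h r hr
  rw [Function.comp_apply, Equiv.swap_apply_of_ne_of_ne hja hjb]
  rw [spanBefore_comp_swap e a b hab j (by
    have h1 : (j : ℕ) ≠ a := fun h => hja (Fin.ext h)
    have h2 : (j : ℕ) ≠ b := fun h => hjb (Fin.ext h)
    omega)]
  exact he j r hr

end Perm

section Length

lemma length_sup_span_le (D : Submodule R M) (x : M)
    (hx : ∀ r ∈ maximalIdeal R, r • x ∈ D) :
    Module.length R ↥(D ⊔ Submodule.span R {x}) ≤ Module.length R ↥D + 1 := by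
  set D' := D ⊔ Submodule.span R {x} with hD'
  have hle : D ≤ D' := le_sup_left
  have h1 : Module.length R ↥D' = Module.length R ↥(D.submoduleOf D') +
      Module.length R (↥D' ⧸ D.submoduleOf D') :=
    Module.length_eq_add_of_exact (D.submoduleOf D').subtype (D.submoduleOf D').mkQ
      (Submodule.subtype_injective _) (Submodule.mkQ_surjective _)
      (LinearMap.exact_subtype_mkQ _)
  have h2 : Module.length R ↥(D.submoduleOf D') = Module.length R ↥D :=
    (Submodule.submoduleOfEquivOfLe hle).length_eq
  -- the quotient is a quotient of the residue field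
  have hxD' : x ∈ D' := Submodule.mem_sup_right (Submodule.mem_span_singleton_self x)
  let g : R →ₗ[R] (↥D' ⧸ D.submoduleOf D') :=
    (D.submoduleOf D').mkQ ∘ₗ (LinearMap.toSpanSingleton R ↥D' ⟨x, hxD'⟩)
  have hgker : maximalIdeal R ≤ LinearMap.ker g := by
    intro r hr
    rw [LinearMap.mem_ker]
    simp only [g, LinearMap.comp_apply, LinearMap.toSpanSingleton_apply, Submodule.mkQ_apply,
      Submodule.Quotient.mk_eq_zero]
    exact hx r hr
  have hgsurj : Function.Surjective g := by
    intro z
    obtain ⟨⟨y, hy⟩, rfl⟩ := Submodule.Quotient.mk_surjective _ z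
    obtain ⟨d, hd, z', hz', rfl⟩ := Submodule.mem_sup.1 hy
    obtain ⟨r, rfl⟩ := Submodule.mem_span_singleton.1 hz'
    refine ⟨r, ?_⟩
    simp only [g, LinearMap.comp_apply, LinearMap.toSpanSingleton_apply, Submodule.mkQ_apply]
    rw [Submodule.Quotient.eq]
    change (r • (⟨x, hxD'⟩ : ↥D') - ⟨d + r • x, hy⟩ : ↥D').1 ∈ D
    simp only [Submodule.coe_sub, Submodule.coe_smul]
    have : r • x - (d + r • x) = -d := by abel
    rw [this]
    exact D.neg_mem hd
  let g' : (R ⧸ maximalIdeal R) →ₗ[R] (↥D' ⧸ D.submoduleOf D') :=
    Submodule.liftQ _ g hgker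
  have hg'surj : Function.Surjective g' := by
    intro z
    obtain ⟨r, rfl⟩ := hgsurj z
    exact ⟨Submodule.Quotient.mk r, rfl⟩
  have h3 : Module.length R (↥D' ⧸ D.submoduleOf D') ≤ 1 := by
    have h4 := Module.length_le_of_surjective g' hg'surj
    have h5 : Module.length R (R ⧸ maximalIdeal R) = 1 := by
      rw [Module.length_eq_one_iff]
      exact isSimpleModule_iff_quot_maximal.2 ⟨maximalIdeal R, inferInstance, ⟨LinearEquiv.refl _ _⟩⟩
    rw [h5] at h4
    exact h4
  rw [h1, h2]
  gcongr

variable {l : ℕ}

lemma length_spanBefore_le (e : Fin l → M) (he : IsAdmissible R M e) (a : Fin l)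
    (ha : e a ∈ spanBefore R M e a) (i : ℕ) (hi : i ≤ l) :
    Module.length R ↥(spanBefore R M e i) + (if (a : ℕ) < i then 1 else 0) ≤ i := by
  induction i with
  | zero =>
    rw [spanBefore_zero]
    simp
  | succ i ih =>
    have hi' : i < l := hi
    have ih' := ih (le_of_lt hi')
    have hs := spanBefore_succ (R := R) e ⟨i, hi'⟩
    simp only at hs
    by_cases hai : (a : ℕ) = i
    · -- redundant step
      have hae : a = ⟨i, hi'⟩ := Fin.ext hai
      have heq : spanBefore R M e (i + 1) = spanBefore R M e i := by
        rw [hs]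
        apply le_antisymm
        · apply sup_le le_rfl
          rw [Submodule.span_singleton_le_iff_mem, ← hae]
          have := ha
          rw [hai] at this
          exact this
        · exact le_sup_left
      rw [heq]
      have h1 : ¬ ((a : ℕ) < i) := by omega
      have h2 : (a : ℕ) < i + 1 := by omega
      rw [if_neg h1] at ih'
      rw [if_pos h2]
      push_cast
      have := ih'
      rw [add_zero] at this
      gcongr
    · have hstep : Module.length R ↥(spanBefore R M e (i + 1)) ≤
          Module.length R ↥(spanBefore R M e i) + 1 := by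
        rw [hs]
        exact length_sup_span_le _ _ (fun r hr => he ⟨i, hi'⟩ r hr)
      by_cases hlt : (a : ℕ) < i
      · have h2 : (a : ℕ) < i + 1 := by omega
        rw [if_pos hlt] at ih'
        rw [if_pos h2]
        push_cast
        calc Module.length R ↥(spanBefore R M e (i + 1)) + 1
            ≤ Module.length R ↥(spanBefore R M e i) + 1 + 1 := by gcongr
          _ ≤ (i : ℕ∞) + 1 := by gcongr
      · have h2 : ¬ ((a : ℕ) < i + 1) := by omega
        rw [if_neg hlt, add_zero] at ih'
        rw [if_neg h2, add_zero]
        push_cast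
        calc Module.length R ↥(spanBefore R M e (i + 1))
            ≤ Module.length R ↥(spanBefore R M e i) + 1 := hstep
          _ ≤ (i : ℕ∞) + 1 := by gcongr

/-- In a generating admissible tuple of length `length M`, no entry is redundant. -/
theorem notMem_spanBefore_of_span_eq_top (e : Fin l → M) (he : IsAdmissible R M e)
    (hl : Module.length R M = l) (hspan : Submodule.span R (Set.range e) = ⊤) (a : Fin l) :
    e a ∉ spanBefore R M e a := by
  intro ha
  have h1 := length_spanBefore_le e he a ha l le_rfl
  rw [spanBefore_of_ge e le_rfl, hspan, if_pos a.2] at h1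
  rw [Module.length_top, hl] at h1
  have : ((l : ℕ) : ℕ∞) + 1 ≤ (l : ℕ∞) := h1
  have h2 : ((l + 1 : ℕ) : ℕ∞) ≤ (l : ℕ∞) := by push_cast; exact this
  have := ENat.coe_le_coe.1 h2
  omega

/-- A non-generating admissible tuple of length `length M` has a redundant entry. -/
theorem exists_mem_spanBefore_of_span_ne_top (e : Fin l → M) (he : IsAdmissible R M e)
    (hl : Module.length R M = l) (hspan : Submodule.span R (Set.range e) ≠ ⊤) :
    ∃ a : Fin l, e a ∈ spanBefore R M e a := by
  by_contra hcon
  push Not at hcon
  have hfin : IsFiniteLength R M := by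
    rw [← Module.length_ne_top_iff, hl]; exact ENat.coe_ne_top l
  obtain ⟨hN, hA⟩ := isFiniteLength_iff_isNoetherian_isArtinian.1 hfin
  -- then the lengths go up strictly
  have key : ∀ i : ℕ, i ≤ l → (i : ℕ∞) ≤ Module.length R ↥(spanBefore R M e i) := by
    intro i hi
    induction i with
    | zero => simp
    | succ i ih =>
      have hi' : i < l := hi
      have ih' := ih (le_of_lt hi')
      have hlt : spanBefore R M e i < spanBefore R M e (i + 1) := by
        refine lt_of_le_of_ne (spanBefore_mono e (Nat.le_succ i)) ?_
        intro heq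
        apply hcon ⟨i, hi'⟩
        have := mem_spanBefore (R := R) e (j := ⟨i, hi'⟩) (i := i + 1) (by simp)
        rw [← heq] at this
        exact this
      have hlt2 : Module.length R ↥(spanBefore R M e i) <
          Module.length R ↥(spanBefore R M e (i + 1)) := by
        rw [Module.length_submodule, Module.length_submodule]
        apply Order.height_strictMono hlt
        rw [← Module.length_submodule]
        exact Module.length_ne_top.lt_top
      push_cast
      exact (ENat.add_one_le_iff (ENat.coe_ne_top i)).2 (lt_of_le_of_lt ih' hlt2)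
  have h1 := key l le_rfl
  rw [spanBefore_of_ge e le_rfl] at h1
  have h2 : Module.length R ↥(Submodule.span R (Set.range e)) < Module.length R M :=
    Submodule.length_lt hspan
  rw [hl] at h2
  exact absurd (lt_of_le_of_lt h1 h2) (lt_irrefl _)

end Length

end Groth.Agent.H1.CycDetA
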