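import Groth.Agent.Lib.Helper1.CycDetB

/-!
# Determinants of finite length modules: the map from the quotient by a socle element (helper1)
-/

set_option autoImplicit false
universe u v w

namespace Groth.Agent.H1.CycDetA

open IsLocalRing CycDet

variable {R : Type u} [CommRing R] [IsLocalRing R] {M : Type v} [AddCommGroup M] [Module R M]

section Cons

variable {l : ℕ}

lemma spanBefore_cons_zero (x : M) (h : Fin l → M) :
    spanBefore R M (Fin.cons x h : Fin (l + 1) → M) 0 = ⊥ := spanBefore_zero _

lemma spanBefore_cons_succ (x : M) (h : Fin l → M) (i : ℕ) :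
    spanBefore R M (Fin.cons x h : Fin (l + 1) → M) (i + 1) =
      Submodule.span R {x} ⊔ spanBefore R M h i := by
  unfold spanBefore
  rw [← Submodule.span_union]
  congr 1
  ext y
  constructor
  · rintro ⟨j, hj, rfl⟩
    induction j using Fin.cases with
    | zero => left; simp
    | succ j =>
      right
      refine ⟨j, ?_, by simp⟩
      simp only [Set.mem_setOf_eq, Fin.val_succ] at hj ⊢
      omega
  · rintro (hy | ⟨j, hj, rfl⟩)
    · rw [Set.mem_singleton_iff] at hy
      subst hy
      exact ⟨0, by simp, by simp⟩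
    · refine ⟨j.succ, ?_, by simp⟩
      simp only [Set.mem_setOf_eq, Fin.val_succ] at hj ⊢
      omega

lemma cons_comp_swap_succ (x : M) (h : Fin l → M) (a b : Fin l) :
    (Fin.cons x (h ∘ Equiv.swap a b) : Fin (l + 1) → M) =
      (Fin.cons x h : Fin (l + 1) → M) ∘ Equiv.swap a.succ b.succ := by
  funext j
  induction j using Fin.cases with
  | zero =>
    rw [Function.comp_apply, Equiv.swap_apply_of_ne_of_ne (Fin.succ_ne_zero a).symm
      (Fin.succ_ne_zero b).symm]
    simp
  | succ j =>
    rw [Fin.cons_succ, Function.comp_apply, Function.comp_apply]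
    by_cases hja : j = a
    · subst hja
      rw [Equiv.swap_apply_left, Equiv.swap_apply_left, Fin.cons_succ]
    by_cases hjb : j = b
    · subst hjb
      rw [Equiv.swap_apply_right, Equiv.swap_apply_right, Fin.cons_succ]
    rw [Equiv.swap_apply_of_ne_of_ne hja hjb, Equiv.swap_apply_of_ne_of_ne
      (fun h => hja (Fin.succ_injective _ h)) (fun h => hjb (Fin.succ_injective _ h)),
      Fin.cons_succ]

end Cons

section Quot

variable (f₁ : M)

/-- pulling back membership along the quotient map by `span {f₁}` -/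
lemma mem_sup_of_mkQ_mem_map (S : Submodule R M) (y : M)
    (hy : (Submodule.span R {f₁}).mkQ y ∈ S.map (Submodule.span R {f₁}).mkQ) :
    y ∈ Submodule.span R {f₁} ⊔ S := by
  obtain ⟨z, hz, hzy⟩ := hy
  have h1 : y - z ∈ Submodule.span R {f₁} := by
    rw [← Submodule.ker_mkQ (Submodule.span R {f₁}), LinearMap.mem_ker, map_sub, hzy, sub_self]
  have : y = (y - z) + z := by abel
  rw [this]
  exact Submodule.add_mem _ (Submodule.mem_sup_left h1) (Submodule.mem_sup_right hz)

variable {l : ℕ} (hf₁ : ∀ r ∈ maximalIdeal R, r • f₁ = 0)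

include hf₁ in
theorem isAdmissible_cons (h : Fin l → M)
    (hadm : IsAdmissible R (M ⧸ Submodule.span R {f₁}) ((Submodule.span R {f₁}).mkQ ∘ h)) :
    IsAdmissible R M (Fin.cons f₁ h : Fin (l + 1) → M) := by
  intro j r hr
  induction j using Fin.cases with
  | zero =>
    rw [Fin.cons_zero, hf₁ r hr]
    exact Submodule.zero_mem _
  | succ j =>
    rw [Fin.cons_succ, Fin.val_succ, spanBefore_cons_succ]
    apply mem_sup_of_mkQ_mem_map
    have := hadm j r hr
    rw [spanBefore_map] at this
    rw [map_smul]
    exact this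

theorem isAdmissible_mkQ_of_cons (h : Fin l → M)
    (hadm : IsAdmissible R M (Fin.cons f₁ h : Fin (l + 1) → M)) :
    IsAdmissible R (M ⧸ Submodule.span R {f₁}) ((Submodule.span R {f₁}).mkQ ∘ h) := by
  intro j r hr
  have := hadm j.succ r hr
  rw [Fin.cons_succ, Fin.val_succ, spanBefore_cons_succ] at this
  rw [spanBefore_map, Function.comp_apply, ← map_smul]
  obtain ⟨y, hy, z, hz, hyz⟩ := Submodule.mem_sup.1 this
  refine ⟨z, hz, ?_⟩
  rw [← hyz, map_add]
  have : (Submodule.span R {f₁}).mkQ y = 0 := by
    rw [← LinearMap.mem_ker, Submodule.ker_mkQ]; exact hy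
  rw [this, zero_add]

/-- The admissible tuple `(f₁, h)`. -/
def consAdm (h : Fin l → M)
    (hadm : IsAdmissible R (M ⧸ Submodule.span R {f₁}) ((Submodule.span R {f₁}).mkQ ∘ h)) :
    Adm R M (l + 1) :=
  ⟨Fin.cons f₁ h, isAdmissible_cons f₁ hf₁ h hadm⟩

/-- Independence of the lifts. -/
theorem mk_consAdm_eq (h h' : Fin l → M)
    (hh : (Submodule.span R {f₁}).mkQ ∘ h = (Submodule.span R {f₁}).mkQ ∘ h')
    (hadm : IsAdmissible R (M ⧸ Submodule.span R {f₁}) ((Submodule.span R {f₁}).mkQ ∘ h))
    (hadm' : IsAdmissible R (M ⧸ Submodule.span R {f₁}) ((Submodule.span R {f₁}).mkQ ∘ h')) :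
    mk (consAdm f₁ hf₁ h hadm) = mk (consAdm f₁ hf₁ h' hadm') := by
  -- hybrid tuples
  let hyb : ℕ → Fin l → M := fun t j => if (j : ℕ) < t then h' j else h j
  have hhyb : ∀ t, (Submodule.span R {f₁}).mkQ ∘ hyb t = (Submodule.span R {f₁}).mkQ ∘ h := by
    intro t
    funext j
    simp only [Function.comp_apply, hyb]
    split_ifs
    · exact (congrFun hh j).symm
    · rfl
  have hadmhyb : ∀ t, IsAdmissible R (M ⧸ Submodule.span R {f₁})
      ((Submodule.span R {f₁}).mkQ ∘ hyb t) := by
    intro t; rw [hhyb t]; exact hadm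
  have key : ∀ t, t ≤ l → mk (consAdm f₁ hf₁ (hyb t) (hadmhyb t)) =
      mk (consAdm f₁ hf₁ h hadm) := by
    intro t ht
    induction t with
    | zero =>
      congr 1
    | succ t ih =>
      rw [← ih (le_of_lt ht)]
      have ht' : t < l := ht
      have hB := mk_relB (consAdm f₁ hf₁ (hyb (t + 1)) (hadmhyb (t + 1)))
        (consAdm f₁ hf₁ (hyb t) (hadmhyb t)) (Fin.succ ⟨t, ht'⟩) 1 ?_ ?_
      · rw [hB]
        simp
      · intro j hj
        induction j using Fin.cases with
        | zero => simp [consAdm]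
        | succ j =>
          simp only [consAdm, Fin.cons_succ, hyb]
          have hjt : (j : ℕ) ≠ t := by
            intro h0
            apply hj
            congr 1
            exact Fin.ext h0
          by_cases h1 : (j : ℕ) < t
          · rw [if_pos h1, if_pos (by omega)]
          · rw [if_neg h1, if_neg (by omega)]
      · simp only [consAdm, Fin.cons_succ, Units.val_one, one_smul, Fin.val_succ]
        rw [spanBefore_cons_succ]
        apply Submodule.mem_sup_left
        rw [← Submodule.ker_mkQ (Submodule.span R {f₁}), LinearMap.mem_ker, map_sub]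
        have e1 := congrFun (hhyb (t + 1)) ⟨t, ht'⟩
        have e2 := congrFun (hhyb t) ⟨t, ht'⟩
        simp only [Function.comp_apply] at e1 e2
        rw [e1, e2, sub_self]
  have hl : hyb l = h' := by
    funext j
    simp only [hyb]
    rw [if_pos j.2]
  have := key l le_rfl
  rw [← this]
  congr 1
  simp only [consAdm]
  congr 1
  rw [hl]

end Quot


section Iota

variable (f₁ : M) {l : ℕ} (hf₁ : ∀ r ∈ maximalIdeal R, r • f₁ = 0)

/-- a set-theoretic section of the quotient map -/
noncomputable def sec : (M ⧸ Submodule.span R {f₁}) → M :=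
  Function.surjInv (Submodule.span R {f₁}).mkQ_surjective

lemma mkQ_sec (y : M ⧸ Submodule.span R {f₁}) : (Submodule.span R {f₁}).mkQ (sec f₁ y) = y :=
  Function.surjInv_eq _ y

lemma mkQ_comp_sec (e : Fin l → M ⧸ Submodule.span R {f₁}) :
    (Submodule.span R {f₁}).mkQ ∘ (sec f₁ ∘ e) = e := by
  funext j
  exact mkQ_sec f₁ (e j)

/-- the function on admissible tuples defining `iota` -/
noncomputable def iotaFun (e : Adm R (M ⧸ Submodule.span R {f₁}) l) : DetOfLen R M (l + 1) :=
  mk (consAdm f₁ hf₁ (sec f₁ ∘ e.1) (by rw [mkQ_comp_sec]; exact e.2))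

theorem iotaFun_eq (h : Fin l → M)
    (hadm : IsAdmissible R (M ⧸ Submodule.span R {f₁}) ((Submodule.span R {f₁}).mkQ ∘ h)) :
    iotaFun f₁ hf₁ ⟨(Submodule.span R {f₁}).mkQ ∘ h, hadm⟩ = mk (consAdm f₁ hf₁ h hadm) := by
  unfold iotaFun
  apply mk_consAdm_eq
  rw [mkQ_comp_sec]

/-- The map `det(M / f₁) → det(M)`, `[ē₂, …, ē_l] ↦ [f₁, e₂, …, e_l]`. -/
noncomputable def iota : DetOfLen R (M ⧸ Submodule.span R {f₁}) l →ₗ[ResidueField R]
    DetOfLen R M (l + 1) :=
  lift (iotaFun f₁ hf₁)
    (by
      intro e a ha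
      unfold iotaFun
      apply mk_relA _ a.succ
      simp only [consAdm, Fin.cons_succ, Fin.val_succ]
      rw [spanBefore_cons_succ]
      apply mem_sup_of_mkQ_mem_map
      rw [← spanBefore_map]
      have h1 : (Submodule.span R {f₁}).mkQ ((sec f₁ ∘ e.1) a) = e.1 a := mkQ_sec f₁ _
      rw [h1, mkQ_comp_sec]
      exact ha)
    (by
      intro e e' a c h1 h2
      -- lifts
      set h := sec f₁ ∘ e.1 with hh
      set h'' := sec f₁ ∘ e'.1 with hh''
      let h' : Fin l → M := Function.update h a (h'' a)
      have hπh : (Submodule.span R {f₁}).mkQ ∘ h = e.1 := mkQ_comp_sec f₁ e.1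
      have hπh'' : (Submodule.span R {f₁}).mkQ ∘ h'' = e'.1 := mkQ_comp_sec f₁ e'.1
      have hπh' : (Submodule.span R {f₁}).mkQ ∘ h' = e'.1 := by
        funext j
        by_cases hja : j = a
        · subst hja
          simp only [Function.comp_apply, h', Function.update_self]
          exact congrFun hπh'' j
        · simp only [Function.comp_apply, h', Function.update_of_ne hja]
          rw [← h1 j hja]
          exact congrFun hπh j
      have hadm' : IsAdmissible R (M ⧸ Submodule.span R {f₁})
          ((Submodule.span R {f₁}).mkQ ∘ h') := by rw [hπh']; exact e'.2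
      have e1 : iotaFun f₁ hf₁ e' = mk (consAdm f₁ hf₁ h' hadm') := by
        unfold iotaFun
        apply mk_consAdm_eq
        rw [hπh'', hπh']
      rw [e1]
      unfold iotaFun
      apply mk_relB _ _ a.succ c
      · intro j hj
        induction j using Fin.cases with
        | zero => simp [consAdm]
        | succ j =>
          have hja : j ≠ a := fun h0 => hj (by rw [h0])
          simp only [consAdm, Fin.cons_succ, h', Function.update_of_ne hja]
          rfl
      · simp only [consAdm, Fin.cons_succ, Fin.val_succ, h', Function.update_self]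
        rw [spanBefore_cons_succ]
        apply mem_sup_of_mkQ_mem_map
        rw [← spanBefore_map, map_sub, map_smul]
        have e2 : (Submodule.span R {f₁}).mkQ (h a) = e.1 a := congrFun hπh a
        have e3 : (Submodule.span R {f₁}).mkQ (h'' a) = e'.1 a := congrFun hπh'' a
        rw [e2, e3, hπh]
        exact h2)
    (by
      intro e e' a b hab hm he'
      set h := sec f₁ ∘ e.1 with hh
      have hπh : (Submodule.span R {f₁}).mkQ ∘ h = e.1 := mkQ_comp_sec f₁ e.1
      have hπh' : (Submodule.span R {f₁}).mkQ ∘ (h ∘ Equiv.swap a b) = e'.1 := by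
        rw [← Function.comp_assoc, hπh, he']
      have hadm' : IsAdmissible R (M ⧸ Submodule.span R {f₁})
          ((Submodule.span R {f₁}).mkQ ∘ (h ∘ Equiv.swap a b)) := by rw [hπh']; exact e'.2
      have e1 : iotaFun f₁ hf₁ e' = mk (consAdm f₁ hf₁ (h ∘ Equiv.swap a b) hadm') := by
        unfold iotaFun
        apply mk_consAdm_eq
        rw [mkQ_comp_sec, hπh']
      rw [e1]
      unfold iotaFun
      apply mk_relC _ _ a.succ b.succ
      · simp only [Fin.val_succ]; omega
      · intro r hr
        simp only [consAdm, Fin.cons_succ, Fin.val_succ]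
        rw [spanBefore_cons_succ]
        apply mem_sup_of_mkQ_mem_map
        rw [← spanBefore_map, map_smul]
        have e2 : (Submodule.span R {f₁}).mkQ (h a) = e.1 a := congrFun hπh a
        rw [e2, hπh]
        exact hm r hr
      · simp only [consAdm]
        exact cons_comp_swap_succ f₁ h a b)

theorem iota_mk (h : Fin l → M)
    (hadm : IsAdmissible R (M ⧸ Submodule.span R {f₁}) ((Submodule.span R {f₁}).mkQ ∘ h)) :
    iota f₁ hf₁ (mk ⟨(Submodule.span R {f₁}).mkQ ∘ h, hadm⟩) = mk (consAdm f₁ hf₁ h hadm) := by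
  unfold iota
  rw [lift_mk]
  exact iotaFun_eq f₁ hf₁ h hadm

end Iota


end Groth.Agent.H1.CycDetA
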