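import Groth.Agent.Lib.Helper1.CycDetC
set_option autoImplicit false
universe u v w

namespace Groth.Agent.H1.CycDetA

open IsLocalRing CycDet

variable {R : Type u} [CommRing R] [IsLocalRing R] {M : Type v} [AddCommGroup M] [Module R M]

section Move

variable {l : ℕ}

/-- Move a socle entry to the front. -/
theorem exists_cons_of_socle_entry (i : ℕ) :
    ∀ (hi : i < l + 1) (e : Adm R M (l + 1)) (x : M), e.1 ⟨i, hi⟩ = x →
      (∀ r ∈ maximalIdeal R, r • x = 0) →
      ∃ (h : Fin l → M) (hadm : IsAdmissible R M (Fin.cons x h : Fin (l + 1) → M))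
        (s : ResidueField R), mk e = s • mk ⟨Fin.cons x h, hadm⟩ := by
  induction i with
  | zero =>
    intro hi e x hx hsoc
    refine ⟨Fin.tail e.1, ?_, 1, ?_⟩
    · have : (Fin.cons x (Fin.tail e.1) : Fin (l + 1) → M) = e.1 := by
        rw [← hx]
        exact Fin.cons_self_tail e.1
      rw [this]
      exact e.2
    · rw [one_smul]
      congr 1
      apply Subtype.ext
      simp only
      rw [← hx]
      exact (Fin.cons_self_tail e.1).symm
  | succ i ih =>
    intro hi e x hx hsoc
    let a : Fin (l + 1) := ⟨i + 1, hi⟩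
    let b : Fin (l + 1) := ⟨i, by omega⟩
    have hab : (b : ℕ) + 1 = (a : ℕ) := rfl
    have hcond : ∀ r ∈ maximalIdeal R, r • e.1 a ∈ spanBefore R M e.1 b := by
      intro r hr
      have : e.1 a = x := hx
      rw [this, hsoc r hr]
      exact Submodule.zero_mem _
    let e' : Adm R M (l + 1) := ⟨e.1 ∘ Equiv.swap a b, isAdmissible_comp_swap e.1 e.2 a b hab hcond⟩
    have hC := mk_relC e e' a b hab hcond rfl
    have he'b : e'.1 ⟨i, by omega⟩ = x := by
      change (e.1 ∘ Equiv.swap a b) b = x
      rw [Function.comp_apply, Equiv.swap_apply_right]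
      exact hx
    obtain ⟨h, hadm, s, hs⟩ := ih (by omega) e' x he'b hsoc
    refine ⟨h, hadm, -s, ?_⟩
    rw [neg_smul, ← hs]
    exact eq_neg_of_add_eq_zero_left hC

end Move

end Groth.Agent.H1.CycDetA

namespace Groth.Agent.H1.CycDetA

open IsLocalRing CycDet

variable {R : Type u} [CommRing R] [IsLocalRing R] {M : Type v} [AddCommGroup M] [Module R M]

section Surj

variable {l : ℕ} (f₁ : M) (hf₁ : ∀ r ∈ maximalIdeal R, r • f₁ = 0)

theorem mk_mem_range_iota (hne : f₁ ≠ 0) (hl : Module.length R M = ((l + 1 : ℕ) : ℕ∞))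
    (e : Adm R M (l + 1)) : mk e ∈ LinearMap.range (iota (l := l) f₁ hf₁) := by
  classical
  by_cases hspan : Submodule.span R (Set.range e.1) = ⊤
  swap
  · obtain ⟨a, ha⟩ := exists_mem_spanBefore_of_span_ne_top e.1 e.2 hl hspan
    rw [mk_relA e a ha]
    exact Submodule.zero_mem _
  have hex : ∃ i, f₁ ∈ spanBefore R M e.1 i :=
    ⟨l + 1, by rw [spanBefore_of_ge _ le_rfl, hspan]; trivial⟩
  have hi₀ne : Nat.find hex ≠ 0 := by
    intro h0
    have := Nat.find_spec hex
    rw [h0, spanBefore_zero] at this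
    exact hne ((Submodule.mem_bot R).1 this)
  have hi₀le : Nat.find hex ≤ l + 1 :=
    Nat.find_min' hex (by rw [spanBefore_of_ge _ le_rfl, hspan]; trivial)
  obtain ⟨i, hi⟩ := Nat.exists_eq_succ_of_ne_zero hi₀ne
  have hil : i < l + 1 := by omega
  have hmem : f₁ ∈ spanBefore R M e.1 (i + 1) := by
    have := Nat.find_spec hex
    rw [hi] at this
    exact this
  have hnot : f₁ ∉ spanBefore R M e.1 i := Nat.find_min hex (by omega)
  have hs := spanBefore_succ (R := R) e.1 ⟨i, hil⟩
  simp only at hs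
  rw [hs] at hmem
  obtain ⟨d, hd, z, hz, hdz⟩ := Submodule.mem_sup.1 hmem
  obtain ⟨r, rfl⟩ := Submodule.mem_span_singleton.1 hz
  have hr : IsUnit r := by
    by_contra hnu
    have hrm : r ∈ maximalIdeal R := (IsLocalRing.mem_maximalIdeal r).2 hnu
    apply hnot
    rw [← hdz]
    exact Submodule.add_mem _ hd (e.2 ⟨i, hil⟩ r hrm)
  obtain ⟨u, rfl⟩ := hr
  -- e_i in terms of f₁
  have hei : e.1 ⟨i, hil⟩ = ((u⁻¹ : Rˣ) : R) • f₁ - ((u⁻¹ : Rˣ) : R) • d := by
    rw [← smul_sub, ← hdz, add_sub_cancel_left, smul_smul, Units.inv_mul, one_smul]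
  let e'fun : Fin (l + 1) → M := Function.update e.1 ⟨i, hil⟩ f₁
  have hE_eq : ∀ j : ℕ, j ≤ i → spanBefore R M e'fun j = spanBefore R M e.1 j := by
    intro j hj
    apply spanBefore_congr
    intro k hk
    have : k ≠ ⟨i, hil⟩ := by
      intro h0
      rw [h0] at hk
      simp only at hk
      omega
    simp only [e'fun, Function.update_of_ne this]
  have hE_le : ∀ j : ℕ, i < j → spanBefore R M e.1 j ≤ spanBefore R M e'fun j := by
    intro j hj
    apply spanBefore_le_of_forall_mem
    intro k hk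
    by_cases hki : k = ⟨i, hil⟩
    · rw [hki, hei]
      apply Submodule.sub_mem
      · apply Submodule.smul_mem
        have : f₁ = e'fun ⟨i, hil⟩ := by simp [e'fun]
        rw [this]
        exact mem_spanBefore _ hj
      · apply Submodule.smul_mem
        have : d ∈ spanBefore R M e'fun i := by rw [hE_eq i le_rfl]; exact hd
        exact spanBefore_mono _ (le_of_lt hj) this
    · have : e.1 k = e'fun k := by simp only [e'fun, Function.update_of_ne hki]
      rw [this]
      exact mem_spanBefore _ hk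
  have he'adm : IsAdmissible R M e'fun := by
    intro j r hr
    by_cases hji : j = ⟨i, hil⟩
    · rw [hji]
      simp only [e'fun, Function.update_self]
      rw [hf₁ r hr]
      exact Submodule.zero_mem _
    · have hje : e'fun j = e.1 j := by simp only [e'fun, Function.update_of_ne hji]
      rw [hje]
      have h1 := e.2 j r hr
      have hjne : (j : ℕ) ≠ i := fun h0 => hji (Fin.ext h0)
      rcases Nat.lt_or_gt_of_ne hjne with h2 | h2
      · rw [hE_eq j (le_of_lt h2)]
        exact h1
      · exact hE_le j h2 h1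
  let e' : Adm R M (l + 1) := ⟨e'fun, he'adm⟩
  have hB : mk e = residue R ((u⁻¹ : Rˣ) : R) • mk e' := by
    apply mk_relB e e' ⟨i, hil⟩ u⁻¹
    · intro j hj
      simp only [e', e'fun, Function.update_of_ne hj]
    · simp only [e', e'fun, Function.update_self]
      rw [hei, sub_sub_cancel_left]
      exact Submodule.neg_mem _ (Submodule.smul_mem _ _ hd)
  obtain ⟨h, hadm, s, hs'⟩ := exists_cons_of_socle_entry i hil e' f₁
    (by simp [e', e'fun]) hf₁
  have hadm' := isAdmissible_mkQ_of_cons f₁ h hadm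
  have hι := iota_mk f₁ hf₁ h hadm'
  have hcons : mk (consAdm f₁ hf₁ h hadm') = mk ⟨Fin.cons f₁ h, hadm⟩ := rfl
  rw [hB, hs', ← hcons, ← hι, ← map_smul, ← map_smul]
  exact LinearMap.mem_range_self _ _

theorem iota_surjective (hne : f₁ ≠ 0) (hl : Module.length R M = ((l + 1 : ℕ) : ℕ∞)) :
    Function.Surjective (iota (l := l) f₁ hf₁) := by
  rw [← LinearMap.range_eq_top, eq_top_iff, ← span_range_mk, Submodule.span_le]
  rintro _ ⟨e, rfl⟩
  exact mk_mem_range_iota f₁ hf₁ hne hl e

end Surj

end Groth.Agent.H1.CycDetA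

namespace Groth.Agent.H1.CycDetA

open IsLocalRing CycDet

variable {R : Type u} [CommRing R] [IsLocalRing R]

section Rank

theorem exists_socle_element (M : Type v) [AddCommGroup M] [Module R M] [Nontrivial M]
    (hfin : IsFiniteLength R M) :
    ∃ f₁ : M, f₁ ≠ 0 ∧ ∀ r ∈ maximalIdeal R, r • f₁ = 0 := by
  obtain ⟨hN, hA⟩ := isFiniteLength_iff_isNoetherian_isArtinian.1 hfin
  have hne : (⊤ : Submodule R M) ≠ ⊥ := top_ne_bot
  obtain ⟨S, hS, -⟩ := (eq_bot_or_exists_atom_le (⊤ : Submodule R M)).resolve_left hne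
  have hsimple : IsSimpleModule R S := isSimpleModule_iff_isAtom.2 hS
  obtain ⟨I, hI, ⟨φ⟩⟩ := isSimpleModule_iff_quot_maximal.1 hsimple
  have hIm : I = maximalIdeal R := IsLocalRing.eq_maximalIdeal hI
  have hSne : S ≠ ⊥ := hS.1
  obtain ⟨x, hxS, hx0⟩ := Submodule.exists_mem_ne_zero_of_ne_bot hSne
  refine ⟨x, hx0, ?_⟩
  intro r hr
  have h1 : r • (⟨x, hxS⟩ : S) = 0 := by
    apply φ.injective
    rw [map_smul, map_zero]
    obtain ⟨a, ha⟩ := Submodule.Quotient.mk_surjective _ (φ ⟨x, hxS⟩)
    rw [← ha, ← Submodule.Quotient.mk_smul, Submodule.Quotient.mk_eq_zero, hIm]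
    exact Ideal.mul_mem_right _ _ hr
  exact congrArg Subtype.val h1

theorem length_span_socle {M : Type v} [AddCommGroup M] [Module R M] (f₁ : M) (hne : f₁ ≠ 0)
    (hf₁ : ∀ r ∈ maximalIdeal R, r • f₁ = 0) :
    Module.length R ↥(Submodule.span R {f₁}) = 1 := by
  apply le_antisymm
  · have := length_sup_span_le (⊥ : Submodule R M) f₁ (by
      intro r hr; rw [hf₁ r hr]; exact Submodule.zero_mem _)
    rw [bot_sup_eq] at this
    have h0 : Module.length R ↥(⊥ : Submodule R M) = 0 := by
      rw [Module.length_eq_zero_iff]; infer_instance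
    rw [h0, zero_add] at this
    exact this
  · rw [Order.one_le_iff_pos, Module.length_pos_iff]
    exact ⟨⟨⟨f₁, Submodule.mem_span_singleton_self f₁⟩, 0, by
      intro h; exact hne (congrArg Subtype.val h)⟩⟩

theorem length_quot_socle {M : Type v} [AddCommGroup M] [Module R M] (f₁ : M) (hne : f₁ ≠ 0)
    (hf₁ : ∀ r ∈ maximalIdeal R, r • f₁ = 0) (l : ℕ)
    (hl : Module.length R M = ((l + 1 : ℕ) : ℕ∞)) :
    Module.length R (M ⧸ Submodule.span R {f₁}) = (l : ℕ∞) := by
  have h1 : Module.length R M = Module.length R ↥(Submodule.span R {f₁}) +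
      Module.length R (M ⧸ Submodule.span R {f₁}) :=
    Module.length_eq_add_of_exact (Submodule.span R {f₁}).subtype (Submodule.span R {f₁}).mkQ
      (Submodule.subtype_injective _) (Submodule.mkQ_surjective _)
      (LinearMap.exact_subtype_mkQ _)
  rw [length_span_socle f₁ hne hf₁, hl] at h1
  have hne_top : Module.length R (M ⧸ Submodule.span R {f₁}) ≠ ⊤ := by
    intro h
    rw [h, add_top] at h1
    exact ENat.natCast_ne_top _ h1
  lift Module.length R (M ⧸ Submodule.span R {f₁}) to ℕ using hne_top with n hn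
  have : ((l + 1 : ℕ) : ℕ∞) = ((1 + n : ℕ) : ℕ∞) := by
    rw [h1]; push_cast; rfl
  have := ENat.natCast_inj.1 this
  congr 1
  omega

/-- `dim det_κ(M) ≤ 1`. -/
theorem rank_detOfLen_le_one : ∀ (l : ℕ) (M : Type v) [AddCommGroup M] [Module R M],
    Module.length R M = (l : ℕ∞) → Module.rank (ResidueField R) (DetOfLen R M l) ≤ 1 := by
  intro l
  induction l with
  | zero =>
    intro M _ _ _
    rw [rank_le_one_iff]
    have hadm0 : IsAdmissible R M (Fin.elim0 : Fin 0 → M) := fun i => Fin.elim0 i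
    refine ⟨mk ⟨Fin.elim0, hadm0⟩, ?_⟩
    intro v
    have hv : v ∈ Submodule.span (ResidueField R)
        (Set.range (mk : Adm R M 0 → DetOfLen R M 0)) := by
      rw [span_range_mk]; trivial
    have hrange : Set.range (mk : Adm R M 0 → DetOfLen R M 0) = {mk ⟨Fin.elim0, hadm0⟩} := by
      ext y
      constructor
      · rintro ⟨e, rfl⟩
        rw [Set.mem_singleton_iff]
        congr 1
        apply Subtype.ext
        funext i
        exact Fin.elim0 i
      · intro hy
        rw [Set.mem_singleton_iff] at hy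
        exact ⟨_, hy.symm⟩
    rw [hrange, Submodule.mem_span_singleton] at hv
    exact hv
  | succ l ih =>
    intro M _ _ hl
    have hfin : IsFiniteLength R M := by
      rw [← Module.length_ne_top_iff, hl]; exact ENat.natCast_ne_top _
    have hnontriv : Nontrivial M := by
      rw [← Module.length_pos_iff (R := R), hl]
      exact_mod_cast Nat.succ_pos l
    obtain ⟨f₁, hne, hf₁⟩ := exists_socle_element M hfin
    have hl' := length_quot_socle f₁ hne hf₁ l hl
    have h1 := ih (M ⧸ Submodule.span R {f₁}) hl'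
    have h2 := LinearMap.rank_le_of_surjective (iota (l := l) f₁ hf₁)
      (iota_surjective f₁ hf₁ hne hl)
    exact h2.trans h1

end Rank

end Groth.Agent.H1.CycDetA
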