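import Groth.Agent.Lib.Helper1.CycDetD

/-!
# Determinants of finite length modules: pivots relative to a reference flag (helper1)
-/

set_option autoImplicit false
universe u v w

namespace Groth.Agent.H1.CycDetA

open IsLocalRing CycDet

variable {R : Type u} [CommRing R] [IsLocalRing R] {M : Type v} [AddCommGroup M] [Module R M]

/-- A reference flag: a generating admissible tuple of length `length M`. -/
structure RefFlag (R : Type u) [CommRing R] [IsLocalRing R] (M : Type v) [AddCommGroup M]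
    [Module R M] (l : ℕ) where
  f : Fin l → M
  adm : IsAdmissible R M f
  gen : Submodule.span R (Set.range f) = ⊤
  len : Module.length R M = (l : ℕ∞)

namespace RefFlag

variable {l : ℕ} (F : RefFlag R M l)

/-- the `j`-th step of the flag -/
def fl (j : ℕ) : Submodule R M := spanBefore R M F.f j

lemma fl_mono {i j : ℕ} (h : i ≤ j) : F.fl i ≤ F.fl j := spanBefore_mono F.f h

lemma fl_succ (j : Fin l) : F.fl ((j : ℕ) + 1) = F.fl j ⊔ Submodule.span R {F.f j} :=
  spanBefore_succ F.f j

lemma fl_top : F.fl l = ⊤ := by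
  unfold fl
  rw [spanBefore_of_ge _ le_rfl, F.gen]

lemma fl_zero : F.fl 0 = ⊥ := spanBefore_zero _

lemma f_notMem (j : Fin l) : F.f j ∉ F.fl j :=
  notMem_spanBefore_of_span_eq_top F.f F.adm F.len F.gen j

lemma smul_f_mem (j : Fin l) (r : R) (hr : r ∈ maximalIdeal R) : r • F.f j ∈ F.fl j :=
  F.adm j r hr

lemma f_mem_succ (j : Fin l) : F.f j ∈ F.fl ((j : ℕ) + 1) :=
  mem_spanBefore F.f (Nat.lt_succ_self _)

/-- `(j, r)` is a pivot of `x` modulo `D`. -/
def IsPiv (D : Submodule R M) (x : M) (j : Fin l) (r : R) : Prop :=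
  x - r • F.f j ∈ D ⊔ F.fl j ∧ x ∉ D ⊔ F.fl j

variable {F}

lemma IsPiv.mem_succ {D : Submodule R M} {x : M} {j : Fin l} {r : R} (h : F.IsPiv D x j r) :
    x ∈ D ⊔ F.fl ((j : ℕ) + 1) := by
  have h1 : x = (x - r • F.f j) + r • F.f j := by abel
  rw [h1]
  apply Submodule.add_mem
  · exact (sup_le_sup_left (F.fl_mono (Nat.le_succ _)) D) h.1
  · exact Submodule.mem_sup_right (Submodule.smul_mem _ _ (F.f_mem_succ j))

lemma IsPiv.isUnit {D : Submodule R M} {x : M} {j : Fin l} {r : R} (h : F.IsPiv D x j r) :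
    IsUnit r := by
  by_contra hnu
  have hrm : r ∈ maximalIdeal R := (IsLocalRing.mem_maximalIdeal r).2 hnu
  apply h.2
  have h1 : x = (x - r • F.f j) + r • F.f j := by abel
  rw [h1]
  exact Submodule.add_mem _ h.1 (Submodule.mem_sup_right (F.smul_f_mem j r hrm))

lemma IsPiv.notMem {D : Submodule R M} {x : M} {j : Fin l} {r : R} (h : F.IsPiv D x j r) :
    x ∉ D := fun hx => h.2 (Submodule.mem_sup_left hx)

lemma IsPiv.idx_unique {D : Submodule R M} {x : M} {j j' : Fin l} {r r' : R}
    (h : F.IsPiv D x j r) (h' : F.IsPiv D x j' r') : j = j' := by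
  by_contra hne
  rcases lt_or_gt_of_ne hne with hlt | hlt
  · apply h'.2
    exact (sup_le_sup_left (F.fl_mono (by exact hlt)) D) h.mem_succ
  · apply h.2
    exact (sup_le_sup_left (F.fl_mono (by exact hlt)) D) h'.mem_succ

lemma IsPiv.residue_unique {D : Submodule R M} {x : M} {j : Fin l} {r r' : R}
    (h : F.IsPiv D x j r) (h' : F.IsPiv D x j r') : residue R r = residue R r' := by
  rw [← sub_eq_zero, ← map_sub, IsLocalRing.residue_eq_zero_iff]
  by_contra hnm
  have hu : IsUnit (r - r') := by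
    by_contra hnu
    exact hnm ((IsLocalRing.mem_maximalIdeal _).2 hnu)
  obtain ⟨u, hu⟩ := hu
  have h1 : (r - r') • F.f j ∈ D ⊔ F.fl j := by
    have : (r - r') • F.f j = (x - r' • F.f j) - (x - r • F.f j) := by
      rw [sub_smul]; abel
    rw [this]
    exact Submodule.sub_mem _ h'.1 h.1
  have h2 : F.f j ∈ D ⊔ F.fl j := by
    have : F.f j = ((u⁻¹ : Rˣ) : R) • ((r - r') • F.f j) := by
      rw [← hu, smul_smul, Units.inv_mul, one_smul]
    rw [this]
    exact Submodule.smul_mem _ _ h1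
  apply h.2
  have h3 : x = (x - r • F.f j) + r • F.f j := by abel
  rw [h3]
  exact Submodule.add_mem _ h.1 (Submodule.smul_mem _ _ h2)

/-- changing the coefficient by an element of the maximal ideal -/
lemma IsPiv.of_residue_eq {D : Submodule R M} {x : M} {j : Fin l} {r r' : R}
    (h : F.IsPiv D x j r) (hr : residue R r = residue R r') : F.IsPiv D x j r' := by
  refine ⟨?_, h.2⟩
  have hm : r - r' ∈ maximalIdeal R := by
    rw [← IsLocalRing.residue_eq_zero_iff, map_sub, hr, sub_self]
  have : x - r' • F.f j = (x - r • F.f j) + (r - r') • F.f j := by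
    rw [sub_smul]; abel
  rw [this]
  exact Submodule.add_mem _ h.1 (Submodule.mem_sup_right (F.smul_f_mem j _ hm))

/-- enlarging the submodule -/
lemma IsPiv.mono {D D' : Submodule R M} {x : M} {j : Fin l} {r : R}
    (h : F.IsPiv D x j r) (hDD' : D ≤ D') (hx : x ∉ D' ⊔ F.fl j) : F.IsPiv D' x j r :=
  ⟨(sup_le_sup_right hDD' _) h.1, hx⟩

variable (F)

theorem exists_isPiv (D : Submodule R M) (x : M) (hx : x ∉ D) : ∃ j r, F.IsPiv D x j r := by
  classical
  have hex : ∃ i, x ∈ D ⊔ F.fl i := ⟨l, by rw [F.fl_top, sup_top_eq]; trivial⟩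
  have hne : Nat.find hex ≠ 0 := by
    intro h0
    have := Nat.find_spec hex
    rw [h0, F.fl_zero, sup_bot_eq] at this
    exact hx this
  have hle : Nat.find hex ≤ l := Nat.find_min' hex (by rw [F.fl_top, sup_top_eq]; trivial)
  obtain ⟨i, hi⟩ := Nat.exists_eq_succ_of_ne_zero hne
  have hil : i < l := by omega
  have hmem : x ∈ D ⊔ F.fl (i + 1) := by
    have := Nat.find_spec hex
    rw [hi] at this
    exact this
  have hnot : x ∉ D ⊔ F.fl i := Nat.find_min hex (by omega)
  have hs := F.fl_succ ⟨i, hil⟩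
  simp only at hs
  rw [hs] at hmem
  obtain ⟨d, hd, z, hz, hdz⟩ := Submodule.mem_sup.1 hmem
  obtain ⟨g, hg, w, hw, hgw⟩ := Submodule.mem_sup.1 hz
  obtain ⟨r, rfl⟩ := Submodule.mem_span_singleton.1 hw
  refine ⟨⟨i, hil⟩, r, ?_, hnot⟩
  have : x - r • F.f ⟨i, hil⟩ = d + g := by
    rw [← hdz, ← hgw]; abel
  rw [this]
  exact Submodule.add_mem _ (Submodule.mem_sup_left hd) (Submodule.mem_sup_right hg)

end RefFlag

end Groth.Agent.H1.CycDetA
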