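import Groth.Agent.Lib.Helper1.CycDetE
set_option autoImplicit false
universe u v w

namespace Groth.Agent.H1.CycDetA

open IsLocalRing CycDet

variable {R : Type u} [CommRing R] [IsLocalRing R] {M : Type v} [AddCommGroup M] [Module R M]

namespace RefFlag

variable {l : ℕ} {F : RefFlag R M l}

lemma mem_sup_span_iff (D : Submodule R M) (x z : M) :
    z ∈ D ⊔ Submodule.span R {x} ↔ ∃ d ∈ D, ∃ t : R, d + t • x = z := by
  rw [Submodule.mem_sup]
  constructor
  · rintro ⟨d, hd, w, hw, rfl⟩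
    obtain ⟨t, rfl⟩ := Submodule.mem_span_singleton.1 hw
    exact ⟨d, hd, t, rfl⟩
  · rintro ⟨d, hd, t, rfl⟩
    exact ⟨d, hd, t • x, Submodule.mem_span_singleton.2 ⟨t, rfl⟩, rfl⟩

/-- membership in `(D ⊔ Rx) ⊔ G` -/
lemma mem_sup_span_sup_iff (D G : Submodule R M) (x z : M) :
    z ∈ (D ⊔ Submodule.span R {x}) ⊔ G ↔ ∃ t : R, z - t • x ∈ D ⊔ G := by
  constructor
  · intro hz
    obtain ⟨w, hw, g, hg, rfl⟩ := Submodule.mem_sup.1 hz
    obtain ⟨d, hd, t, rfl⟩ := (mem_sup_span_iff D x w).1 hw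
    refine ⟨t, ?_⟩
    have : d + t • x + g - t • x = d + g := by abel
    rw [this]
    exact Submodule.add_mem _ (Submodule.mem_sup_left hd) (Submodule.mem_sup_right hg)
  · rintro ⟨t, ht⟩
    obtain ⟨d, hd, g, hg, hdg⟩ := Submodule.mem_sup.1 ht
    have : z = (d + t • x) + g := by
      have : z = (z - t • x) + t • x := by abel
      rw [this, ← hdg]; abel
    rw [this]
    exact Submodule.add_mem _ (Submodule.mem_sup_left
      ((mem_sup_span_iff D x _).2 ⟨d, hd, t, rfl⟩)) (Submodule.mem_sup_right hg)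

theorem isPiv_pair_of_lt {D : Submodule R M} {x y : M} {p p' : Fin l} {r r' : R}
    (hmy : ∀ t ∈ maximalIdeal R, t • y ∈ D)
    (hx : F.IsPiv D x p r) (hy : F.IsPiv D y p' r') (hlt : p < p') :
    F.IsPiv (D ⊔ Submodule.span R {x}) y p' r' ∧ F.IsPiv (D ⊔ Submodule.span R {y}) x p r := by
  have hxmem : x ∈ D ⊔ F.fl p' :=
    (sup_le_sup_left (F.fl_mono (by exact hlt)) D) hx.mem_succ
  constructor
  · apply hy.mono le_sup_left
    intro hcon
    obtain ⟨t, ht⟩ := (mem_sup_span_sup_iff D (F.fl p') x y).1 hcon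
    apply hy.2
    have : y = (y - t • x) + t • x := by abel
    rw [this]
    exact Submodule.add_mem _ ht (Submodule.smul_mem _ _ hxmem)
  · apply hx.mono le_sup_left
    intro hcon
    obtain ⟨t, ht⟩ := (mem_sup_span_sup_iff D (F.fl p) y x).1 hcon
    by_cases htu : IsUnit t
    · obtain ⟨u, rfl⟩ := htu
      apply hy.2
      -- y = u⁻¹ (x - (x - u y))
      have h1 : y = ((u⁻¹ : Rˣ) : R) • (x - (x - (u : R) • y)) := by
        rw [sub_sub_cancel, smul_smul, Units.inv_mul, one_smul]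
      rw [h1]
      apply Submodule.smul_mem
      apply Submodule.sub_mem _ hxmem
      exact (sup_le_sup_left (F.fl_mono (le_of_lt hlt)) D) ht
    · have htm : t ∈ maximalIdeal R := (IsLocalRing.mem_maximalIdeal t).2 htu
      apply hx.2
      have : x = (x - t • y) + t • y := by abel
      rw [this]
      exact Submodule.add_mem _ ht (Submodule.mem_sup_left (hmy t htm))

theorem isPiv_pair_of_eq {D : Submodule R M} {x y : M} {p q : Fin l} {r r' s : R}
    (hmx : ∀ t ∈ maximalIdeal R, t • x ∈ D)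
    (hmy : ∀ t ∈ maximalIdeal R, t • y ∈ D)
    (hx : F.IsPiv D x p r) (hy : F.IsPiv D y p r')
    (hq : F.IsPiv (D ⊔ Submodule.span R {x}) y q s) :
    ∃ s' : R, F.IsPiv (D ⊔ Submodule.span R {y}) x q s' ∧
      residue R r' * residue R s' = -(residue R r * residue R s) := by
  obtain ⟨ur, hur⟩ := hx.isUnit
  -- y - r' r⁻¹ x ∈ D ⊔ F_p
  have hyx : y - (r' * ((ur⁻¹ : Rˣ) : R)) • x ∈ D ⊔ F.fl p := by
    have : y - (r' * ((ur⁻¹ : Rˣ) : R)) • x =
        (y - r' • F.f p) - (r' * ((ur⁻¹ : Rˣ) : R)) • (x - r • F.f p) := by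
      rw [smul_sub, smul_smul, mul_assoc, ← hur, Units.inv_mul, mul_one]; abel
    rw [this]
    exact Submodule.sub_mem _ hy.1 (Submodule.smul_mem _ _ hx.1)
  -- q < p
  have hqp : q < p := by
    by_contra hnot
    have hpq : p ≤ q := not_lt.1 hnot
    apply hq.2
    rw [mem_sup_span_sup_iff]
    exact ⟨_, (sup_le_sup_left (F.fl_mono (by exact hpq)) D) hyx⟩
  have hqp' : (q : ℕ) + 1 ≤ p := hqp
  -- decompose y - s f_q
  obtain ⟨t, ht⟩ := (mem_sup_span_sup_iff D (F.fl q) x (y - s • F.f q)).1 hq.1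
  -- t is a unit
  have htu : IsUnit t := by
    by_contra hnu
    have htm : t ∈ maximalIdeal R := (IsLocalRing.mem_maximalIdeal t).2 hnu
    apply hy.2
    have h1 : y = (y - s • F.f q - t • x) + t • x + s • F.f q := by abel
    rw [h1]
    apply Submodule.add_mem
    · apply Submodule.add_mem
      · exact (sup_le_sup_left (F.fl_mono (by omega)) D) ht
      · exact Submodule.mem_sup_left (hmx t htm)
    · exact Submodule.mem_sup_right (Submodule.smul_mem _ _
        (F.fl_mono hqp' (F.f_mem_succ q)))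
  obtain ⟨ut, rfl⟩ := htu
  -- y - t x ∈ D ⊔ F_p
  have hytx : y - (ut : R) • x ∈ D ⊔ F.fl p := by
    have h1 : y - (ut : R) • x = (y - s • F.f q - (ut : R) • x) + s • F.f q := by abel
    rw [h1]
    apply Submodule.add_mem
    · exact (sup_le_sup_left (F.fl_mono (by omega)) D) ht
    · exact Submodule.mem_sup_right (Submodule.smul_mem _ _
        (F.fl_mono hqp' (F.f_mem_succ q)))
  -- residue t = residue r' / residue r
  have hres : residue R (ut : R) = residue R (r' * ((ur⁻¹ : Rˣ) : R)) := by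
    rw [← sub_eq_zero, ← map_sub, IsLocalRing.residue_eq_zero_iff]
    by_contra hnm
    have hu : IsUnit ((ut : R) - r' * ((ur⁻¹ : Rˣ) : R)) := by
      by_contra hnu
      exact hnm ((IsLocalRing.mem_maximalIdeal _).2 hnu)
    obtain ⟨w, hw⟩ := hu
    have h1 : ((ut : R) - r' * ((ur⁻¹ : Rˣ) : R)) • x ∈ D ⊔ F.fl p := by
      have : ((ut : R) - r' * ((ur⁻¹ : Rˣ) : R)) • x =
          (y - (r' * ((ur⁻¹ : Rˣ) : R)) • x) - (y - (ut : R) • x) := by
        rw [sub_smul]; abel
      rw [this]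
      exact Submodule.sub_mem _ hyx hytx
    apply hx.2
    have : x = ((w⁻¹ : Rˣ) : R) • (((ut : R) - r' * ((ur⁻¹ : Rˣ) : R)) • x) := by
      rw [← hw, smul_smul, Units.inv_mul, one_smul]
    rw [this]
    exact Submodule.smul_mem _ _ h1
  refine ⟨-(((ut⁻¹ : Rˣ) : R) * s), ⟨?_, ?_⟩, ?_⟩
  · -- x + t⁻¹ s f_q ∈ (D ⊔ Ry) ⊔ F_q
    rw [mem_sup_span_sup_iff]
    refine ⟨((ut⁻¹ : Rˣ) : R), ?_⟩
    have : x - -(((ut⁻¹ : Rˣ) : R) * s) • F.f q - ((ut⁻¹ : Rˣ) : R) • y =
        -(((ut⁻¹ : Rˣ) : R) • (y - s • F.f q - (ut : R) • x)) := by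
      rw [smul_sub, smul_sub, smul_smul, smul_smul, Units.inv_mul, one_smul, neg_smul]
      abel
    rw [this]
    exact Submodule.neg_mem _ (Submodule.smul_mem _ _ ht)
  · intro hcon
    obtain ⟨t', ht'⟩ := (mem_sup_span_sup_iff D (F.fl q) y x).1 hcon
    by_cases ht'u : IsUnit t'
    · obtain ⟨u', rfl⟩ := ht'u
      apply hq.2
      rw [mem_sup_span_sup_iff]
      refine ⟨((u'⁻¹ : Rˣ) : R), ?_⟩
      have : y - ((u'⁻¹ : Rˣ) : R) • x = -(((u'⁻¹ : Rˣ) : R) • (x - (u' : R) • y)) := by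
        rw [smul_sub, smul_smul, Units.inv_mul, one_smul]; abel
      rw [this]
      exact Submodule.neg_mem _ (Submodule.smul_mem _ _ ht')
    · have htm : t' ∈ maximalIdeal R := (IsLocalRing.mem_maximalIdeal t').2 ht'u
      apply hx.2
      have : x = (x - t' • y) + t' • y := by abel
      rw [this]
      apply Submodule.add_mem
      · exact (sup_le_sup_left (F.fl_mono (by omega)) D) ht'
      · exact Submodule.mem_sup_left (hmy t' htm)
  · -- residue computation
    have hrr : residue R r * residue R ((ur⁻¹ : Rˣ) : R) = 1 := by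
      rw [← map_mul, ← hur, Units.mul_inv, map_one]
    have htt : residue R (ut : R) * residue R ((ut⁻¹ : Rˣ) : R) = 1 := by
      rw [← map_mul, Units.mul_inv, map_one]
    rw [map_mul] at hres
    rw [map_neg, map_mul]
    have hr'eq : residue R r' = residue R (ut : R) * residue R r := by
      rw [hres, mul_assoc, mul_comm (residue R ((ur⁻¹ : Rˣ) : R)), hrr, mul_one]
    rw [hr'eq]
    calc residue R (ut : R) * residue R r * -(residue R ((ut⁻¹ : Rˣ) : R) * residue R s)
        = -((residue R (ut : R) * residue R ((ut⁻¹ : Rˣ) : R)) * (residue R r * residue R s)) := by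
          ring
      _ = -(residue R r * residue R s) := by rw [htt, one_mul]

end RefFlag

end Groth.Agent.H1.CycDetA
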