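import Groth.Agent.Lib.Helper1.CycDetF
set_option autoImplicit false
universe u v w

namespace Groth.Agent.H1.CycDetA

open IsLocalRing CycDet

variable {R : Type u} [CommRing R] [IsLocalRing R] {M : Type v} [AddCommGroup M] [Module R M]

section PMat

variable {l : ℕ} (K : Type w) [Field K]

/-- the 0/1 matrix of a function -/
def pmat (σ : Fin l → Fin l) : Matrix (Fin l) (Fin l) K :=
  Matrix.of fun i j => if j = σ i then 1 else 0

lemma pmat_id : pmat K (id : Fin l → Fin l) = 1 := by
  ext i j
  simp only [pmat, Matrix.of_apply, id_eq, Matrix.one_apply]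
  by_cases h : i = j
  · subst h; simp
  · rw [if_neg (fun h' => h h'.symm), if_neg h]

lemma det_pmat_comp_swap (σ : Fin l → Fin l) (a b : Fin l) (hab : a ≠ b) :
    (pmat K (σ ∘ Equiv.swap a b)).det = -(pmat K σ).det := by
  have : pmat K (σ ∘ Equiv.swap a b) = (pmat K σ).submatrix (Equiv.swap a b) id := by
    ext i j
    simp [pmat]
  rw [this, Matrix.det_permute, Equiv.Perm.sign_swap hab]
  simp

end PMat

section ProdHelpers

variable {l : ℕ} {K : Type w} [CommMonoid K]

lemma prod_update_eq (g : Fin l → K) (a : Fin l) (v : K) :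
    ∏ i, Function.update g a v i = v * ∏ i ∈ Finset.univ.erase a, g i := by
  rw [Finset.prod_update_of_mem (Finset.mem_univ a), Finset.sdiff_singleton_eq_erase]

lemma prod_eq_mul_erase (g : Fin l → K) (a : Fin l) :
    ∏ i, g i = g a * ∏ i ∈ Finset.univ.erase a, g i :=
  (Finset.mul_prod_erase _ _ (Finset.mem_univ a)).symm

end ProdHelpers

namespace RefFlag

variable {l : ℕ} (F : RefFlag R M l)

/-- pivot data for a tuple -/
def IsPivData (e : Fin l → M) (σ : Fin l → Fin l) (ρ : Fin l → R) : Prop :=
  ∀ i : Fin l, F.IsPiv (spanBefore R M e i) (e i) (σ i) (ρ i)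

theorem exists_isPivData (e : Fin l → M) (hadm : IsAdmissible R M e)
    (hgen : Submodule.span R (Set.range e) = ⊤) : ∃ σ ρ, F.IsPivData e σ ρ := by
  have h : ∀ i : Fin l, ∃ j r, F.IsPiv (spanBefore R M e i) (e i) j r := fun i =>
    F.exists_isPiv _ _ (notMem_spanBefore_of_span_eq_top e hadm F.len hgen i)
  choose σ ρ hσρ using h
  exact ⟨σ, ρ, hσρ⟩

/-- the value attached to pivot data -/
noncomputable def val (σ : Fin l → Fin l) (ρ : Fin l → R) : ResidueField R :=
  (∏ i, residue R (ρ i)) * (pmat (ResidueField R) σ).det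

variable {F}

theorem val_unique {e : Fin l → M} {σ σ' : Fin l → Fin l} {ρ ρ' : Fin l → R}
    (hd : F.IsPivData e σ ρ) (hd' : F.IsPivData e σ' ρ') : val σ ρ = val σ' ρ' := by
  have hσ : σ = σ' := funext fun i => (hd i).idx_unique (hd' i)
  subst hσ
  unfold val
  congr 1
  apply Finset.prod_congr rfl
  intro i _
  exact (hd i).residue_unique (hd' i)

variable (F)

open Classical in
/-- the functional on admissible tuples -/
noncomputable def psiFun (e : Adm R M l) : ResidueField R :=
  if h : Submodule.span R (Set.range e.1) = ⊤ then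
    val (Classical.choose (F.exists_isPivData e.1 e.2 h))
      (Classical.choose (Classical.choose_spec (F.exists_isPivData e.1 e.2 h)))
  else 0

variable {F}

theorem psiFun_eq (e : Adm R M l) (hgen : Submodule.span R (Set.range e.1) = ⊤)
    {σ : Fin l → Fin l} {ρ : Fin l → R} (hd : F.IsPivData e.1 σ ρ) :
    F.psiFun e = val σ ρ := by
  unfold psiFun
  rw [dif_pos hgen]
  exact val_unique (Classical.choose_spec (Classical.choose_spec
    (F.exists_isPivData e.1 e.2 hgen))) hd

theorem psiFun_of_not_gen (e : Adm R M l) (hgen : Submodule.span R (Set.range e.1) ≠ ⊤) :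
    F.psiFun e = 0 := by
  unfold psiFun
  rw [dif_neg hgen]

end RefFlag

end Groth.Agent.H1.CycDetA

namespace Groth.Agent.H1.CycDetA

open IsLocalRing CycDet

variable {R : Type u} [CommRing R] [IsLocalRing R] {M : Type v} [AddCommGroup M] [Module R M]

lemma spanBefore_eq_of_relB {l : ℕ} (e e' : Fin l → M) (a : Fin l) (c : Rˣ)
    (h1 : ∀ j, j ≠ a → e j = e' j)
    (h2 : e a - (c : R) • e' a ∈ spanBefore R M e a) (i : ℕ) :
    spanBefore R M e i = spanBefore R M e' i := by
  have hle : ∀ k : ℕ, k ≤ a → spanBefore R M e k = spanBefore R M e' k := by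
    intro k hk
    apply spanBefore_congr
    intro j hj
    apply h1
    intro h0
    rw [h0] at hj
    omega
  by_cases hia : i ≤ a
  · exact hle i hia
  have hia' : (a : ℕ) < i := not_le.1 hia
  have h2' : e a - (c : R) • e' a ∈ spanBefore R M e' i := by
    have := h2
    rw [hle a le_rfl] at this
    exact spanBefore_mono _ (le_of_lt hia') this
  have h2'' : e a - (c : R) • e' a ∈ spanBefore R M e i :=
    spanBefore_mono _ (le_of_lt hia') h2
  apply le_antisymm
  · apply spanBefore_le_of_forall_mem
    intro j hj
    by_cases hja : j = a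
    · rw [hja]
      have : e a = (e a - (c : R) • e' a) + (c : R) • e' a := by abel
      rw [this]
      exact Submodule.add_mem _ h2' (Submodule.smul_mem _ _ (mem_spanBefore _ hia'))
    · rw [h1 j hja]
      exact mem_spanBefore _ hj
  · apply spanBefore_le_of_forall_mem
    intro j hj
    by_cases hja : j = a
    · rw [hja]
      have : e' a = ((c⁻¹ : Rˣ) : R) • (e a - (e a - (c : R) • e' a)) := by
        rw [sub_sub_cancel, smul_smul, Units.inv_mul, one_smul]
      rw [this]
      exact Submodule.smul_mem _ _ (Submodule.sub_mem _ (mem_spanBefore _ hia') h2'')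
    · rw [← h1 j hja]
      exact mem_spanBefore _ hj

namespace RefFlag

variable {l : ℕ} {F : RefFlag R M l}

theorem psiFun_relA (e : Adm R M l) (a : Fin l) (ha : e.1 a ∈ spanBefore R M e.1 a) :
    F.psiFun e = 0 := by
  apply psiFun_of_not_gen
  intro hgen
  exact notMem_spanBefore_of_span_eq_top e.1 e.2 F.len hgen a ha

theorem psiFun_relB (e e' : Adm R M l) (a : Fin l) (c : Rˣ)
    (h1 : ∀ j, j ≠ a → e.1 j = e'.1 j)
    (h2 : e.1 a - (c : R) • e'.1 a ∈ spanBefore R M e.1 a) :
    F.psiFun e = residue R (c : R) • F.psiFun e' := by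
  have hsp := spanBefore_eq_of_relB e.1 e'.1 a c h1 h2
  have hgeniff : Submodule.span R (Set.range e.1) = ⊤ ↔ Submodule.span R (Set.range e'.1) = ⊤ := by
    rw [← spanBefore_of_ge e.1 (le_refl l), ← spanBefore_of_ge e'.1 (le_refl l), hsp l]
  by_cases hgen : Submodule.span R (Set.range e.1) = ⊤
  swap
  · rw [psiFun_of_not_gen e hgen, psiFun_of_not_gen e' (fun h => hgen (hgeniff.2 h)), smul_zero]
  have hgen' := hgeniff.1 hgen
  obtain ⟨σ, ρ', hd'⟩ := F.exists_isPivData e'.1 e'.2 hgen'
  have hd : F.IsPivData e.1 σ (Function.update ρ' a ((c : R) * ρ' a)) := by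
    intro i
    by_cases hia : i = a
    · subst hia
      rw [Function.update_self]
      have hp := hd' i
      rw [← hsp i] at hp
      constructor
      · have : e.1 i - ((c : R) * ρ' i) • F.f (σ i) =
            (e.1 i - (c : R) • e'.1 i) + (c : R) • (e'.1 i - ρ' i • F.f (σ i)) := by
          rw [smul_sub, smul_smul]; abel
        rw [this]
        exact Submodule.add_mem _ (Submodule.mem_sup_left h2) (Submodule.smul_mem _ _ hp.1)
      · intro hcon
        apply hp.2
        have : e'.1 i = ((c⁻¹ : Rˣ) : R) • (e.1 i - (e.1 i - (c : R) • e'.1 i)) := by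
          rw [sub_sub_cancel, smul_smul, Units.inv_mul, one_smul]
        rw [this]
        exact Submodule.smul_mem _ _ (Submodule.sub_mem _ hcon (Submodule.mem_sup_left h2))
    · rw [Function.update_of_ne hia, hsp i, h1 i hia]
      exact hd' i
  rw [psiFun_eq e hgen hd, psiFun_eq e' hgen' hd']
  unfold val
  have : (fun i => residue R (Function.update ρ' a ((c : R) * ρ' a) i)) =
      Function.update (fun i => residue R (ρ' i)) a (residue R (c : R) * residue R (ρ' a)) := by
    funext i
    by_cases hia : i = a
    · subst hia; simp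
    · simp [Function.update_of_ne hia]
  rw [this, prod_update_eq, prod_eq_mul_erase (fun i => residue R (ρ' i)) a, smul_eq_mul]
  ring

theorem psiFun_relC (e e' : Adm R M l) (a b : Fin l) (hab : (b : ℕ) + 1 = (a : ℕ))
    (hm : ∀ r ∈ maximalIdeal R, r • e.1 a ∈ spanBefore R M e.1 b)
    (he' : e'.1 = e.1 ∘ Equiv.swap a b) : F.psiFun e + F.psiFun e' = 0 := by
  have hne : a ≠ b := by
    intro h0; rw [h0] at hab; omega
  have hgeniff : Submodule.span R (Set.range e.1) = ⊤ ↔ Submodule.span R (Set.range e'.1) = ⊤ := by
    rw [he', range_comp_swap]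
  by_cases hgen : Submodule.span R (Set.range e.1) = ⊤
  swap
  · rw [psiFun_of_not_gen e hgen, psiFun_of_not_gen e' (fun h => hgen (hgeniff.2 h)), add_zero]
  have hgen' := hgeniff.1 hgen
  obtain ⟨σ, ρ, hd⟩ := F.exists_isPivData e.1 e.2 hgen
  set D := spanBefore R M e.1 b with hD
  have hEa : spanBefore R M e.1 a = D ⊔ Submodule.span R {e.1 b} := by
    rw [← hab]; exact spanBefore_succ e.1 b
  have hE'b : spanBefore R M e'.1 b = D := by
    rw [he']; exact spanBefore_comp_swap e.1 a b hab b (Or.inl le_rfl)
  have he'b : e'.1 b = e.1 a := by rw [he', Function.comp_apply, Equiv.swap_apply_right]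
  have he'a : e'.1 a = e.1 b := by rw [he', Function.comp_apply, Equiv.swap_apply_left]
  have hE'a : spanBefore R M e'.1 a = D ⊔ Submodule.span R {e.1 a} := by
    rw [← hab, spanBefore_succ e'.1 b, hE'b, he'b]
  have hother : ∀ i : Fin l, i ≠ a → i ≠ b →
      spanBefore R M e'.1 i = spanBefore R M e.1 i ∧ e'.1 i = e.1 i := by
    intro i hia hib
    constructor
    · rw [he']
      apply spanBefore_comp_swap e.1 a b hab
      have h1 : (i : ℕ) ≠ a := fun h => hia (Fin.ext h)
      have h2 : (i : ℕ) ≠ b := fun h => hib (Fin.ext h)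
      omega
    · rw [he', Function.comp_apply, Equiv.swap_apply_of_ne_of_ne hia hib]
  have hmb : ∀ t ∈ maximalIdeal R, t • e.1 b ∈ D := fun t ht => e.2 b t ht
  have hpb : F.IsPiv D (e.1 b) (σ b) (ρ b) := hd b
  have hpa : F.IsPiv (D ⊔ Submodule.span R {e.1 b}) (e.1 a) (σ a) (ρ a) := by
    have := hd a
    rw [hEa] at this
    exact this
  have haD : e.1 a ∉ D := fun h => hpa.notMem (Submodule.mem_sup_left h)
  obtain ⟨p', r', hp'⟩ := F.exists_isPiv D (e.1 a) haD
  by_cases hpp : σ b = p'
  · -- equal pivots
    subst hpp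
    obtain ⟨s', hs', hres⟩ := isPiv_pair_of_eq hmb hm hpb hp' hpa
    have hd' : F.IsPivData e'.1 σ (Function.update (Function.update ρ b r') a s') := by
      intro i
      by_cases hia : i = a
      · subst hia
        rw [Function.update_self, hE'a, he'a]
        exact hs'
      by_cases hib : i = b
      · subst hib
        rw [Function.update_of_ne hia, Function.update_self, hE'b, he'b]
        exact hp'
      · rw [Function.update_of_ne hia, Function.update_of_ne hib, (hother i hia hib).1,
          (hother i hia hib).2]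
        exact hd i
    rw [psiFun_eq e hgen hd, psiFun_eq e' hgen' hd']
    unfold val
    rw [← add_mul]
    have hprod : (∏ i, residue R (ρ i)) +
        ∏ i, residue R (Function.update (Function.update ρ b r') a s' i) = 0 := by
      have e1 : (fun i => residue R (Function.update (Function.update ρ b r') a s' i)) =
          Function.update (Function.update (fun i => residue R (ρ i)) b (residue R r')) a
            (residue R s') := by
        funext i
        by_cases hia : i = a
        · subst hia; simp
        by_cases hib : i = b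
        · subst hib; simp [Function.update_of_ne hia]
        · simp [Function.update_of_ne hia, Function.update_of_ne hib]
      rw [e1, prod_update_eq, prod_eq_mul_erase (fun i => residue R (ρ i)) a]
      have hbmem : b ∈ Finset.univ.erase a := Finset.mem_erase.2 ⟨hne.symm, Finset.mem_univ b⟩
      rw [← Finset.mul_prod_erase _ _ hbmem, ← Finset.mul_prod_erase _ _ hbmem,
        Function.update_self]
      have e2 : ∏ x ∈ (Finset.univ.erase a).erase b,
          Function.update (fun i => residue R (ρ i)) b (residue R r') x =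
          ∏ x ∈ (Finset.univ.erase a).erase b, residue R (ρ x) := by
        apply Finset.prod_congr rfl
        intro x hx
        rw [Function.update_of_ne (Finset.ne_of_mem_erase hx)]
      rw [e2]
      have hres' : residue R s' * residue R r' = -(residue R (ρ a) * residue R (ρ b)) := by
        rw [mul_comm, hres, mul_comm]
      calc residue R (ρ a) * (residue R (ρ b) * ∏ x ∈ (Finset.univ.erase a).erase b,
              residue R (ρ x)) +
            residue R s' * (residue R r' * ∏ x ∈ (Finset.univ.erase a).erase b, residue R (ρ x))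
          = (residue R (ρ a) * residue R (ρ b) + residue R s' * residue R r') *
              ∏ x ∈ (Finset.univ.erase a).erase b, residue R (ρ x) := by ring
        _ = 0 := by rw [hres', add_neg_cancel, zero_mul]
    rw [hprod, zero_mul]
  · -- distinct pivots
    have hpair : F.IsPiv (D ⊔ Submodule.span R {e.1 b}) (e.1 a) p' r' ∧
        F.IsPiv (D ⊔ Submodule.span R {e.1 a}) (e.1 b) (σ b) (ρ b) := by
      rcases lt_or_gt_of_ne hpp with hlt | hlt
      · exact isPiv_pair_of_lt hm hpb hp' hlt
      · exact (isPiv_pair_of_lt hmb hp' hpb hlt).symm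
    have hσa : σ a = p' := hpa.idx_unique hpair.1
    have hra : residue R (ρ a) = residue R r' := by
      subst hσa
      exact hpa.residue_unique hpair.1
    have hd' : F.IsPivData e'.1 (σ ∘ Equiv.swap a b) (ρ ∘ Equiv.swap a b) := by
      intro i
      by_cases hia : i = a
      · subst hia
        rw [Function.comp_apply, Function.comp_apply, Equiv.swap_apply_left, hE'a, he'a]
        exact hpair.2
      by_cases hib : i = b
      · subst hib
        rw [Function.comp_apply, Function.comp_apply, Equiv.swap_apply_right, hE'b, he'b, hσa]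
        exact hp'.of_residue_eq hra.symm
      · rw [Function.comp_apply, Function.comp_apply, Equiv.swap_apply_of_ne_of_ne hia hib,
          (hother i hia hib).1, (hother i hia hib).2]
        exact hd i
    rw [psiFun_eq e hgen hd, psiFun_eq e' hgen' hd']
    unfold val
    rw [det_pmat_comp_swap _ σ a b hne]
    have : ∏ i, residue R ((ρ ∘ Equiv.swap a b) i) = ∏ i, residue R (ρ i) :=
      Equiv.prod_comp (Equiv.swap a b) (fun i => residue R (ρ i))
    rw [this]
    ring

variable (F)

/-- the functional `det_κ(M) → κ` attached to a reference flag -/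
noncomputable def psi : DetOfLen R M l →ₗ[ResidueField R] ResidueField R :=
  lift F.psiFun psiFun_relA psiFun_relB psiFun_relC

theorem psi_mk (e : Adm R M l) : F.psi (CycDetA.mk e) = F.psiFun e := lift_mk _ _ _ _ e

theorem psi_mk_of_isPivData (e : Adm R M l) (hgen : Submodule.span R (Set.range e.1) = ⊤)
    {σ : Fin l → Fin l} {ρ : Fin l → R} (hd : F.IsPivData e.1 σ ρ) :
    F.psi (CycDetA.mk e) = val σ ρ := by
  rw [psi_mk, psiFun_eq e hgen hd]

theorem isPivData_self : F.IsPivData F.f id (fun _ => 1) := by
  intro i
  constructor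
  · rw [one_smul, id_eq, sub_self]
    exact Submodule.zero_mem _
  · have : spanBefore R M F.f i ⊔ F.fl ((id i : Fin l) : ℕ) = F.fl i := by
      unfold fl; simp
    rw [this]
    exact F.f_notMem i

theorem psi_mk_self : F.psi (CycDetA.mk ⟨F.f, F.adm⟩) = 1 := by
  rw [F.psi_mk_of_isPivData ⟨F.f, F.adm⟩ F.gen F.isPivData_self]
  unfold val
  rw [pmat_id, Matrix.det_one]
  simp

end RefFlag

end Groth.Agent.H1.CycDetA
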