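import Groth.Agent.Lib.Helper1.CycDetG
set_option autoImplicit false
universe u v w

namespace Groth.Agent.H1.CycDetA

open IsLocalRing CycDet

variable {R : Type u} [CommRing R] [IsLocalRing R]

/-- A finite length module has a reference flag. -/
theorem exists_refFlag : ∀ (l : ℕ) (M : Type v) [AddCommGroup M] [Module R M],
    Module.length R M = (l : ℕ∞) → Nonempty (RefFlag R M l) := by
  intro l
  induction l with
  | zero =>
    intro M _ _ hl
    have hsub : Subsingleton M := by
      rw [← Module.length_eq_zero_iff (R := R), hl]; rfl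
    exact ⟨⟨Fin.elim0, fun i => Fin.elim0 i, Subsingleton.elim _ _, hl⟩⟩
  | succ l ih =>
    intro M _ _ hl
    have hfin : IsFiniteLength R M := by
      rw [← Module.length_ne_top_iff, hl]; exact ENat.natCast_ne_top _
    have hnontriv : Nontrivial M := by
      rw [← Module.length_pos_iff (R := R), hl]
      exact_mod_cast Nat.succ_pos l
    obtain ⟨f₁, hne, hf₁⟩ := exists_socle_element M hfin
    have hl' := length_quot_socle f₁ hne hf₁ l hl
    obtain ⟨F'⟩ := ih (M ⧸ Submodule.span R {f₁}) hl'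
    have hπ : (Submodule.span R {f₁}).mkQ ∘ (sec f₁ ∘ F'.f) = F'.f := mkQ_comp_sec f₁ F'.f
    have hadm' : IsAdmissible R (M ⧸ Submodule.span R {f₁})
        ((Submodule.span R {f₁}).mkQ ∘ (sec f₁ ∘ F'.f)) := by rw [hπ]; exact F'.adm
    refine ⟨⟨Fin.cons f₁ (sec f₁ ∘ F'.f), isAdmissible_cons f₁ hf₁ _ hadm', ?_, hl⟩⟩
    -- generating
    have h1 : Submodule.span R (Set.range (Fin.cons f₁ (sec f₁ ∘ F'.f) : Fin (l + 1) → M)) =
        Submodule.span R {f₁} ⊔ Submodule.span R (Set.range (sec f₁ ∘ F'.f)) := by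
      rw [← spanBefore_of_ge (R := R) (Fin.cons f₁ (sec f₁ ∘ F'.f) : Fin (l + 1) → M) (le_refl _),
        spanBefore_cons_succ, spanBefore_of_ge _ (le_refl l)]
    rw [h1, eq_top_iff]
    rintro y -
    apply mem_sup_of_mkQ_mem_map
    rw [Submodule.map_span, ← Set.range_comp]
    have : (⇑(Submodule.span R {f₁}).mkQ ∘ (sec f₁ ∘ F'.f)) = F'.f := hπ
    rw [this, F'.gen]
    trivial

namespace RefFlag

variable {M : Type v} [AddCommGroup M] [Module R M] {l : ℕ} (F : RefFlag R M l)

theorem psi_injective : Function.Injective F.psi := by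
  have hrank := rank_detOfLen_le_one l M F.len
  rw [rank_le_one_iff] at hrank
  obtain ⟨w, hw⟩ := hrank
  rw [injective_iff_map_eq_zero]
  intro v hv
  obtain ⟨c, rfl⟩ := hw v
  obtain ⟨c₀, hc₀⟩ := hw (CycDetA.mk ⟨F.f, F.adm⟩)
  have h1 := F.psi_mk_self
  rw [← hc₀, map_smul, smul_eq_mul] at h1
  have hw0 : F.psi w ≠ 0 := by
    intro h0
    rw [h0, mul_zero] at h1
    exact zero_ne_one h1
  rw [map_smul, smul_eq_mul] at hv
  rcases mul_eq_zero.1 hv with h | h
  · rw [h, zero_smul]
  · exact absurd h hw0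

theorem psi_surjective : Function.Surjective F.psi := by
  intro c
  refine ⟨c • CycDetA.mk ⟨F.f, F.adm⟩, ?_⟩
  rw [map_smul, F.psi_mk_self, smul_eq_mul, mul_one]

/-- `det_κ(M) ≃ κ` determined by a reference flag -/
noncomputable def psiEquiv : DetOfLen R M l ≃ₗ[ResidueField R] ResidueField R :=
  LinearEquiv.ofBijective F.psi ⟨F.psi_injective, F.psi_surjective⟩

@[simp] theorem psiEquiv_apply (x : DetOfLen R M l) : F.psiEquiv x = F.psi x := rfl

end RefFlag

end Groth.Agent.H1.CycDetA
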