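import Groth.Agent.Lib.Helper1.CycDetH
set_option autoImplicit false
universe u v w

namespace Groth.Agent.H1.CycDetA

open IsLocalRing CycDet

variable {R : Type u} [CommRing R] [IsLocalRing R]

section Append

variable {L : Type v} [AddCommGroup L] [Module R L] {k m : ℕ}

lemma spanBefore_append_of_le (u : Fin k → L) (v : Fin m → L) (i : ℕ) (hi : i ≤ k) :
    spanBefore R L (Fin.append u v) i = spanBefore R L u i := by
  unfold spanBefore
  congr 1
  ext x
  constructor
  · rintro ⟨j, hj, rfl⟩
    induction j using Fin.addCases with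
    | left j =>
      refine ⟨j, ?_, by rw [Fin.append_left]⟩
      simpa using hj
    | right j =>
      exfalso
      simp only [Set.mem_ofPred_eq, Fin.val_natAdd] at hj
      omega
  · rintro ⟨j, hj, rfl⟩
    refine ⟨Fin.castAdd m j, ?_, by rw [Fin.append_left]⟩
    simpa using hj

lemma spanBefore_append_add (u : Fin k → L) (v : Fin m → L) (j : ℕ) :
    spanBefore R L (Fin.append u v) (k + j) =
      Submodule.span R (Set.range u) ⊔ spanBefore R L v j := by
  unfold spanBefore
  rw [← Submodule.span_union]
  congr 1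
  ext x
  constructor
  · rintro ⟨i, hi, rfl⟩
    induction i using Fin.addCases with
    | left i =>
      left
      exact ⟨i, by rw [Fin.append_left]⟩
    | right i =>
      right
      refine ⟨i, ?_, by rw [Fin.append_right]⟩
      simp only [Set.mem_ofPred_eq, Fin.val_natAdd] at hi ⊢
      omega
  · rintro (⟨i, rfl⟩ | ⟨i, hi, rfl⟩)
    · refine ⟨Fin.castAdd m i, ?_, by rw [Fin.append_left]⟩
      simp only [Set.mem_ofPred_eq, Fin.val_castAdd]
      omega
    · refine ⟨Fin.natAdd k i, ?_, by rw [Fin.append_right]⟩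
      simp only [Set.mem_ofPred_eq, Fin.val_natAdd] at hi ⊢
      omega

end Append

section Ext

variable {K L M : Type v} [AddCommGroup K] [Module R K] [AddCommGroup L] [Module R L]
  [AddCommGroup M] [Module R M] (f : K →ₗ[R] L) (g : L →ₗ[R] M)
  (hfg : LinearMap.range f = LinearMap.ker g) {k m : ℕ}

lemma spanBefore_append_map (eK : Fin k → K) (v : Fin m → L) (i : ℕ) (hi : i ≤ k) :
    spanBefore R L (Fin.append (f ∘ eK) v) i = (spanBefore R K eK i).map f := by
  rw [spanBefore_append_of_le _ _ i hi, spanBefore_map]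

include hfg in
lemma spanBefore_append_comap (eK : Fin k → K) (hgenK : Submodule.span R (Set.range eK) = ⊤)
    (v : Fin m → L) (j : ℕ) :
    spanBefore R L (Fin.append (f ∘ eK) v) (k + j) = (spanBefore R M (g ∘ v) j).comap g := by
  rw [spanBefore_append_add, spanBefore_map, Submodule.comap_map_eq, Set.range_comp,
    ← Submodule.map_span, hgenK, Submodule.map_top, hfg, sup_comm]

end Ext

end Groth.Agent.H1.CycDetA

namespace Groth.Agent.H1.CycDetA

open IsLocalRing CycDet

variable {R : Type u} [CommRing R] [IsLocalRing R]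

section Ext2

variable {K L M : Type v} [AddCommGroup K] [Module R K] [AddCommGroup L] [Module R L]
  [AddCommGroup M] [Module R M] (f : K →ₗ[R] L) (g : L →ₗ[R] M)
  (hf : Function.Injective f) (hg : Function.Surjective g)
  (hfg : LinearMap.range f = LinearMap.ker g) {k m : ℕ}

include hf hg hfg in
lemma length_ext (hk : Module.length R K = (k : ℕ∞)) (hm : Module.length R M = (m : ℕ∞)) :
    Module.length R L = ((k + m : ℕ) : ℕ∞) := by
  have hex : Function.Exact f g := by
    intro y
    rw [← LinearMap.mem_ker, ← hfg, LinearMap.mem_range]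
    rfl
  rw [Module.length_eq_add_of_exact f g hf hg hex, hk, hm]
  push_cast; rfl

/-- the reference flag of the extension -/
noncomputable def RefFlag.ext (FK : RefFlag R K k) (FM : RefFlag R M m) :
    RefFlag R L (k + m) where
  f := Fin.append (f ∘ FK.f) (Function.surjInv hg ∘ FM.f)
  adm := by
    have hgs : g ∘ (Function.surjInv hg ∘ FM.f) = FM.f := by
      funext j; exact Function.surjInv_eq hg _
    intro i r hr
    induction i using Fin.addCases with
    | left i =>
      rw [Fin.append_left, Fin.val_castAdd, spanBefore_append_map f _ _ _ (le_of_lt i.2),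
        Function.comp_apply, ← map_smul]
      exact Submodule.mem_map_of_mem (FK.adm i r hr)
    | right j =>
      rw [Fin.append_right, Fin.val_natAdd, spanBefore_append_comap f g hfg _ FK.gen,
        Submodule.mem_comap, map_smul, hgs]
      have : g ((Function.surjInv hg ∘ FM.f) j) = FM.f j := congrFun hgs j
      rw [this]
      exact FM.adm j r hr
  gen := by
    have hgs : g ∘ (Function.surjInv hg ∘ FM.f) = FM.f := by
      funext j; exact Function.surjInv_eq hg _
    rw [← spanBefore_of_ge (R := R) _ (le_refl (k + m)),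
      spanBefore_append_comap f g hfg _ FK.gen, hgs, spanBefore_of_ge _ (le_refl m), FM.gen,
      Submodule.comap_top]
  len := length_ext f g hf hg hfg FK.len FM.len

variable (FK : RefFlag R K k) (FM : RefFlag R M m)

lemma RefFlag.ext_f_left (i : Fin k) :
    (RefFlag.ext f g hf hg hfg FK FM).f (Fin.castAdd m i) = f (FK.f i) := by
  simp [RefFlag.ext]

lemma RefFlag.ext_g_f_right (j : Fin m) :
    g ((RefFlag.ext f g hf hg hfg FK FM).f (Fin.natAdd k j)) = FM.f j := by
  simp only [RefFlag.ext, Fin.append_right, Function.comp_apply]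
  exact Function.surjInv_eq hg _

lemma RefFlag.ext_fl_left (i : ℕ) (hi : i ≤ k) :
    (RefFlag.ext f g hf hg hfg FK FM).fl i = (FK.fl i).map f := by
  unfold RefFlag.fl
  exact spanBefore_append_map f _ _ i hi

lemma RefFlag.ext_fl_right (j : ℕ) :
    (RefFlag.ext f g hf hg hfg FK FM).fl (k + j) = (FM.fl j).comap g := by
  unfold RefFlag.fl
  have hgs : g ∘ (Function.surjInv hg ∘ FM.f) = FM.f := by
    funext j; exact Function.surjInv_eq hg _
  have := spanBefore_append_comap (R := R) f g hfg FK.f FK.gen (Function.surjInv hg ∘ FM.f) j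
  rw [hgs] at this
  exact this

include hg in
lemma comap_sup_comap (A B : Submodule R M) : A.comap g ⊔ B.comap g = (A ⊔ B).comap g := by
  apply le_antisymm
  · exact sup_le (Submodule.comap_mono le_sup_left) (Submodule.comap_mono le_sup_right)
  · intro z hz
    rw [Submodule.mem_comap] at hz
    obtain ⟨a, ha, b, hb, hab⟩ := Submodule.mem_sup.1 hz
    obtain ⟨z₁, rfl⟩ := hg a
    obtain ⟨z₂, rfl⟩ := hg b
    have h1 : z - z₁ - z₂ ∈ A.comap g := by
      rw [Submodule.mem_comap, map_sub, map_sub, ← hab]
      simp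
    have : z = (z - z₁ - z₂ + z₁) + z₂ := by abel
    rw [this]
    exact Submodule.add_mem _ (Submodule.mem_sup_left (Submodule.add_mem _ h1 ha))
      (Submodule.mem_sup_right hb)

theorem RefFlag.isPiv_ext_left {D : Submodule R K} {x : K} {j : Fin k} {r : R}
    (h : FK.IsPiv D x j r) :
    (RefFlag.ext f g hf hg hfg FK FM).IsPiv (D.map f) (f x) (Fin.castAdd m j) r := by
  have hfl : (RefFlag.ext f g hf hg hfg FK FM).fl ((Fin.castAdd m j : Fin (k + m)) : ℕ) =
      (FK.fl j).map f := by
    rw [Fin.val_castAdd]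
    exact RefFlag.ext_fl_left f g hf hg hfg FK FM j (le_of_lt j.2)
  unfold RefFlag.IsPiv
  rw [hfl, ← Submodule.map_sup, RefFlag.ext_f_left, ← map_smul, ← map_sub]
  constructor
  · exact Submodule.mem_map_of_mem h.1
  · rintro ⟨z, hz, hzx⟩
    rw [hf hzx] at hz
    exact h.2 hz

theorem RefFlag.isPiv_ext_right {D : Submodule R M} {y : L} {j : Fin m} {r : R}
    (h : FM.IsPiv D (g y) j r) :
    (RefFlag.ext f g hf hg hfg FK FM).IsPiv (D.comap g) y (Fin.natAdd k j) r := by
  have hfl : (RefFlag.ext f g hf hg hfg FK FM).fl ((Fin.natAdd k j : Fin (k + m)) : ℕ) =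
      (FM.fl j).comap g := by
    rw [Fin.val_natAdd]
    exact RefFlag.ext_fl_right f g hf hg hfg FK FM j
  unfold RefFlag.IsPiv
  rw [hfl, comap_sup_comap g hg, Submodule.mem_comap, Submodule.mem_comap, map_sub, map_smul,
    RefFlag.ext_g_f_right]
  exact h

end Ext2

end Groth.Agent.H1.CycDetA

namespace Groth.Agent.H1.CycDetA

open IsLocalRing CycDet

variable {R : Type u} [CommRing R] [IsLocalRing R]

section Glue

variable {k m : ℕ}

/-- glue index functions -/
def glueIdx (σK : Fin k → Fin k) (σM : Fin m → Fin m) : Fin (k + m) → Fin (k + m) :=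
  Fin.addCases (fun i => Fin.castAdd m (σK i)) (fun j => Fin.natAdd k (σM j))

@[simp] lemma glueIdx_left (σK : Fin k → Fin k) (σM : Fin m → Fin m) (i : Fin k) :
    glueIdx σK σM (Fin.castAdd m i) = Fin.castAdd m (σK i) := by
  simp [glueIdx]

@[simp] lemma glueIdx_right (σK : Fin k → Fin k) (σM : Fin m → Fin m) (j : Fin m) :
    glueIdx σK σM (Fin.natAdd k j) = Fin.natAdd k (σM j) := by
  simp [glueIdx]

lemma det_pmat_glue (F : Type w) [Field F] (σK : Fin k → Fin k) (σM : Fin m → Fin m) :
    (pmat F (glueIdx σK σM)).det = (pmat F σK).det * (pmat F σM).det := by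
  have h1 : (pmat F (glueIdx σK σM)).submatrix finSumFinEquiv finSumFinEquiv =
      Matrix.fromBlocks (pmat F σK) 0 0 (pmat F σM) := by
    ext (i | i) (j | j)
    · simp only [Matrix.submatrix_apply, finSumFinEquiv_apply_left, pmat, Matrix.of_apply,
        glueIdx_left, Matrix.fromBlocks_apply₁₁]
      by_cases h : j = σK i
      · rw [if_pos h, if_pos (by rw [h])]
      · rw [if_neg h, if_neg (fun h' => h (Fin.castAdd_injective _ _ h'))]
    · simp only [Matrix.submatrix_apply, finSumFinEquiv_apply_left, finSumFinEquiv_apply_right,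
        pmat, Matrix.of_apply, glueIdx_left, Matrix.fromBlocks_apply₁₂, Matrix.zero_apply]
      rw [if_neg]
      intro h
      have := congrArg Fin.val h
      simp only [Fin.val_natAdd, Fin.val_castAdd] at this
      omega
    · simp only [Matrix.submatrix_apply, finSumFinEquiv_apply_left, finSumFinEquiv_apply_right,
        pmat, Matrix.of_apply, glueIdx_right, Matrix.fromBlocks_apply₂₁, Matrix.zero_apply]
      rw [if_neg]
      intro h
      have := congrArg Fin.val h
      simp only [Fin.val_natAdd, Fin.val_castAdd] at this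
      omega
    · simp only [Matrix.submatrix_apply, finSumFinEquiv_apply_right, pmat, Matrix.of_apply,
        glueIdx_right, Matrix.fromBlocks_apply₂₂]
      by_cases h : j = σM i
      · rw [if_pos h, if_pos (by rw [h])]
      · rw [if_neg h, if_neg (fun h' => h (Fin.natAdd_injective _ _ h'))]
  rw [← Matrix.det_submatrix_equiv_self finSumFinEquiv, h1, Matrix.det_fromBlocks_zero₁₂]

theorem val_glue (σK : Fin k → Fin k) (σM : Fin m → Fin m) (ρK : Fin k → R) (ρM : Fin m → R) :
    RefFlag.val (glueIdx σK σM) (Fin.append ρK ρM) = RefFlag.val σK ρK * RefFlag.val σM ρM := by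
  unfold RefFlag.val
  rw [det_pmat_glue, Fin.prod_univ_add]
  simp only [Fin.append_left, Fin.append_right]
  ring

end Glue

end Groth.Agent.H1.CycDetA

namespace Groth.Agent.H1.CycDetA

open IsLocalRing CycDet

variable {R : Type u} [CommRing R] [IsLocalRing R]

section PsiExt

variable {K L M : Type v} [AddCommGroup K] [Module R K] [AddCommGroup L] [Module R L]
  [AddCommGroup M] [Module R M] (f : K →ₗ[R] L) (g : L →ₗ[R] M)
  (hf : Function.Injective f) (hg : Function.Surjective g)
  (hfg : LinearMap.range f = LinearMap.ker g) {k m : ℕ}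
  (FK : RefFlag R K k) (FM : RefFlag R M m)

theorem psi_ext (eK : Adm R K k) (eM : Adm R M m) (eL : Adm R L (k + m))
    (hgenK : Submodule.span R (Set.range eK.1) = ⊤)
    (h1 : ∀ i, eL.1 (Fin.castAdd m i) = f (eK.1 i))
    (h2 : ∀ j, g (eL.1 (Fin.natAdd k j)) = eM.1 j) :
    (RefFlag.ext f g hf hg hfg FK FM).psi (CycDetA.mk eL) =
      FK.psi (CycDetA.mk eK) * FM.psi (CycDetA.mk eM) := by
  set v : Fin m → L := fun j => eL.1 (Fin.natAdd k j) with hv
  have heL : eL.1 = Fin.append (f ∘ eK.1) v := by
    rw [← Fin.append_castAdd_natAdd (f := eL.1)]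
    congr 1
    funext i
    exact h1 i
  have hgv : g ∘ v = eM.1 := by
    funext j
    exact h2 j
  have hsp_left : ∀ i : ℕ, i ≤ k → spanBefore R L eL.1 i = (spanBefore R K eK.1 i).map f := by
    intro i hi
    rw [heL]
    exact spanBefore_append_map f _ _ i hi
  have hsp_right : ∀ j : ℕ, spanBefore R L eL.1 (k + j) = (spanBefore R M eM.1 j).comap g := by
    intro j
    rw [heL, spanBefore_append_comap f g hfg _ hgenK, hgv]
  by_cases hgenM : Submodule.span R (Set.range eM.1) = ⊤
  · have hgenL : Submodule.span R (Set.range eL.1) = ⊤ := by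
      rw [← spanBefore_of_ge (R := R) eL.1 (le_refl (k + m)), hsp_right m,
        spanBefore_of_ge _ (le_refl m), hgenM, Submodule.comap_top]
    obtain ⟨σK, ρK, hdK⟩ := FK.exists_isPivData eK.1 eK.2 hgenK
    obtain ⟨σM, ρM, hdM⟩ := FM.exists_isPivData eM.1 eM.2 hgenM
    have hdL : (RefFlag.ext f g hf hg hfg FK FM).IsPivData eL.1 (glueIdx σK σM)
        (Fin.append ρK ρM) := by
      intro i
      induction i using Fin.addCases with
      | left i =>
        rw [glueIdx_left, Fin.append_left, Fin.val_castAdd, hsp_left i (le_of_lt i.2), h1]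
        exact RefFlag.isPiv_ext_left f g hf hg hfg FK FM (hdK i)
      | right j =>
        rw [glueIdx_right, Fin.append_right, Fin.val_natAdd, hsp_right j]
        apply RefFlag.isPiv_ext_right f g hf hg hfg FK FM
        rw [h2]
        exact hdM j
    rw [RefFlag.psi_mk_of_isPivData _ eL hgenL hdL, RefFlag.psi_mk_of_isPivData _ eK hgenK hdK,
      RefFlag.psi_mk_of_isPivData _ eM hgenM hdM, val_glue]
  · have hgenL : Submodule.span R (Set.range eL.1) ≠ ⊤ := by
      intro htop
      apply hgenM
      rw [← spanBefore_of_ge (R := R) eL.1 (le_refl (k + m)), hsp_right m,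
        spanBefore_of_ge _ (le_refl m)] at htop
      rw [eq_top_iff]
      rintro y -
      obtain ⟨z, rfl⟩ := hg y
      have : z ∈ (Submodule.span R (Set.range eM.1)).comap g := by rw [htop]; trivial
      exact this
    rw [RefFlag.psi_mk, RefFlag.psi_mk _ eM, RefFlag.psiFun_of_not_gen eL hgenL,
      RefFlag.psiFun_of_not_gen eM hgenM, mul_zero]

end PsiExt

end Groth.Agent.H1.CycDetA

namespace Groth.Agent.H1.CycDetA

open IsLocalRing CycDet TensorProduct

variable {R : Type u} [CommRing R] [IsLocalRing R]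

section Gamma

variable {K L M : Type v} [AddCommGroup K] [Module R K] [AddCommGroup L] [Module R L]
  [AddCommGroup M] [Module R M] (f : K →ₗ[R] L) (g : L →ₗ[R] M)
  (hf : Function.Injective f) (hg : Function.Surjective g)
  (hfg : LinearMap.range f = LinearMap.ker g) (k m : ℕ)

include hf hg hfg in
theorem exists_gamma (hk : Module.length R K = (k : ℕ∞)) (hm : Module.length R M = (m : ℕ∞)) :
    ∃ γ : (DetOfLen R K k ⊗[ResidueField R] DetOfLen R M m) ≃ₗ[ResidueField R]
        DetOfLen R L (k + m),
      ∀ (eK : Adm R K k) (eM : Adm R M m) (eL : Adm R L (k + m)), CycDetA.mk eK ≠ 0 →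
        (∀ i, eL.1 (Fin.castAdd m i) = f (eK.1 i)) →
        (∀ j, g (eL.1 (Fin.natAdd k j)) = eM.1 j) →
        γ (CycDetA.mk eK ⊗ₜ CycDetA.mk eM) = CycDetA.mk eL := by
  obtain ⟨FK⟩ := exists_refFlag k K hk
  obtain ⟨FM⟩ := exists_refFlag m M hm
  let FL := RefFlag.ext f g hf hg hfg FK FM
  refine ⟨TensorProduct.congr FK.psiEquiv FM.psiEquiv ≪≫ₗ
    TensorProduct.lid (ResidueField R) (ResidueField R) ≪≫ₗ FL.psiEquiv.symm, ?_⟩
  intro eK eM eL hne h1 h2
  have hgenK : Submodule.span R (Set.range eK.1) = ⊤ := by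
    by_contra hcon
    obtain ⟨a, ha⟩ := exists_mem_spanBefore_of_span_ne_top eK.1 eK.2 hk hcon
    exact hne (mk_relA eK a ha)
  apply FL.psiEquiv.injective
  simp only [LinearEquiv.trans_apply, TensorProduct.congr_tmul, TensorProduct.lid_tmul,
    LinearEquiv.apply_symm_apply, RefFlag.psiEquiv_apply, smul_eq_mul]
  exact (psi_ext f g hf hg hfg FK FM eK eM eL hgenK h1 h2).symm

end Gamma

end Groth.Agent.H1.CycDetA
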