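import Mathlib
import Groth.Agent.Lib.Helper1.FibDimTot
import Groth.Agent.Lib.Helper1.ClosedDim
import Groth.Agent.Lib.Helper1.DimSubA
import Groth.Agent.Lib.Helper1.Chev2
import Groth.Agent.Lib.Helper1.Chev3
import Groth.Agent.Lib.Helper1.Chev4
import Groth.Agent.Lib.Helper1.FibCompC
import Groth.Agent.Lib.Helper3.TopDim

set_option autoImplicit false
set_option linter.style.haveILetI false

universe u

open CategoryTheory AlgebraicGeometry TopologicalSpace Topology

namespace Groth.Agent.H1.CycDim

open Groth.Agent.H1.FibDimTot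

section Top

/-- in a Noetherian quasi-sober space, a point of the closure of the image of a closed set is a
specialisation of the image of a point of that closed set. -/
theorem exists_specializes_of_mem_closure_image {A B : Type*} [TopologicalSpace A]
    [TopologicalSpace B] [NoetherianSpace A] [QuasiSober A] {e : A → B} (he : Continuous e)
    {F : Set A} (hF : IsClosed F) {x : B} (hx : x ∈ closure (e '' F)) : ∃ a ∈ F, e a ⤳ x := by
  obtain ⟨S, hSf, hSc, hSi, hSU⟩ := NoetherianSpace.exists_finite_set_isClosed_irreducible hF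
  have hsub : e '' F ⊆ ⋃ t ∈ S, closure (e '' t) := by
    rintro _ ⟨a, ha, rfl⟩
    rw [hSU] at ha
    obtain ⟨t, ht, hat⟩ := ha
    exact Set.mem_biUnion ht (subset_closure ⟨a, hat, rfl⟩)
  have hcl : IsClosed (⋃ t ∈ S, closure (e '' t)) :=
    hSf.isClosed_biUnion (fun t _ => isClosed_closure)
  have h1 := hcl.closure_subset_iff.mpr hsub hx
  obtain ⟨t, ht, hxt⟩ := Set.mem_iUnion₂.mp h1
  obtain ⟨ξ, hξ⟩ := QuasiSober.sober (hSi t ht) (hSc t ht)
  refine ⟨ξ, ?_, ?_⟩
  · rw [hSU]; exact ⟨t, ht, hξ.mem⟩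
  · rw [specializes_iff_mem_closure]
    have h2 : e '' t ⊆ closure {e ξ} := by
      rw [← hξ.def]
      refine (image_closure_subset_closure_image he).trans ?_
      rw [Set.image_singleton]
    exact (closure_minimal h2 isClosed_closure) hxt

end Top

variable {k : Type u} [Field k] {C X : Scheme.{u}} (q : X ⟶ Spec (CommRingCat.of k)) (π : C ⟶ X)

/-- the locus of points of the base whose fibre has dimension at least `j`. -/
def B (j : ℕ) : Set X := {x : X | (j : WithBot ℕ∞) ≤ topologicalKrullDim (π.fiber x)}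

/-- the locus of points of the source where the fibre has local dimension at least `j`. -/
def F (j : ℕ) : Set C := {c : C | (j : WithBot ℕ∞) ≤ FlatMor.fibreDimAt π c}

theorem isClosed_F [LocallyOfFiniteType π] (j : ℕ) : IsClosed (F π j) := by
  cases j with
  | zero =>
    have : F π 0 = Set.univ := by
      ext c
      simp only [F, Set.mem_setOf_eq, Set.mem_univ, iff_true]
      exact_mod_cast Groth.Agent.H1.Chev.zero_le_fibreDimAt π c
    rw [this]; exact isClosed_univ
  | succ j =>
    have : F π (j + 1) = {c | FlatMor.fibreDimAt π c ≤ (j : WithBot ℕ∞)}ᶜ := by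
      ext c
      show ((j + 1 : ℕ) : WithBot ℕ∞) ≤ FlatMor.fibreDimAt π c ↔
        ¬ (FlatMor.fibreDimAt π c ≤ (j : WithBot ℕ∞))
      rw [← Groth.Agent.H1.Chev.withBot_lt_add_one_iff, not_lt]
    rw [this]; exact (Groth.Agent.H1.Chev.isOpen_fibreDimAt_le π j).isClosed_compl

theorem image_F_eq_B (j : ℕ) : π '' F π j = B π j := by
  apply Set.Subset.antisymm
  · rintro _ ⟨c, hc, rfl⟩
    exact le_trans hc (Groth.Agent.H1.FibComp.fibreDimAt_le_dim_fiber π c (π c) rfl)
  · intro x hx
    by_contra hcon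
    have h1 : ∀ z : π.fiber x, FlatMor.localDim (π.fiber x) z < (j : WithBot ℕ∞) := by
      intro z
      by_contra h2
      rw [not_lt] at h2
      apply hcon
      have hz : π (π.fiberι x z) = x := by
        have : π.fiberι x z ∈ π ⁻¹' {x} := by
          rw [← π.range_fiberι x]; exact Set.mem_range_self z
        exact this
      refine ⟨π.fiberι x z, ?_, hz⟩
      show (j : WithBot ℕ∞) ≤ FlatMor.fibreDimAt π (π.fiberι x z)
      rw [← Groth.Agent.H1.Chev.localDim_fiber_eq_fibreDimAt π (π.fiberι x z) x hz z rfl]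
      exact h2
    have h3 := Groth.Agent.H1.ClosedDim.iSup_lt_nat _ j h1
    rw [← Groth.Agent.H3.TopDim.dim_eq_iSup_localDim] at h3
    exact absurd hx (not_le.mpr h3)

theorem exists_specializes_of_mem_closure_B [LocallyOfFiniteType q] [LocallyOfFiniteType π]
    [CompactSpace C] (j : ℕ) (x : X) (hx : x ∈ closure (B π j)) : ∃ x' ∈ B π j, x' ⤳ x := by
  haveI : IsLocallyNoetherian C := LocallyOfFiniteType.isLocallyNoetherian (π ≫ q)
  haveI : IsNoetherian C := {}
  rw [← image_F_eq_B] at hx
  obtain ⟨c, hc, hsp⟩ := exists_specializes_of_mem_closure_image π.continuous (isClosed_F π j) hx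
  refine ⟨π c, ?_, hsp⟩
  rw [← image_F_eq_B]
  exact ⟨c, hc, rfl⟩

theorem dim_closure_add_le [LocallyOfFiniteType q] [LocallyOfFiniteType π] (j : ℕ) (x' : X)
    (hx' : x' ∈ B π j) :
    (j : WithBot ℕ∞) + topologicalKrullDim ↥(closure ({x'} : Set X)) ≤ topologicalKrullDim C := by
  have h : (j : WithBot ℕ∞) ≤ topologicalKrullDim ↥(π ⁻¹' {x'}) := by
    rw [dim_preimage_eq_dim_fiber]; exact hx'
  obtain ⟨c, rfl, hc⟩ := exists_asFiber_dim_ge π x' j h
  calc (j : WithBot ℕ∞) + topologicalKrullDim ↥(closure ({π c} : Set X))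
      ≤ topologicalKrullDim ↥(closure ({π.asFiber c} : Set ↥(π.fiber (π c)))) +
          topologicalKrullDim ↥(closure ({π c} : Set X)) := add_le_add hc le_rfl
    _ = topologicalKrullDim ↥(closure ({c} : Set C)) := by rw [dim_closure_eq_add q π c, add_comm]
    _ ≤ topologicalKrullDim C := dim_closure_le c

theorem s14480 (k : Type u) [Field k] (C X : Scheme.{u})
    (q : X ⟶ Spec (CommRingCat.of k)) (π : C ⟶ X)
    [LocallyOfFiniteType q] [CompactSpace X] [LocallyOfFiniteType π] [CompactSpace C] (n : ℕ) :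
    topologicalKrullDim C ≤ n ↔
      ∀ j : ℕ, topologicalKrullDim (closure {x : X | (j : WithBot ℕ∞) ≤
        topologicalKrullDim (π.fiber x)}) + (j : WithBot ℕ∞) ≤ n := by
  constructor
  · intro hC j
    show topologicalKrullDim ↥(closure (B π j)) + (j : WithBot ℕ∞) ≤ n
    rw [add_comm]
    refine le_trans (add_le_add le_rfl
      (Groth.Agent.H1.ClosedDim.dim_le_iSup_closure (closure (B π j)) isClosed_closure)) ?_
    apply nat_add_iSup_le
    rintro ⟨x, hx⟩
    obtain ⟨x', hx', hsp⟩ := exists_specializes_of_mem_closure_B q π j x hx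
    have hsub : closure ({x} : Set X) ⊆ closure ({x'} : Set X) :=
      closure_minimal (Set.singleton_subset_iff.mpr (specializes_iff_mem_closure.mp hsp))
        isClosed_closure
    calc (j : WithBot ℕ∞) + topologicalKrullDim ↥(closure ({x} : Set X))
        ≤ (j : WithBot ℕ∞) + topologicalKrullDim ↥(closure ({x'} : Set X)) :=
          add_le_add le_rfl (Groth.Agent.H3.TopDim.dim_mono hsub)
      _ ≤ topologicalKrullDim C := dim_closure_add_le q π j x' hx'
      _ ≤ n := hC
  · intro H
    rw [dim_eq_iSup_closure (T := C)]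
    apply iSup_le
    intro c
    rw [dim_closure_eq_add q π c]
    have key : ∀ m : ℕ, (m : WithBot ℕ∞) ≤
        topologicalKrullDim ↥(closure ({π.asFiber c} : Set ↥(π.fiber (π c)))) →
        topologicalKrullDim ↥(closure ({π c} : Set X)) + (m : WithBot ℕ∞) ≤ n := by
      intro m hm
      have hmem : π c ∈ B π m := by
        show (m : WithBot ℕ∞) ≤ topologicalKrullDim (π.fiber (π c))
        rw [← dim_preimage_eq_dim_fiber]
        exact hm.trans (dim_closure_asFiber_le π c)
      have hsub : closure ({π c} : Set X) ⊆ closure (B π m) :=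
        closure_mono (Set.singleton_subset_iff.mpr hmem)
      exact le_trans (add_le_add (Groth.Agent.H3.TopDim.dim_mono hsub) le_rfl) (H m)
    haveI : Nonempty ↥(closure ({π.asFiber c} : Set ↥(π.fiber (π c)))) :=
      ⟨⟨π.asFiber c, subset_closure rfl⟩⟩
    haveI : Nonempty ↥(closure ({π c} : Set X)) := ⟨⟨π c, subset_closure rfl⟩⟩
    have hb0 : (0 : WithBot ℕ∞) ≤
        topologicalKrullDim ↥(closure ({π.asFiber c} : Set ↥(π.fiber (π c)))) :=
      Groth.Agent.H3.TopDim.dim_nonneg
    have ha0 : (0 : WithBot ℕ∞) ≤ topologicalKrullDim ↥(closure ({π c} : Set X)) :=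
      Groth.Agent.H3.TopDim.dim_nonneg
    by_cases hb : topologicalKrullDim ↥(closure ({π.asFiber c} : Set ↥(π.fiber (π c)))) = ⊤
    · exfalso
      have h1 := key (n + 1) (by rw [hb]; exact le_top)
      have h2 : (0 : WithBot ℕ∞) + ((n + 1 : ℕ) : WithBot ℕ∞) ≤ n :=
        (add_le_add ha0 le_rfl).trans h1
      rw [zero_add] at h2
      have h3 : n + 1 ≤ n := by exact_mod_cast h2
      omega
    · obtain ⟨m, hm⟩ := Groth.Agent.H1.DimSub.exists_nat_of_ne_top hb0 hb
      rw [hm]
      exact key m hm.ge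

end Groth.Agent.H1.CycDim
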