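import Mathlib
import Groth.Prelude.Def_RegImm
import Groth.Agent.Lib.Helper1.CycDim
import Groth.Agent.Lib.Helper1.RelDim

set_option autoImplicit false
set_option linter.style.haveILetI false

universe u

open CategoryTheory CategoryTheory.Limits AlgebraicGeometry TopologicalSpace Topology

namespace Groth.Agent.H1.CycDim

open Groth.Agent.H1.FibDimTot

variable {k : Type u} [Field k] {C X : Scheme.{u}} (q : X ⟶ Spec (CommRingCat.of k)) (π : C ⟶ X)

theorem exists_specializes_of_mem_closure_B' [LocallyOfFiniteType π]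
    [NoetherianSpace C] (j : ℕ) (x : X) (hx : x ∈ closure (B π j)) : ∃ x' ∈ B π j, x' ⤳ x := by
  rw [← image_F_eq_B] at hx
  obtain ⟨c, hc, hsp⟩ := exists_specializes_of_mem_closure_image π.continuous (isClosed_F π j) hx
  refine ⟨π c, ?_, hsp⟩
  rw [← image_F_eq_B]
  exact ⟨c, hc, rfl⟩

/-- `dim cl(B_j) + j ≤ dim C`. -/
theorem dim_closure_B_add_le [LocallyOfFiniteType q] [LocallyOfFiniteType π] [NoetherianSpace C]
    (j : ℕ) :
    topologicalKrullDim ↥(closure (B π j)) + (j : WithBot ℕ∞) ≤ topologicalKrullDim C := by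
  rw [add_comm]
  refine le_trans (add_le_add le_rfl
    (Groth.Agent.H1.ClosedDim.dim_le_iSup_closure (closure (B π j)) isClosed_closure)) ?_
  apply nat_add_iSup_le
  rintro ⟨x, hx⟩
  obtain ⟨x', hx', hsp⟩ := exists_specializes_of_mem_closure_B' π j x hx
  have hsub : closure ({x} : Set X) ⊆ closure ({x'} : Set X) :=
    closure_minimal (Set.singleton_subset_iff.mpr (specializes_iff_mem_closure.mp hsp))
      isClosed_closure
  calc (j : WithBot ℕ∞) + topologicalKrullDim ↥(closure ({x} : Set X))
      ≤ (j : WithBot ℕ∞) + topologicalKrullDim ↥(closure ({x'} : Set X)) :=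
        add_le_add le_rfl (Groth.Agent.H3.TopDim.dim_mono hsub)
    _ ≤ topologicalKrullDim C := dim_closure_add_le q π j x' hx'

/-- general form of `s14480` with an extra summand. -/
theorem dim_add_le_iff [LocallyOfFiniteType q] [LocallyOfFiniteType π] [NoetherianSpace C]
    (n c : ℕ) :
    topologicalKrullDim C + (c : WithBot ℕ∞) ≤ n ↔
      ∀ j : ℕ, topologicalKrullDim ↥(closure (B π j)) + (c : WithBot ℕ∞) + (j : WithBot ℕ∞) ≤ n := by
  constructor
  · intro hC j
    rw [add_right_comm]
    exact le_trans (add_le_add (dim_closure_B_add_le q π j) le_rfl) hC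
  · intro H
    rw [dim_eq_iSup_closure (T := C), add_comm]
    apply nat_add_iSup_le
    intro c'
    rw [dim_closure_eq_add q π c']
    have key : ∀ m : ℕ, (m : WithBot ℕ∞) ≤
        topologicalKrullDim ↥(closure ({π.asFiber c'} : Set ↥(π.fiber (π c')))) →
        (c : WithBot ℕ∞) + (topologicalKrullDim ↥(closure ({π c'} : Set X)) + (m : WithBot ℕ∞))
          ≤ n := by
      intro m hm
      have hmem : π c' ∈ B π m := by
        show (m : WithBot ℕ∞) ≤ topologicalKrullDim (π.fiber (π c'))
        rw [← dim_preimage_eq_dim_fiber]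
        exact hm.trans (dim_closure_asFiber_le π c')
      have hsub : closure ({π c'} : Set X) ⊆ closure (B π m) :=
        closure_mono (Set.singleton_subset_iff.mpr hmem)
      have h1 := H m
      rw [add_comm, ← add_assoc] at h1
      rw [← add_assoc, add_comm (c : WithBot ℕ∞), add_comm _ (m : WithBot ℕ∞), ← add_assoc]
      exact le_trans (add_le_add (add_le_add le_rfl (Groth.Agent.H3.TopDim.dim_mono hsub)) le_rfl) h1
    haveI : Nonempty ↥(closure ({π.asFiber c'} : Set ↥(π.fiber (π c')))) :=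
      ⟨⟨π.asFiber c', subset_closure rfl⟩⟩
    haveI : Nonempty ↥(closure ({π c'} : Set X)) := ⟨⟨π c', subset_closure rfl⟩⟩
    have hb0 : (0 : WithBot ℕ∞) ≤
        topologicalKrullDim ↥(closure ({π.asFiber c'} : Set ↥(π.fiber (π c')))) :=
      Groth.Agent.H3.TopDim.dim_nonneg
    have ha0 : (0 : WithBot ℕ∞) ≤ topologicalKrullDim ↥(closure ({π c'} : Set X)) :=
      Groth.Agent.H3.TopDim.dim_nonneg
    by_cases hb : topologicalKrullDim ↥(closure ({π.asFiber c'} : Set ↥(π.fiber (π c')))) = ⊤
    · exfalso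
      have h1 := key (n + 1) (by rw [hb]; exact le_top)
      have h2 : (0 : WithBot ℕ∞) + ((0 : WithBot ℕ∞) + ((n + 1 : ℕ) : WithBot ℕ∞)) ≤ n :=
        (add_le_add (by exact_mod_cast (Nat.zero_le c)) (add_le_add ha0 le_rfl)).trans h1
      rw [zero_add, zero_add] at h2
      have h3 : n + 1 ≤ n := by exact_mod_cast h2
      omega
    · obtain ⟨m, hm⟩ := Groth.Agent.H1.DimSub.exists_nat_of_ne_top hb0 hb
      rw [hm]
      exact key m hm.ge

section BC

variable {W : Scheme.{u}} (ι : W ⟶ X)

theorem dim_preimage_range_eq [IsImmersion ι] :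
    topologicalKrullDim ↥(π ⁻¹' Set.range ι : Set C) = topologicalKrullDim ↥(pullback π ι) := by
  rw [← Scheme.Pullback.range_fst]
  exact (IsHomeomorph.topologicalKrullDim_eq _
    (pullback.fst π ι).isEmbedding.toHomeomorph.isHomeomorph).symm

theorem dim_fiber_snd_eq [IsImmersion ι] (w : W) :
    topologicalKrullDim ↥((pullback.snd π ι).fiber w) = topologicalKrullDim ↥(π.fiber (ι w)) := by
  rw [← dim_preimage_eq_dim_fiber, ← dim_preimage_eq_dim_fiber]
  have hinj : Function.Injective ι := ι.isEmbedding.injective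
  have hset : (pullback.snd π ι) ⁻¹' {w} = (pullback.fst π ι) ⁻¹' (π ⁻¹' {ι w}) := by
    ext z
    have hcond : π (pullback.fst π ι z) = ι (pullback.snd π ι z) := by
      have := congrArg (fun g : pullback π ι ⟶ X => g z) (pullback.condition (f := π) (g := ι))
      simpa using this
    constructor
    · intro hz
      show π (pullback.fst π ι z) = ι w
      rw [hcond]
      exact congrArg ι hz
    · intro hz
      have hz' : π (pullback.fst π ι z) = ι w := hz
      rw [hcond] at hz'
      exact hinj hz'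
  rw [hset, Groth.Agent.H1.RelDim.dim_preimage_eq_of_isEmbedding (pullback.fst π ι).isEmbedding]
  have hset2 : (π ⁻¹' {ι w}) ∩ Set.range (pullback.fst π ι) = π ⁻¹' {ι w} := by
    rw [Scheme.Pullback.range_fst]
    apply Set.inter_eq_left.mpr
    intro c hc
    exact ⟨w, hc.symm⟩
  rw [hset2]

theorem B_snd_eq [IsImmersion ι] (j : ℕ) : B (pullback.snd π ι) j = ι ⁻¹' (B π j) := by
  ext w
  show (j : WithBot ℕ∞) ≤ topologicalKrullDim ↥((pullback.snd π ι).fiber w) ↔
    (j : WithBot ℕ∞) ≤ topologicalKrullDim ↥(π.fiber (ι w))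
  rw [dim_fiber_snd_eq]

theorem s14482 (k : Type u) [Field k] (C X W : Scheme.{u})
    (q : X ⟶ Spec (CommRingCat.of k)) (π : C ⟶ X) (ι : W ⟶ X)
    [LocallyOfFiniteType q] [CompactSpace X] [LocallyOfFiniteType π] [CompactSpace C]
    (κ : RegImm.Kind) (n c : ℕ) (hι : RegImm.IsRegularImmersionOfCodim κ c ι)
    (hC : ∀ P ∈ irreducibleComponents (C : Type u), topologicalKrullDim P = n)
    (hB : ∀ j : ℕ, IsClosed {x : X | (j : WithBot ℕ∞) ≤ topologicalKrullDim (π.fiber x)}) :
    (∀ j : ℕ, topologicalKrullDim {x : X | (j : WithBot ℕ∞) ≤ topologicalKrullDim (π.fiber x)} +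
        (j : WithBot ℕ∞) ≤ n) ∧
      (topologicalKrullDim (π ⁻¹' Set.range ι : Set C) + (c : WithBot ℕ∞) ≤ n ↔
        ∀ j : ℕ, topologicalKrullDim (ι ⁻¹' {x : X | (j : WithBot ℕ∞) ≤
          topologicalKrullDim (π.fiber x)} : Set W) + (c : WithBot ℕ∞) + (j : WithBot ℕ∞) ≤ n) := by
  haveI : IsImmersion ι := hι.1
  haveI : IsLocallyNoetherian C := LocallyOfFiniteType.isLocallyNoetherian (π ≫ q)
  haveI : IsNoetherian C := {}
  have hdimC : topologicalKrullDim C ≤ n := by
    rw [Groth.Agent.H3.TopDim.dim_eq_iSup_irreducibleComponents]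
    exact iSup₂_le fun P hP => (hC P hP).le
  constructor
  · intro j
    have h1 := dim_closure_B_add_le q π j
    have hBj : IsClosed (B π j) := hB j
    rw [hBj.closure_eq] at h1
    exact h1.trans hdimC
  · haveI : NoetherianSpace ↥(pullback π ι) :=
      (pullback.fst π ι).isEmbedding.isInducing.noetherianSpace
    have h2 := dim_add_le_iff (ι ≫ q) (pullback.snd π ι) n c
    rw [dim_preimage_range_eq π ι]
    rw [h2]
    refine forall_congr' fun j => ?_
    rw [B_snd_eq π ι j]
    have hBj : IsClosed (B π j) := hB j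
    have hcl : IsClosed (ι ⁻¹' (B π j)) := hBj.preimage ι.continuous
    rw [hcl.closure_eq]
    rfl

end BC

end Groth.Agent.H1.CycDim
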