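import Mathlib

open CategoryTheory CategoryTheory.Limits Opposite

universe u

namespace Groth.Agent.H1.Del

variable {C : Type u} [SmallCategory C] [HasFiniteLimits C] (J : GrothendieckTopology C)

section Good

variable {X : C} (S : Sieve X)

/-- An object over `X` is bad if `S` pulled back to it is covering. -/
def Bad (Y : Over X) : Prop := S.pullback Y.hom ∈ J Y.left

variable {J S} in
lemma bad_of_hom {Y Y' : Over X} (f : Y ⟶ Y') (h : Bad J S Y') : Bad J S Y := by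
  have := J.pullback_stable f.left h
  rwa [← Sieve.pullback_comp, Over.w f] at this

variable {J S} in
lemma bad_of_cover {Y : Over X} (R : Sieve Y.left) (hR : R ∈ J Y.left)
    (h : ∀ ⦃T : C⦄ (g : T ⟶ Y.left), R g → S.pullback (g ≫ Y.hom) ∈ J T) : Bad J S Y := by
  refine J.transitive hR _ (fun T g hg => ?_)
  rw [← Sieve.pullback_comp]
  exact h g hg

variable {J} in
lemma inter_mem {Y : C} {ι : Type*} (F : Finset ι) (R : ι → Sieve Y)
    (h : ∀ m ∈ F, R m ∈ J Y) :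
    ∃ T : Sieve Y, T ∈ J Y ∧ ∀ ⦃W : C⦄ (g : W ⟶ Y), T g → ∀ m ∈ F, R m g := by
  classical
  induction F using Finset.induction_on with
  | empty => exact ⟨⊤, J.top_mem Y, fun _ _ _ m hm => absurd hm (Finset.notMem_empty m)⟩
  | insert m F hm ih =>
    obtain ⟨T, hT, hT'⟩ := ih (fun m' hm' => h m' (Finset.mem_insert_of_mem hm'))
    refine ⟨R m ⊓ T, J.intersection_covering (h m (Finset.mem_insert_self _ _)) hT, ?_⟩
    intro W g hg m' hm'
    rcases Finset.mem_insert.mp hm' with rfl | hm''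
    · exact hg.1
    · exact hT' g hg.2 m' hm''

end Good

/-- A finite covering family of `Z`. -/
structure Cov (Z : C) where
  n : ℕ
  V : Fin n → C
  g : ∀ k, V k ⟶ Z
  mem : Sieve.ofArrows V g ∈ J Z

variable {X : C} (S : Sieve X)

/-- A stage: a codirected system of good objects over `X`. -/
structure Stage where
  N : Type u
  [inst : Preorder N]
  [dir : IsDirected N (· ≥ ·)]
  [ne : Nonempty N]
  p : N ⥤ Over X
  good : ∀ i, ¬ Bad J S (p.obj i)

attribute [instance] Stage.inst Stage.dir Stage.ne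

variable {J S}

/-- A move: a germ into `Z` together with a finite covering of `Z`. -/
structure Move (P : Stage J S) where
  b : P.N
  Z : C
  f : (P.p.obj b).left ⟶ Z
  c : Cov J Z

/-- The refinement of the base of the move by the `k`-th member of the covering. -/
noncomputable abbrev Q {P : Stage J S} (m : Move P) (k : Fin m.c.n) : C :=
  pullback m.f (m.c.g k)

/-- Indices of the next stage. -/
structure Idx (P : Stage J S) where
  i : P.N
  F : Finset (Move P)
  le : ∀ m ∈ F, i ≤ m.b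

variable {P : Stage J S}

instance : Preorder (Idx P) where
  le a a' := a.i ≤ a'.i ∧ a'.F ⊆ a.F
  le_refl a := ⟨le_rfl, Finset.Subset.refl _⟩
  le_trans a b c h h' := ⟨h.1.trans h'.1, h'.2.trans h.2⟩

lemma Idx.le_def {a a' : Idx P} : a ≤ a' ↔ a.i ≤ a'.i ∧ a'.F ⊆ a.F := Iff.rfl

/-- the transition map to the base of a move. -/
noncomputable abbrev bmap (a : Idx P) (m : ↥a.F) : (P.p.obj a.i).left ⟶ (P.p.obj m.1.b).left :=
  (P.p.map (homOfLE (a.le m.1 m.2))).left

/-- The refined object for a local selection. -/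
noncomputable def YL (a : Idx P) (κ : ∀ m : ↥a.F, Fin m.1.c.n) : C :=
  pullback
    (Pi.lift (fun m : ↥a.F => bmap a m) :
      (P.p.obj a.i).left ⟶ ∏ᶜ fun m : ↥a.F => (P.p.obj m.1.b).left)
    (Limits.Pi.map (fun m : ↥a.F => (pullback.fst m.1.f (m.1.c.g (κ m)))) :
      (∏ᶜ fun m : ↥a.F => Q m.1 (κ m)) ⟶ ∏ᶜ fun m : ↥a.F => (P.p.obj m.1.b).left)

noncomputable abbrev YLfst (a : Idx P) (κ : ∀ m : ↥a.F, Fin m.1.c.n) :
    YL a κ ⟶ (P.p.obj a.i).left := pullback.fst _ _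

noncomputable abbrev YLsnd (a : Idx P) (κ : ∀ m : ↥a.F, Fin m.1.c.n) :
    YL a κ ⟶ ∏ᶜ fun m : ↥a.F => Q m.1 (κ m) := pullback.snd _ _

/-- The refined object as an object over `X`. -/
noncomputable def YO (a : Idx P) (κ : ∀ m : ↥a.F, Fin m.1.c.n) : Over X :=
  Over.mk (YLfst a κ ≫ (P.p.obj a.i).hom)

lemma pmap_left_comp {i j k : P.N} (h : i ≤ j) (h' : j ≤ k) :
    (P.p.map (homOfLE h)).left ≫ (P.p.map (homOfLE h')).left =
      (P.p.map (homOfLE (h.trans h'))).left := by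
  rw [← Over.comp_left, ← P.p.map_comp]
  rfl

lemma pmap_left_refl (i : P.N) : (P.p.map (homOfLE (le_refl i))).left = 𝟙 _ := by
  have : homOfLE (le_refl i) = 𝟙 i := Subsingleton.elim _ _
  rw [this, P.p.map_id]
  rfl

/-- Transition maps between refined objects. -/
noncomputable def YLmap {a a' : Idx P} (h : a ≤ a') (κ : ∀ m : ↥a.F, Fin m.1.c.n) :
    YL a κ ⟶ YL a' (fun m' => κ ⟨m'.1, h.2 m'.2⟩) :=
  pullback.map _ _ _ _ (P.p.map (homOfLE h.1)).left
    (Pi.lift fun m' : ↥a'.F => Pi.π (fun m : ↥a.F => Q m.1 (κ m)) ⟨m'.1, h.2 m'.2⟩)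
    (Pi.lift fun m' : ↥a'.F => Pi.π (fun m : ↥a.F => (P.p.obj m.1.b).left) ⟨m'.1, h.2 m'.2⟩)
    (by
      apply Pi.hom_ext; intro m'
      simp only [Category.assoc, Pi.lift_π]
      exact (pmap_left_comp _ _).symm)
    (by
      apply Pi.hom_ext; intro m'
      simp only [Category.assoc, Pi.lift_π, Limits.Pi.map_π]
      rw [Pi.lift_π_assoc])

lemma YLmap_fst {a a' : Idx P} (h : a ≤ a') (κ : ∀ m : ↥a.F, Fin m.1.c.n) :
    YLmap h κ ≫ YLfst a' _ = YLfst a κ ≫ (P.p.map (homOfLE h.1)).left :=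
  pullback.lift_fst _ _ _

lemma YLmap_snd_π {a a' : Idx P} (h : a ≤ a') (κ : ∀ m : ↥a.F, Fin m.1.c.n) (m' : ↥a'.F) :
    YLmap h κ ≫ YLsnd a' _ ≫ Pi.π _ m' = YLsnd a κ ≫ Pi.π _ ⟨m'.1, h.2 m'.2⟩ := by
  have h1 : YLmap h κ ≫ YLsnd a' _ = YLsnd a κ ≫ Pi.lift (fun m' : ↥a'.F =>
      Pi.π (fun m : ↥a.F => Q m.1 (κ m)) ⟨m'.1, h.2 m'.2⟩) := pullback.lift_snd _ _ _
  rw [← Category.assoc, h1, Category.assoc, Pi.lift_π]

/-- Transition maps over `X`. -/
noncomputable def YOmap {a a' : Idx P} (h : a ≤ a') (κ : ∀ m : ↥a.F, Fin m.1.c.n) :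
    YO a κ ⟶ YO a' (fun m' => κ ⟨m'.1, h.2 m'.2⟩) :=
  Over.homMk (YLmap h κ) (by
    simp only [YO, Over.mk_hom]
    rw [← Category.assoc, YLmap_fst, Category.assoc, Over.w])

/-! ### Global selections -/

/-- The refined object for a global selection. -/
noncomputable def YG (a : Idx P) (κ : ∀ m : Move P, Fin m.c.n) : C := YL a (fun m => κ m.1)

noncomputable def YGfst (a : Idx P) (κ : ∀ m : Move P, Fin m.c.n) :
    YG a κ ⟶ (P.p.obj a.i).left := YLfst a _

noncomputable def YGπ (a : Idx P) (κ : ∀ m : Move P, Fin m.c.n) (m : ↥a.F) :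
    YG a κ ⟶ Q m.1 (κ m.1) := YLsnd a _ ≫ Pi.π _ m

lemma YG_condition (a : Idx P) (κ : ∀ m : Move P, Fin m.c.n) (m : ↥a.F) :
    YGfst a κ ≫ bmap a m = YGπ a κ m ≫ pullback.fst m.1.f (m.1.c.g (κ m.1)) := by
  have h := pullback.condition (f := (Pi.lift (fun m : ↥a.F => bmap a m) :
      (P.p.obj a.i).left ⟶ ∏ᶜ fun m : ↥a.F => (P.p.obj m.1.b).left))
    (g := (Limits.Pi.map (fun m : ↥a.F => (pullback.fst m.1.f (m.1.c.g (κ m.1)))) :
      (∏ᶜ fun m : ↥a.F => Q m.1 (κ m.1)) ⟶ ∏ᶜ fun m : ↥a.F => (P.p.obj m.1.b).left))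
  have h2 := congrArg (fun t => t ≫ Pi.π _ m) h
  simp only [Category.assoc, Pi.lift_π, Limits.Pi.map_π] at h2
  unfold YGfst YGπ YLfst YLsnd
  rw [Category.assoc]
  exact h2

lemma YG_hom_ext {a : Idx P} {κ : ∀ m : Move P, Fin m.c.n} {W : C} {f g : W ⟶ YG a κ}
    (h₁ : f ≫ YGfst a κ = g ≫ YGfst a κ)
    (h₂ : ∀ m, f ≫ YGπ a κ m = g ≫ YGπ a κ m) : f = g := by
  apply pullback.hom_ext h₁
  apply Pi.hom_ext; intro m
  rw [Category.assoc, Category.assoc]
  exact h₂ m

noncomputable def YGmap {a a' : Idx P} (h : a ≤ a') (κ : ∀ m : Move P, Fin m.c.n) :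
    YG a κ ⟶ YG a' κ := YLmap h (fun m => κ m.1)

@[reassoc]
lemma YGmap_fst {a a' : Idx P} (h : a ≤ a') (κ : ∀ m : Move P, Fin m.c.n) :
    YGmap h κ ≫ YGfst a' κ = YGfst a κ ≫ (P.p.map (homOfLE h.1)).left :=
  YLmap_fst h _

@[reassoc]
lemma YGmap_π {a a' : Idx P} (h : a ≤ a') (κ : ∀ m : Move P, Fin m.c.n) (m' : ↥a'.F) :
    YGmap h κ ≫ YGπ a' κ m' = YGπ a κ ⟨m'.1, h.2 m'.2⟩ :=
  YLmap_snd_π h _ m'

/-- The refined object over `X`. -/
noncomputable def YGO (a : Idx P) (κ : ∀ m : Move P, Fin m.c.n) : Over X :=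
  Over.mk (YGfst a κ ≫ (P.p.obj a.i).hom)

noncomputable def YGOmap {a a' : Idx P} (h : a ≤ a') (κ : ∀ m : Move P, Fin m.c.n) :
    YGO a κ ⟶ YGO a' κ :=
  Over.homMk (YGmap h κ) (by
    simp only [YGO, Over.mk_hom]
    rw [YGmap_fst_assoc, Over.w])

lemma YGOmap_id (a : Idx P) (κ : ∀ m : Move P, Fin m.c.n) :
    YGOmap (le_refl a) κ = 𝟙 (YGO a κ) := by
  apply Over.OverMorphism.ext
  show YGmap (le_refl a) κ = 𝟙 (YG a κ)
  apply YG_hom_ext
  · rw [YGmap_fst, pmap_left_refl, Category.comp_id, Category.id_comp]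
  · intro m
    rw [YGmap_π, Category.id_comp]

lemma YGOmap_comp {a a' a'' : Idx P} (h : a ≤ a') (h' : a' ≤ a'') (κ : ∀ m : Move P, Fin m.c.n) :
    YGOmap (h.trans h') κ = YGOmap h κ ≫ YGOmap h' κ := by
  apply Over.OverMorphism.ext
  show YGmap (h.trans h') κ = YGmap h κ ≫ YGmap h' κ
  apply YG_hom_ext
  · rw [YGmap_fst, Category.assoc, YGmap_fst, YGmap_fst_assoc, pmap_left_comp]
  · intro m
    rw [YGmap_π, Category.assoc, YGmap_π, YGmap_π]

/-! ### Compactness -/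

/-- singleton index -/
def single (m : Move P) : Idx P :=
  ⟨m.b, {m}, fun m' hm' => by rw [Finset.mem_singleton.mp hm']⟩

lemma le_single (a : Idx P) (m : Move P) (hm : m ∈ a.F) : a ≤ single m :=
  ⟨a.le m hm, fun m' hm' => by rw [Finset.mem_singleton.mp hm']; exact hm⟩

lemma exists_good_sel (a : Idx P) : ∃ κ : ∀ m : ↥a.F, Fin m.1.c.n, ¬ Bad J S (YO a κ) := by
  by_contra hall
  push Not at hall
  apply P.good a.i
  obtain ⟨T, hT, hT'⟩ := inter_mem (J := J) (Finset.univ : Finset ↥a.F)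
    (fun m => (Sieve.ofArrows m.1.c.V m.1.c.g).pullback (bmap a m ≫ m.1.f))
    (fun m _ => J.pullback_stable _ m.1.c.mem)
  refine bad_of_cover T hT (fun W g hg => ?_)
  have h1 : ∀ m : ↥a.F, ∃ (k : Fin m.1.c.n) (r : W ⟶ m.1.c.V k),
      g ≫ bmap a m ≫ m.1.f = r ≫ m.1.c.g k := by
    intro m
    have := hT' g hg m (Finset.mem_univ _)
    rw [Sieve.pullback_apply, Sieve.mem_ofArrows_iff] at this
    exact this
  choose κ r hr using h1
  let φ : W ⟶ YL a κ := pullback.lift g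
    (Pi.lift fun m => pullback.lift (g ≫ bmap a m) (r m) (by rw [Category.assoc]; exact hr m))
    (by
      apply Pi.hom_ext; intro m
      simp only [Category.assoc, Pi.lift_π, Limits.Pi.map_π]
      rw [Pi.lift_π_assoc, pullback.lift_fst])
  have hφ1 : φ ≫ YLfst a κ = g := pullback.lift_fst _ _ _
  have hφ : Bad J S (Over.mk (g ≫ (P.p.obj a.i).hom)) :=
    bad_of_hom (Over.homMk (U := Over.mk (g ≫ (P.p.obj a.i).hom)) (V := YO a κ) φ (by
      simp only [YO, Over.mk_hom]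
      rw [← Category.assoc, hφ1])) (hall κ)
  exact hφ

/-- The inverse system of good local selections. -/
noncomputable def Gf (P : Stage J S) : Idx P ⥤ Type u where
  obj a := {κ : ∀ m : ↥a.F, Fin m.1.c.n // ¬ Bad J S (YO a κ)}
  map {a a'} h := TypeCat.ofHom (fun κ => ⟨fun m' => κ.1 ⟨m'.1, (leOfHom h).2 m'.2⟩,
    fun hb => κ.2 (bad_of_hom (YOmap (leOfHom h) κ.1) hb)⟩)
  map_id a := rfl
  map_comp f g := rfl

open Classical in
instance : IsDirected (Idx P) (· ≥ ·) where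
  directed a a' := by
    obtain ⟨i, hi, hi'⟩ := directed_of (· ≥ ·) a.i a'.i
    exact ⟨⟨i, a.F ∪ a'.F, fun m hm => by
      rcases Finset.mem_union.mp hm with h | h
      · exact (show i ≤ a.i from hi).trans (a.le m h)
      · exact (show i ≤ a'.i from hi').trans (a'.le m h)⟩,
      ⟨hi, Finset.subset_union_left⟩, ⟨hi', Finset.subset_union_right⟩⟩

instance : Nonempty (Idx P) :=
  ⟨⟨Classical.arbitrary _, ∅, fun m hm => absurd hm (Finset.notMem_empty m)⟩⟩

lemma exists_sel (P : Stage J S) :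
    ∃ κ : ∀ m : Move P, Fin m.c.n, ∀ a : Idx P, ¬ Bad J S (YGO a κ) := by
  haveI : ∀ a : Idx P, Nonempty ((Gf P).obj a) := fun a => by
    obtain ⟨κ, hκ⟩ := exists_good_sel a
    exact ⟨⟨κ, hκ⟩⟩
  haveI : ∀ a : Idx P, Finite ((Gf P).obj a) := fun a => by
    dsimp [Gf]; infer_instance
  obtain ⟨s, hs⟩ := nonempty_sections_of_finite_cofiltered_system (Gf P)
  let κ : ∀ m : Move P, Fin m.c.n :=
    fun m => (s (single m)).1 ⟨m, Finset.mem_singleton_self m⟩
  refine ⟨κ, fun a => ?_⟩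
  have key : (s a).1 = fun m' : ↥a.F => κ m'.1 := by
    funext m'
    have h2 := hs (homOfLE (le_single a m'.1 m'.2))
    exact congrArg (fun t : (Gf P).obj (single m'.1) =>
      t.1 ⟨m'.1, Finset.mem_singleton_self _⟩) h2
  have h3 := (s a).2
  rw [key] at h3
  exact h3

/-- The chosen global selection. -/
noncomputable def sel (P : Stage J S) : ∀ m : Move P, Fin m.c.n := Classical.choose (exists_sel P)

lemma sel_spec (P : Stage J S) (a : Idx P) : ¬ Bad J S (YGO a (sel P)) :=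
  Classical.choose_spec (exists_sel P) a

/-- The next stage. -/
noncomputable def step (P : Stage J S) : Stage J S where
  N := Idx P
  p :=
    { obj := fun a => YGO a (sel P)
      map := fun {a a'} h => YGOmap (leOfHom h) (sel P)
      map_id := fun a => YGOmap_id a (sel P)
      map_comp := fun {a a' a''} f g => YGOmap_comp (leOfHom f) (leOfHom g) (sel P) }
  good := sel_spec P

/-- The projection of the next stage to the previous one. -/
noncomputable def stepπ (P : Stage J S) (a : Idx P) : (step P).p.obj a ⟶ P.p.obj a.i :=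
  Over.homMk (YGfst a (sel P)) rfl

lemma stepπ_nat (P : Stage J S) {a a' : Idx P} (h : a ≤ a') :
    (step P).p.map (homOfLE h) ≫ stepπ P a' = stepπ P a ≫ P.p.map (homOfLE h.1) := by
  apply Over.OverMorphism.ext
  exact YGmap_fst h (sel P)

omit [HasFiniteLimits C] in
lemma pb_aux {A B D E : C} (u : A ⟶ B) (f : B ⟶ D) (g : E ⟶ D) [HasPullback f g]
    (v : A ⟶ pullback f g)
    (h : u = v ≫ pullback.fst f g) : u ≫ f = (v ≫ pullback.snd f g) ≫ g := by
  rw [h, Category.assoc, Category.assoc, pullback.condition]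

lemma step_refine (P : Stage J S) (m : Move P) :
    ∃ (r : ((step P).p.obj (single m)).left ⟶ m.c.V (sel P m)),
      (stepπ P (single m)).left ≫ m.f = r ≫ m.c.g (sel P m) := by
  have hm : m ∈ (single m).F := Finset.mem_singleton_self m
  refine ⟨YGπ (single m) (sel P) ⟨m, hm⟩ ≫ pullback.snd m.f (m.c.g (sel P m)), ?_⟩
  have h := YG_condition (single m) (sel P) ⟨m, hm⟩
  have hb : bmap (single m) ⟨m, hm⟩ = 𝟙 _ := pmap_left_refl m.b
  rw [hb] at h
  have h' : YGfst (single m) (sel P) =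
      YGπ (single m) (sel P) ⟨m, hm⟩ ≫ pullback.fst m.f (m.c.g (sel P m)) :=
    (Category.comp_id _).symm.trans h
  exact pb_aux (YGfst (single m) (sel P)) m.f (m.c.g (sel P m)) (YGπ (single m) (sel P) ⟨m, hm⟩) h'

end Groth.Agent.H1.Del
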