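import Mathlib
import Groth.Agent.Lib.Helper1.DEL1

open CategoryTheory CategoryTheory.Limits Opposite

universe u

namespace Groth.Agent.H1.Del

variable {C : Type u} [SmallCategory C] [HasFiniteLimits C] {J : GrothendieckTopology C}
  {X : C} {S : Sieve X}

/-- The initial stage. -/
noncomputable def P0 (hS : S ∉ J X) : Stage J S where
  N := PUnit.{u+1}
  p := (Functor.const _).obj (Over.mk (𝟙 X))
  good := fun _ h => hS (by
    have h' : S.pullback (𝟙 X) ∈ J X := h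
    rwa [Sieve.pullback_id] at h')

variable (P₀ : Stage J S)

/-- The tower of stages. -/
noncomputable def seq : ℕ → Stage J S
  | 0 => P₀
  | n+1 => step (seq n)

/-- Descent data from level `m` to level `n`. -/
structure Down (n m : ℕ) where
  φ : (seq P₀ m).N → (seq P₀ n).N
  pr : ∀ a, (seq P₀ m).p.obj a ⟶ (seq P₀ n).p.obj (φ a)
  mono : Monotone φ
  nat : ∀ {a a' : (seq P₀ m).N} (h : a ≤ a'),
    (seq P₀ m).p.map (homOfLE h) ≫ pr a' = pr a ≫ (seq P₀ n).p.map (homOfLE (mono h))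
  surj : Function.Surjective φ

variable {P₀}

lemma Down.ext_of {n m : ℕ} {φ : (seq P₀ m).N → (seq P₀ n).N}
    {pr pr' : ∀ a, (seq P₀ m).p.obj a ⟶ (seq P₀ n).p.obj (φ a)} {mo mo' na na' su su'}
    (h : ∀ a, pr a = pr' a) :
    (Down.mk φ pr mo na su : Down P₀ n m) = Down.mk φ pr' mo' na' su' := by
  have : pr = pr' := funext h
  subst this
  rfl

variable (P₀) in
/-- Identity descent data. -/
noncomputable def Down.base (n : ℕ) : Down P₀ n n where
  φ := id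
  pr a := 𝟙 _
  mono := monotone_id
  nat h := by rw [Category.comp_id, Category.id_comp]
  surj := Function.surjective_id

/-- Descent data one level further up. -/
noncomputable def Down.next {n m : ℕ} (d : Down P₀ n m) : Down P₀ n (m+1) where
  φ a := d.φ (Idx.i (P := seq P₀ m) a)
  pr a := stepπ (seq P₀ m) a ≫ d.pr (Idx.i (P := seq P₀ m) a)
  mono a a' h := d.mono (show Idx.i (P := seq P₀ m) a ≤ Idx.i (P := seq P₀ m) a' from h.1)
  nat {a a'} h := by
    have h1 := stepπ_nat (seq P₀ m) (a := a) (a' := a') h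
    have h2 := d.nat (show Idx.i (P := seq P₀ m) a ≤ Idx.i (P := seq P₀ m) a' from h.1)
    calc _ = ((step (seq P₀ m)).p.map (homOfLE h) ≫ stepπ (seq P₀ m) a') ≫ d.pr _ :=
          (Category.assoc _ _ _).symm
      _ = (stepπ (seq P₀ m) a ≫ (seq P₀ m).p.map (homOfLE h.1)) ≫ d.pr _ := by rw [h1]
      _ = stepπ (seq P₀ m) a ≫ ((seq P₀ m).p.map (homOfLE h.1) ≫ d.pr _) := Category.assoc _ _ _
      _ = stepπ (seq P₀ m) a ≫ (d.pr _ ≫ (seq P₀ n).p.map (homOfLE _)) := by rw [h2]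
      _ = _ := (Category.assoc _ _ _).symm
  surj b := by
    obtain ⟨i, hi⟩ := d.surj b
    exact ⟨(⟨i, ∅, fun m hm => absurd hm (Finset.notMem_empty m)⟩ : Idx (seq P₀ m)), hi⟩

/-- Composition of descent data. -/
noncomputable def Down.comp {n k m : ℕ} (d₁ : Down P₀ n k) (d₂ : Down P₀ k m) : Down P₀ n m where
  φ := d₁.φ ∘ d₂.φ
  pr a := d₂.pr a ≫ d₁.pr (d₂.φ a)
  mono := d₁.mono.comp d₂.mono
  nat {a a'} h := by
    rw [← Category.assoc, d₂.nat h, Category.assoc, d₁.nat (d₂.mono h), ← Category.assoc]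
  surj := d₁.surj.comp d₂.surj

lemma Down.comp_base {n k : ℕ} (d : Down P₀ n k) : d.comp (Down.base P₀ k) = d := by
  cases d
  exact Down.ext_of (fun a => Category.id_comp _)

lemma Down.comp_next {n k m : ℕ} (d₁ : Down P₀ n k) (d₂ : Down P₀ k m) :
    d₁.comp d₂.next = (d₁.comp d₂).next :=
  Down.ext_of (fun a => Category.assoc _ _ _)

variable (P₀) in
/-- The descent data from level `m` to level `n`. -/
noncomputable def D {n m : ℕ} (h : n ≤ m) : Down P₀ n m :=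
  Nat.leRecOn h (fun d => Down.next d) (Down.base P₀ n)

variable (P₀) in
lemma D_self (n : ℕ) : D P₀ (le_refl n) = Down.base P₀ n := Nat.leRecOn_self _

variable (P₀) in
lemma D_succ {n m : ℕ} (h1 : n ≤ m) (h2 : n ≤ m + 1) : D P₀ h2 = (D P₀ h1).next :=
  Nat.leRecOn_succ h1 _

variable (P₀) in
lemma D_trans {n k m : ℕ} (h₁ : n ≤ k) (h₂ : k ≤ m) :
    D P₀ (h₁.trans h₂) = (D P₀ h₁).comp (D P₀ h₂) := by
  induction m, h₂ using Nat.le_induction with
  | base => rw [D_self, Down.comp_base]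
  | succ m h₂ ih =>
    rw [D_succ P₀ h₂, Down.comp_next, ← ih]
    exact D_succ P₀ (h₁.trans h₂) _

variable (P₀) in
lemma D_le_succ (n : ℕ) : D P₀ (Nat.le_succ n) = (Down.base P₀ n).next := by
  rw [D_succ P₀ (le_refl n), D_self]

lemma pr_congr {n m : ℕ} {d d' : Down P₀ n m} (e : d = d') (a : (seq P₀ m).N)
    (b : (seq P₀ n).N) (hle : d.φ a ≤ b) :
    d.pr a ≫ (seq P₀ n).p.map (homOfLE hle) =
      d'.pr a ≫ (seq P₀ n).p.map (homOfLE (e ▸ hle)) := by
  subst e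
  rfl

lemma pmap_comp (P : Stage J S) {i j k : P.N} (h : i ≤ j) (h' : j ≤ k) :
    P.p.map (homOfLE h) ≫ P.p.map (homOfLE h') = P.p.map (homOfLE (h.trans h')) := by
  rw [← P.p.map_comp]
  rfl

lemma pmap_refl (P : Stage J S) (i : P.N) (h : i ≤ i) : P.p.map (homOfLE h) = 𝟙 _ := by
  rw [show homOfLE h = 𝟙 i from Subsingleton.elim _ _, CategoryTheory.Functor.map_id]

lemma base_pr_comp (n : ℕ) (a b : (seq P₀ n).N) (hle : (Down.base P₀ n).φ a ≤ b) :
    (Down.base P₀ n).pr a ≫ (seq P₀ n).p.map (homOfLE hle) =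
      (seq P₀ n).p.map (homOfLE (show a ≤ b from hle)) :=
  Category.id_comp _

variable (P₀) in
/-- The total index type. -/
structure TN where
  lvl : ℕ
  idx : (seq P₀ lvl).N

instance : Preorder (TN P₀) where
  le x y := ∃ h : y.lvl ≤ x.lvl, (D P₀ h).φ x.idx ≤ y.idx
  le_refl x := ⟨le_rfl, by rw [D_self]; exact le_rfl⟩
  le_trans x y z := by
    rintro ⟨h₁, l₁⟩ ⟨h₂, l₂⟩
    refine ⟨h₂.trans h₁, ?_⟩
    rw [D_trans]
    exact ((D P₀ h₂).mono l₁).trans l₂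

instance : IsDirected (TN P₀) (· ≥ ·) where
  directed x y := by
    have hx : x.lvl ≤ max x.lvl y.lvl := le_max_left _ _
    have hy : y.lvl ≤ max x.lvl y.lvl := le_max_right _ _
    obtain ⟨ax, hax⟩ := (D P₀ hx).surj x.idx
    obtain ⟨ay, hay⟩ := (D P₀ hy).surj y.idx
    obtain ⟨c, hcx, hcy⟩ := directed_of (· ≥ ·) ax ay
    refine ⟨⟨max x.lvl y.lvl, c⟩, ⟨hx, ?_⟩, ⟨hy, ?_⟩⟩
    · have := (D P₀ hx).mono (show c ≤ ax from hcx)
      rwa [hax] at this
    · have := (D P₀ hy).mono (show c ≤ ay from hcy)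
      rwa [hay] at this

instance : Nonempty (TN P₀) := ⟨⟨0, Classical.arbitrary _⟩⟩

instance : InitiallySmall.{u} (TN P₀) := initiallySmall_of_essentiallySmall _

variable (P₀) in
/-- The total diagram. -/
noncomputable def PT : TN P₀ ⥤ Over X where
  obj x := (seq P₀ x.lvl).p.obj x.idx
  map {x y} f := (D P₀ (leOfHom f).fst).pr x.idx ≫
    (seq P₀ y.lvl).p.map (homOfLE (leOfHom f).snd)
  map_id x := by
    rw [pr_congr (D_self P₀ x.lvl)]
    exact (base_pr_comp _ _ _ _).trans (pmap_refl _ _ _)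
  map_comp {x y z} f g := by
    have hf := leOfHom f
    have hg := leOfHom g
    rw [pr_congr (D_trans P₀ hg.fst hf.fst)]
    have hn := (D P₀ hg.fst).nat hf.snd
    calc _ = ((D P₀ hf.fst).pr x.idx ≫ (D P₀ hg.fst).pr ((D P₀ hf.fst).φ x.idx)) ≫
          (seq P₀ z.lvl).p.map (homOfLE (((D P₀ hg.fst).mono hf.snd).trans hg.snd)) := rfl
      _ = ((D P₀ hf.fst).pr x.idx ≫ (D P₀ hg.fst).pr ((D P₀ hf.fst).φ x.idx)) ≫
          ((seq P₀ z.lvl).p.map (homOfLE ((D P₀ hg.fst).mono hf.snd)) ≫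
            (seq P₀ z.lvl).p.map (homOfLE hg.snd)) := by rw [pmap_comp]
      _ = (D P₀ hf.fst).pr x.idx ≫ (((D P₀ hg.fst).pr ((D P₀ hf.fst).φ x.idx) ≫
            (seq P₀ z.lvl).p.map (homOfLE ((D P₀ hg.fst).mono hf.snd))) ≫
            (seq P₀ z.lvl).p.map (homOfLE hg.snd)) := by simp only [Category.assoc]
      _ = (D P₀ hf.fst).pr x.idx ≫ (((seq P₀ y.lvl).p.map (homOfLE hf.snd) ≫
            (D P₀ hg.fst).pr y.idx) ≫ (seq P₀ z.lvl).p.map (homOfLE hg.snd)) := by rw [hn]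
      _ = _ := by simp only [Category.assoc]

lemma next_base_pr_comp (n : ℕ) (a : Idx (seq P₀ n)) (b : (seq P₀ n).N)
    (hle : (Down.base P₀ n).next.φ a ≤ b) :
    (Down.base P₀ n).next.pr a ≫ (seq P₀ n).p.map (homOfLE hle) =
      stepπ (seq P₀ n) a ≫ (seq P₀ n).p.map (homOfLE (show a.i ≤ b from hle)) := by
  show (stepπ _ a ≫ 𝟙 _) ≫ _ = _
  rw [Category.comp_id]
  rfl

section Final

variable (hJ : ∀ (U : C) (R : Sieve U), R ∈ J U →
      ∃ (n : ℕ) (V : Fin n → C) (g : ∀ k, V k ⟶ U), (∀ k, R (g k)) ∧ Sieve.ofArrows V g ∈ J U)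

include hJ in
lemma hp ⦃Z : C⦄ (R : Sieve Z) (hR : R ∈ J Z) ⦃U : TN P₀⦄
    (f : (PT P₀ ⋙ Over.forget X).obj U ⟶ Z) :
    ∃ (Y : C) (g : Y ⟶ Z) (_ : R g) (V : TN P₀) (q : V ⟶ U)
      (a : (PT P₀ ⋙ Over.forget X).obj V ⟶ Y),
        a ≫ g = (PT P₀ ⋙ Over.forget X).map q ≫ f := by
  obtain ⟨n, b⟩ := U
  obtain ⟨nn, V, g, hgR, hcov⟩ := hJ Z R hR
  let m : Move (seq P₀ n) := ⟨b, Z, f, ⟨nn, V, g, hcov⟩⟩
  obtain ⟨r, hr⟩ := step_refine (seq P₀ n) m
  let v : TN P₀ := ⟨n+1, (single m : Idx (seq P₀ n))⟩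
  have hle : v ≤ ⟨n, b⟩ := ⟨Nat.le_succ n, by rw [D_le_succ]; exact le_rfl⟩
  refine ⟨V (sel (seq P₀ n) m), g _, hgR _, v, homOfLE hle, r, ?_⟩
  have key : (PT P₀).map (homOfLE hle) = stepπ (seq P₀ n) (single m) := by
    refine (pr_congr (D_le_succ P₀ n) _ _ _).trans ?_
    refine (next_base_pr_comp n _ _ _).trans ?_
    exact (congrArg (fun t => stepπ (seq P₀ n) (single m) ≫ t) (pmap_refl _ _ _)).trans
      (Category.comp_id _)
  show r ≫ g _ = ((PT P₀).map (homOfLE hle)).left ≫ f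
  rw [key]
  exact hr.symm

/-- The point attached to a stage. -/
noncomputable def pt (P₀ : Stage J S) (hJ : ∀ (U : C) (R : Sieve U), R ∈ J U →
      ∃ (n : ℕ) (V : Fin n → C) (g : ∀ k, V k ⟶ U), (∀ k, R (g k)) ∧ Sieve.ofArrows V g ∈ J U) :
    GrothendieckTopology.Point.{u} J :=
  GrothendieckTopology.Point.ofIsCofiltered (PT P₀ ⋙ Over.forget X) (hp hJ)

/-- The root of the tower on the initial stage. -/
def root (hS : S ∉ J X) : TN (P0 hS) := ⟨0, PUnit.unit⟩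

/-- The generic element. -/
noncomputable def x0 (hS : S ∉ J X) : (pt (P0 hS) hJ).fiber.obj X :=
  GrothendieckTopology.Point.ofIsCofiltered.fiberMk (p := PT (P0 hS) ⋙ Over.forget X)
    (U := root hS) (𝟙 X)

open GrothendieckTopology.Point.ofIsCofiltered in
lemma not_lift (hS : S ∉ J X) :
    ¬ ∃ (Y : C) (g : Y ⟶ X) (_ : S g) (y : (pt (P0 hS) hJ).fiber.obj Y),
      (pt (P0 hS) hJ).fiber.map g y = x0 hJ hS := by
  rintro ⟨Y, g, hg, y, hy⟩
  obtain ⟨U, a, rfl⟩ := fiberMk_jointly_surjective (p := PT (P0 hS) ⋙ Over.forget X) y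
  have hy' : fiberMk.{u} (p := PT (P0 hS) ⋙ Over.forget X) (a ≫ g) =
      fiberMk.{u} (p := PT (P0 hS) ⋙ Over.forget X) (U := root hS) (𝟙 X) :=
    have hy2 : (fiber.{u} (PT (P0 hS) ⋙ Over.forget X)).map g
        (fiberMk.{u} (p := PT (P0 hS) ⋙ Over.forget X) a) =
        fiberMk.{u} (p := PT (P0 hS) ⋙ Over.forget X) (U := root hS) (𝟙 X) := hy
    (fiber_map_fiberMk.{u} (p := PT (P0 hS) ⋙ Over.forget X) a g).symm.trans hy2
  let q₁ : IsCofiltered.min U (root hS) ⟶ U := IsCofiltered.minToLeft U (root hS)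
  let q₂ : IsCofiltered.min U (root hS) ⟶ root hS := IsCofiltered.minToRight U (root hS)
  have h1 : fiberMk.{u} (p := PT (P0 hS) ⋙ Over.forget X)
        ((PT (P0 hS) ⋙ Over.forget X).map q₁ ≫ a ≫ g) =
      fiberMk.{u} (p := PT (P0 hS) ⋙ Over.forget X)
        ((PT (P0 hS) ⋙ Over.forget X).map q₂ ≫ 𝟙 X) := by
    rw [fiberMk_map_comp, fiberMk_map_comp]
    exact hy'
  obtain ⟨V, e, he⟩ := exists_of_fiberMk_eq_fiberMk h1
  have h2 : (PT (P0 hS) ⋙ Over.forget X).map e ≫ (PT (P0 hS) ⋙ Over.forget X).map q₂ ≫ 𝟙 X =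
      ((PT (P0 hS)).obj V).hom := by
    rw [← Category.assoc, ← Functor.map_comp]
    exact Over.w ((PT (P0 hS)).map (e ≫ q₂))
  have h3 : S ((PT (P0 hS)).obj V).hom := by
    rw [← h2, ← he]
    simp only [← Category.assoc]
    exact S.downward_closed hg _
  apply (seq (P0 hS) V.lvl).good V.idx
  show S.pullback ((PT (P0 hS)).obj V).hom ∈ J _
  rw [(Sieve.mem_iff_pullback_eq_top _).mp h3]
  exact J.top_mem _

include hJ in
theorem main : GrothendieckTopology.HasEnoughPoints.{u} J := by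
  let Pf : ObjectProperty (GrothendieckTopology.Point.{u} J) :=
    ObjectProperty.ofObj (fun t : (Σ X : C, {S : Sieve X // S ∉ J X}) => pt (P0 t.2.2) hJ)
  refine ⟨Pf, inferInstance, ?_⟩
  apply ObjectProperty.IsConservativeFamilyOfPoints.mk'
  intro X S hS
  by_contra hSJ
  let Ψ : Pf.FullSubcategory := ⟨pt (P0 hSJ) hJ,
    ObjectProperty.ofObj_apply _ (⟨X, S, hSJ⟩ : Σ X : C, {S : Sieve X // S ∉ J X})⟩
  exact not_lift hJ hSJ (hS Ψ (x0 hJ hSJ))

end Final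

end Groth.Agent.H1.Del
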