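import Mathlib
import Groth.Prelude.Def_MoreMor
import Groth.Agent.Lib.Helper1.ResFin

set_option autoImplicit false
universe u

namespace Groth.Agent.H1.WtLift

open AlgebraicGeometry CategoryTheory Limits

variable {U V : Scheme.{u}}

/-- Lifts of a geometric point `a : Spec Ω ⟶ V` along `π : U ⟶ V`. -/
def Lift (π : U ⟶ V) {Ω : Type u} [Field Ω] (a : Spec (CommRingCat.of Ω) ⟶ V) : Type u :=
  {t : Spec (CommRingCat.of Ω) ⟶ U // t ≫ π = a}

/-- the image point of a lift -/
noncomputable def Lift.pt {π : U ⟶ V} {Ω : Type u} [Field Ω] {a : Spec (CommRingCat.of Ω) ⟶ V}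
    (t : Lift π a) : U := t.1 (IsLocalRing.closedPoint Ω)

theorem Lift.map_pt {π : U ⟶ V} {Ω : Type u} [Field Ω] {a : Spec (CommRingCat.of Ω) ⟶ V}
    (t : Lift π a) : π t.pt = a (IsLocalRing.closedPoint Ω) := by
  change (t.1 ≫ π) _ = _
  rw [t.2]

/-- The geometric point attached to `ι : κ(v) ⟶ Ω`. -/
noncomputable abbrev geomPt (v : V) {Ω : Type u} [Field Ω] (ι : V.residueField v ⟶ CommRingCat.of Ω) :
    Spec (CommRingCat.of Ω) ⟶ V := Spec.map ι ≫ V.fromSpecResidueField v

theorem geomPt_apply (v : V) {Ω : Type u} [Field Ω] (ι : V.residueField v ⟶ CommRingCat.of Ω)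
    (z : Spec (CommRingCat.of Ω)) : geomPt v ι z = v := by
  change (V.fromSpecResidueField v) (Spec.map ι z) = v
  exact Scheme.fromSpecResidueField_apply _ _

/-- Lifts of `geomPt (π u) ι` with image point `u` correspond to extensions of `ι` to `κ(u)`. -/
theorem lift_fiber_bij (π : U ⟶ V) (u : U) {Ω : Type u} [Field Ω]
    (ι : V.residueField (π u) ⟶ CommRingCat.of Ω) :
    ∃ F : {φ : U.residueField u ⟶ CommRingCat.of Ω // π.residueFieldMap u ≫ φ = ι} →
        {t : Lift π (geomPt (π u) ι) // t.pt = u},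
      Function.Bijective F := by
  have hwd : ∀ φ : U.residueField u ⟶ CommRingCat.of Ω, π.residueFieldMap u ≫ φ = ι →
      (Spec.map φ ≫ U.fromSpecResidueField u) ≫ π = geomPt (π u) ι := by
    intro φ hφ
    rw [Category.assoc, ← Scheme.Hom.SpecMap_residueFieldMap_fromSpecResidueField,
      ← Category.assoc, ← Spec.map_comp, hφ]
  refine ⟨fun φ => ⟨⟨Spec.map φ.1 ≫ U.fromSpecResidueField u, hwd φ.1 φ.2⟩, ?_⟩, ?_, ?_⟩
  · change (U.fromSpecResidueField u) (Spec.map φ.1 _) = u
    exact Scheme.fromSpecResidueField_apply _ _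
  · intro φ φ' h
    have h1 : Spec.map φ.1 ≫ U.fromSpecResidueField u = Spec.map φ'.1 ≫ U.fromSpecResidueField u :=
      congrArg (fun z => z.1.1) h
    rw [cancel_mono, Spec.map_inj] at h1
    exact Subtype.ext h1
  · rintro ⟨⟨t, ht⟩, htu⟩
    have htu' : t (IsLocalRing.closedPoint Ω) = u := htu
    subst htu'
    have ht0 := Scheme.descResidueField_stalkClosedPointTo_fromSpecResidueField Ω U t
    set φ := U.descResidueField (Scheme.stalkClosedPointTo t) with hφ
    have hφι : π.residueFieldMap _ ≫ φ = ι := by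
      have h2 : (Spec.map φ ≫ U.fromSpecResidueField _) ≫ π = geomPt _ ι := by rw [ht0]; exact ht
      rw [Category.assoc, ← Scheme.Hom.SpecMap_residueFieldMap_fromSpecResidueField,
        ← Category.assoc, ← Spec.map_comp] at h2
      rw [cancel_mono, Spec.map_inj] at h2
      exact h2
    refine ⟨⟨φ, hφι⟩, ?_⟩
    apply Subtype.ext
    apply Subtype.ext
    exact ht0


/-- the number of lifts through a given point is the separable degree. -/
theorem card_lift_fiber (π : U ⟶ V) (u : U) {Ω : Type u} [Field Ω] [IsAlgClosed Ω]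
    (ι : V.residueField (π u) ⟶ CommRingCat.of Ω)
    (halg : (π.residueFieldMap u).hom.Finite) :
    Nat.card {t : Lift π (geomPt (π u) ι) // t.pt = u} =
      (letI := (π.residueFieldMap u).hom.toAlgebra
       Field.finSepDegree (V.residueField (π u)) (U.residueField u)) := by
  obtain ⟨F, hF⟩ := lift_fiber_bij π u ι
  rw [← Nat.card_congr (Equiv.ofBijective F hF)]
  letI := (π.residueFieldMap u).hom.toAlgebra
  letI : Algebra (V.residueField (π u)) Ω := ι.hom.toAlgebra
  haveI : Module.Finite (V.residueField (π u)) (U.residueField u) := halg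
  haveI : Algebra.IsAlgebraic (V.residueField (π u)) (U.residueField u) :=
    Algebra.IsAlgebraic.of_finite _ _
  rw [Field.finSepDegree_eq_of_isAlgClosed (V.residueField (π u)) (U.residueField u) Ω]
  refine Nat.card_congr ?_
  refine
    { toFun := fun φ => { φ.1.hom with commutes' := fun r => ?_ }
      invFun := fun ψ => ⟨CommRingCat.ofHom ψ.toRingHom, ?_⟩
      left_inv := fun φ => ?_
      right_inv := fun ψ => ?_ }
  · have := congrArg (fun z => z.hom r) φ.2
    exact this
  · ext r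
    exact ψ.commutes r
  · apply Subtype.ext
    rfl
  · ext x
    rfl


theorem geomPt_congr {v v' : V} (h : v' = v) {Ω : Type u} [Field Ω]
    (ι : V.residueField v ⟶ CommRingCat.of Ω) :
    geomPt v' ((V.residueFieldCongr h).hom ≫ ι) = geomPt v ι := by
  subst h
  simp [geomPt]

/-- version of `card_lift_fiber` over a point only propositionally equal to `π u`. -/
theorem card_lift_fiber' (π : U ⟶ V) (u : U) (v : V) (hu : π u = v) {Ω : Type u} [Field Ω]
    [IsAlgClosed Ω] (ι : V.residueField v ⟶ CommRingCat.of Ω)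
    (halg : (π.residueFieldMap u).hom.Finite) :
    Nat.card {t : Lift π (geomPt v ι) // t.pt = u} =
      (letI := (π.residueFieldMap u).hom.toAlgebra
       Field.finSepDegree (V.residueField (π u)) (U.residueField u)) := by
  subst hu
  exact card_lift_fiber π u ι halg

/-- The local term of the fibre integral. -/
noncomputable def sepDeg (π : U ⟶ V) (u : U) : ℕ :=
  letI := (π.residueFieldMap u).hom.toAlgebra
  Field.finSepDegree (V.residueField (π u)) (U.residueField u)

theorem fibreIntegral_def (π : U ⟶ V) (ω : U → ℤ) (v : V) :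
    MoreMor.fibreIntegral π ω v = ∑ᶠ u : {u : U // π u = v}, ω u.1 * (sepDeg π u.1 : ℤ) := rfl

theorem sepDeg_pos (π : U ⟶ V) (u : U) (h : (π.residueFieldMap u).hom.Finite) :
    0 < sepDeg π u := by
  letI := (π.residueFieldMap u).hom.toAlgebra
  haveI : Module.Finite (V.residueField (π u)) (U.residueField u) := h
  exact Nat.pos_of_ne_zero (NeZero.ne (Field.finSepDegree (V.residueField (π u)) (U.residueField u)))

/-- the map from lifts to points of the fibre -/
noncomputable def Lift.toFiber {π : U ⟶ V} {v : V} {Ω : Type u} [Field Ω]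
    {ι : V.residueField v ⟶ CommRingCat.of Ω} (t : Lift π (geomPt v ι)) : {u : U // π u = v} :=
  ⟨t.pt, by rw [t.map_pt]; exact geomPt_apply v ι _⟩

theorem finite_lift (π : U ⟶ V) (v : V) {Ω : Type u} [Field Ω] [IsAlgClosed Ω]
    (ι : V.residueField v ⟶ CommRingCat.of Ω) (hfin : (π ⁻¹' {v}).Finite)
    (hres : ∀ u, π u = v → (π.residueFieldMap u).hom.Finite) :
    Finite (Lift π (geomPt v ι)) := by
  haveI : Finite {u : U // π u = v} := hfin
  rw [← Set.finite_univ_iff]
  refine Set.Finite.of_finite_fibers (Lift.toFiber (π := π) (v := v) (ι := ι))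
    (Set.toFinite _) ?_
  rintro ⟨u, hu⟩ -
  have hcard := card_lift_fiber' π u v hu ι (hres u hu)
  have hpos := sepDeg_pos π u (hres u hu)
  have hne : Nat.card {t : Lift π (geomPt v ι) // t.pt = u} ≠ 0 := by
    rw [hcard]; exact hpos.ne'
  haveI := Nat.finite_of_card_ne_zero hne
  have : (Set.univ ∩ Lift.toFiber (π := π) (v := v) (ι := ι) ⁻¹' {⟨u, hu⟩}) =
      {t : Lift π (geomPt v ι) | t.pt = u} := by
    ext t
    simp only [Set.mem_inter_iff, Set.mem_univ, Set.mem_preimage, Set.mem_singleton_iff,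
      true_and, Set.mem_ofPred_eq, Lift.toFiber, Subtype.mk.injEq]
  rw [this]
  have hf : Finite {t : Lift π (geomPt v ι) // t.pt = u} := Nat.finite_of_card_ne_zero hne
  exact Set.finite_coe_iff.mp hf

/-- (G): the fibre integral as a sum over geometric lifts. -/
theorem fibreIntegral_eq_finsum_lift (π : U ⟶ V) (ω : U → ℤ) (v : V) {Ω : Type u} [Field Ω]
    [IsAlgClosed Ω] (ι : V.residueField v ⟶ CommRingCat.of Ω) (hfin : (π ⁻¹' {v}).Finite)
    (hres : ∀ u, π u = v → (π.residueFieldMap u).hom.Finite) :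
    MoreMor.fibreIntegral π ω v = ∑ᶠ t : Lift π (geomPt v ι), ω t.pt := by
  classical
  haveI : Finite {u : U // π u = v} := hfin
  haveI := finite_lift π v ι hfin hres
  letI : Fintype {u : U // π u = v} := Fintype.ofFinite _
  letI : Fintype (Lift π (geomPt v ι)) := Fintype.ofFinite _
  rw [fibreIntegral_def, finsum_eq_sum_of_fintype, finsum_eq_sum_of_fintype]
  have h1 := Fintype.sum_fiberwise' (Lift.toFiber (π := π) (v := v) (ι := ι))
    (fun s : {u : U // π u = v} => ω s.1)
  have h2 : ∀ t : Lift π (geomPt v ι), ω (Lift.toFiber t).1 = ω t.pt := fun t => rfl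
  simp only [h2] at h1
  rw [← h1]
  refine Finset.sum_congr rfl ?_
  rintro ⟨u, hu⟩ -
  have hc : Nat.card {i : Lift π (geomPt v ι) // Lift.toFiber i = ⟨u, hu⟩} = sepDeg π u := by
    unfold sepDeg
    rw [← card_lift_fiber' π u v hu ι (hres u hu)]
    refine Nat.card_congr ?_
    exact
      { toFun := fun t => ⟨t.1, congrArg Subtype.val t.2⟩
        invFun := fun t => ⟨t.1, Subtype.ext t.2⟩
        left_inv := fun t => rfl
        right_inv := fun t => rfl }
  rw [Finset.sum_const, Finset.card_univ, nsmul_eq_mul, mul_comm, Fintype.card_eq_nat_card, hc]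


/-- The geometric integral: sum over the lifts of a geometric point. -/
noncomputable def GInt (π : U ⟶ V) (ω : U → ℤ) {Ω : Type u} [Field Ω]
    (a : Spec (CommRingCat.of Ω) ⟶ V) : ℤ := ∑ᶠ t : Lift π a, ω t.pt

section BaseChange

variable {U' V' : Scheme.{u}} {π : U ⟶ V} {π' : U' ⟶ V'} {h : U' ⟶ U} {g : V' ⟶ V}

/-- lifts along a base change -/
noncomputable def liftBaseChange (hc : IsPullback h π' π g) {Ω : Type u} [Field Ω]
    (a' : Spec (CommRingCat.of Ω) ⟶ V') : Lift π' a' ≃ Lift π (a' ≫ g) where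
  toFun t := ⟨t.1 ≫ h, by rw [Category.assoc, hc.w, ← Category.assoc, t.2]⟩
  invFun t := ⟨hc.lift t.1 a' t.2, hc.lift_snd _ _ _⟩
  left_inv t := by
    apply Subtype.ext
    apply hc.hom_ext
    · simp
    · simp [t.2]
  right_inv t := Subtype.ext (hc.lift_fst _ _ _)

theorem liftBaseChange_pt (hc : IsPullback h π' π g) {Ω : Type u} [Field Ω]
    (a' : Spec (CommRingCat.of Ω) ⟶ V') (t : Lift π' a') :
    (liftBaseChange hc a' t).pt = h t.pt := rfl

theorem GInt_baseChange (hc : IsPullback h π' π g) (ω : U → ℤ) {Ω : Type u} [Field Ω]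
    (a' : Spec (CommRingCat.of Ω) ⟶ V') :
    GInt π' (ω ∘ h) a' = GInt π ω (a' ≫ g) := by
  unfold GInt
  rw [← finsum_comp_equiv (liftBaseChange hc a')]
  rfl

end BaseChange

theorem geomPt_comp {V' : Scheme.{u}} (g : V' ⟶ V) (v' : V') {Ω : Type u} [Field Ω]
    (ι : V'.residueField v' ⟶ CommRingCat.of Ω) :
    geomPt v' ι ≫ g = geomPt (g v') (g.residueFieldMap v' ≫ ι) := by
  unfold geomPt
  rw [Category.assoc, ← Scheme.Hom.SpecMap_residueFieldMap_fromSpecResidueField,
    ← Category.assoc, ← Spec.map_comp]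


theorem finite_res_of_lqf (π : U ⟶ V) [LocallyQuasiFinite π] (u : U) :
    (π.residueFieldMap u).hom.Finite :=
  ResFin.finite_residueFieldMap_of_quasiFiniteAt π (π.quasiFiniteAt u)

/-- every point of the fibre is hit by a lift -/
theorem exists_lift_pt (π : U ⟶ V) (u : U) (v : V) (hu : π u = v) {Ω : Type u} [Field Ω]
    [IsAlgClosed Ω] (ι : V.residueField v ⟶ CommRingCat.of Ω)
    (halg : (π.residueFieldMap u).hom.Finite) :
    ∃ t : Lift π (geomPt v ι), t.pt = u := by
  have hcard := card_lift_fiber' π u v hu ι halg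
  have hpos := sepDeg_pos π u halg
  have hne : Nat.card {t : Lift π (geomPt v ι) // t.pt = u} ≠ 0 := by
    rw [hcard]; exact hpos.ne'
  haveI := Nat.finite_of_card_ne_zero hne
  have : Nonempty {t : Lift π (geomPt v ι) // t.pt = u} := by
    by_contra hcon
    rw [not_nonempty_iff] at hcon
    exact hne Nat.card_of_isEmpty
  obtain ⟨t, ht⟩ := this
  exact ⟨t, ht⟩

theorem finite_fiber_of_finite_lift (π : U ⟶ V) (v : V) {Ω : Type u} [Field Ω]
    [IsAlgClosed Ω] (ι : V.residueField v ⟶ CommRingCat.of Ω)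
    (hres : ∀ u, π u = v → (π.residueFieldMap u).hom.Finite)
    (hL : Finite (Lift π (geomPt v ι))) : (π ⁻¹' {v}).Finite := by
  have : π ⁻¹' {v} ⊆ Set.range (fun t : Lift π (geomPt v ι) => t.pt) := by
    intro u hu
    obtain ⟨t, ht⟩ := exists_lift_pt π u v hu ι (hres u hu)
    exact ⟨t, ht⟩
  exact (Set.finite_range _).subset this

/-- S1418: base change of fibre integrals. -/
theorem fibreIntegral_baseChange {U' V' : Scheme.{u}} (π : U ⟶ V) [LocallyQuasiFinite π]
    (π' : U' ⟶ V') (h : U' ⟶ U) (g : V' ⟶ V) (hc : IsPullback h π' π g) (w : U → ℤ) (v' : V')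
    (hfin : (π ⁻¹' {g v'}).Finite) :
    MoreMor.fibreIntegral π' (w ∘ h) v' = MoreMor.fibreIntegral π w (g v') ∧
      (π' ⁻¹' {v'}).Finite := by
  haveI : LocallyQuasiFinite π' := MorphismProperty.of_isPullback hc ‹_›
  let Ω := AlgebraicClosure (V'.residueField v')
  let ι' : V'.residueField v' ⟶ CommRingCat.of Ω :=
    CommRingCat.ofHom (algebraMap (V'.residueField v') Ω)
  have hres : ∀ u, π u = g v' → (π.residueFieldMap u).hom.Finite :=
    fun u _ => finite_res_of_lqf π u
  have hres' : ∀ u, π' u = v' → (π'.residueFieldMap u).hom.Finite :=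
    fun u _ => finite_res_of_lqf π' u
  have hL := finite_lift π (g v') (g.residueFieldMap v' ≫ ι') hfin hres
  have hL' : Finite (Lift π' (geomPt v' ι')) := by
    rw [← geomPt_comp] at hL
    exact Finite.of_equiv _ (liftBaseChange hc (geomPt v' ι')).symm
  have hfin' := finite_fiber_of_finite_lift π' v' ι' hres' hL'
  refine ⟨?_, hfin'⟩
  rw [fibreIntegral_eq_finsum_lift π' (w ∘ h) v' ι' hfin' hres',
    fibreIntegral_eq_finsum_lift π w (g v') (g.residueFieldMap v' ≫ ι') hfin hres]
  have := GInt_baseChange hc w (geomPt v' ι')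
  unfold GInt at this
  rw [this, geomPt_comp]


theorem eq_geomPt {Ω : Type u} [Field Ω] (a : Spec (CommRingCat.of Ω) ⟶ V) :
    a = geomPt (a (IsLocalRing.closedPoint Ω)) (V.descResidueField (Scheme.stalkClosedPointTo a)) :=
  (Scheme.descResidueField_stalkClosedPointTo_fromSpecResidueField Ω V a).symm

/-- (G'): the fibre integral as a geometric integral, for an arbitrary geometric point. -/
theorem fibreIntegral_eq_GInt (π : U ⟶ V) [LocallyQuasiFinite π] (ω : U → ℤ) {Ω : Type u}
    [Field Ω] [IsAlgClosed Ω] (a : Spec (CommRingCat.of Ω) ⟶ V)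
    (hfin : (π ⁻¹' {a (IsLocalRing.closedPoint Ω)}).Finite) :
    MoreMor.fibreIntegral π ω (a (IsLocalRing.closedPoint Ω)) = GInt π ω a := by
  have h := fibreIntegral_eq_finsum_lift π ω (a (IsLocalRing.closedPoint Ω))
    (V.descResidueField (Scheme.stalkClosedPointTo a)) hfin (fun u _ => finite_res_of_lqf π u)
  rw [h]
  unfold GInt
  rw [← eq_geomPt a]

theorem finite_lift' (π : U ⟶ V) [LocallyQuasiFinite π] {Ω : Type u} [Field Ω] [IsAlgClosed Ω]
    (a : Spec (CommRingCat.of Ω) ⟶ V)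
    (hfin : (π ⁻¹' {a (IsLocalRing.closedPoint Ω)}).Finite) : Finite (Lift π a) := by
  have h := finite_lift π (a (IsLocalRing.closedPoint Ω))
    (V.descResidueField (Scheme.stalkClosedPointTo a)) hfin (fun u _ => finite_res_of_lqf π u)
  rwa [← eq_geomPt a] at h

section Comp

variable {T : Scheme.{u}} (π₁ : U ⟶ T) (π₂ : T ⟶ V)

/-- lifts along a composition -/
noncomputable def liftComp {Ω : Type u} [Field Ω] (a : Spec (CommRingCat.of Ω) ⟶ V) :
    Lift (π₁ ≫ π₂) a ≃ Σ s : Lift π₂ a, Lift π₁ s.1 where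
  toFun t := ⟨⟨t.1 ≫ π₁, by rw [Category.assoc, t.2]⟩, ⟨t.1, rfl⟩⟩
  invFun p := ⟨p.2.1, by rw [← Category.assoc, p.2.2, p.1.2]⟩
  left_inv t := rfl
  right_inv p := by
    obtain ⟨⟨s, hs⟩, ⟨t, ht⟩⟩ := p
    have ht' : t ≫ π₁ = s := ht
    subst ht'
    rfl

/-- Fubini for fibre integrals. -/
theorem fibreIntegral_comp [LocallyQuasiFinite π₁] [LocallyQuasiFinite π₂] (ω₁ : U → ℤ)
    (ω₂ : T → ℤ) (v : V) (hfin₂ : (π₂ ⁻¹' {v}).Finite)
    (hfin₁ : ∀ t, π₂ t = v → (π₁ ⁻¹' {t}).Finite) :
    MoreMor.fibreIntegral (π₁ ≫ π₂) (fun u => ω₁ u * ω₂ (π₁ u)) v =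
      MoreMor.fibreIntegral π₂ (fun t => ω₂ t * MoreMor.fibreIntegral π₁ ω₁ t) v := by
  classical
  let Ω := AlgebraicClosure (V.residueField v)
  let ι : V.residueField v ⟶ CommRingCat.of Ω :=
    CommRingCat.ofHom (algebraMap (V.residueField v) Ω)
  set a := geomPt v ι with ha
  have hav : a (IsLocalRing.closedPoint Ω) = v := geomPt_apply v ι _
  have hfin12 : ((π₁ ≫ π₂) ⁻¹' {v}).Finite := by
    have : (π₁ ≫ π₂) ⁻¹' {v} = ⋃ t ∈ π₂ ⁻¹' {v}, π₁ ⁻¹' {t} := by
      ext u
      simp only [Set.mem_preimage, Set.mem_singleton_iff, Set.mem_iUnion, exists_prop]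
      constructor
      · intro hu; exact ⟨π₁ u, hu, rfl⟩
      · rintro ⟨t, ht, hut⟩; rw [← ht, ← hut]; rfl
    rw [this]
    exact hfin₂.biUnion (fun t ht => hfin₁ t ht)
  have e1 := fibreIntegral_eq_GInt (π₁ ≫ π₂) (fun u => ω₁ u * ω₂ (π₁ u)) a (by rw [hav]; exact hfin12)
  have e2 := fibreIntegral_eq_GInt π₂ (fun t => ω₂ t * MoreMor.fibreIntegral π₁ ω₁ t) a
    (by rw [hav]; exact hfin₂)
  rw [hav] at e1 e2
  rw [e1, e2]
  unfold GInt
  haveI : Finite (Lift π₂ a) := finite_lift' π₂ a (by rw [hav]; exact hfin₂)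
  have hfinL1 : ∀ s : Lift π₂ a, Finite (Lift π₁ s.1) := by
    intro s
    refine finite_lift' π₁ s.1 (hfin₁ _ ?_)
    have := s.map_pt
    rw [hav] at this
    exact this
  haveI : Finite (Σ s : Lift π₂ a, Lift π₁ s.1) := by
    haveI := hfinL1
    infer_instance
  rw [← finsum_comp_equiv (liftComp π₁ π₂ a).symm]
  letI : Fintype (Lift π₂ a) := Fintype.ofFinite _
  letI : ∀ s : Lift π₂ a, Fintype (Lift π₁ s.1) := fun s => @Fintype.ofFinite _ (hfinL1 s)
  rw [finsum_eq_sum_of_fintype, finsum_eq_sum_of_fintype, Fintype.sum_sigma]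
  refine Finset.sum_congr rfl ?_
  intro s _
  have e3 := fibreIntegral_eq_GInt π₁ ω₁ s.1 (hfin₁ _ (by
    have := s.map_pt
    rw [hav] at this
    exact this))
  change _ = ω₂ s.pt * MoreMor.fibreIntegral π₁ ω₁ s.pt
  have e3' : MoreMor.fibreIntegral π₁ ω₁ s.pt = GInt π₁ ω₁ s.1 := e3
  rw [e3']
  unfold GInt
  rw [finsum_eq_sum_of_fintype, Finset.mul_sum]
  refine Finset.sum_congr rfl ?_
  intro t _
  change ω₁ t.pt * ω₂ (π₁ t.pt) = ω₂ s.pt * ω₁ t.pt
  have : π₁ t.pt = s.pt := t.map_pt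
  rw [this, mul_comm]

end Comp

end Groth.Agent.H1.WtLift
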