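import Mathlib
import Groth.Prelude.Def_MoreMor
import Groth.Agent.Lib.Helper1.WtLift

set_option autoImplicit false
universe u

namespace Groth.Agent.H1.WtJ

open AlgebraicGeometry CategoryTheory Limits WtLift

variable {P V : Scheme.{u}}

theorem sepDeg_comp_openImmersion {U₁ : Scheme.{u}} (j : U₁ ⟶ P) [IsOpenImmersion j]
    (snd : P ⟶ V) (u : U₁) : sepDeg (j ≫ snd) u = sepDeg snd (j u) := by
  unfold sepDeg
  letI A1 : Algebra (V.residueField (snd (j u))) (P.residueField (j u)) :=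
    (snd.residueFieldMap (j u)).hom.toAlgebra
  letI A2 : Algebra (V.residueField (snd (j u))) (U₁.residueField u) :=
    ((j ≫ snd).residueFieldMap u).hom.toAlgebra
  have hbij : Function.Bijective (j.residueFieldMap u).hom :=
    ConcreteCategory.bijective_of_isIso (j.residueFieldMap u)
  let e : P.residueField (j u) ≃ₐ[V.residueField (snd (j u))] U₁.residueField u :=
    AlgEquiv.ofRingEquiv (f := RingEquiv.ofBijective (j.residueFieldMap u).hom hbij) (by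
      intro x
      change (j.residueFieldMap u).hom ((snd.residueFieldMap (j u)).hom x) =
        ((j ≫ snd).residueFieldMap u).hom x
      rw [Scheme.residueFieldMap_comp]
      rfl)
  exact (Field.finSepDegree_eq_of_equiv _ _ _ e).symm

/-- The sum of the local terms over the part of the fibre lying in a set `O`. -/
noncomputable def JS (snd : P ⟶ V) (ω : P → ℤ) (O : Set P) (v : V) : ℤ :=
  ∑ᶠ p ∈ O ∩ snd ⁻¹' {v}, ω p * (sepDeg snd p : ℤ)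

theorem fibreIntegral_eq_JS {U₁ : Scheme.{u}} (j : U₁ ⟶ P) [IsOpenImmersion j]
    (snd : P ⟶ V) (ω : P → ℤ) (v : V) :
    MoreMor.fibreIntegral (j ≫ snd) (ω ∘ j) v = JS snd ω (Set.range j) v := by
  rw [fibreIntegral_def]
  unfold JS
  have h1 : ∑ᶠ (u : {u : U₁ // (j ≫ snd) u = v}), (ω ∘ j) u.1 * (sepDeg (j ≫ snd) u.1 : ℤ) =
      ∑ᶠ u ∈ {u : U₁ | (j ≫ snd) u = v}, ω (j u) * (sepDeg snd (j u) : ℤ) := by
    rw [← finsum_set_coe_eq_finsum_mem]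
    refine finsum_congr ?_
    intro u
    rw [sepDeg_comp_openImmersion]
    rfl
  rw [h1]
  refine finsum_mem_eq_of_bijOn j ?_ (fun _ _ => rfl)
  refine ⟨?_, j.injective.injOn, ?_⟩
  · intro u hu
    exact ⟨⟨u, rfl⟩, hu⟩
  · rintro p ⟨⟨u, rfl⟩, hp⟩
    exact ⟨u, hp, rfl⟩


/-- The fibre integral over an open subscheme `O` of `P`. -/
noncomputable def J (snd : P ⟶ V) (ω : P → ℤ) (O : P.Opens) : V → ℤ :=
  MoreMor.fibreIntegral (O.ι ≫ snd) (ω ∘ O.ι)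

theorem J_eq_JS (snd : P ⟶ V) (ω : P → ℤ) (O : P.Opens) (v : V) :
    J snd ω O v = JS snd ω (O : Set P) v := by
  unfold J
  rw [fibreIntegral_eq_JS]
  congr 1
  exact Scheme.Opens.range_ι O

theorem JS_congr (snd : P ⟶ V) (ω : P → ℤ) {O₁ O₂ : Set P} {v : V}
    (h : O₁ ∩ snd ⁻¹' {v} = O₂ ∩ snd ⁻¹' {v}) : JS snd ω O₁ v = JS snd ω O₂ v := by
  unfold JS
  rw [h]

theorem JS_of_fiber_empty (snd : P ⟶ V) (ω : P → ℤ) {O : Set P} {v : V}
    (h : O ∩ snd ⁻¹' {v} = ∅) : JS snd ω O v = 0 := by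
  unfold JS
  rw [h]
  exact finsum_mem_empty

theorem JS_union (snd : P ⟶ V) (ω : P → ℤ) {O₁ O₂ : Set P} {v : V} (hd : Disjoint O₁ O₂)
    (h₁ : (O₁ ∩ snd ⁻¹' {v}).Finite) (h₂ : (O₂ ∩ snd ⁻¹' {v}).Finite) :
    JS snd ω (O₁ ∪ O₂) v = JS snd ω O₁ v + JS snd ω O₂ v := by
  unfold JS
  rw [Set.union_inter_distrib_right]
  exact finsum_mem_union (hd.mono Set.inter_subset_left Set.inter_subset_left) h₁ h₂

theorem JS_iUnion (snd : P ⟶ V) (ω : P → ℤ) {n : ℕ} (O : Fin n → Set P) {v : V}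
    (hd : ∀ k k', k ≠ k' → Disjoint (O k) (O k'))
    (h : ∀ k, (O k ∩ snd ⁻¹' {v}).Finite) :
    JS snd ω (⋃ k, O k) v = ∑ k, JS snd ω (O k) v := by
  unfold JS
  rw [Set.iUnion_inter]
  rw [finsum_mem_iUnion (fun k k' hkk' => (hd k k' hkk').mono Set.inter_subset_left
    Set.inter_subset_left) h]
  exact finsum_eq_sum_of_fintype _

theorem JS_singleton (snd : P ⟶ V) (ω : P → ℤ) {O : Set P} {v : V} {p : P}
    (h : O ∩ snd ⁻¹' {v} = {p}) : JS snd ω O v = ω p * (sepDeg snd p : ℤ) := by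
  unfold JS
  rw [h]
  exact finsum_mem_singleton

theorem JS_mono (snd : P ⟶ V) (ω : P → ℤ) {O₁ O₂ : Set P} {v : V} (hsub : O₁ ⊆ O₂)
    (h₂ : (O₂ ∩ snd ⁻¹' {v}).Finite) (hω : ∀ p ∈ O₂, 0 ≤ ω p) :
    JS snd ω O₁ v ≤ JS snd ω O₂ v := by
  have hO : O₂ = O₁ ∪ (O₂ \ O₁) := (Set.union_sdiff_cancel hsub).symm
  have h₁ : (O₁ ∩ snd ⁻¹' {v}).Finite :=
    h₂.subset (Set.inter_subset_inter_left _ hsub)
  have h₃ : ((O₂ \ O₁) ∩ snd ⁻¹' {v}).Finite :=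
    h₂.subset (Set.inter_subset_inter_left _ Set.sdiff_subset)
  rw [hO, JS_union snd ω Set.disjoint_sdiff_right h₁ h₃]
  have : 0 ≤ JS snd ω (O₂ \ O₁) v := by
    unfold JS
    refine finsum_nonneg (fun p => finsum_nonneg (fun hp => ?_))
    exact mul_nonneg (hω p hp.1.1) (Int.natCast_nonneg _)
  linarith


theorem finite_fiber_opens (snd : P ⟶ V) (O : P.Opens) (v : V)
    (hfin : ((O : Set P) ∩ snd ⁻¹' {v}).Finite) : ((O.ι ≫ snd) ⁻¹' {v}).Finite := by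
  have : (O.ι ≫ snd) ⁻¹' {v} ⊆ O.ι ⁻¹' ((O : Set P) ∩ snd ⁻¹' {v}) := by
    intro u hu
    exact ⟨u.2, hu⟩
  exact (hfin.preimage O.ι.injective.injOn).subset this

theorem finite_fiber_opens' (snd : P ⟶ V) (O : P.Opens) (v : V)
    (hfin : ((O.ι ≫ snd) ⁻¹' {v}).Finite) : ((O : Set P) ∩ snd ⁻¹' {v}).Finite := by
  have : (O : Set P) ∩ snd ⁻¹' {v} ⊆ O.ι '' ((O.ι ≫ snd) ⁻¹' {v}) := by
    rintro p ⟨hp, hpv⟩
    exact ⟨⟨p, hp⟩, hpv, rfl⟩
  exact (hfin.image _).subset this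

/-- base change of the integrals `J`. -/
theorem J_baseChange {P' V' : Scheme.{u}} {snd : P ⟶ V} {snd' : P' ⟶ V'} {q : P' ⟶ P}
    {e : V' ⟶ V} (hc : IsPullback q snd' snd e) [LocallyQuasiFinite snd] (ω : P → ℤ)
    (O : P.Opens) (v' : V') (hfin : ((O : Set P) ∩ snd ⁻¹' {e v'}).Finite) :
    J snd' (ω ∘ q) (q ⁻¹ᵁ O) v' = J snd ω O (e v') ∧
      (((q ⁻¹ᵁ O : P'.Opens) : Set P') ∩ snd' ⁻¹' {v'}).Finite := by
  have hpb : IsPullback (q ∣_ O) ((q ⁻¹ᵁ O).ι ≫ snd') (O.ι ≫ snd) e :=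
    (isPullback_morphismRestrict q O).paste_vert hc
  haveI : LocallyQuasiFinite (O.ι ≫ snd) := inferInstance
  obtain ⟨h1, h2⟩ := fibreIntegral_baseChange (O.ι ≫ snd) ((q ⁻¹ᵁ O).ι ≫ snd') (q ∣_ O) e hpb
    (ω ∘ O.ι) v' (finite_fiber_opens snd O _ hfin)
  refine ⟨?_, finite_fiber_opens' snd' _ v' h2⟩
  unfold J
  rw [← h1]
  congr 1
  funext u
  change ω (q ((q ⁻¹ᵁ O).ι u)) = ω (O.ι ((q ∣_ O) u))
  congr 1
  change ((q ⁻¹ᵁ O).ι ≫ q) u = ((q ∣_ O) ≫ O.ι) u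
  rw [morphismRestrict_ι]

end Groth.Agent.H1.WtJ
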