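import Mathlib

set_option autoImplicit false
universe u

namespace Groth.Agent.H1.PBU

open AlgebraicGeometry CategoryTheory Limits Scheme.Pullback

variable {X Y S : Scheme.{u}} {f : X ⟶ S} {g : Y ⟶ S}

/-- If `κ(g y) → κ(y)` is bijective, then `κ(x) → κ(x) ⊗ κ(y)` is an iso. -/
theorem isIso_tensorInl (T : Triplet f g)
    (h : Function.Bijective (g.residueFieldMap T.y).hom) : IsIso T.tensorInl := by
  haveI : IsIso (g.residueFieldMap T.y) := by
    rw [ConcreteCategory.isIso_iff_bijective]; exact h
  haveI : IsIso ((S.residueFieldCongr T.hy).inv ≫ g.residueFieldMap T.y) := inferInstance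
  unfold Triplet.tensorInl
  exact pushout_inl_iso_of_right_iso _ _

/-- `T.tensor` has a unique prime if `κ(g y) → κ(y)` is bijective. -/
theorem subsingleton_spec_tensor (T : Triplet f g)
    (h : Function.Bijective (g.residueFieldMap T.y).hom) : Subsingleton (Spec T.tensor) := by
  haveI := isIso_tensorInl T h
  have e : Spec T.tensor ≅ Spec (X.residueField T.x) :=
    Scheme.Spec.mapIso (asIso T.tensorInl).op
  exact (Scheme.homeoOfIso e).injective.subsingleton

theorem eq_of_fst_eq_of_snd_eq (t₁ t₂ : ↑(pullback f g))
    (h : Function.Bijective (g.residueFieldMap (pullback.snd f g t₁)).hom)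
    (h1 : pullback.fst f g t₁ = pullback.fst f g t₂)
    (h2 : pullback.snd f g t₁ = pullback.snd f g t₂) : t₁ = t₂ := by
  apply carrierEquiv.injective
  rw [carrierEquiv_eq_iff]
  have e : Triplet.ofPoint t₁ = Triplet.ofPoint t₂ := Triplet.ext h1 h2
  refine ⟨e, ?_⟩
  have : Subsingleton (Spec (Triplet.ofPoint t₂).tensor) := by
    apply subsingleton_spec_tensor
    rw [← e]; exact h
  exact this.elim _ _


/-- canonical map `R → κ_{Spec R}(p)` is surjective when `p` is maximal. -/
theorem exists_hom_fromSpecResidueField (R : CommRingCat.{u}) (p : Spec R) [p.asIdeal.IsMaximal] :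
    ∃ φ : R ⟶ (Spec R).residueField p, Function.Surjective φ.hom ∧
      Spec.map φ = (Spec R).fromSpecResidueField p := by
  refine ⟨CommRingCat.ofHom (algebraMap R p.asIdeal.ResidueField) ≫
    (Scheme.Spec.residueFieldIso R p).inv, ?_, ?_⟩
  · rw [CommRingCat.hom_comp, RingHom.coe_comp]
    refine Function.Surjective.comp ?_ p.asIdeal.algebraMap_residueField_surjective
    exact (ConcreteCategory.bijective_of_isIso (Scheme.Spec.residueFieldIso R p).inv).surjective
  · rw [Spec.map_comp]
    exact Scheme.Spec.map_residueFieldIso_inv_eq_fromSpecResidueField R p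

theorem surjective_ofPointTensor_aux (T : Triplet f g) (p : Spec T.tensor)
    (h : Function.Bijective (g.residueFieldMap T.y).hom) :
    Function.Surjective (ofPointTensor (T.SpecTensorTo p)).hom := by
  haveI := isIso_tensorInl T h
  -- every prime of T.tensor is maximal
  haveI : p.asIdeal.IsMaximal := by
    let e : X.residueField T.x ≃+* T.tensor := (asIso T.tensorInl).commRingCatIsoToRingEquiv
    haveI : IsArtinianRing T.tensor := e.isArtinianRing
    haveI := p.2
    exact IsArtinianRing.isMaximal_of_isPrime p.asIdeal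
  obtain ⟨φ, hφ, hφ'⟩ := exists_hom_fromSpecResidueField T.tensor p
  have key := Triplet.Spec_ofPointTensor_SpecTensorTo T p
  rw [← hφ', ← Spec.map_comp, ← Spec.map_comp, Spec.map_inj] at key
  intro z
  obtain ⟨w, hw⟩ := hφ ((Scheme.Hom.residueFieldMap T.SpecTensorTo p).hom z)
  refine ⟨(Triplet.tensorCongr (T.ofPoint_SpecTensorTo p).symm).hom.hom w, ?_⟩
  apply (Scheme.Hom.residueFieldMap T.SpecTensorTo p).hom.injective
  rw [← hw, ← key]
  rfl

theorem surjective_ofPointTensor (t : ↑(pullback f g))
    (h : Function.Bijective (g.residueFieldMap (pullback.snd f g t)).hom) :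
    Function.Surjective (ofPointTensor t).hom := by
  have := surjective_ofPointTensor_aux (Triplet.ofPoint t) (SpecOfPoint t) h
  rwa [SpecTensorTo_SpecOfPoint] at this

/-- (ii): residue field of a point in a pullback along a residually trivial map. -/
theorem bijective_residueFieldMap_fst (t : ↑(pullback f g))
    (h : Function.Bijective (g.residueFieldMap (pullback.snd f g t)).hom) :
    Function.Bijective ((pullback.fst f g).residueFieldMap t).hom := by
  refine ⟨((pullback.fst f g).residueFieldMap t).hom.injective, ?_⟩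
  haveI := isIso_tensorInl (Triplet.ofPoint t) h
  have h1 : (Triplet.ofPoint t).tensorInl ≫ ofPointTensor t =
      (pullback.fst f g).residueFieldMap t := by
    unfold Triplet.tensorInl ofPointTensor
    exact pushout.inl_desc _ _ _
  rw [← h1]
  intro z
  obtain ⟨w, hw⟩ := surjective_ofPointTensor t h z
  obtain ⟨w', hw'⟩ :=
    (ConcreteCategory.bijective_of_isIso (Triplet.ofPoint t).tensorInl).surjective w
  exact ⟨w', by rw [← hw, ← hw']; rfl⟩


section IsPullback

theorem bij_congr_point {A B : Scheme.{u}} (φ : A ⟶ B) {a a' : A} (e : a = a') :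
    Function.Bijective (φ.residueFieldMap a).hom ↔
      Function.Bijective (φ.residueFieldMap a').hom := by
  subst e; rfl

theorem bij_congr_hom {A B : Scheme.{u}} {φ ψ : A ⟶ B} (e : φ = ψ) (a : A) :
    Function.Bijective (φ.residueFieldMap a).hom ↔
      Function.Bijective (ψ.residueFieldMap a).hom := by
  subst e; rfl

theorem bij_comp_iso {A A' B : Scheme.{u}} (e : A ⟶ A') [IsIso e] (φ : A' ⟶ B) (a : A) :
    Function.Bijective ((e ≫ φ).residueFieldMap a).hom ↔
      Function.Bijective (φ.residueFieldMap (e a)).hom := by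
  have hcomp : ⇑((e ≫ φ).residueFieldMap a).hom =
      ⇑(e.residueFieldMap a).hom ∘ ⇑(φ.residueFieldMap (e a)).hom := by
    rw [Scheme.residueFieldMap_comp]; rfl
  rw [hcomp]
  have hb : Function.Bijective ⇑(e.residueFieldMap a).hom :=
    ConcreteCategory.bijective_of_isIso (e.residueFieldMap a)
  constructor
  · intro h
    exact (Function.Bijective.of_comp_iff' hb _).mp h
  · intro h
    exact hb.comp h

variable {P : Scheme.{u}} {fst : P ⟶ X} {snd : P ⟶ Y}

theorem eq_of_isPullback (H : IsPullback fst snd f g) (t₁ t₂ : P)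
    (h : Function.Bijective (g.residueFieldMap (snd t₁)).hom)
    (h1 : fst t₁ = fst t₂) (h2 : snd t₁ = snd t₂) : t₁ = t₂ := by
  have hf : H.isoPullback.hom ≫ pullback.fst f g = fst := H.isoPullback_hom_fst
  have hs : H.isoPullback.hom ≫ pullback.snd f g = snd := H.isoPullback_hom_snd
  have hinj : Function.Injective H.isoPullback.hom :=
    (Scheme.homeoOfIso H.isoPullback).injective
  have hst : pullback.snd f g (H.isoPullback.hom t₁) = snd t₁ := by
    rw [← Scheme.Hom.comp_apply, hs]
  apply hinj
  apply eq_of_fst_eq_of_snd_eq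
  · exact (bij_congr_point g hst).mpr h
  · rw [← Scheme.Hom.comp_apply, ← Scheme.Hom.comp_apply, hf]; exact h1
  · rw [← Scheme.Hom.comp_apply, ← Scheme.Hom.comp_apply, hs]; exact h2

theorem bijective_residueFieldMap_of_isPullback (H : IsPullback fst snd f g) (t : P)
    (h : Function.Bijective (g.residueFieldMap (snd t)).hom) :
    Function.Bijective (fst.residueFieldMap t).hom := by
  have hf : H.isoPullback.hom ≫ pullback.fst f g = fst := H.isoPullback_hom_fst
  have hs : H.isoPullback.hom ≫ pullback.snd f g = snd := H.isoPullback_hom_snd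
  have hst : pullback.snd f g (H.isoPullback.hom t) = snd t := by
    rw [← Scheme.Hom.comp_apply, hs]
  have h' : Function.Bijective
      (g.residueFieldMap (pullback.snd f g (H.isoPullback.hom t))).hom :=
    (bij_congr_point g hst).mpr h
  have key := bijective_residueFieldMap_fst (H.isoPullback.hom t) h'
  rw [← bij_congr_hom hf, bij_comp_iso]
  exact key

end IsPullback

end Groth.Agent.H1.PBU
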