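import Mathlib
import Groth.Agent.Lib.Helper1.PBU

set_option autoImplicit false
universe u

namespace Groth.Agent.H1.EtLoc

open AlgebraicGeometry CategoryTheory Limits

/-- "residually surjective" property of a ring hom, stated elementwise. -/
def ResSurj {A B : Type u} [CommRing A] [CommRing B] (ψ : A →+* B) : Prop :=
  ∀ b : B, ∃ a : A, ψ a - b ∈ nonunits B

theorem resSurj_respectsIso : RingHom.RespectsIso (fun {A B} [CommRing A] [CommRing B] ψ =>
    @ResSurj A B _ _ ψ) := by
  constructor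
  · intro A B C _ _ _ ψ e h c
    obtain ⟨a, ha⟩ := h (e.symm c)
    refine ⟨a, ?_⟩
    intro hu
    apply ha
    have : ψ a - e.symm c = e.symm (e (ψ a) - c) := by simp
    rw [this]
    exact hu.map e.symm
  · intro A B C _ _ _ ψ e h c
    obtain ⟨a, ha⟩ := h c
    exact ⟨e.symm a, by simpa using ha⟩

theorem surjective_residueMap_iff {A B : Type u} [CommRing A] [CommRing B] [IsLocalRing A]
    [IsLocalRing B] (ψ : A →+* B) [IsLocalHom ψ] :
    Function.Surjective (IsLocalRing.ResidueField.map ψ) ↔ ResSurj ψ := by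
  constructor
  · intro h b
    obtain ⟨z, hz⟩ := h (IsLocalRing.residue B b)
    obtain ⟨a, rfl⟩ := IsLocalRing.residue_surjective z
    refine ⟨a, ?_⟩
    rw [← IsLocalRing.mem_maximalIdeal, ← IsLocalRing.residue_eq_zero_iff, map_sub, ← hz,
      IsLocalRing.ResidueField.map_residue, sub_self]
  · intro h z
    obtain ⟨b, rfl⟩ := IsLocalRing.residue_surjective z
    obtain ⟨a, ha⟩ := h b
    refine ⟨IsLocalRing.residue A a, ?_⟩
    rw [IsLocalRing.ResidueField.map_residue]
    rw [← IsLocalRing.mem_maximalIdeal, ← IsLocalRing.residue_eq_zero_iff, map_sub] at ha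
    exact sub_eq_zero.mp ha

theorem surjective_residueFieldMap_iff {X Y : Scheme.{u}} (f : X ⟶ Y) (x : X) :
    Function.Surjective (f.residueFieldMap x).hom ↔ ResSurj (f.stalkMap x).hom :=
  surjective_residueMap_iff (f.stalkMap x).hom

/-- bridge: residue field map of `Spec.map φ` vs `Ideal.ResidueField.map`. -/
theorem surjective_residueFieldMap_SpecMap_iff {A B : CommRingCat.{u}} (φ : A ⟶ B)
    (q : PrimeSpectrum B) :
    Function.Surjective ((Spec.map φ).residueFieldMap q).hom ↔
      Function.Surjective (Ideal.ResidueField.map (PrimeSpectrum.comap φ.hom q).asIdeal q.asIdeal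
        φ.hom rfl) := by
  refine (surjective_residueFieldMap_iff (Spec.map φ) q).trans ?_
  refine (resSurj_respectsIso.arrow_mk_iso_iff (Scheme.arrowStalkMapSpecIso φ q)).trans ?_
  haveI : IsLocalHom (Localization.localRingHom
    (PrimeSpectrum.comap φ.hom q).asIdeal q.asIdeal φ.hom rfl) :=
    Localization.isLocalHom_localRingHom _ _ _ rfl
  exact (surjective_residueMap_iff (Localization.localRingHom
    (PrimeSpectrum.comap φ.hom q).asIdeal q.asIdeal φ.hom rfl)).symm


theorem surjective_map_congr {A B : Type u} [CommRing A] [CommRing B] (ψ : A →+* B)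
    (J : Ideal B) [J.IsPrime] (I : Ideal A) [I.IsPrime] (hf : I = J.comap ψ) :
    Function.Surjective (Ideal.ResidueField.map I J ψ hf) ↔
      Function.Surjective (Ideal.ResidueField.map (J.comap ψ) J ψ rfl) := by
  subst hf; rfl

theorem surjective_residueFieldMap_comp_openImm {A B C : Scheme.{u}} (φ : A ⟶ B) (j : B ⟶ C)
    [IsOpenImmersion j] (a : A) (h : Function.Surjective (φ.residueFieldMap a).hom) :
    Function.Surjective ((φ ≫ j).residueFieldMap a).hom := by
  have hcomp : ⇑((φ ≫ j).residueFieldMap a).hom =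
      ⇑(φ.residueFieldMap a).hom ∘ ⇑(j.residueFieldMap (φ a)).hom := by
    rw [Scheme.residueFieldMap_comp]; rfl
  rw [hcomp]
  exact h.comp (ConcreteCategory.bijective_of_isIso (j.residueFieldMap (φ a))).surjective

set_option backward.defeqAttrib.useBackward true in
set_option backward.isDefEq.respectTransparency false in
open TensorProduct in
/-- One-point étale localization of a quasi-finite point, keeping all the information. -/
theorem exists_finPart {X S : Scheme.{u}} (f : X ⟶ S) [LocallyOfFiniteType f]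
    {x : X} (hx : f.QuasiFiniteAt x) :
    ∃ (U : Scheme.{u}) (g : U ⟶ S) (u : U), Etale g ∧ g u = f x ∧
      Function.Surjective (g.residueFieldMap u).hom ∧
      ∃ (V : (pullback f g).Opens) (v : ↑(pullback f g)), v ∈ V ∧
        IsFinite (V.ι ≫ pullback.snd f g) ∧
        pullback.snd f g v = u ∧ pullback.fst f g v = x ∧
        ∀ w ∈ V, pullback.snd f g w = u → w = v := by
  obtain ⟨_, ⟨U, hU, rfl⟩, hxU, -⟩ := S.isBasis_affineOpens.exists_subset_of_mem_open
    (Set.mem_univ (f x)) isOpen_univ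
  obtain ⟨_, ⟨V, hV, rfl⟩, hxV, hUV : V ≤ f ⁻¹ᵁ U⟩ :=
    X.isBasis_affineOpens.exists_subset_of_mem_open hxU (f ⁻¹ᵁ U).2
  have : (f.appLE U V hUV).hom.FiniteType := f.finiteType_appLE hU hV hUV
  algebraize [(f.appLE U V hUV).hom]
  have : (hV.primeIdealOf ⟨x, hxV⟩).asIdeal.LiesOver (hU.primeIdealOf ⟨f x, hxU⟩).asIdeal := by
    suffices hU.primeIdealOf ⟨f x, hxU⟩ = Spec.map (f.appLE U V hUV) (hV.primeIdealOf ⟨x, hxV⟩) from
      ⟨congr(($this).1)⟩
    apply hU.isoSpec.inv.homeomorph.injective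
    apply Subtype.ext
    simp only [IsAffineOpen.primeIdealOf, Scheme.Hom.homeomorph_apply,
      ← Scheme.Hom.comp_apply, ← Scheme.Opens.ι_apply, IsAffineOpen.isoSpec_hom]
    simp
  have : Algebra.QuasiFiniteAt Γ(S, U) (hV.primeIdealOf ⟨x, hxV⟩).asIdeal :=
    hx.quasiFiniteAt hV hU hUV hxV
  obtain ⟨R, _, _, _, P, _, _, e, _, P', _, _, hP', heP', hbij, _, huniq⟩ :=
    Algebra.exists_etale_isIdempotentElem_forall_liesOver_eq
    (hU.primeIdealOf ⟨f x, hxU⟩).asIdeal (hV.primeIdealOf ⟨x, hxV⟩).asIdeal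
  have : (algebraMap R (Localization.Away e)).Finite := RingHom.finite_algebraMap.mpr ‹_›
  let φ : Γ(S, U) ⟶ .of R := CommRingCat.ofHom <| algebraMap Γ(S, U) R
  have hφ : φ.hom.Etale := RingHom.etale_algebraMap.mpr ‹_›
  have : Etale (Spec.map φ) := HasRingHomProperty.Spec_iff.mpr hφ
  let e₁ : Spec (.of (R ⊗ Γ(X, V))) ≅ pullback (Spec.map (f.appLE U V hUV)) (Spec.map φ) :=
    (pullbackSpecIso _ _ _).symm ≪≫ pullbackSymmetry _ _
  have he₁ : e₁.hom ≫ pullback.fst _ _ =
      Spec.map (CommRingCat.ofHom Algebra.TensorProduct.includeRight.toRingHom) := by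
    dsimp [e₁, RingHom.algebraMap_toAlgebra]
    rw [Category.assoc, pullbackSymmetry_hom_comp_fst]
    exact pullbackSpecIso_inv_snd ..
  have he₁' : e₁.hom ≫ pullback.snd _ _ =
      Spec.map (CommRingCat.ofHom (algebraMap R (R ⊗[Γ(S, U)] Γ(X, V)))) := by
    dsimp [e₁, RingHom.algebraMap_toAlgebra]
    rw [Category.assoc, pullbackSymmetry_hom_comp_snd]
    exact pullbackSpecIso_inv_fst ..
  let g : Spec (.of (R ⊗[Γ(S, U)] Γ(X, V))) ⟶ pullback f (Spec.map φ ≫ hU.fromSpec) :=
    e₁.hom ≫ pullback.map _ _ _ _ hV.fromSpec (𝟙 _) hU.fromSpec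
      (IsAffineOpen.SpecMap_appLE_fromSpec ..) (by simp)
  have hg_snd : g ≫ pullback.snd f (Spec.map φ ≫ hU.fromSpec) =
      Spec.map (CommRingCat.ofHom (algebraMap R (R ⊗[Γ(S, U)] Γ(X, V)))) := by
    simp only [g, Category.assoc, pullback.map, pullback.lift_snd, Category.comp_id]
    exact he₁'
  have hg_fst : g ≫ pullback.fst f (Spec.map φ ≫ hU.fromSpec) =
      Spec.map (CommRingCat.ofHom Algebra.TensorProduct.includeRight.toRingHom) ≫
        hV.fromSpec := by
    simp only [g, Category.assoc, pullback.map, pullback.lift_fst]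
    rw [reassoc_of% he₁]
  let W₁ := g ''ᵁ PrimeSpectrum.basicOpen e
  have : IsFinite (W₁.ι ≫ pullback.snd f _) := by
    let ι : Spec (.of (Localization.Away e)) ⟶ pullback f (Spec.map φ ≫ hU.fromSpec) :=
      Spec.map (CommRingCat.ofHom <| algebraMap _ _) ≫ g
    have : ι.opensRange = W₁ := by
      simp only [Scheme.Hom.opensRange_comp, ι, W₁]
      congr 1
      exact TopologicalSpace.Opens.ext <| PrimeSpectrum.localization_away_comap_range _ _
    rw [← this, ← MorphismProperty.cancel_left_of_respectsIso @IsFinite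
      (Scheme.Hom.isoOpensRange _).hom]
    have H : (pullbackSpecIso _ R _).inv ≫ pullback.fst _ (Spec.map (f.appLE U V hUV)) = _ :=
      pullbackSpecIso_inv_fst ..
    simpa [Scheme.Hom.isoOpensRange, ι, g, e₁, RingHom.algebraMap_toAlgebra, φ, H,
      ← Spec.map_comp, IsFinite.SpecMap_iff]
  refine ⟨Spec (.of R), Spec.map φ ≫ hU.fromSpec, ⟨P, ‹_›⟩, inferInstance, ?_, ?_,
    W₁, g ⟨P', ‹_›⟩, ?_, ‹_›, ?_, ?_, ?_⟩
  · dsimp [Spec.map_apply]
    convert! hU.fromSpec_primeIdealOf ⟨f x, hxU⟩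
    exact PrimeSpectrum.ext (Ideal.over_def _ _).symm
  · apply surjective_residueFieldMap_comp_openImm
    rw [surjective_residueFieldMap_SpecMap_iff]
    exact (surjective_map_congr φ.hom P (hU.primeIdealOf ⟨f x, hxU⟩).asIdeal
      (P.over_def (hU.primeIdealOf ⟨f x, hxU⟩).asIdeal)).mp hbij.surjective
  · exact ⟨⟨P', ‹_›⟩, heP', rfl⟩
  · rw [← Scheme.Hom.comp_apply, hg_snd]
    exact PrimeSpectrum.ext (Ideal.over_def P' P).symm
  · rw [← Scheme.Hom.comp_apply, hg_fst, Scheme.Hom.comp_apply]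
    trans hV.fromSpec ⟨P'.comap Algebra.TensorProduct.includeRight.toRingHom, inferInstance⟩
    · rfl
    convert! hV.fromSpec_primeIdealOf ⟨x, hxV⟩
  · rintro w ⟨z, hz, rfl⟩ hw
    change (pullback.snd f (Spec.map φ ≫ hU.fromSpec)) (g z) = _ at hw
    change g z = g _
    congr 1
    rw [← Scheme.Hom.comp_apply, hg_snd] at hw
    have h1 : z.asIdeal.LiesOver P := ⟨by
      have := congrArg PrimeSpectrum.asIdeal hw
      exact this.symm⟩
    exact PrimeSpectrum.ext (huniq z.asIdeal z.2 h1 hz)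

end Groth.Agent.H1.EtLoc
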