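import Mathlib
import Groth.Agent.Lib.Helper1.EtLoc1

set_option autoImplicit false
universe u

namespace Groth.Agent.H1.EtLoc

open AlgebraicGeometry CategoryTheory Limits

/-- A "finite part": an open `V` of `P` (which will be `X ×_S U`), finite over `U`, with exactly one
point `v` over `u`, and `v` maps to `x`. -/
structure FinPart {P X U : Scheme.{u}} (fst : P ⟶ X) (snd : P ⟶ U) (u : U) (x : X)
    (V : P.Opens) (v : P) : Prop where
  mem : v ∈ V
  finite : IsFinite (V.ι ≫ snd)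
  snd_eq : snd v = u
  fst_eq : fst v = x
  uniq : ∀ w ∈ V, snd w = u → w = v

/-- An elementary étale neighbourhood. -/
structure ElemNbhd {U S : Scheme.{u}} (g : U ⟶ S) (u : U) (s : S) : Prop where
  etale : Etale g
  eq : g u = s
  bij : Function.Bijective (g.residueFieldMap u).hom

theorem ElemNbhd.id {S : Scheme.{u}} (s : S) : ElemNbhd (𝟙 S) s s where
  etale := inferInstance
  eq := rfl
  bij := by
    rw [Scheme.residueFieldMap_id]
    exact Function.bijective_id

theorem ElemNbhd.comp {U' U S : Scheme.{u}} {h : U' ⟶ U} {g : U ⟶ S} {u' : U'} {u : U} {s : S}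
    (hh : ElemNbhd h u' u) (hg : ElemNbhd g u s) : ElemNbhd (h ≫ g) u' s where
  etale := by
    haveI := hh.etale
    haveI := hg.etale
    infer_instance
  eq := by rw [Scheme.Hom.comp_apply, hh.eq, hg.eq]
  bij := by
    have hcomp : ⇑((h ≫ g).residueFieldMap u').hom =
        ⇑(h.residueFieldMap u').hom ∘ ⇑(g.residueFieldMap (h u')).hom := by
      rw [Scheme.residueFieldMap_comp]; rfl
    rw [hcomp]
    exact hh.bij.comp ((PBU.bij_congr_point g hh.eq).mpr hg.bij)

/-- L1 in span form. -/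
theorem exists_finPart' {X S : Scheme.{u}} (f : X ⟶ S) [LocallyOfFiniteType f]
    {x : X} (hx : f.QuasiFiniteAt x) :
    ∃ (U : Scheme.{u}) (g : U ⟶ S) (u : U), ElemNbhd g u (f x) ∧
      ∃ (V : (pullback f g).Opens) (v : ↑(pullback f g)),
        FinPart (pullback.fst f g) (pullback.snd f g) u x V v := by
  obtain ⟨U, g, u, hg, hgu, hres, V, v, hvV, hfin, hsnd, hfst, huniq⟩ := exists_finPart f hx
  exact ⟨U, g, u, ⟨hg, hgu, ⟨(g.residueFieldMap u).hom.injective, hres⟩⟩, V, v,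
    ⟨hvV, hfin, hsnd, hfst, huniq⟩⟩

/-- L2: refinement along an elementary étale neighbourhood. -/
theorem FinPart.refine {P X U P' U' : Scheme.{u}} {fst : P ⟶ X} {snd : P ⟶ U} {u : U} {x : X}
    {V : P.Opens} {v : P} (H : FinPart fst snd u x V v)
    {c : P' ⟶ P} {snd' : P' ⟶ U'} {h : U' ⟶ U} (sq : IsPullback c snd' snd h)
    {u' : U'} (hh : ElemNbhd h u' u) :
    ∃ v' : P', FinPart (c ≫ fst) snd' u' x (c ⁻¹ᵁ V) v' := by
  obtain ⟨v', hv'1, hv'2⟩ := Scheme.exists_preimage_of_isPullback sq v u'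
    (by rw [H.snd_eq, hh.eq])
  refine ⟨v', ⟨?_, ?_, hv'2, ?_, ?_⟩⟩
  · show c v' ∈ V
    rw [hv'1]; exact H.mem
  · have sq2 : IsPullback (c ∣_ V) ((c ⁻¹ᵁ V).ι ≫ snd') (V.ι ≫ snd) h :=
      (isPullback_morphismRestrict c V).paste_vert sq
    haveI := H.finite
    exact MorphismProperty.of_isPullback (P := @IsFinite) sq2 H.finite
  · rw [Scheme.Hom.comp_apply, hv'1, H.fst_eq]
  · intro w hw hwu
    have h1 : c w = v := by
      apply H.uniq _ hw
      rw [← Scheme.Hom.comp_apply, sq.w, Scheme.Hom.comp_apply, hwu, hh.eq]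
    apply PBU.eq_of_isPullback sq
    · exact (PBU.bij_congr_point h hwu).mpr hh.bij
    · rw [h1, hv'1]
    · rw [hwu, hv'2]


/-- quasi-finiteness at a point is stable under base change (chosen pullback). -/
theorem quasiFiniteAt_snd {X Y S : Scheme.{u}} (f : X ⟶ S) [LocallyOfFiniteType f] (g : Y ⟶ S)
    (t : ↑(pullback f g)) (hq : f.QuasiFiniteAt (pullback.fst f g t)) :
    (pullback.snd f g).QuasiFiniteAt t := by
  let W := f.quasiFiniteLocus
  let j : pullback (W.ι ≫ f) g ⟶ pullback f g :=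
    pullback.map (W.ι ≫ f) g f g W.ι (𝟙 Y) (𝟙 S) (by simp) (by simp)
  have hj_snd : j ≫ pullback.snd f g = pullback.snd (W.ι ≫ f) g := by
    simp only [j, pullback.map, pullback.lift_snd, Category.comp_id]
  have hj_fst : j ≫ pullback.fst f g = pullback.fst (W.ι ≫ f) g ≫ W.ι := by
    simp only [j, pullback.map, pullback.lift_fst]
  have sq : IsPullback j (pullback.fst (W.ι ≫ f) g) (pullback.fst f g) W.ι := by
    refine IsPullback.of_right (h₁₂ := pullback.snd f g) (h₂₂ := f) (v₁₃ := g) ?_ hj_fst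
      (IsPullback.of_hasPullback f g).flip
    rw [hj_snd]
    exact (IsPullback.of_hasPullback (W.ι ≫ f) g).flip
  obtain ⟨t₀, ht₀, -⟩ := Scheme.exists_preimage_of_isPullback sq t ⟨_, hq⟩ rfl
  have h1 : (pullback.snd (W.ι ≫ f) g).QuasiFiniteAt t₀ := Scheme.Hom.quasiFiniteAt _ t₀
  rw [← hj_snd, Scheme.Hom.quasiFiniteAt_comp_iff_of_isOpenImmersion, ht₀] at h1
  exact h1

/-- quasi-finiteness at a point is stable under base change (any pullback square). -/
theorem quasiFiniteAt_of_isPullback {P X Y S : Scheme.{u}} {f : X ⟶ S} [LocallyOfFiniteType f]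
    {g : Y ⟶ S} {fst : P ⟶ X} {snd : P ⟶ Y} (sq : IsPullback fst snd f g)
    (t : P) (hq : f.QuasiFiniteAt (fst t)) : snd.QuasiFiniteAt t := by
  have hf : sq.isoPullback.hom ≫ pullback.fst f g = fst := sq.isoPullback_hom_fst
  have hs : sq.isoPullback.hom ≫ pullback.snd f g = snd := sq.isoPullback_hom_snd
  rw [← hs, Scheme.Hom.quasiFiniteAt_comp_iff_of_isOpenImmersion]
  apply quasiFiniteAt_snd
  rw [← Scheme.Hom.comp_apply, hf]
  exact hq

theorem locallyOfFiniteType_of_isPullback {P X Y S : Scheme.{u}} {f : X ⟶ S}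
    [LocallyOfFiniteType f]
    {g : Y ⟶ S} {fst : P ⟶ X} {snd : P ⟶ Y} (sq : IsPullback fst snd f g) :
    LocallyOfFiniteType snd :=
  MorphismProperty.of_isPullback (P := @LocallyOfFiniteType) sq inferInstance

/-- The multi-point statement, as a predicate on the index type. -/
def MultiStmt (ι : Type) : Prop :=
  ∀ {X S : Scheme.{u}} (f : X ⟶ S) [LocallyOfFiniteType f] (s : S) (x : ι → X),
    (∀ i, f (x i) = s) → (∀ i, f.QuasiFiniteAt (x i)) →
    ∃ (U : Scheme.{u}) (g : U ⟶ S) (u : U), ElemNbhd g u s ∧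
      ∃ (P : Scheme.{u}) (fst : P ⟶ X) (snd : P ⟶ U), IsPullback fst snd f g ∧
        ∀ i, ∃ (V : P.Opens) (v : P), FinPart fst snd u (x i) V v

theorem multiStmt_empty : MultiStmt.{u} PEmpty := by
  intro X S f _ s x _ _
  exact ⟨S, 𝟙 S, s, ElemNbhd.id s, X, 𝟙 X, f, IsPullback.of_horiz_isIso ⟨by simp⟩,
    fun i => i.elim⟩

theorem multiStmt_equiv {α β : Type} (e : α ≃ β) (h : MultiStmt.{u} α) : MultiStmt.{u} β := by
  intro X S f _ s x hs hx
  obtain ⟨U, g, u, hg, P, fst, snd, sq, H⟩ := h f s (x ∘ e) (fun i => hs _) (fun i => hx _)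
  refine ⟨U, g, u, hg, P, fst, snd, sq, fun i => ?_⟩
  obtain ⟨V, v, hV⟩ := H (e.symm i)
  refine ⟨V, v, ?_⟩
  simpa using hV

theorem multiStmt_option {α : Type} (h : MultiStmt.{u} α) : MultiStmt.{u} (Option α) := by
  intro X S f _ s x hs hx
  -- first point
  obtain ⟨U₁, g₁, u₁, hg₁, V₀, v₀, H₀⟩ := exists_finPart' f (hx none)
  rw [hs none] at hg₁
  -- lift the other points
  have hlift : ∀ i : α, ∃ t : ↑(pullback f g₁), pullback.fst f g₁ t = x (some i) ∧
      pullback.snd f g₁ t = u₁ := fun i =>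
    Scheme.Pullback.exists_preimage_pullback (x (some i)) u₁ (by rw [hs, hg₁.eq])
  choose x' hx'1 hx'2 using hlift
  haveI : LocallyOfFiniteType (pullback.snd f g₁) := inferInstance
  obtain ⟨U₂, h₂, u₂, hh₂, P₂, fst₂, snd₂, sq₂, H₂⟩ := h (pullback.snd f g₁) u₁ x' hx'2
    (fun i => quasiFiniteAt_snd f g₁ (x' i) (by rw [hx'1]; exact hx _))
  refine ⟨U₂, h₂ ≫ g₁, u₂, hh₂.comp hg₁, P₂, fst₂ ≫ pullback.fst f g₁, snd₂,
    sq₂.paste_horiz (IsPullback.of_hasPullback f g₁), ?_⟩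
  rintro (_ | i)
  · obtain ⟨v', hv'⟩ := H₀.refine sq₂ hh₂
    exact ⟨_, v', hv'⟩
  · obtain ⟨V, v, hV⟩ := H₂ i
    refine ⟨V, v, ⟨hV.mem, hV.finite, hV.snd_eq, ?_, hV.uniq⟩⟩
    rw [Scheme.Hom.comp_apply, hV.fst_eq, hx'1]

theorem multiStmt (ι : Type) [Finite ι] : MultiStmt.{u} ι :=
  Finite.induction_empty_option (P := MultiStmt.{u}) (fun e h => multiStmt_equiv e h)
    multiStmt_empty (fun h => multiStmt_option h) ι

/-- transport a `FinPart` along an isomorphism of the total space. -/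
theorem FinPart.of_iso {P P' X U : Scheme.{u}} {fst : P ⟶ X} {snd : P ⟶ U} {u : U} {x : X}
    {V : P.Opens} {v : P} (H : FinPart fst snd u x V v) (e : P' ≅ P) :
    FinPart (e.hom ≫ fst) (e.hom ≫ snd) u x (e.hom ⁻¹ᵁ V) (e.inv v) := by
  have hev : e.hom (e.inv v) = v := by
    rw [← Scheme.Hom.comp_apply, e.inv_hom_id]; rfl
  refine ⟨?_, ?_, ?_, ?_, ?_⟩
  · show e.hom (e.inv v) ∈ V
    rw [hev]; exact H.mem
  · have h1 : (e.hom ⁻¹ᵁ V).ι ≫ e.hom ≫ snd = (e.hom ∣_ V) ≫ V.ι ≫ snd := by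
      rw [← Category.assoc, ← Category.assoc, morphismRestrict_ι]
    rw [h1]
    haveI := H.finite
    infer_instance
  · rw [Scheme.Hom.comp_apply, hev, H.snd_eq]
  · rw [Scheme.Hom.comp_apply, hev, H.fst_eq]
  · intro w hw hwu
    have : e.hom w = v := H.uniq _ hw (by rw [← Scheme.Hom.comp_apply]; exact hwu)
    rw [← this, ← Scheme.Hom.comp_apply, e.hom_inv_id]; rfl

/-- The multi-point statement for the chosen pullback. -/
theorem exists_finPart_multi {X S : Scheme.{u}} (f : X ⟶ S) [LocallyOfFiniteType f] (s : S)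
    {ι : Type} [Finite ι] (x : ι → X) (hs : ∀ i, f (x i) = s) (hx : ∀ i, f.QuasiFiniteAt (x i)) :
    ∃ (U : Scheme.{u}) (g : U ⟶ S) (u : U), ElemNbhd g u s ∧
      ∀ i, ∃ (V : (pullback f g).Opens) (v : ↑(pullback f g)),
        FinPart (pullback.fst f g) (pullback.snd f g) u (x i) V v := by
  obtain ⟨U, g, u, hg, P, fst, snd, sq, H⟩ := multiStmt ι f s x hs hx
  refine ⟨U, g, u, hg, fun i => ?_⟩
  obtain ⟨V, v, hV⟩ := H i
  have := hV.of_iso sq.isoPullback.symm
  simp only [Iso.symm_hom, IsPullback.isoPullback_inv_fst, IsPullback.isoPullback_inv_snd] at this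
  exact ⟨_, _, this⟩

end Groth.Agent.H1.EtLoc
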