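import Mathlib
import Groth.Agent.Lib.Helper1.EtLoc2

set_option autoImplicit false
universe u

namespace Groth.Agent.H1.EtLoc

open AlgebraicGeometry CategoryTheory Limits

/-- union of two opens finite over the base is finite over the base (separated case). -/
theorem isFinite_sup {P Y : Scheme.{u}} (q : P ⟶ Y) [IsSeparated q] [LocallyOfFiniteType q]
    (V₁ V₂ : P.Opens) (h₁ : IsFinite (V₁.ι ≫ q)) (h₂ : IsFinite (V₂.ι ≫ q)) :
    IsFinite ((V₁ ⊔ V₂).ι ≫ q) := by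
  let j₁ : (V₁ : Scheme.{u}) ⟶ ↑(V₁ ⊔ V₂) := P.homOfLE le_sup_left
  let j₂ : (V₂ : Scheme.{u}) ⟶ ↑(V₁ ⊔ V₂) := P.homOfLE le_sup_right
  let φ : (V₁ : Scheme.{u}) ⨿ (V₂ : Scheme.{u}) ⟶ ↑(V₁ ⊔ V₂) := coprod.desc j₁ j₂
  have hφ : φ ≫ (V₁ ⊔ V₂).ι ≫ q = coprod.desc (V₁.ι ≫ q) (V₂.ι ≫ q) := by
    apply coprod.hom_ext <;> simp [φ, j₁, j₂]
  haveI : IsFinite (φ ≫ (V₁ ⊔ V₂).ι ≫ q) := by rw [hφ]; infer_instance
  haveI : Surjective φ := by
    constructor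
    rintro ⟨w, hw⟩
    rcases hw with hw | hw
    · let z : ↥(V₁ : Scheme.{u}) := ⟨w, hw⟩
      refine ⟨(coprod.inl : (V₁ : Scheme.{u}) ⟶ (V₁ : Scheme.{u}) ⨿ (V₂ : Scheme.{u})) z, ?_⟩
      have : ((coprod.inl : (V₁ : Scheme.{u}) ⟶ (V₁ : Scheme.{u}) ⨿ (V₂ : Scheme.{u})) ≫ φ) z =
          ⟨w, Or.inl hw⟩ := by
        rw [coprod.inl_desc]; exact Scheme.homOfLE_apply' _ _ _
      rw [Scheme.Hom.comp_apply] at this
      exact this
    · let z : ↥(V₂ : Scheme.{u}) := ⟨w, hw⟩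
      refine ⟨(coprod.inr : (V₂ : Scheme.{u}) ⟶ (V₁ : Scheme.{u}) ⨿ (V₂ : Scheme.{u})) z, ?_⟩
      have : ((coprod.inr : (V₂ : Scheme.{u}) ⟶ (V₁ : Scheme.{u}) ⨿ (V₂ : Scheme.{u})) ≫ φ) z =
          ⟨w, Or.inr hw⟩ := by
        rw [coprod.inr_desc]; exact Scheme.homOfLE_apply' _ _ _
      rw [Scheme.Hom.comp_apply] at this
      exact this
  haveI : UniversallyClosed ((V₁ ⊔ V₂).ι ≫ q) := .of_comp_surjective φ _
  haveI : IsProper ((V₁ ⊔ V₂).ι ≫ q) := {}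
  haveI : LocallyQuasiFinite ((V₁ ⊔ V₂).ι ≫ q) := by
    rw [← Scheme.Hom.quasiFiniteLocus_eq_top_iff]
    ext w
    simp only [Scheme.Hom.mem_quasiFiniteLocus, TopologicalSpace.Opens.coe_top, Set.mem_univ,
      iff_true, SetLike.mem_coe]
    obtain ⟨w, hw⟩ := w
    rcases hw with hw | hw
    · let z : ↥(V₁ : Scheme.{u}) := ⟨w, hw⟩
      have : (j₁ ≫ (V₁ ⊔ V₂).ι ≫ q).QuasiFiniteAt z := by
        have e : j₁ ≫ (V₁ ⊔ V₂).ι ≫ q = V₁.ι ≫ q := by simp [j₁]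
        rw [e]
        exact Scheme.Hom.quasiFiniteAt _ _
      have h2 := (Scheme.Hom.quasiFiniteAt_comp_iff_of_isOpenImmersion (f := j₁)
        (g := (V₁ ⊔ V₂).ι ≫ q) (x := z)).mp this
      have h3 : j₁ z = ⟨w, Or.inl hw⟩ := Scheme.homOfLE_apply' _ _ _
      rwa [h3] at h2
    · let z : ↥(V₂ : Scheme.{u}) := ⟨w, hw⟩
      have : (j₂ ≫ (V₁ ⊔ V₂).ι ≫ q).QuasiFiniteAt z := by
        have e : j₂ ≫ (V₁ ⊔ V₂).ι ≫ q = V₂.ι ≫ q := by simp [j₂]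
        rw [e]
        exact Scheme.Hom.quasiFiniteAt _ _
      have h2 := (Scheme.Hom.quasiFiniteAt_comp_iff_of_isOpenImmersion (f := j₂)
        (g := (V₁ ⊔ V₂).ι ≫ q) (x := z)).mp this
      have h3 : j₂ z = ⟨w, Or.inr hw⟩ := Scheme.homOfLE_apply' _ _ _
      rwa [h3] at h2
  exact IsFinite.of_isProper_of_locallyQuasiFinite _

theorem isFinite_bot {P Y : Scheme.{u}} (q : P ⟶ Y) : IsFinite ((⊥ : P.Opens).ι ≫ q) := by
  haveI : IsEmpty ↥((⊥ : P.Opens) : Scheme.{u}) := ⟨fun x => x.2.elim⟩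
  infer_instance

theorem isFinite_iSup {P Y : Scheme.{u}} (q : P ⟶ Y) [IsSeparated q] [LocallyOfFiniteType q]
    {ι : Type*} [Finite ι] (V : ι → P.Opens) (h : ∀ i, IsFinite ((V i).ι ≫ q)) :
    IsFinite ((⨆ i, V i).ι ≫ q) := by
  haveI := Fintype.ofFinite ι
  rw [← Finset.sup_univ_eq_iSup]
  exact Finset.sup_induction (p := fun W : P.Opens => IsFinite (W.ι ≫ q)) (isFinite_bot q)
    (fun a ha b hb => isFinite_sup q a b ha hb) (fun i _ => h i)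

/-- a `FinPart` of a separated morphism is closed. -/
theorem FinPart.isClosed {P X U : Scheme.{u}} {fst : P ⟶ X} {snd : P ⟶ U} [IsSeparated snd]
    {u : U} {x : X} {V : P.Opens} {v : P} (H : FinPart fst snd u x V v) :
    IsClosed (V : Set P) := by
  haveI := H.finite
  have : IsFinite V.ι := .of_comp _ snd
  simpa using V.ι.isClosedMap.isClosed_range

end Groth.Agent.H1.EtLoc
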