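import Mathlib

set_option autoImplicit false
universe u

namespace Groth.Agent.H1.EtRoot

open Polynomial

/-- Ring-level root lemma: if `K` is "the residue field" of `R` via `ev`, and `m̄` is a monic separable
polynomial over `K`, there is an étale `R`-algebra `R'` with a prime `P` over `ker ev` such that in
every field `L` receiving compatible maps from `R'` and `K`, `m̄` has a root. -/
theorem exists_etale_root {R : Type u} [CommRing R] {K : Type u} [Field K] (ev : R →+* K)
    (hK : ∀ z : K, ∃ a b : R, ev b ≠ 0 ∧ z * ev b = ev a)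
    (m : K[X]) (hm : m.Monic) (hsep : m.Separable) (hdeg : m.natDegree ≠ 0) :
    ∃ (R' : Type u) (_ : CommRing R') (_ : Algebra R R') (_ : Algebra.Etale R R') (P : Ideal R')
      (_ : P.IsPrime), P.comap (algebraMap R R') = RingHom.ker ev ∧
      ∀ (L : Type u) [Field L] (ev' : R' →+* L) (σ : K →+* L),
        σ.comp ev = ev'.comp (algebraMap R R') → ∃ θ : L, (m.map σ).eval θ = 0 := by
  classical
  -- common denominator
  have hden : ∃ b : R, ev b ≠ 0 ∧ ∀ i, ∃ a : R, m.coeff i * ev b = ev a := by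
    have key : ∀ s : Finset ℕ, ∃ b : R, ev b ≠ 0 ∧ ∀ i ∈ s, ∃ a : R, m.coeff i * ev b = ev a := by
      intro s
      induction s using Finset.induction_on with
      | empty => exact ⟨1, by simp, by simp⟩
      | insert j s hj ih =>
        obtain ⟨b, hb, H⟩ := ih
        obtain ⟨a', b', hb', hab'⟩ := hK (m.coeff j)
        refine ⟨b * b', by rw [map_mul]; exact mul_ne_zero hb hb', ?_⟩
        intro i hi
        rw [Finset.mem_insert] at hi
        rcases hi with rfl | hi
        · exact ⟨b * a', by rw [map_mul, map_mul, ← hab']; ring⟩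
        · obtain ⟨a, ha⟩ := H i hi
          exact ⟨a * b', by rw [map_mul, map_mul, ← ha]; ring⟩
    obtain ⟨b, hb, H⟩ := key m.support
    refine ⟨b, hb, fun i => ?_⟩
    by_cases hi : i ∈ m.support
    · exact H i hi
    · rw [Polynomial.notMem_support_iff.mp hi]
      exact ⟨0, by simp⟩
  obtain ⟨b, hb, Hb⟩ := hden
  -- the scaled polynomial lifts
  have hlifts : scaleRoots m (ev b) ∈ lifts ev := by
    rw [lifts_iff_coeff_lifts]
    intro i
    rw [coeff_scaleRoots]
    rcases lt_trichotomy i m.natDegree with hi | hi | hi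
    · obtain ⟨a, ha⟩ := Hb i
      obtain ⟨k, hk⟩ : ∃ k, m.natDegree - i = k + 1 := ⟨m.natDegree - i - 1, by omega⟩
      refine ⟨a * b ^ k, ?_⟩
      rw [hk, pow_succ, map_mul, map_pow, ← ha]
      ring
    · subst hi
      refine ⟨1, ?_⟩
      rw [hm.coeff_natDegree]; simp
    · refine ⟨0, ?_⟩
      rw [coeff_eq_zero_of_natDegree_lt hi]; simp
  have hm' : (scaleRoots m (ev b)).Monic := (monic_scaleRoots_iff _).mpr hm
  obtain ⟨q, hq, hqdeg, hqm⟩ := lifts_and_natDegree_eq_and_monic hlifts hm'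
  -- the standard etale pair
  let Pair : StandardEtalePair R := ⟨q, hqm, derivative q, ⟨1, 0, 1, by ring⟩⟩
  -- a root in the algebraic closure
  let Ω := AlgebraicClosure K
  let ι : K →+* Ω := algebraMap K Ω
  have hdegΩ : (m.map ι).degree ≠ 0 := by
    rw [degree_map]
    intro h
    exact hdeg (natDegree_eq_zero_iff_degree_le_zero.mpr (le_of_eq h))
  obtain ⟨θ₀, hθ₀⟩ := IsAlgClosed.exists_root (m.map ι) hdegΩ
  let θ' : Ω := ι (ev b) * θ₀
  letI algΩ : Algebra R Ω := (ι.comp ev).toAlgebra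
  have hqΩ : q.map (algebraMap R Ω) = scaleRoots (m.map ι) (ι (ev b)) := by
    have : algebraMap R Ω = ι.comp ev := rfl
    rw [this, ← Polynomial.map_map, hq, map_scaleRoots]
    rw [hm.leadingCoeff, map_one]; exact one_ne_zero
  have hroot : aeval θ' q = 0 := by
    rw [aeval_def, eval₂_eq_eval_map, hqΩ]
    have := scaleRoots_eval_mul (m.map ι) θ₀ (ι (ev b))
    rw [this, hθ₀.eq_zero, mul_zero]
  have hbΩ : ι (ev b) ≠ 0 := by
    rw [Ne, map_eq_zero]; exact hb
  have hder : aeval θ' (derivative q) ≠ 0 := by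
    rw [aeval_def, eval₂_eq_eval_map, ← derivative_map, hqΩ]
    intro h0
    have hsepΩ : (m.map ι).Separable := hsep.map
    have hne : scaleRoots (m.map ι) (ι (ev b)) ≠ 0 :=
      scaleRoots_ne_zero (hm.map ι).ne_zero _
    have h1 : 1 < rootMultiplicity θ' (scaleRoots (m.map ι) (ι (ev b))) := by
      rw [one_lt_rootMultiplicity_iff_isRoot hne]
      refine ⟨?_, h0⟩
      rw [IsRoot, ← hqΩ, ← eval₂_eq_eval_map, ← aeval_def]
      exact hroot
    have h2 : rootMultiplicity θ' (scaleRoots (m.map ι) (ι (ev b))) =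
        rootMultiplicity θ₀ (m.map ι) :=
      rootMultiplicity_scaleRoots _ (IsUnit.mk0 _ hbΩ).isRegular.left
    have h3 := rootMultiplicity_le_one_of_separable hsepΩ θ₀
    omega
  have hmap : Pair.HasMap θ' := ⟨hroot, isUnit_iff_ne_zero.mpr hder⟩
  let ψ : Pair.Ring →ₐ[R] Ω := Pair.lift θ' hmap
  refine ⟨Pair.Ring, inferInstance, inferInstance, inferInstance, RingHom.ker ψ.toRingHom,
    RingHom.ker_isPrime _, ?_, ?_⟩
  · ext r
    simp only [Ideal.mem_comap, RingHom.mem_ker, AlgHom.toRingHom_eq_coe, RingHom.coe_coe,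
      AlgHom.commutes]
    change ι (ev r) = 0 ↔ ev r = 0
    exact map_eq_zero ι
  · intro L _ ev' σ hcompat
    have hσb : σ (ev b) ≠ 0 := by rw [Ne, map_eq_zero]; exact hb
    refine ⟨ev' Pair.X / σ (ev b), ?_⟩
    have h1 : (scaleRoots (m.map σ) (σ (ev b))).eval (ev' Pair.X) = 0 := by
      rw [← map_scaleRoots _ _ _ (by rw [hm.leadingCoeff, map_one]; exact one_ne_zero), ← hq,
        Polynomial.map_map, hcompat, ← Polynomial.map_map, eval_map, eval₂_map, ← hom_eval₂]
      have : eval₂ (algebraMap R Pair.Ring) Pair.X q = 0 := by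
        rw [← aeval_def]; exact Pair.hasMap_X.1
      rw [this, map_zero]
    have h2 := scaleRoots_eval_mul (m.map σ) (ev' Pair.X / σ (ev b)) (σ (ev b))
    rw [mul_div_cancel₀ _ hσb, h1] at h2
    have h3 : σ (ev b) ^ (m.map σ).natDegree ≠ 0 := pow_ne_zero _ hσb
    exact (mul_eq_zero.mp h2.symm).resolve_left h3

end Groth.Agent.H1.EtRoot
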