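import Mathlib
import Groth.Agent.Lib.Helper1.PBU

set_option autoImplicit false
universe u

namespace Groth.Agent.H1.PISplit

open AlgebraicGeometry CategoryTheory Limits Scheme.Pullback

/-! ### Abstract field lemmas -/

section Abstract

variable {K L A : Type u} [Field K] [Field L] [CommRing A]

/-- If `A` is a finite `K`-algebra and `ψ : A → L` has "fraction-dense" image in the field `L`,
then `ψ` is surjective and `L` is finite over `K`. -/
theorem surjective_of_frac (inr : K →+* A) (ψ : A →+* L) (hfin : inr.Finite)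
    (hfrac : ∀ z : L, ∃ a b : A, ψ b ≠ 0 ∧ z * ψ b = ψ a) :
    Function.Surjective ψ ∧ (ψ.comp inr).Finite := by
  letI : Algebra K A := inr.toAlgebra
  letI : Algebra K L := (ψ.comp inr).toAlgebra
  haveI : Module.Finite K A := hfin
  let ψ' : A →ₐ[K] L := { ψ with commutes' := fun c => rfl }
  let R' : Subalgebra K L := ψ'.range
  haveI : Module.Finite K R' := Module.Finite.range ψ'.toLinearMap
  haveI : Algebra.IsIntegral K R' := Algebra.IsIntegral.of_finite K R'
  have hfield : IsField R' := isField_of_isIntegral_of_isField' (Field.toIsField K)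
  have hsurj : Function.Surjective ψ := by
    intro z
    obtain ⟨a, b, hb, hab⟩ := hfrac z
    have hb' : (⟨ψ b, ⟨b, rfl⟩⟩ : R') ≠ 0 := by
      intro h
      apply hb
      exact congrArg Subtype.val h
    obtain ⟨c, hc⟩ := hfield.mul_inv_cancel hb'
    obtain ⟨c0, hc0⟩ := c.2
    have hc1 : ψ b * ψ c0 = 1 := by
      have h1 : ψ b * (c : L) = 1 := congrArg Subtype.val hc
      rw [← hc0] at h1
      exact h1
    refine ⟨a * c0, ?_⟩
    rw [map_mul, ← hab, mul_assoc, hc1, mul_one]
  refine ⟨hsurj, ?_⟩
  exact Module.Finite.of_surjective ψ'.toLinearMap hsurj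

/-- If moreover `A` is generated by the images of `E` and `K` and each element of `E` has a
`q^n`-th power in `K` (inside `L`), then `L / K` is purely inseparable. -/
theorem isPurelyInseparable_of_gen {E : Type u} [Field E] (inl : E →+* A) (inr : K →+* A)
    (ψ : A →+* L)
    (hgen : Subring.closure (Set.range inl ∪ Set.range inr) = ⊤)
    (hsurj : Function.Surjective ψ) (q : ℕ) [ExpChar K q]
    (hpow : ∀ e : E, ∃ n : ℕ, ψ (inl e) ^ q ^ n ∈ (ψ.comp inr).range) :
    letI := (ψ.comp inr).toAlgebra
    IsPurelyInseparable K L := by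
  letI : Algebra K L := (ψ.comp inr).toAlgebra
  rw [isPurelyInseparable_iff_perfectClosure_eq_top, eq_top_iff]
  have hle : Subring.closure (Set.range inl ∪ Set.range inr) ≤
      (perfectClosure K L).toSubring.comap ψ := by
    rw [Subring.closure_le]
    rintro x (⟨e, rfl⟩ | ⟨k, rfl⟩)
    · change ψ (inl e) ∈ perfectClosure K L
      rw [mem_perfectClosure_iff_pow_mem q]
      exact hpow e
    · change ψ (inr k) ∈ perfectClosure K L
      exact (perfectClosure K L).algebraMap_mem k
  intro z _
  obtain ⟨a0, rfl⟩ := hsurj z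
  have : a0 ∈ Subring.closure (Set.range inl ∪ Set.range inr) := by rw [hgen]; trivial
  exact hle this

end Abstract

/-! ### Triplets -/

variable {X Y S : Scheme.{u}} {f : X ⟶ S} {g : Y ⟶ S}

/-- the structure map `κ(s) ⟶ κ(x)` of a triplet. -/
noncomputable abbrev resX (T : Triplet f g) : S.residueField T.s ⟶ X.residueField T.x :=
  (S.residueFieldCongr T.hx).inv ≫ f.residueFieldMap T.x

/-- the structure map `κ(s) ⟶ κ(y)` of a triplet. -/
noncomputable abbrev resY (T : Triplet f g) : S.residueField T.s ⟶ Y.residueField T.y :=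
  (S.residueFieldCongr T.hy).inv ≫ g.residueFieldMap T.y

theorem closure_range_eq_top (T : Triplet f g) :
    Subring.closure (Set.range T.tensorInl.hom ∪ Set.range T.tensorInr.hom) = ⊤ := by
  set S' : Subring T.tensor :=
    Subring.closure (Set.range T.tensorInl.hom ∪ Set.range T.tensorInr.hom) with hS'
  let inl' : X.residueField T.x ⟶ CommRingCat.of S' :=
    CommRingCat.ofHom (T.tensorInl.hom.codRestrict S' (fun e =>
      Subring.subset_closure (Or.inl ⟨e, rfl⟩)))
  let inr' : Y.residueField T.y ⟶ CommRingCat.of S' :=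
    CommRingCat.ofHom (T.tensorInr.hom.codRestrict S' (fun e =>
      Subring.subset_closure (Or.inr ⟨e, rfl⟩)))
  let incl : CommRingCat.of S' ⟶ T.tensor := CommRingCat.ofHom S'.subtype
  have h1 : inl' ≫ incl = T.tensorInl := by ext; rfl
  have h2 : inr' ≫ incl = T.tensorInr := by ext; rfl
  have hcomm : resX T ≫ inl' = resY T ≫ inr' := by
    haveI : Mono incl := ConcreteCategory.mono_of_injective _ Subtype.val_injective
    rw [← cancel_mono incl]
    calc (resX T ≫ inl') ≫ incl = resX T ≫ T.tensorInl := by
          rw [Category.assoc (resX T) inl' incl, h1]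
      _ = resY T ≫ T.tensorInr := pushout.condition
      _ = (resY T ≫ inr') ≫ incl := by rw [Category.assoc (resY T) inr' incl, h2]
  let d : T.tensor ⟶ CommRingCat.of S' := pushout.desc inl' inr' hcomm
  have hdl : T.tensorInl ≫ d = inl' := pushout.inl_desc _ _ _
  have hdr : T.tensorInr ≫ d = inr' := pushout.inr_desc _ _ _
  have hd : d ≫ incl = 𝟙 _ := by
    apply pushout.hom_ext
    · change T.tensorInl ≫ d ≫ incl = T.tensorInl ≫ 𝟙 _
      rw [← Category.assoc, hdl, h1, Category.comp_id]
    · change T.tensorInr ≫ d ≫ incl = T.tensorInr ≫ 𝟙 _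
      rw [← Category.assoc, hdr, h2, Category.comp_id]
  rw [eq_top_iff]
  intro a _
  have : a = incl.hom (d.hom a) := by
    change a = (d ≫ incl).hom a
    rw [hd]; rfl
  rw [this]
  exact (d.hom a).2

theorem finite_pushout_inr {R A B : CommRingCat.{u}} (φ : R ⟶ A) (ψ : R ⟶ B)
    (h : φ.hom.Finite) : (pushout.inr φ ψ).hom.Finite := by
  have h1 : (pushout.inl ψ φ).hom.Finite :=
    RingHom.finite_isStableUnderBaseChange.pushout_inl RingHom.finite_respectsIso ψ φ h
  have h2 : pushout.inr φ ψ = pushout.inl ψ φ ≫ (pushoutSymmetry ψ φ).hom :=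
    (inl_comp_pushoutSymmetry_hom ψ φ).symm
  rw [h2, CommRingCat.hom_comp]
  exact (RingHom.finite_respectsIso.cancel_right_isIso _ (pushoutSymmetry ψ φ).hom).mpr h1

theorem finite_tensorInr (T : Triplet f g) (h : (resX T).hom.Finite) :
    T.tensorInr.hom.Finite :=
  finite_pushout_inr _ _ h

theorem finite_spec_tensor (T : Triplet f g) (h : (resX T).hom.Finite) :
    Finite (Spec T.tensor) := by
  have h' := finite_tensorInr T h
  letI : Algebra (Y.residueField T.y) T.tensor := T.tensorInr.hom.toAlgebra
  haveI : Module.Finite (Y.residueField T.y) T.tensor := h'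
  haveI : IsArtinianRing T.tensor := IsArtinianRing.of_finite (Y.residueField T.y) T.tensor
  change Finite (PrimeSpectrum T.tensor)
  infer_instance

theorem frac_residueField {R : Type u} [CommRing R] (I : Ideal R) [I.IsPrime]
    (w : I.ResidueField) :
    ∃ a b : R, algebraMap R I.ResidueField b ≠ 0 ∧
      w * algebraMap R I.ResidueField b = algebraMap R I.ResidueField a := by
  obtain ⟨w0, rfl⟩ := IsLocalRing.residue_surjective w
  obtain ⟨a, s, rfl⟩ := IsLocalization.exists_mk'_eq I.primeCompl w0
  refine ⟨a, s.1, ?_, ?_⟩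
  · rw [Ne, Ideal.algebraMap_residueField_eq_zero]
    exact s.2
  · rw [IsScalarTower.algebraMap_apply R (Localization.AtPrime I) I.ResidueField,
      IsScalarTower.algebraMap_apply R (Localization.AtPrime I) I.ResidueField]
    change IsLocalRing.residue _ _ * IsLocalRing.residue _ _ = IsLocalRing.residue _ _
    rw [← map_mul, IsLocalization.mk'_spec]

theorem exists_hom_frac (R : CommRingCat.{u}) (p : Spec R) :
    ∃ φ : R ⟶ (Spec R).residueField p, Spec.map φ = (Spec R).fromSpecResidueField p ∧
      RingHom.ker φ.hom = p.asIdeal ∧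
      ∀ w : (Spec R).residueField p, ∃ a b : R, φ.hom b ≠ 0 ∧ w * φ.hom b = φ.hom a := by
  haveI : p.asIdeal.IsPrime := p.2
  have hinj : Function.Injective (Scheme.Spec.residueFieldIso R p).hom.hom :=
    (ConcreteCategory.bijective_of_isIso (Scheme.Spec.residueFieldIso R p).hom).injective
  have hφ_apply : ∀ c : R, (Scheme.Spec.residueFieldIso R p).hom.hom
      ((CommRingCat.ofHom (algebraMap R p.asIdeal.ResidueField) ≫
        (Scheme.Spec.residueFieldIso R p).inv).hom c) =
      algebraMap R p.asIdeal.ResidueField c := by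
    intro c
    change ((CommRingCat.ofHom (algebraMap R p.asIdeal.ResidueField) ≫
      (Scheme.Spec.residueFieldIso R p).inv) ≫
      (Scheme.Spec.residueFieldIso R p).hom).hom c = _
    rw [Category.assoc, Iso.inv_hom_id, Category.comp_id]; rfl
  refine ⟨CommRingCat.ofHom (algebraMap R p.asIdeal.ResidueField) ≫
    (Scheme.Spec.residueFieldIso R p).inv, ?_, ?_, ?_⟩
  · rw [Spec.map_comp]
    exact Scheme.Spec.map_residueFieldIso_inv_eq_fromSpecResidueField R p
  · ext c
    rw [RingHom.mem_ker, ← Ideal.algebraMap_residueField_eq_zero, ← hφ_apply]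
    constructor
    · intro h; rw [h, map_zero]
    · intro h; apply hinj; rw [h, map_zero]
  · intro w
    obtain ⟨a, b, hb, hab⟩ := frac_residueField p.asIdeal
      ((Scheme.Spec.residueFieldIso R p).hom.hom w)
    refine ⟨a, b, ?_, ?_⟩
    · intro h0
      apply hb
      rw [← hφ_apply, h0, map_zero]
    · apply hinj
      rw [map_mul, hφ_apply, hφ_apply]
      exact hab

theorem frac_aux (T : Triplet f g) (p : Spec T.tensor) :
    ∀ z : (pullback f g).residueField (T.SpecTensorTo p),
      ∃ a b : (Triplet.ofPoint (T.SpecTensorTo p)).tensor,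
        (ofPointTensor (T.SpecTensorTo p)).hom b ≠ 0 ∧
        z * (ofPointTensor (T.SpecTensorTo p)).hom b =
          (ofPointTensor (T.SpecTensorTo p)).hom a := by
  intro z
  obtain ⟨φ, hφ', -, hfrac⟩ := exists_hom_frac T.tensor p
  have key := Triplet.Spec_ofPointTensor_SpecTensorTo T p
  rw [← hφ', ← Spec.map_comp, ← Spec.map_comp, Spec.map_inj] at key
  -- key : (tensorCongr).hom ≫ ofPointTensor ≫ residueFieldMap = φ
  let ρ := (Scheme.Hom.residueFieldMap T.SpecTensorTo p).hom
  obtain ⟨a, b, hb, hab⟩ := hfrac (ρ z)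
  have hkey_apply : ∀ c : T.tensor, ρ ((ofPointTensor (T.SpecTensorTo p)).hom
      ((Triplet.tensorCongr (T.ofPoint_SpecTensorTo p).symm).hom.hom c)) = φ.hom c := by
    intro c
    rw [← key]; rfl
  refine ⟨(Triplet.tensorCongr (T.ofPoint_SpecTensorTo p).symm).hom.hom a,
    (Triplet.tensorCongr (T.ofPoint_SpecTensorTo p).symm).hom.hom b, ?_, ?_⟩
  · intro h0
    apply hb
    rw [← hkey_apply, h0, map_zero]
  · apply ρ.injective
    rw [map_mul, hkey_apply, hkey_apply]
    exact hab

theorem frac_ofPointTensor (t : ↑(pullback f g)) :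
    ∀ z : (pullback f g).residueField t,
      ∃ a b : (Triplet.ofPoint t).tensor, (ofPointTensor t).hom b ≠ 0 ∧
        z * (ofPointTensor t).hom b = (ofPointTensor t).hom a := by
  have := frac_aux (Triplet.ofPoint t) (SpecOfPoint t)
  rwa [SpecTensorTo_SpecOfPoint] at this

/-- Splitting property of a triplet: in any common overfield of `κ(x)` and `κ(y)` every element of
`κ(x)` has a `q^n`-th power in `κ(y)`. -/
def TSplit (T : Triplet f g) : Prop :=
  ∀ (L : Type u) [Field L] (a : X.residueField T.x →+* L) (b : Y.residueField T.y →+* L),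
    a.comp (resX T).hom = b.comp (resY T).hom →
    ∀ e : X.residueField T.x, ∃ n : ℕ, a e ^ (ringExpChar (S.residueField T.s)) ^ n ∈ b.range

theorem finite_and_pi (t : ↑(pullback f g)) (hfin : (resX (Triplet.ofPoint t)).hom.Finite) :
    ((pullback.snd f g).residueFieldMap t).hom.Finite ∧ (TSplit (Triplet.ofPoint t) →
      letI := ((pullback.snd f g).residueFieldMap t).hom.toAlgebra
      IsPurelyInseparable (Y.residueField (pullback.snd f g t))
        ((pullback f g).residueField t)) := by
  set T := Triplet.ofPoint t with hT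
  have hcomp : (ofPointTensor t).hom.comp T.tensorInr.hom =
      ((pullback.snd f g).residueFieldMap t).hom := by
    rw [← CommRingCat.hom_comp]
    congr 1
    exact pushout.inr_desc _ _ _
  have hcompl : (ofPointTensor t).hom.comp T.tensorInl.hom =
      ((pullback.fst f g).residueFieldMap t).hom := by
    rw [← CommRingCat.hom_comp]
    congr 1
    exact pushout.inl_desc _ _ _
  obtain ⟨hsurj, hfin'⟩ := surjective_of_frac T.tensorInr.hom (ofPointTensor t).hom
    (finite_tensorInr T hfin) (frac_ofPointTensor t)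
  rw [hcomp] at hfin'
  refine ⟨hfin', fun hsplit => ?_⟩
  haveI : ExpChar (S.residueField T.s) (ringExpChar (S.residueField T.s)) :=
    ringExpChar.expChar _
  haveI : ExpChar (Y.residueField T.y) (ringExpChar (S.residueField T.s)) :=
    expChar_of_injective_ringHom (resY T).hom.injective _
  have := isPurelyInseparable_of_gen T.tensorInl.hom T.tensorInr.hom (ofPointTensor t).hom
    (closure_range_eq_top T) hsurj (ringExpChar (S.residueField T.s)) (by
      intro e
      refine hsplit _ ((ofPointTensor t).hom.comp T.tensorInl.hom)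
        ((ofPointTensor t).hom.comp T.tensorInr.hom) ?_ e
      rw [RingHom.comp_assoc, RingHom.comp_assoc, ← CommRingCat.hom_comp, ← CommRingCat.hom_comp]
      congr 2
      exact pushout.condition)
  rw [hcomp] at this
  exact this

theorem finite_points (T : Triplet f g) (hfin : (resX T).hom.Finite) :
    Finite {t : ↑(pullback f g) // Triplet.ofPoint t = T} := by
  haveI := finite_spec_tensor T hfin
  let F : Spec T.tensor → {t : ↑(pullback f g) // Triplet.ofPoint t = T} :=
    fun p => ⟨T.SpecTensorTo p, T.ofPoint_SpecTensorTo p⟩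
  refine Finite.of_surjective F ?_
  rintro ⟨t, rfl⟩
  exact ⟨SpecOfPoint t, Subtype.ext (SpecTensorTo_SpecOfPoint t)⟩

end Groth.Agent.H1.PISplit
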