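import Mathlib
import Groth.Agent.Lib.Helper1.EtRoot
import Groth.Agent.Lib.Helper1.PISplit

set_option autoImplicit false
universe u

namespace Groth.Agent.H1.EtRootSch

open AlgebraicGeometry CategoryTheory Limits Polynomial

theorem exists_etale_root_affine (R : CommRingCat.{u}) (p : Spec R)
    (m : ((Spec R).residueField p)[X]) (hm : m.Monic) (hsep : m.Separable)
    (hdeg : m.natDegree ≠ 0) :
    ∃ (U : Scheme.{u}) (g : U ⟶ Spec R) (u : U) (h : g u = p), Etale g ∧
      ∃ θ : U.residueField u,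
        (m.map (((Spec R).residueFieldCongr h).inv ≫ g.residueFieldMap u).hom).eval θ = 0 := by
  obtain ⟨φ, hφ', hker, hfrac⟩ := PISplit.exists_hom_frac R p
  obtain ⟨R', _, _, _, P, hP, hPcomap, hroot⟩ :=
    EtRoot.exists_etale_root φ.hom hfrac m hm hsep hdeg
  let ψ : R ⟶ CommRingCat.of R' := CommRingCat.ofHom (algebraMap R R')
  let g : Spec (CommRingCat.of R') ⟶ Spec R := Spec.map ψ
  let u : Spec (CommRingCat.of R') := ⟨P, hP⟩
  have hgu : g u = p := by
    apply PrimeSpectrum.ext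
    change P.comap (algebraMap R R') = p.asIdeal
    rw [hPcomap, hker]
  have hg : Etale g := HasRingHomProperty.Spec_iff.mpr (RingHom.etale_algebraMap.mpr ‹_›)
  refine ⟨Spec (CommRingCat.of R'), g, u, hgu, hg, ?_⟩
  obtain ⟨φ', hφ'', -, -⟩ := PISplit.exists_hom_frac (CommRingCat.of R') u
  apply hroot _ φ'.hom
  -- compatibility
  rw [← CommRingCat.hom_comp]
  change _ = (ψ ≫ φ').hom
  congr 1
  apply Spec.map_injective
  rw [Spec.map_comp, Spec.map_comp, Spec.map_comp, hφ', hφ'']
  rw [Category.assoc, Scheme.residueFieldCongr_inv, Scheme.residueFieldCongr_fromSpecResidueField]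
  exact Scheme.Hom.SpecMap_residueFieldMap_fromSpecResidueField g u

theorem exists_etale_root {S : Scheme.{u}} (s : S) (m : (S.residueField s)[X]) (hm : m.Monic)
    (hsep : m.Separable) (hdeg : m.natDegree ≠ 0) :
    ∃ (U : Scheme.{u}) (g : U ⟶ S) (u : U) (h : g u = s), Etale g ∧
      ∃ θ : U.residueField u,
        (m.map ((S.residueFieldCongr h).inv ≫ g.residueFieldMap u).hom).eval θ = 0 := by
  obtain ⟨_, ⟨V, hV, rfl⟩, hsV, -⟩ := S.isBasis_affineOpens.exists_subset_of_mem_open
    (Set.mem_univ s) isOpen_univ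
  obtain ⟨p, hp⟩ : ∃ p : Spec Γ(S, V), hV.fromSpec p = s :=
    ⟨hV.primeIdealOf ⟨s, hsV⟩, hV.fromSpec_primeIdealOf ⟨s, hsV⟩⟩
  subst hp
  let j := hV.fromSpec
  let m' : ((Spec Γ(S, V)).residueField p)[X] := m.map (j.residueFieldMap p).hom
  have hm' : m'.Monic := hm.map _
  have hsep' : m'.Separable := hsep.map
  have hdeg' : m'.natDegree ≠ 0 := by
    rw [Polynomial.natDegree_map]; exact hdeg
  obtain ⟨U, g', u, h', hg', θ, hθ⟩ := exists_etale_root_affine Γ(S, V) p m' hm' hsep' hdeg'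
  subst h'
  haveI : IsOpenImmersion j := IsAffineOpen.isOpenImmersion_fromSpec hV
  haveI : Etale j := inferInstance
  haveI : Etale (g' ≫ j) := inferInstance
  refine ⟨U, g' ≫ j, u, rfl, inferInstance, θ, ?_⟩
  rw [Polynomial.map_map] at hθ
  convert hθ using 3
  rw [← CommRingCat.hom_comp]
  congr 1
  simp [Scheme.residueFieldMap_comp]
  exact Category.id_comp _

end Groth.Agent.H1.EtRootSch
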