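import Mathlib

set_option autoImplicit false
universe u

namespace Groth.Agent.H1.FieldSplit

open Polynomial IntermediateField

/-- Field-theoretic splitting lemma: for finitely many finite extensions `E i / F` there is a single
monic separable polynomial `m` over `F` such that once `K ⊇ F` has a root of `m`, in every common
overfield `L` of `E i` and `K` each element of `E i` has a `q^n`-th power in `K`. -/
theorem exists_split_poly {F : Type u} [Field F] {ι : Type} [Finite ι] (E : ι → Type u)
    [∀ i, Field (E i)] (α : ∀ i, F →+* E i) (hfin : ∀ i, (α i).Finite) :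
    ∃ m : F[X], m.Monic ∧ m.Separable ∧ m.natDegree ≠ 0 ∧
      ∀ (K : Type u) [Field K] (ρ : F →+* K), (∃ θ : K, (m.map ρ).eval θ = 0) →
        ∀ (i : ι) (L : Type u) [Field L] (a : E i →+* L) (b : K →+* L),
          a.comp (α i) = b.comp ρ →
          ∀ e : E i, ∃ n : ℕ, a e ^ (ringExpChar F) ^ n ∈ b.range := by
  classical
  letI algE : ∀ i, Algebra F (E i) := fun i => (α i).toAlgebra
  haveI finE : ∀ i, FiniteDimensional F (E i) := fun i => hfin i
  let Ω := AlgebraicClosure F
  let N' : ι → IntermediateField F Ω := fun i => normalClosure F (E i) Ω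
  let N : IntermediateField F Ω := ⨆ i, N' i
  haveI : ∀ i, FiniteDimensional F (N' i) := fun i => normalClosure.is_finiteDimensional F (E i) Ω
  haveI : ∀ i, Normal F (N' i) := fun i => normalClosure.normal F (E i) Ω
  haveI : FiniteDimensional F N := IntermediateField.finiteDimensional_iSup_of_finite
  haveI : Normal F N := IntermediateField.normal_iSup F Ω N'
  let Ns : IntermediateField F N := separableClosure F N
  haveI : IsGalois F Ns := separableClosure.isGalois F N
  haveI : FiniteDimensional F Ns := inferInstance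
  let pb := Field.powerBasisOfFiniteOfSeparable F Ns
  refine ⟨minpoly F pb.gen, minpoly.monic (Algebra.IsIntegral.isIntegral _),
    Algebra.IsSeparable.isSeparable F pb.gen,
    (minpoly.natDegree_pos (Algebra.IsIntegral.isIntegral _)).ne', ?_⟩
  intro K _ ρ ⟨θ, hθ⟩ i L _ a b hab e
  letI algK : Algebra F K := ρ.toAlgebra
  letI algL : Algebra F L := (b.comp ρ).toAlgebra
  have hθ' : aeval θ (minpoly F pb.gen) = 0 := by
    rw [aeval_def, eval₂_eq_eval_map]; exact hθ
  let j : Ns →ₐ[F] K := pb.lift θ hθ'
  have hcomm : ∀ c : F, a (algebraMap F (E i) c) = algebraMap F L c := fun c => by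
    change a (α i c) = b (ρ c)
    rw [← RingHom.comp_apply, hab]; rfl
  let a' : E i →ₐ[F] L := { a with commutes' := hcomm }
  let b' : K →ₐ[F] L := { b with commutes' := fun c => rfl }
  let fi : E i →ₐ[F] Ω := IsAlgClosed.lift
  have hmem : fi e ∈ N := by
    have h1 : fi.fieldRange ≤ N' i := AlgHom.fieldRange_le_normalClosure fi
    have h2 : N' i ≤ N := le_iSup N' i
    exact h2 (h1 ⟨e, rfl⟩)
  let y : N := ⟨fi e, hmem⟩
  let q := ringExpChar F
  haveI : ExpChar F q := ringExpChar.expChar F
  haveI : ExpChar Ns q := expChar_of_injective_algebraMap (algebraMap F Ns).injective q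
  haveI : Algebra.IsAlgebraic F N := inferInstance
  haveI : IsPurelyInseparable Ns N := separableClosure.isPurelyInseparable F N
  obtain ⟨n, w, hw⟩ := IsPurelyInseparable.pow_mem Ns q y
  refine ⟨n, ?_⟩
  let P := minpoly F w
  have hPsplit : (P.map (algebraMap F Ns)).Splits := Normal.splits inferInstance w
  have hPK : (P.map (algebraMap F K)).Splits := by
    have := hPsplit.map j.toRingHom
    rwa [Polynomial.map_map, AlgHom.toRingHom_eq_coe, j.comp_algebraMap] at this
  have hP0 : P.map (algebraMap F K) ≠ 0 :=
    Polynomial.map_ne_zero (minpoly.ne_zero (Algebra.IsIntegral.isIntegral w))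
  -- minimal polynomial of e^(q^n)
  have hmin : minpoly F (e ^ q ^ n) = P := by
    have h1 : minpoly F (fi (e ^ q ^ n)) = minpoly F (e ^ q ^ n) :=
      minpoly.algHom_eq fi fi.injective _
    have h2 : fi (e ^ q ^ n) = algebraMap N Ω (algebraMap Ns N w) := by
      rw [hw, map_pow]; rfl
    rw [← h1, h2, minpoly.algebraMap_eq (algebraMap N Ω).injective,
      minpoly.algebraMap_eq (algebraMap Ns N).injective]
  have hroot : ((P.map (algebraMap F K)).map b).IsRoot (a e ^ q ^ n) := by
    rw [Polynomial.map_map, IsRoot, eval_map, ← hmin]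
    have : a e ^ q ^ n = a' (e ^ q ^ n) := by rw [map_pow]; rfl
    rw [this]
    change aeval (a' (e ^ q ^ n)) (minpoly F (e ^ q ^ n)) = 0
    rw [aeval_algHom_apply, minpoly.aeval, map_zero]
  exact hPK.mem_range_of_isRoot hP0 hroot

end Groth.Agent.H1.FieldSplit
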