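import Mathlib
import Groth.Agent.Lib.Helper1.EtRootSch
import Groth.Agent.Lib.Helper1.FieldSplit
import Groth.Agent.Lib.Helper1.ResFin

set_option autoImplicit false
universe u

namespace Groth.Agent.H1.PINbhd

open AlgebraicGeometry CategoryTheory Limits Scheme.Pullback

theorem exists_pi_nbhd {X S : Scheme.{u}} (f : X ⟶ S) [LocallyOfFiniteType f] (s : S)
    {ι : Type} [Finite ι] (x : ι → X) (hs : ∀ i, f (x i) = s)
    (hx : ∀ i, f.QuasiFiniteAt (x i)) :
    ∃ (U : Scheme.{u}) (g : U ⟶ S) (u : U), Etale g ∧ g u = s ∧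
      (∀ t : ↑(pullback f g), pullback.snd f g t = u → (∃ i, pullback.fst f g t = x i) →
         ((pullback.snd f g).residueFieldMap t).hom.Finite ∧
         (letI := ((pullback.snd f g).residueFieldMap t).hom.toAlgebra
          IsPurelyInseparable (U.residueField (pullback.snd f g t))
            ((pullback f g).residueField t))) ∧
      Finite {t : ↑(pullback f g) // pullback.snd f g t = u ∧ ∃ i, pullback.fst f g t = x i} := by
  have hfin : ∀ i, ((S.residueFieldCongr (hs i)).inv ≫ f.residueFieldMap (x i)).hom.Finite := by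
    intro i
    rw [CommRingCat.hom_comp]
    refine RingHom.Finite.comp (ResFin.finite_residueFieldMap_of_quasiFiniteAt f (hx i)) ?_
    exact RingHom.Finite.of_surjective _
      (ConcreteCategory.bijective_of_isIso (S.residueFieldCongr (hs i)).inv).surjective
  obtain ⟨m, hm, hsep, hdeg, hsplit⟩ := FieldSplit.exists_split_poly
    (fun i => X.residueField (x i))
    (fun i => ((S.residueFieldCongr (hs i)).inv ≫ f.residueFieldMap (x i)).hom) hfin
  obtain ⟨U, g, u, h, hg, hθ⟩ := EtRootSch.exists_etale_root s m hm hsep hdeg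
  subst h
  have hsplit' := hsplit (U.residueField u) _ hθ
  refine ⟨U, g, u, hg, rfl, ?_, ?_⟩
  · rintro t ht ⟨i, hti⟩
    have hT : Triplet.ofPoint t = Triplet.mk' (x i) u (hs i) := Triplet.ext hti ht
    have h1 : (PISplit.resX (Triplet.ofPoint t)).hom.Finite := by
      rw [hT]; exact hfin i
    obtain ⟨hf1, hf2⟩ := PISplit.finite_and_pi t h1
    refine ⟨hf1, hf2 ?_⟩
    rw [hT]
    intro L _ a b hab e
    exact hsplit' i L a b hab e
  · have hsub : {t : ↑(pullback f g) | pullback.snd f g t = u ∧ ∃ i, pullback.fst f g t = x i} ⊆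
        ⋃ i, {t | Triplet.ofPoint t = Triplet.mk' (x i) u (hs i)} := by
      rintro t ⟨ht, i, hti⟩
      exact Set.mem_iUnion.mpr ⟨i, Triplet.ext hti ht⟩
    have hfinU : (⋃ i, {t : ↑(pullback f g) |
        Triplet.ofPoint t = Triplet.mk' (x i) u (hs i)}).Finite := by
      apply Set.finite_iUnion
      intro i
      haveI : Finite ↥{t : ↑(pullback f g) |
          Triplet.ofPoint t = Triplet.mk' (x i) u (hs i)} :=
        PISplit.finite_points (Triplet.mk' (x i) u (hs i)) (hfin i)
      exact Set.toFinite _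
    exact (hfinU.subset hsub).to_subtype

end Groth.Agent.H1.PINbhd
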