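import Mathlib
import Groth.Agent.Lib.Helper1.PINbhd
import Groth.Agent.Lib.Helper1.EtLoc3

set_option autoImplicit false
universe u

namespace Groth.Agent.H1.EtLocCore

open AlgebraicGeometry CategoryTheory Limits

/-- transfer of finite + purely inseparable along isomorphisms -/
theorem transfer {K L K' L' : Type u} [Field K] [Field L] [Field K'] [Field L']
    (φ : K →+* L) (φ' : K' →+* L') (χ : K →+* K') (τ : L →+* L')
    (hχ : Function.Bijective χ) (hτ : Function.Bijective τ) (h : φ'.comp χ = τ.comp φ)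
    (hfin : φ.Finite) (hpi : letI := φ.toAlgebra; IsPurelyInseparable K L) :
    φ'.Finite ∧ (letI := φ'.toAlgebra; IsPurelyInseparable K' L') := by
  constructor
  · let χe := RingEquiv.ofBijective χ hχ
    have : φ' = (τ.comp φ).comp χe.symm.toRingHom := by
      ext k'
      obtain ⟨k, rfl⟩ := hχ.2 k'
      have h1 : χe.symm (χ k) = k := χe.symm_apply_apply k
      simp only [RingHom.comp_apply, RingEquiv.toRingHom_eq_coe, RingHom.coe_coe, h1]
      exact congrArg (fun ψ => ψ k) h
    rw [this]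
    exact ((RingHom.Finite.of_surjective τ hτ.2).comp hfin).comp
      (RingHom.Finite.of_surjective _ χe.symm.surjective)
  · letI := φ.toAlgebra
    letI := φ'.toAlgebra
    let q := ringExpChar K
    haveI : ExpChar K q := ringExpChar.expChar K
    haveI : ExpChar K' q := expChar_of_injective_ringHom χ.injective q
    rw [isPurelyInseparable_iff_pow_mem K' q]
    intro x'
    obtain ⟨x, rfl⟩ := hτ.2 x'
    obtain ⟨n, k, hk⟩ := (isPurelyInseparable_iff_pow_mem K q).mp hpi x
    refine ⟨n, χ k, ?_⟩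
    change φ' (χ k) = _
    have h2 : φ' (χ k) = τ (φ k) := congrArg (fun ψ => ψ k) h
    rw [h2, ← map_pow]
    exact congrArg τ hk

theorem finite_pi_of_square {P A B C : Scheme.{u}} {c : P ⟶ A} {d : P ⟶ B} {q : A ⟶ C}
    {r : B ⟶ C} (e : c ≫ q = d ≫ r) (w : P)
    (hr : Function.Bijective (r.residueFieldMap (d w)).hom)
    (hc : Function.Bijective (c.residueFieldMap w).hom)
    (hfin : (q.residueFieldMap (c w)).hom.Finite)
    (hpi : letI := (q.residueFieldMap (c w)).hom.toAlgebra
      IsPurelyInseparable (C.residueField (q (c w))) (A.residueField (c w))) :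
    (d.residueFieldMap w).hom.Finite ∧
      (letI := (d.residueFieldMap w).hom.toAlgebra
       IsPurelyInseparable (B.residueField (d w)) (P.residueField w)) := by
  have hpt : q (c w) = r (d w) := by
    have : (c ≫ q) w = (d ≫ r) w := by rw [e]
    exact this
  have key : q.residueFieldMap (c w) ≫ c.residueFieldMap w =
      (C.residueFieldCongr hpt).hom ≫ r.residueFieldMap (d w) ≫ d.residueFieldMap w := by
    have := Scheme.Hom.residueFieldMap_congr e w
    rw [Scheme.residueFieldMap_comp, Scheme.residueFieldMap_comp] at this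
    exact this
  refine transfer (q.residueFieldMap (c w)).hom (d.residueFieldMap w).hom
    ((C.residueFieldCongr hpt).hom ≫ r.residueFieldMap (d w)).hom (c.residueFieldMap w).hom
    ?_ hc ?_ hfin hpi
  · change Function.Bijective (⇑(r.residueFieldMap (d w)).hom ∘ ⇑(C.residueFieldCongr hpt).hom.hom)
    exact hr.comp (ConcreteCategory.bijective_of_isIso (C.residueFieldCongr hpt).hom)
  · change (((C.residueFieldCongr hpt).hom ≫ r.residueFieldMap (d w)) ≫
      d.residueFieldMap w).hom = (q.residueFieldMap (c w) ≫ c.residueFieldMap w).hom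
    rw [key, Category.assoc]

theorem core {X S : Scheme.{u}} (f : X ⟶ S) [LocallyOfFiniteType f] (s : S) {ι : Type} [Finite ι]
    (x : ι → X) (hinj : Function.Injective x) (hs : ∀ i, f (x i) = s)
    (hx : ∀ i, f.QuasiFiniteAt (x i)) :
    ∃ (U : Scheme.{u}) (g : U ⟶ S) (u : U), Etale g ∧ g u = s ∧
      ∃ (n : ℕ) (idx : Fin n → ι) (V : Fin n → (pullback f g).Opens)
        (v : Fin n → ↑(pullback f g)),
        Function.Injective v ∧
        (∀ k, EtLoc.FinPart (pullback.fst f g) (pullback.snd f g) u (x (idx k)) (V k) (v k) ∧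
          ((pullback.snd f g).residueFieldMap (v k)).hom.Finite ∧
          (letI := ((pullback.snd f g).residueFieldMap (v k)).hom.toAlgebra
           IsPurelyInseparable (U.residueField (pullback.snd f g (v k)))
             ((pullback f g).residueField (v k)))) ∧
        (∀ (w : ↑(pullback f g)) (i : ι), pullback.snd f g w = u → pullback.fst f g w = x i →
          ∃ k, idx k = i ∧ w = v k) := by
  obtain ⟨U₀, g₀, u₀, hg₀, hgu₀, hpi, hfinI⟩ := PINbhd.exists_pi_nbhd f s x hs hx
  haveI := hg₀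
  set q₀ := pullback.snd f g₀ with hq₀
  set p₀ := pullback.fst f g₀ with hp₀
  -- enumerate the points
  let I := {t : ↑(pullback f g₀) // q₀ t = u₀ ∧ ∃ i, p₀ t = x i}
  haveI : Finite I := hfinI
  let n := Nat.card I
  let e : I ≃ Fin n := Finite.equivFin I
  let pts : Fin n → ↑(pullback f g₀) := fun k => (e.symm k).1
  have hpts1 : ∀ k, q₀ (pts k) = u₀ := fun k => (e.symm k).2.1
  have hpts2 : ∀ k, ∃ i, p₀ (pts k) = x i := fun k => (e.symm k).2.2
  choose idx hidx using hpts2
  have hptsinj : Function.Injective pts := fun k k' h => e.symm.injective (Subtype.ext h)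
  have hqf : ∀ k, q₀.QuasiFiniteAt (pts k) := fun k =>
    EtLoc.quasiFiniteAt_snd f g₀ (pts k) (by rw [hidx k]; exact hx _)
  obtain ⟨U₁, g₁, u₁, hg₁, H⟩ := EtLoc.exists_finPart_multi q₀ u₀ pts hpts1 hqf
  choose V₁ v₁ HV using H
  haveI := hg₁.etale
  let g := g₁ ≫ g₀
  let c' : pullback f g ⟶ pullback f g₀ :=
    pullback.lift (pullback.fst f g) (pullback.snd f g ≫ g₁)
      (by rw [Category.assoc, pullback.condition])
  have hc'1 : c' ≫ p₀ = pullback.fst f g := pullback.lift_fst _ _ _
  have hc'2 : c' ≫ q₀ = pullback.snd f g ≫ g₁ := pullback.lift_snd _ _ _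
  have sq' : IsPullback c' (pullback.snd f g) q₀ g₁ := by
    refine IsPullback.of_right ?_ hc'2 (IsPullback.of_hasPullback f g₀)
    rw [hc'1]; exact IsPullback.of_hasPullback f g
  let ε := sq'.isoPullback
  have hε1 : ε.hom ≫ pullback.fst q₀ g₁ = c' := sq'.isoPullback_hom_fst
  have hε2 : ε.hom ≫ pullback.snd q₀ g₁ = pullback.snd f g := sq'.isoPullback_hom_snd
  have HV' : ∀ k, EtLoc.FinPart c' (pullback.snd f g) u₁ (pts k) (ε.hom ⁻¹ᵁ V₁ k)
      (ε.inv (v₁ k)) := by
    intro k
    have := (HV k).of_iso ε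
    rwa [hε1, hε2] at this
  refine ⟨U₁, g, u₁, inferInstance, ?_, n, idx, fun k => ε.hom ⁻¹ᵁ V₁ k,
    fun k => ε.inv (v₁ k), ?_, ?_, ?_⟩
  · rw [Scheme.Hom.comp_apply, hg₁.eq, hgu₀]
  · intro k k' h
    apply hptsinj
    rw [← (HV' k).fst_eq, ← (HV' k').fst_eq]
    exact congrArg c' h
  · intro k
    have Hk := HV' k
    refine ⟨⟨Hk.mem, Hk.finite, Hk.snd_eq, ?_, Hk.uniq⟩, ?_⟩
    · rw [← hc'1, Scheme.Hom.comp_apply, Hk.fst_eq, hidx]
    · have hcw : c' (ε.inv (v₁ k)) = pts k := Hk.fst_eq
      have h1 := hpi (c' (ε.inv (v₁ k))) (by rw [hcw]; exact hpts1 k)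
        ⟨idx k, by rw [hcw]; exact hidx k⟩
      have hr : Function.Bijective
          (g₁.residueFieldMap (pullback.snd f g (ε.inv (v₁ k)))).hom :=
        (PBU.bij_congr_point g₁ Hk.snd_eq).mpr hg₁.bij
      have hc : Function.Bijective (c'.residueFieldMap (ε.inv (v₁ k))).hom :=
        PBU.bijective_residueFieldMap_of_isPullback sq' _ hr
      exact finite_pi_of_square hc'2 _ hr hc h1.1 h1.2
  · intro w i hw1 hw2
    have h1 : q₀ (c' w) = u₀ := by
      rw [← Scheme.Hom.comp_apply, hc'2, Scheme.Hom.comp_apply, hw1, hg₁.eq]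
    have h2 : p₀ (c' w) = x i := by rw [← Scheme.Hom.comp_apply, hc'1, hw2]
    let k := e ⟨c' w, h1, i, h2⟩
    have hk : pts k = c' w := by simp [pts, k]
    refine ⟨k, ?_, ?_⟩
    · apply hinj
      rw [← hidx k, hk, h2]
    · have Hk := HV' k
      refine PBU.eq_of_isPullback sq' w (ε.inv (v₁ k)) ?_ ?_ ?_
      · exact (PBU.bij_congr_point g₁ hw1).mpr hg₁.bij
      · rw [Hk.fst_eq, hk]
      · rw [Hk.snd_eq, hw1]

end Groth.Agent.H1.EtLocCore
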