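import Mathlib

set_option autoImplicit false
universe u

namespace Groth.Agent.H1.RingCI

open TensorProduct

/-- the fibre over `p` of a finite unramified algebra with a unique prime `q` over `p` and trivial
residue field extension is `κ(p)`. -/
theorem surjective_algebraMap_fiber (A B : Type u) [CommRing A] [CommRing B] [Algebra A B]
    [Module.Finite A B] [Algebra.FormallyUnramified A B] (p : Ideal A) [p.IsPrime]
    (q : Ideal B) [q.IsPrime] [q.LiesOver p]
    (huniq : ∀ q' : Ideal B, q'.IsPrime → q'.LiesOver p → q' = q)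
    (hres : Function.Surjective (Ideal.ResidueField.map p q (algebraMap A B) Ideal.LiesOver.over)) :
    Function.Surjective (algebraMap p.ResidueField (p.Fiber B)) := by
  let := Localization.AtPrime.algebraOfLiesOver p q
  -- the fibre is a field
  haveI : Subsingleton (PrimeSpectrum (p.Fiber B)) := by
    have e := (PrimeSpectrum.primesOverOrderIsoFiber A B p).symm
    haveI : Subsingleton (p.primesOver B) := ⟨fun a b => Subtype.ext (by
      rw [huniq a.1 a.2.1 a.2.2, huniq b.1 b.2.1 b.2.2])⟩
    exact e.injective.subsingleton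
  haveI : Nontrivial (p.Fiber B) := by
    have e := (PrimeSpectrum.primesOverOrderIsoFiber A B p)
    have : Nonempty (PrimeSpectrum (p.Fiber B)) := ⟨e ⟨q, ‹_›, ‹_›⟩⟩
    exact (PrimeSpectrum.nonempty_iff_nontrivial).mp this
  haveI : IsLocalRing (p.Fiber B) := by
    refine IsLocalRing.of_unique_max_ideal ?_
    obtain ⟨m, hm⟩ := Ideal.exists_maximal (p.Fiber B)
    refine ⟨m, hm, fun m' hm' => ?_⟩
    have := Subsingleton.elim (⟨m, hm.isPrime⟩ : PrimeSpectrum (p.Fiber B)) ⟨m', hm'.isPrime⟩
    exact (congrArg PrimeSpectrum.asIdeal this).symm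
  haveI : IsReduced (p.Fiber B) :=
    Algebra.FormallyUnramified.isReduced_of_field p.ResidueField (p.Fiber B)
  haveI : IsArtinianRing (p.Fiber B) := IsArtinianRing.of_finite p.ResidueField (p.Fiber B)
  have hfield : IsField (p.Fiber B) := IsArtinianRing.isField_of_isReduced_of_isLocalRing _
  letI := hfield.toField
  let σ : p.Fiber B →ₐ[p.ResidueField] q.ResidueField :=
    Algebra.TensorProduct.lift (Algebra.ofId _ _) (IsScalarTower.toAlgHom _ _ _) fun _ _ ↦ .all _ _
  have hσinj : Function.Injective σ := σ.toRingHom.injective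
  intro z
  obtain ⟨c, hc⟩ := hres (σ z)
  refine ⟨c, hσinj ?_⟩
  rw [← hc, AlgHom.commutes]
  rfl

theorem exists_mul_mem_range (A B : Type u) [CommRing A] [CommRing B] [Algebra A B]
    [Module.Finite A B] (p : Ideal A) [p.IsPrime]
    (h : Function.Surjective (algebraMap p.ResidueField (p.Fiber B))) :
    ∃ a ∉ p, ∀ b : B, ∃ a' : A, algebraMap A B a' = algebraMap A B a * b := by
  let N : Submodule A B := LinearMap.range (Algebra.linearMap A B)
  let π : B →ₗ[A] B ⧸ N := N.mkQ
  have hπ : Function.Surjective π := N.mkQ_surjective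
  have h1 : π 1 = 0 := by
    rw [Submodule.mkQ_apply, Submodule.Quotient.mk_eq_zero]
    exact ⟨1, by simp⟩
  haveI : Subsingleton (p.ResidueField ⊗[A] (B ⧸ N)) := by
    refine ⟨fun y y' => ?_⟩
    have key : ∀ y : p.ResidueField ⊗[A] (B ⧸ N), y = 0 := by
      intro y
      obtain ⟨x, rfl⟩ := LinearMap.lTensor_surjective p.ResidueField hπ y
      obtain ⟨c, rfl⟩ := h x
      rw [Algebra.TensorProduct.algebraMap_apply, LinearMap.lTensor_tmul, h1, tmul_zero]
    rw [key y, key y']
  have hsupp : (⟨p, inferInstance⟩ : PrimeSpectrum A) ∉ Module.support A (B ⧸ N) := by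
    rw [Module.mem_support_iff_nontrivial_residueField_tensorProduct]
    exact not_nontrivial _
  rw [Module.support_eq_zeroLocus, PrimeSpectrum.mem_zeroLocus, SetLike.coe_subset_coe,
    SetLike.not_le_iff_exists] at hsupp
  obtain ⟨a, ha, hap⟩ := hsupp
  refine ⟨a, hap, fun b => ?_⟩
  have h2 : a • π b = 0 := Module.mem_annihilator.mp ha (π b)
  rw [← map_smul, Submodule.mkQ_apply, Submodule.Quotient.mk_eq_zero] at h2
  obtain ⟨a', ha'⟩ := h2
  exact ⟨a', by rw [← Algebra.smul_def, ← ha']; rfl⟩

/-- Ring-level closed immersion lemma. -/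
theorem exists_mul_mem_range_of_unramified (A B : Type u) [CommRing A] [CommRing B] [Algebra A B]
    [Module.Finite A B] [Algebra.FormallyUnramified A B] (p : Ideal A) [p.IsPrime]
    (q : Ideal B) [q.IsPrime] [q.LiesOver p]
    (huniq : ∀ q' : Ideal B, q'.IsPrime → q'.LiesOver p → q' = q)
    (hres : Function.Surjective (Ideal.ResidueField.map p q (algebraMap A B) Ideal.LiesOver.over)) :
    ∃ a ∉ p, ∀ b : B, ∃ a' : A, algebraMap A B a' = algebraMap A B a * b :=
  exists_mul_mem_range A B p (surjective_algebraMap_fiber A B p q huniq hres)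

end Groth.Agent.H1.RingCI
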