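import Mathlib
import Groth.Agent.Lib.Helper1.RingCI
import Groth.Agent.Lib.Helper1.EtLoc1

set_option autoImplicit false
universe u

namespace Groth.Agent.H1.SchemeCI

open AlgebraicGeometry CategoryTheory Limits

/-- localization-away map is surjective if `φ` is "surjective up to multiplication by `φ a`". -/
theorem surjective_awayMap {A B : Type u} [CommRing A] [CommRing B] (φ : A →+* B) (a : A)
    (A' B' : Type u) [CommRing A'] [CommRing B'] [Algebra A A'] [Algebra B B']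
    [IsLocalization.Away a A'] [IsLocalization.Away (φ a) B']
    (h : ∀ b : B, ∃ a' : A, φ a' = φ a * b) :
    Function.Surjective (IsLocalization.Away.map A' B' φ a) := by
  intro z
  obtain ⟨n, b, hb⟩ := IsLocalization.Away.surj (φ a) z
  obtain ⟨a', ha'⟩ := h b
  have hunit : IsUnit (algebraMap A A' a) := IsLocalization.Away.algebraMap_isUnit a
  obtain ⟨ua, hua⟩ := hunit
  refine ⟨algebraMap A A' a' * ((ua⁻¹ : A'ˣ) : A') ^ (n + 1), ?_⟩
  have hmap : ∀ x : A, IsLocalization.Away.map A' B' φ a (algebraMap A A' x) =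
      algebraMap B B' (φ x) := fun x => IsLocalization.map_eq _ x
  have hunitB : IsUnit (algebraMap B B' (φ a)) := IsLocalization.Away.algebraMap_isUnit (φ a)
  have h1 : IsLocalization.Away.map A' B' φ a ((ua⁻¹ : A'ˣ) : A') * algebraMap B B' (φ a) = 1 := by
    rw [← hmap, ← map_mul, ← hua, Units.inv_mul, map_one]
  apply hunitB.pow (n + 1) |>.mul_left_injective
  simp only
  rw [map_mul, map_pow, mul_assoc, ← mul_pow, h1, one_pow, mul_one, hmap, ha', map_mul,
    pow_succ, ← mul_assoc, hb, mul_comm]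

theorem surjective_appLE_of_eq {X Y : Scheme.{u}} (f : X ⟶ Y) {U : Y.Opens} (hU : IsAffineOpen U)
    {V : X.Opens} (hV : IsAffineOpen V) (e : V ≤ f ⁻¹ᵁ U) (r : Γ(Y, U))
    (h : ∀ b : Γ(X, V), ∃ a' : Γ(Y, U), f.appLE U V e a' = f.appLE U V e r * b)
    (W₁ : Y.Opens) (W₂ : X.Opens) (e' : W₂ ≤ f ⁻¹ᵁ W₁) (h1 : W₁ = Y.basicOpen r)
    (h2 : W₂ = X.basicOpen (f.appLE U V e r)) :
    Function.Surjective (f.appLE W₁ W₂ e') := by
  subst h1 h2
  rw [hU.appLE_eq_away_map f hV e r]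
  letI := hU.isLocalization_basicOpen r
  letI := hV.isLocalization_basicOpen (f.appLE U V e r)
  exact surjective_awayMap (f.appLE U V e).hom r _ _ h

/-- bridge: residue field map of `f` at `x` vs `Ideal.ResidueField.map` on affine charts. -/
theorem surjective_residueFieldMap_iff_appLE {X Y : Scheme.{u}} (f : X ⟶ Y) {x : X}
    (U : Y.Opens) (hU : IsAffineOpen U) (V : X.Opens) (hV : IsAffineOpen V) (hVU : V ≤ f ⁻¹ᵁ U)
    (hx : x ∈ V) :
    Function.Surjective (f.residueFieldMap x).hom ↔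
      Function.Surjective (Ideal.ResidueField.map (hU.primeIdealOf ⟨f x, hVU hx⟩).asIdeal
        (hV.primeIdealOf ⟨x, hx⟩).asIdeal (f.appLE U V hVU).hom
        congr($(IsAffineOpen.comap_primeIdealOf_appLE U hU V hV hVU hx).1).symm) := by
  refine (EtLoc.surjective_residueFieldMap_iff f x).trans ?_
  refine (EtLoc.resSurj_respectsIso.arrow_mk_iso_iff
    (IsAffineOpen.arrowStalkMapIso f U hU V hV hVU hx)).trans ?_
  haveI : IsLocalHom (Localization.localRingHom
      (hU.primeIdealOf ⟨f x, hVU hx⟩).asIdeal (hV.primeIdealOf ⟨x, hx⟩).asIdeal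
      (f.appLE U V hVU).hom
      congr($(IsAffineOpen.comap_primeIdealOf_appLE U hU V hV hVU hx).1).symm) :=
    Localization.isLocalHom_localRingHom _ _ _ _
  exact (EtLoc.surjective_residueMap_iff _).symm

/-- Scheme-level closed immersion lemma: a finite unramified morphism with a unique point `v` over
`u` and trivial residue field extension there is a closed immersion over a neighbourhood of `u`. -/
theorem exists_isClosedImmersion {V U : Scheme.{u}} (φ : V ⟶ U) [IsFinite φ]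
    [FormallyUnramified φ] (u : U) (v : V) (hv : φ v = u) (huniq : ∀ w, φ w = u → w = v)
    (hres : Function.Surjective (φ.residueFieldMap v).hom) :
    ∃ U' : U.Opens, u ∈ U' ∧ IsClosedImmersion (φ ∣_ U') := by
  subst hv
  obtain ⟨_, ⟨U₀, hU₀, rfl⟩, huU₀, -⟩ := U.isBasis_affineOpens.exists_subset_of_mem_open
    (Set.mem_univ (φ v)) isOpen_univ
  have hV₀ : IsAffineOpen (φ ⁻¹ᵁ U₀) := IsAffineOpen.preimage hU₀ φ
  have hvV₀ : v ∈ φ ⁻¹ᵁ U₀ := huU₀
  have hfin : (φ.appLE U₀ (φ ⁻¹ᵁ U₀) le_rfl).hom.Finite := by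
    rw [← Scheme.Hom.app_eq_appLE]; exact IsFinite.finite_app φ U₀ hU₀
  have hunr : (φ.appLE U₀ (φ ⁻¹ᵁ U₀) le_rfl).hom.FormallyUnramified :=
    FormallyUnramified.formallyUnramified_appLE φ hU₀ hV₀ le_rfl
  algebraize [(φ.appLE U₀ (φ ⁻¹ᵁ U₀) le_rfl).hom]
  let p := hU₀.primeIdealOf ⟨φ v, huU₀⟩
  let q := hV₀.primeIdealOf ⟨v, hvV₀⟩
  have hcomap : q.comap (φ.appLE U₀ (φ ⁻¹ᵁ U₀) le_rfl).hom = p :=
    IsAffineOpen.comap_primeIdealOf_appLE U₀ hU₀ _ hV₀ le_rfl hvV₀
  haveI : q.asIdeal.LiesOver p.asIdeal := ⟨congr($(hcomap).1).symm⟩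
  have huniq' : ∀ q' : Ideal Γ(V, φ ⁻¹ᵁ U₀), q'.IsPrime → q'.LiesOver p.asIdeal →
      q' = q.asIdeal := by
    intro q' hq' hq'p
    let Q' : ↥(Spec Γ(V, φ ⁻¹ᵁ U₀)) := ⟨q', hq'⟩
    have h1 : φ (hV₀.fromSpec Q') = φ v := by
      have := IsAffineOpen.SpecMap_appLE_fromSpec φ hU₀ hV₀ le_rfl
      have e1 : φ (hV₀.fromSpec Q') = (hV₀.fromSpec ≫ φ) Q' := rfl
      rw [e1, ← this, Scheme.Hom.comp_apply]
      have h2 : Spec.map (φ.appLE U₀ (φ ⁻¹ᵁ U₀) le_rfl) Q' = p :=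
        PrimeSpectrum.ext (hq'p.over).symm
      rw [h2]; exact hU₀.fromSpec_primeIdealOf ⟨φ v, huU₀⟩
    have h3 := huniq _ h1
    have h4 : hV₀.fromSpec q = v := hV₀.fromSpec_primeIdealOf ⟨v, hvV₀⟩
    have : Q' = q := hV₀.fromSpec.injective (h3.trans h4.symm)
    exact congrArg PrimeSpectrum.asIdeal this
  have hres' := (surjective_residueFieldMap_iff_appLE φ U₀ hU₀ _ hV₀ le_rfl hvV₀).mp hres
  obtain ⟨a, hap, ha⟩ := RingCI.exists_mul_mem_range_of_unramified Γ(U, U₀) Γ(V, φ ⁻¹ᵁ U₀)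
    p.asIdeal q.asIdeal huniq' hres'
  refine ⟨U.basicOpen a, ?_, ?_⟩
  · have : hU₀.fromSpec p ∈ U.basicOpen a := by
      change p ∈ hU₀.fromSpec ⁻¹ᵁ U.basicOpen a
      rw [hU₀.fromSpec_preimage_basicOpen]
      exact hap
    rwa [hU₀.fromSpec_primeIdealOf] at this
  · haveI : IsAffine ↑(U.basicOpen a) := hU₀.basicOpen a
    haveI : IsAffine ↑(φ ⁻¹ᵁ U.basicOpen a) := IsAffineOpen.preimage (hU₀.basicOpen a) φ
    apply IsClosedImmersion.of_surjective_of_isAffine
    rw [Scheme.Hom.appTop, morphismRestrict_app']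
    apply surjective_appLE_of_eq φ hU₀ hV₀ le_rfl a ha
    · exact Scheme.Opens.ι_image_top _
    · rw [Scheme.Hom.preimage_top, Scheme.Opens.ι_image_top, Scheme.preimage_basicOpen,
        Scheme.Hom.app_eq_appLE]

end Groth.Agent.H1.SchemeCI
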