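import Mathlib
import Groth.Agent.Lib.Helper1.EtLocCore
import Groth.Agent.Lib.Helper1.SchemeCI

set_option autoImplicit false
universe u

namespace Groth.Agent.H1.EtLocFinal

open AlgebraicGeometry CategoryTheory Limits

section Maps

variable {X S U : Scheme.{u}} (f : X ⟶ S) (W : X.Opens) (g : U ⟶ S) (U' : U.Opens)

/-- source enlargement: `(W ×_S U') ⟶ (X ×_S U')`. -/
noncomputable def jMap : pullback (W.ι ≫ f) (U'.ι ≫ g) ⟶ pullback f (U'.ι ≫ g) :=
  pullback.map _ _ _ _ W.ι (𝟙 _) (𝟙 _) (by simp) (by simp)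

/-- base shrinking: `(W ×_S U') ⟶ (W ×_S U)`. -/
noncomputable def cMap : pullback (W.ι ≫ f) (U'.ι ≫ g) ⟶ pullback (W.ι ≫ f) g :=
  pullback.map _ _ _ _ (𝟙 _) U'.ι (𝟙 _) (by simp) (by simp)

@[reassoc]
theorem jMap_fst : jMap f W g U' ≫ pullback.fst f (U'.ι ≫ g) =
    pullback.fst (W.ι ≫ f) (U'.ι ≫ g) ≫ W.ι := by
  simp only [jMap, pullback.map, pullback.lift_fst]

@[reassoc]
theorem jMap_snd : jMap f W g U' ≫ pullback.snd f (U'.ι ≫ g) =
    pullback.snd (W.ι ≫ f) (U'.ι ≫ g) := by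
  simp only [jMap, pullback.map, pullback.lift_snd, Category.comp_id]

@[reassoc]
theorem cMap_fst : cMap f W g U' ≫ pullback.fst (W.ι ≫ f) g =
    pullback.fst (W.ι ≫ f) (U'.ι ≫ g) := by
  simp only [cMap, pullback.map, pullback.lift_fst, Category.comp_id]

@[reassoc]
theorem cMap_snd : cMap f W g U' ≫ pullback.snd (W.ι ≫ f) g =
    pullback.snd (W.ι ≫ f) (U'.ι ≫ g) ≫ U'.ι := by
  simp only [cMap, pullback.map, pullback.lift_snd]

theorem isPullback_j : IsPullback (jMap f W g U') (pullback.fst (W.ι ≫ f) (U'.ι ≫ g))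
    (pullback.fst f (U'.ι ≫ g)) W.ι := by
  refine IsPullback.of_right (h₁₂ := pullback.snd f (U'.ι ≫ g)) (h₂₂ := f) (v₁₃ := U'.ι ≫ g) ?_
    (jMap_fst f W g U') (IsPullback.of_hasPullback f (U'.ι ≫ g)).flip
  rw [jMap_snd]
  exact (IsPullback.of_hasPullback (W.ι ≫ f) (U'.ι ≫ g)).flip

theorem isPullback_c : IsPullback (cMap f W g U') (pullback.snd (W.ι ≫ f) (U'.ι ≫ g))
    (pullback.snd (W.ι ≫ f) g) U'.ι := by
  refine IsPullback.of_right (h₁₂ := pullback.fst (W.ι ≫ f) g) (h₂₂ := g) (v₁₃ := W.ι ≫ f) ?_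
    (cMap_snd f W g U') (IsPullback.of_hasPullback (W.ι ≫ f) g)
  rw [cMap_fst]
  exact IsPullback.of_hasPullback (W.ι ≫ f) (U'.ι ≫ g)

instance : IsOpenImmersion (jMap f W g U') :=
  MorphismProperty.of_isPullback (P := @IsOpenImmersion) (isPullback_j f W g U').flip inferInstance

theorem mem_range_jMap (w : ↑(pullback f (U'.ι ≫ g))) (hw : pullback.fst f (U'.ι ≫ g) w ∈ W) :
    ∃ t, jMap f W g U' t = w := by
  let y : ↥(W : Scheme.{u}) := ⟨_, hw⟩
  obtain ⟨t, ht, -⟩ := Scheme.exists_preimage_of_isPullback (isPullback_j f W g U') w y rfl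
  exact ⟨t, ht⟩

theorem transport_Q {Q : MorphismProperty Scheme.{u}} [Q.RespectsIso]
    (V : (pullback (W.ι ≫ f) g).Opens)
    (hQ : Q ((V.ι ≫ pullback.snd (W.ι ≫ f) g) ∣_ U')) :
    Q ((jMap f W g U' ''ᵁ (cMap f W g U' ⁻¹ᵁ V)).ι ≫ pullback.snd f (U'.ι ≫ g)) := by
  have sq2 : IsPullback (cMap f W g U' ∣_ V)
      ((cMap f W g U' ⁻¹ᵁ V).ι ≫ pullback.snd (W.ι ≫ f) (U'.ι ≫ g))
      (V.ι ≫ pullback.snd (W.ι ≫ f) g) U'.ι :=
    (isPullback_morphismRestrict (cMap f W g U') V).paste_vert (isPullback_c f W g U')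
  have sq3 := (isPullback_morphismRestrict (V.ι ≫ pullback.snd (W.ι ≫ f) g) U').flip
  have he := sq2.isoIsPullback_hom_snd _ _ sq3
  have h1 : Q ((cMap f W g U' ⁻¹ᵁ V).ι ≫ pullback.snd (W.ι ≫ f) (U'.ι ≫ g)) := by
    rw [← he]
    exact (Q.cancel_left_of_respectsIso _ _).mpr hQ
  have h2 : (jMap f W g U' ''ᵁ (cMap f W g U' ⁻¹ᵁ V)).ι ≫ pullback.snd f (U'.ι ≫ g) =
      ((jMap f W g U').isoImage (cMap f W g U' ⁻¹ᵁ V)).inv ≫
        (cMap f W g U' ⁻¹ᵁ V).ι ≫ pullback.snd (W.ι ≫ f) (U'.ι ≫ g) := by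
    rw [← jMap_snd f W g U', ← Scheme.Hom.isoImage_inv_ι_assoc]
  rw [h2]
  exact (Q.cancel_left_of_respectsIso _ _).mpr h1

end Maps

theorem restrict_le {Q : MorphismProperty Scheme.{u}} [Q.RespectsIso]
    (hQres : ∀ {A B : Scheme.{u}} (ψ : A ⟶ B) (V : B.Opens), Q ψ → Q (ψ ∣_ V))
    {V U : Scheme.{u}} (φ : V ⟶ U) {U₁ U₂ : U.Opens} (h : U₂ ≤ U₁) (hQ : Q (φ ∣_ U₁)) :
    Q (φ ∣_ U₂) := by
  have h1 := hQres (φ ∣_ U₁) (U₁.ι ⁻¹ᵁ U₂) hQ
  rw [Q.arrow_mk_iso_iff (morphismRestrictRestrict φ U₁ _)] at h1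
  have e : U₁.ι ''ᵁ (U₁.ι ⁻¹ᵁ U₂) = U₂ := by
    rw [Scheme.Hom.image_preimage_eq_opensRange_inf, Scheme.Opens.opensRange_ι]
    exact inf_eq_right.mpr h
  rwa [Q.arrow_mk_iso_iff (morphismRestrictEq φ e)] at h1

theorem locallyQuasiFinite_of_unramified {X Y : Scheme.{u}} (f : X ⟶ Y) [LocallyOfFiniteType f]
    [FormallyUnramified f] : LocallyQuasiFinite f := by
  rw [HasRingHomProperty.iff_appLE (P := @LocallyQuasiFinite)]
  intro U V e
  have h1 : (f.appLE U.1 V.1 e).hom.FiniteType := f.finiteType_appLE U.2 V.2 e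
  have h2 : (f.appLE U.1 V.1 e).hom.FormallyUnramified :=
    FormallyUnramified.formallyUnramified_appLE f U.2 V.2 e
  algebraize [(f.appLE U.1 V.1 e).hom]
  exact RingHom.quasiFinite_algebraMap.mpr inferInstance

/-- for an unramified morphism, a purely inseparable residue extension is trivial. -/
theorem surjective_residueFieldMap_of_pi {P Y : Scheme.{u}} (q : P ⟶ Y) [LocallyOfFiniteType q]
    [FormallyUnramified q] (v : P)
    (hpi : letI := (q.residueFieldMap v).hom.toAlgebra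
      IsPurelyInseparable (Y.residueField (q v)) (P.residueField v)) :
    Function.Surjective (q.residueFieldMap v).hom := by
  letI := (q.residueFieldMap v).hom.toAlgebra
  haveI : Algebra.IsSeparable (Y.residueField (q v)) (P.residueField v) := inferInstance
  exact IsPurelyInseparable.surjective_algebraMap_of_isSeparable _ _

set_option backward.isDefEq.respectTransparency false in
/-- Generic non-separated final statement. -/
theorem nonsep_main {Q : MorphismProperty Scheme.{u}} [Q.RespectsIso]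
    (hQres : ∀ {A B : Scheme.{u}} (ψ : A ⟶ B) (V : B.Opens), Q ψ → Q (ψ ∣_ V))
    {X S : Scheme.{u}} (f : X ⟶ S) (s : S) {ι : Type} [Finite ι] (x : ι → X)
    (hinj : Function.Injective x) (hs : ∀ i, f (x i) = s)
    (W : X.Opens) (hxW : ∀ i, x i ∈ W) [LocallyOfFiniteType (W.ι ≫ f)]
    [FormallyUnramified (W.ι ≫ f)]
    (hloc : ∀ (U : Scheme.{u}) (g : U ⟶ S) (V : (pullback (W.ι ≫ f) g).Opens) (u : U)
      (v : ↥(V : Scheme.{u})),
      IsFinite (V.ι ≫ pullback.snd (W.ι ≫ f) g) →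
      (V.ι ≫ pullback.snd (W.ι ≫ f) g) v = u →
      (∀ w, (V.ι ≫ pullback.snd (W.ι ≫ f) g) w = u → w = v) →
      Function.Surjective ((V.ι ≫ pullback.snd (W.ι ≫ f) g).residueFieldMap v).hom →
      ∃ U' : U.Opens, u ∈ U' ∧ Q ((V.ι ≫ pullback.snd (W.ι ≫ f) g) ∣_ U')) :
    ∃ (U : Scheme.{u}) (g : U ⟶ S) (u : U), Etale g ∧ g u = s ∧
      ∃ (n : ℕ) (lab : Fin n → ι) (V : Fin n → (pullback f g).Opens),
        (∀ k, Q ((V k).ι ≫ pullback.snd f g) ∧
          ∃ w : ↑(pullback f g), w ∈ V k ∧ pullback.snd f g w = u) ∧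
        (∀ (k k' : Fin n) (w : ↑(pullback f g)), w ∈ V k → w ∈ V k' →
          pullback.snd f g w = u → k = k') ∧
        (∀ (w : ↑(pullback f g)) (i : ι), pullback.snd f g w = u → pullback.fst f g w = x i →
          ∃ k, lab k = i ∧ w ∈ V k) := by
  -- points of W
  let x' : ι → ↥(W : Scheme.{u}) := fun i => ⟨x i, hxW i⟩
  have hx'inj : Function.Injective x' := fun i i' h => hinj (congrArg Subtype.val h)
  have hs' : ∀ i, (W.ι ≫ f) (x' i) = s := fun i => hs i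
  haveI : LocallyQuasiFinite (W.ι ≫ f) := locallyQuasiFinite_of_unramified _
  have hqf : ∀ i, (W.ι ≫ f).QuasiFiniteAt (x' i) := fun i => (W.ι ≫ f).quasiFiniteAt _
  obtain ⟨U, g, u, hg, hgu, n, idx, V, v, hvinj, H, Hall⟩ :=
    EtLocCore.core (W.ι ≫ f) s x' hx'inj hs' hqf
  haveI := hg
  haveI : FormallyUnramified (pullback.snd (W.ι ≫ f) g) :=
    MorphismProperty.pullback_snd (P := @FormallyUnramified) _ _ inferInstance
  -- neighbourhoods on which Q holds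
  have hU' : ∀ k, ∃ U' : U.Opens, u ∈ U' ∧
      Q (((V k).ι ≫ pullback.snd (W.ι ≫ f) g) ∣_ U') := by
    intro k
    obtain ⟨Hk, -, hpi⟩ := H k
    have hsurj := surjective_residueFieldMap_of_pi (pullback.snd (W.ι ≫ f) g) (v k) hpi
    let v' : ↥((V k : (pullback (W.ι ≫ f) g).Opens) : Scheme.{u}) := ⟨v k, Hk.mem⟩
    refine hloc U g (V k) u v' Hk.finite Hk.snd_eq ?_ ?_
    · intro w hw
      apply Subtype.ext
      exact Hk.uniq w.1 w.2 hw
    · have hcomp : ⇑(((V k).ι ≫ pullback.snd (W.ι ≫ f) g).residueFieldMap v').hom =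
          ⇑((V k).ι.residueFieldMap v').hom ∘
            ⇑((pullback.snd (W.ι ≫ f) g).residueFieldMap ((V k).ι v')).hom := by
        rw [Scheme.residueFieldMap_comp]; rfl
      rw [hcomp]
      exact (ConcreteCategory.bijective_of_isIso ((V k).ι.residueFieldMap v')).surjective.comp
        hsurj
  choose U'k huU'k hQk using hU'
  let U' : U.Opens := ⟨⋂ k, (U'k k : Set U), isOpen_iInter_of_finite fun k => (U'k k).2⟩
  have huU' : u ∈ U' := Set.mem_iInter.mpr huU'k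
  have hU'le : ∀ k, U' ≤ U'k k := fun k z hz => Set.mem_iInter.mp hz k
  have hQ' : ∀ k, Q (((V k).ι ≫ pullback.snd (W.ι ≫ f) g) ∣_ U') := fun k =>
    restrict_le hQres _ (hU'le k) (hQk k)
  let u' : ↥(U' : Scheme.{u}) := ⟨u, huU'⟩
  refine ⟨U', U'.ι ≫ g, u', inferInstance, hgu, n, idx,
    fun k => jMap f W g U' ''ᵁ (cMap f W g U' ⁻¹ᵁ V k), ?_, ?_, ?_⟩
  · intro k
    refine ⟨transport_Q f W g U' (V k) (hQ' k), ?_⟩
    obtain ⟨t, ht1, ht2⟩ := Scheme.exists_preimage_of_isPullback (isPullback_c f W g U') (v k) u'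
      (H k).1.snd_eq
    refine ⟨jMap f W g U' t, ⟨t, ?_, rfl⟩, ?_⟩
    · change cMap f W g U' t ∈ V k
      rw [ht1]; exact (H k).1.mem
    · rw [← Scheme.Hom.comp_apply, jMap_snd]; exact ht2
  · rintro k k' w hwk hwk' hw
    obtain ⟨t, ht, hwt⟩ := hwk
    obtain ⟨t', ht', hwt'⟩ := hwk'
    have hwt2 : jMap f W g U' t = w := hwt
    have hwt2' : jMap f W g U' t' = w := hwt'
    have : t' = t := (jMap f W g U').injective (hwt2'.trans hwt2.symm)
    subst this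
    have hsnd : pullback.snd (W.ι ≫ f) g (cMap f W g U' t') = u := by
      rw [← Scheme.Hom.comp_apply, cMap_snd, Scheme.Hom.comp_apply]
      rw [← hwt2, ← Scheme.Hom.comp_apply, jMap_snd] at hw
      rw [hw]; rfl
    apply hvinj
    rw [← (H k).1.uniq _ ht hsnd, ← (H k').1.uniq _ ht' hsnd]
  · intro w i hw1 hw2
    obtain ⟨t, hwt⟩ := mem_range_jMap f W g U' w (by rw [hw2]; exact hxW i)
    subst hwt
    have hsnd : pullback.snd (W.ι ≫ f) g (cMap f W g U' t) = u := by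
      rw [← Scheme.Hom.comp_apply, cMap_snd, Scheme.Hom.comp_apply]
      rw [← Scheme.Hom.comp_apply, jMap_snd] at hw1
      rw [hw1]; rfl
    have hfst : pullback.fst (W.ι ≫ f) g (cMap f W g U' t) = x' i := by
      rw [← Scheme.Hom.comp_apply, cMap_fst]
      apply W.ι.injective
      rw [← Scheme.Hom.comp_apply, ← jMap_fst, Scheme.Hom.comp_apply, hw2]
      rfl
    obtain ⟨k, hk, hck⟩ := Hall _ i hsnd hfst
    refine ⟨k, hk, ⟨t, ?_, rfl⟩⟩
    change cMap f W g U' t ∈ V k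
    rw [hck]; exact (H k).1.mem

end Groth.Agent.H1.EtLocFinal
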