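import Mathlib
import Groth.Agent.Lib.Helper1.EtLocCore
import Groth.Agent.Lib.Helper1.EtLocSep

set_option autoImplicit false
universe u

namespace Groth.Agent.H1.WtSplit

open AlgebraicGeometry CategoryTheory Limits

/-- Étale localization of a separated morphism at finitely many points of a fibre at which it is
quasi-finite, with pairwise disjoint closed finite parts. Output in general pullback form. -/
theorem sepSplit {U V : Scheme.{u}} (π : U ⟶ V) [IsSeparated π] [LocallyOfFiniteType π] (v : V)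
    {ι : Type} [Finite ι] (x : ι → U) (hinj : Function.Injective x) (hs : ∀ i, π (x i) = v)
    (hx : ∀ i, π.QuasiFiniteAt (x i)) :
    ∃ (V₁ : Scheme.{u}) (e : V₁ ⟶ V) (v₁ : V₁) (P : Scheme.{u}) (fst : P ⟶ U) (snd : P ⟶ V₁),
      Etale e ∧ e v₁ = v ∧ IsPullback fst snd π e ∧
      ∃ (n : ℕ) (idx : Fin n → ι) (T : Fin n → P.Opens) (t : Fin n → P),
        (∀ k k', k ≠ k' → Disjoint (T k : Set P) (T k')) ∧
        (∀ k, IsClosed (T k : Set P)) ∧
        (∀ k, EtLoc.FinPart fst snd v₁ (x (idx k)) (T k) (t k) ∧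
          (snd.residueFieldMap (t k)).hom.Finite ∧
          (letI := (snd.residueFieldMap (t k)).hom.toAlgebra
           IsPurelyInseparable (V₁.residueField (snd (t k))) (P.residueField (t k)))) ∧
        (∀ (w : P) (i : ι), snd w = v₁ → fst w = x i → ∃ k, idx k = i ∧ w = t k) := by
  obtain ⟨V₁, e, v₁, he, hev, n, idx, T₀, t₀, ht₀inj, H, Hall⟩ := EtLocCore.core π v x hinj hs hx
  haveI := he
  set q := pullback.snd π e with hq
  set p := pullback.fst π e with hp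
  haveI : IsSeparated q := inferInstance
  have hclosed : ∀ k, IsClosed (T₀ k : Set ↑(pullback π e)) := fun k => (H k).1.isClosed
  let Z : Fin n → Fin n → Set V₁ := fun k k' =>
    q '' ((T₀ k : Set ↑(pullback π e)) ∩ T₀ k')
  have hZclosed : ∀ k k', IsClosed (Z k k') := by
    intro k k'
    haveI := (H k).1.finite
    have h1 : Z k k' = ((T₀ k).ι ≫ q) '' ((T₀ k).ι ⁻¹' (T₀ k' : Set _)) := by
      ext z
      constructor
      · rintro ⟨w, ⟨hw1, hw2⟩, rfl⟩
        let w' : ↥((T₀ k : (pullback π e).Opens) : Scheme.{u}) := ⟨w, hw1⟩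
        exact ⟨w', hw2, rfl⟩
      · rintro ⟨w', hw', rfl⟩
        exact ⟨(T₀ k).ι w', ⟨w'.2, hw'⟩, rfl⟩
    rw [h1]
    exact ((T₀ k).ι ≫ q).isClosedMap _ ((hclosed k').preimage (T₀ k).ι.continuous)
  have hvZ : ∀ k k', k ≠ k' → v₁ ∉ Z k k' := by
    rintro k k' hne ⟨w, ⟨hw1, hw2⟩, hwu⟩
    apply hne
    apply ht₀inj
    rw [← (H k).1.uniq w hw1 hwu, ← (H k').1.uniq w hw2 hwu]
  let N : V₁.Opens := ⟨⋂ pr : {pr : Fin n × Fin n // pr.1 ≠ pr.2}, (Z pr.1.1 pr.1.2)ᶜ,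
    isOpen_iInter_of_finite fun pr => (hZclosed _ _).isOpen_compl⟩
  have hvN : v₁ ∈ N := Set.mem_iInter.mpr fun pr => hvZ _ _ pr.2
  have hNZ : ∀ k k', k ≠ k' → ∀ z ∈ N, z ∉ Z k k' := fun k k' hne z hz =>
    Set.mem_iInter.mp hz ⟨(k, k'), hne⟩
  let P : (pullback π e).Opens := q ⁻¹ᵁ N
  let snd' : (P : Scheme.{u}) ⟶ (N : Scheme.{u}) := q ∣_ N
  have hsq : IsPullback P.ι snd' q N.ι := (isPullback_morphismRestrict q N).flip
  have hpb : IsPullback (P.ι ≫ p) snd' π (N.ι ≫ e) :=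
    hsq.paste_horiz (IsPullback.of_hasPullback π e)
  have hι : ∀ w : ↥(P : Scheme.{u}), N.ι (snd' w) = q (P.ι w) := by
    intro w
    change (snd' ≫ N.ι) w = (P.ι ≫ q) w
    rw [hsq.w]
  let v₁' : ↥(N : Scheme.{u}) := ⟨v₁, hvN⟩
  have htP : ∀ k, t₀ k ∈ P := by
    intro k
    change q (t₀ k) ∈ N
    rw [(H k).1.snd_eq]; exact hvN
  let t : Fin n → ↥(P : Scheme.{u}) := fun k => ⟨t₀ k, htP k⟩
  let T : Fin n → (P : Scheme.{u}).Opens := fun k => P.ι ⁻¹ᵁ T₀ k
  refine ⟨N, N.ι ≫ e, v₁', P, P.ι ≫ p, snd', inferInstance, hev, hpb, n, idx, T, t, ?_, ?_, ?_, ?_⟩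
  · intro k k' hne
    rw [Set.disjoint_left]
    intro w hw hw'
    refine hNZ k k' hne (q (P.ι w)) ?_ ⟨P.ι w, ⟨hw, hw'⟩, rfl⟩
    rw [← hι]; exact (snd' w).2
  · intro k
    exact (hclosed k).preimage P.ι.continuous
  · intro k
    obtain ⟨Hk, hfin, hpi⟩ := H k
    have hsnd_t : snd' (t k) = v₁' := by
      apply N.ι.injective
      rw [hι]
      exact Hk.snd_eq
    refine ⟨⟨Hk.mem, ?_, hsnd_t, Hk.fst_eq, ?_⟩, ?_⟩
    · haveI := Hk.finite
      have hpb2 : IsPullback (P.ι ∣_ T₀ k) ((T k).ι ≫ snd') ((T₀ k).ι ≫ q) N.ι :=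
        (isPullback_morphismRestrict P.ι (T₀ k)).paste_vert hsq
      exact MorphismProperty.of_isPullback hpb2 inferInstance
    · intro w hw hwv
      apply P.ι.injective
      refine Hk.uniq (P.ι w) hw ?_
      rw [← hι, hwv]; rfl
    · have hsq' : P.ι ≫ q = snd' ≫ N.ι := hsq.w
      exact EtLocCore.finite_pi_of_square hsq' (t k)
        (ConcreteCategory.bijective_of_isIso (N.ι.residueFieldMap (snd' (t k))))
        (ConcreteCategory.bijective_of_isIso (P.ι.residueFieldMap (t k))) hfin hpi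
  · intro w i hw1 hw2
    have h1 : q (P.ι w) = v₁ := by rw [← hι, hw1]; rfl
    obtain ⟨k, hk, hwk⟩ := Hall (P.ι w) i h1 hw2
    exact ⟨k, hk, P.ι.injective hwk⟩

end Groth.Agent.H1.WtSplit
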