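import Mathlib
import Groth.Prelude.Def_MoreMor
import Groth.Agent.Lib.Helper1.WtJ
import Groth.Agent.Lib.Helper1.WtSplit

set_option autoImplicit false
universe u

namespace Groth.Agent.H1.WtKey

open AlgebraicGeometry CategoryTheory Limits WtLift WtJ

/-- A general test datum for weightings of `f`: an étale `g : V ⟶ Y`, a pullback square
`P = X ×_Y V`, and an open immersion `j : U ⟶ P` with `U` finite over `V`. -/
structure Test {X Y : Scheme.{u}} (f : X ⟶ Y) where
  V : Scheme.{u}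
  g : V ⟶ Y
  P : Scheme.{u}
  fst : P ⟶ X
  snd : P ⟶ V
  U : Scheme.{u}
  j : U ⟶ P
  etale : Etale g
  pb : IsPullback fst snd f g
  open_j : IsOpenImmersion j
  fin : IsFinite (j ≫ snd)

namespace Test

variable {X Y : Scheme.{u}} {f : X ⟶ Y} (D : Test f)

instance : Etale D.g := D.etale
instance : IsOpenImmersion D.j := D.open_j
instance : IsFinite (D.j ≫ D.snd) := D.fin

/-- the finite map to the base -/
abbrev π : D.U ⟶ D.V := D.j ≫ D.snd
/-- the map to `X` -/
abbrev ρ : D.U ⟶ X := D.j ≫ D.fst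

/-- the integral of `w` -/
noncomputable def I (w : X → ℤ) : D.V → ℤ := MoreMor.fibreIntegral D.π (w ∘ D.ρ)

theorem finite_fiber (v : D.V) : (D.π ⁻¹' {v}).Finite :=
  Scheme.Hom.finite_preimage_singleton D.π v

end Test

/-- general form of the weighting condition -/
def GenWeighting {X Y : Scheme.{u}} (f : X ⟶ Y) (w : X → ℤ) : Prop :=
  ∀ D : Test f, IsLocallyConstant (D.I w)

theorem genWeighting_of_isWeighting {X Y : Scheme.{u}} {f : X ⟶ Y} {w : X → ℤ}
    (hw : MoreMor.IsWeighting f w) : GenWeighting f w := by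
  intro D
  let φ := D.pb.isoPullback
  have hφ1 : φ.hom ≫ pullback.fst f D.g = D.fst := D.pb.isoPullback_hom_fst
  have hφ2 : φ.hom ≫ pullback.snd f D.g = D.snd := D.pb.isoPullback_hom_snd
  let j' : D.U ⟶ pullback f D.g := D.j ≫ φ.hom
  let O₀ := j'.opensRange
  let i := j'.isoOpensRange
  have hi : i.hom ≫ O₀.ι = j' := j'.isoOpensRange_hom_ι
  have hcomm : i.hom ≫ O₀.ι ≫ pullback.snd f D.g = D.π := by
    rw [← Category.assoc, hi, Category.assoc, hφ2]
  have hfin : IsFinite (O₀.ι ≫ pullback.snd f D.g) := by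
    have : O₀.ι ≫ pullback.snd f D.g = i.inv ≫ D.π := by
      rw [← hcomm, Iso.inv_hom_id_assoc]
    rw [this]
    infer_instance
  have h1 := hw D.V D.g O₀ hfin
  have hpb : IsPullback i.hom D.π (O₀.ι ≫ pullback.snd f D.g) (𝟙 D.V) :=
    IsPullback.of_horiz_isIso ⟨by rw [hcomm, Category.comp_id]⟩
  haveI := hfin
  have key : ∀ v, D.I w v = MoreMor.fibreIntegral (O₀.ι ≫ pullback.snd f D.g)
      (fun u => w (pullback.fst f D.g (O₀.ι u))) v := by
    intro v
    obtain ⟨h2, -⟩ := fibreIntegral_baseChange (O₀.ι ≫ pullback.snd f D.g) D.π i.hom (𝟙 D.V) hpb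
      (fun u => w (pullback.fst f D.g (O₀.ι u))) v
      (Scheme.Hom.finite_preimage_singleton _ _)
    have h2' : MoreMor.fibreIntegral D.π ((fun u => w (pullback.fst f D.g (O₀.ι u))) ∘ i.hom) v =
        MoreMor.fibreIntegral (O₀.ι ≫ pullback.snd f D.g)
          (fun u => w (pullback.fst f D.g (O₀.ι u))) v := h2
    rw [← h2']
    unfold Test.I
    congr 1
    funext u
    change w ((D.j ≫ D.fst) u) = w ((i.hom ≫ O₀.ι ≫ pullback.fst f D.g) u)
    rw [← Category.assoc, hi, Category.assoc, hφ1]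
  have : D.I w = MoreMor.fibreIntegral (O₀.ι ≫ pullback.snd f D.g)
      (fun u => w (pullback.fst f D.g (O₀.ι u))) := funext key
  rw [this]
  exact h1

theorem isWeighting_of_genWeighting {X Y : Scheme.{u}} {f : X ⟶ Y} {w : X → ℤ}
    (hw : GenWeighting f w) : MoreMor.IsWeighting f w := by
  intro V g _ O hO
  exact hw
    { V := V, g := g, P := pullback f g, fst := pullback.fst f g, snd := pullback.snd f g
      U := O, j := O.ι, etale := inferInstance, pb := IsPullback.of_hasPullback f g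
      open_j := inferInstance, fin := hO }


/-- the local form of the weighting condition: only tests with a single geometric point over `v`. -/
def LocalCond {X Y : Scheme.{u}} (f : X ⟶ Y) (w : X → ℤ) : Prop :=
  ∀ D : Test f, ∀ v : D.V, MoreMor.fibreIntegral D.π (fun _ => 1) v = 1 →
    ∃ N : D.V.Opens, v ∈ N ∧ ∀ v' ∈ N, D.I w v' = D.I w v

theorem fibreIntegral_eq_JS_univ {P V : Scheme.{u}} (snd : P ⟶ V) (ω : P → ℤ) (v : V) :
    MoreMor.fibreIntegral snd ω v = JS snd ω Set.univ v := by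
  rw [fibreIntegral_def]
  unfold JS
  rw [Set.univ_inter, ← finsum_set_coe_eq_finsum_mem]
  rfl

theorem sepDeg_eq_one_of_pi {P V : Scheme.{u}} (snd : P ⟶ V) (p : P)
    (hpi : letI := (snd.residueFieldMap p).hom.toAlgebra
      IsPurelyInseparable (V.residueField (snd p)) (P.residueField p)) :
    sepDeg snd p = 1 := by
  unfold sepDeg
  letI := (snd.residueFieldMap p).hom.toAlgebra
  haveI := hpi
  exact IsPurelyInseparable.finSepDegree_eq_one _ _


section Sub

variable {X Y : Scheme.{u}} {f : X ⟶ Y} (D : Test f) {V₁ P₁ : Scheme.{u}} (e : V₁ ⟶ D.V)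
  [Etale e] (fst₁ : P₁ ⟶ D.U) (snd₁ : P₁ ⟶ V₁) (hpb : IsPullback fst₁ snd₁ D.π e)

/-- the comparison map `U ×_V V₁ ⟶ P ×_V V₁`. -/
noncomputable def subMap : P₁ ⟶ pullback D.snd e :=
  pullback.lift (fst₁ ≫ D.j) snd₁ (by rw [Category.assoc]; exact hpb.w)

omit [Etale e] in
include hpb in
theorem isOpenImmersion_subMap : IsOpenImmersion (subMap D e fst₁ snd₁ hpb) := by
  have h1 : subMap D e fst₁ snd₁ hpb ≫ pullback.snd D.snd e = snd₁ := pullback.lift_snd _ _ _
  have h2 : subMap D e fst₁ snd₁ hpb ≫ pullback.fst D.snd e = fst₁ ≫ D.j := pullback.lift_fst _ _ _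
  have s : IsPullback (subMap D e fst₁ snd₁ hpb ≫ pullback.snd D.snd e) fst₁ e (D.j ≫ D.snd) := by
    rw [h1]; exact hpb.flip
  have t := IsPullback.of_right s h2 (IsPullback.of_hasPullback D.snd e).flip
  exact MorphismProperty.of_isPullback (P := @IsOpenImmersion) t.flip inferInstance

/-- a sub-test: an open immersion `jT : W ⟶ U ×_V V₁` with `W` finite over `V₁`. -/
noncomputable def Test.sub {W : Scheme.{u}} (jT : W ⟶ P₁) [IsOpenImmersion jT]
    (hT : IsFinite (jT ≫ snd₁)) : Test f where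
  V := V₁
  g := e ≫ D.g
  P := pullback D.snd e
  fst := pullback.fst D.snd e ≫ D.fst
  snd := pullback.snd D.snd e
  U := W
  j := jT ≫ subMap D e fst₁ snd₁ hpb
  etale := inferInstance
  pb := (IsPullback.of_hasPullback D.snd e).paste_horiz D.pb
  open_j := by
    haveI := isOpenImmersion_subMap D e fst₁ snd₁ hpb
    infer_instance
  fin := by
    have : (jT ≫ subMap D e fst₁ snd₁ hpb) ≫ pullback.snd D.snd e = jT ≫ snd₁ := by
      rw [Category.assoc]; congr 1; exact pullback.lift_snd _ _ _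
    rw [this]; exact hT

theorem Test.sub_π {W : Scheme.{u}} (jT : W ⟶ P₁) [IsOpenImmersion jT]
    (hT : IsFinite (jT ≫ snd₁)) :
    (D.sub e fst₁ snd₁ hpb jT hT).π = jT ≫ snd₁ := by
  change (jT ≫ subMap D e fst₁ snd₁ hpb) ≫ pullback.snd D.snd e = jT ≫ snd₁
  rw [Category.assoc]; congr 1; exact pullback.lift_snd _ _ _

theorem Test.sub_ρ {W : Scheme.{u}} (jT : W ⟶ P₁) [IsOpenImmersion jT]
    (hT : IsFinite (jT ≫ snd₁)) :
    (D.sub e fst₁ snd₁ hpb jT hT).ρ = jT ≫ fst₁ ≫ D.ρ := by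
  change (jT ≫ subMap D e fst₁ snd₁ hpb) ≫ pullback.fst D.snd e ≫ D.fst = jT ≫ fst₁ ≫ D.j ≫ D.fst
  rw [Category.assoc, ← Category.assoc (subMap D e fst₁ snd₁ hpb)]
  have : subMap D e fst₁ snd₁ hpb ≫ pullback.fst D.snd e = fst₁ ≫ D.j := pullback.lift_fst _ _ _
  rw [this, Category.assoc]

theorem Test.sub_I {W : Scheme.{u}} (jT : W ⟶ P₁) [IsOpenImmersion jT]
    (hT : IsFinite (jT ≫ snd₁)) (w : X → ℤ) :
    (D.sub e fst₁ snd₁ hpb jT hT).I w =
      MoreMor.fibreIntegral (jT ≫ snd₁) ((w ∘ D.ρ ∘ fst₁) ∘ jT) := by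
  unfold Test.I
  rw [Test.sub_π, Test.sub_ρ]
  rfl

end Sub


/-- Key lemma: the local condition implies the weighting condition. -/
theorem genWeighting_of_localCond {X Y : Scheme.{u}} {f : X ⟶ Y} {w : X → ℤ}
    (H : LocalCond f w) : GenWeighting f w := by
  intro D
  rw [IsLocallyConstant.iff_exists_open]
  intro v
  -- enumerate the fibre
  have hfib := D.finite_fiber v
  haveI : Finite ↥(D.π ⁻¹' {v}) := hfib
  let m := Nat.card ↥(D.π ⁻¹' {v})
  let en : ↥(D.π ⁻¹' {v}) ≃ Fin m := Finite.equivFin _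
  let x : Fin m → D.U := fun i => (en.symm i).1
  have hxinj : Function.Injective x := fun i i' h => en.symm.injective (Subtype.ext h)
  have hxs : ∀ i, D.π (x i) = v := fun i => (en.symm i).2
  have hxall : ∀ u : D.U, D.π u = v → ∃ i, x i = u := by
    intro u hu
    refine ⟨en ⟨u, hu⟩, ?_⟩
    change (en.symm (en ⟨u, hu⟩)).1 = u
    rw [Equiv.symm_apply_apply]
  obtain ⟨V₁, e, v₁, P₁, fst₁, snd₁, he, hev, hpb, n, idx, T, t, hdisj, hclosed, HT, Hall⟩ :=
    WtSplit.sepSplit D.π v x hxinj hxs (fun i => D.π.quasiFiniteAt (x i))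
  haveI := he
  haveI : IsFinite snd₁ := MorphismProperty.of_isPullback hpb inferInstance
  let ω₁ : P₁ → ℤ := w ∘ D.ρ ∘ fst₁
  -- the sub-tests
  have hN : ∀ k, ∃ N : V₁.Opens, v₁ ∈ N ∧ ∀ v' ∈ N, J snd₁ ω₁ (T k) v' = J snd₁ ω₁ (T k) v₁ := by
    intro k
    obtain ⟨Hk, hfin, hpi⟩ := HT k
    have h1 := H (D.sub e fst₁ snd₁ hpb (T k).ι Hk.finite) v₁ (by
      rw [Test.sub_π]
      change J snd₁ (fun _ => 1) (T k) v₁ = 1
      rw [J_eq_JS]
      have hsing : (T k : Set P₁) ∩ snd₁ ⁻¹' {v₁} = {t k} := by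
        ext p
        constructor
        · rintro ⟨hp1, hp2⟩
          exact Hk.uniq p hp1 hp2
        · rintro rfl
          exact ⟨Hk.mem, Hk.snd_eq⟩
      rw [JS_singleton snd₁ _ hsing, sepDeg_eq_one_of_pi snd₁ (t k) hpi]
      rfl)
    rw [Test.sub_I] at h1
    exact h1
  choose Nk hvNk hNk using hN
  -- the complement
  let W : Set P₁ := (⋃ k, (T k : Set P₁))ᶜ
  have hWclosed : IsClosed W := (isOpen_iUnion fun k => (T k).2).isClosed_compl
  have hsW : IsClosed (snd₁ '' W) := snd₁.isClosedMap _ hWclosed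
  have hv₁W : v₁ ∉ snd₁ '' W := by
    rintro ⟨p, hpW, hpv⟩
    have hπ : D.π (fst₁ p) = v := by
      have : (fst₁ ≫ D.π) p = (snd₁ ≫ e) p := by rw [hpb.w]
      change D.π (fst₁ p) = e (snd₁ p) at this
      rw [this, hpv, hev]
    obtain ⟨i, hi⟩ := hxall _ hπ
    obtain ⟨k, -, hk⟩ := Hall p i hpv hi.symm
    exact hpW (Set.mem_iUnion.mpr ⟨k, hk ▸ (HT k).1.mem⟩)
  let N : V₁.Opens := ⟨(snd₁ '' W)ᶜ ∩ ⋂ k, (Nk k : Set V₁),
    hsW.isOpen_compl.inter (isOpen_iInter_of_finite fun k => (Nk k).2)⟩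
  have hv₁N : v₁ ∈ N := ⟨hv₁W, Set.mem_iInter.mpr hvNk⟩
  -- the integral on `V₁`
  have htotal : ∀ v' ∈ N, D.I w (e v') = ∑ k, J snd₁ ω₁ (T k) v' := by
    intro v' hv'
    obtain ⟨hbc, -⟩ := fibreIntegral_baseChange D.π snd₁ fst₁ e hpb (w ∘ D.ρ) v'
      (D.finite_fiber _)
    have hbc' : MoreMor.fibreIntegral snd₁ ω₁ v' = D.I w (e v') := hbc
    rw [← hbc', fibreIntegral_eq_JS_univ]
    have hfinf : ∀ O : Set P₁, (O ∩ snd₁ ⁻¹' {v'}).Finite := fun O =>
      (Scheme.Hom.finite_preimage_singleton snd₁ v').subset Set.inter_subset_right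
    have huniv : (Set.univ : Set P₁) = (⋃ k, (T k : Set P₁)) ∪ W := by
      rw [Set.union_compl_self]
    rw [huniv, JS_union snd₁ ω₁ disjoint_compl_right (hfinf _) (hfinf _),
      JS_iUnion snd₁ ω₁ (fun k => (T k : Set P₁)) hdisj (fun k => hfinf _)]
    have hW0 : JS snd₁ ω₁ W v' = 0 := by
      apply JS_of_fiber_empty
      rw [Set.eq_empty_iff_forall_notMem]
      rintro p ⟨hpW, hpv⟩
      exact hv'.1 ⟨p, hpW, hpv⟩
    rw [hW0, add_zero]
    refine Finset.sum_congr rfl (fun k _ => ?_)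
    rw [J_eq_JS]
  refine ⟨e '' (N : Set V₁), e.isOpenMap _ N.2, ⟨v₁, hv₁N, hev⟩, ?_⟩
  rintro _ ⟨v', hv', rfl⟩
  rw [htotal v' hv', ← hev, htotal v₁ hv₁N]
  refine Finset.sum_congr rfl (fun k _ => ?_)
  exact hNk k v' (Set.mem_iInter.mp hv'.2 k)

end Groth.Agent.H1.WtKey
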