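import Mathlib
import Groth.Prelude.Def_MoreMor
import Groth.Agent.Lib.Helper1.WtKey

set_option autoImplicit false
universe u

namespace Groth.Agent.H1.WtBasic

open AlgebraicGeometry CategoryTheory Limits WtLift WtJ WtKey

section Unique

variable {U V : Scheme.{u}}

/-- if the fibre over `v` is `{u}`, the integral is the local term at `u`. -/
theorem fibreIntegral_of_unique (π : U ⟶ V) (ω : U → ℤ) (v : V) (u : U) (hu : π u = v)
    (huniq : ∀ u', π u' = v → u' = u) :
    MoreMor.fibreIntegral π ω v = ω u * (sepDeg π u : ℤ) := by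
  rw [fibreIntegral_eq_JS_univ]
  apply JS_singleton
  ext p
  constructor
  · rintro ⟨-, hp⟩
    exact huniq p hp
  · rintro rfl
    exact ⟨trivial, hu⟩

/-- `∫ 1 = 1` means exactly one geometric point in the fibre. -/
theorem unique_of_integral_one (π : U ⟶ V) [LocallyQuasiFinite π] (v : V)
    (hfin : (π ⁻¹' {v}).Finite)
    (h1 : MoreMor.fibreIntegral π (fun _ => 1) v = 1) :
    ∃ u, π u = v ∧ (∀ u', π u' = v → u' = u) ∧ sepDeg π u = 1 := by
  classical
  rw [fibreIntegral_def] at h1
  haveI : Finite {u : U // π u = v} := hfin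
  letI : Fintype {u : U // π u = v} := Fintype.ofFinite _
  rw [finsum_eq_sum_of_fintype] at h1
  simp only [one_mul] at h1
  have hpos : ∀ u : {u : U // π u = v}, (1 : ℤ) ≤ (sepDeg π u.1 : ℤ) := fun u => by
    have := sepDeg_pos π u.1 (finite_res_of_lqf π u.1)
    exact_mod_cast this
  have hne : (Finset.univ : Finset {u : U // π u = v}).Nonempty := by
    by_contra hcon
    rw [Finset.not_nonempty_iff_eq_empty] at hcon
    rw [hcon, Finset.sum_empty] at h1
    exact zero_ne_one h1
  obtain ⟨u₀, -⟩ := hne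
  have hle : ∀ u : {u : U // π u = v}, u ≠ u₀ → False := by
    intro u hne'
    have h2 : (sepDeg π u₀.1 : ℤ) + (sepDeg π u.1 : ℤ) ≤
        ∑ u : {u : U // π u = v}, (sepDeg π u.1 : ℤ) := by
      have hsub : ({u₀, u} : Finset {u : U // π u = v}) ⊆ Finset.univ := Finset.subset_univ _
      have := Finset.sum_le_sum_of_subset_of_nonneg hsub
        (f := fun u : {u : U // π u = v} => (sepDeg π u.1 : ℤ))
        (fun i _ _ => Int.natCast_nonneg _)
      rwa [Finset.sum_pair hne'.symm] at this
    have := hpos u₀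
    have := hpos u
    omega
  have hall : ∀ u : {u : U // π u = v}, u = u₀ := fun u => by
    by_contra hcon
    exact hle u hcon
  refine ⟨u₀.1, u₀.2, fun u' hu' => congrArg Subtype.val (hall ⟨u', hu'⟩), ?_⟩
  have : (Finset.univ : Finset {u : U // π u = v}) = {u₀} := by
    ext u
    simp [hall u]
  rw [this, Finset.sum_singleton] at h1
  exact_mod_cast h1

end Unique


section Charts

variable {X Y : Scheme.{u}} (f : X ⟶ Y)

/-- the test attached to an open of the canonical pullback -/
noncomputable def Test.ofOpen {V : Scheme.{u}} (e : V ⟶ Y) [Etale e] (T : (pullback f e).Opens)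
    (hT : IsFinite (T.ι ≫ pullback.snd f e)) : Test f where
  V := V
  g := e
  P := pullback f e
  fst := pullback.fst f e
  snd := pullback.snd f e
  U := T
  j := T.ι
  etale := inferInstance
  pb := IsPullback.of_hasPullback f e
  open_j := inferInstance
  fin := hT

/-- charts around a point at which `f` is quasi-finite, covering all points over `(x, v)`. -/
theorem exists_charts [LocallyOfFiniteType f] (x : X) (hx : f.QuasiFiniteAt x) :
    ∃ (V : Scheme.{u}) (e : V ⟶ Y) (v : V), Etale e ∧ e v = f x ∧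
      ∃ (n : ℕ) (T : Fin n → (pullback f e).Opens) (t : Fin n → ↑(pullback f e)),
        (∀ k, IsFinite ((T k).ι ≫ pullback.snd f e) ∧ t k ∈ T k ∧ pullback.snd f e (t k) = v ∧
          pullback.fst f e (t k) = x ∧ (∀ p ∈ T k, pullback.snd f e p = v → p = t k) ∧
          sepDeg (pullback.snd f e) (t k) = 1) ∧
        ∀ p, pullback.snd f e p = v → pullback.fst f e p = x → ∃ k, p = t k := by
  obtain ⟨V, e, v, he, hev, n, idx, T, t, -, H, Hall⟩ :=
    EtLocCore.core f (f x) (fun _ : Unit => x) (fun _ _ _ => rfl) (fun _ => rfl) (fun _ => hx)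
  refine ⟨V, e, v, he, hev, n, T, t, ?_, ?_⟩
  · intro k
    obtain ⟨Hk, -, hpi⟩ := H k
    exact ⟨Hk.finite, Hk.mem, Hk.snd_eq, Hk.fst_eq, Hk.uniq, sepDeg_eq_one_of_pi _ _ hpi⟩
  · intro p hp1 hp2
    obtain ⟨k, -, hk⟩ := Hall p () hp1 hp2
    exact ⟨k, hk⟩

/-- a single chart at a point. -/
theorem exists_chart [LocallyOfFiniteType f] (x : X) (hx : f.QuasiFiniteAt x) :
    ∃ (D : Test f) (u : D.U), D.ρ u = x ∧ D.g (D.π u) = f x ∧
      (∀ u', D.π u' = D.π u → u' = u) ∧ sepDeg D.π u = 1 := by
  obtain ⟨V, e, v, he, hev, n, T, t, H, Hall⟩ := exists_charts f x hx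
  haveI := he
  obtain ⟨p, hp1, hp2⟩ := Scheme.Pullback.exists_preimage_pullback x v hev.symm
  obtain ⟨k, rfl⟩ := Hall p hp2 hp1
  obtain ⟨hfin, hmem, hsnd, hfst, huniq, hdeg⟩ := H k
  refine ⟨Test.ofOpen f e (T k) hfin, ⟨t k, hmem⟩, hfst, ?_, ?_, ?_⟩
  · change e (pullback.snd f e (t k)) = f x
    rw [hsnd, hev]
  · intro u' hu'
    apply Subtype.ext
    exact huniq u'.1 u'.2 (hu'.trans hsnd)
  · let u₀ : ↥((T k : (pullback f e).Opens) : Scheme.{u}) := ⟨t k, hmem⟩
    change sepDeg ((T k).ι ≫ pullback.snd f e) u₀ = 1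
    rw [sepDeg_comp_openImmersion]
    exact hdeg

end Charts


section Restrict

variable {X Y : Scheme.{u}} (f : X ⟶ Y)

/-- restriction of a weighting to an open subscheme of the source (general open immersion). -/
theorem genWeighting_restrict {X' : Scheme.{u}} (i : X' ⟶ X) [IsOpenImmersion i] {w : X → ℤ}
    (hw : GenWeighting f w) : GenWeighting (i ≫ f) (w ∘ i) := by
  intro D'
  let c : D'.P ⟶ pullback f D'.g := pullback.lift (D'.fst ≫ i) D'.snd
    (by rw [Category.assoc]; exact D'.pb.w)
  have hc1 : c ≫ pullback.fst f D'.g = D'.fst ≫ i := pullback.lift_fst _ _ _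
  have hc2 : c ≫ pullback.snd f D'.g = D'.snd := pullback.lift_snd _ _ _
  have hbig : IsPullback D'.fst (c ≫ pullback.snd f D'.g) (i ≫ f) D'.g := by
    rw [hc2]; exact D'.pb
  have htop : IsPullback D'.fst c i (pullback.fst f D'.g) :=
    IsPullback.of_bot hbig hc1.symm (IsPullback.of_hasPullback f D'.g)
  haveI : IsOpenImmersion c := MorphismProperty.of_isPullback (P := @IsOpenImmersion) htop
    inferInstance
  have hπ : (D'.j ≫ c) ≫ pullback.snd f D'.g = D'.π := by
    rw [Category.assoc, hc2]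
  have hρ : (D'.j ≫ c) ≫ pullback.fst f D'.g = D'.ρ ≫ i := by
    rw [Category.assoc, hc1, Category.assoc]
  let D : Test f :=
    { V := D'.V, g := D'.g, P := pullback f D'.g, fst := pullback.fst f D'.g
      snd := pullback.snd f D'.g, U := D'.U, j := D'.j ≫ c, etale := inferInstance
      pb := IsPullback.of_hasPullback f D'.g, open_j := inferInstance
      fin := by rw [hπ]; exact D'.fin }
  have key : D'.I (w ∘ i) = D.I w := by
    unfold Test.I
    change MoreMor.fibreIntegral D'.π ((w ∘ i) ∘ D'.ρ) =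
      MoreMor.fibreIntegral ((D'.j ≫ c) ≫ pullback.snd f D'.g)
        (w ∘ ((D'.j ≫ c) ≫ pullback.fst f D'.g))
    rw [hπ, hρ]
    rfl
  rw [key]
  exact hw D

end Restrict

end Groth.Agent.H1.WtBasic
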