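import Mathlib
import Groth.Prelude.Def_MoreMor
import Groth.Agent.Lib.Helper1.WtBasic

set_option autoImplicit false
universe u

namespace Groth.Agent.H1.WtPos

open AlgebraicGeometry CategoryTheory Limits WtLift WtJ WtKey WtBasic

theorem term_le_fibreIntegral {U V : Scheme.{u}} (π : U ⟶ V) (ω : U → ℤ) (v : V)
    (hfin : (π ⁻¹' {v}).Finite) (hω : ∀ u, π u = v → 0 ≤ ω u) (u : U) (hu : π u = v) :
    ω u * (sepDeg π u : ℤ) ≤ MoreMor.fibreIntegral π ω v := by
  rw [fibreIntegral_eq_JS_univ]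
  have h1 : JS π ω ({u} ∩ π ⁻¹' {v}) v = ω u * (sepDeg π u : ℤ) := by
    apply JS_singleton
    ext p
    constructor
    · rintro ⟨⟨hp, -⟩, -⟩; exact hp
    · rintro rfl; exact ⟨⟨rfl, hu⟩, hu⟩
  have h2 : JS π ω Set.univ v = JS π ω (π ⁻¹' {v}) v := by
    apply JS_congr
    rw [Set.univ_inter, Set.inter_self]
  rw [← h1, h2]
  refine JS_mono π ω Set.inter_subset_right ?_ (fun p hp => hω p hp)
  exact hfin.subset Set.inter_subset_left

/-- `D.fst` is étale. -/
theorem Test.etale_fst {X Y : Scheme.{u}} {f : X ⟶ Y} (D : Test f) : Etale D.fst :=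
  MorphismProperty.of_isPullback (P := @Etale) D.pb.flip D.etale

theorem Test.isOpenMap_ρ {X Y : Scheme.{u}} {f : X ⟶ Y} (D : Test f) : IsOpenMap D.ρ := by
  haveI := Test.etale_fst D
  haveI : Etale D.ρ := inferInstance
  exact D.ρ.isOpenMap

/-- value of the integral at a point with a single geometric point above. -/
theorem Test.I_of_unique {X Y : Scheme.{u}} {f : X ⟶ Y} (D : Test f) (w : X → ℤ) (u : D.U)
    (huniq : ∀ u', D.π u' = D.π u → u' = u) (hdeg : sepDeg D.π u = 1) :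
    D.I w (D.π u) = w (D.ρ u) := by
  unfold Test.I
  rw [fibreIntegral_of_unique D.π _ (D.π u) u rfl huniq, hdeg]
  simp

/-- a positive weighting is upper semicontinuous -/
theorem upperSemicontinuous {X Y : Scheme.{u}} (f : X ⟶ Y) [LocallyQuasiFinite f]
    [LocallyOfFiniteType f] (w : X → ℤ) (hw : GenWeighting f w) (hpos : ∀ x, 0 < w x) :
    UpperSemicontinuous w := by
  intro x y hy
  obtain ⟨D, u, hρ, -, huniq, hdeg⟩ := exists_chart f x (f.quasiFiniteAt x)
  have hlc := hw D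
  rw [IsLocallyConstant.iff_exists_open] at hlc
  obtain ⟨N, hNo, hvN, hN⟩ := hlc (D.π u)
  have hval : D.I w (D.π u) = w x := by rw [Test.I_of_unique D w u huniq hdeg, hρ]
  have hopen : IsOpen (D.ρ '' (D.π ⁻¹' N)) :=
    Test.isOpenMap_ρ D _ (hNo.preimage D.π.continuous)
  have hx : x ∈ D.ρ '' (D.π ⁻¹' N) := ⟨u, hvN, hρ⟩
  refine Filter.mem_of_superset (hopen.mem_nhds hx) ?_
  rintro _ ⟨u', hu', rfl⟩
  change w (D.ρ u') < y
  have h1 := term_le_fibreIntegral D.π (w ∘ D.ρ) (D.π u') (D.finite_fiber _)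
    (fun u'' _ => (hpos _).le) u' rfl
  have h2 : D.I w (D.π u') = w x := by rw [hN _ hu', hval]
  have h3 : (1 : ℤ) ≤ (sepDeg D.π u' : ℤ) := by
    have := sepDeg_pos D.π u' (finite_res_of_lqf D.π u')
    exact_mod_cast this
  have h4 : w (D.ρ u') ≤ (w ∘ D.ρ) u' * (sepDeg D.π u' : ℤ) := by
    have := hpos (D.ρ u')
    change w (D.ρ u') ≤ w (D.ρ u') * _
    nlinarith
  have h5 : MoreMor.fibreIntegral D.π (w ∘ D.ρ) (D.π u') = w x := h2
  linarith

end Groth.Agent.H1.WtPos
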