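import Mathlib
import Groth.Prelude.Def_MoreMor
import Groth.Agent.Lib.Helper1.WtPos

set_option autoImplicit false
universe u

namespace Groth.Agent.H1.WtSep

open AlgebraicGeometry CategoryTheory Limits WtLift WtJ WtKey WtBasic WtPos

/-- Structure of a separated locally quasi-finite morphism with finite fibres and a weighting,
étale locally around a point of the base. -/
theorem sep_structure {X Y : Scheme.{u}} (f : X ⟶ Y) [LocallyQuasiFinite f] [LocallyOfFiniteType f]
    [IsSeparated f] (hfin : ∀ y : Y, (f ⁻¹' {y}).Finite) (w : X → ℤ) (hw : GenWeighting f w)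
    (y : Y) :
    ∃ (V₁ : Scheme.{u}) (e : V₁ ⟶ Y) (v₁ : V₁) (P : Scheme.{u}) (fst : P ⟶ X) (snd : P ⟶ V₁),
      Etale e ∧ e v₁ = y ∧ IsPullback fst snd f e ∧
      ∃ (O : P.Opens) (N : V₁.Opens), v₁ ∈ N ∧ IsClosed (O : Set P) ∧ IsFinite (O.ι ≫ snd) ∧
        (∀ v' ∈ N, JS snd (w ∘ fst) (O : Set P) v' = MoreMor.fibreIntegral f w y) ∧
        (∀ v', MoreMor.fibreIntegral f w (e v') = JS snd (w ∘ fst) Set.univ v' ∧
          (snd ⁻¹' {v'}).Finite) := by
  haveI : Finite ↥(f ⁻¹' {y}) := hfin y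
  let m := Nat.card ↥(f ⁻¹' {y})
  let en : ↥(f ⁻¹' {y}) ≃ Fin m := Finite.equivFin _
  let x : Fin m → X := fun i => (en.symm i).1
  have hxinj : Function.Injective x := fun i i' h => en.symm.injective (Subtype.ext h)
  have hxs : ∀ i, f (x i) = y := fun i => (en.symm i).2
  have hxall : ∀ u : X, f u = y → ∃ i, x i = u := by
    intro u hu
    refine ⟨en ⟨u, hu⟩, ?_⟩
    change (en.symm (en ⟨u, hu⟩)).1 = u
    rw [Equiv.symm_apply_apply]
  obtain ⟨V₁, e, v₁, P, fst, snd, he, hev, hpb, n, idx, T, t, hdisj, hclosed, HT, Hall⟩ :=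
    WtSplit.sepSplit f y x hxinj hxs (fun i => f.quasiFiniteAt (x i))
  haveI := he
  haveI : IsSeparated snd := MorphismProperty.of_isPullback hpb inferInstance
  haveI : LocallyOfFiniteType snd := MorphismProperty.of_isPullback hpb inferInstance
  haveI : LocallyQuasiFinite snd := MorphismProperty.of_isPullback hpb inferInstance
  let O : P.Opens := ⨆ k, T k
  have hOfin : IsFinite (O.ι ≫ snd) := EtLoc.isFinite_iSup snd T (fun k => (HT k).1.finite)
  have hOclosed : IsClosed (O : Set P) := by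
    have : (O : Set P) = ⋃ k, (T k : Set P) := by
      ext p
      simp only [O, TopologicalSpace.Opens.coe_iSup]
    rw [this]
    exact isClosed_iUnion_of_finite hclosed
  let D : Test f :=
    { V := V₁, g := e, P := P, fst := fst, snd := snd, U := O, j := O.ι, etale := he, pb := hpb
      open_j := inferInstance, fin := hOfin }
  have hlc := hw D
  rw [IsLocallyConstant.iff_exists_open] at hlc
  obtain ⟨N, hNo, hvN, hN⟩ := hlc v₁
  have hDI : ∀ v', D.I w v' = JS snd (w ∘ fst) (O : Set P) v' := by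
    intro v'
    change J snd (w ∘ fst) O v' = _
    exact J_eq_JS _ _ _ _
  have hbc : ∀ v', MoreMor.fibreIntegral f w (e v') = JS snd (w ∘ fst) Set.univ v' ∧
      (snd ⁻¹' {v'}).Finite := by
    intro v'
    obtain ⟨h1, h2⟩ := fibreIntegral_baseChange f snd fst e hpb w v' (hfin _)
    exact ⟨by rw [← h1, fibreIntegral_eq_JS_univ], h2⟩
  refine ⟨V₁, e, v₁, P, fst, snd, he, hev, hpb, O, ⟨N, hNo⟩, hvN, hOclosed, hOfin, ?_, hbc⟩
  intro v' hv'
  rw [← hDI, hN v' hv', hDI, ← hev, (hbc v₁).1]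
  apply JS_congr
  ext p
  constructor
  · rintro ⟨-, hp⟩; exact ⟨trivial, hp⟩
  · rintro ⟨-, hp⟩
    refine ⟨?_, hp⟩
    have hπ : f (fst p) = y := by
      have : (fst ≫ f) p = (snd ≫ e) p := by rw [hpb.w]
      change f (fst p) = e (snd p) at this
      rw [this, hp, hev]
    obtain ⟨i, hi⟩ := hxall _ hπ
    obtain ⟨k, -, hk⟩ := Hall p i hp hi.symm
    have : p ∈ T k := hk ▸ (HT k).1.mem
    exact (le_iSup T k : T k ≤ O) this

/-- S1426: lower semicontinuity of the fibre integral. -/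
theorem lowerSemicontinuous {X Y : Scheme.{u}} (f : X ⟶ Y) [LocallyQuasiFinite f]
    [LocallyOfFiniteType f] [IsSeparated f] (hfin : ∀ y : Y, (f ⁻¹' {y}).Finite) (w : X → ℤ)
    (hw : GenWeighting f w) (hpos : ∀ x, 0 < w x) :
    LowerSemicontinuous (MoreMor.fibreIntegral f w) := by
  intro y c hc
  obtain ⟨V₁, e, v₁, P, fst, snd, he, hev, hpb, O, N, hvN, -, -, hO, hbc⟩ :=
    sep_structure f hfin w hw y
  haveI := he
  have hopen : IsOpen (e '' (N : Set V₁)) := e.isOpenMap _ N.2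
  refine Filter.mem_of_superset (hopen.mem_nhds ⟨v₁, hvN, hev⟩) ?_
  rintro _ ⟨v', hv', rfl⟩
  change c < MoreMor.fibreIntegral f w (e v')
  obtain ⟨h1, h2⟩ := hbc v'
  rw [h1]
  have h3 : JS snd (w ∘ fst) (O : Set P) v' ≤ JS snd (w ∘ fst) Set.univ v' :=
    JS_mono snd _ (Set.subset_univ _) (h2.subset Set.inter_subset_right)
      (fun p _ => (hpos _).le)
  rw [hO v' hv'] at h3
  exact lt_of_lt_of_le hc h3

end Groth.Agent.H1.WtSep
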