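import Mathlib
import Groth.Prelude.Def_MoreMor
import Groth.Agent.Lib.Helper1.WtSep
import Groth.Agent.Lib.Helper5.AlgSp.FppfLocal

set_option autoImplicit false
universe u

namespace Groth.Agent.H1.WtMax

open AlgebraicGeometry CategoryTheory Limits WtLift WtJ WtKey WtBasic WtPos WtSep MorphismProperty

/-- fppf descent of properness along a jointly surjective family. -/
theorem isProper_of_flat_family {X Y : Scheme.{u}} (f : X ⟶ Y) (U : Y → Scheme.{u})
    (g : ∀ y, U y ⟶ Y) (hg : ∀ y, Flat (g y) ∧ LocallyOfFinitePresentation (g y))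
    (hy : ∀ y, y ∈ Set.range (g y)) (h : ∀ y, IsProper (pullback.snd f (g y))) : IsProper f := by
  let p : ∐ U ⟶ Y := Sigma.desc g
  have hp : (@Surjective ⊓ @Flat ⊓ @LocallyOfFinitePresentation : MorphismProperty Scheme) p := by
    refine ⟨⟨⟨fun x => ?_⟩, ?_⟩, ?_⟩
    · obtain ⟨z, hz⟩ := hy x
      refine ⟨Sigma.ι U x z, ?_⟩
      rw [← Scheme.Hom.comp_apply, Sigma.ι_desc, hz]
    · exact IsZariskiLocalAtSource.sigmaDesc (P := @Flat) (fun x => (hg x).1)
    · exact IsZariskiLocalAtSource.sigmaDesc (P := @LocallyOfFinitePresentation)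
        (fun x => (hg x).2)
  refine MorphismProperty.of_pullback_snd_of_descendsAlong (P := @IsProper) (f := f) (g := p) hp ?_
  rw [IsZariskiLocalAtTarget.iff_of_openCover (P := @IsProper) (sigmaOpenCover U)]
  intro (x : Y)
  change IsProper (pullback.snd (pullback.snd f p) (Sigma.ι U x))
  have sq : IsPullback (pullback.fst (pullback.snd f p) (Sigma.ι U x) ≫ pullback.fst f p)
      (pullback.snd (pullback.snd f p) (Sigma.ι U x)) f (Sigma.ι U x ≫ p) :=
    IsPullback.paste_horiz (IsPullback.of_hasPullback _ _) (IsPullback.of_hasPullback f p)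
  rw [Groth.Agent.H5.AlgSp.prop_of_isPullback_snd_iff (P := @IsProper) sq]
  have e : Sigma.ι U x ≫ p = g x := Sigma.ι_desc _ _
  rw [e]
  exact h x


/-- étale-locally over the locus where the integral is maximal, `f` is finite. -/
theorem local_finite {X Y : Scheme.{u}} (f : X ⟶ Y) [LocallyQuasiFinite f] [LocallyOfFiniteType f]
    [IsSeparated f] (hfin : ∀ y : Y, (f ⁻¹' {y}).Finite) (w : X → ℤ) (hw : GenWeighting f w)
    (hpos : ∀ x, 0 < w x) (d : ℤ) (hmax : ∀ y : Y, MoreMor.fibreIntegral f w y ≤ d) (y : Y)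
    (hy : MoreMor.fibreIntegral f w y = d) :
    ∃ (N' : Scheme.{u}) (e' : N' ⟶ Y) (P' : Scheme.{u}) (fst' : P' ⟶ X) (snd' : P' ⟶ N'),
      Etale e' ∧ y ∈ Set.range e' ∧ IsPullback fst' snd' f e' ∧ IsFinite snd' ∧
      ∀ v', MoreMor.fibreIntegral f w (e' v') = d := by
  obtain ⟨V₁, e, v₁, P, fst, snd, he, hev, hpb, O, N, hvN, -, hOfin, hO, hbc⟩ :=
    sep_structure f hfin w hw y
  haveI := he
  haveI : LocallyQuasiFinite snd := MorphismProperty.of_isPullback hpb inferInstance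
  -- over `N`, everything lies in `O`
  have hkey : ∀ v' ∈ N, (∀ p, snd p = v' → p ∈ O) ∧ MoreMor.fibreIntegral f w (e v') = d := by
    intro v' hv'
    obtain ⟨h1, h2⟩ := hbc v'
    have hsplit : JS snd (w ∘ fst) Set.univ v' =
        JS snd (w ∘ fst) (O : Set P) v' + JS snd (w ∘ fst) (O : Set P)ᶜ v' := by
      rw [← JS_union snd _ disjoint_compl_right (h2.subset Set.inter_subset_right)
        (h2.subset Set.inter_subset_right), Set.union_compl_self]
    have hle : JS snd (w ∘ fst) Set.univ v' ≤ d := by rw [← h1]; exact hmax _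
    rw [hsplit, hO v' hv', hy] at hle
    have hc0 : JS snd (w ∘ fst) (O : Set P)ᶜ v' ≤ 0 := by linarith
    have hmem : ∀ p, snd p = v' → p ∈ O := by
      intro p hp
      by_contra hpO
      have h3 : JS snd (w ∘ fst) ({p} ∩ snd ⁻¹' {v'}) v' = (w ∘ fst) p * (sepDeg snd p : ℤ) := by
        apply JS_singleton
        ext q
        constructor
        · rintro ⟨⟨hq, -⟩, -⟩; exact hq
        · rintro rfl; exact ⟨⟨rfl, hp⟩, hp⟩
      have h4 : JS snd (w ∘ fst) ({p} ∩ snd ⁻¹' {v'}) v' ≤ JS snd (w ∘ fst) (O : Set P)ᶜ v' := by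
        refine JS_mono snd _ ?_ (h2.subset Set.inter_subset_right) (fun q _ => (hpos _).le)
        rintro q ⟨hq, -⟩
        rw [Set.mem_singleton_iff] at hq
        rw [hq]; exact hpO
      have h5 : (0 : ℤ) < (w ∘ fst) p * (sepDeg snd p : ℤ) := by
        have h6 := sepDeg_pos snd p (finite_res_of_lqf snd p)
        have h7 : (0 : ℤ) < (sepDeg snd p : ℤ) := by exact_mod_cast h6
        exact mul_pos (hpos _) h7
      linarith
    refine ⟨hmem, ?_⟩
    have hc1 : 0 ≤ JS snd (w ∘ fst) (O : Set P)ᶜ v' := by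
      unfold JS
      exact finsum_nonneg (fun q => finsum_nonneg (fun _ =>
        mul_nonneg (hpos _).le (Int.natCast_nonneg _)))
    rw [h1, hsplit, hO v' hv', hy]
    linarith
  -- restrict to `N`
  let PN : P.Opens := snd ⁻¹ᵁ N
  let snd' : (PN : Scheme.{u}) ⟶ (N : Scheme.{u}) := snd ∣_ N
  have hsq : IsPullback PN.ι snd' snd N.ι := (isPullback_morphismRestrict snd N).flip
  have hpb' : IsPullback (PN.ι ≫ fst) snd' f (N.ι ≫ e) := hsq.paste_horiz hpb
  let ON : (PN : Scheme.{u}).Opens := PN.ι ⁻¹ᵁ O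
  have hONfin : IsFinite (ON.ι ≫ snd') := by
    haveI := hOfin
    have hpb2 : IsPullback (PN.ι ∣_ O) (ON.ι ≫ snd') (O.ι ≫ snd) N.ι :=
      (isPullback_morphismRestrict PN.ι O).paste_vert hsq
    exact MorphismProperty.of_isPullback hpb2 inferInstance
  have hι : ∀ p : ↥(PN : Scheme.{u}), N.ι (snd' p) = snd (PN.ι p) := by
    intro p
    change (snd' ≫ N.ι) p = (PN.ι ≫ snd) p
    rw [hsq.w]
  have hONsurj : Surjective ON.ι := by
    refine ⟨fun p => ?_⟩
    have hp : PN.ι p ∈ O := (hkey (snd (PN.ι p)) (by rw [← hι]; exact (snd' p).2)).1 _ rfl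
    exact ⟨⟨p, hp⟩, rfl⟩
  haveI : IsIso ON.ι := (isIso_iff_isOpenImmersion_and_surjective _).mpr ⟨inferInstance, hONsurj⟩
  have hfin' : IsFinite snd' := by
    have : snd' = inv ON.ι ≫ (ON.ι ≫ snd') := by rw [IsIso.inv_hom_id_assoc]
    rw [this]
    haveI := hONfin
    infer_instance
  refine ⟨N, N.ι ≫ e, PN, PN.ι ≫ fst, snd', inferInstance, ⟨⟨v₁, hvN⟩, hev⟩, hpb', hfin', ?_⟩
  intro v'
  exact (hkey (N.ι v') v'.2).2


/-- S1428: the locus where the integral is maximal is open and `f` is finite over it. -/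
theorem max_locus {X Y : Scheme.{u}} (f : X ⟶ Y) [LocallyQuasiFinite f] [LocallyOfFiniteType f]
    [IsSeparated f] (hfin : ∀ y : Y, (f ⁻¹' {y}).Finite) (w : X → ℤ) (hw : GenWeighting f w)
    (hpos : ∀ x, 0 < w x) (d : ℤ) (hmax : ∀ y : Y, MoreMor.fibreIntegral f w y ≤ d) :
    ∃ hYd : IsOpen {y : Y | MoreMor.fibreIntegral f w y = d},
      IsFinite (f ∣_ ⟨{y : Y | MoreMor.fibreIntegral f w y = d}, hYd⟩) := by
  have hset : {y : Y | MoreMor.fibreIntegral f w y = d} =
      MoreMor.fibreIntegral f w ⁻¹' Set.Ioi (d - 1) := by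
    ext y
    simp only [Set.mem_ofPred_eq, Set.mem_preimage, Set.mem_Ioi]
    constructor
    · intro h; omega
    · intro h; have := hmax y; omega
  have hYd : IsOpen {y : Y | MoreMor.fibreIntegral f w y = d} := by
    rw [hset]
    exact (lowerSemicontinuous f hfin w hw hpos).isOpen_preimage _
  refine ⟨hYd, ?_⟩
  set Yd : Y.Opens := ⟨{y : Y | MoreMor.fibreIntegral f w y = d}, hYd⟩ with hYd_def
  have hloc : ∀ y : ↥(Yd : Scheme.{u}), ∃ (N' : Scheme.{u}) (e' : N' ⟶ Y) (P' : Scheme.{u})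
      (fst' : P' ⟶ X) (snd' : P' ⟶ N'),
      Etale e' ∧ y.1 ∈ Set.range e' ∧ IsPullback fst' snd' f e' ∧ IsFinite snd' ∧
      ∀ v', MoreMor.fibreIntegral f w (e' v') = d :=
    fun y => local_finite f hfin w hw hpos d hmax y.1 y.2
  choose N' e' P' fst' snd' he' hye' hpb' hfin' hd' using hloc
  have hrange : ∀ y, Set.range (e' y) ⊆ Set.range Yd.ι := by
    intro y
    rw [Scheme.Opens.range_ι]
    rintro _ ⟨v', rfl⟩
    exact hd' y v'
  let e'' : ∀ y, N' y ⟶ (Yd : Scheme.{u}) := fun y => IsOpenImmersion.lift Yd.ι (e' y) (hrange y)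
  have he''fac : ∀ y, e'' y ≫ Yd.ι = e' y := fun y => IsOpenImmersion.lift_fac _ _ _
  have he''et : ∀ y, Etale (e'' y) := by
    intro y
    haveI : Etale (e'' y ≫ Yd.ι) := by rw [he''fac]; exact he' y
    exact Etale.of_comp (e'' y) Yd.ι
  haveI : LocallyQuasiFinite (f ∣_ Yd) := inferInstance
  have hproper : IsProper (f ∣_ Yd) := by
    refine isProper_of_flat_family (f ∣_ Yd) N' e'' ?_ ?_ ?_
    · intro y
      haveI := he''et y
      exact ⟨inferInstance, inferInstance⟩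
    · intro y
      obtain ⟨v', hv'⟩ := hye' y
      refine ⟨v', ?_⟩
      apply Yd.ι.injective
      change (e'' y ≫ Yd.ι) v' = _
      rw [he''fac, hv']
      rfl
    · intro y
      have t : IsPullback (f ⁻¹ᵁ Yd).ι (f ∣_ Yd) f Yd.ι := (isPullback_morphismRestrict f Yd).flip
      have hcomm : fst' y ≫ f = (snd' y ≫ e'' y) ≫ Yd.ι := by
        rw [Category.assoc, he''fac]; exact (hpb' y).w
      let a : P' y ⟶ (f ⁻¹ᵁ Yd : Scheme.{u}) := t.lift (fst' y) (snd' y ≫ e'' y) hcomm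
      have ha1 : a ≫ (f ⁻¹ᵁ Yd).ι = fst' y := t.lift_fst _ _ _
      have ha2 : a ≫ (f ∣_ Yd) = snd' y ≫ e'' y := t.lift_snd _ _ _
      have s : IsPullback (a ≫ (f ⁻¹ᵁ Yd).ι) (snd' y) f (e'' y ≫ Yd.ι) := by
        rw [ha1, he''fac]; exact hpb' y
      have sq : IsPullback a (snd' y) (f ∣_ Yd) (e'' y) := IsPullback.of_right s ha2 t
      rw [← Groth.Agent.H5.AlgSp.prop_of_isPullback_snd_iff (P := @IsProper) sq]
      haveI := hfin' y
      infer_instance
  exact IsFinite.of_isProper_of_locallyQuasiFinite _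

end Groth.Agent.H1.WtMax
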