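import Mathlib
import Groth.Prelude.Def_MoreMor
import Groth.Agent.Lib.Helper1.WtSep
import Groth.Agent.Lib.Helper1.WtMax
import Groth.Agent.Lib.Helper3.GeomFibBC

/-! Helper1: the geometric number of points of the fibres of a flat, separated, quasi-finite
morphism of finite presentation (EGA IV 15.5.9): lower semicontinuity, and properness where it is
locally constant. -/

open AlgebraicGeometry CategoryTheory Limits Scheme.Pullback TensorProduct

universe u

namespace Groth.Agent.H1.GeomNum

section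


/-- the map from the geometric fibre to the total space -/
noncomputable def gam {X Y : Scheme.{u}} (f : X ⟶ Y) (y : Y) : MoreMor.geomFiber f y ⟶ X :=
  pullback.fst _ _ ≫ f.fiberι y

theorem range_gam {X Y : Scheme.{u}} (f : X ⟶ Y) (y : Y) :
    Set.range (gam f y) = f ⁻¹' {y} := by
  have hsurj : Function.Surjective (pullback.fst (f.fiberToSpecResidueField y)
      (Spec.map (CommRingCat.ofHom (algebraMap (Y.residueField y)
        (SeparableClosure (Y.residueField y)))))) := by
    haveI : Surjective (Spec.map (CommRingCat.ofHom (algebraMap (Y.residueField y)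
        (SeparableClosure (Y.residueField y))))) := by
      constructor
      intro p
      refine ⟨(⊥ : PrimeSpectrum (SeparableClosure (Y.residueField y))), ?_⟩
      exact Subsingleton.elim (α := PrimeSpectrum (Y.residueField y)) _ _
    exact (inferInstance : Surjective (pullback.fst (f.fiberToSpecResidueField y) _)).surj
  unfold gam
  ext x
  rw [← Scheme.Hom.range_fiberι]
  constructor
  · rintro ⟨z, rfl⟩
    exact ⟨_, rfl⟩
  · rintro ⟨a, rfl⟩
    obtain ⟨z, rfl⟩ := hsurj a
    exact ⟨z, rfl⟩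

/-- the number of points of the fibre is at most the geometric number of connected components -/
theorem card_le_nGeomConnComp {X Y : Scheme.{u}} (f : X ⟶ Y) [LocallyQuasiFinite f] (y : Y) :
    ENat.card ↥(f ⁻¹' {y}) ≤ MoreMor.nGeomConnComp f y := by
  have hmem : ∀ z, gam f y z ∈ f ⁻¹' {y} := fun z => by
    rw [← range_gam]; exact ⟨z, rfl⟩
  let q : ↥(MoreMor.geomFiber f y) → ↥(f ⁻¹' {y}) := fun z => ⟨gam f y z, hmem z⟩
  have hqc : Continuous q := (gam f y).continuous.subtype_mk _
  have hqs : Function.Surjective q := by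
    rintro ⟨x, hx⟩
    rw [← range_gam] at hx
    obtain ⟨z, rfl⟩ := hx
    exact ⟨z, rfl⟩
  haveI : DiscreteTopology ↥(f ⁻¹' {y}) := (f.isDiscrete_preimage_singleton y).to_subtype
  let l := hqc.connectedComponentsLift
  have hls : Function.Surjective l := by
    intro b
    obtain ⟨z, rfl⟩ := hqs b
    exact ⟨(z : _root_.ConnectedComponents _), hqc.connectedComponentsLift_apply_coe z⟩
  unfold MoreMor.nGeomConnComp
  exact ENat.card_le_card_of_injective (Function.injective_surjInv hls)


end

section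


/-- the spectrum of `K ⊗[k] L` is a point when `K/k` is purely inseparable. -/
theorem subsingleton_primeSpectrum_tensor (k K L : Type u) [Field k] [Field K] [Field L]
    [Algebra k K] [Algebra k L] [IsPurelyInseparable k K] :
    Subsingleton (PrimeSpectrum (K ⊗[k] L)) := by
  have h := PrimeSpectrum.isHomeomorph_comap_of_isPurelyInseparable k K L
  have h1 : Subsingleton (PrimeSpectrum (L ⊗[k] K)) :=
    h.injective.subsingleton
  let e := Algebra.TensorProduct.comm k K L
  exact (PrimeSpectrum.homeomorphOfRingEquiv e.toRingEquiv).injective.subsingleton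

/-- the spectrum of a pushout of fields `K ← k → L` is a point when `K/k` is purely
inseparable. -/
theorem subsingleton_spec_pushout (k K L : Type u) [Field k] [Field K] [Field L]
    (a : k →+* K) (b : k →+* L)
    (hpi : letI := a.toAlgebra; IsPurelyInseparable k K) :
    Subsingleton ↥(Spec (pushout (CommRingCat.ofHom a) (CommRingCat.ofHom b))) := by
  letI := a.toAlgebra
  letI := b.toAlgebra
  haveI := hpi
  have hpo : IsPushout (CommRingCat.ofHom a) (CommRingCat.ofHom b) _ _ :=
    CommRingCat.isPushout_tensorProduct k K L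
  let e : pushout (CommRingCat.ofHom a) (CommRingCat.ofHom b) ≅ CommRingCat.of (K ⊗[k] L) :=
    hpo.isoPushout.symm
  haveI : Subsingleton ↥(Spec (CommRingCat.of (K ⊗[k] L))) :=
    subsingleton_primeSpectrum_tensor k K L
  have e' : Spec (pushout (CommRingCat.ofHom a) (CommRingCat.ofHom b)) ≅
      Spec (CommRingCat.of (K ⊗[k] L)) := Scheme.Spec.mapIso e.symm.op
  exact (Scheme.homeoOfIso e').injective.subsingleton

theorem subsingleton_spec_tensor_of_pi {X Y S : Scheme.{u}} {f : X ⟶ S} {g : Y ⟶ S}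
    (T : Triplet f g)
    (h : letI := (f.residueFieldMap T.x).hom.toAlgebra
      IsPurelyInseparable (S.residueField (f T.x)) (X.residueField T.x)) :
    Subsingleton ↥(Spec T.tensor) := by
  obtain ⟨x, y, s, hx, hy⟩ := T
  subst hx
  unfold Triplet.tensor
  have h1 : (S.residueFieldCongr (rfl : f x = f x)).inv ≫ f.residueFieldMap x =
      f.residueFieldMap x := by simp
  dsimp only
  refine subsingleton_spec_pushout (S.residueField (f x)) (X.residueField x) (Y.residueField y)
    ((S.residueFieldCongr (rfl : f x = f x)).inv ≫ f.residueFieldMap x).hom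
    ((S.residueFieldCongr hy).inv ≫ g.residueFieldMap y).hom ?_
  rw [h1]
  exact h


end

section


/-- a point of a fibre product is determined by its two projections when the residue field
extension at the first projection is purely inseparable. -/
theorem eq_of_fst_eq_of_snd_eq_of_pi {X Y S : Scheme.{u}} (f : X ⟶ S) (g : Y ⟶ S)
    (w₁ w₂ : ↑(pullback f g)) (h1 : pullback.fst f g w₁ = pullback.fst f g w₂)
    (h2 : pullback.snd f g w₁ = pullback.snd f g w₂)
    (hpi : letI := (f.residueFieldMap (pullback.fst f g w₂)).hom.toAlgebra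
      IsPurelyInseparable (S.residueField (f (pullback.fst f g w₂)))
        (X.residueField (pullback.fst f g w₂))) : w₁ = w₂ := by
  apply carrierEquiv.injective
  apply carrierEquiv_eq_iff.2
  have e : Triplet.ofPoint w₁ = Triplet.ofPoint w₂ := by
    apply Triplet.ext
    · exact h1
    · exact h2
  refine ⟨e, ?_⟩
  have hs : Subsingleton ↥(Spec (carrierEquiv w₂).fst.tensor) :=
    subsingleton_spec_tensor_of_pi (Triplet.ofPoint w₂) hpi
  exact Subsingleton.elim _ _

/-- `gam` is injective at points with purely inseparable residue field. -/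
theorem gam_eq_imp_eq_of_pi {X Y : Scheme.{u}} (f : X ⟶ Y) (y : Y)
    (z₁ z₂ : ↑(MoreMor.geomFiber f y)) (h : gam f y z₁ = gam f y z₂)
    (hpi : letI := (f.residueFieldMap (gam f y z₂)).hom.toAlgebra
      IsPurelyInseparable (Y.residueField (f (gam f y z₂))) (X.residueField (gam f y z₂))) :
    z₁ = z₂ := by
  let ψ := Spec.map (CommRingCat.ofHom (algebraMap (Y.residueField y)
    (SeparableClosure (Y.residueField y))))
  let θ : MoreMor.geomFiber f y ≅ pullback f (ψ ≫ Y.fromSpecResidueField y) :=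
    pullbackLeftPullbackSndIso f (Y.fromSpecResidueField y) ψ
  have hθ1 : θ.hom ≫ pullback.fst _ _ = gam f y := pullbackLeftPullbackSndIso_hom_fst _ _ _
  have hθ2 : θ.hom ≫ pullback.snd _ _ = pullback.snd _ _ := pullbackLeftPullbackSndIso_hom_snd _ _ _
  have hfst : ∀ z : ↑(MoreMor.geomFiber f y), pullback.fst f (ψ ≫ Y.fromSpecResidueField y) (θ.hom z) = gam f y z := by
    intro z
    change (θ.hom ≫ pullback.fst f (ψ ≫ Y.fromSpecResidueField y)) z = _
    rw [hθ1]
  have key : θ.hom z₁ = θ.hom z₂ := by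
    apply eq_of_fst_eq_of_snd_eq_of_pi f (ψ ≫ Y.fromSpecResidueField y)
    · rw [hfst, hfst, h]
    · exact Subsingleton.elim (α := PrimeSpectrum (SeparableClosure (Y.residueField y))) _ _
    · rw [hfst]
      exact hpi
  have h3 : ∀ z : ↑(MoreMor.geomFiber f y), θ.inv (θ.hom z) = z := fun z => by
    change (θ.hom ≫ θ.inv) z = z
    rw [Iso.hom_inv_id]
    rfl
  rw [← h3 z₁, ← h3 z₂, key]


end

section


/-- upper bound for the geometric number of connected components of a fibre all of whose points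
have purely inseparable residue fields. -/
theorem nGeomConnComp_le_card_of_pi {X Y : Scheme.{u}} (f : X ⟶ Y) (y : Y)
    (hpi : ∀ x, f x = y → letI := (f.residueFieldMap x).hom.toAlgebra
      IsPurelyInseparable (Y.residueField (f x)) (X.residueField x)) :
    MoreMor.nGeomConnComp f y ≤ ENat.card ↥(f ⁻¹' {y}) := by
  have hmem : ∀ z, gam f y z ∈ f ⁻¹' {y} := fun z => by
    rw [← range_gam]; exact ⟨z, rfl⟩
  let q : ↥(MoreMor.geomFiber f y) → ↥(f ⁻¹' {y}) := fun z => ⟨gam f y z, hmem z⟩
  have hqi : Function.Injective q := by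
    intro z₁ z₂ h
    have h' : gam f y z₁ = gam f y z₂ := congrArg Subtype.val h
    exact gam_eq_imp_eq_of_pi f y z₁ z₂ h' (hpi _ (hmem z₂))
  unfold MoreMor.nGeomConnComp
  calc ENat.card (_root_.ConnectedComponents ↥(MoreMor.geomFiber f y))
      ≤ ENat.card ↥(MoreMor.geomFiber f y) :=
        ENat.card_le_card_of_injective (Function.injective_surjInv ConnectedComponents.surjective_coe)
    _ ≤ ENat.card ↥(f ⁻¹' {y}) := ENat.card_le_card_of_injective hqi

/-- étale-local structure of a flat quasi-finite separated morphism around a point of the base, with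
the count of geometric points. -/
theorem local_structure {X Y : Scheme.{u}} (f : X ⟶ Y) [Flat f] [LocallyOfFinitePresentation f]
    [IsSeparated f] [LocallyQuasiFinite f] [QuasiCompact f] (y₀ : Y) :
    ∃ (V₁ : Scheme.{u}) (e : V₁ ⟶ Y) (v₁ : V₁) (P : Scheme.{u}) (fst : P ⟶ X) (snd : P ⟶ V₁),
      Etale e ∧ e v₁ = y₀ ∧ IsPullback fst snd f e ∧
      ∃ (O : P.Opens) (N : V₁.Opens) (m : ℕ), v₁ ∈ N ∧ IsFinite (O.ι ≫ snd) ∧
        MoreMor.nGeomConnComp f y₀ ≤ m ∧
        ∀ v' ∈ N, ∃ s : Fin m → P, Function.Injective s ∧ ∀ k, s k ∈ O ∧ snd (s k) = v' := by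
  haveI : Finite ↥(f ⁻¹' {y₀}) := f.finite_preimage_singleton y₀
  let m₀ := Nat.card ↥(f ⁻¹' {y₀})
  let en : ↥(f ⁻¹' {y₀}) ≃ Fin m₀ := Finite.equivFin _
  let x : Fin m₀ → X := fun i => (en.symm i).1
  have hxinj : Function.Injective x := fun i i' h => en.symm.injective (Subtype.ext h)
  have hxs : ∀ i, f (x i) = y₀ := fun i => (en.symm i).2
  have hxall : ∀ u : X, f u = y₀ → ∃ i, x i = u := by
    intro u hu
    refine ⟨en ⟨u, hu⟩, ?_⟩
    change (en.symm (en ⟨u, hu⟩)).1 = u
    rw [Equiv.symm_apply_apply]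
  obtain ⟨V₁, e, v₁, P, fst, snd, he, hev, hpb, n, idx, T, t, hdisj, hclosed, HT, Hall⟩ :=
    WtSplit.sepSplit f y₀ x hxinj hxs (fun i => f.quasiFiniteAt (x i))
  haveI := he
  haveI : IsSeparated snd := MorphismProperty.of_isPullback hpb inferInstance
  haveI : LocallyOfFinitePresentation snd := MorphismProperty.of_isPullback hpb inferInstance
  haveI : LocallyQuasiFinite snd := MorphismProperty.of_isPullback hpb inferInstance
  haveI : Flat snd := MorphismProperty.of_isPullback hpb inferInstance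
  let O : P.Opens := ⨆ k, T k
  have hOfin : IsFinite (O.ι ≫ snd) := EtLoc.isFinite_iSup snd T (fun k => (HT k).1.finite)
  -- the open neighbourhood
  have himg : ∀ k, IsOpen (snd '' (T k : Set P)) := fun k => snd.isOpenMap _ (T k).2
  let N : V₁.Opens := ⟨⋂ k, snd '' (T k : Set P), isOpen_iInter_of_finite himg⟩
  have hvN : v₁ ∈ N := Set.mem_iInter.mpr fun k => ⟨t k, (HT k).1.mem, (HT k).1.snd_eq⟩
  refine ⟨V₁, e, v₁, P, fst, snd, he, hev, hpb, O, N, n, hvN, hOfin, ?_, ?_⟩
  · -- the count
    rw [← hev, ← Groth.Agent.H3.GeomFibBC.nGeomConnComp_baseChange f snd fst e hpb v₁]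
    have hfib : ∀ w : P, snd w = v₁ → ∃ k, w = t k := by
      intro w hw
      have hπ : f (fst w) = y₀ := by
        have : (fst ≫ f) w = (snd ≫ e) w := by rw [hpb.w]
        change f (fst w) = e (snd w) at this
        rw [this, hw, hev]
      obtain ⟨i, hi⟩ := hxall _ hπ
      obtain ⟨k, -, hk⟩ := Hall w i hw hi.symm
      exact ⟨k, hk⟩
    refine (nGeomConnComp_le_card_of_pi snd v₁ ?_).trans ?_
    · intro w hw
      obtain ⟨k, rfl⟩ := hfib w hw
      exact (HT k).2.2
    · let r : Fin n → ↥(snd ⁻¹' {v₁}) := fun k => ⟨t k, (HT k).1.snd_eq⟩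
      have hr : Function.Surjective r := by
        rintro ⟨w, hw⟩
        obtain ⟨k, rfl⟩ := hfib w hw
        exact ⟨k, rfl⟩
      calc ENat.card ↥(snd ⁻¹' {v₁}) ≤ ENat.card (Fin n) :=
            ENat.card_le_card_of_injective (Function.injective_surjInv hr)
        _ = n := by simp
  · intro v' hv'
    have h1 : ∀ k, ∃ p ∈ (T k : Set P), snd p = v' := fun k => Set.mem_iInter.mp hv' k
    choose s hs1 hs2 using h1
    refine ⟨s, ?_, fun k => ⟨(le_iSup T k : T k ≤ O) (hs1 k), hs2 k⟩⟩
    intro k k' hkk'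
    by_contra hne
    exact Set.disjoint_left.mp (hdisj k k' hne) (hs1 k) (hkk' ▸ hs1 k')


end

section


theorem le_card_of_injective_fin {α : Type*} {m : ℕ} (s : Fin m → α) (hs : Function.Injective s) :
    (m : ℕ∞) ≤ ENat.card α := by
  have := ENat.card_le_card_of_injective hs
  simpa using this

theorem s3418 {X Y : Scheme.{u}} (f : X ⟶ Y) [Flat f]
    [LocallyOfFinitePresentation f] [IsSeparated f] [LocallyQuasiFinite f] [QuasiCompact f] :
    LowerSemicontinuous (fun z : Y => MoreMor.nGeomConnComp f z) ∧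
      ∀ y₀ : Y, (∃ V ∈ nhds y₀, ∀ z ∈ V, MoreMor.nGeomConnComp f z = MoreMor.nGeomConnComp f y₀) →
        ∃ U : Y.Opens, y₀ ∈ U ∧ IsProper (f ∣_ U) := by
  -- the basic inequality on the étale neighbourhood
  have hbasic : ∀ {V₁ P : Scheme.{u}} (e : V₁ ⟶ Y) (fst : P ⟶ X) (snd : P ⟶ V₁)
      (hpb : IsPullback fst snd f e) (v' : V₁),
      ENat.card ↥(snd ⁻¹' {v'}) ≤ MoreMor.nGeomConnComp f (e v') := by
    intro V₁ P e fst snd hpb v'
    haveI : LocallyQuasiFinite snd := MorphismProperty.of_isPullback hpb inferInstance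
    rw [← Groth.Agent.H3.GeomFibBC.nGeomConnComp_baseChange f snd fst e hpb v']
    exact card_le_nGeomConnComp snd v'
  constructor
  · intro y₀ c hc
    obtain ⟨V₁, e, v₁, P, fst, snd, he, hev, hpb, O, N, m, hvN, hOfin, hm, hN⟩ :=
      local_structure f y₀
    haveI := he
    have hopen : IsOpen (e '' (N : Set V₁)) := e.isOpenMap _ N.2
    have hmem : y₀ ∈ e '' (N : Set V₁) := ⟨v₁, hvN, hev⟩
    refine Filter.eventually_of_mem (hopen.mem_nhds hmem) ?_
    rintro _ ⟨v', hv', rfl⟩
    obtain ⟨s, hsinj, hs⟩ := hN v' hv'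
    let s' : Fin m → ↥(snd ⁻¹' {v'}) := fun k => ⟨s k, (hs k).2⟩
    have hs'inj : Function.Injective s' := fun k k' h => hsinj (congrArg Subtype.val h)
    calc c < MoreMor.nGeomConnComp f y₀ := hc
      _ ≤ m := hm
      _ ≤ ENat.card ↥(snd ⁻¹' {v'}) := le_card_of_injective_fin s' hs'inj
      _ ≤ MoreMor.nGeomConnComp f (e v') := hbasic e fst snd hpb v'
  · rintro y₀ ⟨V, hV, hconst⟩
    obtain ⟨V', hV'V, hV'open, hyV'⟩ := mem_nhds_iff.mp hV
    obtain ⟨V₁, e, v₁, P, fst, snd, he, hev, hpb, O, N, m, hvN, hOfin, hm, hN⟩ :=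
      local_structure f y₀
    haveI := he
    let N' : V₁.Opens := N ⊓ e ⁻¹ᵁ ⟨V', hV'open⟩
    have hvN' : v₁ ∈ N' := ⟨hvN, by change e v₁ ∈ V'; rw [hev]; exact hyV'⟩
    have hkey : ∀ v' ∈ N', ∀ p, snd p = v' → p ∈ O := by
      rintro v' ⟨hv'N, hv'V⟩ p hp
      by_contra hpO
      obtain ⟨s, hsinj, hs⟩ := hN v' hv'N
      let s' : Fin (m + 1) → ↥(snd ⁻¹' {v'}) :=
        Fin.cons ⟨p, hp⟩ (fun k => ⟨s k, (hs k).2⟩)
      have hs'inj : Function.Injective s' := by
        refine Fin.cons_injective_iff.mpr ⟨?_, fun k k' h => hsinj (congrArg Subtype.val h)⟩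
        rintro ⟨k, hk⟩
        apply hpO
        have : s k = p := congrArg Subtype.val hk
        rw [← this]
        exact (hs k).1
      have h1 : ((m + 1 : ℕ) : ℕ∞) ≤ MoreMor.nGeomConnComp f (e v') :=
        (le_card_of_injective_fin s' hs'inj).trans (hbasic e fst snd hpb v')
      have h2 : MoreMor.nGeomConnComp f (e v') = MoreMor.nGeomConnComp f y₀ :=
        hconst _ (hV'V hv'V)
      rw [h2] at h1
      have h3 : ((m + 1 : ℕ) : ℕ∞) ≤ (m : ℕ∞) := h1.trans hm
      have h4 : m + 1 ≤ m := by exact_mod_cast h3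
      omega
    -- restrict to `N'`
    let PN : P.Opens := snd ⁻¹ᵁ N'
    let snd' : (PN : Scheme.{u}) ⟶ (N' : Scheme.{u}) := snd ∣_ N'
    have hsq : IsPullback PN.ι snd' snd N'.ι := (isPullback_morphismRestrict snd N').flip
    have hpb' : IsPullback (PN.ι ≫ fst) snd' f (N'.ι ≫ e) := hsq.paste_horiz hpb
    let ON : (PN : Scheme.{u}).Opens := PN.ι ⁻¹ᵁ O
    have hONfin : IsFinite (ON.ι ≫ snd') := by
      haveI := hOfin
      have hpb2 : IsPullback (PN.ι ∣_ O) (ON.ι ≫ snd') (O.ι ≫ snd) N'.ι :=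
        (isPullback_morphismRestrict PN.ι O).paste_vert hsq
      exact MorphismProperty.of_isPullback hpb2 inferInstance
    have hι : ∀ p : ↥(PN : Scheme.{u}), N'.ι (snd' p) = snd (PN.ι p) := by
      intro p
      change (snd' ≫ N'.ι) p = (PN.ι ≫ snd) p
      rw [hsq.w]
    have hONsurj : Surjective ON.ι := by
      refine ⟨fun p => ?_⟩
      have hp : PN.ι p ∈ O := hkey (snd (PN.ι p)) (by rw [← hι]; exact (snd' p).2) _ rfl
      exact ⟨⟨p, hp⟩, rfl⟩
    haveI : IsIso ON.ι := (isIso_iff_isOpenImmersion_and_surjective _).mpr ⟨inferInstance, hONsurj⟩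
    have hfin' : IsFinite snd' := by
      have : snd' = inv ON.ι ≫ (ON.ι ≫ snd') := by rw [IsIso.inv_hom_id_assoc]
      rw [this]
      haveI := hONfin
      infer_instance
    -- the open image
    let e' : (N' : Scheme.{u}) ⟶ Y := N'.ι ≫ e
    have hUopen : IsOpen (Set.range e') := e'.isOpenMap.isOpen_range
    let U : Y.Opens := ⟨Set.range e', hUopen⟩
    have hyU : y₀ ∈ U := ⟨⟨v₁, hvN'⟩, hev⟩
    refine ⟨U, hyU, ?_⟩
    have hrange : Set.range e' ⊆ Set.range U.ι := by
      rw [Scheme.Opens.range_ι]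
      exact subset_rfl
    let e'' : (N' : Scheme.{u}) ⟶ (U : Scheme.{u}) := IsOpenImmersion.lift U.ι e' hrange
    have he''fac : e'' ≫ U.ι = e' := IsOpenImmersion.lift_fac _ _ _
    have he''et : Etale e'' := by
      haveI : Etale (e'' ≫ U.ι) := by rw [he''fac]; infer_instance
      exact Etale.of_comp e'' U.ι
    refine WtMax.isProper_of_flat_family (f ∣_ U) (fun _ => (N' : Scheme.{u})) (fun _ => e'')
      ?_ ?_ ?_
    · intro y
      haveI := he''et
      exact ⟨inferInstance, inferInstance⟩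
    · intro y
      obtain ⟨v', hv'⟩ := y.2
      refine ⟨v', ?_⟩
      apply U.ι.injective
      change (e'' ≫ U.ι) v' = _
      rw [he''fac, hv']
      rfl
    · intro y
      have t : IsPullback (f ⁻¹ᵁ U).ι (f ∣_ U) f U.ι := (isPullback_morphismRestrict f U).flip
      have hcomm : (PN.ι ≫ fst) ≫ f = (snd' ≫ e'') ≫ U.ι := by
        have h5 : (snd' ≫ e'') ≫ U.ι = snd' ≫ e' := by rw [Category.assoc, he''fac]
        rw [h5]; exact hpb'.w
      let a : (PN : Scheme.{u}) ⟶ (f ⁻¹ᵁ U : Scheme.{u}) := t.lift (PN.ι ≫ fst) (snd' ≫ e'') hcomm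
      have ha1 : a ≫ (f ⁻¹ᵁ U).ι = PN.ι ≫ fst := t.lift_fst _ _ _
      have ha2 : a ≫ (f ∣_ U) = snd' ≫ e'' := t.lift_snd _ _ _
      have s : IsPullback (a ≫ (f ⁻¹ᵁ U).ι) snd' f (e'' ≫ U.ι) := by
        rw [ha1, he''fac]; exact hpb'
      have sq : IsPullback a snd' (f ∣_ U) e'' := IsPullback.of_right s ha2 t
      rw [← Groth.Agent.H5.AlgSp.prop_of_isPullback_snd_iff (P := @IsProper) sq]
      haveI := hfin'
      infer_instance


end

end Groth.Agent.H1.GeomNum
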