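import Mathlib
import Groth.Agent.Lib.Helper1.ConsFibP1
import Groth.Agent.Lib.Helper8.DVRSch2

/-!
# Properness over a neighbourhood of a point via discrete valuation rings — helper1
-/

set_option autoImplicit false
set_option linter.style.haveILetI false

universe u

open CategoryTheory CategoryTheory.Limits AlgebraicGeometry Topology TopologicalSpace IsLocalRing

namespace Groth.Agent.H1.ProperNbhd

open Groth.Agent.H1.ConsFib Groth.Agent.LD.Chow

/-- a point without proper generizations. -/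
def IsMaxPt {X : Scheme.{u}} (x : X) : Prop := ∀ x' : X, x' ⤳ x → x' = x

theorem isMaxPt_of_closure_mem {X : Scheme.{u}} {x : X}
    (h : closure {x} ∈ irreducibleComponents X) : IsMaxPt x := by
  intro x' hx'
  have h1 : closure {x} ⊆ closure {x'} := specializes_iff_closure_subset.mp hx'
  have h2 : IsIrreducible (closure ({x'} : Set X)) := isIrreducible_singleton.closure
  have h3 : closure {x'} ⊆ closure {x} := h.2 h2 h1
  have h4 : x ⤳ x' := specializes_iff_closure_subset.mpr h3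
  exact (hx'.antisymm h4).eq

/-- lifting of DVR-valued points centred at `y` whose generic point goes to a maximal point. -/
def DVRLiftGen {X Y : Scheme.{u}} (f : X ⟶ Y) (y : Y) : Prop :=
  ∀ (A : Type u) [CommRing A] [IsDomain A] [IsDiscreteValuationRing A]
    (g : Spec (CommRingCat.of A) ⟶ Y), g (closedPoint A) = y →
    ∀ σ : Spec (CommRingCat.of (FractionRing A)) ⟶ X,
      IsMaxPt (σ (closedPoint (FractionRing A))) →
      σ ≫ f = Spec.map (CommRingCat.ofHom (algebraMap A (FractionRing A))) ≫ g →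
      ∃ l : Spec (CommRingCat.of A) ⟶ X, l ≫ f = g ∧
        Spec.map (CommRingCat.ofHom (algebraMap A (FractionRing A))) ≫ l = σ

theorem dvrLiftGen_restrict {X Y : Scheme.{u}} (f : X ⟶ Y) (V : Y.Opens) (y : Y) (hy : y ∈ V)
    (h : DVRLiftGen f y) : DVRLiftGen (f ∣_ V) ⟨y, hy⟩ := by
  intro A _ _ _ g hg σ hσ hcomm
  have H := (isPullback_morphismRestrict f V).flip
  have hg' : (g ≫ V.ι) (closedPoint A) = y := by
    rw [Scheme.Hom.comp_apply, hg]; rfl
  have hmax : IsMaxPt ((σ ≫ (f ⁻¹ᵁ V).ι) (closedPoint (FractionRing A))) := by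
    intro x' hx'
    rw [Scheme.Hom.comp_apply] at hx' ⊢
    have hxr : x' ∈ Set.range (f ⁻¹ᵁ V).ι := by
      have hopen : IsOpen (Set.range (f ⁻¹ᵁ V).ι) := (f ⁻¹ᵁ V).ι.isOpenEmbedding.isOpen_range
      exact hx'.mem_open hopen ⟨_, rfl⟩
    obtain ⟨z', rfl⟩ := hxr
    rw [(f ⁻¹ᵁ V).ι.isOpenEmbedding.isInducing.specializes_iff] at hx'
    rw [hσ z' hx']
  have hc : (σ ≫ (f ⁻¹ᵁ V).ι) ≫ f =
      Spec.map (CommRingCat.ofHom (algebraMap A (FractionRing A))) ≫ g ≫ V.ι := by
    calc (σ ≫ (f ⁻¹ᵁ V).ι) ≫ f = σ ≫ ((f ⁻¹ᵁ V).ι ≫ f) := Category.assoc _ _ _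
      _ = σ ≫ (f ∣_ V ≫ V.ι) := by rw [H.w]
      _ = (σ ≫ f ∣_ V) ≫ V.ι := (Category.assoc _ _ _).symm
      _ = _ := by rw [hcomm, Category.assoc]
  obtain ⟨l, hl1, hl2⟩ := h A (g ≫ V.ι) hg' (σ ≫ (f ⁻¹ᵁ V).ι) hmax hc
  refine ⟨H.lift l g hl1, H.lift_snd _ _ _, ?_⟩
  rw [← cancel_mono (f ⁻¹ᵁ V).ι, Category.assoc, H.lift_fst, hl2]

/-! ### Chow with irreducibility -/

section Chow

variable (A : Type u) [CommRing A] [IsNoetherianRing A]

theorem chow_quasiProjective' {Z : Scheme.{u}} [IsIntegral Z] (f : Z ⟶ Spec (CommRingCat.of A))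
    [IsSeparated f] [LocallyOfFiniteType f] [QuasiCompact f] :
    ∃ (N : ℕ) (Z' : Scheme.{u}) (π : Z' ⟶ Z) (q : Z' ⟶ Proj (CohB1.polyGrading N A)),
      π ≫ f = q ≫ pStr N A ∧ IsProper π ∧ Surjective π ∧ IsImmersion q ∧
        IrreducibleSpace Z' := by
  haveI : CompactSpace Z := (quasiCompact_iff_compactSpace f).mp inferInstance
  obtain ⟨d, hd⟩ := exists_chowData f
  haveI : IsLocallyNoetherian Z := LocallyOfFiniteType.isLocallyNoetherian f
  haveI : IsNoetherian Z := {}
  haveI : NoetherianSpace d.X₀.toScheme := by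
    change NoetherianSpace (d.X₀ : Set Z)
    infer_instance
  haveI : QuasiCompact d.ψ := inferInstance
  haveI : IsProper (pStr d.N A) := Groth.Agent.H5.AG.isProper_toSpec d.N A
  have hπproper : IsProper (gπ f (pStr d.N A) d.X₀ d.ψ) := by
    change IsProper (d.ψ.imageι ≫ pullback.fst f (pStr d.N A))
    infer_instance
  refine ⟨d.N, gcl f (pStr d.N A) d.X₀ d.ψ, gπ f (pStr d.N A) d.X₀ d.ψ,
    gq f (pStr d.N A) d.X₀ d.ψ, ?_, hπproper, ?_, ?_, ?_⟩
  · change (d.ψ.imageι ≫ pullback.fst f (pStr d.N A)) ≫ f =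
      (d.ψ.imageι ≫ pullback.snd f (pStr d.N A)) ≫ pStr d.N A
    rw [Category.assoc, Category.assoc, pullback.condition]
  · haveI := hπproper
    haveI hiso : IsIso (gπ f (pStr d.N A) d.X₀ d.ψ ∣_ d.X₀) := d.isIso_gπ_restrict
    have hX₀ : (d.X₀ : Set Z) ⊆ Set.range (gπ f (pStr d.N A) d.X₀ d.ψ) := by
      intro x hx
      set y := (inv (gπ f (pStr d.N A) d.X₀ d.ψ ∣_ d.X₀)) ⟨x, hx⟩ with hy
      have hy' : (gπ f (pStr d.N A) d.X₀ d.ψ ∣_ d.X₀) y = ⟨x, hx⟩ := by
        rw [hy, ← Scheme.Hom.comp_apply, IsIso.inv_hom_id]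
        rfl
      refine ⟨((gπ f (pStr d.N A) d.X₀ d.ψ) ⁻¹ᵁ d.X₀).ι y, ?_⟩
      have h1 : ((gπ f (pStr d.N A) d.X₀ d.ψ ∣_ d.X₀) ≫ d.X₀.ι) y =
          (((gπ f (pStr d.N A) d.X₀ d.ψ) ⁻¹ᵁ d.X₀).ι ≫ gπ f (pStr d.N A) d.X₀ d.ψ) y :=
        congrArg (fun φ : ((gπ f (pStr d.N A) d.X₀ d.ψ) ⁻¹ᵁ d.X₀).toScheme ⟶ Z => φ y)
          (morphismRestrict_ι (gπ f (pStr d.N A) d.X₀ d.ψ) d.X₀)
      change (((gπ f (pStr d.N A) d.X₀ d.ψ) ⁻¹ᵁ d.X₀).ι ≫ gπ f (pStr d.N A) d.X₀ d.ψ) y = x
      rw [← h1, Scheme.Hom.comp_apply, hy']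
      rfl
    have hclosed : IsClosed (Set.range (gπ f (pStr d.N A) d.X₀ d.ψ)) :=
      (gπ f (pStr d.N A) d.X₀ d.ψ).isClosedMap.isClosed_range
    have hdense : Dense (d.X₀ : Set Z) := d.X₀.isOpen.dense hd
    refine ⟨fun z => ?_⟩
    have : closure (d.X₀ : Set Z) ⊆ Set.range (gπ f (pStr d.N A) d.X₀ d.ψ) :=
      closure_minimal hX₀ hclosed
    exact this (hdense z)
  · haveI : MorphismProperty.RespectsRight @IsImmersion @IsOpenImmersion :=
      ⟨fun i hi f hf => by haveI := hi; haveI := hf; exact inferInstance⟩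
    refine IsZariskiLocalAtTarget.of_range_subset_iSup (P := @IsImmersion)
      (fun j : {j : Fin (d.N + 1) // ∃ i, d.e j i = 0} => d.D j.1) ?_ ?_
    · rintro _ ⟨z, rfl⟩
      obtain ⟨j, i, hji, hz⟩ := d.exists_good_chart z
      exact Opens.mem_iSup.mpr ⟨⟨j, i, hji⟩, hz⟩
    · rintro ⟨j, i, hji⟩
      haveI : IsClosedImmersion (gq f (pStr d.N A) d.X₀ d.ψ ∣_ d.D j) :=
        d.isClosedImmersion_gq_restrict_D i j hji
      infer_instance
  · haveI : Nonempty d.X₀ := ⟨⟨hd.some, hd.some_mem⟩⟩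
    haveI : IsIntegral d.X₀.toScheme := inferInstance
    have h1 : IsIrreducible (Set.range d.ψ.toImage) := by
      rw [← Set.image_univ]
      exact (IrreducibleSpace.isIrreducible_univ _).image _
        d.ψ.toImage.continuous.continuousOn
    have h2 := h1.closure
    rw [(inferInstance : IsDominant d.ψ.toImage).denseRange.closure_range] at h2
    exact (irreducibleSpace_def _).mpr h2

end Chow

theorem chow_affine {X Y : Scheme.{u}} [IsIntegral X] [IsAffine Y] [IsNoetherian Y] (f : X ⟶ Y)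
    [IsSeparated f] [LocallyOfFiniteType f] [QuasiCompact f] :
    ∃ (Z' P : Scheme.{u}) (π : Z' ⟶ X) (q : Z' ⟶ P) (p : P ⟶ Y),
      π ≫ f = q ≫ p ∧ IsProper π ∧ Surjective π ∧ IsImmersion q ∧ IsProper p ∧
        IrreducibleSpace Z' := by
  let A : Type u := Γ(Y, ⊤)
  haveI : IsNoetherianRing A :=
    IsLocallyNoetherian.component_noetherian ⟨⊤, isAffineOpen_top Y⟩
  let e : Y ≅ Spec (CommRingCat.of A) := Y.isoSpec
  obtain ⟨N, Z', π, q, hcomm, hπ, hπs, hq, hirr⟩ := chow_quasiProjective' A (f ≫ e.hom)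
  haveI : IsProper (pStr N A) := Groth.Agent.H5.AG.isProper_toSpec N A
  refine ⟨Z', _, π, q, pStr N A ≫ e.inv, ?_, hπ, hπs, hq, inferInstance, hirr⟩
  rw [← Category.assoc, ← hcomm, Category.assoc, Category.assoc, e.hom_inv_id, Category.comp_id]

/-! ### base change -/

theorem bcProper_comp {X Y Y₀ Y₁ : Scheme.{u}} {f : X ⟶ Y} {j : Y₀ ⟶ Y} (h : BCProper f j)
    (k : Y₁ ⟶ Y₀) : BCProper f (k ≫ j) := by
  have H1 := IsPullback.of_hasPullback f j
  have H2 := IsPullback.of_hasPullback (pullback.snd f j) k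
  have H := H2.paste_horiz H1
  rw [bcProper_iff_of_isPullback H]
  exact MorphismProperty.pullback_snd (P := @IsProper) _ _ h

theorem isProper_restrict_of_bcProper {X Y Y₀ : Scheme.{u}} (f : X ⟶ Y) (j : Y₀ ⟶ Y)
    [IsOpenImmersion j] (h : BCProper f j) : IsProper (f ∣_ j.opensRange) := by
  have e : j.opensRange.ι = j.isoOpensRange.inv ≫ j := by
    rw [Iso.eq_inv_comp]; exact j.isoOpensRange_hom_ι
  have h' : BCProper f j.opensRange.ι := by rw [e]; exact bcProper_comp h _
  exact (bcProper_iff_of_isPullback (isPullback_morphismRestrict f j.opensRange).flip).mp h'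

/-! ### the closed bad set of a Chow chart -/

theorem isClosed_image_closure_diff {Z' P Y : Scheme.{u}} (q : Z' ⟶ P) [IsImmersion q]
    (p : P ⟶ Y) [IsProper p] :
    IsClosed (p '' (closure (Set.range q) \ Set.range q)) := by
  have h1 : IsClosed (closure (Set.range q) \ Set.range q) := by
    have h2 : IsOpen (coborder (Set.range q)) := q.isLocallyClosed_range.isOpen_coborder
    have h3 : closure (Set.range q) \ Set.range q = (coborder (Set.range q))ᶜ := by
      rw [coborder, compl_compl]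
    rw [h3]; exact h2.isClosed_compl
  exact p.isClosedMap _ h1

theorem bcProper_of_disjoint {Z' P Y : Scheme.{u}} (q : Z' ⟶ P) [IsImmersion q] (p : P ⟶ Y)
    [IsProper p] (U : Y.Opens)
    (hU : Disjoint (U : Set Y) (p '' (closure (Set.range q) \ Set.range q))) :
    BCProper (q ≫ p) U.ι := by
  rw [bcProper_iff_isClosed q p U.ι]
  have h1 : (pullback.fst p U.ι) ⁻¹' Set.range q =
      (pullback.fst p U.ι) ⁻¹' closure (Set.range q) := by
    ext z
    refine ⟨fun hz => subset_closure hz, fun hz => ?_⟩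
    by_contra hn
    have e : (pullback.fst p U.ι ≫ p) z = (pullback.snd p U.ι ≫ U.ι) z := by
      rw [pullback.condition]
    rw [Scheme.Hom.comp_apply, Scheme.Hom.comp_apply] at e
    have hpz : p (pullback.fst p U.ι z) ∈ (U : Set Y) := by
      rw [e]; exact (pullback.snd p U.ι z).2
    exact Set.disjoint_left.mp hU hpz ⟨_, ⟨hz, hn⟩, rfl⟩
  rw [h1]
  exact isClosed_closure.preimage (pullback.fst p U.ι).continuous

theorem not_mem_image_of_dvrLiftGen {X Y Z' P : Scheme.{u}} [IsLocallyNoetherian Y] (f : X ⟶ Y)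
    [LocallyOfFiniteType f] (c : Z' ⟶ X) [IsProper c] (q : Z' ⟶ P) [IsImmersion q] (p : P ⟶ Y)
    [IsProper p] (hcomm : c ≫ f = q ≫ p) [IrreducibleSpace Z']
    (hmax : IsMaxPt (c (genericPoint Z'))) (y : Y) (h : DVRLiftGen f y) :
    y ∉ p '' (closure (Set.range q) \ Set.range q) := by
  rintro ⟨b, ⟨hb1, hb2⟩, rfl⟩
  haveI : IsLocallyNoetherian P := LocallyOfFiniteType.isLocallyNoetherian p
  haveI : LocallyOfFiniteType (q ≫ p) := by rw [← hcomm]; infer_instance
  haveI : LocallyOfFiniteType q := locallyOfFiniteType_of_comp q p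
  have hspec : q (genericPoint Z') ⤳ b := by
    rw [specializes_iff_mem_closure]
    have hsub : Set.range q ⊆ closure {q (genericPoint Z')} := by
      rintro _ ⟨z, rfl⟩
      have hz : z ∈ closure {genericPoint Z'} := by
        rw [(genericPoint_spec Z').def]; trivial
      have := image_closure_subset_closure_image q.continuous ⟨z, hz, rfl⟩
      rwa [Set.image_singleton] at this
    exact closure_minimal hsub isClosed_closure hb1
  have hne : q (genericPoint Z') ≠ b := fun e => hb2 ⟨_, e⟩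
  obtain ⟨B, _, _, _, u', h', hc, hcl, hgen⟩ :=
    Groth.Agent.H8.DVRSch.exists_dvr_of_specializes_of_locallyOfFiniteType q (genericPoint Z')
      hspec hne
  obtain ⟨l, hl1, hl2⟩ := h B (h' ≫ p) (by rw [Scheme.Hom.comp_apply, hcl]) (u' ≫ c)
    (by rw [Scheme.Hom.comp_apply, hgen]; exact hmax)
    (by rw [Category.assoc, hcomm, ← Category.assoc, ← hc, Category.assoc])
  have hex : ValuativeCriterion.Existence c := by
    have huc : UniversallyClosed c := inferInstance
    rw [UniversallyClosed.eq_valuativeCriterion] at huc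
    exact huc.1
  let Sq : ValuativeCommSq c :=
    { R := B, K := FractionRing B, i₁ := u', i₂ := l, commSq := ⟨hl2.symm⟩ }
  obtain ⟨⟨l', hl'1, hl'2⟩⟩ := (hex Sq).exists_lift
  have hl'1' : Spec.map (CommRingCat.ofHom (algebraMap B (FractionRing B))) ≫ l' = u' := hl'1
  have hl'2' : l' ≫ c = l := hl'2
  have huniq : l' ≫ q = h' :=
    Groth.Agent.H8.DVRSch.dvrUniqueness_of_isSeparated p B (l' ≫ q) h'
      (by rw [Category.assoc, ← hcomm, ← Category.assoc, hl'2', hl1])
      (by rw [← Category.assoc, hl'1', hc])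
  apply hb2
  refine ⟨l' (closedPoint B), ?_⟩
  rw [← Scheme.Hom.comp_apply, huniq, hcl]

/-! ### the main theorems -/

theorem exists_bcProper_of_affine {X Y : Scheme.{u}} [IsAffine Y] [IsNoetherian Y] (f : X ⟶ Y)
    [IsSeparated f] [LocallyOfFiniteType f] [QuasiCompact f] (y : Y) (h : DVRLiftGen f y) :
    ∃ U : Y.Opens, y ∈ U ∧ BCProper f U.ι := by
  haveI : IsLocallyNoetherian X := LocallyOfFiniteType.isLocallyNoetherian f
  haveI : CompactSpace X := QuasiCompact.compactSpace_of_compactSpace f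
  haveI : IsNoetherian X := {}
  haveI : Finite ↥(irreducibleComponents X) :=
    (TopologicalSpace.NoetherianSpace.finite_irreducibleComponents).to_subtype
  have key : ∀ W : ↥(irreducibleComponents X), ∃ (Z : Scheme.{u}) (i : Z ⟶ X),
      IsClosedImmersion i ∧ Set.range i = W.1 ∧ IsIntegral Z :=
    fun W => exists_integral_closedImmersion X W.1
      (isClosed_of_mem_irreducibleComponents W.1 W.2) W.2.1
  choose Z i hi hir hint using key
  have key2 : ∀ W, ∃ (Z' P : Scheme.{u}) (π : Z' ⟶ Z W) (q : Z' ⟶ P) (p : P ⟶ Y),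
      π ≫ (i W ≫ f) = q ≫ p ∧ IsProper π ∧ Surjective π ∧ IsImmersion q ∧ IsProper p ∧
        IrreducibleSpace Z' := fun W => by
    haveI := hi W
    haveI := hint W
    exact chow_affine (i W ≫ f)
  choose Z' P π q p hcomm hπ hπs hq hp hirr using key2
  have hc : ∀ W, IsProper (π W ≫ i W) := fun W => by
    haveI := hi W
    haveI := hπ W
    infer_instance
  have hcomm' : ∀ W, (π W ≫ i W) ≫ f = q W ≫ p W := fun W => by
    rw [Category.assoc]; exact hcomm W
  have hmax : ∀ W, @IsMaxPt X ((π W ≫ i W) (@genericPoint (Z' W) _ _ (hirr W))) := fun W => by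
    haveI := hirr W
    apply isMaxPt_of_closure_mem
    have h1 : closure {(π W ≫ i W) (genericPoint (Z' W))} = W.1 := by
      apply subset_antisymm
      · refine closure_minimal ?_ (isClosed_of_mem_irreducibleComponents W.1 W.2)
        rw [Set.singleton_subset_iff, ← hir W, Scheme.Hom.comp_apply]
        exact ⟨_, rfl⟩
      · rw [← hir W]
        rintro _ ⟨z, rfl⟩
        obtain ⟨z', rfl⟩ := (hπs W).surj z
        have hz : z' ∈ closure {genericPoint (Z' W)} := by
          rw [(genericPoint_spec (Z' W)).def]; trivial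
        have := image_closure_subset_closure_image (π W ≫ i W).continuous ⟨z', hz, rfl⟩
        rw [Set.image_singleton] at this
        rw [← Scheme.Hom.comp_apply]
        exact this
    rw [h1]
    exact W.2
  let T : ↥(irreducibleComponents X) → Set Y := fun W =>
    p W '' (closure (Set.range (q W)) \ Set.range (q W))
  have hTclosed : ∀ W, IsClosed (T W) := fun W => by
    haveI := hq W
    haveI := hp W
    exact isClosed_image_closure_diff (q W) (p W)
  have hyT : ∀ W, y ∉ T W := fun W => by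
    haveI := hq W
    haveI := hp W
    haveI := hc W
    haveI := hirr W
    exact not_mem_image_of_dvrLiftGen f (π W ≫ i W) (q W) (p W) (hcomm' W) (hmax W) y h
  let U : Y.Opens := ⟨(⋃ W, T W)ᶜ, (isClosed_iUnion_of_finite hTclosed).isOpen_compl⟩
  refine ⟨U, ?_, ?_⟩
  · show y ∈ (⋃ W, T W)ᶜ
    rw [Set.mem_compl_iff, Set.mem_iUnion]
    rintro ⟨W, hW⟩
    exact hyT W hW
  · have hsurj : ∀ x : X, ∃ W, x ∈ Set.range (π W ≫ i W) := fun x => by
      let W : ↥(irreducibleComponents X) :=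
        ⟨irreducibleComponent x, irreducibleComponent_mem_irreducibleComponents x⟩
      have hx : x ∈ Set.range (i W) := by rw [hir]; exact mem_irreducibleComponent
      obtain ⟨z, hz⟩ := hx
      obtain ⟨z', hz'⟩ := (hπs W).surj z
      exact ⟨W, z', by rw [Scheme.Hom.comp_apply, hz', hz]⟩
    rw [bcProper_iff_forall_comp (fun W => π W ≫ i W) hc hsurj f U.ι]
    intro W
    haveI := hq W
    haveI := hp W
    rw [hcomm' W]
    refine bcProper_of_disjoint (q W) (p W) U ?_
    rw [Set.disjoint_left]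
    intro t ht htT
    exact ht (Set.mem_iUnion.mpr ⟨W, htT⟩)

/-- **DVR criterion for properness near a point.** -/
theorem exists_isProper_restrict_of_dvrLiftGen {X Y : Scheme.{u}} [IsLocallyNoetherian Y]
    (f : X ⟶ Y) [IsSeparated f] [LocallyOfFiniteType f] [QuasiCompact f] (y : Y)
    (h : DVRLiftGen f y) : ∃ U : Y.Opens, y ∈ U ∧ IsProper (f ∣_ U) := by
  obtain ⟨V, hV, hyV, -⟩ :=
    exists_isAffineOpen_mem_and_subset (x := y) (U := ⊤) (Opens.mem_top y)
  haveI : IsAffine (V).toScheme := hV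
  haveI : AlgebraicGeometry.IsNoetherian (V).toScheme := {}
  obtain ⟨U', hyU', hb⟩ := exists_bcProper_of_affine (f ∣_ V) ⟨y, hyV⟩
    (dvrLiftGen_restrict f V y hyV h)
  have H1 := (isPullback_morphismRestrict f V).flip
  have H2 := IsPullback.of_hasPullback (f ∣_ V) U'.ι
  have H := H2.paste_horiz H1
  have hb' : BCProper f (U'.ι ≫ V.ι) := (bcProper_iff_of_isPullback H).mpr hb
  refine ⟨(U'.ι ≫ V.ι).opensRange, ⟨⟨⟨y, hyV⟩, hyU'⟩, rfl⟩, ?_⟩
  exact isProper_restrict_of_bcProper f (U'.ι ≫ V.ι) hb'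

end Groth.Agent.H1.ProperNbhd
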