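import Mathlib
import Groth.Agent.Lib.Helper1.ProperNbhd

/-!
# Discrete valuation rings of the function field and properness near a point — helper1
-/

set_option autoImplicit false
set_option linter.style.haveILetI false

universe u

open CategoryTheory CategoryTheory.Limits AlgebraicGeometry Topology TopologicalSpace IsLocalRing

namespace Groth.Agent.H1.DVRDom

section ALG

variable (B : Type u) [CommRing B] [IsDomain B] [IsDiscreteValuationRing B]
  {F : Type u} [Field F] [Algebra B F] [IsFractionRing B F]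
  {K : Type u} [Field K] (θ : K →+* F)

/-- the valuation subring of `K` cut out by `B ⊆ F` via `θ : K → F`. -/
noncomputable def cutVS : ValuationSubring K :=
  ((ValuationRing.valuation B F).valuationSubring).comap θ

variable {B}

theorem mem_cutVS {a : K} : a ∈ cutVS B θ ↔ ∃ b : B, algebraMap B F b = θ a := by
  unfold cutVS
  rw [ValuationSubring.mem_comap, Valuation.mem_valuationSubring_iff, ← Valuation.mem_integer_iff,
    ValuationRing.mem_integer_iff]

noncomputable def cutFun (a : ↥(cutVS B θ)) : B := ((mem_cutVS θ).mp a.2).choose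

theorem algebraMap_cutFun (a : ↥(cutVS B θ)) : algebraMap B F (cutFun θ a) = θ a :=
  ((mem_cutVS θ).mp a.2).choose_spec

noncomputable def cutHom : ↥(cutVS B θ) →+* B where
  toFun := cutFun θ
  map_one' := IsFractionRing.injective B F (by simp [algebraMap_cutFun])
  map_mul' x y := IsFractionRing.injective B F (by simp [algebraMap_cutFun])
  map_zero' := IsFractionRing.injective B F (by simp [algebraMap_cutFun])
  map_add' x y := IsFractionRing.injective B F (by simp [algebraMap_cutFun])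

theorem algebraMap_cutHom (a : ↥(cutVS B θ)) : algebraMap B F (cutHom θ a) = θ a :=
  algebraMap_cutFun θ a

theorem cutHom_injective : Function.Injective (cutHom (B := B) θ) := by
  intro a a' h
  apply Subtype.ext
  apply θ.injective
  rw [← algebraMap_cutHom, ← algebraMap_cutHom, h]

theorem isUnit_of_isUnit_cutHom {a : ↥(cutVS B θ)} (h : IsUnit (cutHom θ a)) : IsUnit a := by
  obtain ⟨b', hb'⟩ := h.exists_right_inv
  have h1 : θ a * algebraMap B F b' = 1 := by
    rw [← algebraMap_cutHom, ← map_mul, hb', map_one]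
  have ha0 : (a : K) ≠ 0 := by
    intro e
    rw [e, map_zero, zero_mul] at h1
    exact zero_ne_one h1
  have hmem : (a : K)⁻¹ ∈ cutVS B θ := by
    rw [mem_cutVS]
    refine ⟨b', ?_⟩
    rw [map_inv₀]
    exact eq_inv_of_mul_eq_one_right h1
  exact IsUnit.of_mul_eq_one ⟨(a : K)⁻¹, hmem⟩ (Subtype.ext (mul_inv_cancel₀ ha0))

theorem cutVS_eq_top_of_forall (h : ∀ a : ↥(cutVS B θ), a ≠ 0 → IsUnit a) : cutVS B θ = ⊤ := by
  rw [_root_.eq_top_iff]
  intro k _
  rcases (cutVS B θ).mem_or_inv_mem k with hk | hk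
  · exact hk
  · by_cases hk0 : k = 0
    · rw [hk0]; exact (cutVS B θ).zero_mem
    · have hne : (⟨k⁻¹, hk⟩ : ↥(cutVS B θ)) ≠ 0 := fun e =>
        hk0 (inv_eq_zero.mp (congrArg Subtype.val e))
      obtain ⟨v, hv⟩ := (h _ hne).exists_right_inv
      have e1 : k⁻¹ * (v : K) = 1 := congrArg Subtype.val hv
      have e2 : (v : K) = k := by rw [eq_inv_of_mul_eq_one_right e1, inv_inv]
      rw [← e2]; exact v.2

theorem isDVR_cutVS (h : ∃ a : ↥(cutVS B θ), a ≠ 0 ∧ ¬ IsUnit a) :
    IsDiscreteValuationRing ↥(cutVS B θ) := by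
  classical
  have hφinj := cutHom_injective (B := B) θ
  have hS : ({n | ∃ a : ↥(cutVS B θ), a ≠ 0 ∧ ¬ IsUnit a ∧
      IsDiscreteValuationRing.addVal B (cutHom θ a) = n} : Set ℕ∞).Nonempty := by
    obtain ⟨a, ha0, hau⟩ := h
    exact ⟨_, a, ha0, hau, rfl⟩
  obtain ⟨n, ⟨t, ht0, htu, rfl⟩, hmin'⟩ := wellFounded_lt.has_min _ hS
  have hmin : ∀ a : ↥(cutVS B θ), a ≠ 0 → ¬ IsUnit a → cutHom θ t ∣ cutHom θ a := by
    intro a ha0 hau
    rw [← IsDiscreteValuationRing.addVal_le_iff_dvd]
    exact not_lt.mp (hmin' _ ⟨a, ha0, hau, rfl⟩)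
  have ht0' : (t : K) ≠ 0 := fun e => ht0 (Subtype.ext e)
  have hφt0 : cutHom θ t ≠ 0 := fun e => ht0 (hφinj (by rw [e, map_zero]))
  have hφtu : ¬ IsUnit (cutHom θ t) := fun hu => htu (isUnit_of_isUnit_cutHom θ hu)
  have hdiv : ∀ a : ↥(cutVS B θ), cutHom θ t ∣ cutHom θ a → ∃ a' : ↥(cutVS B θ), a = t * a' := by
    rintro a ⟨b', hb'⟩
    have hmem : (a : K) / t ∈ cutVS B θ := by
      rw [mem_cutVS]
      refine ⟨b', ?_⟩
      have hθt0 : algebraMap B F (cutHom θ t) ≠ 0 := by
        rw [algebraMap_cutHom]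
        exact (map_ne_zero θ).mpr ht0'
      rw [map_div₀, ← algebraMap_cutHom θ a, ← algebraMap_cutHom θ t, hb', map_mul,
        mul_div_cancel_left₀ _ hθt0]
    refine ⟨⟨(a : K) / t, hmem⟩, Subtype.ext ?_⟩
    show (a : K) = t * ((a : K) / t)
    rw [mul_div_cancel₀ _ ht0']
  have hirr : Irreducible t := by
    refine ⟨htu, fun x y hxy => ?_⟩
    by_contra hcon
    push Not at hcon
    obtain ⟨hx, hy⟩ := hcon
    have hx0 : x ≠ 0 := by rintro rfl; exact ht0 (by rw [hxy, zero_mul])
    have hy0 : y ≠ 0 := by rintro rfl; exact ht0 (by rw [hxy, mul_zero])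
    obtain ⟨c, hc⟩ := hmin x hx0 hx
    obtain ⟨d, hd⟩ := hmin y hy0 hy
    have e1 : cutHom θ t * 1 = cutHom θ t * (c * (cutHom θ t * d)) := by
      calc cutHom θ t * 1 = cutHom θ (x * y) := by rw [mul_one, hxy]
        _ = cutHom θ x * cutHom θ y := map_mul _ _ _
        _ = _ := by rw [hc, hd]; ring
    have e2 : 1 = c * (cutHom θ t * d) := mul_left_cancel₀ hφt0 e1
    exact hφtu (IsUnit.of_mul_eq_one (d * c) (by rw [e2]; ring))
  refine IsDiscreteValuationRing.ofHasUnitMulPowIrreducibleFactorization ⟨t, hirr, ?_⟩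
  have key : ∀ b : B, ∀ a : ↥(cutVS B θ), a ≠ 0 → cutHom θ a = b →
      ∃ n : ℕ, Associated (t ^ n) a := by
    intro b
    refine (wellFounded_dvdNotUnit (α := B)).induction (C := fun b => ∀ a : ↥(cutVS B θ), a ≠ 0 →
      cutHom θ a = b → ∃ n : ℕ, Associated (t ^ n) a) b ?_
    · intro b ih a ha0 hab
      by_cases hau : IsUnit a
      · exact ⟨0, by rw [pow_zero]; exact (associated_one_iff_isUnit.mpr hau).symm⟩
      · obtain ⟨a', rfl⟩ := hdiv a (hmin a ha0 hau)
        have ha'0 : a' ≠ 0 := by rintro rfl; exact ha0 (mul_zero _)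
        have hdnu : DvdNotUnit (cutHom θ a') b := by
          refine ⟨fun e => ha'0 (hφinj (by rw [e, map_zero])), cutHom θ t, hφtu, ?_⟩
          rw [← hab, map_mul, mul_comm]
        obtain ⟨n, hn⟩ := ih (cutHom θ a') hdnu a' ha'0 rfl
        exact ⟨n + 1, by rw [pow_succ']; exact hn.mul_left t⟩
  intro x hx
  exact key (cutHom θ x) x hx rfl

theorem cutVS_eq_top_or_isDVR : cutVS B θ = ⊤ ∨ IsDiscreteValuationRing ↥(cutVS B θ) := by
  by_cases h : ∃ a : ↥(cutVS B θ), a ≠ 0 ∧ ¬ IsUnit a
  · exact Or.inr (isDVR_cutVS θ h)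
  · left
    push Not at h
    exact cutVS_eq_top_of_forall θ h

end ALG

/-! ### morphisms from spectra of local rings -/

theorem exists_hom_of_closedPoint_eq {X : Scheme.{u}} {R : CommRingCat.{u}} [IsLocalRing R]
    (g : Spec R ⟶ X) (x : X) (hx : g (closedPoint R) = x) :
    ∃ γ : X.presheaf.stalk x ⟶ R, IsLocalHom γ.hom ∧ Spec.map γ ≫ X.fromSpecStalk x = g := by
  subst hx
  exact ⟨Scheme.stalkClosedPointTo g, inferInstance,
    Scheme.Spec_stalkClosedPointTo_fromSpecStalk g⟩

theorem hom_eq_of_comp_fromSpecStalk_eq {X : Scheme.{u}} {x : X} {R : CommRingCat.{u}}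
    {γ₁ γ₂ : X.presheaf.stalk x ⟶ R}
    (h : Spec.map γ₁ ≫ X.fromSpecStalk x = Spec.map γ₂ ≫ X.fromSpecStalk x) : γ₁ = γ₂ :=
  Spec.map_injective ((cancel_mono (X.fromSpecStalk x)).mp h)

/-! ### lifting through a dominated local ring -/

theorem lift_of_dom {X Y : Scheme.{u}} [IsIntegral X] (f : X ⟶ Y) (x : X) (y : Y)
    (hxy : f x ⤳ y) (hξ : f (genericPoint X) ⤳ y)
    {B : Type u} [CommRing B] [IsDomain B] [IsDiscreteValuationRing B]
    (θ : X.presheaf.stalk (genericPoint X) ⟶ CommRingCat.of (FractionRing B))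
    (γ : Y.presheaf.stalk y ⟶ CommRingCat.of B)
    (hkey : γ ≫ CommRingCat.ofHom (algebraMap B (FractionRing B)) =
      (Y.presheaf.stalkSpecializes hξ ≫ f.stalkMap (genericPoint X)) ≫ θ)
    (hx : ∀ r : X.presheaf.stalk x,
      (X.presheaf.stalkSpecializes (genericPoint_specializes x) r : X.functionField) ∈
        cutVS B θ.hom) :
    ∃ l : Spec (CommRingCat.of B) ⟶ X, l ≫ f = Spec.map γ ≫ Y.fromSpecStalk y ∧
      Spec.map (CommRingCat.ofHom (algebraMap B (FractionRing B))) ≫ l =
        Spec.map θ ≫ X.fromSpecStalk (genericPoint X) := by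
  let sx := X.presheaf.stalkSpecializes (genericPoint_specializes x)
  let φ : X.presheaf.stalk x ⟶ CommRingCat.of B :=
    CommRingCat.ofHom ((cutHom θ.hom).comp (sx.hom.codRestrict (cutVS B θ.hom).toSubring hx))
  have hφ' : ∀ t : X.presheaf.stalk x,
      algebraMap B (FractionRing B) (φ t) = θ (sx t) := fun t => algebraMap_cutHom θ.hom _
  have hφ : φ ≫ CommRingCat.ofHom (algebraMap B (FractionRing B)) = sx ≫ θ := by
    ext t
    exact hφ' t
  have hkey' : ∀ r : Y.presheaf.stalk y, algebraMap B (FractionRing B) (γ r) =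
      θ (f.stalkMap (genericPoint X) (Y.presheaf.stalkSpecializes hξ r)) :=
    fun r => ConcreteCategory.congr_hom hkey r
  refine ⟨Spec.map φ ≫ X.fromSpecStalk x, ?_, ?_⟩
  · have h1 : Y.presheaf.stalkSpecializes hxy ≫ f.stalkMap x ≫ φ = γ := by
      ext r
      apply IsFractionRing.injective B (FractionRing B)
      have e3 := f.stalkSpecializes_stalkMap_apply (genericPoint X) x (genericPoint_specializes x)
        (Y.presheaf.stalkSpecializes hxy r)
      have e4 : Y.presheaf.stalkSpecializes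
          (f.base.hom.map_specializes (genericPoint_specializes x))
          (Y.presheaf.stalkSpecializes hxy r) = Y.presheaf.stalkSpecializes hξ r :=
        ConcreteCategory.congr_hom (TopCat.Presheaf.stalkSpecializes_comp Y.presheaf
          (f.base.hom.map_specializes (genericPoint_specializes x)) hxy) r
      calc algebraMap B (FractionRing B) (φ (f.stalkMap x (Y.presheaf.stalkSpecializes hxy r)))
          = θ (sx (f.stalkMap x (Y.presheaf.stalkSpecializes hxy r))) := hφ' _
        _ = θ (f.stalkMap (genericPoint X) (Y.presheaf.stalkSpecializes hξ r)) := by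
            rw [← e4, e3]
        _ = algebraMap B (FractionRing B) (γ r) := (hkey' r).symm
    calc (Spec.map φ ≫ X.fromSpecStalk x) ≫ f
        = Spec.map φ ≫ (X.fromSpecStalk x ≫ f) := Category.assoc _ _ _
      _ = Spec.map φ ≫ (Spec.map (f.stalkMap x) ≫ Y.fromSpecStalk (f x)) := by
          rw [Scheme.SpecMap_stalkMap_fromSpecStalk]
      _ = Spec.map φ ≫ (Spec.map (f.stalkMap x) ≫
            (Spec.map (Y.presheaf.stalkSpecializes hxy) ≫ Y.fromSpecStalk y)) := by
          rw [Scheme.SpecMap_stalkSpecializes_fromSpecStalk]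
      _ = Spec.map (Y.presheaf.stalkSpecializes hxy ≫ f.stalkMap x ≫ φ) ≫ Y.fromSpecStalk y := by
          simp only [Spec.map_comp, Category.assoc]
      _ = Spec.map γ ≫ Y.fromSpecStalk y := by rw [h1]
  · rw [← Category.assoc, ← Spec.map_comp, hφ, Spec.map_comp, Category.assoc,
      Scheme.SpecMap_stalkSpecializes_fromSpecStalk]

theorem dvrLiftGen_of_functionField {X Y : Scheme.{u}} [IsIntegral X] (f : X ⟶ Y) (y : Y)
    (hξ : f.base (genericPoint X) ⤳ y)
    (H : ∀ A : ValuationSubring X.functionField, IsDiscreteValuationRing A →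
        (∀ r : Y.presheaf.stalk y, A.valuation
          ((Y.presheaf.stalkSpecializes hξ ≫ f.stalkMap (genericPoint X)) r) ≤ 1) →
        (∀ r ∈ IsLocalRing.maximalIdeal (Y.presheaf.stalk y),
            A.valuation ((Y.presheaf.stalkSpecializes hξ ≫ f.stalkMap (genericPoint X)) r) < 1) →
        ∃ x : X, f.base x = y ∧
          (∀ r : X.presheaf.stalk x,
            A.valuation (X.presheaf.stalkSpecializes (genericPoint_specializes x) r) ≤ 1) ∧
          (∀ r ∈ IsLocalRing.maximalIdeal (X.presheaf.stalk x),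
            A.valuation (X.presheaf.stalkSpecializes (genericPoint_specializes x) r) < 1)) :
    ProperNbhd.DVRLiftGen f y := by
  intro B _ _ _ g hg σ hσ hcomm
  have hσξ : σ (closedPoint (FractionRing B)) = genericPoint X :=
    (hσ _ (genericPoint_specializes _)).symm
  haveI : IsLocalRing (CommRingCat.of B) := inferInstanceAs (IsLocalRing B)
  haveI : IsLocalRing (CommRingCat.of (FractionRing B)) :=
    inferInstanceAs (IsLocalRing (FractionRing B))
  obtain ⟨θ, -, hθ⟩ := exists_hom_of_closedPoint_eq σ (genericPoint X) hσξ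
  obtain ⟨γ, hγloc, hγ⟩ := exists_hom_of_closedPoint_eq g y hg
  have hψ : Spec.map (Y.presheaf.stalkSpecializes hξ ≫ f.stalkMap (genericPoint X)) ≫
      Y.fromSpecStalk y = X.fromSpecStalk (genericPoint X) ≫ f := by
    rw [Spec.map_comp, Category.assoc, Scheme.SpecMap_stalkSpecializes_fromSpecStalk,
      Scheme.SpecMap_stalkMap_fromSpecStalk]
  have hkey : γ ≫ CommRingCat.ofHom (algebraMap B (FractionRing B)) =
      (Y.presheaf.stalkSpecializes hξ ≫ f.stalkMap (genericPoint X)) ≫ θ := by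
    apply hom_eq_of_comp_fromSpecStalk_eq
    rw [Spec.map_comp, Category.assoc, hγ, Spec.map_comp, Category.assoc, hψ, ← Category.assoc,
      hθ]
    exact hcomm.symm
  have hkey' : ∀ r : Y.presheaf.stalk y, algebraMap B (FractionRing B) (γ r) =
      θ ((Y.presheaf.stalkSpecializes hξ ≫ f.stalkMap (genericPoint X)) r) :=
    fun r => ConcreteCategory.congr_hom hkey r
  suffices hx : ∃ x : X, f x ⤳ y ∧ ∀ r : X.presheaf.stalk x,
      (X.presheaf.stalkSpecializes (genericPoint_specializes x) r : X.functionField) ∈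
        cutVS B θ.hom by
    obtain ⟨x, hxy, hx⟩ := hx
    obtain ⟨l, hl1, hl2⟩ := lift_of_dom f x y hxy hξ θ γ hkey hx
    exact ⟨l, by rw [hl1, hγ], by rw [hl2, hθ]⟩
  rcases cutVS_eq_top_or_isDVR (B := B) θ.hom with htop | hdvr
  · exact ⟨genericPoint X, hξ, fun r => by rw [htop]; exact ValuationSubring.mem_top _⟩
  · have hmem : ∀ r : Y.presheaf.stalk y,
        ((Y.presheaf.stalkSpecializes hξ ≫ f.stalkMap (genericPoint X)) r : X.functionField) ∈
          cutVS B θ.hom := fun r => (mem_cutVS _).mpr ⟨γ r, hkey' r⟩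
    have hA1 : ∀ r : Y.presheaf.stalk y, (cutVS B θ.hom).valuation
        ((Y.presheaf.stalkSpecializes hξ ≫ f.stalkMap (genericPoint X)) r) ≤ 1 := by
      intro r
      exact ((cutVS B θ.hom).valuation_le_one_iff _).mpr (hmem r)
    have hA2 : ∀ r ∈ IsLocalRing.maximalIdeal (Y.presheaf.stalk y), (cutVS B θ.hom).valuation
        ((Y.presheaf.stalkSpecializes hξ ≫ f.stalkMap (genericPoint X)) r) < 1 := by
      intro r hr
      refine (ValuationSubring.valuation_lt_one_iff (cutVS B θ.hom) ⟨_, hmem r⟩).mp ?_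
      rw [IsLocalRing.mem_maximalIdeal, mem_nonunits_iff]
      intro hu
      have hu' : IsUnit (cutHom θ.hom ⟨_, hmem r⟩) := hu.map _
      have e : cutHom θ.hom ⟨_, hmem r⟩ = γ r := by
        apply IsFractionRing.injective B (FractionRing B)
        rw [algebraMap_cutHom]
        exact (hkey' r).symm
      rw [e] at hu'
      have hur : IsUnit r := hγloc.map_nonunit r hu'
      exact ((IsLocalRing.mem_maximalIdeal r).mp hr) hur
    obtain ⟨x, hfx, h3, -⟩ := H (cutVS B θ.hom) hdvr hA1 hA2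
    exact ⟨x, specializes_of_eq hfx, fun r =>
      ((cutVS B θ.hom).valuation_le_one_iff _).mp (h3 r)⟩

/-! ### the valuative criterion for a proper restriction -/

theorem dom_of_isProper {X Y : Scheme.{u}} [IsIntegral X] (f : X ⟶ Y) (y : Y)
    (hξ : f.base (genericPoint X) ⤳ y) (U : Y.Opens) (hyU : y ∈ U) [IsProper (f ∣_ U)]
    (A : ValuationSubring X.functionField)
    (h1 : ∀ r : Y.presheaf.stalk y, A.valuation
      ((Y.presheaf.stalkSpecializes hξ ≫ f.stalkMap (genericPoint X)) r) ≤ 1)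
    (h2 : ∀ r ∈ IsLocalRing.maximalIdeal (Y.presheaf.stalk y),
      A.valuation ((Y.presheaf.stalkSpecializes hξ ≫ f.stalkMap (genericPoint X)) r) < 1) :
    ∃ x : X, f.base x = y ∧
      (∀ r : X.presheaf.stalk x,
        A.valuation (X.presheaf.stalkSpecializes (genericPoint_specializes x) r) ≤ 1) ∧
      (∀ r ∈ IsLocalRing.maximalIdeal (X.presheaf.stalk x),
        A.valuation (X.presheaf.stalkSpecializes (genericPoint_specializes x) r) < 1) := by
  let ψ : Y.presheaf.stalk y ⟶ X.presheaf.stalk (genericPoint X) :=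
    Y.presheaf.stalkSpecializes hξ ≫ f.stalkMap (genericPoint X)
  let ψA : Y.presheaf.stalk y ⟶ CommRingCat.of A :=
    CommRingCat.ofHom (ψ.hom.codRestrict A.toSubring
      (fun r => (A.valuation_le_one_iff _).mp (h1 r)))
  let subA : CommRingCat.of A ⟶ X.presheaf.stalk (genericPoint X) :=
    CommRingCat.ofHom (algebraMap A X.functionField)
  have hψA : ψA ≫ subA = ψ := by
    ext r
    rfl
  haveI : IsLocalRing (CommRingCat.of A) := inferInstanceAs (IsLocalRing A)
  haveI : IsLocalHom ψA.hom := by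
    constructor
    intro r hr
    by_contra hnu
    have hm : r ∈ IsLocalRing.maximalIdeal (Y.presheaf.stalk y) :=
      (IsLocalRing.mem_maximalIdeal r).mpr hnu
    have hmem : ψA.hom r ∈ IsLocalRing.maximalIdeal A :=
      (A.valuation_lt_one_iff (ψA.hom r)).mpr (h2 r hm)
    exact (IsLocalRing.mem_maximalIdeal _).mp hmem hr
  have hξU : genericPoint X ∈ f ⁻¹ᵁ U := hξ.mem_open U.2 hyU
  let gU : Spec (CommRingCat.of A) ⟶ U := Spec.map ψA ≫ U.fromSpecStalkOfMem y hyU
  let ηU : Spec (X.presheaf.stalk (genericPoint X)) ⟶ (f ⁻¹ᵁ U) :=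
    (f ⁻¹ᵁ U).fromSpecStalkOfMem (genericPoint X) hξU
  have hsq : ηU ≫ f ∣_ U = Spec.map subA ≫ gU := by
    rw [← cancel_mono U.ι]
    simp only [Category.assoc, morphismRestrict_ι, Scheme.Opens.fromSpecStalkOfMem_ι, gU, ηU,
      Scheme.Opens.fromSpecStalkOfMem_ι_assoc]
    rw [← Spec.map_comp_assoc, hψA, Spec.map_comp, Category.assoc,
      Scheme.SpecMap_stalkSpecializes_fromSpecStalk, Scheme.SpecMap_stalkMap_fromSpecStalk]
  have hex : ValuativeCriterion.Existence (f ∣_ U) := by
    have huc : UniversallyClosed (f ∣_ U) := inferInstance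
    rw [UniversallyClosed.eq_valuativeCriterion] at huc
    exact huc.1
  let Sq : ValuativeCommSq (f ∣_ U) :=
    { R := A, K := X.functionField, i₁ := ηU, i₂ := gU, commSq := ⟨hsq⟩ }
  obtain ⟨⟨lU, hl1, hl2⟩⟩ := (hex Sq).exists_lift
  have hl1' : Spec.map subA ≫ lU = ηU := hl1
  have hl2' : lU ≫ f ∣_ U = gU := hl2
  let l : Spec (CommRingCat.of A) ⟶ X := lU ≫ (f ⁻¹ᵁ U).ι
  have hlf : l ≫ f = Spec.map ψA ≫ Y.fromSpecStalk y := by
    calc l ≫ f = lU ≫ ((f ⁻¹ᵁ U).ι ≫ f) := Category.assoc _ _ _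
      _ = lU ≫ (f ∣_ U ≫ U.ι) := by rw [morphismRestrict_ι]
      _ = gU ≫ U.ι := by rw [← Category.assoc, hl2']
      _ = _ := by simp only [gU, Category.assoc, Scheme.Opens.fromSpecStalkOfMem_ι]
  have hlη : Spec.map subA ≫ l = X.fromSpecStalk (genericPoint X) := by
    calc Spec.map subA ≫ l = (Spec.map subA ≫ lU) ≫ (f ⁻¹ᵁ U).ι := (Category.assoc _ _ _).symm
      _ = ηU ≫ (f ⁻¹ᵁ U).ι := by rw [hl1']
      _ = _ := Scheme.Opens.fromSpecStalkOfMem_ι _ _ _
  refine ⟨l (closedPoint A), ?_, ?_⟩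
  · have e : (l ≫ f) (closedPoint A) = y := by
      rw [hlf, Scheme.Hom.comp_apply, Spec_closedPoint, Scheme.fromSpecStalk_closedPoint]
    exact (Scheme.Hom.comp_apply l f _).symm.trans e
  · obtain ⟨φ, hφloc, hφ⟩ := exists_hom_of_closedPoint_eq l (l (closedPoint A)) rfl
    have hφs : φ ≫ subA =
        X.presheaf.stalkSpecializes (genericPoint_specializes (l (closedPoint A))) := by
      apply hom_eq_of_comp_fromSpecStalk_eq
      rw [Spec.map_comp, Category.assoc, hφ, hlη, Scheme.SpecMap_stalkSpecializes_fromSpecStalk]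
    have hφs' : ∀ r, ((φ r : A) : X.functionField) =
        X.presheaf.stalkSpecializes (genericPoint_specializes (l (closedPoint A))) r :=
      fun r => ConcreteCategory.congr_hom hφs r
    constructor
    · intro r
      rw [← hφs' r]
      exact A.valuation_le_one (φ r)
    · intro r hr
      rw [← hφs' r]
      refine (A.valuation_lt_one_iff (φ r)).mp ?_
      rw [IsLocalRing.mem_maximalIdeal, mem_nonunits_iff]
      intro hu
      exact ((IsLocalRing.mem_maximalIdeal r).mp hr) (hφloc.map_nonunit r hu)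

end Groth.Agent.H1.DVRDom
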