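import Mathlib
import Groth.Prelude.Def_EGA43
import Groth.Agent.S10880
import Groth.Agent.Lib.Helper1.EquidimComp
import Groth.Agent.Lib.Helper1.FibreStalk

set_option autoImplicit false
set_option linter.style.haveILetI false

universe u

namespace Groth.Agent.H1.DVRFlatLoc

open AlgebraicGeometry CategoryTheory CategoryTheory.Limits TopologicalSpace Topology

/-- local version of `S10887.comap_minimalPrime_eq_bot`. -/
theorem comap_minimalPrime_eq_bot_of_maximal {X Y : Scheme.{u}} [IsIntegral Y] (f : X ⟶ Y) (x : X)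
    (hgen : ∀ ξ : X, (∀ ξ' : X, ξ' ⤳ ξ → ξ' = ξ) → ξ ⤳ x → ∀ y' : Y, f.base ξ ⤳ y')
    (p : Ideal (X.presheaf.stalk x)) (hp : p ∈ minimalPrimes (X.presheaf.stalk x)) :
    p.comap (f.stalkMap x).hom = ⊥ := by
  haveI : p.IsPrime := hp.1.1
  let P : Spec (X.presheaf.stalk x) := ⟨p, hp.1.1⟩
  set ξ := X.fromSpecStalk x P with hξ
  have hemb := (X.fromSpecStalk x).isEmbedding
  have hξx : ξ ⤳ x := by
    have : ξ ∈ Set.range (X.fromSpecStalk x) := ⟨P, rfl⟩
    rw [Scheme.range_fromSpecStalk] at this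
    exact this
  have hmax : ∀ ξ' : X, ξ' ⤳ ξ → ξ' = ξ := by
    intro ξ' h
    have h' : ξ' ∈ Set.range (X.fromSpecStalk x) := by
      rw [Scheme.range_fromSpecStalk]; exact h.trans hξx
    obtain ⟨P', rfl⟩ := h'
    have hs0 : P' ⤳ P := hemb.isInducing.specializes_iff.mp h
    have hs : P'.asIdeal ≤ P.asIdeal :=
      (PrimeSpectrum.le_iff_specializes (R := X.presheaf.stalk x) P' P).mpr hs0
    have : P'.asIdeal = p := by
      refine le_antisymm hs ?_
      exact hp.2 ⟨P'.isPrime, bot_le⟩ hs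
    have hPP : P' = P := PrimeSpectrum.ext this
    rw [hPP]
  have hgen' := hgen ξ hmax hξx
  let Q : Spec (Y.presheaf.stalk (f.base x)) := Spec.map (f.stalkMap x) P
  have hQ : Y.fromSpecStalk (f.base x) Q = f.base ξ := by
    have := Scheme.SpecMap_stalkMap_fromSpecStalk f (x := x)
    have h2 := congrArg (fun g => g.base P) this
    exact h2
  let B0 : Spec (Y.presheaf.stalk (f.base x)) := ⟨⊥, Ideal.isPrime_bot⟩
  have hembY := (Y.fromSpecStalk (f.base x)).isEmbedding
  have h3 : Y.fromSpecStalk (f.base x) Q ⤳ Y.fromSpecStalk (f.base x) B0 := by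
    rw [hQ]; exact hgen' _
  have h4 : Q ⤳ B0 := hembY.isInducing.specializes_iff.mp h3
  have h5 : Q.asIdeal ≤ ⊥ :=
    (PrimeSpectrum.le_iff_specializes (R := Y.presheaf.stalk (f.base x)) Q B0).mpr h4
  have h6 : Q.asIdeal = p.comap (f.stalkMap x).hom := rfl
  rw [← h6]
  exact le_bot_iff.mp h5

/-- over a DVR, a maximal point of `X` at which `f` is open maps to the generic point. -/
theorem asIdeal_eq_bot_of_isOpenAt {R : Type u} [CommRing R] [IsDomain R]
    [IsDiscreteValuationRing R] {X : Scheme.{u}} (f : X ⟶ Spec (CommRingCat.of R))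
    [LocallyOfFiniteType f] (ξ : X) (hξmax : ∀ ξ' : X, ξ' ⤳ ξ → ξ' = ξ)
    (hopen : EGA43.IsOpenAt f.base ξ) : (f.base ξ).asIdeal = ⊥ := by
  haveI : IsLocallyNoetherian X := LocallyOfFiniteType.isLocallyNoetherian f
  obtain ⟨U₁, hU₁, hξU₁⟩ : ∃ U₁ : X.Opens, IsAffineOpen U₁ ∧ ξ ∈ U₁ := by
    obtain ⟨_, ⟨V, hV, rfl⟩, hz, -⟩ :=
      X.isBasis_affineOpens.exists_subset_of_mem_open (Set.mem_univ ξ) isOpen_univ
    exact ⟨V, hV, hz⟩
  haveI : IsNoetherianRing Γ(X, U₁) := IsLocallyNoetherian.component_noetherian ⟨U₁, hU₁⟩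
  obtain ⟨U₀, hξU₀, -, hU₀⟩ := Groth.Agent.H1.EquidimLoc.exists_open_forall_generic_specializes
    ξ U₁ hU₁ hξU₁ (minimalPrimes.finite_of_isNoetherianRing _)
  have hnhds : f.base '' (U₀ : Set X) ∈ nhds (f.base ξ) :=
    hopen _ (U₀.isOpen.mem_nhds hξU₀)
  let B0 : Spec (CommRingCat.of R) := ⟨⊥, Ideal.isPrime_bot⟩
  have hB0 : B0 ⤳ f.base ξ :=
    (PrimeSpectrum.le_iff_specializes (R := R) B0 (f.base ξ)).mp bot_le
  have hB0' : nhds B0 ≤ nhds (f.base ξ) := hB0
  have hmem : B0 ∈ f.base '' (U₀ : Set X) := mem_of_mem_nhds (hB0' hnhds)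
  obtain ⟨ξ', hξ'U₀, hfξ'⟩ := hmem
  obtain ⟨ζ, hζmax, hζξ'⟩ := Groth.Agent.H1.EquidimComp.exists_maximal_generization ξ'
  have hζU₀ : ζ ∈ U₀ := hζξ'.mem_open U₀.isOpen hξ'U₀
  have hζξ : ζ ⤳ ξ := hU₀ ζ hζU₀ hζmax
  have hζe : ζ = ξ := hξmax ζ hζξ
  subst hζe
  have h1 : f.base ζ ⤳ f.base ξ' := hζξ'.map f.base.hom.continuous
  rw [hfξ'] at h1
  have h2 : (f.base ζ).asIdeal ≤ B0.asIdeal :=
    (PrimeSpectrum.le_iff_specializes (R := R) (f.base ζ) B0).mpr h1
  exact le_bot_iff.mp h2

theorem s4948 {R : Type u} [CommRing R] [IsDomain R]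
    [IsDiscreteValuationRing R] {X : Scheme.{u}} (f : X ⟶ Spec (CommRingCat.of R))
    [LocallyOfFiniteType f] (x : X)
    (hx : f.base x = IsLocalRing.closedPoint R)
    (h : ∀ z : ↥(f.fiber (f.base x)), f.asFiber x ∈ closure {z} →
      (∀ z' : ↥(f.fiber (f.base x)), z ∈ closure {z'} → z' = z) →
        EGA43.IsOpenAt f.base ((f.fiberι (f.base x)).base z))
    (hred : _root_.IsReduced ((f.fiber (f.base x)).presheaf.stalk (f.asFiber x))) :
    (f.stalkMap x).hom.Flat := by
  haveI : IsLocallyNoetherian X := LocallyOfFiniteType.isLocallyNoetherian f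
  -- maximal points through `x` map to the generic point
  have hgen : ∀ ξ : X, (∀ ξ' : X, ξ' ⤳ ξ → ξ' = ξ) → ξ ⤳ x →
      ∀ y' : Spec (CommRingCat.of R), f.base ξ ⤳ y' := by
    intro ξ hξmax hξx y'
    have hbot : (f.base ξ).asIdeal = ⊥ := by
      by_contra hne
      have hmaxI : (f.base ξ).asIdeal.IsMaximal := Ideal.IsPrime.isMaximal (f.base ξ).isPrime hne
      have hcl : f.base ξ = f.base x := by
        rw [hx]
        exact PrimeSpectrum.ext (IsLocalRing.eq_maximalIdeal hmaxI)
      have hemb : IsEmbedding (f.fiberι (f.base x)).base := (f.fiberι (f.base x)).isEmbedding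
      obtain ⟨z, hz⟩ : ξ ∈ Set.range (f.fiberι (f.base x)).base := by
        have hr := Scheme.Hom.range_fiberι f (f.base x)
        have : ξ ∈ f ⁻¹' {f.base x} := hcl
        rw [← hr] at this
        exact this
      have hzx : z ⤳ f.asFiber x := by
        apply hemb.isInducing.specializes_iff.mp
        have h1 : (f.fiberι (f.base x)).base (f.asFiber x) = x := f.fiberι_asFiber x
        rw [hz, h1]
        exact hξx
      have hzmax : ∀ z' : ↥(f.fiber (f.base x)), z ∈ closure {z'} → z' = z := by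
        intro z' hz'
        have h1 : z' ⤳ z := specializes_iff_mem_closure.mpr hz'
        have h2 := h1.map (f.fiberι (f.base x)).base.hom.continuous
        rw [hz] at h2
        exact hemb.injective ((hξmax _ h2).trans hz.symm)
      have hop := h z (specializes_iff_mem_closure.mp hzx) hzmax
      rw [hz] at hop
      exact hne (asIdeal_eq_bot_of_isOpenAt f ξ hξmax hop)
    refine (PrimeSpectrum.le_iff_specializes (R := R) (f.base ξ) y').mp ?_
    change (f.base ξ).asIdeal ≤ y'.asIdeal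
    rw [hbot]; exact bot_le
  -- the flatness argument
  set y := f.base x with hy
  let A := (Spec (CommRingCat.of R)).presheaf.stalk y
  let B := X.presheaf.stalk x
  let _k : Algebra R A := StructureSheaf.stalkAlgebra R y
  haveI hyprime : y.asIdeal.IsPrime := y.isPrime
  haveI hloc : IsLocalization.AtPrime A y.asIdeal := StructureSheaf.IsLocalization.to_stalk R y
  haveI : IsDedekindDomain A := IsLocalization.AtPrime.isDedekindDomain R y.asIdeal A
  have hinj : Function.Injective (algebraMap R A) :=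
    IsLocalization.injective A y.asIdeal.primeCompl_le_nonZeroDivisors
  letI := (f.stalkMap x).hom.toAlgebra
  change Module.Flat A B
  haveI : IsNoetherianRing B := inferInstanceAs (IsNoetherianRing (X.presheaf.stalk x))
  rw [IsDedekindDomain.flat_iff_torsion_eq_bot, Submodule.eq_bot_iff]
  intro b hb
  rw [Submodule.mem_torsion_iff] at hb
  obtain ⟨a, hab⟩ := hb
  have ha : (a : A) ≠ 0 := nonZeroDivisors.coe_ne_zero a
  have hab' : (f.stalkMap x).hom a * b = 0 := hab
  obtain ⟨⟨r, s⟩, hrs⟩ := IsLocalization.mk'_surjective y.asIdeal.primeCompl (a : A)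
  have hr : algebraMap R A r = (a : A) * algebraMap R A s := by
    rw [← hrs]; simp
  have hr0 : r ≠ 0 := by
    rintro rfl
    rw [map_zero] at hr
    have hs : IsUnit (algebraMap R A s) := IsLocalization.map_units A s
    rcases mul_eq_zero.mp hr.symm with h | h
    · exact ha h
    · exact hs.ne_zero h
  let ψ : R →+* B := (f.stalkMap x).hom.comp (algebraMap R A)
  have hψr : ψ r * b = 0 := by
    change (f.stalkMap x).hom (algebraMap R A r) * b = 0
    rw [hr, map_mul, mul_comm ((f.stalkMap x).hom a), mul_assoc, hab', mul_zero]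
  have hyc : y = IsLocalRing.closedPoint R := hx
  obtain ⟨π, hπ⟩ := IsDiscreteValuationRing.exists_irreducible R
  have hπ0 : π ≠ 0 := hπ.ne_zero
  have hmR : IsLocalRing.maximalIdeal R = Ideal.span {π} := hπ.maximalIdeal_eq
  have hyI : y.asIdeal = IsLocalRing.maximalIdeal R := by rw [hyc]; rfl
  have hmA : IsLocalRing.maximalIdeal A = Ideal.span {algebraMap R A π} := by
    rw [← IsLocalization.AtPrime.map_eq_maximalIdeal y.asIdeal A, hyI, hmR, Ideal.map_span,
      Set.image_singleton]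
  set t : B := ψ π with ht
  have hJ : (IsLocalRing.maximalIdeal A).map (f.stalkMap x).hom = Ideal.span {t} := by
    rw [hmA, Ideal.map_span, Set.image_singleton]; rfl
  have htm : t ∈ IsLocalRing.maximalIdeal B := by
    have h1 : algebraMap R A π ∈ IsLocalRing.maximalIdeal A := by
      rw [hmA]; exact Ideal.mem_span_singleton_self _
    have : IsLocalHom (f.stalkMap x).hom := inferInstance
    rw [IsLocalRing.mem_maximalIdeal, mem_nonunits_iff] at h1 ⊢
    intro hu
    exact h1 (isUnit_of_map_unit (f.stalkMap x).hom _ hu)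
  haveI : _root_.IsReduced ((f.fiber y).presheaf.stalk (f.asFiber x)) := hred
  have hredQ : _root_.IsReduced (B ⧸ (IsLocalRing.maximalIdeal A).map (f.stalkMap x).hom) :=
    isReduced_of_injective (Groth.Agent.H1.FibreStalk.fiberStalkEquiv f x).toRingHom
      (Groth.Agent.H1.FibreStalk.fiberStalkEquiv f x).injective
  refine Groth.Agent.S10880.eq_zero_of_tor t htm (fun b => ∃ r : R, r ≠ 0 ∧ ψ r * b = 0) ?_ b
    ⟨r, hr0, hψr⟩
  rintro b ⟨r, hr0, hrb⟩
  have hnil : b ∈ nilradical B := by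
    rw [nilradical, ← Ideal.sInf_minimalPrimes, Submodule.mem_sInf]
    intro p hp
    have hp' : p ∈ minimalPrimes (X.presheaf.stalk x) := hp
    have hc := comap_minimalPrime_eq_bot_of_maximal f x hgen p hp'
    haveI hpp : Ideal.IsPrime p := hp.1.1
    have : ψ r * b ∈ p := by rw [hrb]; exact p.zero_mem
    rcases Ideal.IsPrime.mem_or_mem hpp this with h | h
    · exfalso
      have : algebraMap R A r ∈ Ideal.comap (f.stalkMap x).hom p := h
      rw [hc] at this
      have h0 : algebraMap R A r = 0 := this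
      rw [← map_zero (algebraMap R A)] at h0
      exact hr0 (hinj h0)
    · exact h
  have hbJ : b ∈ (IsLocalRing.maximalIdeal A).map (f.stalkMap x).hom := by
    rw [← Ideal.Quotient.eq_zero_iff_mem]
    have : IsNilpotent (Ideal.Quotient.mk ((IsLocalRing.maximalIdeal A).map (f.stalkMap x).hom) b) :=
      (mem_nilradical.mp hnil).map _
    exact this.eq_zero
  rw [hJ, Ideal.mem_span_singleton'] at hbJ
  obtain ⟨b', hb'⟩ := hbJ
  refine ⟨b', ⟨r * π, mul_ne_zero hr0 hπ0, ?_⟩, by rw [← hb', mul_comm]⟩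
  rw [map_mul, mul_assoc, ← ht, mul_comm t b', hb', hrb]

end Groth.Agent.H1.DVRFlatLoc
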