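import Mathlib
import Groth.Agent.Lib.Helper1.RegCut
import Groth.Agent.Lib.Helper1.HensFin4
import Groth.Agent.Lib.Helper8.Japanese.CompleteNagata
import Groth.Agent.Lib.Helper8.Japanese.NagFT16
import Groth.Agent.Lib.Helper9.CompleteDVRExt
import Groth.Agent.Lib.Helper1.Henselian
import Groth.Agent.S2363
import Groth.Agent.S0543
import Groth.Agent.Lib.Helper8.AUDvr.A1
import Groth.Prelude.Def_EGA43
import Groth.Agent.Lib.Helper1.DVRCrit

/-!
# DVR lifting criterion for universal openness at a point (EGA IV 14.5.8-style, S4981)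

Main results: `exists_prime_not_mem`, `exists_dvr_lift` (ring-level lifting of a rational point of the
special fibre to a finite DVR extension of a complete DVR), `isDVR_of_flat`,
`exists_complete_dvr_ext` (complete DVR extension with prescribed residue field),
`lift_of_dvrCond`, `injective_of_finite`, `dvrCond_of_lift`.
-/

set_option autoImplicit false
universe u

namespace Groth.Agent.H1.DVRLift


open IsLocalRing

section Prime

variable {S : Type u} [CommRing S] [IsDomain S] [IsNoetherianRing S]

/-- In a Noetherian domain, if there is a nonzero prime strictly below the prime `p`, then for any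
nonzero `π ∈ p` there is a nonzero prime `P₃ ≤ p` not containing `π`. -/
theorem exists_prime_not_mem (p Q' : Ideal S) [p.IsPrime] [Q'.IsPrime] (h0 : Q' ≠ ⊥) (hlt : Q' < p)
    (π : S) (hπ0 : π ≠ 0) (hπp : π ∈ p) :
    ∃ P₃ : Ideal S, P₃.IsPrime ∧ P₃ ≤ p ∧ P₃ ≠ ⊥ ∧ π ∉ P₃ := by
  classical
  have hbot : ∀ (M : Ideal S) [M.IsPrime], M ≠ ⊥ → 1 ≤ M.height := by
    intro M _ hM
    have h1 : (⊥ : Ideal S).height < M.height :=
      Ideal.height_strict_mono_of_isPrime (bot_lt_iff_ne_bot.mpr hM)
    exact Order.one_le_iff_pos.mpr (lt_of_le_of_lt bot_le h1)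
  have hp2 : 2 ≤ p.height := by
    have h1 : 1 ≤ Q'.height := hbot Q' h0
    have h2 : Q'.height < p.height := Ideal.height_strict_mono_of_isPrime hlt
    have h3 : Q'.height + 1 ≤ p.height := Order.add_one_le_of_lt h2
    calc (2 : ℕ∞) = 1 + 1 := by norm_num
      _ ≤ Q'.height + 1 := by gcongr
      _ ≤ p.height := h3
  have hfin : (Ideal.span {π}).minimalPrimes.Finite :=
    Ideal.finite_minimalPrimes_of_isNoetherianRing S _
  have hht : ∀ M ∈ (Ideal.span {π}).minimalPrimes, M.height ≤ 1 := fun M hM =>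
    Ideal.height_le_one_of_isPrincipal_of_mem_minimalPrimes _ M hM
  have hπle : Ideal.span {π} ≤ p := (Ideal.span_singleton_le_iff_mem _).mpr hπp
  obtain ⟨M₀, hM₀, -⟩ := Ideal.exists_minimalPrimes_le hπle
  -- prime avoidance
  obtain ⟨y, hyp, hy⟩ : ∃ y ∈ p, ∀ M ∈ (Ideal.span {π}).minimalPrimes, y ∉ M := by
    by_contra hcon
    push Not at hcon
    have hsub : (p : Set S) ⊆ ⋃ M ∈ (hfin.toFinset : Set (Ideal S)), (id M : Ideal S) := by
      intro y hy
      obtain ⟨M, hM, hyM⟩ := hcon y hy
      simp only [Set.mem_iUnion]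
      exact ⟨M, by simpa using hM, hyM⟩
    rw [Ideal.subset_union_prime (f := id) M₀ M₀] at hsub
    · obtain ⟨M, hM, hpM⟩ := hsub
      have hM' : M ∈ (Ideal.span {π}).minimalPrimes := by simpa using hM
      have := (Ideal.height_mono hpM).trans (hht M hM')
      have h21 : (2 : ℕ∞) ≤ 1 := hp2.trans this
      norm_num at h21
    · intro M hM _ _
      have hM' : M ∈ (Ideal.span {π}).minimalPrimes := by simpa using hM
      exact Ideal.IsMinimalPrime.isPrime hM'
  have hyle : Ideal.span {y} ≤ p := (Ideal.span_singleton_le_iff_mem _).mpr hyp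
  obtain ⟨P₃, hP₃, hP₃p⟩ := Ideal.exists_minimalPrimes_le hyle
  haveI hP₃prime : P₃.IsPrime := Ideal.IsMinimalPrime.isPrime hP₃
  have hyP₃ : y ∈ P₃ := hP₃.1.2 (Ideal.mem_span_singleton_self y)
  have hy0 : y ≠ 0 := by
    rintro rfl
    exact hy M₀ hM₀ (Ideal.zero_mem _)
  have hP₃ht : P₃.height ≤ 1 := Ideal.height_le_one_of_isPrincipal_of_mem_minimalPrimes _ P₃ hP₃
  refine ⟨P₃, hP₃prime, hP₃p, ?_, ?_⟩
  · intro h
    rw [h] at hyP₃
    exact hy0 (by simpa using hyP₃)
  · intro hπP₃
    have hle : Ideal.span {π} ≤ P₃ := (Ideal.span_singleton_le_iff_mem _).mpr hπP₃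
    obtain ⟨M, hM, hMP₃⟩ := Ideal.exists_minimalPrimes_le hle
    haveI : M.IsPrime := Ideal.IsMinimalPrime.isPrime hM
    have hMbot : M ≠ ⊥ := by
      intro h
      have : π ∈ M := hM.1.2 (Ideal.mem_span_singleton_self π)
      rw [h] at this
      exact hπ0 (by simpa using this)
    rcases eq_or_lt_of_le hMP₃ with heq | hlt'
    · exact hy M hM (heq ▸ hyP₃)
    · have h1 : 1 ≤ M.height := hbot M hMbot
      have h2 : M.height < P₃.height := Ideal.height_strict_mono_of_isPrime hlt'
      have h3 : (1 : ℕ∞) < 1 := lt_of_le_of_lt h1 (lt_of_lt_of_le h2 hP₃ht)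
      exact lt_irrefl _ h3

end Prime



open IsLocalRing

section Lift

variable (A : Type u) [CommRing A] [IsDomain A] [IsDiscreteValuationRing A]

/-- a prime of a DVR not containing a given element of the maximal ideal is zero. -/
theorem eq_bot_of_not_mem {ϖ : A} (hϖ : ϖ ∈ maximalIdeal A) (𝔮 : Ideal A) [h𝔮 : 𝔮.IsPrime]
    (h : ϖ ∉ 𝔮) : 𝔮 = ⊥ := by
  by_contra h0
  have hmax : 𝔮.IsMaximal := Ideal.IsPrime.isMaximal h𝔮 h0
  exact h (IsLocalRing.eq_maximalIdeal hmax ▸ hϖ)


set_option maxHeartbeats 800000 in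
theorem exists_dvr_lift [IsAdicComplete (maximalIdeal A) A]
    (C : Type u) [CommRing C] [Algebra A C] [Algebra.FiniteType A C]
    (τ : C →ₐ[A] ResidueField A) (Pz : Ideal C) [hPzprime : Pz.IsPrime]
    (hPz : Pz ≤ RingHom.ker τ.toRingHom)
    (hPz0 : Pz.comap (algebraMap A C) = ⊥) :
    ∃ (B : Type u) (_ : CommRing B) (_ : IsDomain B) (_ : IsDiscreteValuationRing B)
      (_ : Algebra A B) (_ : Module.Finite A B) (_ : IsLocalHom (algebraMap A B))
      (ψ : C →ₐ[A] B), ∀ c : C, residue B (ψ c) = ResidueField.map (algebraMap A B) (τ c) := by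
  classical
  haveI : IsNoetherianRing C := Algebra.FiniteType.isNoetherianRing A C
  obtain ⟨ϖ, hϖirr⟩ := IsDiscreteValuationRing.exists_irreducible A
  have hϖm : ϖ ∈ maximalIdeal A := by
    rw [mem_maximalIdeal]; exact hϖirr.not_isUnit
  have hϖ0 : ϖ ≠ 0 := hϖirr.ne_zero
  have hτa : ∀ a : A, τ (algebraMap A C a) = residue A a := fun a => τ.commutes a
  have hτsurj : Function.Surjective τ := fun z => by
    obtain ⟨a, rfl⟩ := residue_surjective z
    exact ⟨algebraMap A C a, hτa a⟩
  let Q : Ideal C := RingHom.ker τ.toRingHom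
  -- maximal prime among those between Pz and Q with zero contraction
  let 𝒮 : Set (Ideal C) := {P | P.IsPrime ∧ Pz ≤ P ∧ P ≤ Q ∧ P.comap (algebraMap A C) = ⊥}
  have hne : 𝒮.Nonempty := ⟨Pz, hPzprime, le_rfl, hPz, hPz0⟩
  obtain ⟨P₀, hP₀, hmaxP₀⟩ :=
    set_has_maximal_iff_noetherian.mpr (inferInstance : IsNoetherian C C) 𝒮 hne
  obtain ⟨hP₀prime, hPzP₀, hP₀Q, hP₀0⟩ := hP₀
  replace hP₀0 : Ideal.comap (algebraMap A C) P₀ = ⊥ := hP₀0
  haveI : Ideal.IsPrime P₀ := hP₀prime
  -- the quotient domain
  let S := C ⧸ P₀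
  haveI : Algebra.FiniteType A S :=
    Algebra.FiniteType.of_surjective (Ideal.Quotient.mkₐ A P₀) (Ideal.Quotient.mkₐ_surjective A P₀)
  haveI : IsNoetherianRing S := Algebra.FiniteType.isNoetherianRing A S
  have hinjAS : Function.Injective (algebraMap A S) := by
    rw [injective_iff_map_eq_zero]
    intro a ha
    have h1 : algebraMap A C a ∈ P₀ := Ideal.Quotient.eq_zero_iff_mem.mp ha
    have h2 : a ∈ Ideal.comap (algebraMap A C) P₀ := h1
    rw [hP₀0] at h2
    exact Ideal.mem_bot.mp h2
  let τ' : S →ₐ[A] ResidueField A :=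
    Ideal.Quotient.liftₐ P₀ τ (fun c hc => RingHom.mem_ker.mp (hP₀Q hc))
  have hτ'mk : ∀ c : C, τ' (Ideal.Quotient.mk P₀ c) = τ c := fun c => rfl
  have hτ'surj : Function.Surjective τ' := fun z => by
    obtain ⟨c, rfl⟩ := hτsurj z
    exact ⟨Ideal.Quotient.mk P₀ c, hτ'mk c⟩
  let p : Ideal S := RingHom.ker τ'.toRingHom
  haveI hpmax : p.IsMaximal := RingHom.ker_isMaximal_of_surjective τ'.toRingHom hτ'surj
  haveI hpprime : p.IsPrime := hpmax.isPrime
  have hpA : p.comap (algebraMap A S) = maximalIdeal A := by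
    ext a
    rw [Ideal.mem_comap, RingHom.mem_ker]
    change τ' (algebraMap A S a) = 0 ↔ _
    rw [τ'.commutes]
    exact residue_eq_zero_iff a
  have hpcomap : p.comap (Ideal.Quotient.mk P₀) = Q := by
    ext c
    rw [Ideal.mem_comap, RingHom.mem_ker, RingHom.mem_ker]
    exact Iff.rfl
  let ϖS : S := algebraMap A S ϖ
  have hϖS0 : ϖS ≠ 0 := fun h => hϖ0 (hinjAS (h.trans (map_zero _).symm))
  have hϖSp : ϖS ∈ p := by
    have h1 : ϖ ∈ p.comap (algebraMap A S) := hpA ▸ hϖm
    exact h1
  -- minimality of p in its fibre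
  have hmin : ∀ Q' : Ideal S, Q'.IsPrime → Q' ≤ p →
      Q'.comap (algebraMap A S) = p.comap (algebraMap A S) → Q' = p := by
    intro Q' hQ' hle hc
    by_contra hneq
    haveI := hQ'
    have hlt : Q' < p := lt_of_le_of_ne hle hneq
    have hQ'0 : Q' ≠ ⊥ := by
      intro h
      have h1 : ϖ ∈ Q'.comap (algebraMap A S) := by rw [hc, hpA]; exact hϖm
      rw [h] at h1
      exact hϖS0 (Ideal.mem_bot.mp (Ideal.mem_comap.mp h1))
    obtain ⟨P₃, hP₃prime, hP₃p, hP₃0, hϖP₃⟩ := exists_prime_not_mem p Q' hQ'0 hlt ϖS hϖS0 hϖSp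
    haveI := hP₃prime
    let P₃' : Ideal C := P₃.comap (Ideal.Quotient.mk P₀)
    have hP₀P₃' : P₀ ≤ P₃' := by
      intro c hc
      change Ideal.Quotient.mk P₀ c ∈ P₃
      rw [Ideal.Quotient.eq_zero_iff_mem.mpr hc]
      exact Ideal.zero_mem _
    have hmem : P₃' ∈ 𝒮 := by
      refine ⟨Ideal.comap_isPrime _ _, hPzP₀.trans hP₀P₃', ?_, ?_⟩
      · rw [← hpcomap]; exact Ideal.comap_mono hP₃p
      · haveI : (P₃'.comap (algebraMap A C)).IsPrime := Ideal.comap_isPrime _ _
        apply eq_bot_of_not_mem A hϖm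
        intro h
        exact hϖP₃ h
    have hlt' : P₀ < P₃' := by
      refine lt_of_le_of_ne hP₀P₃' ?_
      intro heq
      apply hP₃0
      rw [eq_bot_iff]
      intro s hs
      obtain ⟨c, rfl⟩ := Ideal.Quotient.mk_surjective s
      have h1 : c ∈ P₃' := hs
      rw [← heq] at h1
      exact Ideal.mem_bot.mpr (Ideal.Quotient.eq_zero_iff_mem.mpr h1)
    exact hmaxP₀ P₃' hmem hlt'
  have hmax : ∀ Q' : Ideal S, Q'.IsPrime → p ≤ Q' →
      Q'.comap (algebraMap A S) = p.comap (algebraMap A S) → Q' = p := by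
    intro Q' hQ' hle _
    exact (hpmax.eq_of_le hQ'.ne_top hle).symm
  haveI : Algebra.QuasiFiniteAt A p :=
    Groth.Agent.H1.RegCut.quasiFiniteAt_of_order_isolated p hmax hmin
  haveI : HenselianLocalRing A := Groth.Agent.H1.henselianLocalRing_of_henselianRing_maximalIdeal A
  obtain ⟨g, hgp, hfin, hloc⟩ := Groth.Agent.H1.HensFin.exists_away_finite_local A S p hpA
  haveI := hfin
  haveI := hloc
  have hg0 : g ≠ 0 := fun h => hgp (h ▸ Ideal.zero_mem _)
  have hpow : Submonoid.powers g ≤ nonZeroDivisors S :=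
    powers_le_nonZeroDivisors_of_noZeroDivisors hg0
  haveI : IsDomain (Localization.Away g) := IsLocalization.isDomain_localization hpow
  have hinjSE : Function.Injective (algebraMap S (Localization.Away g)) :=
    IsLocalization.injective _ hpow
  have hinjAE : Function.Injective (algebraMap A (Localization.Away g)) := by
    rw [IsScalarTower.algebraMap_eq A S (Localization.Away g)]
    exact hinjSE.comp hinjAS
  have hinjAL : Function.Injective (algebraMap A (FractionRing (Localization.Away g))) := by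
    rw [IsScalarTower.algebraMap_eq A (Localization.Away g) (FractionRing (Localization.Away g))]
    exact (IsFractionRing.injective (Localization.Away g) _).comp hinjAE
  haveI : FaithfulSMul A (FractionRing (Localization.Away g)) :=
    (faithfulSMul_iff_algebraMap_injective A _).mpr hinjAL
  haveI : FaithfulSMul A (Localization.Away g) :=
    (faithfulSMul_iff_algebraMap_injective A _).mpr hinjAE
  letI : Algebra (FractionRing A) (FractionRing (Localization.Away g)) :=
    FractionRing.liftAlgebra A _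
  haveI : IsScalarTower A (FractionRing A) (FractionRing (Localization.Away g)) :=
    FractionRing.isScalarTower_liftAlgebra A _
  haveI hFD : FiniteDimensional (FractionRing A) (FractionRing (Localization.Away g)) := inferInstance
  have hN2 : CAlg.IsN2 A := Groth.Agent.H8.Jap.NagFT.isN2_of_isNagata_of_isDomain A
    (Groth.Agent.H8.Jap.isNagata_of_complete_local A)
  haveI hBfin : Module.Finite A (integralClosure A (FractionRing (Localization.Away g))) :=
    hN2 (FractionRing (Localization.Away g)) hFD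
  haveI : IsNoetherianRing (integralClosure A (FractionRing (Localization.Away g))) :=
    IsNoetherianRing.of_finite A _
  haveI : IsIntegrallyClosed (integralClosure A (FractionRing (Localization.Away g))) :=
    integralClosure.isIntegrallyClosedOfFiniteExtension (FractionRing A)
  haveI : Ring.DimensionLEOne (integralClosure A (FractionRing (Localization.Away g))) :=
    Ring.DimensionLEOne.integralClosure A _
  haveI hDed : IsDedekindDomain (integralClosure A (FractionRing (Localization.Away g))) :=
    { toIsDomain := inferInstance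
      toIsDedekindRing :=
        { toIsNoetherian := inferInstance
          toDimensionLEOne := inferInstance
          toIsIntegralClosure := inferInstance } }
  have hinjAB : Function.Injective
      (algebraMap A (integralClosure A (FractionRing (Localization.Away g)))) := by
    intro a b hab
    apply hinjAL
    exact congrArg Subtype.val hab
  haveI : FaithfulSMul A (integralClosure A (FractionRing (Localization.Away g))) :=
    (faithfulSMul_iff_algebraMap_injective A _).mpr hinjAB
  haveI : Module.IsTorsionFree A (integralClosure A (FractionRing (Localization.Away g))) :=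
    inferInstance
  obtain ⟨M, hM, hMuniq⟩ := Groth.Agent.H9.CDVR.existsUnique_isMaximal A
    (integralClosure A (FractionRing (Localization.Away g)))
  haveI : IsLocalRing (integralClosure A (FractionRing (Localization.Away g))) :=
    IsLocalRing.of_unique_max_ideal ⟨M, hM, hMuniq⟩
  have hBnf : ¬ IsField (integralClosure A (FractionRing (Localization.Away g))) := by
    intro hB
    exact IsDiscreteValuationRing.not_isField A (isField_of_isIntegral_of_isField hinjAB hB)
  haveI : IsDiscreteValuationRing (integralClosure A (FractionRing (Localization.Away g))) :=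
    ((IsDiscreteValuationRing.TFAE _ hBnf).out 0 2).mpr hDed
  haveI : Algebra.IsIntegral A (Localization.Away g) := Algebra.IsIntegral.of_finite A _
  let ψ₀ : C →ₐ[A] FractionRing (Localization.Away g) :=
    (IsScalarTower.toAlgHom A (Localization.Away g) (FractionRing (Localization.Away g))).comp
      ((IsScalarTower.toAlgHom A S (Localization.Away g)).comp (Ideal.Quotient.mkₐ A P₀))
  have hψ₀int : ∀ c, ψ₀ c ∈ integralClosure A (FractionRing (Localization.Away g)) := fun c =>
    (Algebra.IsIntegral.isIntegral (R := A)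
      ((IsScalarTower.toAlgHom A S (Localization.Away g)) (Ideal.Quotient.mkₐ A P₀ c))).map
      (IsScalarTower.toAlgHom A (Localization.Away g) (FractionRing (Localization.Away g)))
  let ψ : C →ₐ[A] integralClosure A (FractionRing (Localization.Away g)) :=
    ψ₀.codRestrict _ hψ₀int
  let φEB : Localization.Away g →ₐ[A] integralClosure A (FractionRing (Localization.Away g)) :=
    (IsScalarTower.toAlgHom A (Localization.Away g)
      (FractionRing (Localization.Away g))).codRestrict _
      (fun e => (Algebra.IsIntegral.isIntegral (R := A) e).map (IsScalarTower.toAlgHom A _ _))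
  have hφEBinj : Function.Injective φEB := fun x y hxy =>
    IsFractionRing.injective (Localization.Away g) (FractionRing (Localization.Away g))
      (congrArg Subtype.val hxy)
  have hφEBint : φEB.toRingHom.IsIntegral := by
    intro b
    have hb : IsIntegral A b := Algebra.IsIntegral.isIntegral b
    obtain ⟨P, hPm, hP⟩ := hb
    refine ⟨P.map (algebraMap A (Localization.Away g)), hPm.map _, ?_⟩
    rw [Polynomial.eval₂_map]
    have h1 : φEB.toRingHom.comp (algebraMap A (Localization.Away g)) = algebraMap A _ :=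
      φEB.comp_algebraMap
    rw [h1]
    exact hP
  haveI hloc' : IsLocalHom φEB.toRingHom := hφEBint.isLocalHom hφEBinj
  refine ⟨integralClosure A (FractionRing (Localization.Away g)), inferInstance, inferInstance,
    inferInstance, inferInstance, hBfin, inferInstance, ψ, ?_⟩
  intro c
  obtain ⟨a, ha⟩ := residue_surjective (τ c)
  have hd : τ (c - algebraMap A C a) = 0 := by
    rw [map_sub, hτa, ha, sub_self]
  have hdp : Ideal.Quotient.mk P₀ (c - algebraMap A C a) ∈ p := by
    change τ' _ = 0
    rw [hτ'mk]; exact hd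
  have he : algebraMap S (Localization.Away g) (Ideal.Quotient.mk P₀ (c - algebraMap A C a)) ∈
      maximalIdeal (Localization.Away g) := by
    rw [mem_maximalIdeal, mem_nonunits_iff]
    intro hu
    have hdisj : Disjoint (Submonoid.powers g : Set S) (p : Set S) := by
      rw [Set.disjoint_left]
      rintro x ⟨n, rfl⟩ hx
      exact hgp (hpprime.mem_of_pow_mem n hx)
    have hne : p.map (algebraMap S (Localization.Away g)) ≠ ⊤ :=
      (IsLocalization.map_algebraMap_ne_top_iff_disjoint (Submonoid.powers g) _ p).mpr hdisj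
    apply hne
    exact Ideal.eq_top_of_isUnit_mem _ (Ideal.mem_map_of_mem _ hdp) hu
  have hψd : ψ (c - algebraMap A C a) ∈
      maximalIdeal (integralClosure A (FractionRing (Localization.Away g))) := by
    rw [mem_maximalIdeal, mem_nonunits_iff]
    intro hu
    have h1 : ψ (c - algebraMap A C a) = φEB.toRingHom (algebraMap S (Localization.Away g)
        (Ideal.Quotient.mk P₀ (c - algebraMap A C a))) := Subtype.ext rfl
    rw [h1] at hu
    have h2 := isUnit_of_map_unit φEB.toRingHom _ hu
    exact (mem_nonunits_iff.mp ((mem_maximalIdeal _).mp he)) h2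
  have h1 : ψ c = ψ (c - algebraMap A C a) + algebraMap A _ a := by
    rw [map_sub, ψ.commutes, sub_add_cancel]
  rw [h1, map_add, (residue_eq_zero_iff _).mpr hψd, zero_add, ← ha, ResidueField.map_residue]

end Lift



open IsLocalRing

/-- a flat local extension of a DVR with `m_A B = m_B` is a DVR (Noetherian case). -/
theorem isDVR_of_flat (A₁ : Type u) [CommRing A₁] [IsDomain A₁] [IsDiscreteValuationRing A₁]
    (B : Type u) [CommRing B] [IsNoetherianRing B] [IsLocalRing B] [Algebra A₁ B]
    [Module.Flat A₁ B] (hm : (maximalIdeal A₁).map (algebraMap A₁ B) = maximalIdeal B) :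
    ∃ _ : IsDomain B, IsDiscreteValuationRing B := by
  obtain ⟨ϖ, hϖirr⟩ := IsDiscreteValuationRing.exists_irreducible A₁
  have hspan : maximalIdeal A₁ = Ideal.span {ϖ} := hϖirr.maximalIdeal_eq
  have hϖ0 : ϖ ≠ 0 := hϖirr.ne_zero
  refine Groth.Agent.H8.AUDvr.isDVR_of_maximalIdeal_eq_span B (algebraMap A₁ B ϖ) ?_ ?_
  · have hreg : IsSMulRegular B ϖ :=
      Module.IsTorsionFree.isSMulRegular (IsRegular.of_ne_zero hϖ0)
    rw [mem_nonZeroDivisors_iff_right]
    intro b hb
    apply hreg
    change ϖ • b = ϖ • 0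
    rw [smul_zero, Algebra.smul_def, mul_comm]
    exact hb
  · rw [← hm, hspan, Ideal.map_span, Set.image_singleton]

theorem exists_complete_dvr_ext (A₁ : Type u) [CommRing A₁] [IsDomain A₁]
    [IsDiscreteValuationRing A₁] (K' : Type u) [Field K'] (ρ : ResidueField A₁ →+* K') :
    ∃ (A : Type u) (_ : CommRing A) (_ : IsDomain A) (_ : IsDiscreteValuationRing A)
      (_ : IsAdicComplete (maximalIdeal A) A) (φ : A₁ →+* A) (_ : IsLocalHom φ)
      (e : K' ≃+* ResidueField A), Function.Injective φ ∧
        ∀ a : A₁, e (ρ (residue A₁ a)) = residue A (φ a) := by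
  letI : Algebra (ResidueField A₁) K' := ρ.toAlgebra
  obtain ⟨B, _, _, hBn, hBl, hBloc, hBflat, e₂, he₂⟩ := Groth.Agent.S2363.result (A := A₁) K'
  haveI := hBn
  haveI := hBl
  haveI := hBloc
  haveI := hBflat
  -- `m_{A₁} B` is the maximal ideal
  have hJmax : ((maximalIdeal A₁).map (algebraMap A₁ B)).IsMaximal := by
    apply Ideal.Quotient.maximal_of_isField
    exact MulEquiv.isField (Field.toIsField K') e₂.toMulEquiv
  have hJ : (maximalIdeal A₁).map (algebraMap A₁ B) = maximalIdeal B :=
    IsLocalRing.eq_maximalIdeal hJmax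
  obtain ⟨hBdom, hBdvr⟩ := isDVR_of_flat A₁ B hJ
  haveI := hBdom
  haveI := hBdvr
  -- completion
  haveI : IsNoetherianRing (AdicCompletion (maximalIdeal B) B) := Groth.Agent.S0543.result B _
  have hm : (maximalIdeal B).map (algebraMap B (AdicCompletion (maximalIdeal B) B)) =
      maximalIdeal (AdicCompletion (maximalIdeal B) B) := AdicCompletion.maximalIdeal_eq_map.symm
  obtain ⟨hAdom, hAdvr⟩ := isDVR_of_flat B (AdicCompletion (maximalIdeal B) B) hm
  haveI := hAdom
  haveI := hAdvr
  have hbij := AdicCompletion.residueField_map_bijective B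
  let e₃ : ResidueField B ≃+* ResidueField (AdicCompletion (maximalIdeal B) B) :=
    RingEquiv.ofBijective _ hbij
  let e₁ : (B ⧸ (maximalIdeal A₁).map (algebraMap A₁ B)) ≃+* ResidueField B :=
    Ideal.quotEquivOfEq hJ
  have hinj1 : Function.Injective (algebraMap A₁ B) := by
    haveI : Module.FaithfullyFlat A₁ B := Module.FaithfullyFlat.of_flat_of_isLocalHom
    exact FaithfulSMul.algebraMap_injective A₁ B
  have hinj2 : Function.Injective (algebraMap B (AdicCompletion (maximalIdeal B) B)) := by
    haveI : Module.FaithfullyFlat B (AdicCompletion (maximalIdeal B) B) :=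
      Module.FaithfullyFlat.of_flat_of_isLocalHom
    exact FaithfulSMul.algebraMap_injective B _
  refine ⟨AdicCompletion (maximalIdeal B) B, inferInstance, inferInstance, inferInstance,
    inferInstance, (algebraMap B (AdicCompletion (maximalIdeal B) B)).comp (algebraMap A₁ B),
    RingHom.isLocalHom_comp _ _, (e₂.symm.trans e₁).trans e₃, hinj2.comp hinj1, ?_⟩
  intro a
  have h1 : ρ (residue A₁ a) = e₂ (Ideal.Quotient.mk _ (algebraMap A₁ B a)) := (he₂ a).symm
  rw [h1]
  change e₃ (e₁ (e₂.symm (e₂ _))) = _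
  rw [RingEquiv.symm_apply_apply]
  rfl



open IsLocalRing AlgebraicGeometry CategoryTheory Limits

theorem lift_of_dvrCond {X Y : Scheme.{u}} (f : X ⟶ Y)
    [LocallyOfFiniteType f] (x : X) (h : DVRCrit.DVRCond f x)
    (A : Type u) [CommRing A] [IsDomain A] [IsDiscreteValuationRing A]
    [IsAdicComplete (maximalIdeal A) A]
    (g : Spec (CommRingCat.of A) ⟶ Y) (hg : g.base (closedPoint A) = f.base x)
    (u₀ : Spec (CommRingCat.of (ResidueField A)) ⟶ X)
    (hu₀ : u₀ ≫ f = Spec.map (CommRingCat.ofHom (residue A)) ≫ g)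
    (hx : x ∈ Set.range u₀.base) :
    ∃ (B : CommRingCat.{u}) (_ : IsDomain B) (_ : IsDiscreteValuationRing B) (φ : A →+* B)
      (_ : IsLocalHom φ) (v : Spec B ⟶ X),
      φ.Finite ∧ v ≫ f = Spec.map (CommRingCat.ofHom φ) ≫ g ∧
      Spec.map (CommRingCat.ofHom (ResidueField.map φ)) ≫ u₀ =
        Spec.map (CommRingCat.ofHom (residue B)) ≫ v := by
  let t : Spec (CommRingCat.of (ResidueField A)) ⟶ pullback f g :=
    pullback.lift u₀ (Spec.map (CommRingCat.ofHom (residue A))) hu₀
  let pt : Spec (CommRingCat.of (ResidueField A)) := closedPoint (ResidueField A)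
  have hpt : ∀ q : Spec (CommRingCat.of (ResidueField A)), q = pt := fun q =>
    Subsingleton.elim (α := PrimeSpectrum (ResidueField A)) _ _
  have hx1 : (pullback.fst f g) (t pt) = x := by
    obtain ⟨q, hq⟩ := hx
    rw [← hq, hpt q, ← Scheme.Hom.comp_apply, pullback.lift_fst]
  have hx2 : (pullback.snd f g) (t pt) = closedPoint A := by
    rw [← Scheme.Hom.comp_apply, pullback.lift_snd]
    exact IsLocalRing.comap_closedPoint (residue A)
  obtain ⟨z', hz', hz'2⟩ := h A g hg (t pt) hx1 hx2
  obtain ⟨W, hW, hxW, -⟩ := DVRCrit.exists_affine_nhd_le (t pt) ⊤ trivial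
  have hzW : z' ∈ W := hz'.mem_open W.isOpen hxW
  let ι : Spec Γ(pullback f g, W) ⟶ pullback f g := hW.fromSpec
  let α : CommRingCat.of A ⟶ Γ(pullback f g, W) := Spec.preimage (ι ≫ pullback.snd f g)
  have hα : Spec.map α = ι ≫ pullback.snd f g := Spec.map_preimage _
  letI : Algebra A Γ(pullback f g, W) := α.hom.toAlgebra
  haveI : Algebra.FiniteType A Γ(pullback f g, W) := by
    have h1 : LocallyOfFiniteType (Spec.map α) := by rw [hα]; infer_instance
    rw [HasRingHomProperty.Spec_iff (P := @LocallyOfFiniteType)] at h1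
    exact h1
  have hrange : Set.range t.base ⊆ Set.range ι.base := by
    rintro _ ⟨q, rfl⟩
    rw [hW.range_fromSpec, hpt q]
    exact hxW
  let t' : Spec (CommRingCat.of (ResidueField A)) ⟶ Spec Γ(pullback f g, W) :=
    IsOpenImmersion.lift ι t hrange
  have ht' : t' ≫ ι = t := IsOpenImmersion.lift_fac _ _ _
  let τ₀ : Γ(pullback f g, W) ⟶ CommRingCat.of (ResidueField A) := Spec.preimage t'
  have hτ₀ : Spec.map τ₀ = t' := Spec.map_preimage _
  have hατ : α ≫ τ₀ = CommRingCat.ofHom (residue A) := by
    apply Spec.map_injective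
    rw [Spec.map_comp, hτ₀, hα, ← Category.assoc, ht', pullback.lift_snd]
  let τ : Γ(pullback f g, W) →ₐ[A] ResidueField A :=
    { τ₀.hom with
      commutes' := fun a =>
        congrArg (fun h : CommRingCat.of A ⟶ CommRingCat.of (ResidueField A) => h.hom a) hατ }
  obtain ⟨qq, hqq⟩ : ∃ qq : Spec Γ(pullback f g, W), ι qq = t pt := by
    have h1 : t pt ∈ Set.range ι.base := by rw [hW.range_fromSpec]; exact hxW
    exact h1
  obtain ⟨zz, hzz⟩ : ∃ zz : Spec Γ(pullback f g, W), ι zz = z' := by
    have h1 : z' ∈ Set.range ι.base := by rw [hW.range_fromSpec]; exact hzW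
    exact h1
  have hspec : zz ⤳ qq := by
    rw [← ι.isOpenEmbedding.isInducing.specializes_iff, hzz, hqq]
    exact hz'
  have hle : zz.asIdeal ≤ qq.asIdeal := (PrimeSpectrum.le_iff_specializes zz qq).mpr hspec
  have hqq' : qq = t' pt := by
    apply ι.isOpenEmbedding.injective
    rw [hqq, ← Scheme.Hom.comp_apply, ht']
  have hker : qq.asIdeal = RingHom.ker τ.toRingHom := by
    rw [hqq', ← hτ₀]
    change Ideal.comap τ₀.hom (maximalIdeal (ResidueField A)) = _
    rw [IsLocalRing.maximalIdeal_eq_bot]
    rfl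
  have hPz0 : zz.asIdeal.comap (algebraMap A Γ(pullback f g, W)) = ⊥ := by
    have h1 : (Spec.map α) zz ≠ closedPoint A := by
      rw [hα, Scheme.Hom.comp_apply, hzz]
      exact hz'2
    have h2 := DVRCrit.eq_bot_of_ne_closedPoint _ h1
    exact congrArg PrimeSpectrum.asIdeal h2
  haveI hzzp : zz.asIdeal.IsPrime := PrimeSpectrum.isPrime zz
  obtain ⟨B, _, _, _, _, hfin, hloc, ψ, hres⟩ :=
    exists_dvr_lift A Γ(pullback f g, W) τ zz.asIdeal (hle.trans_eq hker) hPz0
  have hαψ : α ≫ CommRingCat.ofHom ψ.toRingHom = CommRingCat.ofHom (algebraMap A B) := by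
    ext a
    exact ψ.commutes a
  refine ⟨CommRingCat.of B, inferInstance, inferInstance, algebraMap A B, hloc,
    Spec.map (CommRingCat.ofHom ψ.toRingHom) ≫ ι ≫ pullback.fst f g,
    RingHom.finite_algebraMap.mpr hfin, ?_, ?_⟩
  · rw [Category.assoc, Category.assoc, pullback.condition, ← Category.assoc ι, ← hα,
      ← Category.assoc, ← Spec.map_comp, hαψ]
  · have hu₀' : u₀ = Spec.map τ₀ ≫ ι ≫ pullback.fst f g := by
      rw [hτ₀, ← Category.assoc, ht', pullback.lift_fst]
    rw [hu₀', ← Category.assoc, ← Category.assoc (Spec.map (CommRingCat.ofHom (residue _))),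
      ← Spec.map_comp, ← Spec.map_comp]
    congr 2
    ext c
    exact (hres c).symm



open IsLocalRing AlgebraicGeometry CategoryTheory Limits

/-- a finite ring hom from a DVR to a DVR is injective. -/
theorem injective_of_finite {A B : Type u} [CommRing A] [IsDomain A] [IsDiscreteValuationRing A]
    [CommRing B] [IsDomain B] [IsDiscreteValuationRing B] (φ : A →+* B) (hφ : φ.Finite) :
    Function.Injective φ := by
  rw [RingHom.injective_iff_ker_eq_bot]
  by_contra hne
  have hker : RingHom.ker φ = (⊥ : Ideal B).comap φ := (RingHom.ker_eq_comap_bot φ)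
  haveI : (RingHom.ker φ).IsPrime := RingHom.ker_isPrime φ
  have hmax : (RingHom.ker φ).IsMaximal := Ideal.IsPrime.isMaximal inferInstance hne
  rw [hker] at hmax
  have hbot : (⊥ : Ideal B).IsMaximal :=
    Ideal.isMaximal_of_isIntegral_of_isMaximal_comap' φ hφ.to_isIntegral ⊥ hmax
  exact IsDiscreteValuationRing.not_a_field B (IsLocalRing.eq_maximalIdeal hbot).symm

set_option maxHeartbeats 800000 in
theorem dvrCond_of_lift {X Y : Scheme.{u}} (f : X ⟶ Y) (x : X)
    (H : ∀ (A : Type u) [CommRing A] [IsDomain A] [IsDiscreteValuationRing A]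
        [IsAdicComplete (maximalIdeal A) A] [IsAlgClosed (ResidueField A)]
        (g : Spec (CommRingCat.of A) ⟶ Y), g.base (closedPoint A) = f.base x →
        ∀ u₀ : Spec (CommRingCat.of (ResidueField A)) ⟶ X,
          u₀ ≫ f = Spec.map (CommRingCat.ofHom (residue A)) ≫ g → x ∈ Set.range u₀.base →
          ∃ (B : CommRingCat.{u}) (_ : IsDomain B) (_ : IsDiscreteValuationRing B) (φ : A →+* B)
            (_ : IsLocalHom φ) (v : Spec B ⟶ X),
            φ.Finite ∧ v ≫ f = Spec.map (CommRingCat.ofHom φ) ≫ g ∧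
            Spec.map (CommRingCat.ofHom (ResidueField.map φ)) ≫ u₀ =
              Spec.map (CommRingCat.ofHom (residue B)) ≫ v) :
    DVRCrit.DVRCond f x := by
  intro A₁ _ _ _ g₁ hg₁ x₁ hx1 hx2
  let s₁ : Spec ((pullback f g₁).residueField x₁) ⟶ pullback f g₁ :=
    (pullback f g₁).fromSpecResidueField x₁
  let θ' : CommRingCat.of A₁ ⟶ (pullback f g₁).residueField x₁ :=
    Spec.preimage (s₁ ≫ pullback.snd f g₁)
  have hθ' : Spec.map θ' = s₁ ≫ pullback.snd f g₁ := Spec.map_preimage _
  have hs₁ : ∀ q : Spec ((pullback f g₁).residueField x₁), s₁ q = x₁ := fun q =>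
    (pullback f g₁).fromSpecResidueField_apply x₁ q
  have hθcl : ∀ q : Spec ((pullback f g₁).residueField x₁), (Spec.map θ') q = closedPoint A₁ := by
    intro q
    rw [hθ', Scheme.Hom.comp_apply, hs₁, hx2]
  haveI hθloc : IsLocalHom θ'.hom := by
    constructor
    intro a ha
    by_contra hna
    have h1 : a ∈ maximalIdeal A₁ := (mem_maximalIdeal a).mpr hna
    let q : Spec ((pullback f g₁).residueField x₁) :=
      (⟨⊥, Ideal.bot_prime⟩ : PrimeSpectrum ((pullback f g₁).residueField x₁))
    have h3 : a ∈ ((Spec.map θ') q).asIdeal := by rw [hθcl q]; exact h1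
    have h4 : θ'.hom a = 0 := Ideal.mem_bot.mp h3
    exact ha.ne_zero h4
  let ρ : ResidueField A₁ →+* AlgebraicClosure ((pullback f g₁).residueField x₁) :=
    (algebraMap ((pullback f g₁).residueField x₁)
      (AlgebraicClosure ((pullback f g₁).residueField x₁))).comp (ResidueField.lift θ'.hom)
  obtain ⟨A, _, _, _, _, φ, hφloc, e, hφinj, he⟩ := exists_complete_dvr_ext A₁ _ ρ
  haveI := hφloc
  haveI : IsAlgClosed (ResidueField A) := IsAlgClosed.of_ringEquiv _ _ e
  let j : (pullback f g₁).residueField x₁ →+* ResidueField A :=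
    e.toRingHom.comp (algebraMap ((pullback f g₁).residueField x₁)
      (AlgebraicClosure ((pullback f g₁).residueField x₁)))
  have hjθ : ∀ a : A₁, j (θ'.hom a) = residue A (φ a) := by
    intro a
    rw [← he a]
    rfl
  let g : Spec (CommRingCat.of A) ⟶ Y := Spec.map (CommRingCat.ofHom φ) ≫ g₁
  have hg : g.base (closedPoint A) = f.base x := by
    change g₁ ((Spec.map (CommRingCat.ofHom φ)) (closedPoint A)) = _
    rw [← hg₁]
    congr 1
    exact IsLocalRing.comap_closedPoint φ
  let u₀ : Spec (CommRingCat.of (ResidueField A)) ⟶ X :=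
    Spec.map (CommRingCat.ofHom j) ≫ s₁ ≫ pullback.fst f g₁
  have hring : θ' ≫ CommRingCat.ofHom j = CommRingCat.ofHom φ ≫ CommRingCat.ofHom (residue A) := by
    ext a
    exact hjθ a
  have hu₀ : u₀ ≫ f = Spec.map (CommRingCat.ofHom (residue A)) ≫ g := by
    change (Spec.map (CommRingCat.ofHom j) ≫ s₁ ≫ pullback.fst f g₁) ≫ f =
      Spec.map (CommRingCat.ofHom (residue A)) ≫ Spec.map (CommRingCat.ofHom φ) ≫ g₁
    have hS : Spec.map (CommRingCat.ofHom j) ≫ Spec.map θ' =
        Spec.map (CommRingCat.ofHom (residue A)) ≫ Spec.map (CommRingCat.ofHom φ) := by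
      rw [← Spec.map_comp, ← Spec.map_comp]
      exact congrArg Spec.map hring
    rw [Category.assoc, Category.assoc, pullback.condition, ← Category.assoc s₁, ← hθ',
      ← Category.assoc, hS, Category.assoc]
  have hxr : x ∈ Set.range u₀.base := by
    refine ⟨closedPoint (ResidueField A), ?_⟩
    change (pullback.fst f g₁) (s₁ _) = x
    rw [hs₁, hx1]
  obtain ⟨B, hBdom, hBdvr, φB, hφBloc, v, hfin, hv, hcl⟩ := H A g hg u₀ hu₀ hxr
  haveI := hBdom
  haveI := hBdvr
  haveI := hφBloc
  have hφBinj : Function.Injective φB := injective_of_finite φB hfin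
  let w : Spec B ⟶ pullback f g₁ :=
    pullback.lift v (Spec.map (CommRingCat.ofHom (φB.comp φ))) (by
      rw [hv]
      change Spec.map (CommRingCat.ofHom φB) ≫ Spec.map (CommRingCat.ofHom φ) ≫ g₁ = _
      rw [← Category.assoc, ← Spec.map_comp]
      rfl)
  let zB : Spec B := (⟨⊥, Ideal.bot_prime⟩ : PrimeSpectrum B)
  let cB : Spec B := closedPoint B
  have hspec : zB ⤳ cB := (PrimeSpectrum.le_iff_specializes zB cB).mp bot_le
  have hcomp : Spec.map (CommRingCat.ofHom (residue B)) ≫ w =
      Spec.map (CommRingCat.ofHom (ResidueField.map φB)) ≫ Spec.map (CommRingCat.ofHom j) ≫ s₁ := by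
    apply pullback.hom_ext
    · rw [Category.assoc, pullback.lift_fst, ← hcl, Category.assoc, Category.assoc]
    · rw [Category.assoc, pullback.lift_snd, Category.assoc, Category.assoc, ← hθ',
        ← Spec.map_comp, ← Spec.map_comp, ← Spec.map_comp]
      congr 1
      ext a
      change residue B (φB (φ a)) = ResidueField.map φB (j (θ'.hom a))
      rw [hjθ, ResidueField.map_residue]
  have hwc : w cB = x₁ := by
    have h1 : cB = (Spec.map (CommRingCat.ofHom (residue B))) (closedPoint (ResidueField B)) :=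
      (IsLocalRing.comap_closedPoint (residue B)).symm
    have h2 : w ((Spec.map (CommRingCat.ofHom (residue B))) (closedPoint (ResidueField B))) =
        s₁ ((Spec.map (CommRingCat.ofHom j)) ((Spec.map (CommRingCat.ofHom
          (ResidueField.map φB))) (closedPoint (ResidueField B)))) :=
      congrArg (fun m : Spec (CommRingCat.of (ResidueField B)) ⟶ pullback f g₁ =>
        m.base (closedPoint (ResidueField B))) hcomp
    rw [h1, h2, hs₁]
  refine ⟨w zB, ?_, ?_⟩
  · rw [← hwc]
    exact hspec.map w.continuous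
  · rw [← Scheme.Hom.comp_apply, pullback.lift_snd]
    intro heq
    have h1 : ((Spec.map (CommRingCat.ofHom (φB.comp φ))) zB).asIdeal = maximalIdeal A₁ := by
      rw [heq]; rfl
    have h2 : ((Spec.map (CommRingCat.ofHom (φB.comp φ))) zB).asIdeal = ⊥ := by
      change Ideal.comap (φB.comp φ) ⊥ = ⊥
      rw [← RingHom.ker_eq_comap_bot, (RingHom.injective_iff_ker_eq_bot _).mp]
      exact hφBinj.comp hφinj
    rw [h2] at h1
    exact IsDiscreteValuationRing.not_a_field A₁ h1.symm


end Groth.Agent.H1.DVRLift
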