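import Mathlib
import Groth.Prelude.Def_Coh
import Groth.Agent.Lib.Helper1.FibreStalk

set_option autoImplicit false
universe u
open CategoryTheory CategoryTheory.Limits AlgebraicGeometry IsLocalRing

namespace Groth.Agent.H1.DVRUnif

/-- In a DVR a radical proper nonzero ideal is the maximal ideal. -/
theorem dvr_radical {B : Type*} [CommRing B] [IsDomain B] [IsDiscreteValuationRing B]
    (I : Ideal B) (h0 : I ≠ ⊥) (h1 : I ≠ ⊤) (hr : I.IsRadical) : maximalIdeal B = I := by
  obtain ⟨ϖ, hϖ⟩ := IsDiscreteValuationRing.exists_irreducible B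
  obtain ⟨n, hn⟩ := IsDiscreteValuationRing.ideal_eq_span_pow_irreducible h0 hϖ
  have hmax : maximalIdeal B = Ideal.span {ϖ} :=
    (IsDiscreteValuationRing.irreducible_iff_uniformizer ϖ).mp hϖ
  have hmem : ϖ ∈ I := hr ⟨n, by rw [hn]; exact Ideal.mem_span_singleton_self _⟩
  apply le_antisymm
  · rw [hmax, Ideal.span_le, Set.singleton_subset_iff]
    exact hmem
  · exact IsLocalRing.le_maximalIdeal h1

/-- Reducedness descends along flat surjective morphisms of schemes (copy of helper3's lemma). -/
theorem isReduced_of_flat_surjective {A B : Scheme.{u}} (f : A ⟶ B) [Flat f]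
    (hs : Function.Surjective f) [AlgebraicGeometry.IsReduced A] :
    AlgebraicGeometry.IsReduced B := by
  have : ∀ x : B, _root_.IsReduced (B.presheaf.stalk x) := by
    intro x
    obtain ⟨a, rfl⟩ := hs x
    have hfl : (f.stalkMap a).hom.Flat := Flat.stalkMap f a
    algebraize [(f.stalkMap a).hom]
    have hloc : IsLocalHom (algebraMap (B.presheaf.stalk (f a)) (A.presheaf.stalk a)) :=
      inferInstanceAs (IsLocalHom (f.stalkMap a).hom)
    have : Module.FaithfullyFlat (B.presheaf.stalk (f a)) (A.presheaf.stalk a) :=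
      Module.FaithfullyFlat.of_flat_of_isLocalHom
    exact isReduced_of_injective (algebraMap (B.presheaf.stalk (f a)) (A.presheaf.stalk a))
      (FaithfulSMul.algebraMap_injective _ _)
  exact isReduced_of_isReduced_stalk B

theorem stalkMap_injective_of_flat {X Y : Scheme.{u}} (f : X ⟶ Y) [Flat f] (x : X) :
    Function.Injective (f.stalkMap x).hom := by
  have hfl : (f.stalkMap x).hom.Flat := Flat.stalkMap f x
  algebraize [(f.stalkMap x).hom]
  have hloc : IsLocalHom (algebraMap (Y.presheaf.stalk (f x)) (X.presheaf.stalk x)) :=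
    inferInstanceAs (IsLocalHom (f.stalkMap x).hom)
  have : Module.FaithfullyFlat (Y.presheaf.stalk (f x)) (X.presheaf.stalk x) :=
    Module.FaithfullyFlat.of_flat_of_isLocalHom
  exact FaithfulSMul.algebraMap_injective (Y.presheaf.stalk (f x)) (X.presheaf.stalk x)

/-- A morphism between spectra of fields is flat and surjective. -/
theorem flat_of_fields {K K₀ : Type u} [Field K] [Field K₀]
    (c : Spec (CommRingCat.of K) ⟶ Spec (CommRingCat.of K₀)) : Flat c := by
  rw [← Spec.map_preimage c, HasRingHomProperty.Spec_iff (P := @Flat)]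
  algebraize [(Spec.preimage c).hom]
  change Module.Flat K₀ K
  infer_instance

theorem surjective_of_fields {K K₀ : Type u} [Field K] [Field K₀]
    (c : Spec (CommRingCat.of K) ⟶ Spec (CommRingCat.of K₀)) : Surjective c :=
  ⟨fun _ => ⟨IsLocalRing.closedPoint K, Subsingleton.elim (α := PrimeSpectrum K₀) _ _⟩⟩

section Fibre
variable {R : Type u} [CommRing R] [IsLocalRing R]

/-- reducedness of the base change to the residue field gives reducedness of the
scheme-theoretic fibre over the closed point (adapted from helper7). -/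
theorem isReduced_fiber_closedPoint {X : Scheme.{u}} (f : X ⟶ Spec (CommRingCat.of R))
    (h : IsReduced (pullback f (Spec.map (CommRingCat.ofHom (IsLocalRing.residue R))))) :
    IsReduced (f.fiber (IsLocalRing.closedPoint R)) := by
  obtain ⟨t, ht⟩ : ∃ t : Spec (CommRingCat.of (IsLocalRing.ResidueField R)) ⟶
      Spec (CommRingCat.of R), t = Spec.map (CommRingCat.ofHom (IsLocalRing.residue R)) :=
    ⟨_, rfl⟩
  rw [← ht] at h
  have hy : t (IsLocalRing.closedPoint (IsLocalRing.ResidueField R)) =
      IsLocalRing.closedPoint R := by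
    rw [ht]
    exact IsLocalRing.comap_closedPoint (IsLocalRing.residue R)
  have key : IsReduced (f.fiber (t (IsLocalRing.closedPoint (IsLocalRing.ResidueField R)))) := by
    let c : Spec (CommRingCat.of (IsLocalRing.ResidueField R)) ⟶
        Spec ((Spec (CommRingCat.of R)).residueField
          (t (IsLocalRing.closedPoint (IsLocalRing.ResidueField R)))) :=
      Spec.map ((Spec (CommRingCat.of R)).descResidueField (Scheme.stalkClosedPointTo t))
    have hc : c ≫ (Spec (CommRingCat.of R)).fromSpecResidueField
        (t (IsLocalRing.closedPoint (IsLocalRing.ResidueField R))) = t :=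
      Scheme.descResidueField_stalkClosedPointTo_fromSpecResidueField _ _ t
    let m : pullback f t ⟶
        f.fiber (t (IsLocalRing.closedPoint (IsLocalRing.ResidueField R))) :=
      pullback.lift (pullback.fst f t) (pullback.snd f t ≫ c)
        (by rw [Category.assoc, hc, pullback.condition])
    have sq : IsPullback m (pullback.snd f t) (f.fiberToSpecResidueField _) c := by
      refine IsPullback.of_right (h₁₂ := f.fiberι _)
        (h₂₂ := (Spec (CommRingCat.of R)).fromSpecResidueField _) ?_
        (pullback.lift_snd _ _ _) (IsPullback.of_hasPullback f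
          ((Spec (CommRingCat.of R)).fromSpecResidueField _))
      have h1 : m ≫ f.fiberι _ = pullback.fst f t := pullback.lift_fst _ _ _
      rw [h1, hc]
      exact IsPullback.of_hasPullback f t
    have hcf : Flat c := flat_of_fields
      (K := IsLocalRing.ResidueField R)
      (K₀ := (Spec (CommRingCat.of R)).residueField
        (t (IsLocalRing.closedPoint (IsLocalRing.ResidueField R)))) c
    have hcs : Surjective c := surjective_of_fields
      (K := IsLocalRing.ResidueField R)
      (K₀ := (Spec (CommRingCat.of R)).residueField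
        (t (IsLocalRing.closedPoint (IsLocalRing.ResidueField R)))) c
    have hmf : Flat m := MorphismProperty.of_isPullback (P := @Flat) sq.flip hcf
    have hms : Surjective m := MorphismProperty.of_isPullback (P := @Surjective) sq.flip hcs
    exact isReduced_of_flat_surjective m hms.surj
  rwa [hy] at key

theorem isReduced_fiber_of_isPullback {X Xs : Scheme.{u}} (f : X ⟶ Spec (CommRingCat.of R))
    (gs : Xs ⟶ X) (fs : Xs ⟶ Spec (CommRingCat.of (IsLocalRing.ResidueField R)))
    (hs : IsPullback gs fs f (Spec.map (CommRingCat.ofHom (IsLocalRing.residue R))))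
    [IsReduced Xs] : IsReduced (f.fiber (IsLocalRing.closedPoint R)) := by
  apply isReduced_fiber_closedPoint
  exact isReduced_of_isOpenImmersion hs.isoPullback.inv

theorem map_eq_closedPoint {X Xs : Scheme.{u}} (f : X ⟶ Spec (CommRingCat.of R))
    (gs : Xs ⟶ X) (fs : Xs ⟶ Spec (CommRingCat.of (IsLocalRing.ResidueField R)))
    (hs : IsPullback gs fs f (Spec.map (CommRingCat.ofHom (IsLocalRing.residue R))))
    (ξ : Xs) : f (gs ξ) = IsLocalRing.closedPoint R := by
  have h1 : f (gs ξ) = (Spec.map (CommRingCat.ofHom (IsLocalRing.residue R))) (fs ξ) := by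
    rw [← Scheme.Hom.comp_apply, hs.w, Scheme.Hom.comp_apply]
  rw [h1]
  have h2 : fs ξ = IsLocalRing.closedPoint (IsLocalRing.ResidueField R) :=
    Subsingleton.elim (α := PrimeSpectrum (IsLocalRing.ResidueField R)) _ _
  rw [h2]
  exact IsLocalRing.comap_closedPoint (IsLocalRing.residue R)

end Fibre

theorem map_toStalk_eq (R : Type u) [CommRing R] (y : Spec (CommRingCat.of R)) :
    ((y : PrimeSpectrum R).asIdeal).map
      (((Spec (CommRingCat.of R)).presheaf.germ ⊤ y trivial).hom.comp
        (Scheme.ΓSpecIso (CommRingCat.of R)).inv.hom) =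
      maximalIdeal ((Spec (CommRingCat.of R)).presheaf.stalk y) := by
  letI k : Algebra R ((Spec (CommRingCat.of R)).presheaf.stalk y) :=
    StructureSheaf.stalkAlgebra R y
  haveI hloc : IsLocalization.AtPrime ((Spec (CommRingCat.of R)).presheaf.stalk y)
      (y : PrimeSpectrum R).asIdeal := StructureSheaf.IsLocalization.to_stalk R y
  exact IsLocalization.AtPrime.map_eq_maximalIdeal (y : PrimeSpectrum R).asIdeal
    ((Spec (CommRingCat.of R)).presheaf.stalk y)

theorem toStalk_injective (R : Type u) [CommRing R] [IsDomain R] (y : Spec (CommRingCat.of R)) :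
    Function.Injective (((Spec (CommRingCat.of R)).presheaf.germ ⊤ y trivial).hom.comp
        (Scheme.ΓSpecIso (CommRingCat.of R)).inv.hom) := by
  letI k : Algebra R ((Spec (CommRingCat.of R)).presheaf.stalk y) :=
    StructureSheaf.stalkAlgebra R y
  haveI hloc : IsLocalization.AtPrime ((Spec (CommRingCat.of R)).presheaf.stalk y)
      (y : PrimeSpectrum R).asIdeal := StructureSheaf.IsLocalization.to_stalk R y
  exact IsLocalization.injective ((Spec (CommRingCat.of R)).presheaf.stalk y)
    (Ideal.primeCompl_le_nonZeroDivisors (y : PrimeSpectrum R).asIdeal)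

open Groth.Agent.H1.FibreStalk in
theorem main (R : Type u) [CommRing R] [IsDomain R] [IsDiscreteValuationRing R]
    (X : Scheme.{u}) (f : X ⟶ Spec (CommRingCat.of R)) [Flat f]
    (hred : IsReduced (f.fiber (closedPoint R)))
    (x : X) (hx : f x = closedPoint R)
    (B : Type u) [CommRing B] [IsDomain B] [IsDiscreteValuationRing B] [Algebra R B]
    (e : X.presheaf.stalk x ≅ CommRingCat.of B)
    (he : e.hom.hom.comp ((X.presheaf.germ ⊤ x trivial).hom.comp (Coh.toGlobal f)) =
      algebraMap R B) :
    maximalIdeal B = Ideal.map (algebraMap R B) (maximalIdeal R) := by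
  have hφinj : Function.Injective (f.stalkMap x).hom := stalkMap_injective_of_flat f x
  have hτ : (X.presheaf.germ ⊤ x trivial).hom.comp (Coh.toGlobal f) =
      (f.stalkMap x).hom.comp (((Spec (CommRingCat.of R)).presheaf.germ ⊤ (f x) trivial).hom.comp
        (Scheme.ΓSpecIso (CommRingCat.of R)).inv.hom) := by
    refine RingHom.ext fun a => ?_
    exact (Scheme.Hom.germ_stalkMap_apply f ⊤ x trivial
      ((Scheme.ΓSpecIso (CommRingCat.of R)).inv.hom a)).symm
  have hxI : (f x : PrimeSpectrum R).asIdeal = maximalIdeal R :=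
    congrArg PrimeSpectrum.asIdeal hx
  have hI : (maximalIdeal R).map ((X.presheaf.germ ⊤ x trivial).hom.comp (Coh.toGlobal f)) =
      (maximalIdeal ((Spec (CommRingCat.of R)).presheaf.stalk (f x))).map (f.stalkMap x).hom := by
    rw [hτ, ← Ideal.map_map]
    congr 1
    rw [← hxI]
    exact map_toStalk_eq R (f x)
  obtain ⟨IA, hIA⟩ : ∃ IA : Ideal (X.presheaf.stalk x), IA =
      (maximalIdeal ((Spec (CommRingCat.of R)).presheaf.stalk (f x))).map (f.stalkMap x).hom :=
    ⟨_, rfl⟩
  rw [← hIA] at hI
  have hredq : _root_.IsReduced (X.presheaf.stalk x ⧸ IA) := by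
    rw [hIA]
    haveI : IsReduced (f.fiber (f x)) := by rw [hx]; exact hred
    exact isReduced_of_injective (fiberStalkEquiv f x).toRingHom (fiberStalkEquiv f x).injective
  have hnt : Nontrivial (X.presheaf.stalk x ⧸ IA) := by
    rw [hIA]
    exact (fiberStalkEquiv f x).toEquiv.nontrivial
  have hrad : IA.IsRadical := (Ideal.isRadical_iff_quotient_reduced IA).mpr hredq
  have htop : IA ≠ ⊤ := Ideal.Quotient.nontrivial_iff.mp hnt
  have hinv1 : ∀ a, e.inv.hom (e.hom.hom a) = a := fun a => by
    rw [← RingHom.comp_apply, ← CommRingCat.hom_comp, e.hom_inv_id]; rfl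
  have hinv2 : ∀ b, e.hom.hom (e.inv.hom b) = b := fun b => by
    rw [← RingHom.comp_apply, ← CommRingCat.hom_comp, e.inv_hom_id]; rfl
  have hIB : Ideal.map (algebraMap R B) (maximalIdeal R) = Ideal.comap e.inv.hom IA := by
    rw [← he, ← Ideal.map_map, hI]
    apply le_antisymm
    · rw [Ideal.map_le_iff_le_comap]
      intro a ha
      rw [Ideal.mem_comap, Ideal.mem_comap, hinv1]
      exact ha
    · intro b hb
      rw [Ideal.mem_comap] at hb
      rw [← hinv2 b]
      exact Ideal.mem_map_of_mem _ hb
  have hinj : Function.Injective (algebraMap R B) := by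
    rw [← he, hτ]
    have h1 : Function.Injective e.hom.hom := Function.LeftInverse.injective hinv1
    exact h1.comp (hφinj.comp (toStalk_injective R (f x)))
  rw [hIB]
  refine dvr_radical _ ?_ (Ideal.comap_ne_top _ htop) (hrad.comap _)
  rw [← hIB]
  obtain ⟨ϖ, hϖ⟩ := IsDiscreteValuationRing.exists_irreducible R
  have hmem : ϖ ∈ maximalIdeal R := (IsLocalRing.mem_maximalIdeal ϖ).mpr hϖ.not_isUnit
  intro hbot
  have h2 : algebraMap R B ϖ ∈ Ideal.map (algebraMap R B) (maximalIdeal R) :=
    Ideal.mem_map_of_mem _ hmem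
  rw [hbot, Ideal.mem_bot] at h2
  exact hϖ.ne_zero (hinj (by rw [h2, map_zero]))

end Groth.Agent.H1.DVRUnif
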