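import Mathlib

set_option autoImplicit false
universe w v u
open CategoryTheory CategoryTheory.Limits CategoryTheory.Pretriangulated CategoryTheory.Triangulated
open DerivedCategory ZeroObject

namespace Groth.Agent.H1.DbCount

lemma countable_of_exact {G₁ G₂ G₃ : Type*} [AddGroup G₂] [Countable G₁] [Countable G₃]
    (f : G₁ → G₂) (g : G₂ → G₃) (h : ∀ x y, g x = g y → ∃ z, f z = x - y) : Countable G₂ := by
  classical
  obtain ⟨s, hs⟩ : ∃ s : G₃ → G₂, ∀ x, g (s (g x)) = g x := by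
    refine ⟨fun c => if hc : ∃ x, g x = c then hc.choose else 0, fun x => ?_⟩
    have hc : ∃ y, g y = g x := ⟨x, rfl⟩
    simp only [dif_pos hc]
    exact hc.choose_spec
  choose z hz using fun x => h x (s (g x)) (hs x).symm
  refine Function.Injective.countable (f := fun x => (g x, z x)) ?_
  intro x y hxy
  simp only [Prod.mk.injEq] at hxy
  have h1 := hz x
  rw [hxy.2, hz y, hxy.1] at h1
  exact (sub_left_injective h1).symm

section general

variable {C : Type*} [Category C] [Preadditive C] [HasZeroObject C] [HasShift C ℤ]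
  [∀ n : ℤ, (shiftFunctor C n).Additive] [Pretriangulated C]

lemma countable_hom_of_dist₁ (T : Triangle C) (hT : T ∈ distTriang C) (Y : C)
    [Countable (T.obj₁ ⟶ Y)] [Countable (T.obj₃ ⟶ Y)] : Countable (T.obj₂ ⟶ Y) :=
  countable_of_exact (fun z : T.obj₃ ⟶ Y => T.mor₂ ≫ z) (fun x : T.obj₂ ⟶ Y => T.mor₁ ≫ x) (by
    intro x y hxy
    have hxy' : T.mor₁ ≫ x = T.mor₁ ≫ y := hxy
    obtain ⟨z, hz⟩ := Triangle.yoneda_exact₂ T hT (x - y)
      (by rw [Preadditive.comp_sub, hxy', sub_self])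
    exact ⟨z, hz.symm⟩)

lemma countable_hom_of_dist₂ (T : Triangle C) (hT : T ∈ distTriang C) (X : C)
    [Countable (X ⟶ T.obj₁)] [Countable (X ⟶ T.obj₃)] : Countable (X ⟶ T.obj₂) :=
  countable_of_exact (fun z : X ⟶ T.obj₁ => z ≫ T.mor₁) (fun x : X ⟶ T.obj₂ => x ≫ T.mor₂) (by
    intro x y hxy
    have hxy' : x ≫ T.mor₂ = y ≫ T.mor₂ := hxy
    obtain ⟨z, hz⟩ := Triangle.coyoneda_exact₂ T hT (x - y)
      (by rw [Preadditive.sub_comp, hxy', sub_self])
    exact ⟨z, hz.symm⟩)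

lemma countable_hom_shift (a : ℤ) {X X' Y Y' : C} (eX : X⟦a⟧ ≅ X') (eY : Y⟦a⟧ ≅ Y')
    [Countable (X ⟶ Y)] : Countable (X' ⟶ Y') :=
  Function.Surjective.countable (f := fun ψ : X ⟶ Y => eX.inv ≫ ψ⟦a⟧' ≫ eY.hom) (by
    intro φ
    obtain ⟨ψ, hψ⟩ := (shiftFunctor C a).map_surjective (eX.hom ≫ φ ≫ eY.inv)
    refine ⟨ψ, ?_⟩
    show eX.inv ≫ ψ⟦a⟧' ≫ eY.hom = φ
    rw [hψ]
    simp)

lemma countable_hom_of_iso {X X' Y Y' : C} (eX : X ≅ X') (eY : Y ≅ Y')
    [Countable (X ⟶ Y)] : Countable (X' ⟶ Y') :=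
  Function.Surjective.countable (f := fun ψ : X ⟶ Y => eX.inv ≫ ψ ≫ eY.hom) (by
    intro φ
    exact ⟨eX.hom ≫ φ ≫ eY.inv, by simp⟩)

lemma nonempty_iso_of_mor₃_eq {X Y₁ Y₂ Z : C} {f₁ : X ⟶ Y₁} {g₁ : Y₁ ⟶ Z} {f₂ : X ⟶ Y₂}
    {g₂ : Y₂ ⟶ Z} {δ : Z ⟶ X⟦(1 : ℤ)⟧}
    (h₁ : Triangle.mk f₁ g₁ δ ∈ distTriang C) (h₂ : Triangle.mk f₂ g₂ δ ∈ distTriang C) :
    Nonempty (Y₁ ≅ Y₂) :=
  ⟨Triangle.π₃.mapIso (isoTriangleOfIso₁₂ _ _ (inv_rot_of_distTriang _ h₁)
    (inv_rot_of_distTriang _ h₂) (Iso.refl _) (Iso.refl _)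
    ((Category.comp_id _).trans (Category.id_comp _).symm))⟩

end general

variable {A : Type u} [Category.{v} A] [Abelian A] [HasDerivedCategory.{w} A]

/-- the canonical t-structure -/
noncomputable abbrev tD (A : Type u) [Category.{v} A] [Abelian A] [HasDerivedCategory.{w} A] :
    TStructure (DerivedCategory A) := DerivedCategory.TStructure.t

lemma bounded_iff (K : DerivedCategory A) :
    (tD A).bounded K ↔ (∃ a : ℤ, K.IsGE a) ∧ ∃ b : ℤ, K.IsLE b := Iff.rfl

section eff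

open HomologicalComplex

set_option backward.defeqAttrib.useBackward true in
set_option backward.isDefEq.respectTransparency false in
lemma epi_f_of_quasiIsoAt {N : A} {K : CochainComplex A ℤ} {i : ℤ}
    (π : K ⟶ (single A (ComplexShape.up ℤ) i).obj N) [K.IsStrictlyLE i] [QuasiIsoAt π i] :
    Epi (π.f i ≫ (singleObjXSelf (ComplexShape.up ℤ) i N).hom) := by
  let e := K.iCyclesIso i (i + 1) (by simp)
    ((K.isZero_of_isStrictlyLE i (i + 1) (by simp)).eq_of_tgt _ _)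
  let α := e.inv ≫ K.homologyπ i ≫ homologyMap π i ≫ (singleObjHomologySelfIso _ _ _).hom
  have : π.f i = α ≫ (singleObjXSelf (ComplexShape.up ℤ) i N).inv := by
    rw [← cancel_epi e.hom]
    dsimp [α, e]
    rw [Category.assoc, Category.assoc, Category.assoc, iCyclesIso_hom_inv_id_assoc,
      homologyπ_naturality_assoc]
    rw [homologyπ_singleObjHomologySelfIso_hom_assoc,
      ← singleObjCyclesSelfIso_inv_iCycles, Iso.hom_inv_id_assoc, ← cyclesMap_i]
  rw [this, Category.assoc, Iso.inv_hom_id, Category.comp_id]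
  dsimp only [α]
  infer_instance

end eff


section eff2

open HomologicalComplex

lemma exists_epi_comp_eq_zero {N M : A} {i j : ℤ} (hij : j < i)
    (φ : (singleFunctor A i).obj N ⟶ (singleFunctor A j).obj M) :
    ∃ (P : A) (p : P ⟶ N), Epi p ∧ (singleFunctor A i).map p ≫ φ = 0 := by
  obtain ⟨X', _, s, hs, g, hφ⟩ := right_fac_of_isStrictlyLE
    (X := (single A (ComplexShape.up ℤ) i).obj N)
    (Y := (single A (ComplexShape.up ℤ) j).obj M) φ i
  haveI hq : QuasiIso s := by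
    have h := hs
    rwa [isIso_Q_map_iff_quasiIso] at h
  obtain ⟨c, hc⟩ : ∃ c : (single A (ComplexShape.up ℤ) i).obj (X'.X i) ⟶ X',
      c.f i = (singleObjXSelf (ComplexShape.up ℤ) i (X'.X i)).hom ≫ 𝟙 _ :=
    ⟨mkHomFromSingle (𝟙 (X'.X i)) (by
      rintro _ rfl
      exact (X'.isZero_of_isStrictlyLE i (i + 1) (by simp)).eq_of_tgt _ _),
      mkHomFromSingle_f _ _⟩
  obtain ⟨p, hp⟩ : ∃ p : X'.X i ⟶ N,
      p = s.f i ≫ (singleObjXSelf (ComplexShape.up ℤ) i N).hom := ⟨_, rfl⟩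
  have hepi : Epi p := by
    rw [hp]
    exact epi_f_of_quasiIsoAt (π := s)
  have h1 : (single A (ComplexShape.up ℤ) i).map p = c ≫ s := by
    apply from_single_hom_ext
    rw [single_map_f_self, comp_f, hc, hp]
    simp
  have h2 : c ≫ g = 0 := by
    apply from_single_hom_ext
    exact (isZero_single_obj_X (ComplexShape.up ℤ) j M i hij.ne').eq_of_tgt _ _
  refine ⟨X'.X i, p, hepi, ?_⟩
  have e1 : Q.map ((single A (ComplexShape.up ℤ) i).map p) ≫ (inv (Q.map s) ≫ Q.map g) = 0 := by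
    rw [h1, Q.map_comp, Category.assoc, IsIso.hom_inv_id_assoc, ← Q.map_comp, h2, Q.map_zero]
  subst hφ
  exact e1

end eff2

lemma countable_setOf_comp_eq_zero {P N M : A} (p : P ⟶ N) [Epi p] (j : ℤ)
    [Countable ((singleFunctor A 0).obj (kernel p) ⟶ (singleFunctor A (j + 1)).obj M)] :
    {φ : (singleFunctor A 0).obj N ⟶ (singleFunctor A j).obj M |
      (singleFunctor A 0).map p ≫ φ = 0}.Countable := by
  have hS : (ShortComplex.mk (kernel.ι p) p (kernel.condition p)).ShortExact :=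
    ShortComplex.ShortExact.mk' (ShortComplex.exact_of_f_is_kernel _ (kernelIsKernel p))
      (inferInstanceAs (Mono (kernel.ι p))) (inferInstanceAs (Epi p))
  have hT := hS.singleTriangle_distinguished
  haveI : Countable (((singleFunctor A 0).obj (kernel p))⟦(1 : ℤ)⟧ ⟶
      (singleFunctor A j).obj M) :=
    countable_hom_shift 1 (Iso.refl _) (((singleFunctors A).shiftIso 1 j (j + 1) (by lia)).app M)
  refine (Set.countable_range (fun ψ : ((singleFunctor A 0).obj (kernel p))⟦(1 : ℤ)⟧ ⟶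
      (singleFunctor A j).obj M => hS.singleδ ≫ ψ)).mono ?_
  intro φ hφ
  obtain ⟨ψ, hψ⟩ := Triangle.yoneda_exact₃ _ hT φ hφ
  exact ⟨ψ, hψ.symm⟩

lemma countable_hom_single_zero (hhom : ∀ X Y : A, Countable (X ⟶ Y)) (e : ℕ → A)
    (he : ∀ X : A, ∃ n : ℕ, Nonempty (X ≅ e n)) :
    ∀ (n : ℕ) (j : ℤ), j = -(n : ℤ) → ∀ N M : A,
      Countable ((singleFunctor A 0).obj N ⟶ (singleFunctor A j).obj M) := by
  intro n
  induction n with
  | zero =>
    intro j hj N M
    obtain rfl : j = 0 := by simpa using hj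
    haveI := hhom N M
    exact Function.Surjective.countable (f := (singleFunctor A 0).map)
      (Functor.map_surjective _)
  | succ n ih =>
    intro j hj N M
    haveI : ∀ X Y : A, Countable (X ⟶ Y) := hhom
    have hcov : (Set.univ : Set ((singleFunctor A 0).obj N ⟶ (singleFunctor A j).obj M)) ⊆
        ⋃ (m : ℕ) (p : e m ⟶ N), {φ | Epi p ∧ (singleFunctor A 0).map p ≫ φ = 0} := by
      intro φ _
      obtain ⟨P, p₀, hp₀, h0⟩ := exists_epi_comp_eq_zero (i := 0) (j := j) (by lia) φ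
      obtain ⟨m, ⟨u⟩⟩ := he P
      simp only [Set.mem_iUnion, Set.mem_setOf_eq]
      refine ⟨m, u.inv ≫ p₀, inferInstance, ?_⟩
      rw [Functor.map_comp, Category.assoc, h0, comp_zero]
    have hc : (⋃ (m : ℕ) (p : e m ⟶ N),
        {φ : (singleFunctor A 0).obj N ⟶ (singleFunctor A j).obj M |
          Epi p ∧ (singleFunctor A 0).map p ≫ φ = 0}).Countable := by
      refine Set.countable_iUnion (fun m => Set.countable_iUnion (fun p => ?_))
      by_cases hp : Epi p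
      · haveI := hp
        haveI := ih (j + 1) (by lia) (kernel p) M
        exact (countable_setOf_comp_eq_zero p j).mono (fun φ h => h.2)
      · exact (Set.countable_empty).mono (fun φ h => (hp h.1).elim)
    exact Set.countable_univ_iff.mp (hc.mono hcov)

lemma countable_hom_single (hhom : ∀ X Y : A, Countable (X ⟶ Y)) (e : ℕ → A)
    (he : ∀ X : A, ∃ n : ℕ, Nonempty (X ≅ e n)) (i j : ℤ) (N M : A) :
    Countable ((singleFunctor A i).obj N ⟶ (singleFunctor A j).obj M) := by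
  by_cases h : i < j
  · haveI : Subsingleton ((singleFunctor A i).obj N ⟶ (singleFunctor A j).obj M) :=
      ⟨fun f g => by rw [(tD A).zero f i j h, (tD A).zero g i j h]⟩
    infer_instance
  · haveI := countable_hom_single_zero hhom e he (i - j).toNat (j - i) (by lia) N M
    exact countable_hom_shift (-i) (((singleFunctors A).shiftIso (-i) i 0 (by lia)).app N)
      (((singleFunctors A).shiftIso (-i) j (j - i) (by lia)).app M)

lemma devissage (Pr : DerivedCategory A → Prop)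
    (hiso : ∀ X Y : DerivedCategory A, (X ≅ Y) → Pr X → Pr Y)
    (hext : ∀ T : Triangle (DerivedCategory A), T ∈ distTriang _ →
      Pr T.obj₁ → Pr T.obj₃ → Pr T.obj₂)
    (hsingle : ∀ (i : ℤ) (M : A), Pr ((singleFunctor A i).obj M)) :
    ∀ (n : ℕ) (a b : ℤ) (K : DerivedCategory A), b ≤ a + n → K.IsGE a → K.IsLE b → Pr K := by
  intro n
  induction n with
  | zero =>
    intro a b K hab hGE hLE
    haveI := hGE
    haveI := hLE
    haveI : K.IsLE a := (tD A).isLE_of_le K b a (by simpa using hab)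
    obtain ⟨Y, ⟨u⟩⟩ := exists_iso_singleFunctor_obj_of_isGE_of_isLE K a
    exact hiso _ _ u.symm (hsingle a Y)
  | succ n ih =>
    intro a b K hab hGE hLE
    haveI := hGE
    haveI := hLE
    have hT := (tD A).triangleLEGE_distinguished (b - 1) b (by lia) K
    have h1 : Pr (((tD A).truncLE (b - 1)).obj K) :=
      ih a (b - 1) _ (by push_cast at hab; lia) inferInstance inferInstance
    have h3 : Pr (((tD A).truncGE b).obj K) := by
      obtain ⟨Y, ⟨u⟩⟩ :=
        exists_iso_singleFunctor_obj_of_isGE_of_isLE (((tD A).truncGE b).obj K) b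
      exact hiso _ _ u.symm (hsingle b Y)
    exact hext _ hT h1 h3

theorem countable_hom_bounded (hhom : ∀ X Y : A, Countable (X ⟶ Y)) (e : ℕ → A)
    (he : ∀ X : A, ∃ n : ℕ, Nonempty (X ≅ e n)) (K L : DerivedCategory A)
    (hK : (tD A).bounded K) (hL : (tD A).bounded L) : Countable (K ⟶ L) := by
  have step1 : ∀ K : DerivedCategory A, (tD A).bounded K → ∀ (j : ℤ) (M : A),
      Countable (K ⟶ (singleFunctor A j).obj M) := by
    intro K hK
    obtain ⟨⟨a, ha⟩, ⟨b, hb⟩⟩ := (bounded_iff K).1 hK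
    exact devissage (fun K => ∀ (j : ℤ) (M : A), Countable (K ⟶ (singleFunctor A j).obj M))
      (fun X Y u h j M => by
        haveI := h j M
        exact countable_hom_of_iso u (Iso.refl _))
      (fun T hT h1 h3 j M => by
        haveI := h1 j M
        haveI := h3 j M
        exact countable_hom_of_dist₁ T hT _)
      (fun i N j M => countable_hom_single hhom e he i j N M)
      (b - a).toNat a b K (by lia) ha hb
  have step2 : ∀ L : DerivedCategory A, (tD A).bounded L → ∀ K : DerivedCategory A,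
      (tD A).bounded K → Countable (K ⟶ L) := by
    intro L hL
    obtain ⟨⟨a, ha⟩, ⟨b, hb⟩⟩ := (bounded_iff L).1 hL
    exact devissage (fun L => ∀ K : DerivedCategory A, (tD A).bounded K → Countable (K ⟶ L))
      (fun X Y u h K hK => by
        haveI := h K hK
        exact countable_hom_of_iso (Iso.refl _) u)
      (fun T hT h1 h3 K hK => by
        haveI := h1 K hK
        haveI := h3 K hK
        exact countable_hom_of_dist₂ T hT _)
      (fun j M K hK => step1 K hK j M)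
      (b - a).toNat a b L (by lia) ha hb
  exact step2 L hL K hK

/-- amplitude at most `n` -/
def Amp (n : ℕ) (K : DerivedCategory A) : Prop :=
  ∃ a b : ℤ, b ≤ a + n ∧ K.IsGE a ∧ K.IsLE b

/-- essentially countable class of bounded objects -/
def EC (Sc : DerivedCategory A → Prop) : Prop :=
  ∃ r : ℕ → DerivedCategory A, (∀ n, (tD A).bounded (r n)) ∧
    ∀ K, Sc K → ∃ n, Nonempty (K ≅ r n)

lemma bounded_zero : (tD A).bounded (0 : DerivedCategory A) :=
  (bounded_iff _).2 ⟨⟨0, inferInstance⟩, ⟨0, inferInstance⟩⟩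

lemma bounded_single (i : ℤ) (M : A) : (tD A).bounded ((singleFunctor A i).obj M) :=
  (bounded_iff _).2 ⟨⟨i, inferInstance⟩, ⟨i, inferInstance⟩⟩

lemma EC_of_countable {ι : Type*} [Countable ι] (Sc : DerivedCategory A → Prop)
    (r : ι → DerivedCategory A) (hb : ∀ i, (tD A).bounded (r i))
    (h : ∀ K, Sc K → ∃ i, Nonempty (K ≅ r i)) : EC Sc := by
  by_cases hι : Nonempty ι
  · obtain ⟨f, hf⟩ := exists_surjective_nat ι
    refine ⟨fun n => r (f n), fun n => hb _, fun K hK => ?_⟩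
    obtain ⟨i, hi⟩ := h K hK
    obtain ⟨n, rfl⟩ := hf i
    exact ⟨n, hi⟩
  · refine ⟨fun _ => 0, fun _ => bounded_zero, fun K hK => ?_⟩
    obtain ⟨i, -⟩ := h K hK
    exact (hι ⟨i⟩).elim

lemma EC_amp_zero (e : ℕ → A) (he : ∀ X : A, ∃ n : ℕ, Nonempty (X ≅ e n)) :
    EC (Amp (A := A) 0) := by
  refine EC_of_countable (ι := ℤ × ℕ) _ (fun x => (singleFunctor A x.1).obj (e x.2))
    (fun x => bounded_single _ _) ?_
  rintro K ⟨a, b, hab, hGE, hLE⟩
  haveI := hGE
  haveI := hLE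
  haveI : K.IsLE a := (tD A).isLE_of_le K b a (by simpa using hab)
  obtain ⟨Y, ⟨u⟩⟩ := exists_iso_singleFunctor_obj_of_isGE_of_isLE K a
  obtain ⟨m, ⟨w⟩⟩ := he Y
  exact ⟨(a, m), ⟨u ≪≫ (singleFunctor A a).mapIso w⟩⟩

lemma EC_amp_succ
    (H : ∀ K L : DerivedCategory A, (tD A).bounded K → (tD A).bounded L → Countable (K ⟶ L))
    (n : ℕ) (h0 : EC (Amp (A := A) 0)) (hn : EC (Amp (A := A) n)) :
    EC (Amp (A := A) (n + 1)) := by
  obtain ⟨r₀, hb₀, hc₀⟩ := h0
  obtain ⟨r₁, hb₁, hc₁⟩ := hn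
  haveI : ∀ i j, Countable (r₀ j ⟶ (r₁ i)⟦(1 : ℤ)⟧) := fun i j =>
    H _ _ (hb₀ j) ((tD A).bounded.le_shift 1 _ (hb₁ i))
  have hch : ∀ x : (Σ (i : ℕ) (j : ℕ), (r₀ j ⟶ (r₁ i)⟦(1 : ℤ)⟧)),
      ∃ (Y : DerivedCategory A) (f : r₁ x.1 ⟶ Y) (g : Y ⟶ r₀ x.2.1),
        Triangle.mk f g x.2.2 ∈ distTriang _ := fun x => distinguished_cocone_triangle₂ x.2.2
  choose Y f g hY using hch
  refine EC_of_countable (ι := Σ (i : ℕ) (j : ℕ), (r₀ j ⟶ (r₁ i)⟦(1 : ℤ)⟧)) _ Y
    (fun x => ?_) ?_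
  · exact (tD A).bounded.ext_of_isTriangulatedClosed₂ _ (hY x) (hb₁ _) (hb₀ _)
  · rintro K ⟨a, b, hab, hGE, hLE⟩
    haveI := hGE
    haveI := hLE
    have hT := (tD A).triangleLEGE_distinguished (b - 1) b (by lia) K
    obtain ⟨i, ⟨e₁⟩⟩ := hc₁ (((tD A).truncLE (b - 1)).obj K)
      ⟨a, b - 1, by push_cast at hab; lia, inferInstance, inferInstance⟩
    obtain ⟨j, ⟨e₃⟩⟩ := hc₀ (((tD A).truncGE b).obj K)
      ⟨b, b, by simp, inferInstance, inferInstance⟩
    obtain ⟨δ, hδ⟩ : ∃ δ : r₀ j ⟶ (r₁ i)⟦(1 : ℤ)⟧, δ = e₃.inv ≫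
        ((tD A).truncGEδLE (b - 1) b (by lia)).app K ≫ e₁.hom⟦(1 : ℤ)⟧' := ⟨_, rfl⟩
    have hT' : Triangle.mk (e₁.inv ≫ ((tD A).truncLEι (b - 1)).app K)
        (((tD A).truncGEπ b).app K ≫ e₃.hom) δ ∈ distTriang _ := by
      have c1 : (e₁.inv ≫ ((tD A).truncLEι (b - 1)).app K) ≫ 𝟙 K =
          e₁.inv ≫ ((tD A).truncLEι (b - 1)).app K := Category.comp_id _
      have c2 : (((tD A).truncGEπ b).app K ≫ e₃.hom) ≫ e₃.inv =
          𝟙 K ≫ ((tD A).truncGEπ b).app K :=
        (Category.assoc _ _ _).trans ((congrArg (((tD A).truncGEπ b).app K ≫ ·)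
          e₃.hom_inv_id).trans ((Category.comp_id _).trans (Category.id_comp _).symm))
      have hF : (e₁.hom)⟦(1 : ℤ)⟧' ≫ (e₁.inv)⟦(1 : ℤ)⟧' = 𝟙 _ := by
        rw [← Functor.map_comp, Iso.hom_inv_id, CategoryTheory.Functor.map_id]
      have c3 : δ ≫ (e₁.inv)⟦(1 : ℤ)⟧' =
          e₃.inv ≫ ((tD A).truncGEδLE (b - 1) b (by lia)).app K := by
        rw [hδ, Category.assoc, Category.assoc, hF]
        exact congrArg (e₃.inv ≫ ·) (Category.comp_id _)
      exact isomorphic_distinguished _ hT _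
        (Triangle.isoMk _ _ e₁.symm (Iso.refl _) e₃.symm c1 c2 c3)
    exact ⟨⟨i, j, δ⟩, nonempty_iso_of_mor₃_eq hT' (hY ⟨i, j, δ⟩)⟩

theorem main (hhom : ∀ X Y : A, Countable (X ⟶ Y))
    (hiso : ∃ e : ℕ → A, ∀ X : A, ∃ n : ℕ, Nonempty (X ≅ e n)) :
    (∀ K L : DerivedCategory.Bounded A, Countable (K ⟶ L)) ∧
      ∃ e : ℕ → DerivedCategory.Bounded A, ∀ K : DerivedCategory.Bounded A,
        ∃ n : ℕ, Nonempty (K ≅ e n) := by
  obtain ⟨e, he⟩ := hiso
  have H := countable_hom_bounded hhom e he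
  refine ⟨fun K L => ?_, ?_⟩
  · have h1 := H K.obj L.obj K.property L.property
    exact @Function.Injective.countable _ (K.obj ⟶ L.obj) h1 _
      ((tD A).bounded.ι.map_injective)
  · have hamp : ∀ n, EC (Amp (A := A) n) := by
      intro n
      induction n with
      | zero => exact EC_amp_zero e he
      | succ n ih => exact EC_amp_succ H n (EC_amp_zero e he) ih
    choose r hb hc using hamp
    obtain ⟨r', hb', hc'⟩ := EC_of_countable (ι := ℕ × ℕ) (fun K => (tD A).bounded K)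
      (fun x => r x.1 x.2) (fun x => hb _ _) (by
        intro K hK
        obtain ⟨⟨a, ha⟩, ⟨b, hb⟩⟩ := (bounded_iff K).1 hK
        obtain ⟨m, hm⟩ := hc (b - a).toNat K ⟨a, b, by lia, ha, hb⟩
        exact ⟨((b - a).toNat, m), hm⟩)
    refine ⟨fun n => ⟨r' n, hb' n⟩, fun K => ?_⟩
    obtain ⟨n, ⟨u⟩⟩ := hc' K.obj K.property
    exact ⟨n, ⟨(tD A).bounded.ι.preimageIso u⟩⟩

end Groth.Agent.H1.DbCount
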