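import Groth.Agent.Lib.Lead.Dec

universe u v w

namespace Groth.Agent.Lib.Helper1.Dec

open W4c5adicflatcompl Groth.Agent.LD.Dec

section SingleL

variable {A : Type u} [CommRing A] (I : Ideal A) {Z : Type v} (M : Type w) [AddCommGroup M]
  [Module A M] [DecidableEq Z]

/-- `single` as a linear map. -/
def singleL (z : Z) : M →ₗ[A] decaying I Z M where
  toFun m := single I z m
  map_add' m m' := by
    apply Subtype.ext
    funext z'
    simp [Pi.single_apply]
    split_ifs <;> simp
  map_smul' a m := by
    apply Subtype.ext
    funext z'
    simp [Pi.single_apply]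

@[simp] theorem singleL_apply (z : Z) (m : M) : singleL I M z m = single I z m := rfl

end SingleL

section Star

variable {A : Type u} [CommRing A] (I : Ideal A) (M : Type w) [AddCommGroup M] [Module A M]
  [IsAdicComplete I M]

/-- The action of `Â` on an `I`-adically complete module, as an `A`-bilinear map. -/
noncomputable def star : AdicCompletion I A →ₗ[A] M →ₗ[A] M :=
  LinearMap.mk₂ A
    (fun a m => (AdicCompletion.ofLinearEquiv I M).symm (a • AdicCompletion.of I M m))
    (fun a a' m => by
      show (AdicCompletion.ofLinearEquiv I M).symm ((a + a') • AdicCompletion.of I M m) = _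
      rw [add_smul, map_add])
    (fun c a m => by
      show (AdicCompletion.ofLinearEquiv I M).symm ((c • a) • AdicCompletion.of I M m) = _
      rw [smul_assoc, map_smul])
    (fun a m m' => by
      show (AdicCompletion.ofLinearEquiv I M).symm (a • AdicCompletion.of I M (m + m')) = _
      rw [map_add, smul_add, map_add])
    (fun c a m => by
      show (AdicCompletion.ofLinearEquiv I M).symm (a • AdicCompletion.of I M (c • m)) =
        c • (AdicCompletion.ofLinearEquiv I M).symm (a • AdicCompletion.of I M m)
      rw [(AdicCompletion.of I M).map_smul c m, smul_comm a c,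
        (AdicCompletion.ofLinearEquiv I M).symm.map_smul])

theorem star_apply (a : AdicCompletion I A) (m : M) :
    star I M a m = (AdicCompletion.ofLinearEquiv I M).symm (a • AdicCompletion.of I M m) := rfl

@[simp] theorem star_one (m : M) : star I M 1 m = m := by
  rw [star_apply, one_smul, AdicCompletion.ofLinearEquiv_symm_of]

theorem star_mem {a : AdicCompletion I A} {n : ℕ}
    (ha : a ∈ (I ^ n • ⊤ : Submodule A (AdicCompletion I A))) (m : M) :
    star I M a m ∈ (I ^ n • ⊤ : Submodule A M) :=
  map_mem_smul_top ((star I M).flip m) n ha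

end Star

section Lift

variable {A : Type u} [CommRing A] (I : Ideal A) {Z : Type v} {M : Type w} [AddCommGroup M]
  [Module A M] [IsAdicComplete I M]

theorem star_decaying (g : Z → AdicCompletion I A)
    (hg : g ∈ decaying I Z (AdicCompletion I A)) (f : Z → M) :
    (fun z => star I M (g z) (f z)) ∈ decaying I Z M := by
  intro n
  refine (hg n).subset ?_
  intro z hz
  by_contra h
  simp only [Set.mem_ofPred_eq, not_not] at h
  exact hz (star_mem I M h (f z))

/-- The linear map out of decaying functions `Z → Â` determined by a family `f : Z → M` in a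
complete module. -/
noncomputable def lift (f : Z → M) : decaying I Z (AdicCompletion I A) →ₗ[A] M where
  toFun g := adicSum (fun z => star I M ((g : Z → AdicCompletion I A) z) (f z))
    (star_decaying I _ g.2 f)
  map_add' g h := by
    rw [← adicSum_add]
    congr 1
    funext z
    simp [map_add]
  map_smul' a g := by
    rw [RingHom.id_apply, ← adicSum_smul]
    congr 1
    funext z
    simp

theorem lift_apply (f : Z → M) (g : decaying I Z (AdicCompletion I A)) :
    lift I f g = adicSum (fun z => star I M ((g : Z → AdicCompletion I A) z) (f z))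
      (star_decaying I _ g.2 f) := rfl

theorem lift_spec (f : Z → M) (g : decaying I Z (AdicCompletion I A)) (n : ℕ) (S : Finset Z)
    (hS : ∀ z, z ∉ S → (g : Z → AdicCompletion I A) z ∈
      (I ^ n • ⊤ : Submodule A (AdicCompletion I A))) :
    lift I f g - ∑ z ∈ S, star I M ((g : Z → AdicCompletion I A) z) (f z) ∈
      (I ^ n • ⊤ : Submodule A M) :=
  adicSum_spec _ (star_decaying I _ g.2 f) n S (fun z hz => star_mem I M (hS z hz) (f z))

theorem lift_single [DecidableEq Z] (f : Z → M) (z : Z) (a : AdicCompletion I A) :
    lift I f (single I z a) = star I M a (f z) := by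
  rw [lift_apply]
  symm
  apply eq_adicSum
  intro n
  refine ⟨{z}, ?_, ?_⟩
  · intro z' hz'
    rw [Finset.mem_singleton] at hz'
    rw [coe_single, Pi.single_eq_of_ne hz', map_zero, LinearMap.zero_apply]
    exact Submodule.zero_mem _
  · rw [Finset.sum_singleton, coe_single, Pi.single_eq_same, sub_self]
    exact Submodule.zero_mem _

theorem lift_single_one [DecidableEq Z] (f : Z → M) (z : Z) :
    lift I f (single I z 1) = f z := by
  rw [lift_single, star_one]

end Lift

section Ext

variable {A : Type u} [CommRing A] {I : Ideal A} {Z : Type v} {M : Type w} [AddCommGroup M]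
  [Module A M]

/-- Approximating an element of a completion by an element of the module modulo `I ^ n`. -/
theorem exists_sub_of_mem (hI : I.FG) (N : Type w) [AddCommGroup N] [Module A N]
    (a : AdicCompletion I N) (n : ℕ) :
    ∃ a' : N, a - AdicCompletion.of I N a' ∈ (I ^ n • ⊤ : Submodule A (AdicCompletion I N)) := by
  obtain ⟨a', ha'⟩ := Submodule.mkQ_surjective _ (AdicCompletion.eval I N n a)
  refine ⟨a', ?_⟩
  rw [AdicCompletion.pow_smul_top_eq_ker_eval hI, LinearMap.mem_ker, map_sub,
    AdicCompletion.eval_of, ha', sub_self]

theorem of_eq_smul_one (a : A) : AdicCompletion.of I A a = a • (1 : AdicCompletion I A) := by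
  conv_lhs => rw [← mul_one a, ← smul_eq_mul, map_smul]
  rfl

/-- A linear map from decaying functions `Z → Â` to a Hausdorff module is determined by its values
on the `single z 1`. -/
theorem eq_zero_of_single [DecidableEq Z] (hI : I.FG) [IsHausdorff I M]
    (χ : decaying I Z (AdicCompletion I A) →ₗ[A] M)
    (h : ∀ z, χ (single I z 1) = 0) : χ = 0 := by
  haveI : IsHausdorff I (AdicCompletion I A) := inferInstance
  -- values on arbitrary singles lie in all `I ^ n M`
  have h1 : ∀ (z : Z) (a : AdicCompletion I A) (n : ℕ),
      χ (single I z a) ∈ (I ^ n • ⊤ : Submodule A M) := by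
    intro z a n
    obtain ⟨a', ha'⟩ := exists_sub_of_mem hI A a n
    have h2 : single I z a = singleL I (AdicCompletion I A) z (a - AdicCompletion.of I A a') +
        a' • single I z (1 : AdicCompletion I A) := by
      rw [← singleL_apply, ← singleL_apply, ← map_smul, ← map_add, ← of_eq_smul_one,
        sub_add_cancel]
    rw [h2, map_add, map_smul, h, smul_zero, add_zero]
    exact map_mem_smul_top (χ ∘ₗ singleL I (AdicCompletion I A) z) n ha'
  apply LinearMap.ext
  intro g
  rw [LinearMap.zero_apply]
  apply IsHausdorff.haus' (I := I)
  intro n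
  rw [SModEq.zero]
  set S := decFin (g : Z → AdicCompletion I A) g.2 n with hSdef
  set r : decaying I Z (AdicCompletion I A) :=
    g - ∑ z ∈ S, single I z ((g : Z → AdicCompletion I A) z) with hr
  have hr1 : r ∈ (I ^ n • ⊤ : Submodule A (decaying I Z (AdicCompletion I A))) := by
    apply mem_pow_smul_top_decaying hI
    intro z
    have hval : (r : Z → AdicCompletion I A) z = (g : Z → AdicCompletion I A) z -
        ∑ z' ∈ S, (Pi.single z' ((g : Z → AdicCompletion I A) z') : Z → AdicCompletion I A) z := by
      rw [hr]
      simp
    rw [hval]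
    by_cases hz : z ∈ S
    · rw [Finset.sum_eq_single z]
      · rw [Pi.single_eq_same, sub_self]
        exact Submodule.zero_mem _
      · intro z' _ hne
        rw [Pi.single_eq_of_ne hne.symm]
      · intro hcon
        exact absurd hz hcon
    · rw [Finset.sum_eq_zero, sub_zero]
      · rw [hSdef, mem_decFin, not_not] at hz
        exact hz
      · intro z' hz'
        have : z ≠ z' := fun h => hz (h ▸ hz')
        rw [Pi.single_eq_of_ne this]
  have hg : g = r + ∑ z ∈ S, single I z ((g : Z → AdicCompletion I A) z) := by
    rw [hr, sub_add_cancel]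
  rw [hg, map_add, map_sum]
  exact Submodule.add_mem _ (map_mem_smul_top χ n hr1) (Submodule.sum_mem _ fun z _ => h1 z _ n)

theorem ext_of_single [DecidableEq Z] (hI : I.FG) [IsHausdorff I M]
    {ψ ψ' : decaying I Z (AdicCompletion I A) →ₗ[A] M}
    (h : ∀ z, ψ (single I z 1) = ψ' (single I z 1)) : ψ = ψ' := by
  rw [← sub_eq_zero]
  apply eq_zero_of_single hI
  intro z
  rw [LinearMap.sub_apply, h, sub_self]

end Ext

end Groth.Agent.Lib.Helper1.Dec
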