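import Groth.Agent.Lib.Helper1.Dec1

universe u v w w'

namespace Groth.Agent.Lib.Helper1.Dec

open W4c5adicflatcompl Groth.Agent.LD.Dec TensorProduct

section Lift2

/-- Universe-polymorphic version of `Groth.Agent.LD.Dec.S17542`. -/
theorem exists_decaying_lift {A : Type u} [CommRing A] [IsNoetherianRing A] (I : Ideal A)
    [IsAdicComplete I A] (Z : Type v) {M : Type w} {M'' : Type w'} [AddCommGroup M] [Module A M]
    [Module.Finite A M] [AddCommGroup M''] [Module A M''] (φ : M →ₗ[A] M'')
    (hφ : Function.Surjective φ) (g : Z → M'') (hg : g ∈ decaying I Z M'') :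
    ∃ f : Z → M, f ∈ decaying I Z M ∧ ∀ z, φ (f z) = g z := by
  classical
  have : Module.Finite A M'' := Module.Finite.of_surjective φ hφ
  have : IsHausdorff I M'' := IsHausdorff.of_le_jacobson I M'' (IsAdicComplete.le_jacobson_bot I)
  have hmap : ∀ n, (I ^ n • ⊤ : Submodule A M'') = (I ^ n • ⊤ : Submodule A M).map φ := by
    intro n
    rw [Submodule.map_smul'', Submodule.map_top, LinearMap.range_eq_top.mpr hφ]
  have hw : ∀ z, ∃ x : M, φ x = g z ∧
      ∀ K, g z ∈ (I ^ K • ⊤ : Submodule A M'') → x ∈ (I ^ K • ⊤ : Submodule A M) := by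
    intro z
    by_cases h0 : g z = 0
    · exact ⟨0, by simp [h0], fun K _ => Submodule.zero_mem _⟩
    · have hex : ∃ K, g z ∉ (I ^ K • ⊤ : Submodule A M'') := by
        by_contra hcon
        push Not at hcon
        apply h0
        apply IsHausdorff.haus' (I := I)
        intro K
        rw [SModEq.zero]
        exact hcon K
      have hK0 := Nat.find_spec hex
      have hmin := fun K => Nat.find_min hex (m := K)
      set K0 := Nat.find hex
      have hpos : 0 < K0 := by
        by_contra hle
        push Not at hle
        have : K0 = 0 := by omega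
        rw [this] at hK0
        exact hK0 (by simp)
      obtain ⟨k, hk⟩ : ∃ k, K0 = k + 1 := ⟨K0 - 1, by omega⟩
      have hmem : g z ∈ (I ^ k • ⊤ : Submodule A M'') := by
        have := hmin k (by omega)
        rwa [not_not] at this
      rw [hmap] at hmem
      obtain ⟨x, hx, hxz⟩ := hmem
      refine ⟨x, hxz, fun K hK => ?_⟩
      have hKk : K ≤ k := by
        by_contra hlt
        push Not at hlt
        exact hK0 (pow_smul_top_anti (by omega) hK)
      exact pow_smul_top_anti hKk hx
  choose f hf1 hf2 using hw
  refine ⟨f, fun n => ?_, hf1⟩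
  refine (hg n).subset ?_
  intro z hz
  by_contra h
  simp only [Set.mem_ofPred_eq, not_not] at h
  exact hz (hf2 z n h)

end Lift2

section Phi

variable {A : Type u} [CommRing A] (I : Ideal A) (Z : Type v) (M : Type w) [AddCommGroup M]
  [Module A M]

/-- The canonical map `M ⊗ D(Z, A) → (Z → M)`. -/
noncomputable def Phi : M ⊗[A] decaying I Z A →ₗ[A] (Z → M) :=
  (TensorProduct.piScalarRightHom A A M Z) ∘ₗ ((decaying I Z A).subtype.lTensor M)

@[simp] theorem Phi_tmul (m : M) (g : decaying I Z A) :
    Phi I Z M (m ⊗ₜ g) = fun z => (g : Z → A) z • m := by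
  rw [Phi, LinearMap.comp_apply, LinearMap.lTensor_tmul, TensorProduct.piScalarRightHom_tmul]
  rfl

theorem Phi_mem (t : M ⊗[A] decaying I Z A) : Phi I Z M t ∈ decaying I Z M := by
  induction t using TensorProduct.induction_on with
  | zero => rw [map_zero]; exact Submodule.zero_mem _
  | tmul m g =>
    rw [Phi_tmul]
    exact smul_decaying _ g.2 (fun _ => m)
  | add x y hx hy => rw [map_add]; exact Submodule.add_mem _ hx hy

variable {M} in
theorem Phi_natural {M' : Type w'} [AddCommGroup M'] [Module A M'] (u : M →ₗ[A] M')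
    (t : M ⊗[A] decaying I Z A) :
    Phi I Z M' (u.rTensor (decaying I Z A) t) = fun z => u (Phi I Z M t z) := by
  induction t using TensorProduct.induction_on with
  | zero =>
    simp only [map_zero]
    funext z
    simp
  | tmul m g =>
    rw [LinearMap.rTensor_tmul, Phi_tmul, Phi_tmul]
    funext z
    rw [map_smul]
  | add x y hx hy =>
    rw [map_add, map_add, hx, hy, map_add]
    funext z
    simp

end Phi

section Finite

variable {A : Type u} [CommRing A] [IsNoetherianRing A] (I : Ideal A) [IsAdicComplete I A]
  (Z : Type v)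

theorem Phi_exists (M : Type w) [AddCommGroup M] [Module A M] [Module.Finite A M] (h : Z → M)
    (hh : h ∈ decaying I Z M) : ∃ t, Phi I Z M t = h := by
  classical
  obtain ⟨k, p, hp⟩ := Module.Finite.exists_fin' A M
  obtain ⟨h', hh', hph⟩ := exists_decaying_lift I Z p hp h hh
  have hg : ∀ j, (fun z => h' z j) ∈ decaying I Z A := by
    intro j n
    refine (hh' n).subset ?_
    intro z hz
    by_contra hcon
    simp only [Set.mem_ofPred_eq, not_not] at hcon
    exact hz (map_mem_smul_top (LinearMap.proj j : (Fin k → A) →ₗ[A] A) n hcon)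
  refine ⟨∑ j, p (fun j' => if j = j' then 1 else 0) ⊗ₜ ⟨fun z => h' z j, hg j⟩, ?_⟩
  rw [map_sum]
  funext z
  rw [Finset.sum_apply]
  simp only [Phi_tmul]
  rw [← hph z, LinearMap.pi_apply_eq_sum_univ p (h' z)]

omit [IsNoetherianRing A] [IsAdicComplete I A] in
/-- `Phi` is injective for finite free modules `Fin k → A`. -/
theorem Phi_injective_free (k : ℕ) : Function.Injective (Phi I Z (Fin k → A)) := by
  classical
  let e : (Fin k → A) ⊗[A] decaying I Z A ≃ₗ[A] (Fin k → decaying I Z A) :=
    (TensorProduct.comm A _ _).trans (TensorProduct.piScalarRight A A (decaying I Z A) (Fin k))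
  let sw : (Fin k → decaying I Z A) →ₗ[A] (Z → (Fin k → A)) :=
    { toFun := fun d z j => (d j : Z → A) z
      map_add' := fun d d' => by funext z j; simp
      map_smul' := fun a d => by funext z j; simp }
  have hsw : Function.Injective sw := by
    intro d d' hdd
    funext j
    apply Subtype.ext
    funext z
    exact congrFun (congrFun hdd z) j
  have hΦ : Phi I Z (Fin k → A) = sw ∘ₗ e.toLinearMap := by
    apply TensorProduct.ext'
    intro v g
    rw [Phi_tmul]
    funext z j
    simp [e, sw, mul_comm]
  rw [hΦ]
  exact hsw.comp e.injective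

theorem Phi_injective (M : Type w) [AddCommGroup M] [Module A M] [Module.Finite A M] :
    Function.Injective (Phi I Z M) := by
  rw [injective_iff_map_eq_zero]
  intro t ht
  obtain ⟨k, p, hp⟩ := Module.Finite.exists_fin' A M
  obtain ⟨t', rfl⟩ := LinearMap.rTensor_surjective (decaying I Z A) hp t
  rw [Phi_natural] at ht
  -- values of Φ t' lie in the kernel
  have hK : ∀ z, Phi I Z (Fin k → A) t' z ∈ LinearMap.ker p := fun z => congrFun ht z
  let hKf : Z → LinearMap.ker p := fun z => ⟨Phi I Z (Fin k → A) t' z, hK z⟩
  have hKdec : hKf ∈ decaying I Z (LinearMap.ker p) := by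
    rw [S17541 I Z (Fin k → A) (LinearMap.ker p) hKf]
    exact Phi_mem I Z (Fin k → A) t'
  obtain ⟨s, hs⟩ := Phi_exists I Z (LinearMap.ker p) hKf hKdec
  have h1 : Phi I Z (Fin k → A) ((LinearMap.ker p).subtype.rTensor (decaying I Z A) s) =
      Phi I Z (Fin k → A) t' := by
    rw [Phi_natural, hs]
    rfl
  have h2 := Phi_injective_free I Z k h1
  rw [← h2, ← LinearMap.comp_apply, ← LinearMap.rTensor_comp]
  have : p ∘ₗ (LinearMap.ker p).subtype = 0 := by
    ext x : 1
    exact x.2
  rw [this, LinearMap.rTensor_zero, LinearMap.zero_apply]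

theorem range_Phi (M : Type w) [AddCommGroup M] [Module A M] [Module.Finite A M] :
    LinearMap.range (Phi I Z M) = decaying I Z M := by
  apply le_antisymm
  · rintro _ ⟨t, rfl⟩
    exact Phi_mem I Z M t
  · intro h hh
    exact Phi_exists I Z M h hh

/-- Over a Noetherian `I`-adically complete ring, the module of decaying functions is flat. -/
theorem flat_decaying : Module.Flat A (decaying I Z A) := by
  rw [Module.Flat.iff_rTensor_injective']
  intro J
  intro t t' htt
  apply Phi_injective I Z J
  have h1 := Phi_natural I Z J.subtype t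
  have h2 := Phi_natural I Z J.subtype t'
  rw [htt, h2] at h1
  funext z
  apply Subtype.ext
  exact (congrFun h1 z).symm

end Finite

end Groth.Agent.Lib.Helper1.Dec
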