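import Groth.Agent.Lib.Helper1.Dec2

universe u v w w'

namespace Groth.Agent.Lib.Helper1.Dec

open W4c5adicflatcompl Groth.Agent.LD.Dec TensorProduct

section Retract

theorem isAdicComplete_of_retract {A : Type u} [CommRing A] (I : Ideal A) {P : Type v} {D : Type w}
    [AddCommGroup P] [Module A P] [AddCommGroup D] [Module A D] (i : P →ₗ[A] D) (r : D →ₗ[A] P)
    (h : r ∘ₗ i = LinearMap.id) [IsAdicComplete I D] : IsAdicComplete I P := by
  have hri : ∀ x, r (i x) = x := fun x => by
    have := congrArg (fun t => t x) h
    simpa using this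
  have hH : IsHausdorff I P := by
    refine ⟨fun x hx => ?_⟩
    have h0 : i x = 0 := by
      apply IsHausdorff.haus' (I := I)
      intro n
      have := hx n
      rw [SModEq.zero] at this ⊢
      exact map_mem_smul_top i n this
    rw [← hri x, h0, map_zero]
  refine { toIsHausdorff := hH, prec' := ?_ }
  intro f hf
  obtain ⟨L, hL⟩ := IsPrecomplete.prec' (I := I) (fun n => i (f n)) (by
    intro m n hmn
    have := hf hmn
    rw [SModEq.sub_mem] at this ⊢
    rw [← map_sub]
    exact map_mem_smul_top i m this)
  refine ⟨r L, fun n => ?_⟩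
  have := hL n
  rw [SModEq.sub_mem] at this ⊢
  have h2 := map_mem_smul_top r n this
  rwa [map_sub, hri] at h2

theorem isAdicComplete_of_linearEquiv {A : Type u} [CommRing A] (I : Ideal A) {P : Type v}
    {D : Type w} [AddCommGroup P] [Module A P] [AddCommGroup D] [Module A D] (e : P ≃ₗ[A] D)
    [IsAdicComplete I D] : IsAdicComplete I P :=
  isAdicComplete_of_retract I e.toLinearMap e.symm.toLinearMap (by ext x; simp)

end Retract

section Congr

variable {A : Type u} [CommRing A] (I : Ideal A) (Z : Type v) {M : Type w} {M' : Type w'}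
  [AddCommGroup M] [Module A M] [AddCommGroup M'] [Module A M']

/-- Functoriality of decaying functions. -/
def decayingMap (u : M →ₗ[A] M') : decaying I Z M →ₗ[A] decaying I Z M' where
  toFun g := ⟨fun z => u ((g : Z → M) z), fun n => (g.2 n).subset fun z hz => by
    by_contra hcon
    simp only [Set.mem_ofPred_eq, not_not] at hcon
    exact hz (map_mem_smul_top u n hcon)⟩
  map_add' g g' := by
    apply Subtype.ext
    funext z
    simp
  map_smul' a g := by
    apply Subtype.ext
    funext z
    simp

@[simp] theorem decayingMap_apply (u : M →ₗ[A] M') (g : decaying I Z M) (z : Z) :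
    (decayingMap I Z u g : Z → M') z = u ((g : Z → M) z) := rfl

/-- Decaying functions with values in isomorphic modules. -/
def decayingCongr (e : M ≃ₗ[A] M') : decaying I Z M ≃ₗ[A] decaying I Z M' :=
  LinearEquiv.ofLinearMap (decayingMap I Z e.toLinearMap) (decayingMap I Z e.symm.toLinearMap)
    (by ext g z; simp) (by ext g z; simp)

end Congr

section Flat

theorem mem_smul_ker_of_flat {A : Type u} [CommRing A] {D : Type v} {M : Type w} [AddCommGroup D]
    [Module A D] [AddCommGroup M] [Module A M] (φ : D →ₗ[A] M) (hφ : Function.Surjective φ)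
    [Module.Flat A M] (J : Ideal A) (x : LinearMap.ker φ)
    (hxJ : (x : D) ∈ (J • ⊤ : Submodule A D)) : x ∈ (J • ⊤ : Submodule A (LinearMap.ker φ)) := by
  have hinj := LinearMap.lTensor_injective_of_exact_of_flat φ hφ (LinearMap.ker φ).subtype
    (LinearMap.ker φ).subtype_injective (LinearMap.exact_subtype_ker_map φ) (A ⧸ J)
  have h1 : (LinearMap.ker φ).subtype.lTensor (A ⧸ J) ((1 : A ⧸ J) ⊗ₜ x) = 0 := by
    rw [LinearMap.lTensor_tmul]
    apply (TensorProduct.quotTensorEquivQuotSMul D J).injective
    rw [TensorProduct.quotTensorEquivQuotSMul_mk_one_tmul, map_zero,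
      Submodule.Quotient.mk_eq_zero]
    exact hxJ
  have h2 : ((1 : A ⧸ J) ⊗ₜ[A] x) = 0 := hinj (by rw [h1, map_zero])
  have h3 := congrArg (TensorProduct.quotTensorEquivQuotSMul (LinearMap.ker φ) J) h2
  rw [TensorProduct.quotTensorEquivQuotSMul_mk_one_tmul, map_zero,
    Submodule.Quotient.mk_eq_zero] at h3
  exact h3

theorem mem_smul_ker_of_flat' {A : Type u} [CommRing A] {D : Type v} {M : Type w} [AddCommGroup D]
    [Module A D] [AddCommGroup M] [Module A M] (φ : D →ₗ[A] M) (hφ : Function.Surjective φ)
    [Module.Flat A M] (J : Ideal A) (x : D) (hx : x ∈ LinearMap.ker φ)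
    (hxJ : x ∈ (J • ⊤ : Submodule A D)) : x ∈ J • LinearMap.ker φ := by
  have h := mem_smul_ker_of_flat φ hφ J ⟨x, hx⟩ hxJ
  have h2 : (J • LinearMap.ker φ : Submodule A D) =
      (J • ⊤ : Submodule A (LinearMap.ker φ)).map (LinearMap.ker φ).subtype := by
    rw [Submodule.map_smul'', Submodule.map_subtype_top]
  rw [h2]
  exact ⟨⟨x, hx⟩, h, rfl⟩

theorem le_pow_smul_top_of_le_smul {A : Type u} [CommRing A] {D : Type v} [AddCommGroup D]
    [Module A D] (I : Ideal A) (K : Submodule A D) (h : K ≤ I • K) (n : ℕ) :
    K ≤ (I ^ n • ⊤ : Submodule A D) := by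
  induction n with
  | zero => rw [pow_zero, Ideal.one_eq_top, Submodule.top_smul]; exact le_top
  | succ n ih =>
    rw [pow_succ', Submodule.mul_smul]
    exact h.trans (Submodule.smul_mono le_rfl ih)

end Flat

section Free

open IsLocalRing

theorem star_of {A : Type u} [CommRing A] (I : Ideal A) (M : Type w) [AddCommGroup M] [Module A M]
    [IsAdicComplete I M] (a : A) (m : M) : star I M (AdicCompletion.of I A a) m = a • m := by
  rw [of_eq_smul_one, map_smul, LinearMap.smul_apply, star_one]

/-- If `f : Z → M` is a "basis modulo `I`" of a flat `I`-adically complete module, then the induced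
map from decaying functions is bijective. -/
theorem bijective_lift_of_basis_mod {A : Type u} [CommRing A] [IsNoetherianRing A] (I : Ideal A)
    (M : Type w) [AddCommGroup M] [Module A M] [Module.Flat A M] [IsAdicComplete I M]
    {Z : Type v} (f : Z → M)
    (hli : ∀ (S : Finset Z) (a : Z → A), ∑ z ∈ S, a z • f z ∈ (I • ⊤ : Submodule A M) →
      ∀ z ∈ S, a z ∈ I)
    (hspan : Submodule.span A (Set.range f) ⊔ I • ⊤ = ⊤) :
    Function.Bijective (lift I f) := by
  classical
  have hfg : I.FG := IsNoetherian.noetherian I
  haveI hDc : IsAdicComplete I (decaying I Z (AdicCompletion I A)) := S17547 I Z A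
  -- surjectivity
  have hsurj : Function.Surjective (lift I f) := by
    apply surjective_of_mkQ_comp_surjective (I := I)
    intro y
    obtain ⟨y, rfl⟩ := Submodule.mkQ_surjective _ y
    have hy : y ∈ Submodule.span A (Set.range f) ⊔ I • ⊤ := by rw [hspan]; trivial
    obtain ⟨s, hs, t, ht, rfl⟩ := Submodule.mem_sup.1 hy
    have hrange : Submodule.span A (Set.range f) ≤ LinearMap.range (lift I f) := by
      rw [Submodule.span_le]
      rintro _ ⟨z, rfl⟩
      exact ⟨single I z 1, lift_single_one I f z⟩
    obtain ⟨x, rfl⟩ := hrange hs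
    refine ⟨x, ?_⟩
    rw [LinearMap.comp_apply, map_add, Submodule.mkQ_apply _ t,
      (Submodule.Quotient.mk_eq_zero _).2 ht, add_zero]
  refine ⟨?_, hsurj⟩
  -- step 1: the kernel is contained in I D
  have h1 : ∀ x : decaying I Z (AdicCompletion I A), lift I f x = 0 →
      x ∈ (I • ⊤ : Submodule A (decaying I Z (AdicCompletion I A))) := by
    intro x hx
    have hgoal : x ∈ (I ^ 1 • ⊤ : Submodule A (decaying I Z (AdicCompletion I A))) := by
      apply mem_pow_smul_top_decaying hfg
      choose a ha using fun z : Z => exists_sub_of_mem hfg A ((x : Z → AdicCompletion I A) z) 1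
      have hspec := lift_spec I f x 1 (decFin (x : Z → AdicCompletion I A) x.2 1) (fun z hz => by
        rw [mem_decFin, not_not] at hz
        exact hz)
      rw [hx, zero_sub] at hspec
      have hdiff : ∀ z, star I M ((x : Z → AdicCompletion I A) z) (f z) - a z • f z ∈
          (I ^ 1 • ⊤ : Submodule A M) := by
        intro z
        rw [← star_of I M (a z) (f z), ← LinearMap.sub_apply, ← map_sub]
        exact star_mem I M (ha z) (f z)
      have hsum : ∑ z ∈ decFin (x : Z → AdicCompletion I A) x.2 1, a z • f z ∈
          (I ^ 1 • ⊤ : Submodule A M) := by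
        have : ∑ z ∈ decFin (x : Z → AdicCompletion I A) x.2 1, a z • f z =
            -(-∑ z ∈ decFin (x : Z → AdicCompletion I A) x.2 1,
              star I M ((x : Z → AdicCompletion I A) z) (f z)) -
            ∑ z ∈ decFin (x : Z → AdicCompletion I A) x.2 1,
              (star I M ((x : Z → AdicCompletion I A) z) (f z) - a z • f z) := by
          rw [Finset.sum_sub_distrib]
          abel
        rw [this]
        exact Submodule.sub_mem _ (Submodule.neg_mem _ hspec)
          (Submodule.sum_mem _ fun z _ => hdiff z)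
      rw [pow_one] at hsum
      have hli' := hli _ a hsum
      intro z
      by_cases hz : z ∈ decFin (x : Z → AdicCompletion I A) x.2 1
      · have haz : a z ∈ I := hli' z hz
        have : (x : Z → AdicCompletion I A) z =
            ((x : Z → AdicCompletion I A) z - AdicCompletion.of I A (a z)) +
              a z • (1 : AdicCompletion I A) := by
          rw [← of_eq_smul_one, sub_add_cancel]
        rw [this]
        refine Submodule.add_mem _ (ha z) (Submodule.smul_mem_smul ?_ Submodule.mem_top)
        rw [pow_one]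
        exact haz
      · rw [mem_decFin, not_not] at hz
        exact hz
    rwa [pow_one] at hgoal
  -- step 2: K = I K
  have h2 : LinearMap.ker (lift I f) ≤ I • LinearMap.ker (lift I f) := fun x hx =>
    mem_smul_ker_of_flat' (lift I f) hsurj I x hx (h1 x hx)
  rw [← LinearMap.ker_eq_bot, eq_bot_iff]
  intro x hx
  rw [Submodule.mem_bot]
  have hH : IsHausdorff I (decaying I Z (AdicCompletion I A)) := hDc.toIsHausdorff
  apply hH.haus'
  intro n
  rw [SModEq.zero]
  exact le_pow_smul_top_of_le_smul I _ h2 n hx

theorem isAdicFree_of_flat_of_isAdicComplete {A : Type u} [CommRing A] [IsNoetherianRing A]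
    [IsLocalRing A] (M : Type u) [AddCommGroup M] [Module A M] [Module.Flat A M]
    [IsAdicComplete (maximalIdeal A) M] : IsAdicFree (maximalIdeal A) M := by
  classical
  letI : Field (A ⧸ maximalIdeal A) := Ideal.Quotient.field (maximalIdeal A)
  let b := Module.Basis.ofVectorSpace (A ⧸ maximalIdeal A)
    (M ⧸ (maximalIdeal A • ⊤ : Submodule A M))
  choose f hf using fun z => Submodule.mkQ_surjective (maximalIdeal A • ⊤ : Submodule A M) (b z)
  have hsmul : ∀ (a : A) (v : M ⧸ (maximalIdeal A • ⊤ : Submodule A M)),
      (Ideal.Quotient.mk (maximalIdeal A) a) • v = a • v := by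
    intro a v
    rw [← Ideal.Quotient.algebraMap_eq, algebraMap_smul]
  have hli : ∀ (S : Finset _) (a : _ → A), ∑ z ∈ S, a z • f z ∈
      (maximalIdeal A • ⊤ : Submodule A M) → ∀ z ∈ S, a z ∈ maximalIdeal A := by
    intro S a hsum
    have hV : ∑ z ∈ S, (Ideal.Quotient.mk (maximalIdeal A) (a z)) • b z = 0 := by
      have h0 := (Submodule.Quotient.mk_eq_zero (maximalIdeal A • ⊤ : Submodule A M)).2 hsum
      rw [← Submodule.mkQ_apply, map_sum] at h0
      rw [← h0]
      refine Finset.sum_congr rfl fun z _ => ?_
      rw [hsmul, map_smul, hf]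
    have hli := linearIndependent_iff'.1 b.linearIndependent S
      (fun z => Ideal.Quotient.mk (maximalIdeal A) (a z)) hV
    intro z hz
    exact Ideal.Quotient.eq_zero_iff_mem.1 (hli z hz)
  have hspan : Submodule.span A (Set.range f) ⊔ maximalIdeal A • ⊤ = ⊤ := by
    rw [eq_top_iff]
    intro y _
    have hspanb : Submodule.span A (Set.range b) = ⊤ := by
      have h1 := b.span_eq
      have h2 := Submodule.restrictScalars_span A (A ⧸ maximalIdeal A)
        Ideal.Quotient.mk_surjective (Set.range b)
      rw [← h2, h1]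
      rfl
    have hy : Submodule.mkQ (maximalIdeal A • ⊤ : Submodule A M) y ∈
        Submodule.span A (Set.range b) := by rw [hspanb]; trivial
    have hrb : Set.range b = (Submodule.mkQ (maximalIdeal A • ⊤ : Submodule A M)) '' Set.range f := by
      ext v
      constructor
      · rintro ⟨z, rfl⟩
        exact ⟨f z, ⟨z, rfl⟩, hf z⟩
      · rintro ⟨_, ⟨z, rfl⟩, rfl⟩
        exact ⟨z, (hf z).symm⟩
    rw [hrb, ← Submodule.map_span] at hy
    obtain ⟨s, hs, hsy⟩ := hy
    have : y = s + (y - s) := by abel
    rw [this]
    refine Submodule.add_mem_sup hs ?_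
    rw [← Submodule.Quotient.mk_eq_zero, Submodule.Quotient.mk_sub, ← Submodule.mkQ_apply,
      ← Submodule.mkQ_apply, hsy, sub_self]
  exact ⟨_, ⟨(LinearEquiv.ofBijective _
    (bijective_lift_of_basis_mod (maximalIdeal A) M f hli hspan)).symm⟩⟩

/-- Decaying functions with values in the completion of a complete Noetherian ring are flat. -/
theorem flat_decaying_adicCompletion {A : Type u} [CommRing A] [IsNoetherianRing A] (I : Ideal A)
    [IsAdicComplete I A] (Z : Type v) : Module.Flat A (decaying I Z (AdicCompletion I A)) := by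
  haveI := flat_decaying I Z
  exact Module.Flat.of_linearEquiv (decayingCongr I Z (AdicCompletion.ofLinearEquiv I A)).symm

end Free

end Groth.Agent.Lib.Helper1.Dec
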