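import Groth.Agent.Lib.Helper1.Dec3

universe u v w w'

namespace Groth.Agent.Lib.Helper1.Dec

open W4c5adicflatcompl Groth.Agent.LD.Dec TensorProduct

section Nilp

/-- A surjection onto a flat module which is injective modulo a nilpotent ideal is injective. -/
theorem injective_of_flat_of_ker_le {R : Type u} [CommRing R] (𝔫 : Ideal R) (N : ℕ)
    {F : Type v} {P : Type w} [AddCommGroup F] [Module R F] [AddCommGroup P] [Module R P]
    [Module.Flat R P] (h𝔫 : (𝔫 ^ N • ⊤ : Submodule R F) = ⊥) (π : F →ₗ[R] P)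
    (hπ : Function.Surjective π) (hker : LinearMap.ker π ≤ 𝔫 • ⊤) : Function.Injective π := by
  rw [← LinearMap.ker_eq_bot, eq_bot_iff, ← h𝔫]
  apply le_pow_smul_top_of_le_smul
  intro x hx
  exact mem_smul_ker_of_flat' π hπ 𝔫 x hx (hker hx)

/-- Nakayama for a nilpotent action. -/
theorem eq_top_of_sup_smul_top_of_nilpotent {R : Type u} [CommRing R] (𝔫 : Ideal R) (N : ℕ)
    {F : Type v} [AddCommGroup F] [Module R F] (h𝔫 : (𝔫 ^ N • ⊤ : Submodule R F) = ⊥)
    (P : Submodule R F) (h : P ⊔ 𝔫 • ⊤ = ⊤) : P = ⊤ := by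
  have key : ∀ k : ℕ, (⊤ : Submodule R F) ≤ P ⊔ 𝔫 ^ k • ⊤ := by
    intro k
    induction k with
    | zero => rw [pow_zero, Ideal.one_eq_top, Submodule.top_smul]; exact le_sup_right
    | succ k ih =>
      calc (⊤ : Submodule R F) = P ⊔ 𝔫 • ⊤ := h.symm
        _ ≤ P ⊔ 𝔫 • (P ⊔ 𝔫 ^ k • ⊤) := sup_le_sup_left (Submodule.smul_mono le_rfl ih) P
        _ = P ⊔ (𝔫 • P ⊔ 𝔫 • (𝔫 ^ k • ⊤)) := by rw [Submodule.smul_sup]
        _ ≤ P ⊔ 𝔫 ^ (k + 1) • ⊤ := by
          rw [pow_succ', Submodule.mul_smul]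
          exact sup_le le_sup_left (sup_le (Submodule.smul_le_right.trans le_sup_left) le_sup_right)
  have := key N
  rw [h𝔫, sup_bot_eq] at this
  exact eq_top_iff.2 this

end Nilp

section Sys

variable {A : Type u} [CommRing A] (I : Ideal A)
  (M : ℕ → Type v) [∀ n, AddCommGroup (M n)] [∀ n, Module A (M n)]
  (ψ : ∀ n, M (n + 1) →ₗ[A] M n)

/-- The transition maps down to level `0`. -/
def toZero : ∀ n, M n →ₗ[A] M 0
  | 0 => LinearMap.id
  | n + 1 => toZero n ∘ₗ ψ n

theorem toZero_zero (x : M 0) : toZero M ψ 0 x = x := rfl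

theorem toZero_succ (n : ℕ) (x : M (n + 1)) : toZero M ψ (n + 1) x = toZero M ψ n (ψ n x) := rfl

variable {M ψ}

theorem mem_smul_top_of_toZero_eq_zero (hψ : ∀ n, Function.Surjective (ψ n))
    (hker : ∀ n, LinearMap.ker (ψ n) = (I ^ (n + 1) • ⊤ : Submodule A (M (n + 1)))) :
    ∀ (n : ℕ) (x : M n), toZero M ψ n x = 0 → x ∈ (I • ⊤ : Submodule A (M n)) := by
  intro n
  induction n with
  | zero =>
    intro x hx
    rw [toZero_zero] at hx
    rw [hx]
    exact Submodule.zero_mem _
  | succ n ih =>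
    intro x hx
    rw [toZero_succ] at hx
    have h1 := ih (ψ n x) hx
    have hmap : (I • ⊤ : Submodule A (M n)) = (I • ⊤ : Submodule A (M (n + 1))).map (ψ n) := by
      rw [Submodule.map_smul'', Submodule.map_top, LinearMap.range_eq_top.mpr (hψ n)]
    rw [hmap] at h1
    obtain ⟨x', hx', hxx'⟩ := h1
    have h2 : x - x' ∈ LinearMap.ker (ψ n) := by
      rw [LinearMap.mem_ker, map_sub, hxx', sub_self]
    rw [hker n] at h2
    have h3 : (I ^ (n + 1) • ⊤ : Submodule A (M (n + 1))) ≤ I • ⊤ := by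
      apply Submodule.smul_mono_left
      exact Ideal.pow_le_self (Nat.succ_ne_zero n)
    have : x = x' + (x - x') := by abel
    rw [this]
    exact Submodule.add_mem _ hx' (h3 h2)

/-- A compatible sequence of lifts of an element of `M 0`. -/
noncomputable def liftSeq (hψ : ∀ n, Function.Surjective (ψ n)) (y0 : M 0) : ∀ n, M n
  | 0 => y0
  | n + 1 => Classical.choose (hψ n (liftSeq hψ y0 n))

theorem liftSeq_zero (hψ : ∀ n, Function.Surjective (ψ n)) (y0 : M 0) :
    liftSeq hψ y0 0 = y0 := rfl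

theorem liftSeq_compat (hψ : ∀ n, Function.Surjective (ψ n)) (y0 : M 0) (n : ℕ) :
    ψ n (liftSeq hψ y0 (n + 1)) = liftSeq hψ y0 n :=
  Classical.choose_spec (hψ n (liftSeq hψ y0 n))

theorem toZero_liftSeq (hψ : ∀ n, Function.Surjective (ψ n)) (y0 : M 0) (n : ℕ) :
    toZero M ψ n (liftSeq hψ y0 n) = y0 := by
  induction n with
  | zero => rfl
  | succ n ih => rw [toZero_succ, liftSeq_compat, ih]

end Sys

section Level

variable {A : Type u} [CommRing A] (I : Ideal A)
  {M : ℕ → Type v} [∀ n, AddCommGroup (M n)] [∀ n, Module A (M n)]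
  [∀ n, Module (A ⧸ I ^ (n + 1)) (M n)] [∀ n, IsScalarTower A (A ⧸ I ^ (n + 1)) (M n)]
  {ψ : ∀ n, M (n + 1) →ₗ[A] M n}

theorem mk_smul' (n : ℕ) (a : A) (x : M n) :
    (Ideal.Quotient.mk (I ^ (n + 1)) a) • x = a • x := by
  rw [← Ideal.Quotient.algebraMap_eq, algebraMap_smul]

theorem pow_smul_top_eq_bot' (n : ℕ) : (I ^ (n + 1) • ⊤ : Submodule A (M n)) = ⊥ := by
  rw [eq_bot_iff, Submodule.smul_le]
  intro a ha x _
  rw [Submodule.mem_bot, ← mk_smul' I n a x, Ideal.Quotient.eq_zero_iff_mem.2 ha, zero_smul]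

variable {Z : Type w} (y : Z → ∀ n, M n)

/-- The level-`n` comparison map from the free module. -/
noncomputable def levelMap (n : ℕ) : (Z →₀ A ⧸ I ^ (n + 1)) →ₗ[A ⧸ I ^ (n + 1)] M n :=
  Finsupp.linearCombination (A ⧸ I ^ (n + 1)) (fun z => y z n)

theorem levelMap_single (n : ℕ) (z : Z) :
    levelMap I y n (Finsupp.single z 1) = y z n := by
  rw [levelMap, Finsupp.linearCombination_single, one_smul]

theorem levelMap_apply_of_lift (n : ℕ) (c : Z →₀ A ⧸ I ^ (n + 1)) (a : Z → A)
    (ha : ∀ z, Ideal.Quotient.mk (I ^ (n + 1)) (a z) = c z) :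
    levelMap I y n c = ∑ z ∈ c.support, a z • y z n := by
  rw [levelMap, Finsupp.linearCombination_apply, Finsupp.sum]
  refine Finset.sum_congr rfl fun z _ => ?_
  rw [← ha z, mk_smul']

variable (hψ : ∀ n, Function.Surjective (ψ n))
  (hker : ∀ n, LinearMap.ker (ψ n) = (I ^ (n + 1) • ⊤ : Submodule A (M (n + 1))))
  (hy : ∀ z n, ψ n (y z (n + 1)) = y z n)
  (hspan0 : Submodule.span A (Set.range fun z => y z 0) = ⊤)
  (hli0 : ∀ (S : Finset Z) (a : Z → A), ∑ z ∈ S, a z • y z 0 = 0 → ∀ z ∈ S, a z ∈ I)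

include hy in
theorem toZero_y (z : Z) (n : ℕ) : toZero M ψ n (y z n) = y z 0 := by
  induction n with
  | zero => rfl
  | succ n ih => rw [toZero_succ, hy, ih]

include hψ hker hy hspan0 in
theorem levelMap_surjective (n : ℕ) : Function.Surjective (levelMap I y n) := by
  have hP : Submodule.span A (Set.range fun z => y z n) = ⊤ := by
    apply eq_top_of_sup_smul_top_of_nilpotent I (n + 1) (pow_smul_top_eq_bot' I n)
    rw [eq_top_iff]
    intro x _
    have h1 : toZero M ψ n x ∈ Submodule.span A (Set.range fun z => y z 0) := by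
      rw [hspan0]; trivial
    have h2 : (Set.range fun z => y z 0) = (toZero M ψ n) '' (Set.range fun z => y z n) := by
      ext v
      constructor
      · rintro ⟨z, rfl⟩
        exact ⟨y z n, ⟨z, rfl⟩, toZero_y y hy z n⟩
      · rintro ⟨_, ⟨z, rfl⟩, rfl⟩
        exact ⟨z, (toZero_y y hy z n).symm⟩
    rw [h2, ← Submodule.map_span] at h1
    obtain ⟨x', hx', hxx'⟩ := h1
    have h3 : x - x' ∈ (I • ⊤ : Submodule A (M n)) := by
      apply mem_smul_top_of_toZero_eq_zero I hψ hker
      rw [map_sub, hxx', sub_self]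
    have : x = x' + (x - x') := by abel
    rw [this]
    exact Submodule.add_mem_sup hx' h3
  intro x
  have hx : x ∈ Submodule.span A (Set.range fun z => y z n) := by rw [hP]; trivial
  have hle : Submodule.span A (Set.range fun z => y z n) ≤
      (LinearMap.range (levelMap I y n)).restrictScalars A := by
    rw [Submodule.span_le]
    rintro _ ⟨z, rfl⟩
    exact ⟨Finsupp.single z 1, levelMap_single I y n z⟩
  exact hle hx

include hψ hker hy hspan0 hli0 in
theorem levelMap_injective [∀ n, Module.Flat (A ⧸ I ^ (n + 1)) (M n)] (n : ℕ) :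
    Function.Injective (levelMap I y n) := by
  classical
  apply injective_of_flat_of_ker_le (I.map (Ideal.Quotient.mk (I ^ (n + 1)))) (n + 1) ?_ _
    (levelMap_surjective I y hψ hker hy hspan0 n)
  · intro c hc
    rw [LinearMap.mem_ker] at hc
    choose a ha using fun z => Ideal.Quotient.mk_surjective (c z)
    rw [levelMap_apply_of_lift I y n c a ha] at hc
    have h1 := congrArg (toZero M ψ n) hc
    rw [map_sum, map_zero] at h1
    have h2 : ∑ z ∈ c.support, a z • y z 0 = 0 := by
      rw [← h1]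
      refine Finset.sum_congr rfl fun z _ => ?_
      rw [map_smul, toZero_y y hy]
    have h3 := hli0 c.support a h2
    have hc' : c = ∑ z ∈ c.support, (c z) • Finsupp.single z (1 : A ⧸ I ^ (n + 1)) := by
      conv_lhs => rw [← Finsupp.sum_single c]
      rw [Finsupp.sum]
      refine Finset.sum_congr rfl fun z _ => ?_
      rw [Finsupp.smul_single, smul_eq_mul, mul_one]
    rw [hc']
    refine Submodule.sum_mem _ fun z hz => ?_
    refine Submodule.smul_mem_smul ?_ Submodule.mem_top
    rw [← ha z]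
    exact Ideal.mem_map_of_mem _ (h3 z hz)
  · rw [← Ideal.map_pow, Ideal.map_quotient_self, Submodule.bot_smul]

end Level

section Red

variable {A : Type u} [CommRing A] (I : Ideal A) {Z : Type w}

/-- Reduction of a decaying function modulo `I ^ (n + 1)`, a finitely supported function. -/
noncomputable def red (n : ℕ) : decaying I Z A →ₗ[A] (Z →₀ A ⧸ I ^ (n + 1)) where
  toFun g := Finsupp.ofSupportFinite (fun z => Ideal.Quotient.mk (I ^ (n + 1)) ((g : Z → A) z)) (by
    refine (g.2 (n + 1)).subset ?_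
    intro z hz h
    exact hz (Ideal.Quotient.eq_zero_iff_mem.2 (mem_pow_of_mem_smul_top h)))
  map_add' g g' := by
    ext z
    simp [Finsupp.ofSupportFinite_coe]
  map_smul' a g := by
    ext z
    simp [Finsupp.ofSupportFinite_coe]
    rfl

@[simp] theorem red_apply (n : ℕ) (g : decaying I Z A) (z : Z) :
    red I n g z = Ideal.Quotient.mk (I ^ (n + 1)) ((g : Z → A) z) := rfl

theorem red_eq_zero_iff (hI : I.FG) [IsHausdorff I A] (n : ℕ) (g : decaying I Z A) :
    red I n g = 0 ↔ g ∈ (I ^ (n + 1) • ⊤ : Submodule A (decaying I Z A)) := by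
  rw [mem_pow_smul_top_decaying_iff hI]
  constructor
  · intro h z
    have := DFunLike.congr_fun h z
    rw [red_apply, Finsupp.zero_apply, Ideal.Quotient.eq_zero_iff_mem] at this
    exact mem_smul_top_of_mem_pow this
  · intro h
    ext z
    rw [red_apply, Finsupp.zero_apply, Ideal.Quotient.eq_zero_iff_mem]
    exact mem_pow_of_mem_smul_top (h z)

theorem red_surjective (n : ℕ) : Function.Surjective (red I (Z := Z) n) := by
  classical
  intro c
  have hch : ∀ q : A ⧸ I ^ (n + 1), ∃ a : A, Ideal.Quotient.mk (I ^ (n + 1)) a = q ∧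
      (q = 0 → a = 0) := by
    intro q
    by_cases hq : q = 0
    · exact ⟨0, by simp [hq], fun _ => rfl⟩
    · obtain ⟨a, ha⟩ := Ideal.Quotient.mk_surjective q
      exact ⟨a, ha, fun h => absurd h hq⟩
  choose lift hl1 hl2 using hch
  refine ⟨⟨fun z => lift (c z), ?_⟩, ?_⟩
  · intro k
    refine c.support.finite_toSet.subset ?_
    intro z hz
    by_contra h
    apply hz
    have : c z = 0 := by
      by_contra hne
      exact h (Finsupp.mem_support_iff.mpr hne)
    change lift (c z) ∈ _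
    rw [hl2 _ this]
    exact Submodule.zero_mem _
  · ext z
    rw [red_apply]
    exact hl1 _

end Red

section Lim

variable {A : Type u} [CommRing A] (I : Ideal A)
  {M : ℕ → Type v} [∀ n, AddCommGroup (M n)] [∀ n, Module A (M n)]
  [∀ n, Module (A ⧸ I ^ (n + 1)) (M n)] [∀ n, IsScalarTower A (A ⧸ I ^ (n + 1)) (M n)]
  {ψ : ∀ n, M (n + 1) →ₗ[A] M n} {Z : Type w} (y : Z → ∀ n, M n)

theorem levelMap_red (n : ℕ) (g : decaying I Z A) (S : Finset Z)
    (hS : (red I n g).support ⊆ S) :
    levelMap I y n (red I n g) = ∑ z ∈ S, (g : Z → A) z • y z n := by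
  rw [levelMap_apply_of_lift I y n (red I n g) (fun z => (g : Z → A) z) (fun z => rfl)]
  apply Finset.sum_subset hS
  intro z _ hz
  rw [Finsupp.notMem_support_iff, red_apply] at hz
  rw [← mk_smul' I n, hz, zero_smul]

theorem support_red_subset (n : ℕ) (g : decaying I Z A) :
    (red I n g).support ⊆ (red I (n + 1) g).support := by
  intro z hz
  rw [Finsupp.mem_support_iff, red_apply, Ne, Ideal.Quotient.eq_zero_iff_mem] at hz ⊢
  exact fun h => hz (Ideal.pow_le_pow_right (Nat.le_succ _) h)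

variable (hy : ∀ z n, ψ n (y z (n + 1)) = y z n)

theorem mk_smul_finsupp (n : ℕ) (a : A) (c : Z →₀ A ⧸ I ^ (n + 1)) :
    (Ideal.Quotient.mk (I ^ (n + 1)) a) • c = a • c := by
  ext z
  rw [Finsupp.smul_apply, Finsupp.smul_apply, smul_eq_mul, Algebra.smul_def,
    Ideal.Quotient.algebraMap_eq]

include hy in
theorem toLim_compat (g : decaying I Z A) (n : ℕ) :
    ψ n (levelMap I y (n + 1) (red I (n + 1) g)) = levelMap I y n (red I n g) := by
  rw [levelMap_red I y (n + 1) g _ (Finset.Subset.refl _),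
    levelMap_red I y n g _ (support_red_subset I n g), map_sum]
  refine Finset.sum_congr rfl fun z _ => ?_
  rw [map_smul, hy]

theorem levelMap_red_smul (a : A) (g : decaying I Z A) (n : ℕ) :
    levelMap I y n (red I n (a • g)) = a • levelMap I y n (red I n g) := by
  rw [map_smul, ← mk_smul_finsupp, map_smul, mk_smul']

/-- The map from decaying functions to the limit of the system. -/
noncomputable def toLim : decaying I Z A →ₗ[A] sysLim M ψ where
  toFun g := ⟨fun n => levelMap I y n (red I n g), fun n => toLim_compat I y hy g n⟩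
  map_add' g g' := by
    apply Subtype.ext
    funext n
    show levelMap I y n (red I n (g + g')) = levelMap I y n (red I n g) + levelMap I y n (red I n g')
    rw [map_add, map_add]
  map_smul' a g := by
    apply Subtype.ext
    funext n
    exact levelMap_red_smul I y a g n

theorem toLim_apply (g : decaying I Z A) (n : ℕ) :
    ((toLim I y hy g : sysLim M ψ) : ∀ k, M k) n = levelMap I y n (red I n g) := rfl

end Lim

section Main

variable {A : Type u} [CommRing A] [IsNoetherianRing A] (I : Ideal A) [IsAdicComplete I A]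
  {M : ℕ → Type v} [∀ n, AddCommGroup (M n)] [∀ n, Module A (M n)]
  [∀ n, Module (A ⧸ I ^ (n + 1)) (M n)] [∀ n, IsScalarTower A (A ⧸ I ^ (n + 1)) (M n)]
  [∀ n, Module.Flat (A ⧸ I ^ (n + 1)) (M n)]
  {ψ : ∀ n, M (n + 1) →ₗ[A] M n} {Z : Type w} (y : Z → ∀ n, M n)
  (hψ : ∀ n, Function.Surjective (ψ n))
  (hker : ∀ n, LinearMap.ker (ψ n) = (I ^ (n + 1) • ⊤ : Submodule A (M (n + 1))))
  (hy : ∀ z n, ψ n (y z (n + 1)) = y z n)
  (hspan0 : Submodule.span A (Set.range fun z => y z 0) = ⊤)
  (hli0 : ∀ (S : Finset Z) (a : Z → A), ∑ z ∈ S, a z • y z 0 = 0 → ∀ z ∈ S, a z ∈ I)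

include hψ hker hspan0 hli0 in
theorem toLim_injective : Function.Injective (toLim I y hy) := by
  have hfg : I.FG := IsNoetherian.noetherian I
  rw [injective_iff_map_eq_zero]
  intro g hg
  haveI : IsHausdorff I (decaying I Z A) := S17536
  apply IsHausdorff.haus' (I := I)
  intro n
  rw [SModEq.zero]
  have h1 : levelMap I y n (red I n g) = 0 := by
    rw [← toLim_apply I y hy, hg]; rfl
  have h2 : red I n g = 0 :=
    levelMap_injective I y hψ hker hy hspan0 hli0 n (by rw [h1, map_zero])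
  rw [red_eq_zero_iff I hfg] at h2
  exact pow_smul_top_anti (Nat.le_succ n) h2

include hψ hker hspan0 hli0 in
theorem toLim_surjective : Function.Surjective (toLim I y hy) := by
  have hfg : I.FG := IsNoetherian.noetherian I
  intro x
  have hg : ∀ n, ∃ g : decaying I Z A, levelMap I y n (red I n g) = (x : ∀ k, M k) n := by
    intro n
    obtain ⟨c, hc⟩ := levelMap_surjective I y hψ hker hy hspan0 n ((x : ∀ k, M k) n)
    obtain ⟨g, rfl⟩ := red_surjective I n c
    exact ⟨g, hc⟩
  choose g hg using hg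
  have hC : ∀ n, g (n + 1) - g n ∈ (I ^ (n + 1) • ⊤ : Submodule A (decaying I Z A)) := by
    intro n
    rw [← red_eq_zero_iff I hfg, map_sub, sub_eq_zero]
    apply levelMap_injective I y hψ hker hy hspan0 hli0 n
    rw [hg n, ← toLim_compat I y hy (g (n + 1)) n, hg (n + 1)]
    exact x.2 n
  have hC' : ∀ m d, g m - g (m + d) ∈ (I ^ m • ⊤ : Submodule A (decaying I Z A)) := by
    intro m d
    induction d with
    | zero => rw [add_zero, sub_self]; exact Submodule.zero_mem _
    | succ d ih =>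
      have h1 := hC (m + d)
      have h2 : (I ^ (m + d + 1) • ⊤ : Submodule A (decaying I Z A)) ≤ I ^ m • ⊤ :=
        pow_smul_top_anti (by omega)
      have : g m - g (m + (d + 1)) = (g m - g (m + d)) - (g (m + d + 1) - g (m + d)) := by
        rw [← add_assoc]; abel
      rw [this]
      exact Submodule.sub_mem _ ih (h2 h1)
  haveI : IsAdicComplete I (decaying I Z A) := S17546 I Z
  obtain ⟨L, hL⟩ := IsPrecomplete.prec' (I := I) g (by
    intro m n hmn
    obtain ⟨d, rfl⟩ := Nat.exists_eq_add_of_le hmn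
    rw [SModEq.sub_mem]
    exact hC' m d)
  refine ⟨L, ?_⟩
  apply Subtype.ext
  funext n
  rw [toLim_apply, ← hg n]
  congr 1
  rw [← sub_eq_zero, ← map_sub, red_eq_zero_iff I hfg]
  have h1 := hL (n + 1)
  rw [SModEq.sub_mem] at h1
  have h2 := hC n
  have : L - g n = -(g (n + 1) - L) + (g (n + 1) - g n) := by abel
  rw [this]
  exact Submodule.add_mem _ (Submodule.neg_mem _ h1) h2

include hψ hker hy hspan0 hli0 in
theorem sysLim_main :
    Nonempty (decaying I Z A ≃ₗ[A] sysLim M ψ) ∧
      ∀ n, Function.Surjective (sysProj M ψ n) ∧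
        LinearMap.ker (sysProj M ψ n) = (I ^ (n + 1) • ⊤ : Submodule A (sysLim M ψ)) := by
  have hfg : I.FG := IsNoetherian.noetherian I
  let e : decaying I Z A ≃ₗ[A] sysLim M ψ := LinearEquiv.ofBijective (toLim I y hy)
    ⟨toLim_injective I y hψ hker hy hspan0 hli0, toLim_surjective I y hψ hker hy hspan0 hli0⟩
  have he : ∀ g n, sysProj M ψ n (e g) = levelMap I y n (red I n g) := fun g n => rfl
  refine ⟨⟨e⟩, fun n => ⟨?_, ?_⟩⟩
  · intro v
    obtain ⟨c, hc⟩ := levelMap_surjective I y hψ hker hy hspan0 n v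
    obtain ⟨g, rfl⟩ := red_surjective I n c
    exact ⟨e g, by rw [he, hc]⟩
  · ext x
    obtain ⟨g, rfl⟩ := e.surjective x
    rw [LinearMap.mem_ker, he]
    constructor
    · intro h
      have h2 : red I n g = 0 :=
        levelMap_injective I y hψ hker hy hspan0 hli0 n (by rw [h, map_zero])
      rw [red_eq_zero_iff I hfg] at h2
      exact map_mem_smul_top e.toLinearMap (n + 1) h2
    · intro h
      have h2 := map_mem_smul_top e.symm.toLinearMap (n + 1) h
      rw [LinearEquiv.coe_coe, e.symm_apply_apply, ← red_eq_zero_iff I hfg] at h2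
      rw [h2, map_zero]

theorem sysLim_main_of_isMaximal {A : Type u} [CommRing A] [IsNoetherianRing A] (I : Ideal A)
    [I.IsMaximal] [IsAdicComplete I A]
    (M : ℕ → Type u) [∀ n, AddCommGroup (M n)] [∀ n, Module A (M n)]
    [∀ n, Module (A ⧸ I ^ (n + 1)) (M n)] [∀ n, IsScalarTower A (A ⧸ I ^ (n + 1)) (M n)]
    [∀ n, Module.Flat (A ⧸ I ^ (n + 1)) (M n)]
    (ψ : ∀ n, M (n + 1) →ₗ[A] M n) (hψ : ∀ n, Function.Surjective (ψ n))
    (hker : ∀ n, LinearMap.ker (ψ n) = (I ^ (n + 1) • ⊤ : Submodule A (M (n + 1)))) :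
    IsAdicFree I (sysLim M ψ) ∧
      ∀ n, Function.Surjective (sysProj M ψ n) ∧
        LinearMap.ker (sysProj M ψ n) = (I ^ (n + 1) • ⊤ : Submodule A (sysLim M ψ)) := by
  classical
  haveI hmax : (I ^ (0 + 1)).IsMaximal := by rw [zero_add, pow_one]; infer_instance
  letI : Field (A ⧸ I ^ (0 + 1)) := Ideal.Quotient.field _
  let b := Module.Basis.ofVectorSpace (A ⧸ I ^ (0 + 1)) (M 0)
  let y : Module.Basis.ofVectorSpaceIndex (A ⧸ I ^ (0 + 1)) (M 0) → ∀ n, M n :=
    fun z => liftSeq hψ (b z)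
  have hy : ∀ z n, ψ n (y z (n + 1)) = y z n := fun z n => liftSeq_compat hψ (b z) n
  have hy0 : (fun z => y z 0) = b := rfl
  have hspan0 : Submodule.span A (Set.range fun z => y z 0) = ⊤ := by
    rw [hy0]
    have h1 := b.span_eq
    have h2 := Submodule.restrictScalars_span A (A ⧸ I ^ (0 + 1)) Ideal.Quotient.mk_surjective
      (Set.range b)
    rw [← h2, h1]
    rfl
  have hli0 : ∀ (S : Finset _) (a : _ → A), ∑ z ∈ S, a z • y z 0 = 0 → ∀ z ∈ S, a z ∈ I := by
    intro S a hsum
    have hV : ∑ z ∈ S, (Ideal.Quotient.mk (I ^ (0 + 1)) (a z)) • b z = 0 := by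
      rw [← hsum]
      refine Finset.sum_congr rfl fun z _ => ?_
      rw [mk_smul' I 0]
      rfl
    have hli := linearIndependent_iff'.1 b.linearIndependent S
      (fun z => Ideal.Quotient.mk (I ^ (0 + 1)) (a z)) hV
    intro z hz
    have := hli z hz
    rw [Ideal.Quotient.eq_zero_iff_mem, zero_add, pow_one] at this
    exact this
  obtain ⟨⟨e⟩, h2⟩ := sysLim_main I y hψ hker hy hspan0 hli0
  exact ⟨⟨_, ⟨e.symm.trans (decayingCongr I _ (AdicCompletion.ofLinearEquiv I A))⟩⟩, h2⟩

end Main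

end Groth.Agent.Lib.Helper1.Dec
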