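import Groth.Agent.Lib.Helper1.Dec4

universe u v w w'

namespace Groth.Agent.Lib.Helper1.Dec

open W4c5adicflatcompl Groth.Agent.LD.Dec TensorProduct

section Decomp

variable {A : Type u} [CommRing A] {I : Ideal A} {Z : Type v}

/-- Every decaying function `Z → Â` is a finite combination of the `single z 1` modulo `I ^ n`. -/
theorem mem_span_single_sup [DecidableEq Z] (hI : I.FG) (n : ℕ)
    (g : decaying I Z (AdicCompletion I A)) :
    g ∈ Submodule.span A (Set.range fun z => single I z (1 : AdicCompletion I A)) ⊔
      (I ^ n • ⊤ : Submodule A (decaying I Z (AdicCompletion I A))) := by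
  haveI : IsHausdorff I (AdicCompletion I A) := inferInstance
  have h1 : ∀ (z : Z) (a : AdicCompletion I A), single I z a ∈
      Submodule.span A (Set.range fun z => single I z (1 : AdicCompletion I A)) ⊔
        (I ^ n • ⊤ : Submodule A (decaying I Z (AdicCompletion I A))) := by
    intro z a
    obtain ⟨a', ha'⟩ := exists_sub_of_mem hI A a n
    have h2 : single I z a = a' • single I z (1 : AdicCompletion I A) +
        singleL I (AdicCompletion I A) z (a - AdicCompletion.of I A a') := by
      rw [← singleL_apply, ← singleL_apply, ← map_smul, ← map_add, ← of_eq_smul_one,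
        add_sub_cancel]
    rw [h2]
    exact Submodule.add_mem_sup (Submodule.smul_mem _ _ (Submodule.subset_span ⟨z, rfl⟩))
      (map_mem_smul_top (singleL I (AdicCompletion I A) z) n ha')
  set S := decFin (g : Z → AdicCompletion I A) g.2 n with hSdef
  set r : decaying I Z (AdicCompletion I A) :=
    g - ∑ z ∈ S, single I z ((g : Z → AdicCompletion I A) z) with hr
  have hr1 : r ∈ (I ^ n • ⊤ : Submodule A (decaying I Z (AdicCompletion I A))) := by
    apply mem_pow_smul_top_decaying hI
    intro z
    have hval : (r : Z → AdicCompletion I A) z = (g : Z → AdicCompletion I A) z -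
        ∑ z' ∈ S, (Pi.single z' ((g : Z → AdicCompletion I A) z') : Z → AdicCompletion I A) z := by
      rw [hr]
      simp
    rw [hval]
    by_cases hz : z ∈ S
    · rw [Finset.sum_eq_single z]
      · rw [Pi.single_eq_same, sub_self]
        exact Submodule.zero_mem _
      · intro z' _ hne
        rw [Pi.single_eq_of_ne hne.symm]
      · intro hcon
        exact absurd hz hcon
    · rw [Finset.sum_eq_zero, sub_zero]
      · rw [hSdef, mem_decFin, not_not] at hz
        exact hz
      · intro z' hz'
        have : z ≠ z' := fun h => hz (h ▸ hz')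
        rw [Pi.single_eq_of_ne this]
  have hg : g = ∑ z ∈ S, single I z ((g : Z → AdicCompletion I A) z) + r := by
    rw [hr, add_sub_cancel]
  rw [hg]
  exact Submodule.add_mem _ (Submodule.sum_mem _ fun z _ => h1 z _)
    (Submodule.mem_sup_right hr1)

end Decomp

section Discrete

/-- A module killed by a power of `I` is `I`-adically complete. -/
theorem isAdicComplete_of_pow_smul_top_eq_bot {A : Type u} [CommRing A] (I : Ideal A)
    (N : Type v) [AddCommGroup N] [Module A N] (k : ℕ)
    (hk : (I ^ k • ⊤ : Submodule A N) = ⊥) : IsAdicComplete I N := by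
  have hH : IsHausdorff I N := by
    refine ⟨fun x hx => ?_⟩
    have := hx k
    rw [SModEq.zero, hk, Submodule.mem_bot] at this
    exact this
  refine { toIsHausdorff := hH, prec' := ?_ }
  intro f hf
  refine ⟨f k, fun n => ?_⟩
  rcases le_total n k with h | h
  · exact hf h
  · have := hf h
    rw [SModEq.sub_mem, hk, Submodule.mem_bot, sub_eq_zero] at this
    rw [this]

end Discrete

section Indep

variable {A : Type u} [CommRing A] [IsNoetherianRing A] (I : Ideal A)
  (M : Type w) [AddCommGroup M] [Module A M] [IsAdicComplete I M] {Z : Type v} (f : Z → M)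

theorem coeff_mem_of_lift_eq_zero (k : ℕ)
    (hli : ∀ (S : Finset Z) (a : Z → A), ∑ z ∈ S, a z • f z ∈ (I ^ k • ⊤ : Submodule A M) →
      ∀ z ∈ S, a z ∈ I ^ k)
    (x : decaying I Z (AdicCompletion I A)) (hx : lift I f x = 0) (z : Z) :
    (x : Z → AdicCompletion I A) z ∈ (I ^ k • ⊤ : Submodule A (AdicCompletion I A)) := by
  classical
  have hfg : I.FG := IsNoetherian.noetherian I
  choose a ha using fun z : Z => exists_sub_of_mem hfg A ((x : Z → AdicCompletion I A) z) k
  have hspec := lift_spec I f x k (decFin (x : Z → AdicCompletion I A) x.2 k) (fun z hz => by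
    rw [mem_decFin, not_not] at hz
    exact hz)
  rw [hx, zero_sub] at hspec
  have hdiff : ∀ z, star I M ((x : Z → AdicCompletion I A) z) (f z) - a z • f z ∈
      (I ^ k • ⊤ : Submodule A M) := by
    intro z
    rw [← star_of I M (a z) (f z), ← LinearMap.sub_apply, ← map_sub]
    exact star_mem I M (ha z) (f z)
  have hsum : ∑ z ∈ decFin (x : Z → AdicCompletion I A) x.2 k, a z • f z ∈
      (I ^ k • ⊤ : Submodule A M) := by
    have : ∑ z ∈ decFin (x : Z → AdicCompletion I A) x.2 k, a z • f z =
        -(-∑ z ∈ decFin (x : Z → AdicCompletion I A) x.2 k,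
          star I M ((x : Z → AdicCompletion I A) z) (f z)) -
        ∑ z ∈ decFin (x : Z → AdicCompletion I A) x.2 k,
          (star I M ((x : Z → AdicCompletion I A) z) (f z) - a z • f z) := by
      rw [Finset.sum_sub_distrib]
      abel
    rw [this]
    exact Submodule.sub_mem _ (Submodule.neg_mem _ hspec)
      (Submodule.sum_mem _ fun z _ => hdiff z)
  have hli' := hli _ a hsum
  by_cases hz : z ∈ decFin (x : Z → AdicCompletion I A) x.2 k
  · have haz : a z ∈ I ^ k := hli' z hz
    have : (x : Z → AdicCompletion I A) z =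
        ((x : Z → AdicCompletion I A) z - AdicCompletion.of I A (a z)) +
          a z • (1 : AdicCompletion I A) := by
      rw [← of_eq_smul_one, sub_add_cancel]
    rw [this]
    exact Submodule.add_mem _ (ha z) (Submodule.smul_mem_smul haz Submodule.mem_top)
  · rw [mem_decFin, not_not] at hz
    exact hz

/-- If `f : Z → M` is a "basis modulo every power of `I`" of an `I`-adically complete module, then
the induced map from decaying functions is bijective. -/
theorem bijective_lift_of_indep
    (hli : ∀ (k : ℕ) (S : Finset Z) (a : Z → A),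
      ∑ z ∈ S, a z • f z ∈ (I ^ k • ⊤ : Submodule A M) → ∀ z ∈ S, a z ∈ I ^ k)
    (hspan : Submodule.span A (Set.range f) ⊔ I • ⊤ = ⊤) :
    Function.Bijective (lift I f) := by
  classical
  have hfg : I.FG := IsNoetherian.noetherian I
  haveI hDc : IsAdicComplete I (decaying I Z (AdicCompletion I A)) := S17547 I Z A
  constructor
  · rw [injective_iff_map_eq_zero]
    intro x hx
    apply Subtype.ext
    funext z
    haveI : IsHausdorff I (AdicCompletion I A) := inferInstance
    apply IsHausdorff.haus' (I := I)
    intro k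
    rw [SModEq.zero]
    exact coeff_mem_of_lift_eq_zero I M f k (hli k) x hx z
  · apply surjective_of_mkQ_comp_surjective (I := I)
    intro y
    obtain ⟨y, rfl⟩ := Submodule.mkQ_surjective _ y
    have hy : y ∈ Submodule.span A (Set.range f) ⊔ I • ⊤ := by rw [hspan]; trivial
    obtain ⟨s, hs, t, ht, rfl⟩ := Submodule.mem_sup.1 hy
    have hrange : Submodule.span A (Set.range f) ≤ LinearMap.range (lift I f) := by
      rw [Submodule.span_le]
      rintro _ ⟨z, rfl⟩
      exact ⟨single I z 1, lift_single_one I f z⟩
    obtain ⟨x, rfl⟩ := hrange hs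
    refine ⟨x, ?_⟩
    rw [LinearMap.comp_apply, map_add, Submodule.mkQ_apply _ t,
      (Submodule.Quotient.mk_eq_zero _).2 ht, add_zero]

end Indep

section BaseChange

variable {A B : Type u} [CommRing A] [CommRing B] [Algebra A B] [IsNoetherianRing A]
  [IsNoetherianRing B] (I : Ideal A) (J : Ideal B)

theorem isAdicFree_baseChange (hIJ : I.map (algebraMap A B) ≤ J) (P : Type u) [AddCommGroup P]
    [Module A P] (hP : IsAdicFree I P) : IsAdicFree J (AdicCompletion J (B ⊗[A] P)) := by
  classical
  obtain ⟨Z, ⟨e⟩⟩ := hP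
  have hJfg : J.FG := IsNoetherian.noetherian J
  have hIfg : I.FG := IsNoetherian.noetherian I
  haveI : IsAdicComplete J (AdicCompletion J (B ⊗[A] P)) := AdicCompletion.isAdicComplete hJfg
  let p : Z → P := fun z => e.symm (single I z 1)
  let f : Z → AdicCompletion J (B ⊗[A] P) := fun z => AdicCompletion.of J _ ((1 : B) ⊗ₜ[A] p z)
  have hIJk : ∀ (k : ℕ) (a : A), a ∈ I ^ k → algebraMap A B a ∈ J ^ k := by
    intro k a ha
    have h1 : I.map (algebraMap A B) ^ k ≤ J ^ k := Ideal.pow_right_mono hIJ k
    apply h1
    rw [← Ideal.map_pow]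
    exact Ideal.mem_map_of_mem _ ha
  -- spanning in P
  have hspanP : ∀ x : P, x ∈ Submodule.span A (Set.range p) ⊔ (I • ⊤ : Submodule A P) := by
    intro x
    have h1 := mem_span_single_sup hIfg 1 (e x)
    obtain ⟨s, hs, t, ht, hst⟩ := Submodule.mem_sup.1 h1
    have hx : x = e.symm s + e.symm t := by rw [← map_add, hst, e.symm_apply_apply]
    rw [hx]
    refine Submodule.add_mem_sup ?_ ?_
    · have := Submodule.apply_mem_span_image_of_mem_span e.symm.toLinearMap hs
      rw [← Set.range_comp] at this
      exact this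
    · have := map_mem_smul_top e.symm.toLinearMap 1 ht
      rwa [pow_one] at this
  -- spanning in B ⊗ P
  have hspanT : ∀ t : B ⊗[A] P, t ∈ Submodule.span B (Set.range fun z => (1 : B) ⊗ₜ[A] p z) ⊔
      (J • ⊤ : Submodule B (B ⊗[A] P)) := by
    intro t
    induction t using TensorProduct.induction_on with
    | zero => exact Submodule.zero_mem _
    | add x y hx hy => exact Submodule.add_mem _ hx hy
    | tmul b x =>
      obtain ⟨s, hs, u, hu, rfl⟩ := Submodule.mem_sup.1 (hspanP x)
      rw [TensorProduct.tmul_add]
      refine Submodule.add_mem _ (Submodule.mem_sup_left ?_) (Submodule.mem_sup_right ?_)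
      · induction hs using Submodule.span_induction with
        | mem x hx =>
          obtain ⟨z, rfl⟩ := hx
          have : b ⊗ₜ[A] p z = b • ((1 : B) ⊗ₜ[A] p z) := by
            rw [TensorProduct.smul_tmul', smul_eq_mul, mul_one]
          rw [this]
          exact Submodule.smul_mem _ _ (Submodule.subset_span ⟨z, rfl⟩)
        | zero => rw [TensorProduct.tmul_zero]; exact Submodule.zero_mem _
        | add x y _ _ hx hy => rw [TensorProduct.tmul_add]; exact Submodule.add_mem _ hx hy
        | smul a x _ hx =>
          rw [TensorProduct.tmul_smul, ← algebraMap_smul B a (b ⊗ₜ[A] x)]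
          exact Submodule.smul_mem _ _ hx
      · refine Submodule.smul_induction_on hu ?_ ?_
        · intro i hi x' _
          rw [TensorProduct.tmul_smul, ← algebraMap_smul B i (b ⊗ₜ[A] x')]
          refine Submodule.smul_mem_smul ?_ Submodule.mem_top
          have := hIJk 1 i (by rwa [pow_one])
          rwa [pow_one] at this
        · intro x y hx hy
          rw [TensorProduct.tmul_add]
          exact Submodule.add_mem _ hx hy
  have hspan : Submodule.span B (Set.range f) ⊔ (J • ⊤ : Submodule B (AdicCompletion J (B ⊗[A] P)))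
      = ⊤ := by
    rw [eq_top_iff]
    intro q _
    obtain ⟨t, ht⟩ := exists_sub_of_mem hJfg (B ⊗[A] P) q 1
    rw [pow_one] at ht
    have hq : q = AdicCompletion.of J (B ⊗[A] P) t + (q - AdicCompletion.of J (B ⊗[A] P) t) := by
      abel
    rw [hq]
    refine Submodule.add_mem _ ?_ (Submodule.mem_sup_right ht)
    obtain ⟨s, hs, u, hu, rfl⟩ := Submodule.mem_sup.1 (hspanT t)
    rw [map_add]
    refine Submodule.add_mem_sup ?_ ?_
    · have := Submodule.apply_mem_span_image_of_mem_span (AdicCompletion.of J (B ⊗[A] P)) hs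
      rw [← Set.range_comp] at this
      exact this
    · have := map_mem_smul_top (AdicCompletion.of J (B ⊗[A] P)) 1 (by rwa [pow_one])
      rwa [pow_one] at this
  have hli : ∀ (k : ℕ) (S : Finset Z) (a : Z → B),
      ∑ z ∈ S, a z • f z ∈ (J ^ k • ⊤ : Submodule B (AdicCompletion J (B ⊗[A] P))) →
        ∀ z ∈ S, a z ∈ J ^ k := by
    intro k S a hsum z₀ hz₀
    -- the element of `B ⊗ P`
    set t : B ⊗[A] P := ∑ z ∈ S, a z • ((1 : B) ⊗ₜ[A] p z) with ht
    have h1 : ∑ z ∈ S, a z • f z = AdicCompletion.of J (B ⊗[A] P) t := by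
      rw [ht, map_sum]
      refine Finset.sum_congr rfl fun z _ => ?_
      rw [map_smul]
    rw [h1, AdicCompletion.pow_smul_top_eq_ker_eval hJfg, LinearMap.mem_ker,
      AdicCompletion.eval_of, Submodule.mkQ_apply, Submodule.Quotient.mk_eq_zero] at hsum
    -- the functional
    have hkill : (I ^ k • ⊤ : Submodule A (B ⧸ J ^ k)) = ⊥ := by
      rw [eq_bot_iff, Submodule.smul_le]
      intro i hi x _
      rw [Submodule.mem_bot, ← algebraMap_smul B i x]
      obtain ⟨x, rfl⟩ := Ideal.Quotient.mk_surjective x
      rw [Algebra.smul_def, Ideal.Quotient.algebraMap_eq, ← map_mul,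
        Ideal.Quotient.eq_zero_iff_mem]
      exact Ideal.mul_mem_right _ _ (hIJk k i hi)
    haveI : IsAdicComplete I (B ⧸ J ^ k) := isAdicComplete_of_pow_smul_top_eq_bot I _ k hkill
    let g₀ : Z → B ⧸ J ^ k := fun z => if z = z₀ then 1 else 0
    let ι : P →ₗ[A] B ⧸ J ^ k := (lift I g₀) ∘ₗ e.toLinearMap
    have hι : ∀ z, ι (p z) = g₀ z := by
      intro z
      show lift I g₀ (e (e.symm (single I z 1))) = g₀ z
      rw [e.apply_symm_apply, lift_single_one]
    let θ : B ⊗[A] P →ₗ[B] B ⧸ J ^ k := LinearMap.liftBaseChange B ι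
    have hθt : θ t = Ideal.Quotient.mk (J ^ k) (a z₀) := by
      rw [ht, map_sum, Finset.sum_eq_single z₀]
      · rw [map_smul, LinearMap.liftBaseChange_tmul, one_smul, hι]
        simp only [g₀, if_true]
        rw [Algebra.smul_def, mul_one, Ideal.Quotient.algebraMap_eq]
      · intro z _ hne
        rw [map_smul, LinearMap.liftBaseChange_tmul, one_smul, hι]
        simp only [g₀, if_neg hne, smul_zero]
      · intro h
        exact absurd hz₀ h
    have hθ0 : θ t = 0 := by
      have h2 := map_mem_smul_top θ k hsum
      have hkillB : (J ^ k • ⊤ : Submodule B (B ⧸ J ^ k)) = ⊥ := by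
        rw [eq_bot_iff, Submodule.smul_le]
        intro b hb x _
        obtain ⟨x, rfl⟩ := Ideal.Quotient.mk_surjective x
        rw [Submodule.mem_bot, Algebra.smul_def, Ideal.Quotient.algebraMap_eq, ← map_mul,
          Ideal.Quotient.eq_zero_iff_mem]
        exact Ideal.mul_mem_right _ _ hb
      rw [hkillB, Submodule.mem_bot] at h2
      exact h2
    rw [hθt, Ideal.Quotient.eq_zero_iff_mem] at hθ0
    exact hθ0
  exact ⟨Z, ⟨(LinearEquiv.ofBijective (lift J f)
    (bijective_lift_of_indep J _ f hli hspan)).symm⟩⟩

end BaseChange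

end Groth.Agent.Lib.Helper1.Dec
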