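import Groth.Agent.Lib.Helper1.Dec5

universe u v w w'

namespace Groth.Agent.Lib.Helper1.Dec

open W4c5adicflatcompl Groth.Agent.LD.Dec TensorProduct

section KerEval

variable {A : Type u} [CommRing A] (I : Ideal A) (M : Type w) [AddCommGroup M] [Module A M]

/-- If the completion is precomplete then the kernel of the `n`-th evaluation is `I ^ n M̂`
(no finite generation hypothesis on `I`). -/
theorem ker_eval_le_pow_smul_top [IsPrecomplete I (AdicCompletion I M)] (n : ℕ) :
    LinearMap.ker (AdicCompletion.eval I M n) ≤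
      (I ^ n • ⊤ : Submodule A (AdicCompletion I M)) := by
  intro y hy
  obtain ⟨a, rfl⟩ := AdicCompletion.mk_surjective I M y
  rw [LinearMap.mem_ker, AdicCompletion.eval_apply] at hy
  have han0 : a n ∈ (I ^ n • ⊤ : Submodule A M) := by
    have : Submodule.mkQ (I ^ n • ⊤ : Submodule A M) (a n) = 0 := hy
    rwa [Submodule.mkQ_apply, Submodule.Quotient.mk_eq_zero] at this
  have han : ∀ k, n ≤ k → a k ∈ (I ^ n • ⊤ : Submodule A M) := by
    intro k hk
    have h1 := a.2 hk
    rw [SModEq.sub_mem] at h1
    have : a k = a n - (a n - a k) := by abel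
    rw [this]
    exact Submodule.sub_mem _ han0 h1
  let s : ℕ → AdicCompletion I M := fun k =>
    AdicCompletion.of I M (a (n + k)) - AdicCompletion.of I M (a n)
  have hs : ∀ {k l : ℕ}, k ≤ l → s k ≡ s l [SMOD (I ^ k • ⊤ : Submodule A (AdicCompletion I M))] := by
    intro k l hkl
    rw [SModEq.sub_mem]
    have h1 := a.2 (show n + k ≤ n + l by omega)
    rw [SModEq.sub_mem] at h1
    have h2 : s k - s l = AdicCompletion.of I M (a (n + k) - a (n + l)) := by
      simp only [s]
      rw [map_sub]
      abel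
    rw [h2]
    exact map_mem_smul_top (AdicCompletion.of I M) k (pow_smul_top_anti (by omega) h1)
  obtain ⟨L, hL⟩ := IsPrecomplete.prec' (I := I) s hs
  have hval : ∀ k, L.val k = Submodule.mkQ (I ^ k • ⊤ : Submodule A M) (a (n + k)) -
      Submodule.mkQ (I ^ k • ⊤ : Submodule A M) (a n) := by
    intro k
    have h1 := hL k
    rw [SModEq.sub_mem] at h1
    have h2 := AdicCompletion.pow_smul_top_le_ker_eval (I := I) (M := M) k h1
    rw [LinearMap.mem_ker, map_sub, sub_eq_zero, AdicCompletion.eval_apply,
      AdicCompletion.eval_apply] at h2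
    rw [← h2]
    rfl
  have hy2 : AdicCompletion.mk I M a = AdicCompletion.of I M (a n) + L := by
    apply AdicCompletion.ext
    intro k
    rw [AdicCompletion.val_add_apply, hval k]
    have h3 : (AdicCompletion.of I M (a n)).val k =
        Submodule.mkQ (I ^ k • ⊤ : Submodule A M) (a n) := rfl
    rw [h3, add_sub_cancel]
    have h1 := a.2 (show k ≤ n + k by omega)
    exact h1
  rw [hy2]
  refine Submodule.add_mem _ (map_mem_smul_top (AdicCompletion.of I M) n han0) ?_
  have h1 := hL n
  rw [SModEq.sub_mem] at h1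
  have h2 : s n ∈ (I ^ n • ⊤ : Submodule A (AdicCompletion I M)) := by
    simp only [s]
    exact Submodule.sub_mem _ (map_mem_smul_top (AdicCompletion.of I M) n (han _ (by omega)))
      (map_mem_smul_top (AdicCompletion.of I M) n han0)
  have : L = s n - (s n - L) := by abel
  rw [this]
  exact Submodule.sub_mem _ h2 h1

theorem pow_smul_top_eq_ker_eval' [IsPrecomplete I (AdicCompletion I M)] (n : ℕ) :
    (I ^ n • ⊤ : Submodule A (AdicCompletion I M)) = LinearMap.ker (AdicCompletion.eval I M n) :=
  le_antisymm (AdicCompletion.pow_smul_top_le_ker_eval (I := I) (M := M) n)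
    (ker_eval_le_pow_smul_top I M n)

end KerEval

section Compl

variable {A : Type u} [CommRing A] (I : Ideal A) (Z : Type v) (M : Type w) [AddCommGroup M]
  [Module A M]

variable {Z M} in
/-- A finitely supported function with values in `I ^ n M` lies in `I ^ n (Z →₀ M)`. -/
theorem finsupp_mem_pow_smul_top (n : ℕ) (φ : Z →₀ M)
    (h : ∀ z, φ z ∈ (I ^ n • ⊤ : Submodule A M)) : φ ∈ (I ^ n • ⊤ : Submodule A (Z →₀ M)) := by
  classical
  rw [← Finsupp.sum_single φ]
  refine Submodule.sum_mem _ fun z _ => ?_
  exact map_mem_smul_top (Finsupp.lsingle z : M →ₗ[A] Z →₀ M) n (h z)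

/-- The comparison map from the completion of `Z →₀ M` to functions `Z → M̂`. -/
noncomputable def Psi : AdicCompletion I (Z →₀ M) →ₗ[A] (Z → AdicCompletion I M) :=
  LinearMap.pi fun z : Z =>
    (AdicCompletion.map I (Finsupp.lapply (M := M) (R := A) z)).restrictScalars A

theorem Psi_mk_val (a : AdicCompletion.AdicCauchySequence I (Z →₀ M)) (z : Z) (n : ℕ) :
    (Psi I Z M (AdicCompletion.mk I _ a) z).val n =
      Submodule.mkQ (I ^ n • ⊤ : Submodule A M) (a n z) := rfl

theorem Psi_injective : Function.Injective (Psi I Z M) := by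
  rw [injective_iff_map_eq_zero]
  intro x hx
  obtain ⟨a, rfl⟩ := AdicCompletion.mk_surjective I _ x
  apply AdicCompletion.ext
  intro n
  show Submodule.mkQ (I ^ n • ⊤ : Submodule A (Z →₀ M)) (a n) = 0
  rw [Submodule.mkQ_apply, Submodule.Quotient.mk_eq_zero]
  apply finsupp_mem_pow_smul_top
  intro z
  have h1 : (Psi I Z M (AdicCompletion.mk I _ a) z).val n = 0 := by rw [hx]; rfl
  rw [Psi_mk_val, Submodule.mkQ_apply, Submodule.Quotient.mk_eq_zero] at h1
  exact h1

theorem Psi_mem [IsPrecomplete I (AdicCompletion I M)] (x : AdicCompletion I (Z →₀ M)) :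
    Psi I Z M x ∈ decaying I Z (AdicCompletion I M) := by
  obtain ⟨a, rfl⟩ := AdicCompletion.mk_surjective I _ x
  intro n
  refine (a n).support.finite_toSet.subset ?_
  intro z hz
  by_contra hzs
  apply hz
  rw [pow_smul_top_eq_ker_eval' I M n, LinearMap.mem_ker, AdicCompletion.eval_apply, Psi_mk_val]
  have : a n z = 0 := by
    by_contra hne
    exact hzs (Finsupp.mem_support_iff.mpr hne)
  rw [this, map_zero]

theorem Psi_exists (h : Z → AdicCompletion I M) (hh : h ∈ decaying I Z (AdicCompletion I M)) :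
    ∃ x, Psi I Z M x = h := by
  classical
  have hch : ∀ (z : Z) (n : ℕ), ∃ r : M,
      Submodule.Quotient.mk (p := (I ^ n • ⊤ : Submodule A M)) r = (h z).val n ∧
        ((h z).val n = 0 → r = 0) := by
    intro z n
    by_cases h0 : (h z).val n = 0
    · exact ⟨0, by rw [h0]; rfl, fun _ => rfl⟩
    · obtain ⟨r, hr⟩ := Submodule.Quotient.mk_surjective _ ((h z).val n)
      exact ⟨r, hr, fun hc => absurd hc h0⟩
  choose r hr1 hr2 using hch
  have hfin : ∀ n, (Function.support fun z => r z n).Finite := by
    intro n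
    refine (hh n).subset ?_
    intro z hz hmem
    apply hz
    apply hr2
    have := AdicCompletion.pow_smul_top_le_ker_eval (I := I) (M := M) n hmem
    rwa [LinearMap.mem_ker, AdicCompletion.eval_apply] at this
  let φ : ℕ → (Z →₀ M) := fun n => Finsupp.ofSupportFinite (fun z => r z n) (hfin n)
  have hφ : ∀ n z, φ n z = r z n := fun n z => rfl
  have hC : AdicCompletion.IsAdicCauchy I (Z →₀ M) φ := by
    intro m n hmn
    rw [SModEq.sub_mem]
    apply finsupp_mem_pow_smul_top
    intro z
    rw [Finsupp.sub_apply, hφ, hφ, ← Submodule.Quotient.eq, hr1]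
    have h1 := (h z).2 hmn
    rw [← hr1 z n] at h1
    exact h1.symm
  refine ⟨AdicCompletion.mk I _ ⟨φ, hC⟩, ?_⟩
  funext z
  apply AdicCompletion.ext
  intro n
  rw [Psi_mk_val]
  exact hr1 z n

theorem range_Psi [IsPrecomplete I (AdicCompletion I M)] :
    LinearMap.range (Psi I Z M) = decaying I Z (AdicCompletion I M) := by
  apply le_antisymm
  · rintro _ ⟨x, rfl⟩
    exact Psi_mem I Z M x
  · intro h hh
    exact Psi_exists I Z M h hh

end Compl

end Groth.Agent.Lib.Helper1.Dec
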