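import Mathlib
import Groth.Agent.Lib.Helper5.UO.UO1

set_option autoImplicit false
set_option linter.style.haveILetI false

universe u

namespace Groth.Agent.H1.UOComp

open AlgebraicGeometry CategoryTheory CategoryTheory.Limits TopologicalSpace Topology

/-- the range of the reduced induced closed subscheme structure on the closure of a point. -/
theorem range_subschemeι_closure {Y : Scheme.{u}} (y : Y) :
    Set.range (Scheme.IdealSheafData.vanishingIdeal
      (⟨closure {y}, isClosed_closure⟩ : Closeds Y)).subschemeι.base = closure ({y} : Set Y) :=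
  (Scheme.IdealSheafData.range_subschemeι _).trans
    (Scheme.IdealSheafData.coe_support_vanishingIdeal _)

/-- the reduced induced closed subscheme structure on the closure of a point is irreducible. -/
theorem irreducibleSpace_subscheme_closure {Y : Scheme.{u}} (y : Y) :
    IrreducibleSpace ↥((Scheme.IdealSheafData.vanishingIdeal
      (⟨closure {y}, isClosed_closure⟩ : Closeds Y)).subscheme) := by
  have hr := range_subschemeι_closure y
  have hemb : IsEmbedding (Scheme.IdealSheafData.vanishingIdeal
      (⟨closure {y}, isClosed_closure⟩ : Closeds Y)).subschemeι.base :=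
    Scheme.Hom.isEmbedding _
  have hirr : IsIrreducible (Set.range (Scheme.IdealSheafData.vanishingIdeal
      (⟨closure {y}, isClosed_closure⟩ : Closeds Y)).subschemeι.base) := by
    rw [hr]; exact isIrreducible_singleton.closure
  haveI := Subtype.irreducibleSpace hirr
  exact (hemb.toHomeomorph.irreducibleSpace_iff).mpr inferInstance

/-- a morphism locally of finite presentation is generalizing (hence open) as soon as over the
closure of every point of the base, every irreducible component of the source dominates. -/
theorem generalizingMap_of_components_dominate {P T : Scheme.{u}} (q : P ⟶ T)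
    (h : ∀ t : T, ∀ Z ∈ irreducibleComponents (↥(pullback q (Scheme.IdealSheafData.vanishingIdeal
        (⟨closure {t}, isClosed_closure⟩ : Closeds T)).subschemeι) : Type u),
      Dense ((pullback.snd q (Scheme.IdealSheafData.vanishingIdeal
        (⟨closure {t}, isClosed_closure⟩ : Closeds T)).subschemeι).base '' Z)) :
    GeneralizingMap q.base := by
  intro x y' hy'
  set I := Scheme.IdealSheafData.vanishingIdeal (⟨closure {y'}, isClosed_closure⟩ : Closeds T)
    with hI
  have hr : Set.range I.subschemeι.base = closure ({y'} : Set T) := range_subschemeι_closure y'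
  have hemb : IsEmbedding I.subschemeι.base := Scheme.Hom.isEmbedding _
  have hxr : q.base x ∈ Set.range I.subschemeι.base := by
    rw [hr]; exact specializes_iff_mem_closure.mp hy'
  obtain ⟨y₁, hy₁⟩ := hxr
  obtain ⟨p, hp1, hp2⟩ := Scheme.Pullback.exists_preimage_pullback (f := q) (g := I.subschemeι)
    x y₁ hy₁.symm
  have hZ := irreducibleComponent_mem_irreducibleComponents p
  obtain ⟨ζ, hζ⟩ := QuasiSober.sober hZ.1 (isClosed_of_mem_irreducibleComponents _ hZ)
  have hζd : closure ({ζ} : Set ↥(pullback q I.subschemeι)) = irreducibleComponent p := hζ.def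
  have hζp : ζ ⤳ p := by
    rw [specializes_iff_mem_closure, hζd]; exact mem_irreducibleComponent
  have hd := h y' _ hZ
  have hsub : (pullback.snd q I.subschemeι).base '' irreducibleComponent p ⊆
      closure {(pullback.snd q I.subschemeι).base ζ} := by
    rw [← hζd]
    refine (image_closure_subset_closure_image
      (pullback.snd q I.subschemeι).continuous).trans ?_
    rw [Set.image_singleton]
  have hgen : closure ({(pullback.snd q I.subschemeι).base ζ} : Set ↥I.subscheme) = Set.univ := by
    apply Set.eq_univ_of_univ_subset
    rw [← hd.closure_eq]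
    exact closure_minimal hsub isClosed_closure
  have hy'r : y' ∈ Set.range I.subschemeι.base := by
    rw [hr]; exact subset_closure (Set.mem_singleton y')
  obtain ⟨y₀, hy₀⟩ := hy'r
  have hgen₀ : closure ({y₀} : Set ↥I.subscheme) = Set.univ := by
    rw [hemb.isInducing.closure_eq_preimage_closure_image, Set.image_singleton, hy₀, ← hr,
      Set.preimage_range]
  have heq : (pullback.snd q I.subschemeι).base ζ = y₀ :=
    IsGenericPoint.eq (isGenericPoint_def.mpr hgen) (isGenericPoint_def.mpr hgen₀)
  refine ⟨(pullback.fst q I.subschemeι).base ζ, ?_, ?_⟩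
  · rw [← hp1]
    exact hζp.map (pullback.fst q I.subschemeι).continuous
  · rw [← Scheme.Hom.comp_apply, pullback.condition, Scheme.Hom.comp_apply, heq, hy₀]

theorem s2558 {X Y : Scheme.{u}} (f : X ⟶ Y) [LocallyOfFinitePresentation f]
    (h : ∀ (Y' : Scheme.{u}) (g : Y' ⟶ Y) [IrreducibleSpace Y'] [LocallyOfFiniteType g]
      [QuasiCompact g],
      ∀ Z ∈ irreducibleComponents (↥(pullback f g) : Type u),
        Dense ((pullback.snd f g).base '' Z)) :
    UniversallyOpen f := by
  refine Groth.Agent.H5.UO.universallyOpen_of_pullback_snd (f := f) fun n _ => ?_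
  apply isOpenMap_of_generalizingMap
  apply generalizingMap_of_components_dominate
  intro t
  set gn : AffineSpace (ULift.{u} (Fin n)) Y ⟶ Y := AffineSpace (ULift.{u} (Fin n)) Y ↘ Y with hgn
  set I := Scheme.IdealSheafData.vanishingIdeal
    (⟨closure {t}, isClosed_closure⟩ : Closeds ↥(AffineSpace (ULift.{u} (Fin n)) Y)) with hI
  intro Z hZ
  haveI : IrreducibleSpace ↥I.subscheme := irreducibleSpace_subscheme_closure t
  -- the iso `pullback (pullback.snd f gn) ι ≅ pullback f (ι ≫ gn)`
  let e := pullbackLeftPullbackSndIso f gn I.subschemeι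
  have he : e.hom ≫ pullback.snd f (I.subschemeι ≫ gn) =
      pullback.snd (pullback.snd f gn) I.subschemeι := pullbackLeftPullbackSndIso_hom_snd _ _ _
  have hinv : Function.LeftInverse e.inv.base e.hom.base := fun z => by
    rw [← Scheme.Hom.comp_apply, e.hom_inv_id]; rfl
  have hinv' : Function.RightInverse e.inv.base e.hom.base := fun z => by
    rw [← Scheme.Hom.comp_apply, e.inv_hom_id]; rfl
  have himg0 : e.hom.base '' Z = e.inv.base ⁻¹' Z :=
    congrFun (Set.image_eq_preimage_of_inverse hinv hinv') Z
  have hZ' : e.hom.base '' Z ∈
      irreducibleComponents (↥(pullback f (I.subschemeι ≫ gn)) : Type u) := by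
    rw [himg0]
    refine preimage_mem_irreducibleComponents hZ e.inv.isOpenEmbedding ?_
    obtain ⟨z, hz⟩ := hZ.1.nonempty
    exact ⟨z, hz, e.hom.base z, hinv z⟩
  have hd := h I.subscheme (I.subschemeι ≫ gn) _ hZ'
  have himg : (pullback.snd f (I.subschemeι ≫ gn)).base '' (e.hom.base '' Z) =
      (pullback.snd (pullback.snd f gn) I.subschemeι).base '' Z := by
    rw [← Set.image_comp, ← he]
    rfl
  rw [himg] at hd
  exact hd

end Groth.Agent.H1.UOComp
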