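import Mathlib
import Groth.Prelude
import Groth.Agent.Lib.Helper1.StalkGen
import Groth.Agent.Lib.Helper1.UOComp
import Groth.Agent.Lib.Helper1.HypSecB
import Groth.Agent.Lib.Helper1.AlgSpDim3
import Groth.Agent.Lib.Helper3.FibDimIrr2
import Groth.Agent.Lib.Helper1.UOVal

open AlgebraicGeometry CategoryTheory TopologicalSpace

universe u

namespace Groth.Agent.H1.QFSub

/-- In a Noetherian domain with a chain `0 < P < m` of primes, every nonzero element is avoided by
some nonzero prime below `m`. -/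
theorem exists_prime_not_mem_of_domain {C : Type*} [CommRing C] [IsDomain C] [IsNoetherianRing C]
    (P m : Ideal C) [P.IsPrime] [m.IsPrime] (hP : ⊥ < P) (hPm : P < m) (c : C) (hc : c ≠ 0) :
    ∃ q : Ideal C, q.IsPrime ∧ q ≠ ⊥ ∧ q ≤ m ∧ c ∉ q := by
  classical
  have hFfin : (Ideal.span {c}).minimalPrimes.Finite :=
    Ideal.finite_minimalPrimes_of_isNoetherianRing C (Ideal.span {c})
  haveI : (⊥ : Ideal C).IsPrime := Ideal.isPrime_bot
  have hm2 : (2 : ℕ∞) ≤ m.height := by
    have h1 : (⊥ : Ideal C).height + 1 ≤ P.height := Ideal.height_add_one_le_of_lt_of_isPrime hP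
    have h2 : P.height + 1 ≤ m.height := Ideal.height_add_one_le_of_lt_of_isPrime hPm
    calc (2 : ℕ∞) = 0 + 1 + 1 := by norm_num
      _ ≤ (⊥ : Ideal C).height + 1 + 1 := by gcongr; exact zero_le
      _ ≤ P.height + 1 := by gcongr
      _ ≤ m.height := h2
  have hmne : m ≠ ⊥ := fun h => by
    rw [h] at hPm
    exact absurd hPm (not_lt_bot)
  let s : Finset (Ideal C) := insert ⊥ hFfin.toFinset
  have hsprime : ∀ i ∈ s, i ≠ (⊥ : Ideal C) → i ≠ (⊥ : Ideal C) → ((fun j : Ideal C => j) i).IsPrime := by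
    intro i hi _ _
    rcases Finset.mem_insert.mp hi with rfl | hi
    · exact Ideal.isPrime_bot
    · exact ((Set.Finite.mem_toFinset hFfin).mp hi).1.1
  have hnot : ¬ ((m : Set C) ⊆ ⋃ i ∈ (↑s : Set (Ideal C)), (((fun j : Ideal C => j) i : Ideal C) : Set C)) := by
    rw [Ideal.subset_union_prime (f := fun j : Ideal C => j) (⊥ : Ideal C) ⊥ hsprime]
    rintro ⟨i, hi, hle⟩
    rcases Finset.mem_insert.mp hi with rfl | hi
    · exact hmne (le_bot_iff.mp hle)
    · have hi' := (Set.Finite.mem_toFinset hFfin).mp hi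
      have h1 : i.height ≤ 1 :=
        Ideal.height_le_one_of_isPrincipal_of_mem_minimalPrimes _ i hi'
      exact absurd (hm2.trans ((Ideal.height_mono hle).trans h1)) (by norm_num)
  obtain ⟨y, hym, hy⟩ := Set.not_subset.mp hnot
  have hy0 : y ≠ 0 := by
    rintro rfl
    apply hy
    exact Set.mem_iUnion₂.mpr ⟨⊥, Finset.mem_coe.mpr (Finset.mem_insert_self _ _), Ideal.zero_mem _⟩
  have hyF : ∀ p ∈ (Ideal.span {c}).minimalPrimes, y ∉ p := by
    intro p hp hyp
    apply hy
    exact Set.mem_iUnion₂.mpr ⟨p, Finset.mem_coe.mpr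
      (Finset.mem_insert_of_mem ((Set.Finite.mem_toFinset hFfin).mpr hp)), hyp⟩
  have hyle : Ideal.span {y} ≤ m := (Ideal.span_singleton_le_iff_mem _).mpr hym
  obtain ⟨q, hq, hqm⟩ := Ideal.exists_minimalPrimes_le hyle
  haveI : q.IsPrime := hq.1.1
  have hyq : y ∈ q := hq.1.2 (Ideal.subset_span rfl)
  refine ⟨q, inferInstance, ?_, hqm, ?_⟩
  · intro h; rw [h] at hyq; exact hy0 ((Submodule.mem_bot C).mp hyq)
  · intro hcq
    have hcle : Ideal.span {c} ≤ q := (Ideal.span_singleton_le_iff_mem _).mpr hcq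
    obtain ⟨p, hp, hpq⟩ := Ideal.exists_minimalPrimes_le hcle
    haveI : p.IsPrime := hp.1.1
    have hpne : p ≠ ⊥ := by
      intro h
      have : c ∈ p := hp.1.2 (Ideal.subset_span rfl)
      rw [h] at this
      exact hc ((Submodule.mem_bot C).mp this)
    have hq1 : q.height ≤ 1 := Ideal.height_le_one_of_isPrincipal_of_mem_minimalPrimes _ q hq
    by_cases hpq' : p = q
    · exact hyF p hp (hpq' ▸ hyq)
    · have hlt : p < q := lt_of_le_of_ne hpq hpq'
      have h1 : p.height < q.height := Ideal.height_strict_mono_of_isPrime hlt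
      have h2 : p.height = 0 := Order.lt_one_iff.mp (lt_of_lt_of_le h1 hq1)
      exact hpne (Ideal.height_eq_zero_iff_eq_bot.mp h2)

/-- In a Noetherian ring with primes `p < py < m` and `c ∉ p`, there is a prime strictly above `p`,
below `m`, avoiding `c`. -/
theorem exists_prime_between {R : Type*} [CommRing R] [IsNoetherianRing R]
    (p py m : Ideal R) [p.IsPrime] [py.IsPrime] [m.IsPrime] (h1 : p < py) (h2 : py < m)
    (c : R) (hc : c ∉ p) : ∃ p₂ : Ideal R, p₂.IsPrime ∧ p < p₂ ∧ p₂ ≤ m ∧ c ∉ p₂ := by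
  let π : R →+* R ⧸ p := Ideal.Quotient.mk p
  have hπ : Function.Surjective π := Ideal.Quotient.mk_surjective
  have hker : RingHom.ker π = p := Ideal.mk_ker
  have hkpy : RingHom.ker π ≤ py := by rw [hker]; exact h1.le
  have hkm : RingHom.ker π ≤ m := by rw [hker]; exact (h1.trans h2).le
  haveI : (py.map π).IsPrime := Ideal.map_isPrime_of_surjective hπ hkpy
  haveI : (m.map π).IsPrime := Ideal.map_isPrime_of_surjective hπ hkm
  have hcm_py : (py.map π).comap π = py := by
    rw [Ideal.comap_map_of_surjective π hπ, ← RingHom.ker_eq_comap_bot, sup_eq_left]; exact hkpy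
  have hcm_m : (m.map π).comap π = m := by
    rw [Ideal.comap_map_of_surjective π hπ, ← RingHom.ker_eq_comap_bot, sup_eq_left]; exact hkm
  have hP : (⊥ : Ideal (R ⧸ p)) < py.map π := by
    rw [bot_lt_iff_ne_bot]
    intro h
    have : py ≤ p := by
      rw [← hcm_py, h, ← RingHom.ker_eq_comap_bot, hker]
    exact absurd this (not_le_of_gt h1)
  have hPm : py.map π < m.map π := by
    refine lt_of_le_of_ne (Ideal.map_mono h2.le) ?_
    intro h
    have : py = m := by rw [← hcm_py, h, hcm_m]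
    exact absurd this h2.ne
  have hc' : π c ≠ 0 := by
    intro h
    exact hc (Ideal.Quotient.eq_zero_iff_mem.mp h)
  obtain ⟨q, hqp, hq0, hqm, hcq⟩ :=
    exists_prime_not_mem_of_domain (py.map π) (m.map π) hP hPm (π c) hc'
  haveI := hqp
  refine ⟨q.comap π, inferInstance, ?_, ?_, ?_⟩
  · refine lt_of_le_of_ne ?_ ?_
    · calc p = RingHom.ker π := hker.symm
        _ = Ideal.comap π ⊥ := RingHom.ker_eq_comap_bot π
        _ ≤ Ideal.comap π q := Ideal.comap_mono bot_le
    · intro h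
      apply hq0
      rw [← Ideal.map_comap_of_surjective π hπ q, ← h]
      exact Ideal.map_quotient_self p
  · rw [← hcm_m]; exact Ideal.comap_mono hqm
  · exact fun h => hcq h

/-- Scheme form: between `z` and `x` with an intermediate point `y`, every open neighbourhood of `z`
contains a generization of `x` strictly more special than `z`. -/
theorem exists_prime_gt {X : Scheme.{u}} [IsLocallyNoetherian X] (x : X)
    (q : PrimeSpectrum (X.presheaf.stalk x)) (y : X)
    (hzy : (X.fromSpecStalk x).base q ⤳ y) (hyx : y ⤳ x)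
    (hne1 : (X.fromSpecStalk x).base q ≠ y) (hne2 : y ≠ x) (O : Set X) (hO : IsOpen O)
    (hzO : (X.fromSpecStalk x).base q ∈ O) :
    ∃ P₂ : PrimeSpectrum (X.presheaf.stalk x), q.asIdeal < P₂.asIdeal ∧
      (X.fromSpecStalk x).base P₂ ∈ O := by
  haveI : IsNoetherianRing (X.presheaf.stalk x) := inferInstance
  let py : PrimeSpectrum (X.presheaf.stalk x) := StalkGen.primeOf hyx
  have hpy : (X.fromSpecStalk x).base py = y := StalkGen.fromSpecStalk_primeOf hyx
  have hemb : Topology.IsEmbedding (X.fromSpecStalk x).base := Scheme.Hom.isEmbedding _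
  have hsp : q ⤳ py := by
    apply hemb.isInducing.specializes_iff.mp
    rw [hpy]; exact hzy
  have hle : q.asIdeal ≤ py.asIdeal := (PrimeSpectrum.le_iff_specializes q py).mpr hsp
  have hne : q.asIdeal ≠ py.asIdeal := by
    intro h
    have : q = py := PrimeSpectrum.ext h
    exact hne1 (by rw [this, hpy])
  have hlt1 : q.asIdeal < py.asIdeal := lt_of_le_of_ne hle hne
  have hlt2 : py.asIdeal < IsLocalRing.maximalIdeal (X.presheaf.stalk x) := by
    refine lt_of_le_of_ne (IsLocalRing.le_maximalIdeal py.isPrime.ne_top) ?_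
    intro h
    have h3 : py = IsLocalRing.closedPoint (X.presheaf.stalk x) := PrimeSpectrum.ext h
    apply hne2
    rw [← hpy, h3]
    exact Scheme.fromSpecStalk_closedPoint
  have hO' : IsOpen ((X.fromSpecStalk x).base ⁻¹' O) := hO.preimage (X.fromSpecStalk x).base.hom.continuous
  obtain ⟨_, ⟨_, ⟨c, rfl⟩, rfl⟩, hqc, hcO⟩ :=
    PrimeSpectrum.isBasis_basic_opens.exists_subset_of_mem_open
      (show q ∈ (X.fromSpecStalk x).base ⁻¹' O from hzO) hO'
  have hcq : c ∉ q.asIdeal := hqc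
  obtain ⟨p₂, hp₂, hlt, -, hcp₂⟩ :=
    exists_prime_between q.asIdeal py.asIdeal (IsLocalRing.maximalIdeal (X.presheaf.stalk x))
      hlt1 hlt2 c hcq
  refine ⟨⟨p₂, hp₂⟩, hlt, ?_⟩
  exact hcO (show (⟨p₂, hp₂⟩ : PrimeSpectrum (X.presheaf.stalk x)) ∈
    (PrimeSpectrum.basicOpen c : Set (PrimeSpectrum (X.presheaf.stalk x))) from hcp₂)

theorem resTrdeg_eq_zero_of_closed {X S : Scheme.{u}} (f : X ⟶ S) [LocallyOfFiniteType f] (x : X)
    (hcl : IsClosed (Subtype.val ⁻¹' {x} : Set ↑(f ⁻¹' {f x}))) : Dual3.resTrdeg f x = 0 := by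
  have h1 : IsClosed ({f.asFiber x} : Set (f.fiber (f x))) := by
    have h2 : (Subtype.val ⁻¹' {x} : Set ↑(f ⁻¹' {f x})) = {⟨x, rfl⟩} := by
      ext w
      simp only [Set.mem_preimage, Set.mem_singleton_iff]
      exact ⟨fun h => Subtype.ext h, fun h => by rw [h]⟩
    rw [h2] at hcl
    have h3 := (f.fiberHomeo (f x)).symm.isClosed_image.mpr hcl
    rw [Set.image_singleton] at h3
    exact h3
  exact Groth.Agent.H3.FibDimIrr.trdeg_eq_zero_of_isClosed_fiber f x (f x) rfl (f.asFiber x)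
    (f.fiberι_asFiber x) h1

theorem s1411 {X S : Scheme.{u}} (f : X ⟶ S) [LocallyOfFiniteType f] [IsLocallyNoetherian S]
    (x : X) (hcl : IsClosed (Subtype.val ⁻¹' {x} : Set ↑(f ⁻¹' {f x}))) (U : X.Opens)
    (hx' : ∃ x' : X, x' ∈ U ∧ x' ⤳ x ∧ f x' ≠ f x) :
    ∃ (I : X.IdealSheafData) (z₀ x₀ : ↑I.subscheme), I.subschemeι x₀ = x ∧
      (I.subschemeι ≫ f).QuasiFiniteAt x₀ ∧
      I.subschemeι z₀ ∈ U ∧ I.subschemeι z₀ ⤳ x ∧ f (I.subschemeι z₀) ≠ f x := by
  haveI : IsLocallyNoetherian X := LocallyOfFiniteType.isLocallyNoetherian f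
  haveI : IsNoetherianRing (X.presheaf.stalk x) := inferInstance
  obtain ⟨x', hx'U, hx'x, hfx'⟩ := hx'
  let T : Set (PrimeSpectrum (X.presheaf.stalk x)) :=
    {q | (X.fromSpecStalk x).base q ∈ U ∧ f.base ((X.fromSpecStalk x).base q) ≠ f.base x}
  have hTne : (PrimeSpectrum.asIdeal '' T).Nonempty := by
    have e1 : (X.fromSpecStalk x).base (StalkGen.primeOf hx'x) = x' :=
      StalkGen.fromSpecStalk_primeOf hx'x
    refine ⟨_, StalkGen.primeOf hx'x, ?_, rfl⟩
    show (X.fromSpecStalk x).base (StalkGen.primeOf hx'x) ∈ U ∧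
      f.base ((X.fromSpecStalk x).base (StalkGen.primeOf hx'x)) ≠ f.base x
    rw [e1]; exact ⟨hx'U, hfx'⟩
  obtain ⟨_, ⟨q, hqT, rfl⟩, hqmax⟩ :=
    (set_has_maximal_iff_noetherian (R := X.presheaf.stalk x) (M := X.presheaf.stalk x)).mpr
      inferInstance _ hTne
  set z := (X.fromSpecStalk x).base q with hz
  have hzx : z ⤳ x := StalkGen.fromSpecStalk_specializes x q
  have hzU : z ∈ U := hqT.1
  have hfz : f.base z ≠ f.base x := hqT.2
  let I := Scheme.IdealSheafData.vanishingIdeal (⟨closure {z}, isClosed_closure⟩ : Closeds X)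
  have hrange : Set.range I.subschemeι.base = closure ({z} : Set X) :=
    UOComp.range_subschemeι_closure z
  obtain ⟨x₀, hx₀⟩ : x ∈ Set.range I.subschemeι.base := by
    rw [hrange]; exact specializes_iff_mem_closure.mp hzx
  obtain ⟨z₀, hz₀⟩ : z ∈ Set.range I.subschemeι.base := by
    rw [hrange]; exact subset_closure rfl
  have hmax : ∀ t' : I.subscheme, (I.subschemeι ≫ f) t' = (I.subschemeι ≫ f) x₀ →
      t' ⤳ x₀ → t' = x₀ := by
    intro t' h1 h2
    by_contra hne
    set y := I.subschemeι.base t' with hy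
    have hyx : y ⤳ x := by
      have h3 : I.subschemeι.base t' ⤳ I.subschemeι.base x₀ :=
        h2.map I.subschemeι.base.hom.continuous
      rw [hx₀] at h3; exact h3
    have hynx : y ≠ x := by
      intro h
      apply hne
      have hinj : Function.Injective I.subschemeι.base := (Scheme.Hom.isEmbedding I.subschemeι).injective
      exact hinj (h.trans hx₀.symm)
    have hfy : f.base y = f.base x := by
      calc f.base y = (I.subschemeι ≫ f).base t' := rfl
        _ = (I.subschemeι ≫ f).base x₀ := h1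
        _ = f.base (I.subschemeι.base x₀) := rfl
        _ = f.base x := by rw [hx₀]
    have hzy : z ⤳ y := by
      apply specializes_iff_mem_closure.mpr
      rw [← hrange]; exact ⟨t', rfl⟩
    have hzney : z ≠ y := fun h => hfz (by rw [h, hfy])
    let O : Set X := (U : Set X) ∩ f.base ⁻¹' (closure {f.base x})ᶜ
    have hO : IsOpen O :=
      U.isOpen.inter (isClosed_closure.isOpen_compl.preimage f.base.hom.continuous)
    have hfz' : f.base z ∉ closure {f.base x} := by
      intro hmem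
      have h3 : f.base x ⤳ f.base z := specializes_iff_mem_closure.mpr hmem
      have h4 : f.base z ⤳ f.base x := hzx.map f.base.hom.continuous
      exact hfz (h4.antisymm h3).eq
    have hzO : z ∈ O := ⟨hzU, hfz'⟩
    obtain ⟨P₂, hlt, hP₂O⟩ := exists_prime_gt x q y hzy hyx hzney hynx O hO hzO
    have hP₂T : P₂ ∈ T := ⟨hP₂O.1, fun h => hP₂O.2 (by
      show f.base ((X.fromSpecStalk x).base P₂) ∈ closure {f.base x}
      rw [h]; exact subset_closure rfl)⟩
    exact hqmax _ ⟨P₂, hP₂T, rfl⟩ hlt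
  refine ⟨I, z₀, x₀, hx₀, ?_, ?_, ?_, ?_⟩
  · obtain ⟨tx, htx, hdim⟩ := HypSec.fibreDimAt_comp_eq_resTrdeg I.subschemeι f x₀ hmax
    have h0 : Dual3.resTrdeg f (I.subschemeι.base x₀) = 0 := by
      rw [hx₀]; exact resTrdeg_eq_zero_of_closed f x hcl
    rw [h0] at htx
    have htx0 : tx = 0 := by exact_mod_cast htx.symm
    rw [htx0] at hdim
    exact (QFDim.fibreDimAt_eq_zero_iff (I.subschemeι ≫ f) x₀).mp (by rw [hdim]; rfl)
  · show I.subschemeι.base z₀ ∈ U
    rw [hz₀]; exact hzU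
  · show I.subschemeι.base z₀ ⤳ x
    rw [hz₀]; exact hzx
  · show f.base (I.subschemeι.base z₀) ≠ f.base x
    rw [hz₀]; exact hfz

theorem s9779 {X S : Scheme.{u}} (f : X ⟶ S) [LocallyOfFiniteType f] [IsLocallyNoetherian S]
    (x : X) (hcl : IsClosed (Subtype.val ⁻¹' {x} : Set ↑(f ⁻¹' {f x}))) (U : X.Opens)
    (hU : ∀ x' ∈ U, f x' ≠ f x) (hxU : x ∈ closure (U : Set ↑X)) :
    ∃ (I : X.IdealSheafData) (z₀ x₀ : ↑I.subscheme), I.subschemeι x₀ = x ∧
      (I.subschemeι ≫ f).QuasiFiniteAt x₀ ∧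
      I.subschemeι z₀ ∈ U ∧ I.subschemeι z₀ ⤳ x ∧ f (I.subschemeι z₀) ≠ f x := by
  haveI : IsLocallyNoetherian X := LocallyOfFiniteType.isLocallyNoetherian f
  apply s1411 f x hcl U
  obtain ⟨_, ⟨(W : X.Opens), hW, rfl⟩, hxW, -⟩ :=
    X.isBasis_affineOpens.exists_subset_of_mem_open (Set.mem_univ x) isOpen_univ
  haveI : IsNoetherianRing Γ(X, W) := IsLocallyNoetherian.component_noetherian ⟨W, hW⟩
  have hNW : NoetherianSpace ↥(W : Set X) := noetherianSpace_of_isAffineOpen W hW
  haveI : NoetherianSpace ↥((U : Set X) ∩ (W : Set X)) :=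
    (noetherianSpace_set_iff _).mpr fun t ht =>
      (noetherianSpace_set_iff (W : Set X)).mp hNW t (ht.trans Set.inter_subset_right)
  have hx_cl : x ∈ closure ((U : Set X) ∩ (W : Set X)) := by
    rw [mem_closure_iff]
    intro o ho hxo
    obtain ⟨w, ⟨hwo, hwW⟩, hwU⟩ := mem_closure_iff.mp hxU (o ∩ (W : Set X)) (ho.inter W.isOpen) ⟨hxo, hxW⟩
    exact ⟨w, hwo, hwU, hwW⟩
  obtain ⟨C, ξ, hCQ, hCne, hξ, hξx⟩ := UOVal.exists_generic_of_mem_closure _ x hx_cl
  obtain ⟨c, hc⟩ := hCne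
  have hξc : ξ ⤳ c := by
    have h1 : c ∈ closure C := subset_closure hc
    rw [← hξ.def] at h1
    exact specializes_iff_mem_closure.mpr h1
  have hξU : ξ ∈ U := hξc.mem_open U.isOpen (hCQ hc).1
  exact ⟨ξ, hξU, hξx, hU ξ hξU⟩

end Groth.Agent.H1.QFSub
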