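import Mathlib
import Groth.Prelude
import Groth.Agent.Lib.Helper1.QFSub
import Groth.Agent.Lib.Helper1.EquidimLocC
import Groth.Agent.Lib.Helper1.AlgSpDim3
import Groth.Agent.Lib.Helper1.Chev4

set_option autoImplicit false
set_option linter.style.haveILetI false

universe u

namespace Groth.Agent.H1.DedGenSpec

open AlgebraicGeometry CategoryTheory CategoryTheory.Limits TopologicalSpace Topology

theorem s7890 {R : Type u} [CommRing R] [IsDedekindDomain R]
    {X : Scheme.{u}} [IrreducibleSpace X] (f : X ⟶ Spec (CommRingCat.of R))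
    [LocallyOfFiniteType f]
    (hdom : DenseRange f.base) (x' : X) (hx' : IsClosed ({x'} : Set X))
    (hs : (f.base x').asIdeal.IsMaximal) :
    ∃ x : X, (f.base x).asIdeal = ⊥ ∧ (∀ z : X, (f.base z).asIdeal = ⊥ → x ⤳ z → z = x) ∧
      x ⤳ x' := by
  have hξgen : closure ({f.base (genericPoint X)} : Set (Spec (CommRingCat.of R))) = Set.univ := by
    apply Set.eq_univ_of_univ_subset
    rw [← hdom.closure_range]
    apply closure_minimal _ isClosed_closure
    rintro _ ⟨y, rfl⟩
    exact ((genericPoint_specializes y).map f.base.hom.continuous).mem_closure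
  have hξbot : (f.base (genericPoint X)).asIdeal = ⊥ := by
    let b : ↥(Spec (CommRingCat.of R)) := (⟨⊥, Ideal.isPrime_bot⟩ : PrimeSpectrum R)
    have h1 : f.base (genericPoint X) ⤳ b := by
      rw [specializes_iff_mem_closure, hξgen]; trivial
    have h2 : (f.base (genericPoint X)).asIdeal ≤ (⊥ : Ideal R) :=
      (PrimeSpectrum.le_iff_specializes (f.base (genericPoint X)) b).mpr h1
    exact le_bot_iff.mp h2
  by_cases hcase : f.base (genericPoint X) = f.base x'
  · refine ⟨x', by rw [← hcase]; exact hξbot, ?_, specializes_rfl⟩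
    intro z _ hz
    have : z ∈ closure ({x'} : Set X) := hz.mem_closure
    rw [hx'.closure_eq] at this
    exact this
  · haveI : IsLocallyNoetherian X := LocallyOfFiniteType.isLocallyNoetherian f
    have hcl : IsClosed (Subtype.val ⁻¹' {x'} : Set ↑(f ⁻¹' {f x'})) :=
      hx'.preimage continuous_subtype_val
    obtain ⟨I, z₀, x₀, hx₀, hqf, -, hzx, hfz⟩ := Groth.Agent.H1.QFSub.s1411 f x' hcl ⊤
      ⟨genericPoint X, trivial, genericPoint_specializes x', hcase⟩
    have hemb : Topology.IsEmbedding I.subschemeι.base := Scheme.Hom.isEmbedding _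
    have hzx' : I.subschemeι.base z₀ ⤳ x' := hzx
    have hfz' : f.base (I.subschemeι.base z₀) ≠ f.base x' := hfz
    have hz₀x₀ : z₀ ⤳ x₀ := by
      apply hemb.isInducing.specializes_iff.mp
      have hx₀' : I.subschemeι.base x₀ = x' := hx₀
      rw [hx₀']; exact hzx'
    have h0 : FlatMor.fibreDimAt (I.subschemeι ≫ f) x₀ = 0 :=
      (Groth.Agent.H1.QFDim.fibreDimAt_eq_zero_iff _ x₀).mpr hqf
    have h1 : FlatMor.fibreDimAt (I.subschemeι ≫ f) z₀ ≤ 0 := by
      rw [← h0]; exact Groth.Agent.H1.EquidimLoc.fibreDimAt_le_of_specializes _ hz₀x₀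
    have h2 : FlatMor.fibreDimAt (I.subschemeι ≫ f) z₀ = 0 :=
      le_antisymm h1 (Groth.Agent.H1.Chev.zero_le_fibreDimAt _ z₀)
    have hqfz : (I.subschemeι ≫ f).QuasiFiniteAt z₀ :=
      (Groth.Agent.H1.QFDim.fibreDimAt_eq_zero_iff _ z₀).mp h2
    have hclz : IsClosed ({(I.subschemeι ≫ f).asFiber z₀} :
        Set ((I.subschemeι ≫ f).fiber ((I.subschemeι ≫ f) z₀))) :=
      hqfz.isClopen_singleton_asFiber.1
    have hclz' : IsClosed ({⟨z₀, rfl⟩} :
        Set ↑((I.subschemeι ≫ f) ⁻¹' {(I.subschemeι ≫ f) z₀})) := by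
      have h3 := ((I.subschemeι ≫ f).fiberHomeo ((I.subschemeι ≫ f) z₀)).isClosed_image.mpr hclz
      rw [Set.image_singleton] at h3
      simp only [Scheme.Hom.asFiber, Homeomorph.apply_symm_apply] at h3
      exact h3
    have hbot : (f.base (I.subschemeι.base z₀)).asIdeal = ⊥ := by
      by_contra hne
      have hmax : (f.base (I.subschemeι.base z₀)).asIdeal.IsMaximal :=
        Ring.DimensionLEOne.maximalOfPrime hne (f.base (I.subschemeι.base z₀)).isPrime
      have hle : (f.base (I.subschemeι.base z₀)).asIdeal ≤ (f.base x').asIdeal :=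
        (PrimeSpectrum.le_iff_specializes _ _).mpr (hzx'.map f.base.hom.continuous)
      have heq := hmax.eq_of_le hs.ne_top hle
      exact hfz' (PrimeSpectrum.ext heq)
    refine ⟨I.subschemeι.base z₀, hbot, ?_, hzx'⟩
    intro z hz hxz
    have hzr : z ∈ Set.range I.subschemeι.base := by
      have : closure {I.subschemeι.base z₀} ⊆ Set.range I.subschemeι.base :=
        closure_minimal (Set.singleton_subset_iff.mpr ⟨z₀, rfl⟩)
          I.subschemeι.isClosedEmbedding.isClosed_range
      exact this hxz.mem_closure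
    obtain ⟨z₁, rfl⟩ := hzr
    have hz₀z₁ : z₀ ⤳ z₁ := hemb.isInducing.specializes_iff.mp hxz
    have hgz : (I.subschemeι ≫ f) z₁ = (I.subschemeι ≫ f) z₀ := by
      apply PrimeSpectrum.ext
      show (f.base (I.subschemeι.base z₁)).asIdeal = (f.base (I.subschemeι.base z₀)).asIdeal
      rw [hz, hbot]
    have hsp : (⟨z₀, rfl⟩ : ↑((I.subschemeι ≫ f) ⁻¹' {(I.subschemeι ≫ f) z₀})) ⤳ ⟨z₁, hgz⟩ :=
      Topology.IsInducing.subtypeVal.specializes_iff.mp hz₀z₁
    have hmem := hsp.mem_closure
    rw [hclz'.closure_eq] at hmem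
    have : z₁ = z₀ := congrArg Subtype.val hmem
    rw [this]

end Groth.Agent.H1.DedGenSpec
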