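import Mathlib
import Groth.Prelude.Def_Neron
import Groth.Agent.Lib.Helper1.FibDimBC
import Groth.Agent.Lib.Helper1.Chev4
import Groth.Agent.Lib.Helper1.AlgSpDim3
import Groth.Agent.Lib.Helper1.ValDim

set_option autoImplicit false
universe u

namespace Groth.Agent.H1.DedQF

open CategoryTheory AlgebraicGeometry CategoryTheory.Limits

/-- A flat, locally finite type scheme over the spectrum of a domain whose generic fibre is locally
quasi-finite is locally quasi-finite. -/
theorem main (R : Type u) [CommRing R] [IsDomain R] {X : Scheme.{u}}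
    (f : X ⟶ Spec (CommRingCat.of R)) [Flat f] [LocallyOfFiniteType f]
    [LocallyQuasiFinite (pullback.snd f (Neron.genPt R))] : LocallyQuasiFinite f := by
  rw [Groth.Agent.H1.QFDim.locallyQuasiFinite_iff_fibreDimAt]
  intro x
  let η : Spec (CommRingCat.of R) := ⟨⊥, Ideal.isPrime_bot⟩
  have hη : η ⤳ f.base x :=
    (@PrimeSpectrum.le_iff_specializes R _ ⟨⊥, Ideal.isPrime_bot⟩ (f.base x)).mp
      (show (⊥ : Ideal R) ≤ _ from bot_le)
  obtain ⟨x', hx'η, -, hle⟩ :=
    Groth.Agent.H1.ValDim.exists_generization_fibreDimAt_ge f x η hη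
  -- x' comes from the generic fibre
  have hgen : (Neron.genPt R).base (IsLocalRing.closedPoint (FractionRing R)) = η := by
    apply PrimeSpectrum.ext
    show Ideal.comap (algebraMap R (FractionRing R)) (IsLocalRing.maximalIdeal (FractionRing R)) = ⊥
    rw [IsLocalRing.maximalIdeal_eq_bot]
    exact (RingHom.injective_iff_ker_eq_bot _).mp (IsFractionRing.injective R (FractionRing R))
  obtain ⟨z, hz1, -⟩ := Scheme.Pullback.exists_preimage_pullback (f := f) (g := Neron.genPt R) x'
    (IsLocalRing.closedPoint (FractionRing R)) (hx'η.trans hgen.symm)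
  have hbc := Groth.Agent.H1.FibDimBC.fibreDimAt_eq_of_isPullback f (Neron.genPt R)
    (pullback.fst f (Neron.genPt R)) (pullback.snd f (Neron.genPt R))
    (IsPullback.of_hasPullback f (Neron.genPt R)) z
  have h0 : FlatMor.fibreDimAt (pullback.snd f (Neron.genPt R)) z = 0 :=
    (Groth.Agent.H1.QFDim.locallyQuasiFinite_iff_fibreDimAt _).mp inferInstance z
  rw [hz1] at hbc
  rw [← hbc, h0] at hle
  exact le_antisymm hle (Groth.Agent.H1.Chev.zero_le_fibreDimAt f x)

end Groth.Agent.H1.DedQF
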