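import Mathlib
import Groth.Prelude.Def_AlgSpInf
import Groth.Prelude.Def_AlgSpMor5
import Groth.Agent.Lib.Helper5.AlgSp.LocPAt
import Groth.Agent.Lib.Helper5.AlgSp.EtaleMor
import Groth.Agent.Lib.Helper1.AlgSpDim
import Groth.Agent.Lib.Helper1.UO14C
import Groth.Agent.Lib.Helper1.ThickeningMore
import Groth.Agent.Lib.Helper1.EtNhd2

/-!
# Deformation of étale-local properties along thickenings of algebraic spaces (helper1)

Base change of a tower of charts `U' → V' → W'` of `X' → Y' → B'` along a thickening `B → B'`,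
nilpotency of the ideal of the thickening on charts, and transfer theorems for `AlgSp.LocP`.
-/

set_option autoImplicit false
set_option linter.style.haveILetI false
universe u
open CategoryTheory CategoryTheory.Limits AlgebraicGeometry

namespace Groth.Agent.H1.DefSp
open _root_.AlgSp Groth.Agent.H5.AlgSp Groth.Agent.H5.EtSrc

variable {S : Scheme.{u}}

/-! ## generalities -/

theorem yon_isPullback_iff {P X Y Z : Over S} (fst : P ⟶ X) (snd : P ⟶ Y) (f : X ⟶ Z)
    (g : Y ⟶ Z) :
    IsPullback ((yon S).map fst) ((yon S).map snd) ((yon S).map f) ((yon S).map g) ↔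
      IsPullback fst snd f g := by
  constructor
  · intro h
    have w : fst ≫ f = snd ≫ g := (yon S).map_injective (by
      rw [CategoryTheory.Functor.map_comp, CategoryTheory.Functor.map_comp]; exact h.w)
    exact IsPullback.of_map (yon S) w h
  · intro h
    exact h.map (yon S)

/-- pullbacks in `Over S` computed on underlying schemes -/
theorem exists_over_pullback {U V V' : Over S} (k : U ⟶ V) (ι : V' ⟶ V) :
    ∃ (U' : Over S) (pr1 : U' ⟶ U) (k' : U' ⟶ V'), IsPullback pr1 k' k ι ∧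
      IsPullback pr1.left k'.left k.left ι.left := by
  let U' : Over S := Over.mk (pullback.fst k.left ι.left ≫ U.hom)
  let pr1 : U' ⟶ U := Over.homMk (pullback.fst k.left ι.left) rfl
  let k' : U' ⟶ V' := Over.homMk (pullback.snd k.left ι.left) (by
    change pullback.snd k.left ι.left ≫ V'.hom = pullback.fst k.left ι.left ≫ U.hom
    rw [← Over.w ι, ← Over.w k, pullback.condition_assoc])
  have hcomm : pr1 ≫ k = k' ≫ ι := Over.OverMorphism.ext pullback.condition
  exact ⟨U', pr1, k', IsPullback.of_map (Over.forget S) hcomm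
    (IsPullback.of_hasPullback k.left ι.left), IsPullback.of_hasPullback k.left ι.left⟩

/-! ## nilpotency of the kernel from affine-local data -/

theorem ker_pow_eq_bot {W W' : Scheme.{u}} (t : W ⟶ W') [QuasiCompact t] (n : ℕ)
    (H : ∀ (O : W'.Opens), IsAffineOpen O → ∃ (P : Scheme.{u}) (p1 : P ⟶ W) (p2 : P ⟶ O.toScheme),
        IsPullback p2 p1 O.ι t ∧ p2.ker ^ (n + 1) = ⊥) :
    t.ker ^ (n + 1) = ⊥ := by
  apply Scheme.IdealSheafData.ext
  funext U
  obtain ⟨P, p1, p2, sq, hp⟩ := H U.1 U.2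
  haveI : IsAffine U.1.toScheme := U.2
  let T : U.1.toScheme.affineOpens := ⟨⊤, isAffineOpen_top _⟩
  have e := Scheme.ker_ideal_of_isPullback_of_isOpenImmersion t p2 p1 U.1.ι sq T
  have hk : (p2.ker.ideal T) ^ (n + 1) = ⊥ := by
    have := congr(($hp).ideal T)
    simpa using this
  have hU : (⟨U.1.ι ''ᵁ T.1, T.2.image_of_isOpenImmersion _⟩ : W'.affineOpens) = U :=
    Subtype.ext (Scheme.Opens.ι_image_top U.1)
  have key : (t.ker.ideal ⟨U.1.ι ''ᵁ T.1, T.2.image_of_isOpenImmersion _⟩) ^ (n + 1) = ⊥ := by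
    have hsurj : Function.Surjective (U.1.ι.appIso T.1).inv.hom :=
      (ConcreteCategory.bijective_of_isIso (U.1.ι.appIso T.1).inv).2
    rw [← Ideal.map_comap_of_surjective _ hsurj
      (t.ker.ideal ⟨U.1.ι ''ᵁ T.1, T.2.image_of_isOpenImmersion _⟩), ← e, ← Ideal.map_pow, hk,
      Ideal.map_bot]
  simp only [Scheme.IdealSheafData.ideal_pow, Pi.pow_apply, Scheme.IdealSheafData.ideal_bot,
    Pi.bot_apply]
  rw [← hU]
  exact key

/-- On every étale chart of the target, an `n`th order thickening of algebraic spaces pulls back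
to a finite order thickening of schemes. -/
theorem isFiniteOrderThickening_of_isNThickMor {F G : Sp S} {i : F ⟶ G} {n : ℕ}
    (hi : IsNThickMor n i)
    {W W' : Over S} (c' : (yon S).obj W' ⟶ G) (hc' : RepWith @Etale c')
    (c : (yon S).obj W ⟶ F) (t : W ⟶ W') (sq : IsPullback c ((yon S).map t) i c') :
    MoreMor.IsFiniteOrderThickening t.left := by
  have hth : thick t.left := hi.1.property c' c t sq
  haveI : IsClosedImmersion t.left := hth.1
  refine ⟨hth, n + 1, ?_⟩
  change t.left.ker ^ (n + 1) = ⊥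
  apply ker_pow_eq_bot
  intro O hO
  let OS : Over S := Over.mk (O.ι ≫ W'.hom)
  let j : OS ⟶ W' := Over.homMk O.ι rfl
  obtain ⟨PS, pr1, k', hsq, hsql⟩ := exists_over_pullback t j
  refine ⟨PS.left, pr1.left, k'.left, hsql.flip, ?_⟩
  have hb : RepWith @Etale ((yon S).map j ≫ c') :=
    (RepWith @Etale).comp_mem _ _
      ((repWith_yon_map_iff @Etale j).2 (inferInstance : Etale O.ι)) hc'
  have hpb : IsPullback ((yon S).map pr1 ≫ c) ((yon S).map k') i ((yon S).map j ≫ c') :=
    ((yon_isPullback_iff pr1 k' t j).2 hsq).paste_horiz sq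
  exact hi.2 ((yon S).map j ≫ c') ((yon S).map pr1 ≫ c) k' hO hb hpb

/-! ## fibre dimension along a cartesian square of thickenings -/

theorem fibreDimAt_eq_of_isPullback {U U' V V' : Scheme.{u}} {r : U ⟶ U'} {h : U ⟶ V}
    {h' : U' ⟶ V'} {s : V ⟶ V'} (sq : IsPullback r h h' s) (hs : MoreMor.IsThickening s) (u : U) :
    FlatMor.fibreDimAt h u = FlatMor.fibreDimAt h' (r.base u) := by
  have hr : MoreMor.IsThickening r := Groth.Agent.H1.IsThickening.of_isPullback sq.flip hs
  haveI := hs.1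
  haveI := hr.1
  haveI := hr.2
  have hsinj : Function.Injective s.base := s.isClosedEmbedding.injective
  have hcomm : ∀ x : U, h'.base (r.base x) = s.base (h.base x) := fun x => by
    change (r ≫ h') x = (h ≫ s) x
    rw [sq.w]
  rw [Groth.Agent.H1.UO14.fibreDimAt_eq_localDim_preimage h u (h.base u) rfl,
    Groth.Agent.H1.UO14.fibreDimAt_eq_localDim_preimage h' (r.base u) (h'.base (r.base u)) rfl]
  let e : ↥(h.base ⁻¹' {h.base u}) → ↥(h'.base ⁻¹' {h'.base (r.base u)}) := fun a =>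
    ⟨r.base a.1, by
      have := a.2
      simp only [Set.mem_preimage, Set.mem_singleton_iff] at this ⊢
      rw [hcomm, hcomm, this]⟩
  have hec : Continuous e :=
    Continuous.subtype_mk (r.continuous.comp continuous_subtype_val) _
  have he : Topology.IsEmbedding e := by
    refine Topology.IsEmbedding.of_comp hec continuous_subtype_val ?_
    exact r.isClosedEmbedding.isEmbedding.comp Topology.IsEmbedding.subtypeVal
  have hsurj : Function.Surjective e := by
    rintro ⟨x', hx'⟩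
    obtain ⟨x, rfl⟩ := r.surjective x'
    simp only [Set.mem_preimage, Set.mem_singleton_iff] at hx'
    have hx : h.base x = h.base u := by
      apply hsinj
      rw [← hcomm, ← hcomm]
      exact hx'
    exact ⟨⟨x, hx⟩, rfl⟩
  have hoe : Topology.IsOpenEmbedding e := ⟨he, by rw [hsurj.range_eq]; exact isOpen_univ⟩
  exact Groth.Agent.H1.DimFormula.localDim_eq_of_isOpenEmbedding hoe ⟨u, rfl⟩

/-! ## base change of a tower of charts -/

/-- The base change along `iB` of a tower of charts `U' → V' → W'` of `X' → Y' → B'`. -/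
structure BC {X X' Y Y' B B' : Sp S} (iX : X ⟶ X') (iY : Y ⟶ Y') (iB : B ⟶ B') (f : X ⟶ Y)
    (f' : X' ⟶ Y') (g : Y ⟶ B) (g' : Y' ⟶ B') {U' V' W' : Over S}
    (a' : (yon S).obj U' ⟶ X') (b' : (yon S).obj V' ⟶ Y') (c' : (yon S).obj W' ⟶ B')
    (h' : U' ⟶ V') (k' : V' ⟶ W') where
  U : Over S
  V : Over S
  W : Over S
  a : (yon S).obj U ⟶ X
  b : (yon S).obj V ⟶ Y
  c : (yon S).obj W ⟶ B
  h : U ⟶ V
  k : V ⟶ W
  r : U ⟶ U'
  s : V ⟶ V'
  t : W ⟶ W'
  sqU : IsPullback a ((yon S).map r) iX a'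
  sqV : IsPullback b ((yon S).map s) iY b'
  sqW : IsPullback c ((yon S).map t) iB c'
  comm1 : a ≫ f = (yon S).map h ≫ b
  comm2 : b ≫ g = (yon S).map k ≫ c
  cartV : IsPullback s.left k.left k'.left t.left
  cartU : IsPullback r.left (h.left ≫ k.left) (h'.left ≫ k'.left) t.left
  wUV : r.left ≫ h'.left = h.left ≫ s.left
  thick_t : thick t.left

namespace BC

variable {X X' Y Y' B B' : Sp S} {iX : X ⟶ X'} {iY : Y ⟶ Y'} {iB : B ⟶ B'} {f : X ⟶ Y}
    {f' : X' ⟶ Y'} {g : Y ⟶ B} {g' : Y' ⟶ B'} {U' V' W' : Over S}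
    {a' : (yon S).obj U' ⟶ X'} {b' : (yon S).obj V' ⟶ Y'} {c' : (yon S).obj W' ⟶ B'}
    {h' : U' ⟶ V'} {k' : V' ⟶ W'} (T : BC iX iY iB f f' g g' a' b' c' h' k')

include T

theorem sqUV : IsPullback T.r.left T.h.left h'.left T.s.left :=
  IsPullback.of_bot T.cartU T.wUV T.cartV

theorem thick_s : MoreMor.IsThickening T.s.left :=
  Groth.Agent.H1.IsThickening.of_isPullback T.cartV.flip T.thick_t

theorem thick_r : MoreMor.IsThickening T.r.left :=
  Groth.Agent.H1.IsThickening.of_isPullback T.cartU.flip T.thick_t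

theorem a_etale (h : RepWith @Etale a') : RepWith @Etale T.a :=
  MorphismProperty.of_isPullback (P := RepWith (S := S) @Etale) T.sqU.flip h

theorem a_surj (h : RepWith @Surjective a') : RepWith @Surjective T.a :=
  MorphismProperty.of_isPullback (P := RepWith (S := S) @Surjective) T.sqU.flip h

theorem b_etale (h : RepWith @Etale b') : RepWith @Etale T.b :=
  MorphismProperty.of_isPullback (P := RepWith (S := S) @Etale) T.sqV.flip h

theorem c_etale (h : RepWith @Etale c') : RepWith @Etale T.c :=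
  MorphismProperty.of_isPullback (P := RepWith (S := S) @Etale) T.sqW.flip h

end BC

section Transfer

variable {X X' Y Y' B B' : Sp S} {iX : X ⟶ X'} {iY : Y ⟶ Y'} {iB : B ⟶ B'} {f : X ⟶ Y}
    {f' : X' ⟶ Y'} {g : Y ⟶ B} {g' : Y' ⟶ B'}

theorem nonempty_bc (hcX : IsPullback iX (f ≫ g) (f' ≫ g') iB) (hcY : IsPullback iY g g' iB)
    (w : iX ≫ f' = f ≫ iY) (hB : IsThickMor iB)
    {U' V' W' : Over S} (a' : (yon S).obj U' ⟶ X') (b' : (yon S).obj V' ⟶ Y')
    (c' : (yon S).obj W' ⟶ B') (h' : U' ⟶ V') (k' : V' ⟶ W')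
    (comm1' : a' ≫ f' = (yon S).map h' ≫ b') (comm2' : b' ≫ g' = (yon S).map k' ≫ c') :
    Nonempty (BC iX iY iB f f' g g' a' b' c' h' k') := by
  have hXY : IsPullback iX f f' iY := IsPullback.of_bot hcX w hcY
  have hY : RepWith (S := S) thick iY :=
    MorphismProperty.of_isPullback (P := RepWith (S := S) thick) hcY.flip hB
  have hX : RepWith (S := S) thick iX :=
    MorphismProperty.of_isPullback (P := RepWith (S := S) thick) hXY.flip hY
  have hB' : RepWith (S := S) thick iB := hB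
  let W := hB'.rep.pullback c'
  let t : W ⟶ W' := hB'.rep.snd c'
  let c : (yon S).obj W ⟶ B := hB'.rep.fst c'
  have sqW : IsPullback c ((yon S).map t) iB c' := hB'.rep.isPullback c'
  let V := hY.rep.pullback b'
  let s : V ⟶ V' := hY.rep.snd b'
  let b : (yon S).obj V ⟶ Y := hY.rep.fst b'
  have sqV : IsPullback b ((yon S).map s) iY b' := hY.rep.isPullback b'
  let U := hX.rep.pullback a'
  let r : U ⟶ U' := hX.rep.snd a'
  let a : (yon S).obj U ⟶ X := hX.rep.fst a'
  have sqU : IsPullback a ((yon S).map r) iX a' := hX.rep.isPullback a'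
  -- `k`
  have hwk : (b ≫ g) ≫ iB = ((yon S).map s ≫ (yon S).map k') ≫ c' := by
    rw [Category.assoc, ← hcY.w, ← Category.assoc, sqV.w, Category.assoc, comm2', Category.assoc]
  obtain ⟨k, hk⟩ := (yon S).map_surjective
    (sqW.lift (b ≫ g) ((yon S).map s ≫ (yon S).map k') hwk)
  have hk1 : (yon S).map k ≫ c = b ≫ g := by rw [hk]; exact sqW.lift_fst _ _ _
  have hk2 : (yon S).map k ≫ (yon S).map t = (yon S).map s ≫ (yon S).map k' := by
    rw [hk]; exact sqW.lift_snd _ _ _
  have outerV : IsPullback (b ≫ g) ((yon S).map s) iB (b' ≫ g') := sqV.paste_horiz hcY.flip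
  have outerV' : IsPullback ((yon S).map k ≫ c) ((yon S).map s) iB ((yon S).map k' ≫ c') := by
    rw [hk1, ← comm2']; exact outerV
  have leftV : IsPullback ((yon S).map k) ((yon S).map s) ((yon S).map t) ((yon S).map k') :=
    IsPullback.of_right outerV' hk2 sqW
  have cartV : IsPullback s.left k.left k'.left t.left :=
    (((yon_isPullback_iff k s t k').1 leftV).map (Over.forget S)).flip
  -- `h`
  have hwh : (a ≫ f) ≫ iY = ((yon S).map r ≫ (yon S).map h') ≫ b' := by
    rw [Category.assoc, ← hXY.w, ← Category.assoc, sqU.w, Category.assoc, comm1', Category.assoc]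
  obtain ⟨h, hh⟩ := (yon S).map_surjective
    (sqV.lift (a ≫ f) ((yon S).map r ≫ (yon S).map h') hwh)
  have hh1 : (yon S).map h ≫ b = a ≫ f := by rw [hh]; exact sqV.lift_fst _ _ _
  have hh2 : (yon S).map h ≫ (yon S).map s = (yon S).map r ≫ (yon S).map h' := by
    rw [hh]; exact sqV.lift_snd _ _ _
  have outerU : IsPullback (a ≫ f ≫ g) ((yon S).map r) iB (a' ≫ f' ≫ g') :=
    sqU.paste_horiz hcX.flip
  have e1 : a ≫ f ≫ g = (yon S).map (h ≫ k) ≫ c := by
    rw [reassoc_of% hh1.symm, hk1.symm, CategoryTheory.Functor.map_comp, Category.assoc]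
  have e1' : a' ≫ f' ≫ g' = (yon S).map (h' ≫ k') ≫ c' := by
    rw [reassoc_of% comm1', comm2', CategoryTheory.Functor.map_comp, Category.assoc]
  have outerU' : IsPullback ((yon S).map (h ≫ k) ≫ c) ((yon S).map r) iB
      ((yon S).map (h' ≫ k') ≫ c') := by
    rw [← e1, ← e1']; exact outerU
  have hhk2 : (yon S).map (h ≫ k) ≫ (yon S).map t = (yon S).map r ≫ (yon S).map (h' ≫ k') := by
    rw [CategoryTheory.Functor.map_comp, CategoryTheory.Functor.map_comp, Category.assoc, hk2,
      reassoc_of% hh2]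
  have leftU : IsPullback ((yon S).map (h ≫ k)) ((yon S).map r) ((yon S).map t)
      ((yon S).map (h' ≫ k')) := IsPullback.of_right outerU' hhk2 sqW
  have cartU : IsPullback r.left (h ≫ k).left (h' ≫ k').left t.left :=
    (((yon_isPullback_iff (h ≫ k) r t (h' ≫ k')).1 leftU).map (Over.forget S)).flip
  have wUV : r ≫ h' = h ≫ s := (yon S).map_injective (by
    rw [CategoryTheory.Functor.map_comp, CategoryTheory.Functor.map_comp]; exact hh2.symm)
  exact ⟨{ U := U, V := V, W := W, a := a, b := b, c := c, h := h, k := k, r := r, s := s, t := t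
           sqU := sqU, sqV := sqV, sqW := sqW, comm1 := hh1.symm, comm2 := hk1.symm
           cartV := cartV, cartU := cartU, wUV := congrArg (fun m => m.left) wUV
           thick_t := hB'.property_snd c' }⟩

/-- A tower of surjective étale charts together with its base change. -/
theorem exists_atlas_bc (hX' : IsAlgSpace X') (hY' : IsAlgSpace Y') (hB' : IsAlgSpace B')
    (hcX : IsPullback iX (f ≫ g) (f' ≫ g') iB) (hcY : IsPullback iY g g' iB)
    (w : iX ≫ f' = f ≫ iY) (hB : IsThickMor iB) :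
    ∃ (U' V' W' : Over S) (a' : (yon S).obj U' ⟶ X') (b' : (yon S).obj V' ⟶ Y')
      (c' : (yon S).obj W' ⟶ B') (h' : U' ⟶ V') (k' : V' ⟶ W'),
      RepWith @Etale a' ∧ RepWith @Surjective a' ∧ RepWith @Etale b' ∧ RepWith @Etale c' ∧
      a' ≫ f' = (yon S).map h' ≫ b' ∧ b' ≫ g' = (yon S).map k' ≫ c' ∧
      Nonempty (BC iX iY iB f f' g g' a' b' c' h' k') := by
  obtain ⟨W', c', hc'e, hc's⟩ := hB'.atlas
  obtain ⟨V', b', k', hb'e, hb's, comm2'⟩ := exists_chart_diagram_surj hY' g' hc'e hc's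
  obtain ⟨U', a', h', ha'e, ha's, comm1'⟩ := exists_chart_diagram_surj hX' f' hb'e hb's
  exact ⟨U', V', W', a', b', c', h', k', ha'e, ha's, hb'e, hc'e, comm1', comm2',
    nonempty_bc hcX hcY w hB a' b' c' h' k' comm1' comm2'⟩

/-- the composite chart of a tower -/
theorem tower_comp {Q : MorphismProperty Scheme.{u}} (hQ : LocP Q (f' ≫ g'))
    {U' V' W' : Over S} {a' : (yon S).obj U' ⟶ X'} {b' : (yon S).obj V' ⟶ Y'}
    {c' : (yon S).obj W' ⟶ B'} {h' : U' ⟶ V'} {k' : V' ⟶ W'}
    (ha' : RepWith @Etale a') (hc' : RepWith @Etale c')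
    (comm1' : a' ≫ f' = (yon S).map h' ≫ b') (comm2' : b' ≫ g' = (yon S).map k' ≫ c') :
    Q (h'.left ≫ k'.left) :=
  hQ a' c' (h' ≫ k') ha' hc' (by
    rw [reassoc_of% comm1', comm2', CategoryTheory.Functor.map_comp, Category.assoc])

/-- **Transfer of an étale-local property along a thickening of the base.** -/
theorem locP_iff_of_tower (hX' : IsAlgSpace X') (hY' : IsAlgSpace Y') (hB' : IsAlgSpace B')
    (hcX : IsPullback iX (f ≫ g) (f' ≫ g') iB) (hcY : IsPullback iY g g' iB)
    (w : iX ≫ f' = f ≫ iY) (hB : IsThickMor iB)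
    (P : MorphismProperty Scheme.{u}) [P.IsStableUnderBaseChange] [P.IsStableUnderComposition]
    [IsEtaleLocalSource P] (hP : (@Etale : MorphismProperty Scheme.{u}) ≤ P)
    (hdef : ∀ {U' V' W' : Over S} (a' : (yon S).obj U' ⟶ X') (b' : (yon S).obj V' ⟶ Y')
      (c' : (yon S).obj W' ⟶ B') (h' : U' ⟶ V') (k' : V' ⟶ W'), RepWith @Etale a' →
      RepWith @Etale b' → RepWith @Etale c' → a' ≫ f' = (yon S).map h' ≫ b' →
      b' ≫ g' = (yon S).map k' ≫ c' →
      ∀ T : BC iX iY iB f f' g g' a' b' c' h' k', P T.h.left → P h'.left) :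
    LocP P f ↔ LocP P f' := by
  obtain ⟨U', V', W', a', b', c', h', k', ha'e, ha's, hb'e, hc'e, comm1', comm2', ⟨T⟩⟩ :=
    exists_atlas_bc hX' hY' hB' hcX hcY w hB
  have hae := T.a_etale ha'e
  have has := T.a_surj ha's
  have hbe := T.b_etale hb'e
  constructor
  · intro hf
    have h1 : P T.h.left := hf T.a T.b T.h hae hbe T.comm1
    have h2 : P h'.left := hdef a' b' c' h' k' ha'e hb'e hc'e comm1' comm2' T h1
    exact locP_of_one_chart hP a' b' h' ha'e ha's hb'e comm1' h2
  · intro hf'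
    have h2 : P h'.left := hf' a' b' h' ha'e hb'e comm1'
    have h1 : P T.h.left := MorphismProperty.of_isPullback (P := P) T.sqUV h2
    exact locP_of_one_chart hP T.a T.b T.h hae has hbe T.comm1 h1

/-- **Transfer of the relative dimension.** -/
theorem hasAtMor_dim_iff (hX' : IsAlgSpace X') (hY' : IsAlgSpace Y') (hB' : IsAlgSpace B')
    (hcX : IsPullback iX (f ≫ g) (f' ≫ g') iB) (hcY : IsPullback iY g g' iB)
    (w : iX ≫ f' = f ≫ iY) (hB : IsThickMor iB) (e : WithBot ℕ∞)
    (hf : LocP @LocallyOfFiniteType f) (hf' : LocP @LocallyOfFiniteType f') :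
    (∀ x, HasAtMor (fun _ _ h u => FlatMor.fibreDimAt h u = e) f x) ↔
      (∀ x', HasAtMor (fun _ _ h u => FlatMor.fibreDimAt h u = e) f' x') := by
  obtain ⟨U', V', W', a', b', c', h', k', ha'e, ha's, hb'e, hc'e, comm1', comm2', ⟨T⟩⟩ :=
    exists_atlas_bc hX' hY' hB' hcX hcY w hB
  have hae := T.a_etale ha'e
  have has := T.a_surj ha's
  have hbe := T.b_etale hb'e
  have hths := T.thick_s
  have hthr := T.thick_r
  haveI := hthr.2
  constructor
  · intro hd x'
    obtain ⟨u', rfl⟩ := ofPt_surjective_of_repWith ha's x'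
    obtain ⟨u, rfl⟩ := T.r.left.surjective u'
    have h1 := Groth.Agent.H1.AlgSpDim.hasAtMor_chart
      (Groth.Agent.H1.AlgSpDim.etLocal_fibreDimAt_eq e) hf T.a T.b T.h hae hbe T.comm1 u (hd _)
    rw [fibreDimAt_eq_of_isPullback T.sqUV hths u] at h1
    exact ⟨U', V', a', b', h', _, ha'e, hb'e, comm1', rfl, h1⟩
  · intro hd' x
    obtain ⟨u, rfl⟩ := ofPt_surjective_of_repWith has x
    have h1 := Groth.Agent.H1.AlgSpDim.hasAtMor_chart
      (Groth.Agent.H1.AlgSpDim.etLocal_fibreDimAt_eq e) hf' a' b' h' ha'e hb'e comm1'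
      (T.r.left.base u) (hd' _)
    rw [← fibreDimAt_eq_of_isPullback T.sqUV hths u] at h1
    exact ⟨T.U, T.V, T.a, T.b, T.h, u, hae, hbe, T.comm1, rfl, h1⟩

/-- If `f'` and `f' ≫ g'` are flat then `g'` is flat at every point of the image of `f'`. -/
theorem isFlatAtMor_of_flat (hX' : IsAlgSpace X') (hf' : LocP @Flat f')
    (hflat : LocP @Flat (f' ≫ g')) (x' : Points X') :
    IsFlatAtMor g' (Points.map f' x') := by
  intro V₁ W₁ b₁ c₁ k₁ v₁ hb₁ hc₁ comm hv
  obtain ⟨U₁, a₁, h₁, cc, ha₁, comm₁, hcce, hccs, hcc1, hcc2⟩ := exists_chart_diagram hX' f' hb₁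
  have sqP := IsPullback.of_hasPullback f' b₁
  have h0 : Points.map f' x' = Points.map b₁ (Points.ofScheme V₁ v₁) := by
    rw [← Points.ofPt_eq_map_ofScheme]; exact hv.symm
  obtain ⟨z, hz1, hz2⟩ := points_pullback_surjective sqP x' (Points.ofScheme V₁ v₁) h0
  obtain ⟨u₁, hu₁⟩ := ofPt_surjective_of_repWith hccs z
  have hv1 : h₁.left.base u₁ = v₁ := by
    have e : Points.map (pullback.snd f' b₁) (Points.ofPt cc u₁) = Points.ofScheme V₁ v₁ := by
      rw [hu₁]; exact hz2
    rw [Points.map_ofPt, hcc2] at e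
    have e2 := ofPt_yon_map_comp h₁ (𝟙 ((yon S).obj V₁)) u₁
    rw [Category.comp_id] at e2
    rw [e2] at e
    exact (Points.schemeHomeo V₁).injective e
  have hfl1 : Flat h₁.left := hf' a₁ b₁ h₁ ha₁ hb₁ comm₁
  have hfl2 : Flat (h₁.left ≫ k₁.left) := tower_comp hflat ha₁ hc₁ comm₁ comm
  subst hv1
  exact Groth.Agent.H1.EtNhd.stalk_flat_of_comp k₁.left h₁.left u₁ (Flat.stalkMap h₁.left u₁)
    (Flat.stalkMap (h₁.left ≫ k₁.left) u₁)

end Transfer

end Groth.Agent.H1.DefSp
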