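import Mathlib
import Groth.Agent.Lib.Helper1.NilpotentBaseChange
import Groth.Agent.Lib.Helper1.ThickeningLocal

/-!
# Finite type descends along a cartesian square whose *upper* thickening has nilpotent ideal
(helper1)
-/

universe u
open CategoryTheory Limits AlgebraicGeometry

namespace Groth.Agent.H1.DefSp

section alg

variable {R M : Type*} [CommRing R] [AddCommGroup M] [Module R M]

lemma le_of_le_sup_smul_of_pow_smul_eq_bot {I : Ideal R} {N N' : Submodule R M} (n : ℕ)
    (hn : (I ^ n) • N = ⊥) (h : N ≤ N' ⊔ I • N) : N ≤ N' := by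
  have key : ∀ k : ℕ, N ≤ N' ⊔ (I ^ k) • N := by
    intro k
    induction k with
    | zero => simp
    | succ k ih =>
      calc N ≤ N' ⊔ (I ^ k) • N := ih
        _ ≤ N' ⊔ (I ^ k) • (N' ⊔ I • N) := by gcongr
        _ = N' ⊔ ((I ^ k) • N' ⊔ (I ^ k) • (I • N)) := by rw [Submodule.smul_sup]
        _ ≤ N' ⊔ (I ^ (k + 1)) • N := by
          rw [← Submodule.mul_smul, ← pow_succ]
          refine sup_le le_sup_left (sup_le ?_ le_sup_right)
          exact Submodule.smul_le_right.trans le_sup_left
  have := key n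
  rwa [hn, sup_bot_eq] at this

end alg

section pushout

variable (A' A B' B : Type*) [CommRing A'] [CommRing A] [CommRing B'] [CommRing B]
  [Algebra A' A] [Algebra A' B'] [Algebra A B] [Algebra B' B] [Algebra A' B]
  [IsScalarTower A' A B] [IsScalarTower A' B' B] [Algebra.IsPushout A' A B' B]

lemma finiteType_of_isPushout_of_isNilpotent_top (hsurj : Function.Surjective (algebraMap A' A))
    (hI : IsNilpotent (RingHom.ker (algebraMap B' B))) [Algebra.FiniteType A B] :
    Algebra.FiniteType A' B' := by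
  have hσ := Groth.Agent.H1.surjective_algebraMap_of_isPushout A' A B' B hsurj
  have hK := Groth.Agent.H1.ker_algebraMap_of_isPushout A' A B' B hsurj
  have : Algebra.FiniteType A' A := Algebra.FiniteType.of_surjective (Algebra.ofId A' A) hsurj
  have : Algebra.FiniteType A' B := Algebra.FiniteType.trans (S := A) inferInstance inferInstance
  obtain ⟨s, hs⟩ := (this : Algebra.FiniteType A' B).out
  choose g hg using hσ
  classical
  let s' : Finset B' := s.image g
  let C : Subalgebra A' B' := Algebra.adjoin A' (s' : Set B')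
  have hC : C.map (IsScalarTower.toAlgHom A' B' B) = ⊤ := by
    rw [eq_top_iff, ← hs, AlgHom.map_adjoin]
    apply Algebra.adjoin_mono
    intro x hx
    refine ⟨g x, ?_, hg x⟩
    simp only [s', Finset.coe_image]
    exact ⟨x, hx, rfl⟩
  have h1 : (⊤ : Submodule A' B') ≤ Subalgebra.toSubmodule C ⊔
      (RingHom.ker (algebraMap A' A)) • ⊤ := by
    intro b _
    have : algebraMap B' B b ∈ C.map (IsScalarTower.toAlgHom A' B' B) := by rw [hC]; trivial
    obtain ⟨c, hc, hcb⟩ := this
    rw [Submodule.mem_sup]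
    refine ⟨c, hc, b - c, ?_, by ring⟩
    rw [Ideal.smul_top_eq_map]
    change b - c ∈ (RingHom.ker (algebraMap A' A)).map (algebraMap A' B')
    rw [← hK, RingHom.mem_ker, map_sub, sub_eq_zero]
    exact hcb.symm
  obtain ⟨n, hn⟩ := hI
  have hpow : (RingHom.ker (algebraMap A' A)) ^ n • (⊤ : Submodule A' B') = ⊥ := by
    rw [Ideal.smul_top_eq_map, Ideal.map_pow, ← hK, hn]
    simp
  have h2 := le_of_le_sup_smul_of_pow_smul_eq_bot n hpow h1
  refine ⟨⟨s', ?_⟩⟩
  rw [eq_top_iff]
  intro b _
  exact h2 (Submodule.mem_top (x := b))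

end pushout

section catPushout

variable {A' A B' B : CommRingCat.{u}} {ψ : A' ⟶ B'} {φ : A' ⟶ A} {σ : B' ⟶ B} {τ : A ⟶ B}

lemma finiteType_of_isPushout_cat_top (h : IsPushout ψ φ σ τ) (hφ : Function.Surjective φ)
    (hI : IsNilpotent (RingHom.ker σ.hom)) (hτ : τ.hom.FiniteType) : ψ.hom.FiniteType := by
  let := ψ.hom.toAlgebra
  let := φ.hom.toAlgebra
  let := σ.hom.toAlgebra
  let := τ.hom.toAlgebra
  let := (ψ ≫ σ).hom.toAlgebra
  obtain ⟨_, _, _⟩ := Groth.Agent.H1.algebraIsPushout_of_isPushout h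
  have : Algebra.FiniteType A B := hτ
  exact finiteType_of_isPushout_of_isNilpotent_top A' A B' B hφ hI

end catPushout

section schemeLevel

variable {X X' S S' : Scheme.{u}} {iX : X ⟶ X'} {iS : S ⟶ S'} {f : X ⟶ S} {f' : X' ⟶ S'}

/-- `f` locally of finite type implies `f'` locally of finite type, when the thickening
`X → X'` has nilpotent ideal (and `S → S'` is any thickening). -/
theorem locallyOfFiniteType_of_nilpotent_top (hS : MoreMor.IsThickening iS)
    (hX : MoreMor.IsFiniteOrderThickening iX)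
    (hc : IsPullback iX f f' iS) (hf : LocallyOfFiniteType f) : LocallyOfFiniteType f' := by
  have := hS.1
  rw [HasRingHomProperty.iff_appLE (P := @LocallyOfFiniteType)]
  intro U' V' e
  have hpo := Groth.Agent.H1.isPushout_appLE_of_isPullback hc U'.2 V'.2 e
  have := hX.1.1
  have h1 := HasRingHomProperty.appLE (P := @LocallyOfFiniteType) f hf
    ⟨iS ⁻¹ᵁ U'.1, U'.2.preimage iS⟩ ⟨iX ⁻¹ᵁ V'.1, V'.2.preimage iX⟩
    (Groth.Agent.H1.preimage_le_of_comm hc.w e)
  exact finiteType_of_isPushout_cat_top hpo (iS.app_surjective U'.1 U'.2)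
    (Groth.Agent.H1.IsFiniteOrderThickening.isNilpotent_ker_app hX V'.2) h1

end schemeLevel

end Groth.Agent.H1.DefSp
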