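import Mathlib
import Groth.Agent.Lib.Helper1.FlatNilpotent
import Groth.Agent.Lib.Helper1.ThickeningMore

/-!
# Deformations over finite order thickenings: flatness, isomorphisms, open immersions (helper1)
-/

universe u v
open TensorProduct Function CategoryTheory Limits AlgebraicGeometry MorphismProperty

namespace Groth.Agent.H1

/-- Transitivity of base change for flatness: if `S₂ ⊗[R] M` is flat over `S₂` and `S₁` is an
`S₂`-algebra (compatibly with `R`), then `S₁ ⊗[R] M` is flat over `S₁`. -/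
lemma flat_tensor_of_flat_tensor {R S₁ S₂ M : Type*} [CommRing R] [CommRing S₁] [CommRing S₂]
    [Algebra R S₁] [Algebra R S₂] [Algebra S₂ S₁] [IsScalarTower R S₂ S₁]
    [AddCommGroup M] [Module R M] [Module.Flat S₂ (S₂ ⊗[R] M)] : Module.Flat S₁ (S₁ ⊗[R] M) :=
  Module.Flat.of_linearEquiv (AlgebraTensorModule.cancelBaseChange R S₂ S₁ S₁ M).symm

/-- Fibrewise flatness criterion in pushout form: `A' → B' → C'`, `I ⊆ A'` nilpotent,
`B = B'/IB'`, `C = B ⊗ C'`; if `C'` is flat over `A'` and `C` is flat over `B` then `C'` is flat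
over `B'`. -/
theorem flat_of_isPushout_of_isNilpotent (A' B' C' B C : Type*) [CommRing A'] [CommRing B']
    [CommRing C'] [CommRing B] [CommRing C] [Algebra A' B'] [Algebra B' C'] [Algebra A' C']
    [IsScalarTower A' B' C'] [Algebra B' B] [Algebra B C] [Algebra C' C] [Algebra B' C]
    [IsScalarTower B' B C] [IsScalarTower B' C' C] [Algebra.IsPushout B' B C' C]
    (hsurj : Surjective (algebraMap B' B)) (I : Ideal A') (hI : IsNilpotent I)
    (hker : RingHom.ker (algebraMap B' B) = I.map (algebraMap A' B'))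
    [Module.Flat A' C'] [Module.Flat B C] : Module.Flat B' C' := by
  have h1 : Module.Flat B (B ⊗[B'] C') :=
    Module.Flat.of_linearEquiv (Algebra.IsPushout.equiv B' B C' C).toLinearEquiv
  set J := I.map (algebraMap A' B') with hJ
  -- `B' ⧸ J` is a `B`-algebra (in fact isomorphic to `B`)
  let e : (B' ⧸ RingHom.ker (algebraMap B' B)) ≃ₐ[B'] B :=
    Ideal.quotientKerAlgEquivOfSurjective (f := Algebra.ofId B' B) hsurj
  let e' : B →ₐ[B'] (B' ⧸ J) :=
    (Ideal.quotientEquivAlgOfEq B' hker).toAlgHom.comp e.symm.toAlgHom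
  let _ : Algebra B (B' ⧸ J) := e'.toRingHom.toAlgebra
  have : IsScalarTower B' B (B' ⧸ J) := .of_algebraMap_eq' e'.comp_algebraMap.symm
  have h2 : Module.Flat (B' ⧸ J) ((B' ⧸ J) ⊗[B'] C') := flat_tensor_of_flat_tensor (S₂ := B)
  exact flat_of_isNilpotent_of_flat_of_flat_quotient I hI

lemma flat_of_isPushout_cat {A' B' C' B C : CommRingCat.{u}} {α : A' ⟶ B'} {ψ : B' ⟶ C'}
    {φ : B' ⟶ B} {σ : C' ⟶ C} {τ : B ⟶ C} (h : IsPushout ψ φ σ τ) (hφ : Surjective φ)
    (I : Ideal A') (hI : IsNilpotent I) (hker : RingHom.ker φ.hom = I.map α.hom)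
    (h1 : (α ≫ ψ).hom.Flat) (h2 : τ.hom.Flat) : ψ.hom.Flat := by
  let := ψ.hom.toAlgebra
  let := φ.hom.toAlgebra
  let := σ.hom.toAlgebra
  let := τ.hom.toAlgebra
  let := (ψ ≫ σ).hom.toAlgebra
  let := α.hom.toAlgebra
  let := (α ≫ ψ).hom.toAlgebra
  obtain ⟨_, _, _⟩ := algebraIsPushout_of_isPushout h
  have : IsScalarTower A' B' C' := .of_algebraMap_eq' rfl
  have : Module.Flat A' C' := h1
  have : Module.Flat B C := h2
  have := flat_of_isPushout_of_isNilpotent A' B' C' B C hφ I hI hker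
  exact this

section deform

variable {X X' Y Y' S S' : Scheme.{u}} {iX : X ⟶ X'} {iY : Y ⟶ Y'} {iS : S ⟶ S'}
    {f : X ⟶ Y} {f' : X' ⟶ Y'} {g : Y ⟶ S} {g' : Y' ⟶ S'}

lemma isPullback_of_deformation (hcX : IsPullback iX (f ≫ g) (f' ≫ g') iS)
    (hcY : IsPullback iY g g' iS) (w : iX ≫ f' = f ≫ iY) : IsPullback iX f f' iY :=
  IsPullback.of_bot hcX w hcY

theorem flat_of_deformation (hS : MoreMor.IsFiniteOrderThickening iS)
    (hcX : IsPullback iX (f ≫ g) (f' ≫ g') iS) (hcY : IsPullback iY g g' iS)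
    (w : iX ≫ f' = f ≫ iY) [Flat (f' ≫ g')] (hf : Flat f) : Flat f' := by
  have hXY := isPullback_of_deformation hcX hcY w
  have hY : MoreMor.IsFiniteOrderThickening iY := IsFiniteOrderThickening.of_isPullback hcY.flip hS
  have := hS.1.1
  have := hY.1.1
  have hX : MoreMor.IsThickening iX := IsThickening.of_isPullback hXY.flip hY.1
  have := hX.1
  rw [HasRingHomProperty.iff_exists_appLE (P := @Flat)
    (RingHom.Flat.stableUnderComposition.stableUnderCompositionWithLocalizationAway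
      RingHom.Flat.holdsForLocalizationAway).left]
  intro x'
  obtain ⟨_, ⟨W', hW', rfl⟩, hxW, -⟩ :=
    S'.isBasis_affineOpens.exists_subset_of_mem_open (Set.mem_univ (g' (f' x'))) isOpen_univ
  obtain ⟨_, ⟨U', hU', rfl⟩, hxU, hUW : U' ≤ g' ⁻¹ᵁ W'⟩ :=
    Y'.isBasis_affineOpens.exists_subset_of_mem_open hxW (g' ⁻¹ᵁ W').isOpen
  obtain ⟨_, ⟨V', hV', rfl⟩, hxV, hVU : V' ≤ f' ⁻¹ᵁ U'⟩ :=
    X'.isBasis_affineOpens.exists_subset_of_mem_open hxU (f' ⁻¹ᵁ U').isOpen
  refine ⟨⟨U', hU'⟩, ⟨V', hV'⟩, hxV, hVU, ?_⟩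
  have poY := isPushout_appLE_of_isPullback hcY hW' hU' hUW
  have poX := isPushout_appLE_of_isPullback hXY hU' hV' hVU
  have hker := ker_of_isPushout_cat poY (iS.app_surjective W' hW')
  have hVW : V' ≤ (f' ≫ g') ⁻¹ᵁ W' := fun x hx => hUW (hVU hx)
  have h1 := HasRingHomProperty.appLE (P := @Flat) (f' ≫ g') inferInstance ⟨W', hW'⟩ ⟨V', hV'⟩ hVW
  have h2 := HasRingHomProperty.appLE (P := @Flat) f hf ⟨iY ⁻¹ᵁ U', hU'.preimage iY⟩
    ⟨iX ⁻¹ᵁ V', hV'.preimage iX⟩ (preimage_le_of_comm hXY.w hVU)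
  have h1' : (g'.appLE W' U' hUW ≫ f'.appLE U' V' hVU).hom.Flat := by
    rw [Scheme.Hom.appLE_comp_appLE]
    exact h1
  exact flat_of_isPushout_cat poX (iY.app_surjective U' hU') _
    (IsFiniteOrderThickening.isNilpotent_ker_app hS hW') hker h1' h2

end deform

section deform2

variable {X X' Y Y' : Scheme.{u}} {iX : X ⟶ X'} {iY : Y ⟶ Y'} {f : X ⟶ Y} {f' : X' ⟶ Y'}

theorem isIso_of_finiteOrderThickening_of_flat (hY : MoreMor.IsFiniteOrderThickening iY)
    (hXY : IsPullback iX f f' iY) [Flat f'] (hf : IsIso f) : IsIso f' := by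
  have hX : MoreMor.IsThickening iX := IsThickening.of_isPullback hXY.flip hY.1
  have := hY.1.1
  have := hY.1.2
  have := hX.1
  have := hX.2
  have : Mono f' := mono_of_finiteOrderThickening hY hXY inferInstance
  have : QuasiCompact f' := by
    refine (thickening_square_iff iX iY f f' hX hY.1 hXY.w @QuasiCompact ?_ ?_).mp inferInstance
    · intro A B j hj
      have := hj.1
      infer_instance
    · intro A B C j g hj h
      have := hj.2
      exact quasiCompact_of_comp_surjective j g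
  have : AlgebraicGeometry.Surjective f' := by
    have : AlgebraicGeometry.Surjective (iX ≫ f') := by rw [hXY.w]; infer_instance
    exact AlgebraicGeometry.Surjective.of_comp iX f'
  exact Flat.isIso_of_surjective_of_mono f'

set_option backward.isDefEq.respectTransparency.types false in
theorem isOpenImmersion_of_finiteOrderThickening_of_flat (hY : MoreMor.IsFiniteOrderThickening iY)
    (hXY : IsPullback iX f f' iY) [Flat f'] (hf : IsOpenImmersion f) : IsOpenImmersion f' := by
  have hX : MoreMor.IsThickening iX := IsThickening.of_isPullback hXY.flip hY.1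
  have := hY.1.1
  have := hY.1.2
  have := hX.2
  let V' : Y'.Opens := ⟨iY '' (Set.range f),
    (IsThickening.isHomeomorph hY.1).isOpenMap _ f.isOpenEmbedding.isOpen_range⟩
  have hV : (iY ⁻¹ᵁ V' : Set Y) = Set.range f := by
    ext y
    change iY y ∈ iY '' _ ↔ _
    exact iY.isClosedEmbedding.injective.mem_set_image
  have hrange' : Set.range f' ⊆ Set.range V'.ι := by
    rintro _ ⟨x', rfl⟩
    obtain ⟨x, rfl⟩ := iX.surjective x'
    rw [Scheme.Opens.range_ι]
    change f' (iX x) ∈ iY '' _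
    rw [← Scheme.Hom.comp_apply, hXY.w, Scheme.Hom.comp_apply]
    exact ⟨f x, ⟨x, rfl⟩, rfl⟩
  let f'' : X' ⟶ V' := IsOpenImmersion.lift V'.ι f' hrange'
  have hf'' : f'' ≫ V'.ι = f' := IsOpenImmersion.lift_fac _ _ _
  have hrange : Set.range f ⊆ Set.range (iY ⁻¹ᵁ V').ι := by
    rw [Scheme.Opens.range_ι, hV]
  let g : X ⟶ (iY ⁻¹ᵁ V') := IsOpenImmersion.lift (iY ⁻¹ᵁ V').ι f hrange
  have hg : g ≫ (iY ⁻¹ᵁ V').ι = f := IsOpenImmersion.lift_fac _ _ _
  have hgiso : IsIso g := by
    have : IsOpenImmersion g := IsOpenImmersion.of_comp g (iY ⁻¹ᵁ V').ι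
    have : Epi g.base := by
      rw [TopCat.epi_iff_surjective]
      rintro ⟨y, hy⟩
      have : y ∈ Set.range f := by rw [← hV]; exact hy
      obtain ⟨x, rfl⟩ := this
      refine ⟨x, ?_⟩
      apply (iY ⁻¹ᵁ V').ι.isOpenEmbedding.injective
      rw [← Scheme.Hom.comp_apply, hg]
      rfl
    exact IsOpenImmersion.isIso g
  have hbot : IsPullback (iY ∣_ V') (iY ⁻¹ᵁ V').ι V'.ι iY := isPullback_morphismRestrict iY V'
  have hth : MoreMor.IsFiniteOrderThickening (iY ∣_ V') :=
    IsFiniteOrderThickening.of_isPullback hbot.flip hY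
  have comm : iX ≫ f'' = g ≫ (iY ∣_ V') := by
    rw [← cancel_mono V'.ι, Category.assoc, Category.assoc, hf'', hbot.w, ← Category.assoc, hg,
      hXY.w]
  have htop : IsPullback iX g f'' (iY ∣_ V') := by
    refine IsPullback.of_bot ?_ comm hbot
    rw [hg, hf'']
    exact hXY
  have : Flat f'' := by
    have : Flat (f'' ≫ V'.ι) := by rw [hf'']; infer_instance
    exact of_postcomp (W := @Flat) (W' := MorphismProperty.monomorphisms Scheme.{u}) f'' V'.ι
      (inferInstanceAs (Mono V'.ι)) this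
  have : IsIso f'' := isIso_of_finiteOrderThickening_of_flat hth htop hgiso
  rw [← hf'']
  infer_instance

end deform2

end Groth.Agent.H1
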