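import Mathlib
import Groth.Agent.Lib.Helper1.Deformation
import Groth.Agent.Lib.Helper1.FibreFree
import Groth.Agent.S1381

set_option autoImplicit false

universe u

open TensorProduct Function CategoryTheory Limits AlgebraicGeometry

namespace Groth.Agent.H1

section kerfg

/-- Let `π : P' → C'` be a surjection onto an `A'`-flat algebra and `I ⊆ A'` a nilpotent ideal.
If the image of `ker π` in `P'/IP'` is finitely generated then so is `ker π`. -/
theorem ker_fg_of_map_fg_of_flat {A' P' P C' : Type*} [CommRing A'] [CommRing P'] [CommRing P]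
    [CommRing C'] [Algebra A' P'] [Algebra A' C'] (I : Ideal A') (hI : IsNilpotent I)
    (π : P' →ₐ[A'] C') (hπ : Surjective π) [Module.Flat A' C']
    (φ : P' →+* P) (hφ : Surjective φ) (hker : RingHom.ker φ = I.map (algebraMap A' P'))
    (hfg : ((RingHom.ker π.toRingHom).map φ).FG) : (RingHom.ker π.toRingHom).FG := by
  classical
  set J' : Ideal P' := RingHom.ker π.toRingHom with hJ'
  set K : Ideal P' := I.map (algebraMap A' P') with hK
  have hKnil : IsNilpotent K := by
    obtain ⟨n, hn⟩ := hI
    refine ⟨n, ?_⟩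
    rw [hK, ← Ideal.map_pow, hn, Ideal.zero_eq_bot, Ideal.map_bot]
    rfl
  obtain ⟨t, ht⟩ := hfg
  have hmem : ∀ y ∈ t, ∃ x ∈ J', φ x = y := fun y hy =>
    (Ideal.mem_map_iff_of_surjective φ hφ).mp (ht ▸ Ideal.subset_span hy)
  choose! g hgJ hgφ using hmem
  let N₀ : Ideal P' := Ideal.span (t.image g)
  have hN₀ : N₀ ≤ J' := by
    refine Ideal.span_le.mpr ?_
    intro x hx
    simp only [Finset.coe_image, Set.mem_image, Finset.mem_coe] at hx
    obtain ⟨y, hy, rfl⟩ := hx
    exact hgJ y hy
  have hmap : J'.map φ ≤ N₀.map φ := by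
    rw [← ht, Ideal.span_le]
    intro y hy
    rw [← hgφ y hy]
    exact Ideal.mem_map_of_mem _ (Ideal.subset_span (Finset.mem_coe.mpr (Finset.mem_image_of_mem g hy)))
  have key : J' ≤ N₀ ⊔ K • J' := by
    intro x hx
    have h1 : φ x ∈ N₀.map φ := hmap (Ideal.mem_map_of_mem _ hx)
    obtain ⟨y, hy, hyx⟩ := (Ideal.mem_map_iff_of_surjective φ hφ).mp h1
    have hz : x - y ∈ J' := J'.sub_mem hx (hN₀ hy)
    have hzK : x - y ∈ K := by
      rw [← hker, RingHom.mem_ker, map_sub, hyx, sub_self]
    have hzI : x - y ∈ I • (⊤ : Submodule A' P') := by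
      rw [Ideal.smul_top_eq_map]
      exact hzK
    have hz0 : π.toLinearMap (x - y) = 0 := hz
    have h2 := FibreFree.mem_smul_top_ker_of_flat (A := A') (F := P') (N := C') π.toLinearMap hπ I
      (x - y) hz0 hzI
    have h3 : ∀ w : LinearMap.ker π.toLinearMap, w ∈ I • (⊤ : Submodule A' (LinearMap.ker π.toLinearMap)) →
        (w : P') ∈ K • J' := by
      intro w hw
      refine Submodule.smul_induction_on (p := fun w : LinearMap.ker π.toLinearMap => (w : P') ∈ K • J') hw ?_ ?_
      · intro a ha w _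
        have : ((a • w : LinearMap.ker π.toLinearMap) : P') = algebraMap A' P' a * (w : P') := by
          rw [Submodule.coe_smul, Algebra.smul_def]
        rw [this, smul_eq_mul]
        exact Ideal.mul_mem_mul (Ideal.mem_map_of_mem _ ha) w.2
      · intro w₁ w₂ h₁ h₂
        rw [Submodule.coe_add]
        exact Submodule.add_mem _ h₁ h₂
    have h4 := h3 ⟨x - y, hz0⟩ h2
    have : x = y + (x - y) := by ring
    rw [this]
    exact Submodule.add_mem_sup hy h4
  have hle : J' ≤ N₀ := Submodule.le_of_le_sup_smul_of_isNilpotent hKnil key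
  have : J' = N₀ := le_antisymm hle hN₀
  rw [this]
  exact ⟨t.image g, rfl⟩

end kerfg

section fp

/-- Deformation of finite presentation: `A' → B' → C'`, `I ⊆ A'` nilpotent, `B = B'/IB'`,
`C = B ⊗ C'`; if `C'` is flat over `A'` and `C` is finitely presented over `B` then `C'` is
finitely presented over `B'`. -/
theorem finitePresentation_of_isPushout_of_isNilpotent (A' B' C' B C : Type*) [CommRing A']
    [CommRing B'] [CommRing C'] [CommRing B] [CommRing C] [Algebra A' B'] [Algebra B' C']
    [Algebra A' C'] [IsScalarTower A' B' C'] [Algebra B' B] [Algebra B C] [Algebra C' C]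
    [Algebra B' C] [IsScalarTower B' B C] [IsScalarTower B' C' C] [Algebra.IsPushout B' B C' C]
    (hsurj : Surjective (algebraMap B' B)) (I : Ideal A') (hI : IsNilpotent I)
    (hker : RingHom.ker (algebraMap B' B) = I.map (algebraMap A' B'))
    [Module.Flat A' C'] [Algebra.FinitePresentation B C] : Algebra.FinitePresentation B' C' := by
  classical
  have hI' : IsNilpotent (RingHom.ker (algebraMap B' B)) := by
    rw [hker]
    obtain ⟨n, hn⟩ := hI
    refine ⟨n, ?_⟩
    rw [← Ideal.map_pow, hn, Ideal.zero_eq_bot, Ideal.map_bot]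
    rfl
  haveI ft : Algebra.FiniteType B' C' :=
    finiteType_of_isPushout_of_isNilpotent B' B C' C hsurj hI'
  obtain ⟨n, π, hπ⟩ := Algebra.FiniteType.iff_quotient_mvPolynomial''.mp ft
  have hσ : Surjective (algebraMap C' C) := surjective_algebraMap_of_isPushout B' B C' C hsurj
  have hKC : RingHom.ker (algebraMap C' C) =
      (RingHom.ker (algebraMap B' B)).map (algebraMap B' C') :=
    ker_algebraMap_of_isPushout B' B C' C hsurj
  let φ : MvPolynomial (Fin n) B' →+* MvPolynomial (Fin n) B := MvPolynomial.map (algebraMap B' B)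
  have hφ : Surjective φ := MvPolynomial.map_surjective _ hsurj
  let ρ : MvPolynomial (Fin n) B →ₐ[B] C :=
    MvPolynomial.aeval (fun i => algebraMap C' C (π (MvPolynomial.X i)))
  have hρφ : ∀ x, ρ (φ x) = algebraMap C' C (π x) := by
    intro x
    induction x using MvPolynomial.induction_on with
    | C a =>
      simp only [φ, ρ, MvPolynomial.map_C, MvPolynomial.aeval_C]
      rw [← MvPolynomial.algebraMap_eq, AlgHom.commutes, ← IsScalarTower.algebraMap_apply,
        ← IsScalarTower.algebraMap_apply]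
    | add p q hp hq => rw [map_add, map_add, map_add, map_add, hp, hq]
    | mul_X p i hp =>
      rw [map_mul, map_mul, map_mul, map_mul, hp]
      congr 1
      simp [φ, ρ]
  have hρ : Surjective ρ := by
    intro c
    obtain ⟨c', rfl⟩ := hσ c
    obtain ⟨x, rfl⟩ := hπ c'
    exact ⟨φ x, hρφ x⟩
  have hρfg : (RingHom.ker ρ.toRingHom).FG := Algebra.FinitePresentation.ker_fG_of_surjective ρ hρ
  -- the algebra structures over `A'`
  let π' : MvPolynomial (Fin n) B' →ₐ[A'] C' := π.restrictScalars A'
  have hπ' : Surjective π' := hπ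
  have hkerφ : RingHom.ker φ = I.map (algebraMap A' (MvPolynomial (Fin n) B')) := by
    rw [MvPolynomial.ker_map, hker, Ideal.map_map,
      IsScalarTower.algebraMap_eq A' B' (MvPolynomial (Fin n) B'), MvPolynomial.algebraMap_eq]
  have hCπ : algebraMap B' C' =
      (π : MvPolynomial (Fin n) B' →+* C').comp (MvPolynomial.C : B' →+* MvPolynomial (Fin n) B') := by
    ext b
    simp [← MvPolynomial.algebraMap_eq]
  have hmap : (RingHom.ker π'.toRingHom).map φ = RingHom.ker ρ.toRingHom := by
    apply le_antisymm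
    · rw [Ideal.map_le_iff_le_comap]
      intro x hx
      have hx' : π x = 0 := (RingHom.mem_ker).mp hx
      rw [Ideal.mem_comap]
      change ρ (φ x) = 0
      rw [hρφ, hx', map_zero]
    · intro y hy
      obtain ⟨x, rfl⟩ := hφ y
      have h1 : ρ (φ x) = 0 := hy
      rw [hρφ] at h1
      have h2 : π x ∈ RingHom.ker (algebraMap C' C) := h1
      rw [hKC, hCπ, ← Ideal.map_map] at h2
      · obtain ⟨z, hz, hzx⟩ := (Ideal.mem_map_iff_of_surjective
          (π : MvPolynomial (Fin n) B' →+* C') hπ).mp h2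
        have h3 : x - z ∈ RingHom.ker π'.toRingHom := by
          change π (x - z) = 0
          rw [map_sub, sub_eq_zero]
          exact hzx.symm
        have h4 : φ z = 0 := by
          have : z ∈ RingHom.ker φ := by
            rw [MvPolynomial.ker_map]
            exact hz
          exact this
        have : φ x = φ (x - z) := by rw [map_sub, h4, sub_zero]
        rw [this]
        exact Ideal.mem_map_of_mem _ h3
  have hfg := ker_fg_of_map_fg_of_flat I hI π' hπ' φ hφ hkerφ (hmap ▸ hρfg)
  have hfg' : (RingHom.ker π.toRingHom).FG := hfg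
  exact Algebra.FinitePresentation.of_surjective hπ hfg'

lemma finitePresentation_of_isPushout_cat {A' B' C' B C : CommRingCat.{u}} {α : A' ⟶ B'}
    {ψ : B' ⟶ C'} {φ : B' ⟶ B} {σ : C' ⟶ C} {τ : B ⟶ C} (h : IsPushout ψ φ σ τ)
    (hφ : Surjective φ) (I : Ideal A') (hI : IsNilpotent I)
    (hker : RingHom.ker φ.hom = I.map α.hom)
    (h1 : (α ≫ ψ).hom.Flat) (h2 : τ.hom.FinitePresentation) : ψ.hom.FinitePresentation := by
  let := ψ.hom.toAlgebra
  let := φ.hom.toAlgebra
  let := σ.hom.toAlgebra
  let := τ.hom.toAlgebra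
  let := (ψ ≫ σ).hom.toAlgebra
  let := α.hom.toAlgebra
  let := (α ≫ ψ).hom.toAlgebra
  obtain ⟨_, _, _⟩ := algebraIsPushout_of_isPushout h
  have : IsScalarTower A' B' C' := .of_algebraMap_eq' rfl
  have : Module.Flat A' C' := h1
  have : Algebra.FinitePresentation B C := h2
  have := finitePresentation_of_isPushout_of_isNilpotent A' B' C' B C hφ I hI hker
  exact this

end fp

section deformfp

variable {X X' Y Y' S S' : Scheme.{u}} {iX : X ⟶ X'} {iY : Y ⟶ Y'} {iS : S ⟶ S'}
    {f : X ⟶ Y} {f' : X' ⟶ Y'} {g : Y ⟶ S} {g' : Y' ⟶ S'}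

theorem locallyOfFinitePresentation_of_deformation (hS : MoreMor.IsFiniteOrderThickening iS)
    (hcX : IsPullback iX (f ≫ g) (f' ≫ g') iS) (hcY : IsPullback iY g g' iS)
    (w : iX ≫ f' = f ≫ iY) [Flat (f' ≫ g')] (hf : LocallyOfFinitePresentation f) :
    LocallyOfFinitePresentation f' := by
  have hXY := isPullback_of_deformation hcX hcY w
  have hY : MoreMor.IsFiniteOrderThickening iY := IsFiniteOrderThickening.of_isPullback hcY.flip hS
  have := hS.1.1
  have := hY.1.1
  have hX : MoreMor.IsThickening iX := IsThickening.of_isPullback hXY.flip hY.1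
  have := hX.1
  rw [HasRingHomProperty.iff_exists_appLE (P := @LocallyOfFinitePresentation)
    (RingHom.finitePresentation_stableUnderComposition.stableUnderCompositionWithLocalizationAway
      RingHom.finitePresentation_holdsForLocalizationAway).left]
  intro x'
  obtain ⟨_, ⟨W', hW', rfl⟩, hxW, -⟩ :=
    S'.isBasis_affineOpens.exists_subset_of_mem_open (Set.mem_univ (g' (f' x'))) isOpen_univ
  obtain ⟨_, ⟨U', hU', rfl⟩, hxU, hUW : U' ≤ g' ⁻¹ᵁ W'⟩ :=
    Y'.isBasis_affineOpens.exists_subset_of_mem_open hxW (g' ⁻¹ᵁ W').isOpen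
  obtain ⟨_, ⟨V', hV', rfl⟩, hxV, hVU : V' ≤ f' ⁻¹ᵁ U'⟩ :=
    X'.isBasis_affineOpens.exists_subset_of_mem_open hxU (f' ⁻¹ᵁ U').isOpen
  refine ⟨⟨U', hU'⟩, ⟨V', hV'⟩, hxV, hVU, ?_⟩
  have poY := isPushout_appLE_of_isPullback hcY hW' hU' hUW
  have poX := isPushout_appLE_of_isPullback hXY hU' hV' hVU
  have hker := ker_of_isPushout_cat poY (iS.app_surjective W' hW')
  have hVW : V' ≤ (f' ≫ g') ⁻¹ᵁ W' := fun x hx => hUW (hVU hx)
  have h1 := HasRingHomProperty.appLE (P := @Flat) (f' ≫ g') inferInstance ⟨W', hW'⟩ ⟨V', hV'⟩ hVW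
  have h2 := HasRingHomProperty.appLE (P := @LocallyOfFinitePresentation) f hf
    ⟨iY ⁻¹ᵁ U', hU'.preimage iY⟩
    ⟨iX ⁻¹ᵁ V', hV'.preimage iX⟩ (preimage_le_of_comm hXY.w hVU)
  have h1' : (g'.appLE W' U' hUW ≫ f'.appLE U' V' hVU).hom.Flat := by
    rw [Scheme.Hom.appLE_comp_appLE]
    exact h1
  exact finitePresentation_of_isPushout_cat poX (iY.app_surjective U' hU') _
    (IsFiniteOrderThickening.isNilpotent_ker_app hS hW') hker h1' h2

/-- the fibres of `f'` are base changes of `f` when `Y → Y'` is a thickening -/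
theorem fiberToSpecResidueField_of_isPullback_thickening (P : MorphismProperty Scheme.{u})
    [P.IsStableUnderBaseChange] (hXY : IsPullback iX f f' iY) (hY : MoreMor.IsThickening iY)
    (hf : P f) (y' : Y') : P (f'.fiberToSpecResidueField y') := by
  haveI := hY.1
  obtain ⟨y, rfl⟩ := hY.2.surj y'
  obtain ⟨σ, hσ⟩ := Groth.Agent.S1381.Aux.exists_lift_fromSpecResidueField iY y
  have P1 : IsPullback (f'.fiberι (iY y)) (f'.fiberToSpecResidueField (iY y)) f'
      (Y'.fromSpecResidueField (iY y)) := IsPullback.of_hasPullback _ _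
  let a : f'.fiber (iY y) ⟶ X := hXY.lift (f'.fiberι (iY y))
    (f'.fiberToSpecResidueField (iY y) ≫ σ) (by rw [P1.w, Category.assoc, hσ])
  have ha₁ : a ≫ iX = f'.fiberι (iY y) := hXY.lift_fst _ _ _
  have ha₂ : a ≫ f = f'.fiberToSpecResidueField (iY y) ≫ σ := hXY.lift_snd _ _ _
  have PA : IsPullback a (f'.fiberToSpecResidueField (iY y)) f σ := by
    refine IsPullback.of_right ?_ ha₂ hXY
    rw [ha₁, hσ]
    exact P1
  exact P.of_isPullback PA hf

theorem smooth_of_deformation (hS : MoreMor.IsFiniteOrderThickening iS)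
    (hcX : IsPullback iX (f ≫ g) (f' ≫ g') iS) (hcY : IsPullback iY g g' iS)
    (w : iX ≫ f' = f ≫ iY) [Flat (f' ≫ g')] (hf : Smooth f) : Smooth f' := by
  have hXY := isPullback_of_deformation hcX hcY w
  have hY : MoreMor.IsFiniteOrderThickening iY := IsFiniteOrderThickening.of_isPullback hcY.flip hS
  haveI : Flat f' := flat_of_deformation hS hcX hcY w inferInstance
  haveI : LocallyOfFinitePresentation f' :=
    locallyOfFinitePresentation_of_deformation hS hcX hcY w inferInstance
  exact Smooth.of_smooth_fiberToSpecResidueField f' fun y' =>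
    fiberToSpecResidueField_of_isPullback_thickening @Smooth hXY hY.1 hf y'

theorem etale_of_deformation (hS : MoreMor.IsFiniteOrderThickening iS)
    (hcX : IsPullback iX (f ≫ g) (f' ≫ g') iS) (hcY : IsPullback iY g g' iS)
    (w : iX ≫ f' = f ≫ iY) [Flat (f' ≫ g')] (hf : Etale f) : Etale f' := by
  have hXY := isPullback_of_deformation hcX hcY w
  have hY : MoreMor.IsFiniteOrderThickening iY := IsFiniteOrderThickening.of_isPullback hcY.flip hS
  haveI : Flat f' := flat_of_deformation hS hcX hcY w inferInstance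
  haveI : LocallyOfFinitePresentation f' :=
    locallyOfFinitePresentation_of_deformation hS hcX hcY w inferInstance
  haveI : FormallyUnramified f' := formallyUnramified_of_finiteOrderThickening hY hXY inferInstance
  exact Etale.of_formallyUnramified_of_flat f'

end deformfp

end Groth.Agent.H1
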