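import Mathlib
import Groth.Prelude.Def_MoreMor
import Groth.Agent.Lib.Helper1.CritFib4
import Groth.Agent.Lib.Helper1.UnrFib
import Groth.Agent.S1381
import Groth.Agent.S2156
import Groth.Agent.S2759

/-!
# Deformations across thickenings, via fibrewise criteria
-/

set_option autoImplicit false

universe u

open CategoryTheory CategoryTheory.Limits AlgebraicGeometry

namespace Groth.Agent.H1.DeformFib

open Groth.Agent.S1381.Aux

/-- For a thickening `S → S'`, the fibre maps of `f' : X' → Y'` over `S'` are base changes of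
`f : X → Y`. -/
theorem fiberMap_of_thickening (P : MorphismProperty Scheme.{u}) [P.IsStableUnderBaseChange]
    {X X' Y Y' S S' : Scheme.{u}} (iX : X ⟶ X') (iY : Y ⟶ Y') (iS : S ⟶ S')
    (f : X ⟶ Y) (f' : X' ⟶ Y') (g : Y ⟶ S) (g' : Y' ⟶ S')
    (hS : MoreMor.IsThickening iS) (hcX : IsPullback iX (f ≫ g) (f' ≫ g') iS)
    (hcY : IsPullback iY g g' iS) (w : iX ≫ f' = f ≫ iY) (hf : P f) (s' : S') :
    P (MoreMor.fiberMap f' g' s') := by
  haveI := hS.1
  obtain ⟨s, rfl⟩ := hS.2.surj s'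
  obtain ⟨σ, hσ⟩ := exists_lift_fromSpecResidueField iS s
  set σ' := S'.fromSpecResidueField (iS s) with hσ'
  set p₁ := (f' ≫ g').fiberι (iS s) with hp₁
  set p₂ := (f' ≫ g').fiberToSpecResidueField (iS s) with hp₂
  set q₁ := g'.fiberι (iS s) with hq₁
  set q₂ := g'.fiberToSpecResidueField (iS s) with hq₂
  set φ := MoreMor.fiberMap f' g' (iS s) with hφ
  have hφ₁ : φ ≫ q₁ = p₁ ≫ f' := Groth.Agent.H1.CritFib.fiberMap_fiberι f' g' (iS s)
  have hφ₂ : φ ≫ q₂ = p₂ := by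
    dsimp only [φ, q₂, p₂, MoreMor.fiberMap, Scheme.Hom.fiberToSpecResidueField]
    exact pullback.lift_snd _ _ _
  have P1 : IsPullback p₁ p₂ (f' ≫ g') σ' := IsPullback.of_hasPullback _ _
  have Q1 : IsPullback q₁ q₂ g' σ' := IsPullback.of_hasPullback _ _
  let a : (f' ≫ g').fiber (iS s) ⟶ X := hcX.lift p₁ (p₂ ≫ σ) (by rw [P1.w, Category.assoc, hσ])
  have ha₁ : a ≫ iX = p₁ := hcX.lift_fst _ _ _
  have ha₂ : a ≫ f ≫ g = p₂ ≫ σ := hcX.lift_snd _ _ _
  let b : g'.fiber (iS s) ⟶ Y := hcY.lift q₁ (q₂ ≫ σ) (by rw [Q1.w, Category.assoc, hσ])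
  have hb₁ : b ≫ iY = q₁ := hcY.lift_fst _ _ _
  have hb₂ : b ≫ g = q₂ ≫ σ := hcY.lift_snd _ _ _
  have hsq : φ ≫ b = a ≫ f := by
    apply hcY.hom_ext
    · rw [Category.assoc, hb₁, hφ₁, Category.assoc, ← w, ← Category.assoc, ha₁]
    · rw [Category.assoc, hb₂, ← Category.assoc, hφ₂, Category.assoc, ha₂]
  have PA : IsPullback a p₂ (f ≫ g) σ := by
    refine IsPullback.of_right ?_ ha₂ hcX
    rw [ha₁, hσ]
    exact P1
  have PB : IsPullback b q₂ g σ := by
    refine IsPullback.of_right ?_ hb₂ hcY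
    rw [hb₁, hσ]
    exact Q1
  have PC : IsPullback φ a b f := by
    refine IsPullback.of_right ?_ hsq PB.flip
    rw [hφ₂]
    exact PA.flip
  exact MorphismProperty.of_isPullback (P := P) PC.flip hf

/-- same, for the base change of `f'` to the fibre of `Y'` -/
theorem snd_fiberι_of_thickening (P : MorphismProperty Scheme.{u}) [P.IsStableUnderBaseChange]
    [P.RespectsIso]
    {X X' Y Y' S S' : Scheme.{u}} (iX : X ⟶ X') (iY : Y ⟶ Y') (iS : S ⟶ S')
    (f : X ⟶ Y) (f' : X' ⟶ Y') (g : Y ⟶ S) (g' : Y' ⟶ S')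
    (hS : MoreMor.IsThickening iS) (hcX : IsPullback iX (f ≫ g) (f' ≫ g') iS)
    (hcY : IsPullback iY g g' iS) (w : iX ≫ f' = f ≫ iY) (hf : P f) (s' : S') :
    P (pullback.snd f' (g'.fiberι s')) := by
  have h := fiberMap_of_thickening P iX iY iS f f' g g' hS hcX hcY w hf s'
  rw [Groth.Agent.H1.CritFib.fiberMap_eq] at h
  exact (MorphismProperty.cancel_left_of_respectsIso P _ _).mp h

/-- `f` is the base change of `f'` -/
theorem isPullback_of_thickening
    {X X' Y Y' S S' : Scheme.{u}} (iX : X ⟶ X') (iY : Y ⟶ Y') (iS : S ⟶ S')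
    (f : X ⟶ Y) (f' : X' ⟶ Y') (g : Y ⟶ S) (g' : Y' ⟶ S')
    (hcX : IsPullback iX (f ≫ g) (f' ≫ g') iS)
    (hcY : IsPullback iY g g' iS) (w : iX ≫ f' = f ≫ iY) : IsPullback iX f f' iY :=
  (IsPullback.of_right hcX.flip w.symm hcY.flip).flip

/-- smoothness from flatness of the source over the base and smoothness of the fibre maps -/
theorem smooth_of_smooth_snd {X Y S : Scheme.{u}} (g : Y ⟶ S) [LocallyOfFiniteType g]
    (f : X ⟶ Y) [LocallyOfFinitePresentation (f ≫ g)] [Flat (f ≫ g)]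
    (H : ∀ s : S, Smooth (pullback.snd f (g.fiberι s))) : Smooth f := by
  haveI : LocallyOfFinitePresentation f :=
    Groth.Agent.H1.CritFib.locallyOfFinitePresentation_of_comp f g
  rw [← Scheme.Hom.smoothLocus_eq_top_iff, ← top_le_iff]
  rintro x -
  haveI := H (g (f x))
  haveI : Smooth (f.fiberToSpecResidueField (f x)) :=
    Groth.Agent.H1.CritFib.fiberToSpecResidueField_of_snd @Smooth f g (f x) inferInstance
  rw [Groth.Agent.S2156.result f x]
  refine ⟨(Groth.Agent.H1.CritFib.flat_stalkMap_of_flat_snd f g x (Flat.stalkMap (f ≫ g) x)).2, ?_⟩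
  rw [Scheme.Hom.smoothLocus_eq_top]
  trivial

end Groth.Agent.H1.DeformFib
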