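import Mathlib
import Groth.Agent.Lib.Helper1.DefSpA
import Groth.Agent.Lib.Helper1.DefSpAlg
import Groth.Agent.Lib.Helper1.DeformFP
import Groth.Agent.S1312
import Groth.Agent.S1314
import Groth.Agent.S1381
import Groth.Agent.S1384
import Groth.Agent.S1385

/-!
# Deformation of étale-local properties along thickenings of algebraic spaces: the main theorems
(helper1) S10591, S10595, S10596, S10598, S10599.
-/

set_option autoImplicit false
set_option linter.style.haveILetI false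
universe u
open CategoryTheory CategoryTheory.Limits AlgebraicGeometry

namespace Groth.Agent.H1.DefSp
open _root_.AlgSp Groth.Agent.H5.AlgSp Groth.Agent.H5.EtSrc

variable {S : Scheme.{u}}

section Transfer

variable {X X' Y Y' B B' : Sp S} {iX : X ⟶ X'} {iY : Y ⟶ Y'} {iB : B ⟶ B'} {f : X ⟶ Y}
    {f' : X' ⟶ Y'} {g : Y ⟶ B} {g' : Y' ⟶ B'}

/-- transfer along a finite order thickening of the base, `X'` flat over `B'` -/
theorem locP_iff_of_deform (hX' : IsAlgSpace X') (hY' : IsAlgSpace Y') (hB' : IsAlgSpace B')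
    (hcX : IsPullback iX (f ≫ g) (f' ≫ g') iB) (hcY : IsPullback iY g g' iB)
    (w : iX ≫ f' = f ≫ iY) (hB : IsFinThickMor iB) (hflat : LocP @Flat (f' ≫ g'))
    (P : MorphismProperty Scheme.{u}) [P.IsStableUnderBaseChange] [P.IsStableUnderComposition]
    [IsEtaleLocalSource P] (hP : (@Etale : MorphismProperty Scheme.{u}) ≤ P)
    (hdef : ∀ {U U' V V' W W' : Scheme.{u}} {r : U ⟶ U'} {s : V ⟶ V'} {t : W ⟶ W'} {h : U ⟶ V}
      {h' : U' ⟶ V'} {k : V ⟶ W} {k' : V' ⟶ W'}, MoreMor.IsFiniteOrderThickening t →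
      IsPullback r (h ≫ k) (h' ≫ k') t → IsPullback s k k' t → r ≫ h' = h ≫ s →
      Flat (h' ≫ k') → P h → P h') :
    LocP P f ↔ LocP P f' := by
  obtain ⟨n, hn⟩ := hB
  refine locP_iff_of_tower hX' hY' hB' hcX hcY w hn.1 P hP ?_
  intro U' V' W' a' b' c' h' k' ha' hb' hc' comm1' comm2' T hT
  exact hdef (isFiniteOrderThickening_of_isNThickMor hn c' hc' T.c T.t T.sqW) T.cartU T.cartV
    T.wUV (tower_comp hflat ha' hc' comm1' comm2') hT

/-- transfer along an arbitrary thickening of the base, `X'` flat and locally of finite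
presentation over `B'`, `Y'` locally of finite type over `B'` -/
theorem locP_iff_of_deform_fp (hX' : IsAlgSpace X') (hY' : IsAlgSpace Y') (hB' : IsAlgSpace B')
    (hcX : IsPullback iX (f ≫ g) (f' ≫ g') iB) (hcY : IsPullback iY g g' iB)
    (w : iX ≫ f' = f ≫ iY) (hB : IsThickMor iB) (hg' : LocP @LocallyOfFiniteType g')
    (hflat : LocP @Flat (f' ≫ g')) (hfp : LocP @LocallyOfFinitePresentation (f' ≫ g'))
    (P : MorphismProperty Scheme.{u}) [P.IsStableUnderBaseChange] [P.IsStableUnderComposition]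
    [IsEtaleLocalSource P] (hP : (@Etale : MorphismProperty Scheme.{u}) ≤ P)
    (hdef : ∀ {U U' V V' W W' : Scheme.{u}} {r : U ⟶ U'} {s : V ⟶ V'} {t : W ⟶ W'} {h : U ⟶ V}
      {h' : U' ⟶ V'} {k : V ⟶ W} {k' : V' ⟶ W'}, MoreMor.IsThickening t →
      IsPullback r (h ≫ k) (h' ≫ k') t → IsPullback s k k' t → r ≫ h' = h ≫ s →
      Flat (h' ≫ k') → LocallyOfFinitePresentation (h' ≫ k') → LocallyOfFiniteType k' →
      P h → P h') :
    LocP P f ↔ LocP P f' := by
  refine locP_iff_of_tower hX' hY' hB' hcX hcY w hB P hP ?_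
  intro U' V' W' a' b' c' h' k' ha' hb' hc' comm1' comm2' T hT
  exact hdef T.thick_t T.cartU T.cartV T.wUV (tower_comp hflat ha' hc' comm1' comm2')
    (tower_comp hfp ha' hc' comm1' comm2') (hg' b' c' k' hb' hc' comm2') hT

end Transfer

section Cart

variable {X X' Y Y' : Sp S} {i : X ⟶ X'} {j : Y ⟶ Y'} {f : X ⟶ Y} {f' : X' ⟶ Y'}

theorem cart_hcX (hcart : IsPullback i f f' j) :
    IsPullback i (f ≫ 𝟙 Y) (f' ≫ 𝟙 Y') j := by
  rw [Category.comp_id, Category.comp_id]; exact hcart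

theorem cart_hcY (j : Y ⟶ Y') : IsPullback j (𝟙 Y) (𝟙 Y') j :=
  IsPullback.of_vert_isIso ⟨by simp⟩

/-- transfer along a cartesian square of thickenings, the upper one of finite order -/
theorem locP_iff_of_cart (hX' : IsAlgSpace X') (hY' : IsAlgSpace Y')
    (hcart : IsPullback i f f' j) (hj : IsThickMor j) (hfo : IsFinThickMor i)
    (P : MorphismProperty Scheme.{u}) [P.IsStableUnderBaseChange] [P.IsStableUnderComposition]
    [IsEtaleLocalSource P] (hP : (@Etale : MorphismProperty Scheme.{u}) ≤ P)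
    (hdef : ∀ {U U' V V' : Scheme.{u}} {r : U ⟶ U'} {s : V ⟶ V'} {h : U ⟶ V} {h' : U' ⟶ V'},
      IsPullback r h h' s → MoreMor.IsThickening s → MoreMor.IsFiniteOrderThickening r →
      P h → P h') :
    LocP P f ↔ LocP P f' := by
  obtain ⟨n, hn⟩ := hfo
  refine locP_iff_of_tower hX' hY' hY' (cart_hcX hcart) (cart_hcY j) hcart.w hj P hP ?_
  intro U' V' W' a' b' c' h' k' ha' hb' hc' comm1' comm2' T hT
  exact hdef T.sqUV T.thick_s (isFiniteOrderThickening_of_isNThickMor hn a' ha' T.a T.r T.sqU) hT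

end Cart

/-! ## scheme-level steps -/

section steps

variable {U U' V V' W W' : Scheme.{u}} {r : U ⟶ U'} {s : V ⟶ V'} {t : W ⟶ W'} {h : U ⟶ V}
  {h' : U' ⟶ V'} {k : V ⟶ W} {k' : V' ⟶ W'}

theorem step_lft (ht : MoreMor.IsFiniteOrderThickening t)
    (cU : IsPullback r (h ≫ k) (h' ≫ k') t) (cV : IsPullback s k k' t) (wUV : r ≫ h' = h ≫ s)
    (hh : LocallyOfFiniteType h) : LocallyOfFiniteType h' :=
  Groth.Agent.H1.locallyOfFiniteType_of_finiteOrderThickening
    (Groth.Agent.H1.IsFiniteOrderThickening.of_isPullback cV.flip ht)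
    (IsPullback.of_bot cU wUV cV) hh

theorem step_unr (ht : MoreMor.IsFiniteOrderThickening t)
    (cU : IsPullback r (h ≫ k) (h' ≫ k') t) (cV : IsPullback s k k' t) (wUV : r ≫ h' = h ≫ s)
    (hh : FormallyUnramified h) : FormallyUnramified h' :=
  Groth.Agent.H1.formallyUnramified_of_finiteOrderThickening
    (Groth.Agent.H1.IsFiniteOrderThickening.of_isPullback cV.flip ht)
    (IsPullback.of_bot cU wUV cV) hh

theorem step_lqf (hs : MoreMor.IsThickening s) (sq : IsPullback r h h' s)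
    (h1 : LocallyOfFiniteType h) (h1' : LocallyOfFiniteType h') (hh : LocallyQuasiFinite h) :
    LocallyQuasiFinite h' :=
  (Groth.Agent.S1312.result r s h h' hs sq).1 hh

theorem step_unr' (hs : MoreMor.IsThickening s) (sq : IsPullback r h h' s)
    (h1 : LocallyOfFiniteType h) (h1' : LocallyOfFiniteType h') (hh : FormallyUnramified h) :
    FormallyUnramified h' :=
  (Groth.Agent.S1314.result r s h h' hs sq).1 hh

end steps

/-! ## S10596 -/

section Main

variable {X X' Y Y' B B' : Sp S} {iX : X ⟶ X'} {iY : Y ⟶ Y'} {iB : B ⟶ B'} {f : X ⟶ Y}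
    {f' : X' ⟶ Y'} {g : Y ⟶ B} {g' : Y' ⟶ B'}

theorem S10596_main (hX' : IsAlgSpace X') (hY' : IsAlgSpace Y') (hB' : IsAlgSpace B')
    (hY : IsAlgSpace Y)
    (hcX : IsPullback iX (f ≫ g) (f' ≫ g') iB) (hcY : IsPullback iY g g' iB)
    (w : iX ≫ f' = f ≫ iY) (hB : IsFinThickMor iB) (hflat : LocP @Flat (f' ≫ g')) (d : ℕ) :
    ((LocP @LocallyOfFiniteType f ∧
        ∀ x, HasAtMor (fun _ _ h u => FlatMor.fibreDimAt h u = (d : WithBot ℕ∞)) f x) ↔
      (LocP @LocallyOfFiniteType f' ∧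
        ∀ x', HasAtMor (fun _ _ h u => FlatMor.fibreDimAt h u = (d : WithBot ℕ∞)) f' x')) ∧
    (LocP @Flat f ↔ LocP @Flat f') ∧
    (LocP @LocallyOfFiniteType f ↔ LocP @LocallyOfFiniteType f') ∧
    (LocP (@LocallyQuasiFinite ⊓ @LocallyOfFiniteType) f ↔
      LocP (@LocallyQuasiFinite ⊓ @LocallyOfFiniteType) f') ∧
    (LocP @LocallyOfFinitePresentation f ↔ LocP @LocallyOfFinitePresentation f') ∧
    (LocP @Smooth f ↔ LocP @Smooth f') ∧
    (LocP (@LocallyOfFiniteType ⊓ @FormallyUnramified) f ↔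
      LocP (@LocallyOfFiniteType ⊓ @FormallyUnramified) f') ∧
    (IsEtaleMor f ↔ IsEtaleMor f') := by
  have hBt : IsThickMor iB := by obtain ⟨n, hn⟩ := hB; exact hn.1
  have hlft : LocP @LocallyOfFiniteType f ↔ LocP @LocallyOfFiniteType f' :=
    locP_iff_of_deform hX' hY' hB' hcX hcY w hB hflat _
      (fun _ _ g (hg : Etale g) => (inferInstance : LocallyOfFiniteType g))
      (fun ht cU cV wUV _ hh => step_lft ht cU cV wUV hh)
  refine ⟨?_, ?_, hlft, ?_, ?_, ?_, ?_, ?_⟩
  · constructor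
    · rintro ⟨h1, h2⟩
      exact ⟨hlft.1 h1, (hasAtMor_dim_iff hX' hY' hB' hcX hcY w hBt _ h1 (hlft.1 h1)).1 h2⟩
    · rintro ⟨h1, h2⟩
      exact ⟨hlft.2 h1, (hasAtMor_dim_iff hX' hY' hB' hcX hcY w hBt _ (hlft.2 h1) h1).2 h2⟩
  · exact locP_iff_of_deform hX' hY' hB' hcX hcY w hB hflat _
      (fun _ _ g (hg : Etale g) => (inferInstance : Flat g))
      (fun ht cU cV wUV hfl hh => by
        haveI := hfl
        exact Groth.Agent.H1.flat_of_deformation ht cU cV wUV hh)
  · exact locP_iff_of_deform hX' hY' hB' hcX hcY w hB hflat _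
      (fun _ _ g (hg : Etale g) =>
        ⟨Groth.Agent.H5.AlgSp.locallyQuasiFinite_of_etale g,
          (inferInstance : LocallyOfFiniteType g)⟩)
      (fun ht cU cV wUV _ hh => by
        have h1' := step_lft ht cU cV wUV hh.2
        exact ⟨step_lqf (Groth.Agent.H1.IsFiniteOrderThickening.of_isPullback cV.flip ht).1
          (IsPullback.of_bot cU wUV cV) hh.2 h1' hh.1, h1'⟩)
  · exact locP_iff_of_deform hX' hY' hB' hcX hcY w hB hflat _
      (fun _ _ g (hg : Etale g) => (inferInstance : LocallyOfFinitePresentation g))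
      (fun ht cU cV wUV hfl hh => by
        haveI := hfl
        exact Groth.Agent.H1.locallyOfFinitePresentation_of_deformation ht cU cV wUV hh)
  · exact locP_iff_of_deform hX' hY' hB' hcX hcY w hB hflat _
      (fun _ _ g (hg : Etale g) => (inferInstance : Smooth g))
      (fun ht cU cV wUV hfl hh => by
        haveI := hfl
        exact Groth.Agent.H1.smooth_of_deformation ht cU cV wUV hh)
  · exact locP_iff_of_deform hX' hY' hB' hcX hcY w hB hflat _
      (fun _ _ g (hg : Etale g) =>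
        ⟨(inferInstance : LocallyOfFiniteType g), (inferInstance : FormallyUnramified g)⟩)
      (fun ht cU cV wUV _ hh => ⟨step_lft ht cU cV wUV hh.1, step_unr ht cU cV wUV hh.2⟩)
  · rw [isEtaleMor_iff_locP_etale hY, isEtaleMor_iff_locP_etale hY']
    exact locP_iff_of_deform hX' hY' hB' hcX hcY w hB hflat _ le_rfl
      (fun ht cU cV wUV hfl hh => by
        haveI := hfl
        exact Groth.Agent.H1.etale_of_deformation ht cU cV wUV hh)

/-! ## S10595 -/

theorem S10595_main (hX' : IsAlgSpace X') (hY' : IsAlgSpace Y') (hB' : IsAlgSpace B')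
    (hcX : IsPullback iX (f ≫ g) (f' ≫ g') iB) (hcY : IsPullback iY g g' iB)
    (w : iX ≫ f' = f ≫ iY) (hB : IsFinThickMor iB) (hflat : LocP @Flat (f' ≫ g'))
    (hf : LocP @Flat f) :
    LocP @Flat f' ∧ ∀ x' : Points X', IsFlatAtMor g' (Points.map f' x') := by
  have hf' : LocP @Flat f' :=
    (locP_iff_of_deform hX' hY' hB' hcX hcY w hB hflat _
      (fun _ _ g (hg : Etale g) => (inferInstance : Flat g))
      (fun ht cU cV wUV hfl hh => by
        haveI := hfl
        exact Groth.Agent.H1.flat_of_deformation ht cU cV wUV hh)).1 hf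
  exact ⟨hf', fun x' => isFlatAtMor_of_flat hX' hf' hflat x'⟩

/-! ## S10598, S10599 -/

theorem flat_iff_fp (hX' : IsAlgSpace X') (hY' : IsAlgSpace Y') (hB' : IsAlgSpace B')
    (hcX : IsPullback iX (f ≫ g) (f' ≫ g') iB) (hcY : IsPullback iY g g' iB)
    (w : iX ≫ f' = f ≫ iY) (hB : IsThickMor iB) (hg' : LocP @LocallyOfFiniteType g')
    (hflat : LocP @Flat (f' ≫ g')) (hfp : LocP @LocallyOfFinitePresentation (f' ≫ g')) :
    LocP @Flat f ↔ LocP @Flat f' :=
  locP_iff_of_deform_fp hX' hY' hB' hcX hcY w hB hg' hflat hfp _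
    (fun _ _ g (hg : Etale g) => (inferInstance : Flat g))
    (fun {_ _ _ _ _ _ r s t h h' k k'} ht cU cV wUV hfl hfp' hk' hh => by
      haveI := hfl
      haveI := hfp'
      haveI := hk'
      exact (Groth.Agent.S1381.result r s t h h' k k' ht cU cV wUV).1 hh)

theorem S10598_main (hX' : IsAlgSpace X') (hY' : IsAlgSpace Y') (hB' : IsAlgSpace B')
    (hcX : IsPullback iX (f ≫ g) (f' ≫ g') iB) (hcY : IsPullback iY g g' iB)
    (w : iX ≫ f' = f ≫ iY) (hB : IsThickMor iB) (hg' : LocP @LocallyOfFiniteType g')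
    (hflat : LocP @Flat (f' ≫ g')) (hfp : LocP @LocallyOfFinitePresentation (f' ≫ g'))
    (hf : LocP @Flat f) :
    LocP @Flat f' ∧ ∀ x' : Points X', IsFlatAtMor g' (Points.map f' x') := by
  have hf' : LocP @Flat f' := (flat_iff_fp hX' hY' hB' hcX hcY w hB hg' hflat hfp).1 hf
  exact ⟨hf', fun x' => isFlatAtMor_of_flat hX' hf' hflat x'⟩

theorem S10599_main (hX' : IsAlgSpace X') (hY' : IsAlgSpace Y') (hB' : IsAlgSpace B')
    (hY : IsAlgSpace Y)
    (hcX : IsPullback iX (f ≫ g) (f' ≫ g') iB) (hcY : IsPullback iY g g' iB)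
    (w : iX ≫ f' = f ≫ iY) (hB : IsThickMor iB) (hg' : LocP @LocallyOfFiniteType g')
    (hflat : LocP @Flat (f' ≫ g')) (hfp : LocP @LocallyOfFinitePresentation (f' ≫ g'))
    (d : ℕ) :
    ((LocP @LocallyOfFiniteType f ∧
        ∀ x, HasAtMor (fun _ _ h u => FlatMor.fibreDimAt h u = (d : WithBot ℕ∞)) f x) ↔
      (LocP @LocallyOfFiniteType f' ∧
        ∀ x', HasAtMor (fun _ _ h u => FlatMor.fibreDimAt h u = (d : WithBot ℕ∞)) f' x')) ∧
    (LocP @Flat f ↔ LocP @Flat f') ∧
    (LocP (@LocallyQuasiFinite ⊓ @LocallyOfFiniteType) f ↔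
      LocP (@LocallyQuasiFinite ⊓ @LocallyOfFiniteType) f') ∧
    (LocP @Smooth f ↔ LocP @Smooth f') ∧
    (LocP (@LocallyOfFiniteType ⊓ @FormallyUnramified) f ↔
      LocP (@LocallyOfFiniteType ⊓ @FormallyUnramified) f') ∧
    (IsEtaleMor f ↔ IsEtaleMor f') := by
  have hlft : LocP @LocallyOfFiniteType f ↔ LocP @LocallyOfFiniteType f' :=
    locP_iff_of_deform_fp hX' hY' hB' hcX hcY w hB hg' hflat hfp _
      (fun _ _ g (hg : Etale g) => (inferInstance : LocallyOfFiniteType g))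
      (fun {_ _ _ _ _ _ r s t h h' k k'} ht cU cV wUV hfl hfp' hk' hh => by
        haveI := hfp'
        exact locallyOfFiniteType_of_comp h' k')
  refine ⟨?_, flat_iff_fp hX' hY' hB' hcX hcY w hB hg' hflat hfp, ?_, ?_, ?_, ?_⟩
  · constructor
    · rintro ⟨h1, h2⟩
      exact ⟨hlft.1 h1, (hasAtMor_dim_iff hX' hY' hB' hcX hcY w hB _ h1 (hlft.1 h1)).1 h2⟩
    · rintro ⟨h1, h2⟩
      exact ⟨hlft.2 h1, (hasAtMor_dim_iff hX' hY' hB' hcX hcY w hB _ (hlft.2 h1) h1).2 h2⟩
  · exact locP_iff_of_deform_fp hX' hY' hB' hcX hcY w hB hg' hflat hfp _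
      (fun _ _ g (hg : Etale g) =>
        ⟨Groth.Agent.H5.AlgSp.locallyQuasiFinite_of_etale g,
          (inferInstance : LocallyOfFiniteType g)⟩)
      (fun {_ _ _ _ _ _ r s t h h' k k'} ht cU cV wUV hfl hfp' hk' hh => by
        haveI := hfp'
        have h1' : LocallyOfFiniteType h' := locallyOfFiniteType_of_comp h' k'
        exact ⟨step_lqf (Groth.Agent.H1.IsThickening.of_isPullback cV.flip ht)
          (IsPullback.of_bot cU wUV cV) hh.2 h1' hh.1, h1'⟩)
  · exact locP_iff_of_deform_fp hX' hY' hB' hcX hcY w hB hg' hflat hfp _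
      (fun _ _ g (hg : Etale g) => (inferInstance : Smooth g))
      (fun {_ _ _ _ _ _ r s t h h' k k'} ht cU cV wUV hfl hfp' hk' hh => by
        haveI := hfl
        haveI := hfp'
        haveI := hk'
        exact (Groth.Agent.S1384.result r s t h h' k k' ht cU cV wUV).1 hh)
  · exact locP_iff_of_deform_fp hX' hY' hB' hcX hcY w hB hg' hflat hfp _
      (fun _ _ g (hg : Etale g) =>
        ⟨(inferInstance : LocallyOfFiniteType g), (inferInstance : FormallyUnramified g)⟩)
      (fun {_ _ _ _ _ _ r s t h h' k k'} ht cU cV wUV hfl hfp' hk' hh => by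
        haveI := hfp'
        have h1' : LocallyOfFiniteType h' := locallyOfFiniteType_of_comp h' k'
        exact ⟨h1', step_unr' (Groth.Agent.H1.IsThickening.of_isPullback cV.flip ht)
          (IsPullback.of_bot cU wUV cV) hh.1 h1' hh.2⟩)
  · rw [isEtaleMor_iff_locP_etale hY, isEtaleMor_iff_locP_etale hY']
    exact locP_iff_of_deform_fp hX' hY' hB' hcX hcY w hB hg' hflat hfp _ le_rfl
      (fun {_ _ _ _ _ _ r s t h h' k k'} ht cU cV wUV hfl hfp' hk' hh => by
        haveI := hfl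
        haveI := hfp'
        haveI := hk'
        exact (Groth.Agent.S1385.result r s t h h' k k' ht cU cV wUV).1 hh)

end Main

/-! ## S10591 -/

section MainCart

variable {X X' Y Y' : Sp S} {i : X ⟶ X'} {j : Y ⟶ Y'} {f : X ⟶ Y} {f' : X' ⟶ Y'}

theorem S10591_main (hX' : IsAlgSpace X') (hY' : IsAlgSpace Y')
    (hcart : IsPullback i f f' j) (hj : IsThickMor j) (hfo : IsFinThickMor i) (d : ℕ) :
    ((LocP @LocallyOfFiniteType f ∧
        ∀ x, HasAtMor (fun _ _ h u => FlatMor.fibreDimAt h u = (d : WithBot ℕ∞)) f x) ↔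
      (LocP @LocallyOfFiniteType f' ∧
        ∀ x', HasAtMor (fun _ _ h u => FlatMor.fibreDimAt h u = (d : WithBot ℕ∞)) f' x')) ∧
    (LocP @LocallyOfFiniteType f ↔ LocP @LocallyOfFiniteType f') ∧
    (LocP (@LocallyQuasiFinite ⊓ @LocallyOfFiniteType) f ↔
      LocP (@LocallyQuasiFinite ⊓ @LocallyOfFiniteType) f') ∧
    (LocP (@LocallyOfFiniteType ⊓ @FormallyUnramified) f ↔
      LocP (@LocallyOfFiniteType ⊓ @FormallyUnramified) f') := by
  have hlft : LocP @LocallyOfFiniteType f ↔ LocP @LocallyOfFiniteType f' :=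
    locP_iff_of_cart hX' hY' hcart hj hfo _
      (fun _ _ g (hg : Etale g) => (inferInstance : LocallyOfFiniteType g))
      (fun sq hs hr hh => locallyOfFiniteType_of_nilpotent_top hs hr sq hh)
  refine ⟨?_, hlft, ?_, ?_⟩
  · constructor
    · rintro ⟨h1, h2⟩
      exact ⟨hlft.1 h1, (hasAtMor_dim_iff hX' hY' hY' (cart_hcX hcart) (cart_hcY j) hcart.w hj _
        h1 (hlft.1 h1)).1 h2⟩
    · rintro ⟨h1, h2⟩
      exact ⟨hlft.2 h1, (hasAtMor_dim_iff hX' hY' hY' (cart_hcX hcart) (cart_hcY j) hcart.w hj _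
        (hlft.2 h1) h1).2 h2⟩
  · exact locP_iff_of_cart hX' hY' hcart hj hfo _
      (fun _ _ g (hg : Etale g) =>
        ⟨Groth.Agent.H5.AlgSp.locallyQuasiFinite_of_etale g,
          (inferInstance : LocallyOfFiniteType g)⟩)
      (fun sq hs hr hh => by
        have h1' := locallyOfFiniteType_of_nilpotent_top hs hr sq hh.2
        exact ⟨step_lqf hs sq hh.2 h1' hh.1, h1'⟩)
  · exact locP_iff_of_cart hX' hY' hcart hj hfo _
      (fun _ _ g (hg : Etale g) =>
        ⟨(inferInstance : LocallyOfFiniteType g), (inferInstance : FormallyUnramified g)⟩)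
      (fun sq hs hr hh => by
        have h1' := locallyOfFiniteType_of_nilpotent_top hs hr sq hh.1
        exact ⟨h1', step_unr' hs sq hh.1 h1' hh.2⟩)

end MainCart

end Groth.Agent.H1.DefSp
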