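import Mathlib
open CategoryTheory CategoryTheory.Limits AlgebraicGeometry Opposite
universe u
namespace Groth.Agent.H1.DescOpen

set_option backward.isDefEq.respectTransparency.types false in
/-- A flat family covering (as finitely many affine pieces) an affine open `U` detects
openness inside `U`. -/
lemma isOpen_inter_of_finite_affine {T : Scheme.{u}} {n : ℕ} {Z : Fin n → Scheme.{u}}
    [∀ k, IsAffine (Z k)] (g : ∀ k, Z k ⟶ T) [∀ k, Flat (g k)] (U : T.Opens) (hU : IsAffineOpen U)
    (hcov : ⋃ k, Set.range (g k) = (U : Set T)) (V : Set T)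
    (hV : ∀ k, IsOpen ((g k) ⁻¹' V)) : IsOpen (V ∩ (U : Set T)) := by
  let p : (∐ Z) ⟶ T := Sigma.desc g
  have hex : ∀ z : ↥(∐ Z), ∃ (k : Fin n) (z' : Z k), (Sigma.ι Z k) z' = z := by
    intro z
    obtain ⟨k, z', h⟩ := (sigmaOpenCover Z).exists_eq z
    exact ⟨k, z', h⟩
  have hpι : ∀ k (z' : Z k), p (Sigma.ι Z k z') = g k z' := by
    intro k z'
    rw [← Scheme.Hom.comp_apply, Sigma.ι_desc]
  have hp : Set.range p ⊆ Set.range U.ι := by
    rintro _ ⟨z, rfl⟩
    obtain ⟨k, z', rfl⟩ := hex z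
    rw [hpι, Scheme.Opens.range_ι, ← hcov]
    exact Set.mem_iUnion.mpr ⟨k, z', rfl⟩
  let q : (∐ Z) ⟶ U := IsOpenImmersion.lift U.ι p hp
  have hq : q ≫ U.ι = p := IsOpenImmersion.lift_fac _ _ _
  have : Flat p := inferInstance
  have : Flat q := by
    apply MorphismProperty.of_postcomp (W := @Flat) (W' := @IsOpenImmersion) q U.ι inferInstance
    rw [hq]; infer_instance
  have : IsAffine U := hU
  have : QuasiCompact q := by
    rw [HasAffineProperty.iff_of_isAffine (P := @QuasiCompact)]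
    infer_instance
  have : Surjective q := by
    refine ⟨fun u => ?_⟩
    have : (U.ι u) ∈ ⋃ k, Set.range (g k) := by rw [hcov]; exact u.2
    obtain ⟨k, z, hz⟩ := Set.mem_iUnion.mp this
    refine ⟨Sigma.ι Z k z, ?_⟩
    apply U.ι.injective
    rw [← Scheme.Hom.comp_apply, hq, hpι, hz]
  have hquot := Flat.isQuotientMap_of_surjective q
  have hopen : IsOpen (p ⁻¹' V) := by
    have : p ⁻¹' V = ⋃ k, (Sigma.ι Z k) '' ((g k) ⁻¹' V) := by
      ext z
      obtain ⟨k, z', rfl⟩ := hex z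
      simp only [Set.mem_preimage, Set.mem_iUnion, Set.mem_image]
      constructor
      · intro h
        refine ⟨k, z', ?_, rfl⟩
        rwa [hpι] at h
      · rintro ⟨k', z'', h1, h2⟩
        rw [← h2, hpι]
        exact h1
    rw [this]
    exact isOpen_iUnion fun k => (Sigma.ι Z k).isOpenEmbedding.isOpenMap _ (hV k)
  have h2 : IsOpen (U.ι ⁻¹' V) := by
    rw [← hquot.isOpen_preimage, ← Set.preimage_comp]
    have : (U.ι ∘ q : _ → _) = p := by
      ext z; rw [Function.comp_apply, ← Scheme.Hom.comp_apply, hq]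
    rw [this]; exact hopen
  have : V ∩ (U : Set T) = U.ι '' (U.ι ⁻¹' V) := by
    rw [Set.image_preimage_eq_inter_range, Scheme.Opens.range_ι]
  rw [this]
  exact U.ι.isOpenEmbedding.isOpenMap _ h2

set_option backward.isDefEq.respectTransparency.types false in
/-- fpqc covering families are "submersive": a subset of the base is open as soon as all its
preimages are. -/
lemma isOpen_of_fpqc {ι : Type u} {T : Scheme.{u}} {Ti : ι → Scheme.{u}}
    (f : ∀ i, Ti i ⟶ T) (hf : Presieve.ofArrows Ti f ∈ Scheme.fpqcPrecoverage T)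
    (V : Set T) (hV : ∀ i, IsOpen ((f i) ⁻¹' V)) : IsOpen V := by
  let 𝒰 : PreZeroHypercover.{u} T := ⟨ι, Ti, f⟩
  have hf' : 𝒰.presieve₀ ∈ Scheme.fpqcPrecoverage T := hf
  have hqc : QuasiCompactCover 𝒰 := Scheme.presieve₀_mem_qcPrecoverage_iff.mp hf'.1
  have hfl : ∀ i, Flat (f i) := fun i => hf'.2.2 ⟨i⟩
  rw [isOpen_iff_forall_mem_open]
  intro v hv
  obtain ⟨_, ⟨U, hU : IsAffineOpen U, rfl⟩, hvU, -⟩ :=
    T.isBasis_affineOpens.exists_subset_of_mem_open (a := v) (by trivial) isOpen_univ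
  obtain ⟨n, a, W, hW, hcov⟩ := QuasiCompactCover.exists_isAffineOpen_of_isCompact 𝒰 hU.isCompact
  have : ∀ k, IsAffine (W k).toScheme := hW
  have : ∀ k, Flat ((W k).ι ≫ f (a k)) := fun k => inferInstance
  refine ⟨V ∩ (U : Set T), Set.inter_subset_left, ?_, hv, hvU⟩
  refine isOpen_inter_of_finite_affine (Z := fun k => (W k).toScheme)
    (fun k => (W k).ι ≫ f (a k)) U hU ?_ V ?_
  · rw [← hcov]
    congr 1
    ext k : 1
    rw [Scheme.Hom.comp_base, TopCat.coe_comp, Set.range_comp, Scheme.Opens.range_ι]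
  · intro k
    rw [Scheme.Hom.comp_base, TopCat.coe_comp, Set.preimage_comp]
    exact (hV (a k)).preimage (W k).ι.continuous

end Groth.Agent.H1.DescOpen
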