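import Mathlib
import Groth.Prelude.Def_Found

/-!
# Kaplansky's dévissage: direct summands of direct sums of countably generated modules
-/

set_option autoImplicit false
universe u
open scoped Classical

namespace Groth.Agent.H1.Kap

section CG

variable {R : Type u} [CommRing R] {M : Type u} [AddCommGroup M] [Module R M]

/-- a submodule generated by a countable set -/
def CG (L : Submodule R M) : Prop := ∃ s : Set M, s.Countable ∧ Submodule.span R s = L

theorem CG.isCountablyGenerated {L : Submodule R M} (h : CG L) :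
    CAlg.IsCountablyGenerated R L := by
  obtain ⟨s, hs, rfl⟩ := h
  refine ⟨Subtype.val ⁻¹' s, hs.preimage Subtype.val_injective, ?_⟩
  apply Submodule.map_injective_of_injective (Submodule.span R s).injective_subtype
  rw [Submodule.map_span, Submodule.map_top, Submodule.range_subtype]
  congr 1
  ext x
  simp only [Submodule.subtype_apply, Set.mem_image, Set.mem_preimage, Subtype.exists,
    exists_and_right, exists_eq_right]
  exact ⟨fun ⟨_, h⟩ => h, fun h => ⟨Submodule.subset_span h, h⟩⟩

theorem CG_of_isCountablyGenerated {L : Submodule R M} (h : CAlg.IsCountablyGenerated R L) :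
    CG L := by
  obtain ⟨s, hs, hspan⟩ := h
  refine ⟨Subtype.val '' s, hs.image _, ?_⟩
  have := congrArg (Submodule.map L.subtype) hspan
  rwa [Submodule.map_span, Submodule.map_top, Submodule.range_subtype] at this

theorem CG.map {M' : Type u} [AddCommGroup M'] [Module R M'] {L : Submodule R M} (h : CG L)
    (f : M →ₗ[R] M') : CG (L.map f) := by
  obtain ⟨s, hs, rfl⟩ := h
  exact ⟨f '' s, hs.image _, (Submodule.map_span f s).symm⟩

theorem CG_biSup {ι : Type u} (J : Set ι) (hJ : J.Countable) (N : ι → Submodule R M)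
    (h : ∀ i ∈ J, CG (N i)) : CG (⨆ i ∈ J, N i) := by
  choose! s hs hspan using h
  refine ⟨⋃ i ∈ J, s i, hJ.biUnion hs, ?_⟩
  rw [Submodule.span_iUnion₂]
  exact iSup_congr fun i => iSup_congr fun hi => hspan i hi

end CG


section dev

variable {R : Type u} [CommRing R] {M : Type u} [AddCommGroup M] [Module R M]
  {ι : Type u} (N : ι → Submodule R M) (π : M →ₗ[R] M)

/-- partial sums of the family -/
def MJ (J : Set ι) : Submodule R M := ⨆ i ∈ J, N i

theorem MJ_mono {J J' : Set ι} (h : J ⊆ J') : MJ N J ≤ MJ N J' := biSup_mono h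

theorem le_MJ {J : Set ι} {i : ι} (hi : i ∈ J) : N i ≤ MJ N J := le_biSup N hi

theorem MJ_union (J J' : Set ι) : MJ N (J ∪ J') = MJ N J ⊔ MJ N J' := iSup_union

theorem MJ_iUnion {η : Type*} (J : η → Set ι) : MJ N (⋃ a, J a) = ⨆ a, MJ N (J a) :=
  iSup_iUnion J N

/-- `J` is stable under `π` -/
def Good (J : Set ι) : Prop := ∀ i ∈ J, (N i).map π ≤ MJ N J

variable {N π} in
theorem Good.map_le {J : Set ι} (h : Good N π J) : (MJ N J).map π ≤ MJ N J := by
  rw [MJ, Submodule.map_iSup]
  simp_rw [Submodule.map_iSup]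
  exact iSup₂_le h

theorem good_iUnion {η : Type*} (J : η → Set ι) (h : ∀ a, Good N π (J a)) :
    Good N π (⋃ a, J a) := by
  intro i hi
  obtain ⟨a, ha⟩ := Set.mem_iUnion.mp hi
  exact (h a i ha).trans (MJ_mono N (Set.subset_iUnion J a))

/-- the image of a partial sum under `π` -/
def PJ (J : Set ι) : Submodule R M := (MJ N J).map π

theorem PJ_mono {J J' : Set ι} (h : J ⊆ J') : PJ N π J ≤ PJ N π J' :=
  Submodule.map_mono (MJ_mono N h)

theorem exists_supp (hsup : ⨆ i, N i = ⊤) (x : M) : ∃ s : Finset ι, x ∈ ⨆ i ∈ s, N i :=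
  Submodule.mem_iSup_iff_exists_finset.mp (by rw [hsup]; exact Submodule.mem_top)

theorem exists_good_extension (hsup : ⨆ i, N i = ⊤) (hc : ∀ i, CG (N i)) (J : Set ι)
    (hJ : Good N π J) (i₀ : ι) :
    ∃ J' : Set ι, J ⊆ J' ∧ i₀ ∈ J' ∧ Good N π J' ∧ (J' \ J).Countable := by
  choose supp hsupp using exists_supp N hsup
  choose gen hgen_c hgen_span using hc
  let step : Set ι → Set ι := fun C => C ∪ ⋃ i ∈ C, ⋃ g ∈ gen i, (↑(supp (π g)) : Set ι)
  let Cn : ℕ → Set ι := fun n => step^[n] {i₀}
  have hsucc : ∀ n, Cn (n + 1) = step (Cn n) := fun n => Function.iterate_succ_apply' step n {i₀}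
  have hCn_count : ∀ n, (Cn n).Countable := by
    intro n
    induction n with
    | zero => exact Set.countable_singleton i₀
    | succ n ih =>
      rw [hsucc]
      exact ih.union (ih.biUnion fun i _ => (hgen_c i).biUnion fun g _ => Finset.countable_toSet _)
  refine ⟨J ∪ ⋃ n, Cn n, Set.subset_union_left, Or.inr (Set.mem_iUnion.mpr ⟨0, rfl⟩), ?_, ?_⟩
  · intro i hi
    rcases hi with hi | hi
    · exact (hJ i hi).trans (MJ_mono N Set.subset_union_left)
    · obtain ⟨n, hn⟩ := Set.mem_iUnion.mp hi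
      rw [← hgen_span i, Submodule.map_span, Submodule.span_le]
      rintro _ ⟨g, hg, rfl⟩
      have h1 : (↑(supp (π g)) : Set ι) ⊆ Cn (n + 1) := by
        rw [hsucc]
        intro l hl
        exact Or.inr (Set.mem_biUnion hn (Set.mem_biUnion hg hl))
      have h2 : π g ∈ MJ N (↑(supp (π g)) : Set ι) := by
        have := hsupp (π g)
        simpa [MJ] using this
      exact MJ_mono N (h1.trans ((Set.subset_iUnion Cn (n + 1)).trans Set.subset_union_right)) h2
  · refine (Set.countable_iUnion hCn_count).mono ?_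
    rintro i ⟨hi | hi, hiJ⟩
    · exact absurd hi hiJ
    · exact hi

variable (hind : iSupIndep N) (hsup : ⨆ i, N i = ⊤)

include hind hsup in
theorem isCompl_MJ (J : Set ι) : IsCompl (MJ N J) (MJ N Jᶜ) := by
  refine ⟨hind.disjoint_biSup_biSup disjoint_compl_right, ?_⟩
  rw [codisjoint_iff, ← MJ_union, Set.union_compl_self, MJ]
  simpa using hsup

/-- the projection onto a partial sum -/
noncomputable def ρ (J : Set ι) : M →ₗ[R] M :=
  (MJ N J).subtype ∘ₗ Submodule.projectionOnto _ _ (isCompl_MJ N hind hsup J)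

theorem ρ_mem (J : Set ι) (x : M) : ρ N hind hsup J x ∈ MJ N J := Submodule.coe_mem _

theorem ρ_eq_self (J : Set ι) {x : M} (hx : x ∈ MJ N J) : ρ N hind hsup J x = x := by
  have := Submodule.projectionOnto_apply_left (isCompl_MJ N hind hsup J) ⟨x, hx⟩
  simp only [ρ, LinearMap.comp_apply, Submodule.subtype_apply]
  rw [this]

/-- the map cutting out the new summand -/
noncomputable def τ (J : Set ι) : M →ₗ[R] M := π - π ∘ₗ ρ N hind hsup J ∘ₗ π

/-- the new summand -/
noncomputable def LJ (J J' : Set ι) : Submodule R M := (MJ N (J' \ J)).map (τ N π hind hsup J)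

variable (hπ : ∀ x, π (π x) = π x)

include hπ in
theorem σ_eq_self {J : Set ι} (hJ : Good N π J) {y : M} (hy : y ∈ PJ N π J) :
    π (ρ N hind hsup J y) = y := by
  have h1 : y ∈ MJ N J := hJ.map_le hy
  rw [ρ_eq_self N hind hsup J h1]
  obtain ⟨m, -, rfl⟩ := hy
  exact hπ m

theorem σ_mem (J : Set ι) (z : M) : π (ρ N hind hsup J z) ∈ PJ N π J :=
  Submodule.mem_map_of_mem (ρ_mem N hind hsup J z)

theorem τ_apply (J : Set ι) (b : M) :
    τ N π hind hsup J b = π b - π (ρ N hind hsup J (π b)) := rfl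

theorem LJ_le {J J' : Set ι} (hJJ' : J ⊆ J') : LJ N π hind hsup J J' ≤ PJ N π J' := by
  rintro _ ⟨b, hb, rfl⟩
  rw [τ_apply]
  refine Submodule.sub_mem _ (Submodule.mem_map_of_mem (MJ_mono N Set.sdiff_subset hb)) ?_
  exact PJ_mono N π hJJ' (σ_mem N π hind hsup J _)

theorem LJ_sup {J J' : Set ι} (hJJ' : J ⊆ J') :
    LJ N π hind hsup J J' ⊔ PJ N π J = PJ N π J' := by
  apply le_antisymm
  · exact sup_le (LJ_le N π hind hsup hJJ') (PJ_mono N π hJJ')
  · rintro _ ⟨x, hx, rfl⟩
    rw [← Set.union_sdiff_cancel hJJ', MJ_union] at hx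
    obtain ⟨a, ha, b, hb, rfl⟩ := Submodule.mem_sup.mp hx
    rw [map_add]
    have h1 : π a ∈ PJ N π J := Submodule.mem_map_of_mem ha
    have h2 : π b = τ N π hind hsup J b + π (ρ N hind hsup J (π b)) := by
      rw [τ_apply]; abel
    rw [h2]
    have h3 : τ N π hind hsup J b ∈ LJ N π hind hsup J J' := Submodule.mem_map_of_mem hb
    have h4 := σ_mem N π hind hsup J (π b)
    have e : π a + (τ N π hind hsup J b + π (ρ N hind hsup J (π b))) =
        τ N π hind hsup J b + (π a + π (ρ N hind hsup J (π b))) := by abel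
    rw [e]
    exact Submodule.add_mem_sup h3 (Submodule.add_mem _ h1 h4)

include hπ in
theorem LJ_disjoint {J J' : Set ι} (hJ : Good N π J) :
    Disjoint (LJ N π hind hsup J J') (PJ N π J) := by
  rw [Submodule.disjoint_def]
  rintro y ⟨b, -, rfl⟩ hy
  have h1 := σ_eq_self N π hind hsup hπ hJ hy
  rw [← h1, τ_apply, map_sub, map_sub]
  have h2 := σ_eq_self N π hind hsup hπ hJ (σ_mem N π hind hsup J (π b))
  rw [h2, sub_self]

theorem CG_LJ (hc : ∀ i, CG (N i)) {J J' : Set ι} (hcount : (J' \ J).Countable) :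
    CG (LJ N π hind hsup J J') :=
  (CG_biSup _ hcount N fun i _ => hc i).map _


theorem sSupIndep_insert {α : Type*} [CompleteLattice α] [IsModularLattice α] {s : Set α} {a : α}
    (hs : sSupIndep s) (ha : Disjoint a (sSup s)) : sSupIndep (insert a s) := by
  intro b hb
  rcases Set.mem_insert_iff.mp hb with rfl | hb
  · refine ha.mono_right (sSup_le_sSup ?_)
    rintro x ⟨hx | hx, hxb⟩
    · exact absurd hx hxb
    · exact hx
  · by_cases hba : b = a
    · subst hba
      refine ha.mono_right (sSup_le_sSup ?_)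
      rintro x ⟨hx | hx, hxb⟩
      · exact absurd hx hxb
      · exact hx
    · have h1 : insert a s \ {b} = insert a (s \ {b}) := by
        ext x
        simp only [Set.mem_sdiff, Set.mem_insert_iff, Set.mem_singleton_iff]
        constructor
        · rintro ⟨hx | hx, hxb⟩
          · exact Or.inl hx
          · exact Or.inr ⟨hx, hxb⟩
        · rintro (hx | ⟨hx, hxb⟩)
          · exact ⟨Or.inl hx, fun h => hba (h.symm.trans hx)⟩
          · exact ⟨Or.inr hx, hxb⟩
      rw [h1, sSup_insert, sup_comm]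
      have h2 : b ⊔ sSup (s \ {b}) = sSup s := by
        rw [← sSup_insert, Set.insert_sdiff_singleton, Set.insert_eq_of_mem hb]
      refine Disjoint.disjoint_sup_right_of_disjoint_sup_left (hs hb) ?_
      rw [h2]
      exact ha.symm

section zorn

variable (hind : iSupIndep N) (hsup : ⨆ i, N i = ⊤) (hπ : ∀ x, π (π x) = π x)
  (hc : ∀ i, CG (N i))

/-- the set of partial decompositions -/
def Z : Set (Set ι × Set (Submodule R M)) :=
  {p | Good N π p.1 ∧ (∀ L ∈ p.2, CG L) ∧ sSupIndep p.2 ∧ sSup p.2 = PJ N π p.1}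

theorem PJ_iUnion {η : Type*} (J : η → Set ι) : PJ N π (⋃ a, J a) = ⨆ a, PJ N π (J a) := by
  rw [PJ, MJ_iUnion, Submodule.map_iSup]
  rfl

theorem chain_bound (c : Set (Set ι × Set (Submodule R M))) (hcZ : c ⊆ Z N π)
    (hchain : IsChain (· ≤ ·) c) :
    ((⋃ p : c, p.1.1, ⋃ p : c, p.1.2) : Set ι × Set (Submodule R M)) ∈ Z N π := by
  refine ⟨good_iUnion N π _ fun p => (hcZ p.2).1, ?_, ?_, ?_⟩
  · intro L hL
    obtain ⟨p, hp⟩ := Set.mem_iUnion.mp hL
    exact (hcZ p.2).2.1 L hp
  · apply sSupIndep_iUnion_of_directed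
    · intro p q
      rcases hchain.total p.2 q.2 with h | h
      · exact ⟨q, h.2, le_rfl⟩
      · exact ⟨p, le_rfl, h.2⟩
    · intro p
      exact (hcZ p.2).2.2.1
  · change sSup (⋃ p : c, p.1.2) = PJ N π (⋃ p : c, p.1.1)
    rw [sSup_iUnion, PJ_iUnion]
    exact iSup_congr fun p => (hcZ p.2).2.2.2

include hind hsup hπ hc in
theorem exists_decomp :
    ∃ 𝓛 : Set (Submodule R M), (∀ L ∈ 𝓛, CG L) ∧ sSupIndep 𝓛 ∧ sSup 𝓛 = LinearMap.range π := by
  have h0 : ((∅, ∅) : Set ι × Set (Submodule R M)) ∈ Z N π := by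
    refine ⟨fun i hi => absurd hi (Set.notMem_empty i), fun L hL => absurd hL (Set.notMem_empty L),
      sSupIndep_empty, ?_⟩
    simp [PJ, MJ]
  obtain ⟨m, -, hm⟩ := zorn_le_nonempty₀ (Z N π) (fun c hcZ hchain y hy =>
    ⟨_, chain_bound N π c hcZ hchain, fun z hz =>
      ⟨Set.subset_iUnion (fun p : c => p.1.1) ⟨z, hz⟩,
        Set.subset_iUnion (fun p : c => p.1.2) ⟨z, hz⟩⟩⟩) _ h0
  obtain ⟨J, 𝓛⟩ := m
  obtain ⟨hJ, hcg, hindL, hsupL⟩ := hm.prop
  have huniv : J = Set.univ := by
    by_contra hne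
    obtain ⟨i₀, hi₀⟩ := (Set.ne_univ_iff_exists_notMem J).mp hne
    obtain ⟨J', hJJ', hi₀J', hJ', hcount⟩ := exists_good_extension N π hsup hc J hJ i₀
    have hmem : ((J', insert (LJ N π hind hsup J J') 𝓛) : Set ι × Set (Submodule R M)) ∈ Z N π := by
      refine ⟨hJ', ?_, ?_, ?_⟩
      · intro L hL
        rcases Set.mem_insert_iff.mp hL with rfl | hL
        · exact CG_LJ N π hind hsup hc hcount
        · exact hcg L hL
      · apply sSupIndep_insert hindL
        change Disjoint _ (sSup 𝓛)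
        rw [hsupL]
        exact LJ_disjoint N π hind hsup hπ hJ
      · change sSup (insert _ 𝓛) = PJ N π J'
        rw [sSup_insert, hsupL]
        exact LJ_sup N π hind hsup hJJ'
    have := hm.le_of_ge hmem ⟨hJJ', Set.subset_insert _ _⟩
    exact hi₀ (this.1 hi₀J')
  refine ⟨𝓛, hcg, hindL, ?_⟩
  change sSup 𝓛 = PJ N π J at hsupL
  rw [hsupL, huniv, PJ, MJ]
  simp only [Set.mem_univ, iSup_pos]
  rw [hsup, Submodule.map_top]

end zorn

end dev


section final

variable {R : Type u} [CommRing R] {M : Type u} [AddCommGroup M] [Module R M]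

theorem isCountablyGenerated_of_equiv {M' : Type u} [AddCommGroup M'] [Module R M']
    (e : M ≃ₗ[R] M') (h : CAlg.IsCountablyGenerated R M) : CAlg.IsCountablyGenerated R M' := by
  obtain ⟨s, hs, hspan⟩ := h
  refine ⟨e '' s, hs.image _, ?_⟩
  have := congrArg (Submodule.map e.toLinearMap) hspan
  rw [Submodule.map_span, Submodule.map_top, LinearMap.range_eq_top.mpr e.surjective] at this
  exact this

theorem main {ι : Type u} (N : ι → Submodule R M) (hN : DirectSum.IsInternal N)
    (hc : ∀ i, CAlg.IsCountablyGenerated R (N i)) (P Q : Submodule R M) (hPQ : IsCompl P Q) :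
    ∃ (κ : Type u) (L : κ → Submodule R P), DirectSum.IsInternal L ∧
      ∀ k, CAlg.IsCountablyGenerated R (L k) := by
  have hind := hN.submodule_iSupIndep
  have hsup := hN.submodule_iSup_eq_top
  let π : M →ₗ[R] M := P.subtype ∘ₗ P.projectionOnto Q hPQ
  have hπ : ∀ x, π (π x) = π x := by
    intro x
    simp only [π, LinearMap.comp_apply, Submodule.subtype_apply]
    rw [Submodule.projectionOnto_apply_left]
  have hrange : LinearMap.range π = P := by
    apply le_antisymm
    · rintro _ ⟨x, rfl⟩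
      exact Submodule.coe_mem _
    · intro x hx
      refine ⟨x, ?_⟩
      simp only [π, LinearMap.comp_apply, Submodule.subtype_apply]
      rw [Submodule.projectionOnto_apply_of_mem_left hPQ hx]
  obtain ⟨𝓛, hcg, hindL, hsupL⟩ := exists_decomp N π hind hsup hπ
    (fun i => CG_of_isCountablyGenerated (hc i))
  rw [hrange] at hsupL
  have hle : ∀ L ∈ 𝓛, L ≤ P := fun L hL => hsupL ▸ le_sSup hL
  refine ⟨𝓛, fun k => (k.1).comap P.subtype, ?_, ?_⟩
  · letI : DecidableEq ↥𝓛 := fun a b => Classical.propDecidable (a = b)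
    refine (DirectSum.isInternal_submodule_iff_iSupIndep_and_iSup_eq_top _).mpr ⟨?_, ?_⟩
    · let e : Submodule R P ≃o Set.Iic P := P.mapIic
      suffices (e ∘ fun k : 𝓛 => (k.1).comap P.subtype) = fun k => ⟨k.1, hle k.1 k.2⟩ by
        rw [← iSupIndep_map_orderIso_iff e, this]
        exact .of_coe_Iic_comp ((sSupIndep_iff 𝓛).mp hindL)
      ext k m
      change m ∈ ((k.1).comap P.subtype).map P.subtype ↔ _
      rw [Submodule.map_comap_subtype, inf_of_le_right (hle k.1 k.2)]
    · apply Submodule.map_injective_of_injective P.injective_subtype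
      rw [Submodule.map_iSup, Submodule.map_top, Submodule.range_subtype]
      simp_rw [Submodule.map_comap_subtype]
      have h3 : ∀ k : 𝓛, P ⊓ k.1 = k.1 := fun k => inf_of_le_right (hle k.1 k.2)
      simp_rw [h3]
      rw [← sSup_eq_iSup']
      exact hsupL
  · intro k
    exact isCountablyGenerated_of_equiv (Submodule.comapSubtypeEquivOfLe (hle k.1 k.2)).symm
      (hcg k.1 k.2).isCountablyGenerated

end final

end Groth.Agent.H1.Kap
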