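import Mathlib
import Groth.Agent.Lib.Helper1.Kaplansky1

/-!
# Kaplansky: projective modules over local rings are free
-/

set_option autoImplicit false
universe u
open scoped Classical

namespace Groth.Agent.H1.Kap

section basis

variable {R : Type u} [CommRing R] {E : Type u} [AddCommGroup E] [Module R E] {κ : Type u}

open Module

/-- unipotent change of basis shrinking the support -/
theorem exists_basis_smaller (b : Basis κ R E) (y : E) (j : κ) (hj : j ∈ (b.repr y).support)
    (r : κ → R)
    (h : b.repr y j = ∑ l ∈ (b.repr y).support.erase j, b.repr y l * r l) :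
    ∃ b' : Basis κ R E, (b'.repr y).support.card < (b.repr y).support.card := by
  set S := (b.repr y).support with hS
  set a := b.repr y with ha
  let N : E →ₗ[R] E := b.constr R (fun l => if l ∈ S.erase j then r l • b j else 0)
  have hNb : ∀ l, N (b l) = if l ∈ S.erase j then r l • b j else 0 := fun l => by
    simp [N, Basis.constr_basis]
  have hNbj : N (b j) = 0 := by
    rw [hNb j, if_neg (Finset.notMem_erase j S)]
  have hNN : N ∘ₗ N = 0 := by
    apply b.ext
    intro l
    rw [LinearMap.comp_apply, hNb l]
    split_ifs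
    · rw [map_smul, hNbj, smul_zero, LinearMap.zero_apply]
    · rw [map_zero, LinearMap.zero_apply]
  have h1 : (LinearMap.id + N) ∘ₗ (LinearMap.id - N) = LinearMap.id := by
    rw [LinearMap.add_comp, LinearMap.comp_sub, LinearMap.comp_sub, hNN]
    simp
  have h2 : (LinearMap.id - N) ∘ₗ (LinearMap.id + N) = LinearMap.id := by
    rw [LinearMap.sub_comp, LinearMap.comp_add, LinearMap.comp_add, hNN]
    simp
  let e : E ≃ₗ[R] E := LinearEquiv.ofLinearMap (LinearMap.id + N) (LinearMap.id - N) h1 h2
  refine ⟨b.map e, ?_⟩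
  have hy : y = ∑ l ∈ S, a l • b l := by
    conv_lhs => rw [← b.linearCombination_repr y]
    rw [Finsupp.linearCombination_apply, Finsupp.sum]
  have hNy : N y = a j • b j := by
    conv_lhs => rw [hy]
    rw [map_sum]
    rw [← Finset.add_sum_erase S _ hj]
    rw [map_smul, hNbj, smul_zero, zero_add]
    rw [h, Finset.sum_smul]
    apply Finset.sum_congr rfl
    intro l hl
    rw [map_smul, hNb l, if_pos hl, smul_smul]
  have h3 : (b.map e).repr y = a - Finsupp.single j (a j) := by
    rw [Basis.map_repr]
    change b.repr ((LinearMap.id - N : E →ₗ[R] E) y) = _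
    rw [LinearMap.sub_apply, LinearMap.id_apply, hNy, map_sub, map_smul, b.repr_self]
    simp [ha]
  have h4 : ((b.map e).repr y).support ⊆ S.erase j := by
    intro l hl
    rw [h3, Finsupp.mem_support_iff] at hl
    rw [Finset.mem_erase]
    constructor
    · rintro rfl
      apply hl
      simp
    · rw [hS, Finsupp.mem_support_iff]
      intro hl0
      apply hl
      by_cases hlj : l = j
      · subst hlj
        simp
      · simp [hl0, Ne.symm hlj]
  exact (Finset.card_le_card h4).trans_lt (Finset.card_erase_lt_of_mem hj)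

theorem exists_min_basis (b₀ : Basis κ R E) (y : E) :
    ∃ b : Basis κ R E, ∀ (j : κ) (_ : j ∈ (b.repr y).support) (r : κ → R),
      b.repr y j ≠ ∑ l ∈ (b.repr y).support.erase j, b.repr y l * r l := by
  haveI : Nonempty (Basis κ R E) := ⟨b₀⟩
  let f : Basis κ R E → ℕ := fun b => (b.repr y).support.card
  refine ⟨Function.argmin f, fun j hj r h => ?_⟩
  obtain ⟨b', hb'⟩ := exists_basis_smaller (Function.argmin f) y j hj r h
  exact absurd hb' (not_lt.mpr (Function.argmin_le f b'))

end basis


section K3

variable {R : Type u} [CommRing R] [IsLocalRing R] {P : Type u} [AddCommGroup P] [Module R P]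
  [Module.Projective R P]

open Module

/-- an element of a projective module over a local ring lies in a finite free direct summand -/
theorem exists_free_summand (x : P) :
    ∃ (σ : Type u) (_ : Fintype σ) (θ : (σ → R) →ₗ[R] P) (p : P →ₗ[R] (σ → R)),
      p ∘ₗ θ = LinearMap.id ∧ x ∈ LinearMap.range θ := by
  obtain ⟨i, hi⟩ := Module.projective_def'.mp ‹Module.Projective R P›
  set ρ : (P →₀ R) →ₗ[R] P := Finsupp.linearCombination R id with hρ
  have hρi : ∀ z, ρ (i z) = z := fun z => LinearMap.congr_fun hi z
  obtain ⟨b, hb⟩ := exists_min_basis (Finsupp.basisSingleOne : Basis P R (P →₀ R)) (i x)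
  set y := i x with hydef
  set a := b.repr y with ha
  set S := a.support with hS
  let c : P → P → R := fun j l => b.repr (i (ρ (b j))) l
  have hy : y = ∑ j ∈ S, a j • b j := by
    conv_lhs => rw [← b.linearCombination_repr y]
    rw [Finsupp.linearCombination_apply, Finsupp.sum]
  have heq : ∀ l, a l = ∑ j ∈ S, a j * c j l := by
    intro l
    have h1 : y = ∑ j ∈ S, a j • i (ρ (b j)) := by
      calc y = i (ρ y) := by rw [hydef, hρi]
      _ = _ := by
        conv_lhs => rw [hy]
        simp only [map_sum, map_smul]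
    have h2 := congrArg (fun z => b.repr z l) h1
    simp only [map_sum, map_smul, Finsupp.coe_finsetSum, Finsupp.coe_smul, Finset.sum_apply,
      Pi.smul_apply, smul_eq_mul] at h2
    exact h2
  -- the entries of `1 - C` lie in the maximal ideal
  have hD : ∀ j ∈ S, ∀ l ∈ S,
      ((if j = l then 1 else 0) - c j l) ∈ IsLocalRing.maximalIdeal R := by
    intro j hj l hl
    by_contra hu
    have hu : IsUnit ((if j = l then (1 : R) else 0) - c j l) := by
      rwa [IsLocalRing.mem_maximalIdeal, mem_nonunits_iff, not_not] at hu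
    obtain ⟨u, hu⟩ := hu
    apply hb j hj (fun j' => -(((if j' = l then 1 else 0) - c j' l) * ↑u⁻¹))
    have h0 : ∑ j' ∈ S, a j' * ((if j' = l then 1 else 0) - c j' l) = 0 := by
      simp_rw [mul_sub]
      rw [Finset.sum_sub_distrib, ← heq l]
      simp only [mul_ite, mul_one, mul_zero]
      rw [Finset.sum_ite_eq' S l, if_pos hl, sub_self]
    rw [← Finset.add_sum_erase S _ hj, ← hu] at h0
    have h1 : a j = -(∑ j' ∈ S.erase j, a j' * ((if j' = l then 1 else 0) - c j' l)) * ↑u⁻¹ := by
      rw [← eq_neg_iff_add_eq_zero] at h0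
      rw [← h0]
      simp [mul_assoc]
    rw [h1, neg_mul, Finset.sum_mul, ← Finset.sum_neg_distrib]
    apply Finset.sum_congr rfl
    intro j' _
    ring
  -- the matrix `C` is invertible
  let Cm : Matrix S S R := fun j l => c j l
  have hdet : IsUnit Cm.det := by
    have h1 : Cm.map (IsLocalRing.residue R) = 1 := by
      ext j l
      have := hD j j.2 l l.2
      rw [← IsLocalRing.residue_eq_zero_iff, map_sub] at this
      rw [Matrix.map_apply, Matrix.one_apply]
      have h2 : (IsLocalRing.residue R) (c j l) =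
          IsLocalRing.residue R (if (j : P) = l then 1 else 0) :=
        (sub_eq_zero.mp this).symm
      change (IsLocalRing.residue R) (c j l) = _
      rw [h2]
      by_cases hjl : j = l
      · subst hjl; simp
      · have : (j : P) ≠ l := fun h => hjl (Subtype.ext h)
        simp [hjl, this]
    have h2 : (IsLocalRing.residue R) Cm.det = 1 := by
      rw [RingHom.map_det, RingHom.mapMatrix_apply, h1, Matrix.det_one]
    have h3 : IsUnit ((IsLocalRing.residue R) Cm.det) := by rw [h2]; exact isUnit_one
    exact (isUnit_map_iff (IsLocalRing.residue R) _).mp h3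
  have hdetT : IsUnit Cm.transpose.det := by rwa [Matrix.det_transpose]
  let θ : (S → R) →ₗ[R] P := ρ ∘ₗ Fintype.linearCombination R (fun j : S => b j)
  let p₀ : P →ₗ[R] (S → R) :=
    LinearMap.pi (fun l : S => (Finsupp.lapply l.1) ∘ₗ b.repr.toLinearMap ∘ₗ i)
  have hpθ : p₀ ∘ₗ θ = Matrix.toLin' Cm.transpose := by
    apply LinearMap.ext
    intro v
    ext l
    simp only [p₀, θ, LinearMap.comp_apply, LinearMap.pi_apply, Finsupp.lapply_apply,
      LinearEquiv.coe_coe, Fintype.linearCombination_apply, map_sum, map_smul,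
      Finsupp.coe_finsetSum, Finsupp.coe_smul, Finset.sum_apply, Pi.smul_apply, smul_eq_mul,
      Matrix.toLin'_apply, Matrix.mulVec, dotProduct, Matrix.transpose_apply]
    apply Finset.sum_congr rfl
    intro j _
    rw [mul_comm]
  let u : (S → R) →ₗ[R] (S → R) := Matrix.toLin' (Cm.transpose)⁻¹
  have hu : u ∘ₗ (p₀ ∘ₗ θ) = LinearMap.id := by
    rw [hpθ, ← Matrix.toLin'_mul, Matrix.nonsing_inv_mul _ hdetT, Matrix.toLin'_one]
  refine ⟨S, inferInstance, θ, u ∘ₗ p₀, by rw [LinearMap.comp_assoc]; exact hu, ?_⟩
  refine ⟨fun j => a j, ?_⟩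
  simp only [θ, LinearMap.comp_apply, Fintype.linearCombination_apply]
  rw [Finset.sum_coe_sort S (fun j => a j • b j), ← hy, hydef, hρi]

end K3


section K2

variable {R : Type u} [CommRing R]

theorem isCompl_range_ker {A B : Type u} [AddCommGroup A] [Module R A] [AddCommGroup B]
    [Module R B] (θ : A →ₗ[R] B) (p : B →ₗ[R] A) (h : p ∘ₗ θ = LinearMap.id) :
    IsCompl (LinearMap.range θ) (LinearMap.ker p) := by
  have hpθ : ∀ v, p (θ v) = v := fun v => LinearMap.congr_fun h v
  constructor
  · rw [Submodule.disjoint_def]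
    rintro _ ⟨v, rfl⟩ hv
    rw [LinearMap.mem_ker, hpθ] at hv
    rw [hv, map_zero]
  · rw [codisjoint_iff, eq_top_iff]
    intro x _
    have : x = θ (p x) + (x - θ (p x)) := by abel
    rw [this]
    refine Submodule.add_mem_sup ⟨_, rfl⟩ ?_
    rw [LinearMap.mem_ker, map_sub, hpθ, sub_self]

variable [IsLocalRing R] {P : Type u} [AddCommGroup P] [Module R P] [Module.Projective R P]

theorem step (G Q : Submodule R P) (h : IsCompl G Q) (x : P) :
    ∃ F Q' : Submodule R P, F ≤ Q ∧ IsCompl (G ⊔ F) Q' ∧ Module.Free R F ∧ x ∈ G ⊔ F := by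
  haveI : Module.Projective R Q :=
    Module.Projective.of_split Q.subtype (Q.projectionOnto G h.symm)
      (Submodule.projectionOnto_comp_subtype h.symm)
  obtain ⟨g, hg, q, hq, rfl⟩ : ∃ g ∈ G, ∃ q ∈ Q, g + q = x := by
    have : x ∈ G ⊔ Q := by rw [h.sup_eq_top]; exact Submodule.mem_top
    exact Submodule.mem_sup.mp this
  obtain ⟨σ, _, θ, p, hpθ, v, hv⟩ := exists_free_summand (R := R) (P := Q) ⟨q, hq⟩
  have hc := isCompl_range_ker θ p hpθ
  have hθinj : Function.Injective θ := by
    intro v w hvw
    have := congrArg p hvw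
    rwa [← LinearMap.comp_apply, ← LinearMap.comp_apply, hpθ] at this
  refine ⟨(LinearMap.range θ).map Q.subtype, (LinearMap.ker p).map Q.subtype, ?_, ?_, ?_, ?_⟩
  · rintro _ ⟨z, -, rfl⟩
    exact z.2
  · have hsup : (LinearMap.range θ).map Q.subtype ⊔ (LinearMap.ker p).map Q.subtype = Q := by
      rw [← Submodule.map_sup, hc.sup_eq_top, Submodule.map_top, Submodule.range_subtype]
    have hdisj : Disjoint ((LinearMap.range θ).map Q.subtype) ((LinearMap.ker p).map Q.subtype) :=
      Submodule.disjoint_map Q.injective_subtype hc.disjoint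
    constructor
    · refine Disjoint.disjoint_sup_left_of_disjoint_sup_right hdisj ?_
      rw [hsup]
      exact h.disjoint
    · rw [codisjoint_iff, sup_assoc, hsup]
      exact h.sup_eq_top
  · have e1 : (σ → R) ≃ₗ[R] LinearMap.range θ := LinearEquiv.ofInjective θ hθinj
    have e2 : LinearMap.range θ ≃ₗ[R] (LinearMap.range θ).map Q.subtype :=
      Submodule.equivMapOfInjective Q.subtype Q.injective_subtype _
    exact Module.Free.of_equiv (e1.trans e2)
  · refine Submodule.add_mem_sup hg ?_
    refine ⟨⟨q, hq⟩, ⟨v, hv⟩, rfl⟩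


theorem free_of_seq (x : ℕ → P) (hx : Submodule.span R (Set.range x) = ⊤) : Module.Free R P := by
  have hstep : ∀ (s : {p : Submodule R P × Submodule R P // IsCompl p.1 p.2}) (z : P),
      ∃ (s' : {p : Submodule R P × Submodule R P // IsCompl p.1 p.2}) (F : Submodule R P),
        F ≤ s.1.2 ∧ s'.1.1 = s.1.1 ⊔ F ∧ Module.Free R F ∧ z ∈ s'.1.1 := by
    intro s z
    obtain ⟨F, Q', h1, h2, h3, h4⟩ := step s.1.1 s.1.2 s.2 z
    exact ⟨⟨(s.1.1 ⊔ F, Q'), h2⟩, F, h1, rfl, h3, h4⟩
  choose next Fof h1 h2 h3 h4 using hstep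
  let s0 : {p : Submodule R P × Submodule R P // IsCompl p.1 p.2} := ⟨(⊥, ⊤), isCompl_bot_top⟩
  let seq : ℕ → {p : Submodule R P × Submodule R P // IsCompl p.1 p.2} :=
    fun n => Nat.rec s0 (fun n s => next s (x n)) n
  let F : ℕ → Submodule R P := fun n => Fof (seq n) (x n)
  let G : ℕ → Submodule R P := fun n => (seq n).1.1
  have hG0 : G 0 = ⊥ := rfl
  have hGs : ∀ n, G (n + 1) = G n ⊔ F n := fun n => h2 (seq n) (x n)
  have hFQ : ∀ n, Disjoint (G n) (F n) := fun n =>
    (seq n).2.disjoint.mono_right (h1 (seq n) (x n))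
  have hxG : ∀ n, x n ∈ G (n + 1) := fun n => h4 (seq n) (x n)
  have hGsup : ∀ n, G n = (Finset.range n).sup F := by
    intro n
    induction n with
    | zero => simp [hG0]
    | succ n ih => rw [hGs, ih, Finset.range_add_one, Finset.sup_insert, sup_comm]
  have hind : ∀ n, (Finset.range n).SupIndep F := by
    intro n
    induction n with
    | zero => simp
    | succ n ih =>
      rw [Finset.range_add_one]
      exact ih.insert (by rw [← hGsup]; exact (hFQ n).symm)
  have hindep : iSupIndep F := by
    rw [iSupIndep_iff_supIndep]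
    intro s
    obtain ⟨n, hn⟩ := s.exists_nat_subset_range
    exact (hind n).subset hn
  have htop : ⨆ n, F n = ⊤ := by
    rw [eq_top_iff, ← hx, Submodule.span_le]
    rintro _ ⟨n, rfl⟩
    have h5 : x n ∈ (Finset.range (n + 1)).sup F := (hGsup (n + 1)).le (hxG n)
    exact (Finset.sup_le fun i _ => le_iSup F i) h5
  have hint : DirectSum.IsInternal F :=
    (DirectSum.isInternal_submodule_iff_iSupIndep_and_iSup_eq_top F).mpr ⟨hindep, htop⟩
  haveI : ∀ n, Module.Free R (F n) := fun n => h3 (seq n) (x n)
  exact Module.Free.of_equiv (LinearEquiv.ofBijective (DirectSum.coeLinearMap F) hint)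

theorem free_of_countable (s : Set P) (hs : s.Countable) (hspan : Submodule.span R s = ⊤) :
    Module.Free R P := by
  have hne : (insert (0 : P) s).Nonempty := ⟨0, Set.mem_insert _ _⟩
  obtain ⟨x, hx⟩ := (hs.insert 0).exists_eq_range hne
  apply free_of_seq x
  rw [← hx, eq_top_iff, ← hspan]
  exact Submodule.span_mono (Set.subset_insert _ _)

end K2


section D

theorem projective_of_isInternal {R : Type u} [CommRing R] {M : Type u} [AddCommGroup M]
    [Module R M] [Module.Projective R M] {κ : Type u} (L : κ → Submodule R M)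
    (hL : DirectSum.IsInternal L) (k : κ) : Module.Projective R (L k) := by
  have hcompl : IsCompl (L k) (⨆ (j) (_ : j ≠ k), L j) := by
    constructor
    · exact hL.submodule_iSupIndep k
    · rw [codisjoint_iff, ← iSup_split_single]
      exact hL.submodule_iSup_eq_top
  exact Module.Projective.of_split (L k).subtype ((L k).projectionOnto _ hcompl)
    (Submodule.projectionOnto_comp_subtype hcompl)

theorem free_of_isInternal {R : Type u} [CommRing R] [IsLocalRing R] {M : Type u}
    [AddCommGroup M] [Module R M] [Module.Projective R M] {κ : Type u} (L : κ → Submodule R M)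
    (hL : DirectSum.IsInternal L) (hLc : ∀ k, CAlg.IsCountablyGenerated R (L k)) :
    Module.Free R M := by
  haveI : ∀ k, Module.Free R (L k) := by
    intro k
    haveI : Module.Projective R (L k) := projective_of_isInternal L hL k
    obtain ⟨s, hs, hspan⟩ := hLc k
    exact free_of_countable s hs hspan
  exact Module.Free.of_equiv (LinearEquiv.ofBijective (DirectSum.coeLinearMap L) hL)

/-- **Kaplansky**: a projective module over a local ring is free. -/
theorem free_of_projective (R : Type u) [CommRing R] [IsLocalRing R] (P : Type u)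
    [AddCommGroup P] [Module R P] [Module.Projective R P] : Module.Free R P := by
  obtain ⟨i, hi⟩ := Module.projective_def'.mp ‹Module.Projective R P›
  set ρ : (P →₀ R) →ₗ[R] P := Finsupp.linearCombination R id with hρ
  have hinj : Function.Injective i := by
    intro v w hvw
    have := congrArg ρ hvw
    rwa [← LinearMap.comp_apply, ← LinearMap.comp_apply, hi] at this
  let N : P → Submodule R (P →₀ R) := fun p => LinearMap.range (Finsupp.lsingle p : R →ₗ[R] P →₀ R)
  have hN : DirectSum.IsInternal N :=
    (DirectSum.isInternal_submodule_iff_iSupIndep_and_iSup_eq_top N).mpr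
      ⟨iSupIndep_range_lsingle P R R, Finsupp.iSup_lsingle_range⟩
  have hc : ∀ p, CAlg.IsCountablyGenerated R (N p) := by
    intro p
    apply CG.isCountablyGenerated
    have h1 : CG (⊤ : Submodule R R) :=
      ⟨{1}, Set.countable_singleton _, Ideal.span_singleton_one⟩
    have := h1.map (Finsupp.lsingle p : R →ₗ[R] P →₀ R)
    rwa [Submodule.map_top] at this
  have hPQ : IsCompl (LinearMap.range i) (LinearMap.ker ρ) := isCompl_range_ker i ρ hi
  obtain ⟨κ, L, hL, hLc⟩ := Kap.main N hN hc _ _ hPQ
  let e : P ≃ₗ[R] LinearMap.range i := LinearEquiv.ofInjective i hinj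
  haveI : Module.Projective R (LinearMap.range i) := Module.Projective.of_equiv e
  haveI : Module.Free R (LinearMap.range i) := free_of_isInternal (M := LinearMap.range i) L hL hLc
  exact Module.Free.of_equiv e.symm

end D

end Groth.Agent.H1.Kap
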