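import Mathlib
import Groth.Agent.Lib.Lead.ML
import Groth.Agent.Lib.Helper1.Kaplansky2

/-!
# Countably generated flat Mittag-Leffler modules are projective
-/

set_option autoImplicit false
universe u
open scoped Classical

namespace Groth.Agent.H1.MLProj

section A

variable {R : Type u} [CommRing R] {M : Type u} [AddCommGroup M] [Module R M]

theorem exists_limit {N : Type*} [AddCommGroup N] [Module R N] (φ : ℕ → M →ₗ[R] N)
    (h : ∀ m, ∃ k, ∀ k', k ≤ k' → φ k' m = φ k m) :
    ∃ Φ : M →ₗ[R] N, ∀ m, ∃ k, ∀ k', k ≤ k' → φ k' m = Φ m := by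
  choose k hk using h
  refine ⟨{ toFun := fun m => φ (k m) m, map_add' := ?_, map_smul' := ?_ },
    fun m => ⟨k m, fun k' hk' => hk m k' hk'⟩⟩
  · intro a b
    set K := max (k (a + b)) (max (k a) (k b)) with hK
    show φ (k (a + b)) (a + b) = φ (k a) a + φ (k b) b
    rw [← hk (a + b) K (le_max_left _ _), ← hk a K ((le_max_left _ _).trans (le_max_right _ _)),
      ← hk b K ((le_max_right _ _).trans (le_max_right _ _)), map_add]
  · intro r a
    set K := max (k (r • a)) (k a) with hK
    show φ (k (r • a)) (r • a) = r • φ (k a) a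
    rw [← hk (r • a) K (le_max_left _ _), ← hk a K (le_max_right _ _), map_smul]

/-- projectivity criterion: a module exhausted by an increasing sequence of submodules `K n`,
with endomorphisms `c n` factoring through projective modules, fixing `K n` and mapping into
`K (n+1)`, is projective. -/
theorem projective_of_seq (c : ℕ → M →ₗ[R] M) (K : ℕ → Submodule R M)
    (hmono : ∀ n, K n ≤ K (n + 1)) (hall : ∀ m, ∃ n, m ∈ K n)
    (hfix : ∀ n, ∀ m ∈ K n, c n m = m)
    (hrange : ∀ n m, c n m ∈ K (n + 1))
    (hfac : ∀ n, ∃ (F : Type u) (_ : AddCommGroup F) (_ : Module R F) (_ : Module.Projective R F)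
      (z : M →ₗ[R] F) (g : F →ₗ[R] M), c n = g ∘ₗ z) :
    Module.Projective R M := by
  refine Module.Projective.of_lifting_property'' fun p hp => ?_
  have hlam : ∀ n, ∃ l : M →ₗ[R] (M →₀ R), p ∘ₗ l = c n := by
    intro n
    obtain ⟨F, _, _, _, z, g, hc⟩ := hfac n
    obtain ⟨l, hl⟩ := Module.projective_lifting_property p g hp
    exact ⟨l ∘ₗ z, by rw [← LinearMap.comp_assoc, hl, hc]⟩
  choose lam hlam using hlam
  let D : ℕ → (M →ₗ[R] M) := fun n =>
    Nat.rec LinearMap.id (fun n Dn => (LinearMap.id - c n) ∘ₗ Dn) n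
  have hD0 : D 0 = LinearMap.id := rfl
  have hDs : ∀ n, D (n + 1) = (LinearMap.id - c n) ∘ₗ D n := fun n => rfl
  have hK : ∀ {a b}, a ≤ b → K a ≤ K b := fun h => monotone_nat_of_le_succ hmono h
  have h1 : ∀ k m, m ∈ K k → ∀ j, j ≤ k → D j m ∈ K k := by
    intro k m hm j
    induction j with
    | zero => intro _; exact hm
    | succ j ih =>
      intro hj
      rw [hDs]
      simp only [LinearMap.comp_apply, LinearMap.sub_apply, LinearMap.id_apply]
      exact Submodule.sub_mem _ (ih (Nat.le_of_succ_le hj)) (hK hj (hrange j _))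
  have h2 : ∀ k m, m ∈ K k → ∀ j, k + 1 ≤ j → D j m = 0 := by
    intro k m hm j hj
    induction j, hj using Nat.le_induction with
    | base =>
      rw [hDs]
      simp only [LinearMap.comp_apply, LinearMap.sub_apply, LinearMap.id_apply]
      rw [hfix k _ (h1 k m hm k le_rfl), sub_self]
    | succ j hj ih => rw [hDs, LinearMap.comp_apply, ih, map_zero]
  let φ : ℕ → (M →ₗ[R] (M →₀ R)) := fun k => ∑ j ∈ Finset.range k, lam j ∘ₗ D j
  have hφs : ∀ k, φ (k + 1) = φ k + lam k ∘ₗ D k := fun k => Finset.sum_range_succ _ _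
  have hpφ : ∀ k, p ∘ₗ φ k = LinearMap.id - D k := by
    intro k
    induction k with
    | zero => simp [φ, hD0]
    | succ k ih =>
      rw [hφs, LinearMap.comp_add, ih, ← LinearMap.comp_assoc, hlam, hDs]
      apply LinearMap.ext
      intro m
      simp only [LinearMap.add_apply, LinearMap.sub_apply, LinearMap.comp_apply,
        LinearMap.id_apply]
      abel
  have hconst : ∀ m, ∃ k, ∀ k', k ≤ k' → φ k' m = φ k m := by
    intro m
    obtain ⟨n, hn⟩ := hall m
    refine ⟨n + 1, fun k' hk' => ?_⟩
    induction k', hk' using Nat.le_induction with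
    | base => rfl
    | succ k' hk' ih =>
      rw [hφs, LinearMap.add_apply, ih, LinearMap.comp_apply, h2 n m hn k' hk', map_zero,
        add_zero]
  obtain ⟨Φ, hΦ⟩ := exists_limit φ hconst
  refine ⟨Φ, ?_⟩
  apply LinearMap.ext
  intro m
  obtain ⟨k, hk⟩ := hΦ m
  obtain ⟨n, hn⟩ := hall m
  have h3 := hk (max k (n + 1)) (le_max_left _ _)
  rw [LinearMap.comp_apply, ← h3, ← LinearMap.comp_apply, hpφ, LinearMap.sub_apply,
    h2 n m hn _ (le_max_right _ _), sub_zero]

end A


section B

variable {R : Type u} [CommRing R] {M : Type u} [AddCommGroup M] [Module R M]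

theorem step (hflat : Module.Flat R M) (hML : CAlg.IsMittagLeffler R M)
    (hc : CAlg.IsCountablyGenerated R M) (K : Submodule R M) (hK : K.FG) (x : M) :
    ∃ (c : M →ₗ[R] M) (K' : Submodule R M), K'.FG ∧ K ≤ K' ∧ x ∈ K' ∧ (∀ m ∈ K, c m = m) ∧
      (∀ m, c m ∈ K') ∧
      ∃ (F : Type u) (_ : AddCommGroup F) (_ : Module R F) (_ : Module.Projective R F)
        (z : M →ₗ[R] F) (g : F →ₗ[R] M), c = g ∘ₗ z := by
  haveI : Module.Finite R K := Module.Finite.iff_fg.mpr hK
  obtain ⟨Q, _, _, _, b, c0, hcb⟩ := Groth.Agent.LD.ML.S6361 R M hML hc K.subtype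
  obtain ⟨k, h₂, h₃, h⟩ := Module.Flat.exists_factorization_of_finitePresentation c0
  refine ⟨h₃ ∘ₗ (h₂ ∘ₗ b), K ⊔ LinearMap.range h₃ ⊔ R ∙ x, ?_, ?_, ?_, ?_, ?_,
    (Fin k →₀ R), inferInstance, inferInstance, inferInstance, h₂ ∘ₗ b, h₃, rfl⟩
  · refine (hK.sup ?_).sup (Submodule.fg_span_singleton x)
    rw [LinearMap.range_eq_map]
    exact Module.Finite.fg_top.map h₃
  · exact le_sup_left.trans le_sup_left
  · exact (le_sup_right : R ∙ x ≤ _) (Submodule.mem_span_singleton_self x)
  · intro m hm
    have := LinearMap.congr_fun hcb ⟨m, hm⟩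
    simp only [LinearMap.comp_apply, Submodule.subtype_apply] at this
    simp only [LinearMap.comp_apply]
    rw [← LinearMap.comp_apply h₃ h₂, ← h]
    exact this
  · intro m
    exact (le_sup_left : _ ≤ K ⊔ LinearMap.range h₃ ⊔ R ∙ x)
      ((le_sup_right : LinearMap.range h₃ ≤ K ⊔ LinearMap.range h₃) ⟨_, rfl⟩)

/-- A countably generated flat Mittag-Leffler module is projective. -/
theorem projective_of_flat_ML_countable (hflat : Module.Flat R M)
    (hML : CAlg.IsMittagLeffler R M) (hc : CAlg.IsCountablyGenerated R M) :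
    Module.Projective R M := by
  obtain ⟨s, hs, hspan⟩ := id hc
  have hs' : (s ∪ {0}).Countable := hs.union (Set.countable_singleton 0)
  obtain ⟨gen, hgen⟩ := hs'.exists_eq_range ⟨0, Or.inr rfl⟩
  have hgen' : Submodule.span R (Set.range gen) = ⊤ := by
    rw [eq_top_iff, ← hspan, ← hgen]
    exact Submodule.span_mono Set.subset_union_left
  have hstep : ∀ (K : {K : Submodule R M // K.FG}) (x : M),
      ∃ (c : M →ₗ[R] M) (K' : {K : Submodule R M // K.FG}), K.1 ≤ K'.1 ∧ x ∈ K'.1 ∧
        (∀ m ∈ K.1, c m = m) ∧ (∀ m, c m ∈ K'.1) ∧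
        ∃ (F : Type u) (_ : AddCommGroup F) (_ : Module R F) (_ : Module.Projective R F)
          (z : M →ₗ[R] F) (g : F →ₗ[R] M), c = g ∘ₗ z := by
    intro K x
    obtain ⟨c, K', hK', h1, h2, h3, h4, h5⟩ := step hflat hML hc K.1 K.2 x
    exact ⟨c, ⟨K', hK'⟩, h1, h2, h3, h4, h5⟩
  choose cof next h1 h2 h3 h4 h5 using hstep
  let seq : ℕ → {K : Submodule R M // K.FG} :=
    fun n => Nat.rec ⟨⊥, Submodule.fg_bot⟩ (fun n s => next s (gen n)) n
  have hmono : ∀ n, (seq n).1 ≤ (seq (n + 1)).1 := fun n => h1 (seq n) (gen n)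
  apply projective_of_seq (fun n => cof (seq n) (gen n)) (fun n => (seq n).1) hmono
  · intro m
    have hm : Monotone fun n => (seq n).1 := monotone_nat_of_le_succ hmono
    have h6 : Submodule.span R (Set.range gen) ≤ ⨆ n, (seq n).1 := by
      rw [Submodule.span_le]
      rintro _ ⟨n, rfl⟩
      exact (le_iSup (fun n => (seq n).1) (n + 1)) (h2 (seq n) (gen n))
    have h7 : m ∈ ⨆ n, (seq n).1 := h6 (by rw [hgen']; exact Submodule.mem_top)
    exact (Submodule.mem_iSup_of_directed _ hm.directed_le).mp h7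
  · exact fun n => h3 (seq n) (gen n)
  · exact fun n => h4 (seq n) (gen n)
  · exact fun n => h5 (seq n) (gen n)

end B


section C

variable {R : Type u} [CommRing R] {M : Type u} [AddCommGroup M] [Module R M]

open Groth.Agent.H1.Kap Groth.Agent.LD.ML

theorem isML_finsupp (X : Type u) : CAlg.IsMittagLeffler R (X →₀ R) := by
  have h1 : CAlg.IsMittagLeffler R (DirectSum X fun _ => R) :=
    (Groth.Agent.LD.ML.S6337 R (fun _ : X => R)).mpr fun _ => isML_self
  exact isML_of_equiv (finsuppLEquivDirectSum R R X).symm h1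

theorem isML_of_projective [Module.Projective R M] : CAlg.IsMittagLeffler R M := by
  obtain ⟨i, hi⟩ := Module.projective_def'.mp ‹Module.Projective R M›
  exact isML_of_universallyInjective i (universallyInjective_of_leftInverse i _ hi)
    (isML_finsupp M)

theorem exists_retraction_of_isInternal {κ : Type u} (L : κ → Submodule R M)
    (hL : DirectSum.IsInternal L) (k : κ) :
    ∃ r : M →ₗ[R] L k, r ∘ₗ (L k).subtype = LinearMap.id := by
  have hcompl : IsCompl (L k) (⨆ (j) (_ : j ≠ k), L j) := by
    constructor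
    · exact hL.submodule_iSupIndep k
    · rw [codisjoint_iff, ← iSup_split_single]
      exact hL.submodule_iSup_eq_top
  exact ⟨(L k).projectionOnto _ hcompl, Submodule.projectionOnto_comp_subtype hcompl⟩

theorem isInternal_map {M' : Type u} [AddCommGroup M'] [Module R M'] (e : M ≃ₗ[R] M')
    {κ : Type u} (L : κ → Submodule R M) (hL : DirectSum.IsInternal L) :
    DirectSum.IsInternal fun k => (L k).map e.toLinearMap := by
  rw [DirectSum.isInternal_submodule_iff_iSupIndep_and_iSup_eq_top] at hL ⊢
  refine ⟨?_, ?_⟩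
  · exact LinearMap.iSupIndep_map e.toLinearMap e.injective hL.1
  · rw [← Submodule.map_iSup, hL.2, Submodule.map_top, LinearMap.range_eq_top]
    exact e.surjective

theorem transport_decomp {M' : Type u} [AddCommGroup M'] [Module R M'] (e : M ≃ₗ[R] M')
    {κ : Type u} (L : κ → Submodule R M) (hL : DirectSum.IsInternal L)
    (hLc : ∀ k, CAlg.IsCountablyGenerated R (L k)) :
    ∃ (ι : Type u) (N : ι → Submodule R M'), DirectSum.IsInternal N ∧
      ∀ i, CAlg.IsCountablyGenerated R (N i) :=
  ⟨κ, fun k => (L k).map e.toLinearMap, isInternal_map e L hL, fun k =>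
    isCountablyGenerated_of_equiv (e.submoduleMap (L k)) (hLc k)⟩

theorem exists_decomp_of_projective [Module.Projective R M] :
    ∃ (ι : Type u) (N : ι → Submodule R M), DirectSum.IsInternal N ∧
      ∀ i, CAlg.IsCountablyGenerated R (N i) := by
  obtain ⟨i, hi⟩ := Module.projective_def'.mp ‹Module.Projective R M›
  set ρ : (M →₀ R) →ₗ[R] M := Finsupp.linearCombination R id with hρ
  have hinj : Function.Injective i := by
    intro v w hvw
    have := congrArg ρ hvw
    rwa [← LinearMap.comp_apply, ← LinearMap.comp_apply, hi] at this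
  let N : M → Submodule R (M →₀ R) := fun p => LinearMap.range (Finsupp.lsingle p : R →ₗ[R] M →₀ R)
  have hN : DirectSum.IsInternal N :=
    (DirectSum.isInternal_submodule_iff_iSupIndep_and_iSup_eq_top N).mpr
      ⟨iSupIndep_range_lsingle M R R, Finsupp.iSup_lsingle_range⟩
  have hc : ∀ p, CAlg.IsCountablyGenerated R (N p) := by
    intro p
    apply CG.isCountablyGenerated
    have h1 : CG (⊤ : Submodule R R) :=
      ⟨{1}, Set.countable_singleton _, Ideal.span_singleton_one⟩
    have := h1.map (Finsupp.lsingle p : R →ₗ[R] M →₀ R)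
    rwa [Submodule.map_top] at this
  have hPQ : IsCompl (LinearMap.range i) (LinearMap.ker ρ) := isCompl_range_ker i ρ hi
  obtain ⟨κ, L, hL, hLc⟩ := Kap.main N hN hc _ _ hPQ
  let e : LinearMap.range i ≃ₗ[R] M := (LinearEquiv.ofInjective i hinj).symm
  exact transport_decomp (M := LinearMap.range i) (M' := M) e L hL hLc

/-- **Stacks 059Z**: projective iff flat, Mittag-Leffler and a direct sum of countably generated
submodules. -/
theorem projective_iff :
    Module.Projective R M ↔ (Module.Flat R M ∧ CAlg.IsMittagLeffler R M ∧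
      ∃ (ι : Type u) (N : ι → Submodule R M), DirectSum.IsInternal N ∧
        ∀ i, CAlg.IsCountablyGenerated R (N i)) := by
  constructor
  · intro h
    exact ⟨inferInstance, isML_of_projective, exists_decomp_of_projective⟩
  · rintro ⟨hflat, hML, ι, N, hN, hc⟩
    haveI : ∀ i, Module.Projective R (N i) := by
      intro i
      obtain ⟨r, hr⟩ := exists_retraction_of_isInternal N hN i
      apply projective_of_flat_ML_countable
      · exact Module.Flat.of_retract (N i).subtype r hr
      · exact isML_of_universallyInjective (N i).subtype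
          (universallyInjective_of_leftInverse _ r hr) hML
      · exact hc i
    haveI : Module.Projective R (DirectSum ι fun i => N i) :=
      inferInstanceAs (Module.Projective R (Π₀ i, N i))
    exact Module.Projective.of_equiv (LinearEquiv.ofBijective (DirectSum.coeLinearMap N) hN)

end C

end Groth.Agent.H1.MLProj
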