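import Mathlib
import Groth.Agent.Lib.Helper1.MLProj

/-!
# Faithfully flat descent of projectivity (Raynaud–Gruson)
-/

set_option autoImplicit false
universe u
open scoped Classical TensorProduct

namespace Groth.Agent.H1.DescProj

open Groth.Agent.H1.Kap

section T

variable {R : Type u} [CommRing R] (S : Type u) [CommRing S] [Algebra R S]
  {M : Type u} [AddCommGroup M] [Module R M]

theorem one_tmul_mem {p : Submodule R M} {m : M} (hm : m ∈ p) :
    (1 : S) ⊗ₜ[R] m ∈ p.baseChange S := Submodule.tmul_mem_baseChange_of_mem 1 hm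

theorem baseChange_le_iff (p : Submodule R M) (X : Submodule S (S ⊗[R] M)) :
    p.baseChange S ≤ X ↔ ∀ m ∈ p, (1 : S) ⊗ₜ[R] m ∈ X := by
  rw [Submodule.baseChange_eq_span, Submodule.span_le]
  constructor
  · intro h m hm
    exact h ⟨m, hm, rfl⟩
  · rintro h _ ⟨m, hm, rfl⟩
    exact h m hm

theorem T_iSup {κ : Sort*} (p : κ → Submodule R M) :
    (⨆ k, p k).baseChange S = ⨆ k, (p k).baseChange S := by
  apply le_antisymm
  · rw [baseChange_le_iff]
    intro m hm
    induction hm using Submodule.iSup_induction' with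
    | mem k x hx => exact (le_iSup (fun k => (p k).baseChange S) k) (one_tmul_mem S hx)
    | zero => rw [TensorProduct.tmul_zero]; exact Submodule.zero_mem _
    | add x y _ _ hx hy => rw [TensorProduct.tmul_add]; exact Submodule.add_mem _ hx hy
  · exact iSup_le fun k => Submodule.baseChange_mono S (le_iSup p k)

theorem T_sup (p q : Submodule R M) :
    (p ⊔ q).baseChange S = p.baseChange S ⊔ q.baseChange S := by
  rw [sup_eq_iSup, T_iSup, sup_eq_iSup]
  congr 1
  funext b
  cases b <;> rfl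

theorem T_sSup (𝓛 : Set (Submodule R M)) :
    (sSup 𝓛).baseChange S = ⨆ L : 𝓛, (L.1).baseChange S := by
  rw [sSup_eq_iSup', T_iSup]

theorem T_map {M₂ : Type u} [AddCommGroup M₂] [Module R M₂] (g : M →ₗ[R] M₂)
    (p : Submodule R M) :
    (p.map g).baseChange S = (p.baseChange S).map (g.baseChange S) := by
  apply le_antisymm
  · rw [baseChange_le_iff]
    rintro _ ⟨m, hm, rfl⟩
    exact ⟨(1 : S) ⊗ₜ[R] m, one_tmul_mem S hm, by simp⟩
  · rw [Submodule.map_le_iff_le_comap, baseChange_le_iff]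
    intro m hm
    rw [Submodule.mem_comap, LinearMap.baseChange_tmul]
    exact one_tmul_mem S (Submodule.mem_map_of_mem hm)

theorem T_eq_top [Module.FaithfullyFlat R S] (p : Submodule R M)
    (h : p.baseChange S = ⊤) : p = ⊤ := by
  have h1 : Function.Surjective (p.subtype.lTensor S) := by
    intro x
    have hx : x ∈ p.baseChange S := by rw [h]; exact Submodule.mem_top
    obtain ⟨y, hy⟩ := hx
    exact ⟨y, hy⟩
  have h2 := (Module.FaithfullyFlat.lTensor_surjective_iff_surjective R S p.subtype).mp h1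
  rw [eq_top_iff]
  intro m _
  obtain ⟨y, rfl⟩ := h2 m
  exact y.2

/-- every element of `S ⊗ M` lies in the base change of a finitely generated submodule -/
theorem exists_finset_mem (w : S ⊗[R] M) :
    ∃ F : Finset M, w ∈ (Submodule.span R (F : Set M)).baseChange S := by
  induction w using TensorProduct.induction_on with
  | zero => exact ⟨∅, Submodule.zero_mem _⟩
  | tmul s m =>
    refine ⟨{m}, Submodule.tmul_mem_baseChange_of_mem s ?_⟩
    exact Submodule.subset_span (by simp)
  | add x y hx hy =>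
    obtain ⟨F, hF⟩ := hx
    obtain ⟨G, hG⟩ := hy
    refine ⟨F ∪ G, Submodule.add_mem _ ?_ ?_⟩
    · exact Submodule.baseChange_mono S (Submodule.span_mono (by simp)) hF
    · exact Submodule.baseChange_mono S (Submodule.span_mono (by simp)) hG

end T


section G

variable {R : Type u} [CommRing R] {S : Type u} [CommRing S] [Algebra R S]
  {M : Type u} [AddCommGroup M] [Module R M]
  {ι : Type u} (Q : ι → Submodule S (S ⊗[R] M))

theorem exists_closure (hsup : ⨆ i, Q i = ⊤) (hc : ∀ i, CG (Q i)) (i₀ : ι) :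
    ∃ (C : Set M) (J₁ : Set ι), C.Countable ∧ i₀ ∈ J₁ ∧
      (Submodule.span R C).baseChange S = MJ Q J₁ := by
  have hsupp : ∀ m : M, ∃ s : Finset ι, (1 : S) ⊗ₜ[R] m ∈ ⨆ i ∈ s, Q i :=
    fun m => exists_supp Q hsup _
  choose supp hsupp using hsupp
  have hgen : ∀ i, ∃ G : Set M, G.Countable ∧ Q i ≤ (Submodule.span R G).baseChange S := by
    intro i
    obtain ⟨g, hg, hspan⟩ := hc i
    choose F hF using exists_finset_mem (R := R) (M := M) S
    refine ⟨⋃ w ∈ g, (F w : Set M), hg.biUnion fun w _ => Finset.countable_toSet _, ?_⟩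
    rw [← hspan, Submodule.span_le]
    intro w hw
    refine Submodule.baseChange_mono S (Submodule.span_mono ?_) (hF w)
    exact Set.subset_biUnion_of_mem (u := fun w => (F w : Set M)) hw
  choose gen hgen_c hgen using hgen
  let step : Set ι → Set ι := fun D => D ∪ ⋃ i ∈ D, ⋃ m ∈ gen i, (↑(supp m) : Set ι)
  let Dn : ℕ → Set ι := fun n => step^[n] {i₀}
  have hsucc : ∀ n, Dn (n + 1) = step (Dn n) := fun n => Function.iterate_succ_apply' step n {i₀}
  have hDn_count : ∀ n, (Dn n).Countable := by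
    intro n
    induction n with
    | zero => exact Set.countable_singleton i₀
    | succ n ih =>
      rw [hsucc]
      exact ih.union (ih.biUnion fun i _ => (hgen_c i).biUnion fun g _ => Finset.countable_toSet _)
  have hJc : (⋃ n, Dn n).Countable := Set.countable_iUnion hDn_count
  refine ⟨⋃ i ∈ (⋃ n, Dn n), gen i, ⋃ n, Dn n, hJc.biUnion fun i _ => hgen_c i,
    Set.mem_iUnion.mpr ⟨0, rfl⟩, ?_⟩
  apply le_antisymm
  · rw [Submodule.baseChange_span, Submodule.span_le]
    rintro _ ⟨m, hm, rfl⟩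
    obtain ⟨i, hi, hmi⟩ := Set.mem_iUnion₂.mp hm
    obtain ⟨n, hn⟩ := Set.mem_iUnion.mp hi
    have h1 : (↑(supp m) : Set ι) ⊆ Dn (n + 1) := by
      rw [hsucc]
      intro l hl
      exact Or.inr (Set.mem_biUnion hn (Set.mem_biUnion hmi hl))
    have h2 : (1 : S) ⊗ₜ[R] m ∈ MJ Q (↑(supp m) : Set ι) := by
      have := hsupp m
      simpa [MJ] using this
    exact MJ_mono Q (h1.trans (Set.subset_iUnion Dn (n + 1))) h2
  · refine iSup₂_le fun i hi => (hgen i).trans (Submodule.baseChange_mono S (Submodule.span_mono ?_))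
    exact Set.subset_biUnion_of_mem (u := gen) hi

end G


section E

variable {R : Type u} [CommRing R] {S : Type u} [CommRing S] [Algebra R S]
  {M : Type u} [AddCommGroup M] [Module R M]
  {ι : Type u} (Q : ι → Submodule S (S ⊗[R] M)) (hind : iSupIndep Q) (hsup : ⨆ i, Q i = ⊤)

theorem ρ_eq_zero (J : Set ι) {x : S ⊗[R] M} (hx : x ∈ MJ Q Jᶜ) : ρ Q hind hsup J x = 0 := by
  simp only [ρ, LinearMap.comp_apply, Submodule.subtype_apply]
  rw [Submodule.projectionOnto_apply_of_mem_right (isCompl_MJ Q hind hsup J) hx]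
  rfl

/-- the projection killing `MJ Q J` -/
noncomputable def πJ (J : Set ι) : (S ⊗[R] M) →ₗ[S] (S ⊗[R] M) :=
  LinearMap.id - ρ Q hind hsup J

theorem πJ_eq_zero_iff (J : Set ι) {x : S ⊗[R] M} : πJ Q hind hsup J x = 0 ↔ x ∈ MJ Q J := by
  simp only [πJ, LinearMap.sub_apply, LinearMap.id_apply, sub_eq_zero]
  constructor
  · intro h
    rw [h]
    exact ρ_mem Q hind hsup J x
  · intro h
    exact (ρ_eq_self Q hind hsup J h).symm

theorem πJ_eq_self (J : Set ι) {x : S ⊗[R] M} (hx : x ∈ MJ Q Jᶜ) : πJ Q hind hsup J x = x := by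
  simp only [πJ, LinearMap.sub_apply, LinearMap.id_apply]
  rw [ρ_eq_zero Q hind hsup J hx, sub_zero]

theorem map_πJ (J J₁ : Set ι) : (MJ Q J₁).map (πJ Q hind hsup J) = MJ Q (J₁ \ J) := by
  have h1 : MJ Q J₁ = MJ Q (J₁ ∩ J) ⊔ MJ Q (J₁ \ J) := by
    rw [← MJ_union, Set.inter_union_sdiff]
  apply le_antisymm
  · rw [h1, Submodule.map_sup]
    refine sup_le ?_ ?_
    · rintro _ ⟨x, hx, rfl⟩
      rw [(πJ_eq_zero_iff Q hind hsup J).mpr (MJ_mono Q Set.inter_subset_right hx)]
      exact Submodule.zero_mem _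
    · rintro _ ⟨x, hx, rfl⟩
      rw [πJ_eq_self Q hind hsup J (MJ_mono Q (fun i hi => hi.2) hx)]
      exact hx
  · intro x hx
    refine ⟨x, MJ_mono Q Set.sdiff_subset hx, ?_⟩
    exact πJ_eq_self Q hind hsup J (MJ_mono Q (fun i hi => hi.2) hx)

include hind hsup in
theorem projective_MJ [Module.Projective S (S ⊗[R] M)] (K : Set ι) :
    Module.Projective S (MJ Q K) := by
  have hcompl := isCompl_MJ Q hind hsup K
  exact Module.Projective.of_split (MJ Q K).subtype ((MJ Q K).projectionOnto _ hcompl)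
    (Submodule.projectionOnto_comp_subtype hcompl)

include hind hsup in
theorem projective_baseChange_quot [Module.Projective S (S ⊗[R] M)] [Module.Flat R S]
    (J J₁ : Set ι) (M' N : Submodule R M) (hM' : M'.baseChange S = MJ Q J)
    (hN : N.baseChange S = MJ Q J₁) :
    Module.Projective S (S ⊗[R] (N.map M'.mkQ)) := by
  set V := N.map M'.mkQ with hV
  set f : (S ⊗[R] M) →ₗ[S] S ⊗[R] (M ⧸ M') := M'.mkQ.baseChange S with hf
  have hfsurj : Function.Surjective f := by
    have := LinearMap.lTensor_surjective S M'.mkQ_surjective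
    exact this
  have hker : LinearMap.ker f = MJ Q J := by
    rw [← hM']
    ext x
    have hex := lTensor_exact S (LinearMap.exact_subtype_mkQ M') M'.mkQ_surjective
    rw [LinearMap.mem_ker]
    exact hex x
  set π := πJ Q hind hsup J with hπ
  have hle : LinearMap.ker f ≤ LinearMap.ker π := by
    rw [hker]
    intro x hx
    exact (πJ_eq_zero_iff Q hind hsup J).mpr hx
  let γ' : S ⊗[R] (M ⧸ M') →ₗ[S] (S ⊗[R] M) :=
    (LinearMap.ker f).liftQ π hle ∘ₗ (f.quotKerEquivOfSurjective hfsurj).symm.toLinearMap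
  have hγ'f : ∀ w, γ' (f w) = π w := by
    intro w
    simp only [γ', LinearMap.comp_apply, LinearEquiv.coe_coe]
    rw [LinearMap.quotKerEquivOfSurjective_symm_apply, Submodule.liftQ_apply]
  have hγ'inj : Function.Injective γ' := by
    rw [injective_iff_map_eq_zero]
    intro y hy
    obtain ⟨w, rfl⟩ := hfsurj y
    rw [hγ'f] at hy
    have : w ∈ LinearMap.ker f := by
      rw [hker]
      exact (πJ_eq_zero_iff Q hind hsup J).mp hy
    exact this
  set g : S ⊗[R] V →ₗ[S] S ⊗[R] (M ⧸ M') := V.subtype.baseChange S with hg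
  have hginj : Function.Injective g :=
    Module.Flat.lTensor_preserves_injective_linearMap (M := S) V.subtype V.injective_subtype
  have hinj : Function.Injective (γ' ∘ₗ g) := hγ'inj.comp hginj
  have hrange : LinearMap.range (γ' ∘ₗ g) = MJ Q (J₁ \ J) := by
    rw [LinearMap.range_comp]
    have h1 : LinearMap.range g = V.baseChange S := rfl
    rw [h1, hV, T_map, ← Submodule.map_comp, hN, ← map_πJ Q hind hsup J J₁]
    congr 1
    apply LinearMap.ext
    intro w
    exact hγ'f w
  haveI := projective_MJ Q hind hsup (J₁ \ J)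
  exact Module.Projective.of_equiv
    ((LinearEquiv.ofInjective _ hinj).trans (LinearEquiv.ofEq _ _ hrange)).symm

end E


section F

variable {R : Type u} [CommRing R] {S : Type u} [CommRing S] [Algebra R S]
  [Module.FaithfullyFlat R S]
  {M : Type u} [AddCommGroup M] [Module R M]

/-- countably generated case of descent of projectivity -/
theorem projective_of_baseChange_countable (V : Type u) [AddCommGroup V] [Module R V]
    (hc : CAlg.IsCountablyGenerated R V) [Module.Projective S (S ⊗[R] V)] :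
    Module.Projective R V :=
  MLProj.projective_of_flat_ML_countable (Module.Flat.of_flat_tensorProduct R V S)
    (Groth.Agent.LD.ML.S0586 R S V MLProj.isML_of_projective) hc

variable {ι : Type u} (Q : ι → Submodule S (S ⊗[R] M)) (hind : iSupIndep Q)
  (hsup : ⨆ i, Q i = ⊤) [Module.Projective S (S ⊗[R] M)]

include hind hsup in
theorem exists_complement (J J₁ : Set ι) (M' N : Submodule R M)
    (hM' : M'.baseChange S = MJ Q J) (hN : N.baseChange S = MJ Q J₁) (hNc : CG N) :
    ∃ L : Submodule R M, CG L ∧ Disjoint M' L ∧ M' ⊔ L = M' ⊔ N := by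
  set V := N.map M'.mkQ with hV
  have hVc : CAlg.IsCountablyGenerated R V := (hNc.map M'.mkQ).isCountablyGenerated
  haveI : Module.Projective S (S ⊗[R] V) :=
    projective_baseChange_quot Q hind hsup J J₁ M' N hM' hN
  haveI : Module.Projective R V := projective_of_baseChange_countable (S := S) V hVc
  obtain ⟨σ, hσ⟩ := Module.projective_lifting_property M'.mkQ V.subtype M'.mkQ_surjective
  have hσ' : ∀ v : V, M'.mkQ (σ v) = v.1 := fun v => LinearMap.congr_fun hσ v
  refine ⟨LinearMap.range σ, ?_, ?_, ?_⟩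
  · rw [LinearMap.range_eq_map]
    exact CG.map (M := V) hVc σ
  · rw [Submodule.disjoint_def]
    rintro x hx ⟨v, rfl⟩
    have h1 : M'.mkQ (σ v) = 0 := by
      rw [Submodule.mkQ_apply, Submodule.Quotient.mk_eq_zero]
      exact hx
    rw [hσ'] at h1
    have : v = 0 := Subtype.ext h1
    rw [this, map_zero]
  · apply le_antisymm
    · refine sup_le le_sup_left ?_
      rintro _ ⟨v, rfl⟩
      obtain ⟨n, hn, hnv⟩ := v.2
      have h1 : σ v - n ∈ M' := by
        rw [← Submodule.Quotient.mk_eq_zero, ← Submodule.mkQ_apply, map_sub, hσ', hnv, sub_self]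
      have : σ v = (σ v - n) + n := by abel
      rw [this]
      exact Submodule.add_mem_sup h1 hn
    · refine sup_le le_sup_left ?_
      intro n hn
      let v : V := ⟨M'.mkQ n, Submodule.mem_map_of_mem hn⟩
      have h1 : n - σ v ∈ M' := by
        rw [← Submodule.Quotient.mk_eq_zero, ← Submodule.mkQ_apply, map_sub, hσ', sub_self]
      have : n = (n - σ v) + σ v := by abel
      rw [this]
      exact Submodule.add_mem_sup h1 ⟨v, rfl⟩

include hind hsup in
theorem exists_extension (hc : ∀ i, CG (Q i)) (J : Set ι) (M' : Submodule R M)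
    (hM' : M'.baseChange S = MJ Q J) (i₀ : ι) :
    ∃ (J' : Set ι) (L : Submodule R M), J ⊆ J' ∧ i₀ ∈ J' ∧ CG L ∧ Disjoint M' L ∧
      (M' ⊔ L).baseChange S = MJ Q J' := by
  obtain ⟨C, J₁, hC, hi₀, hCJ⟩ := exists_closure Q hsup hc i₀
  obtain ⟨L, hL, hdisj, hsupL⟩ := exists_complement Q hind hsup J J₁ M' (Submodule.span R C)
    hM' hCJ ⟨C, hC, rfl⟩
  refine ⟨J ∪ J₁, L, Set.subset_union_left, Or.inr hi₀, hL, hdisj, ?_⟩
  rw [hsupL, T_sup, hM', hCJ, MJ_union]

/-- the set of partial decompositions -/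
def Z : Set (Set ι × Set (Submodule R M)) :=
  {p | (∀ L ∈ p.2, CG L) ∧ sSupIndep p.2 ∧ (sSup p.2).baseChange S = MJ Q p.1}

omit [Module.FaithfullyFlat R S] [Module.Projective S (S ⊗[R] M)] in
theorem chain_bound (c : Set (Set ι × Set (Submodule R M))) (hcZ : c ⊆ Z Q)
    (hchain : IsChain (· ≤ ·) c) :
    ((⋃ p : c, p.1.1, ⋃ p : c, p.1.2) : Set ι × Set (Submodule R M)) ∈ Z Q := by
  refine ⟨?_, ?_, ?_⟩
  · intro L hL
    obtain ⟨p, hp⟩ := Set.mem_iUnion.mp hL
    exact (hcZ p.2).1 L hp
  · apply sSupIndep_iUnion_of_directed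
    · intro p q
      rcases hchain.total p.2 q.2 with h | h
      · exact ⟨q, h.2, le_rfl⟩
      · exact ⟨p, le_rfl, h.2⟩
    · intro p
      exact (hcZ p.2).2.1
  · change (sSup (⋃ p : c, p.1.2)).baseChange S = MJ Q (⋃ p : c, p.1.1)
    rw [sSup_iUnion, T_iSup, MJ_iUnion]
    exact iSup_congr fun p => (hcZ p.2).2.2

include hind hsup in
theorem exists_decomp_of_baseChange (hc : ∀ i, CG (Q i)) :
    ∃ 𝓛 : Set (Submodule R M), (∀ L ∈ 𝓛, CG L) ∧ sSupIndep 𝓛 ∧ sSup 𝓛 = ⊤ := by
  have h0 : ((∅, ∅) : Set ι × Set (Submodule R M)) ∈ Z Q := by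
    refine ⟨fun L hL => absurd hL (Set.notMem_empty L), sSupIndep_empty, ?_⟩
    simp [MJ]
  obtain ⟨m, -, hm⟩ := zorn_le_nonempty₀ (Z Q) (fun c hcZ hchain y hy =>
    ⟨_, chain_bound Q c hcZ hchain, fun z hz =>
      ⟨Set.subset_iUnion (fun p : c => p.1.1) ⟨z, hz⟩,
        Set.subset_iUnion (fun p : c => p.1.2) ⟨z, hz⟩⟩⟩) _ h0
  obtain ⟨J, 𝓛⟩ := m
  obtain ⟨hcg, hindL, hsupL⟩ := hm.prop
  change (sSup 𝓛).baseChange S = MJ Q J at hsupL
  have huniv : J = Set.univ := by
    by_contra hne
    obtain ⟨i₀, hi₀⟩ := (Set.ne_univ_iff_exists_notMem J).mp hne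
    obtain ⟨J', L, hJJ', hi₀J', hL, hdisj, hT⟩ :=
      exists_extension Q hind hsup hc J (sSup 𝓛) hsupL i₀
    have hmem : ((J', insert L 𝓛) : Set ι × Set (Submodule R M)) ∈ Z Q := by
      refine ⟨?_, ?_, ?_⟩
      · intro L' hL'
        rcases Set.mem_insert_iff.mp hL' with rfl | hL'
        · exact hL
        · exact hcg L' hL'
      · exact sSupIndep_insert hindL hdisj.symm
      · change (sSup (insert L 𝓛)).baseChange S = MJ Q J'
        rw [sSup_insert, sup_comm]
        exact hT
    have := hm.le_of_ge hmem ⟨hJJ', Set.subset_insert _ _⟩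
    exact hi₀ (this.1 hi₀J')
  refine ⟨𝓛, hcg, hindL, ?_⟩
  apply T_eq_top S
  rw [hsupL, huniv, MJ]
  simp only [Set.mem_univ, iSup_pos]
  exact hsup

end F

section Final

variable {R : Type u} [CommRing R] {S : Type u} [CommRing S] [Algebra R S]
  [Module.FaithfullyFlat R S]
  {M : Type u} [AddCommGroup M] [Module R M]

/-- **Raynaud–Gruson**: projectivity descends along faithfully flat ring maps. -/
theorem projective_of_baseChange [Module.Projective S (S ⊗[R] M)] : Module.Projective R M := by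
  obtain ⟨ι, Q, hQ, hQc⟩ := MLProj.exists_decomp_of_projective (R := S) (M := S ⊗[R] M)
  obtain ⟨𝓛, hcg, hind, hsup⟩ := exists_decomp_of_baseChange Q hQ.submodule_iSupIndep
    hQ.submodule_iSup_eq_top (fun i => CG_of_isCountablyGenerated (hQc i))
  rw [MLProj.projective_iff]
  refine ⟨Module.Flat.of_flat_tensorProduct R M S,
    Groth.Agent.LD.ML.S0586 R S M MLProj.isML_of_projective, 𝓛, fun k => k.1, ?_, ?_⟩
  · letI : DecidableEq ↥𝓛 := fun a b => Classical.propDecidable (a = b)
    refine (DirectSum.isInternal_submodule_iff_iSupIndep_and_iSup_eq_top _).mpr ⟨?_, ?_⟩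
    · exact (sSupIndep_iff 𝓛).mp hind
    · rw [← sSup_eq_iSup']
      exact hsup
  · intro k
    exact (hcg k.1 k.2).isCountablyGenerated

end Final

end Groth.Agent.H1.DescProj
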