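import Mathlib
import Groth.Agent.Lib.Helper1.ClosureDim
import Groth.Agent.Lib.Helper1.EquidimQF
import Groth.Agent.Lib.Helper1.FibCompC
import Groth.Agent.Lib.Helper1.Chev2
import Groth.Agent.Lib.Helper9.Misc.ORB3

set_option autoImplicit false
set_option linter.style.haveILetI false

universe u

open CategoryTheory AlgebraicGeometry TopologicalSpace Topology

namespace Groth.Agent.H1.FibZeroSurj

theorem dim_univ (T : Type*) [TopologicalSpace T] :
    topologicalKrullDim ↥(Set.univ : Set T) = topologicalKrullDim T :=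
  IsHomeomorph.topologicalKrullDim_eq _ (Homeomorph.Set.univ T).isHomeomorph

theorem nonempty_of_dim_ne_bot (T : Type*) [TopologicalSpace T] (h : topologicalKrullDim T ≠ ⊥) :
    Nonempty T := by
  by_contra hne
  rw [not_nonempty_iff] at hne
  apply h
  haveI : IsEmpty (IrreducibleCloseds T) :=
    ⟨fun Z => by obtain ⟨z, _⟩ := Z.2.nonempty; exact isEmptyElim z⟩
  exact Order.krullDim_eq_bot

theorem s7798 (k : Type u) [Field k] {X Y : Scheme.{u}}
    (p : X ⟶ Spec (CommRingCat.of k)) (q : Y ⟶ Spec (CommRingCat.of k)) [IsProper p]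
    [IsSeparated q] [LocallyOfFiniteType q] [QuasiCompact q]
    [IrreducibleSpace X] [IrreducibleSpace Y]
    (hdim : topologicalKrullDim Y ≤ topologicalKrullDim X)
    (f : X ⟶ Y) (hf : f ≫ q = p) (y : Y) (hy : topologicalKrullDim ↥(f.fiber y) = 0) :
    Surjective f ∧ topologicalKrullDim X = topologicalKrullDim Y := by
  subst hf
  haveI : IsProper f := IsProper.of_comp f q
  obtain ⟨x₀⟩ := nonempty_of_dim_ne_bot ↥(f.fiber y) (by rw [hy]; exact WithBot.zero_ne_bot)
  have hxy : f (f.fiberι y x₀) = y := by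
    have : f.fiberι y x₀ ∈ f ⁻¹' {y} := by
      rw [← f.range_fiberι y]; exact Set.mem_range_self x₀
    exact this
  have h0 : FlatMor.fibreDimAt f (f.fiberι y x₀) ≤ 0 :=
    (Groth.Agent.H1.FibComp.fibreDimAt_le_dim_fiber f _ y hxy).trans hy.le
  have hopen := Groth.Agent.H1.Chev.isOpen_fibreDimAt_le f 0
  have hξsp : ∀ z : X, genericPoint X ⤳ z := fun z =>
    (genericPoint_spec X).specializes (Set.mem_univ z)
  have hξ0 : FlatMor.fibreDimAt f (genericPoint X) ≤ ((0 : ℕ) : WithBot ℕ∞) :=
    (hξsp _).mem_open hopen (by simpa using h0)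
  obtain ⟨t, ht1, ht2⟩ := Groth.Agent.H1.EquidimQF.resTrdeg_of_isMaxPt f (genericPoint X)
    (fun z hz => (hz.antisymm (hξsp z)).eq)
  have ht0 : t = 0 := by
    rw [ht2] at hξ0
    have : t ≤ 0 := by exact_mod_cast hξ0
    omega
  obtain ⟨tX, htX1, htX2⟩ :=
    Groth.Agent.H1.ClosureDim.exists_trdeg_eq_dim_closure (f ≫ q) (genericPoint X)
  obtain ⟨tY, htY1, htY2⟩ :=
    Groth.Agent.H1.ClosureDim.exists_trdeg_eq_dim_closure q (f (genericPoint X))
  rw [Groth.Agent.H1.ClosureDim.trdeg_toResidueField_eq] at htX1 htY1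
  have hX1 : Dual3.resTrdeg (f ≫ q) (genericPoint X) = tX := htX1
  have hY1 : Dual3.resTrdeg q (f (genericPoint X)) = tY := htY1
  have hcomp := Groth.Agent.H1.EquidimQF.resTrdeg_comp f q (genericPoint X)
  rw [hX1, hY1, ht1, ht0] at hcomp
  have htXY : tY = tX := by
    have : ((tY + 0 : ℕ) : Cardinal.{u}) = (tX : Cardinal.{u}) := by
      push_cast; exact hcomp
    exact_mod_cast this
  have hXd : topologicalKrullDim X = (tX : WithBot ℕ∞) := by
    rw [← htX2, (genericPoint_spec X).def]
    exact (dim_univ X).symm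
  have hle : topologicalKrullDim ↥(closure ({f (genericPoint X)} : Set Y)) ≤ topologicalKrullDim Y :=
    topologicalKrullDim_subspace_le Y _
  have hYd : topologicalKrullDim Y = (tY : WithBot ℕ∞) := by
    apply le_antisymm
    · rw [htXY, ← hXd]; exact hdim
    · rw [← htY2]; exact hle
  refine ⟨⟨?_⟩, by rw [hXd, hYd, htXY]⟩
  -- surjectivity
  have hcl : closure ({f (genericPoint X)} : Set Y) = Set.univ := by
    by_contra hne
    have hOne : ((closure ({f (genericPoint X)} : Set Y))ᶜ).Nonempty := by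
      rw [Set.nonempty_compl]; exact hne
    have hOopen : IsOpen ((closure ({f (genericPoint X)} : Set Y))ᶜ) :=
      isClosed_closure.isOpen_compl
    have hdense : Dense ((closure ({f (genericPoint X)} : Set Y))ᶜ) := hOopen.dense hOne
    have hlt := Groth.Agent.H9.ORB3.dim_closure_lt_of_mem_boundary q
      ((closure ({f (genericPoint X)} : Set Y))ᶜ) hOopen.isLocallyClosed (f (genericPoint X))
      (hdense _) (fun h => h (subset_closure rfl))
    have hle2 := topologicalKrullDim_subspace_le Y ((closure ({f (genericPoint X)} : Set Y))ᶜ)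
    rw [htY2] at hlt
    rw [hYd] at hle2
    exact absurd (hlt.trans_le hle2) (lt_irrefl _)
  have hclosed : IsClosed (Set.range f) := f.isClosedMap.isClosed_range
  intro z
  have h1 : closure ({f (genericPoint X)} : Set Y) ⊆ Set.range f :=
    hclosed.closure_subset_iff.mpr (Set.singleton_subset_iff.mpr (Set.mem_range_self _))
  rw [hcl] at h1
  exact h1 (Set.mem_univ z)

end Groth.Agent.H1.FibZeroSurj
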