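import Mathlib
import Groth.Agent.Lib.Helper1.GeoKrull
import Groth.Agent.Lib.Helper1.FibZeroSurj

set_option autoImplicit false
universe u

namespace Groth.Agent.H1.GeoKrull

open AlgebraicGeometry CategoryTheory CategoryTheory.Limits TopologicalSpace Topology

section Top

variable {A C : Type*} [TopologicalSpace A] [TopologicalSpace C]

theorem isMaxIrr_image_of_isEmbedding {e : A → C} (he : IsEmbedding e) {S : Set A}
    (hS : S ∈ irreducibleComponents A) : IsMaxIrr (Set.range e) (e '' S) := by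
  refine ⟨hS.1.image _ he.continuous.continuousOn, Set.image_subset_range e S, ?_⟩
  intro T' hT' hT'A hST' t ht
  have hirr : IsIrreducible (e ⁻¹' T') :=
    isIrreducible_preimage_of_subset_range he.isInducing hT' hT'A
  have hle : S ≤ e ⁻¹' T' := fun a ha => hST' ⟨a, ha, rfl⟩
  have h := hS.2 hirr hle
  obtain ⟨a, rfl⟩ := hT'A ht
  exact ⟨a, h ht, rfl⟩

theorem dim_image_of_isEmbedding {e : A → C} (he : IsEmbedding e) (S : Set A) :
    topologicalKrullDim ↥(e '' S) = topologicalKrullDim ↥S := by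
  have h := RelDim.dim_preimage_eq_of_isEmbedding he (e '' S)
  rw [Set.preimage_image_eq _ he.injective,
    Set.inter_eq_left.mpr (Set.image_subset_range e S)] at h
  exact h.symm

end Top

theorem s6473 (K : Type u) [Field K] [IsAlgClosed K] (X Y Z : Scheme.{u}) (gX : X ⟶ Spec (CommRingCat.of K)) (gY : Y ⟶ Spec (CommRingCat.of K)) [IsSeparated gX] [LocallyOfFiniteType gX] [QuasiCompact gX] [IsIntegral X] [IsSeparated gY] [LocallyOfFiniteType gY] [QuasiCompact gY] [IsIntegral Y] (f : X ⟶ Y) (hf : f ≫ gY = gX) (c : ℕ) (hreg : RegImm.IsRegularImmersionOfCodim RegImm.Kind.regular c f) (ι : Z ⟶ Y) [IsClosedImmersion ι] [IsIntegral Z] (d : ℕ) (hd : topologicalKrullDim Z = d) (T : Set ↥(pullback f ι)) (hT : T ∈ irreducibleComponents ↥(pullback f ι)) : ((d : ℕ) : WithBot ℕ∞) ≤ topologicalKrullDim ↥T + c := by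
  haveI : IsImmersion f := hreg.1
  haveI : IsImmersion (pullback.snd f ι) := inferInstance
  have hR : CutOut Z (ι ⁻¹' Set.range f) c :=
    (cutOut_of_isRegularImmersionOfCodim f _ c hreg).preimage ι
  have hemb : IsEmbedding (pullback.snd f ι) := (pullback.snd f ι).isEmbedding
  have hrange : Set.range (pullback.snd f ι) = ι ⁻¹' Set.range f :=
    Scheme.Pullback.range_snd f ι
  have hmax := isMaxIrr_image_of_isEmbedding hemb hT
  rw [hrange] at hmax
  have hmax' : IsMaxIrr (Set.univ ∩ ι ⁻¹' Set.range f) ((pullback.snd f ι) '' T) := by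
    rw [Set.univ_inter]
    exact hmax
  have h1 := dim_le_dim_add_of_cutOut (ι ≫ gY) hR Set.univ
    (IrreducibleSpace.isIrreducible_univ _) isClosed_univ _ hmax'
  rw [FibZeroSurj.dim_univ, hd, dim_image_of_isEmbedding hemb] at h1
  exact h1

end Groth.Agent.H1.GeoKrull
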