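import Mathlib
import Groth.Agent.Lib.Helper1.GeoKrull
import Groth.Agent.Lib.Helper1.GeoKrullT
import Groth.Agent.Lib.Helper1.QFDimLe
import Groth.Agent.Lib.Helper1.RelDim
import Groth.Agent.Lib.Helper1.DimFormula4

/-!
# Dimension of intersections in a scheme whose diagonal is locally cut out by `n` equations

If `M` is separated and locally of finite type over a field `k` and the diagonal of `M` over `k`
is locally cut out by at most `n` equations in `M ×ₖ M`, then for closed subsets `X`, `Y` of `M`,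
equidimensional of dimensions `r` and `s`, every irreducible component of `X ∩ Y` has dimension
at least `r + s - n`.
-/

open AlgebraicGeometry CategoryTheory Limits TopologicalSpace Topology

universe u

namespace Groth.Agent.H1.IntersDim

open Groth.Agent.H1.GeoKrull

section Top

variable {A C : Type*} [TopologicalSpace A] [TopologicalSpace C]

/-- generalisation of `preimage_mem_irreducibleComponents` to embeddings -/
theorem preimage_mem_irreducibleComponents_of_isEmbedding {e : A → C} (he : IsEmbedding e)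
    {T : Set C} (hT : IsMaxIrr (Set.range e) T) : e ⁻¹' T ∈ irreducibleComponents A := by
  have hirr : IsIrreducible (e ⁻¹' T) :=
    isIrreducible_preimage_of_subset_range he.isInducing hT.1 hT.2.1
  show Maximal IsIrreducible (e ⁻¹' T)
  refine ⟨hirr, fun S' hS' hle => ?_⟩
  have h1 : IsIrreducible (e '' S') := hS'.image e he.continuous.continuousOn
  have h2 : e '' S' ⊆ Set.range e := Set.image_subset_range _ _
  have h3 : T ⊆ e '' S' := by
    intro t ht
    obtain ⟨a, rfl⟩ := hT.2.1 ht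
    exact ⟨a, hle ht, rfl⟩
  have h4 := hT.2.2 _ h1 h2 h3
  intro a ha
  exact h4 ⟨a, ha, rfl⟩

theorem dim_components_of_isEmbedding {e : A → C} (he : IsEmbedding e) (X : Set C)
    (hrange : Set.range e = X) (r : WithBot ℕ∞)
    (hX : ∀ T ∈ irreducibleComponents ↥X, topologicalKrullDim ↥T = r) :
    ∀ T ∈ irreducibleComponents A, topologicalKrullDim ↥T = r := by
  intro T hT
  have h1 : IsMaxIrr (Set.range e) (e '' T) := isMaxIrr_image_of_isEmbedding he hT
  rw [hrange] at h1
  have h2 := preimage_mem_irreducibleComponents h1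
  have h3 := hX _ h2
  rw [dim_preimage_val h1.2.1, dim_image_of_isEmbedding he] at h3
  exact h3

end Top

variable {k : Type u} [Field k]

theorem dim_components_pullback {A B : Scheme.{u}} (gA : A ⟶ Spec (CommRingCat.of k))
    (gB : B ⟶ Spec (CommRingCat.of k)) [LocallyOfFiniteType gA] [LocallyOfFiniteType gB]
    (r s : ℕ)
    (hA : ∀ T ∈ irreducibleComponents A, topologicalKrullDim ↥T = r)
    (hB : ∀ T ∈ irreducibleComponents B, topologicalKrullDim ↥T = s) :
    ∀ T ∈ irreducibleComponents ↥(pullback gA gB),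
      topologicalKrullDim ↥T = ((r + s : ℕ) : WithBot ℕ∞) := by
  have hA' := (RelDim.forall_dim_irreducibleComponents_iff gA r).mp hA
  have hB' := (RelDim.forall_dim_irreducibleComponents_iff gB s).mp hB
  refine (RelDim.forall_dim_irreducibleComponents_iff (pullback.fst gA gB ≫ gA) _).mpr ?_
  intro z
  rw [DimFormula.localDim_pullback_field gA gB z, hA', hB', Nat.cast_add]

theorem inter_dim_aux {M A B : Scheme.{u}} (q : M ⟶ Spec (CommRingCat.of k))
    [LocallyOfFiniteType q] [IsSeparated q] (n : ℕ)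
    (hΔ : CutOut (pullback q q) (Set.range (pullback.diagonal q)) n) (r s : ℕ)
    (ιA : A ⟶ M) (ιB : B ⟶ M) [IsClosedImmersion ιA] [IsClosedImmersion ιB]
    (hA : ∀ T ∈ irreducibleComponents A, topologicalKrullDim ↥T = r)
    (hB : ∀ T ∈ irreducibleComponents B, topologicalKrullDim ↥T = s)
    (T₀ : Set M) (hT₀ : IsMaxIrr (Set.range ιA ∩ Set.range ιB) T₀) :
    ((r + s : ℕ) : WithBot ℕ∞) ≤ topologicalKrullDim ↥T₀ + (n : WithBot ℕ∞) := by
  have hsq := pullback_map_diagonal_isPullback ιA ιB q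
  have hRθ : Set.range (pullback.mapDesc ιA ιB q) =
      (pullback.map (ιA ≫ q) (ιB ≫ q) q q ιA ιB (𝟙 _) (Category.comp_id _)
        (Category.comp_id _)) ⁻¹' Set.range (pullback.diagonal q) := by
    have := Scheme.image_preimage_eq_of_isPullback hsq Set.univ
    simpa [Set.image_univ] using this
  have hR : CutOut (pullback (ιA ≫ q) (ιB ≫ q)) (Set.range (pullback.mapDesc ιA ιB q)) n := by
    rw [hRθ]
    exact hΔ.preimage _
  have hP := dim_components_pullback (ιA ≫ q) (ιB ≫ q) r s hA hB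
  have hιC : Set.range (pullback.fst ιA ιB ≫ ιA) = Set.range ιA ∩ Set.range ιB :=
    Scheme.Pullback.range_fst_comp ιA ιB
  have hemb : IsEmbedding (pullback.fst ιA ιB ≫ ιA) :=
    (pullback.fst ιA ιB ≫ ιA).isClosedEmbedding.isEmbedding
  have hθ : IsEmbedding (pullback.mapDesc ιA ιB q) :=
    (pullback.mapDesc ιA ιB q).isClosedEmbedding.isEmbedding
  rw [← hιC] at hT₀
  have hSC := preimage_mem_irreducibleComponents_of_isEmbedding hemb hT₀
  have himg : (pullback.fst ιA ιB ≫ ιA) '' ((pullback.fst ιA ιB ≫ ιA) ⁻¹' T₀) = T₀ :=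
    Set.image_preimage_eq_of_subset hT₀.2.1
  have hT := isMaxIrr_image_of_isEmbedding hθ hSC
  have hdimT : topologicalKrullDim
      ↥((pullback.mapDesc ιA ιB q) '' ((pullback.fst ιA ιB ≫ ιA) ⁻¹' T₀)) =
        topologicalKrullDim ↥T₀ := by
    calc _ = topologicalKrullDim ↥((pullback.fst ιA ιB ≫ ιA) ⁻¹' T₀) :=
          dim_image_of_isEmbedding hθ _
      _ = topologicalKrullDim ↥((pullback.fst ιA ιB ≫ ιA) ''
            ((pullback.fst ιA ιB ≫ ιA) ⁻¹' T₀)) := (dim_image_of_isEmbedding hemb _).symm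
      _ = _ := by rw [himg]
  obtain ⟨P', hP'mem, hTP'⟩ := exists_mem_irreducibleComponents_subset_of_isIrreducible _ hT.1
  have hP'irr : IsIrreducible P' := hP'mem.1
  have hP'cl : IsClosed P' := isClosed_of_mem_irreducibleComponents _ hP'mem
  have hmax : IsMaxIrr (P' ∩ Set.range (pullback.mapDesc ιA ιB q))
      ((pullback.mapDesc ιA ιB q) '' ((pullback.fst ιA ιB ≫ ιA) ⁻¹' T₀)) :=
    ⟨hT.1, fun t ht => ⟨hTP' ht, hT.2.1 ht⟩,
      fun T' hT' hsub hle => hT.2.2 T' hT' (fun t ht => (hsub ht).2) hle⟩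
  have key := dim_le_dim_add_of_cutOut (pullback.fst (ιA ≫ q) (ιB ≫ q) ≫ ιA ≫ q) hR P' hP'irr
    hP'cl _ hmax
  rw [hP P' hP'mem, hdimT] at key
  exact key

theorem inter_dim {M : Scheme.{u}} (q : M ⟶ Spec (CommRingCat.of k))
    [LocallyOfFiniteType q] [IsSeparated q] (n : ℕ)
    (hΔ : CutOut (pullback q q) (Set.range (pullback.diagonal q)) n) (r s : ℕ)
    (X Y : Set M) (hX : IsClosed X) (hY : IsClosed Y)
    (hXr : ∀ T ∈ irreducibleComponents ↥X, topologicalKrullDim ↥T = r)
    (hYs : ∀ T ∈ irreducibleComponents ↥Y, topologicalKrullDim ↥T = s)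
    (Z : Set ↥(X ∩ Y)) (hZ : Z ∈ irreducibleComponents ↥(X ∩ Y)) :
    ((r + s : ℕ) : WithBot ℕ∞) ≤ topologicalKrullDim ↥Z + (n : WithBot ℕ∞) := by
  have hrA : Set.range (Scheme.IdealSheafData.vanishingIdeal ⟨X, hX⟩).subschemeι = X :=
    QFDimLe.range_subschemeι_vanishingIdeal ⟨X, hX⟩
  have hrB : Set.range (Scheme.IdealSheafData.vanishingIdeal ⟨Y, hY⟩).subschemeι = Y :=
    QFDimLe.range_subschemeι_vanishingIdeal ⟨Y, hY⟩
  have hA := dim_components_of_isEmbedding
    (Scheme.IdealSheafData.vanishingIdeal ⟨X, hX⟩).subschemeι.isClosedEmbedding.isEmbedding X hrA r hXr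
  have hB := dim_components_of_isEmbedding
    (Scheme.IdealSheafData.vanishingIdeal ⟨Y, hY⟩).subschemeι.isClosedEmbedding.isEmbedding Y hrB s hYs
  have hT₀ : IsMaxIrr (X ∩ Y) (Subtype.val '' Z) := isMaxIrr_image hZ
  obtain ⟨T₀, hT₀eq⟩ : ∃ T₀ : Set M, T₀ = Subtype.val '' Z := ⟨_, rfl⟩
  rw [← hT₀eq] at hT₀
  have hT₀' : IsMaxIrr (Set.range (Scheme.IdealSheafData.vanishingIdeal ⟨X, hX⟩).subschemeι ∩
      Set.range (Scheme.IdealSheafData.vanishingIdeal ⟨Y, hY⟩).subschemeι) T₀ := by
    rw [hrA, hrB]; exact hT₀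
  have key := inter_dim_aux q n hΔ r s _ _ hA hB _ hT₀'
  rw [hT₀eq, dim_image_val] at key
  exact key

end Groth.Agent.H1.IntersDim
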