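import Mathlib

/-! A minimal prime over an ideal generated by a regular sequence of length `n` has height `n`. -/

universe u

namespace Groth.Agent.H1.RegHt

open RingTheory.Sequence

theorem height_eq_length_of_mem_minimalPrimes {A : Type u} [CommRing A] [IsNoetherianRing A]
    (rs : List A) (hreg : IsWeaklyRegular A rs) (q : Ideal A)
    (hq : q ∈ (Ideal.ofList rs).minimalPrimes) : q.height = rs.length := by
  haveI : q.IsPrime := hq.1.1
  have hmem : ∀ r ∈ rs, r ∈ q := fun r hr => hq.1.2 (Ideal.subset_span hr)
  have hreg' : IsRegular (Localization.AtPrime q) (rs.map (algebraMap A (Localization.AtPrime q))) :=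
    hreg.isRegular_of_isLocalization_of_mem (Localization.AtPrime q) q hmem
  haveI : IsNoetherianRing (Localization.AtPrime q) :=
    IsLocalization.isNoetherianRing q.primeCompl _ inferInstance
  have h1 := ringKrullDim_add_length_eq_ringKrullDim_of_isRegular _ hreg'
  have hmin : IsLocalRing.maximalIdeal (Localization.AtPrime q) ∈
      (Ideal.ofList (rs.map (algebraMap A (Localization.AtPrime q)))).minimalPrimes := by
    rw [← Ideal.map_ofList (algebraMap A (Localization.AtPrime q)) rs,
      IsLocalization.minimalPrimes_map q.primeCompl (Localization.AtPrime q)]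
    have h2 := IsLocalization.AtPrime.under_maximalIdeal (Localization.AtPrime q) q
    have h3 : Ideal.under A (IsLocalRing.maximalIdeal (Localization.AtPrime q)) ∈
        (Ideal.ofList rs).minimalPrimes := by rw [h2]; exact hq
    exact h3
  haveI : IsArtinianRing (Localization.AtPrime q ⧸
      Ideal.ofList (rs.map (algebraMap A (Localization.AtPrime q)))) :=
    IsLocalRing.quotient_artinian_of_mem_minimalPrimes_of_isLocalRing _ hmin
  haveI : Nontrivial (Localization.AtPrime q ⧸
      Ideal.ofList (rs.map (algebraMap A (Localization.AtPrime q)))) :=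
    Ideal.Quotient.nontrivial_iff.mpr
      (fun htop => hmin.1.1.ne_top (top_le_iff.mp (htop ▸ hmin.1.2)))
  have h0 : ringKrullDim (Localization.AtPrime q ⧸
      Ideal.ofList (rs.map (algebraMap A (Localization.AtPrime q)))) = 0 :=
    ringKrullDimZero_iff_ringKrullDim_eq_zero.mp inferInstance
  rw [h0, zero_add, List.length_map,
    IsLocalization.AtPrime.ringKrullDim_eq_height q (Localization.AtPrime q)] at h1
  exact_mod_cast h1.symm

end Groth.Agent.H1.RegHt
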