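import Mathlib
import Groth.Prelude
import Groth.Agent.Lib.Helper8.RegSec.Chart
import Groth.Agent.Lib.Helper1.ClosureDim
import Groth.Agent.Lib.Helper1.EquiDim
import Groth.Agent.Lib.Helper1.RegHt
import Groth.Agent.Lib.Helper1.CartierKit
import Groth.Agent.Lib.Helper1.IntersDim
import Groth.Agent.Lib.Helper1.GeoKrullT
import Groth.Agent.Lib.Helper1.FibZeroSurj

/-! The diagonal of a smooth integral separated scheme of dimension `n` over a field is a regular
immersion of codimension `n`; dimension of intersections on a smooth variety (helper1). -/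

set_option autoImplicit false
set_option linter.style.haveILetI false

universe u

open CategoryTheory CategoryTheory.Limits AlgebraicGeometry TopologicalSpace Topology
  RingTheory.Sequence

namespace Groth.Agent.H1.DiagReg

section Field

variable {k : Type u} [Field k] {Z : Scheme.{u}} (gk : Z ⟶ Spec (CommRingCat.of k))

/-- dimension formula: `dim O_{Z,z} + dim closure{z} = localDim Z z`. -/
theorem stalk_add_dim_closure [LocallyOfFiniteType gk] (z : Z) :
    ringKrullDim (Z.presheaf.stalk z) + topologicalKrullDim ↥(closure ({z} : Set Z)) =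
      FlatMor.localDim Z z := by
  obtain ⟨t, ht, h1⟩ := DimFormula.exists_localDim_eq_stalk_add_trdeg gk z
  obtain ⟨t', ht', h2⟩ := ClosureDim.exists_trdeg_eq_dim_closure gk z
  have htt : t = t' := by
    have : (t : Cardinal) = (t' : Cardinal) := by rw [← ht, ← ht']
    exact_mod_cast this
  rw [h1, h2, htt]

theorem height_primeIdealOf {Z : Scheme.{u}} {U : Z.Opens} (hU : IsAffineOpen U) (y : Z)
    (hy : y ∈ U) :
    ((hU.primeIdealOf ⟨y, hy⟩).asIdeal.height : WithBot ℕ∞) =
      ringKrullDim (Z.presheaf.stalk y) := by
  letI := Z.presheaf.algebra_section_stalk ⟨y, hy⟩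
  haveI := hU.isLocalization_stalk ⟨y, hy⟩
  exact (IsLocalization.AtPrime.ringKrullDim_eq_height (hU.primeIdealOf ⟨y, hy⟩).asIdeal
    (Z.presheaf.stalk y)).symm

end Field

section Diag

variable {K : Type u} [Field K] {X : Scheme.{u}} (f : X ⟶ Spec (CommRingCat.of K))

theorem localDim_diag [LocallyOfFiniteType f] [IrreducibleSpace X] (n : ℕ)
    (hn : topologicalKrullDim X = n) (x : X) :
    FlatMor.localDim ↥(pullback f f) (pullback.diagonal f x) = ((n + n : ℕ) : WithBot ℕ∞) := by
  rw [DimFormula.localDim_pullback_field f f]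
  have h1 : pullback.fst f f (pullback.diagonal f x) = x := by
    show (pullback.diagonal f ≫ pullback.fst f f) x = x
    rw [pullback.diagonal_fst]
    rfl
  have h2 : pullback.snd f f (pullback.diagonal f x) = x := by
    show (pullback.diagonal f ≫ pullback.snd f f) x = x
    rw [pullback.diagonal_snd]
    rfl
  rw [h1, h2, EquiDim.localDim_eq_dim f x, hn, Nat.cast_add]

theorem dim_stalk_diag_generic [Smooth f] [IsSeparated f] [IsIntegral X] (n : ℕ)
    (hn : topologicalKrullDim X = n) :
    ringKrullDim ((pullback f f).presheaf.stalk (pullback.diagonal f (genericPoint X))) = n := by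
  have h1 := stalk_add_dim_closure (pullback.fst f f ≫ f) (pullback.diagonal f (genericPoint X))
  rw [localDim_diag f n hn (genericPoint X)] at h1
  have hcl : closure ({pullback.diagonal f (genericPoint X)} : Set ↥(pullback f f)) =
      (pullback.diagonal f) '' Set.univ := by
    have h := (pullback.diagonal f).isClosedEmbedding.closure_image_eq ({genericPoint X} : Set X)
    rw [Set.image_singleton] at h
    rw [h, (genericPoint_spec X).def]
  rw [hcl, GeoKrull.dim_image_of_isEmbedding (pullback.diagonal f).isClosedEmbedding.isEmbedding,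
    FibZeroSurj.dim_univ, hn, Nat.cast_add] at h1
  exact ENat.WithBot.add_natCast_cancel.mp h1

theorem diag_regular [Smooth f] [IsSeparated f] [IsIntegral X] (n : ℕ)
    (hn : topologicalKrullDim X = n) :
    RegImm.IsRegularImmersionOfCodim RegImm.Kind.regular n (pullback.diagonal f) := by
  haveI : IsClosedImmersion (pullback.diagonal f) := inferInstance
  have hreg : Mor2.IsRegularClosedImmersion (pullback.diagonal f) :=
    Groth.Agent.H8.RegSec.isRegularClosedImmersion_section (pullback.fst f f) (pullback.diagonal f)
      (pullback.diagonal_fst f)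
  haveI : IsLocallyNoetherian (pullback f f) :=
    LocallyOfFiniteType.isLocallyNoetherian (pullback.fst f f ≫ f)
  refine ⟨inferInstance, fun z => ?_⟩
  obtain ⟨U, hU, hzU, rs, hrs, hker⟩ := hreg.2 z
  rw [Scheme.Hom.ker_apply] at hker
  refine ⟨⟨U, hU⟩, hzU, ?_, rs, ?_, hrs, hker⟩
  · exact IsZariskiLocalAtTarget.restrict ‹IsClosedImmersion (pullback.diagonal f)› U
  · have hξz : genericPoint X ⤳ z := (genericPoint_spec X).specializes trivial
    have hξU : pullback.diagonal f (genericPoint X) ∈ U :=
      (hξz.map (pullback.diagonal f).continuous).mem_open U.isOpen hzU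
    haveI : Nonempty ↥((pullback.diagonal f) ⁻¹ᵁ U) := ⟨⟨genericPoint X, hξU⟩⟩
    haveI : IsNoetherianRing Γ(pullback f f, U) :=
      IsLocallyNoetherian.component_noetherian ⟨U, hU⟩
    have hI : RingHom.ker ((pullback.diagonal f).app U).hom =
        (hU.primeIdealOf ⟨pullback.diagonal f (genericPoint X), hξU⟩).asIdeal := by
      ext t
      rw [CartierKit.mem_primeIdealOf_iff hU _ hξU t, RingHom.mem_ker]
      constructor
      · intro h0 hmem
        have h1 : genericPoint X ∈ (pullback.diagonal f) ⁻¹ᵁ (pullback f f).basicOpen t := hmem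
        rw [Scheme.preimage_basicOpen] at h1
        have h2 : X.basicOpen (((pullback.diagonal f).app U).hom t) = ⊥ := by
          rw [h0]
          exact Scheme.basicOpen_zero _ _
        have h3 : genericPoint X ∈ X.basicOpen (((pullback.diagonal f).app U).hom t) := h1
        rw [h2] at h3
        exact h3
      · intro hnot
        have h2 : X.basicOpen (((pullback.diagonal f).app U).hom t) = ⊥ := by
          refine eq_bot_iff.mpr (fun y hy => (hnot ?_).elim)
          have hgy : genericPoint X ⤳ y := (genericPoint_spec X).specializes trivial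
          have h3 : genericPoint X ∈ X.basicOpen (((pullback.diagonal f).app U).hom t) :=
            hgy.mem_open (X.basicOpen _).isOpen hy
          have h4 : genericPoint X ∈ (pullback.diagonal f) ⁻¹ᵁ (pullback f f).basicOpen t := by
            rw [Scheme.preimage_basicOpen]
            exact h3
          exact h4
        exact (basicOpen_eq_bot_iff _).mp h2
    haveI hdom : IsDomain Γ(X, (pullback.diagonal f) ⁻¹ᵁ U) :=
      @IsIntegral.component_integral X _ ((pullback.diagonal f) ⁻¹ᵁ U) ⟨⟨genericPoint X, hξU⟩⟩
    haveI hprime : (RingHom.ker ((pullback.diagonal f).app U).hom).IsPrime :=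
      RingHom.ker_isPrime _
    have hmin : RingHom.ker ((pullback.diagonal f).app U).hom ∈
        (Ideal.ofList rs).minimalPrimes := by
      rw [← hker, Ideal.minimalPrimes_eq_subsingleton_self]
      rfl
    have hht := RegHt.height_eq_length_of_mem_minimalPrimes rs hrs.toIsWeaklyRegular _ hmin
    have hht2 : ((hU.primeIdealOf ⟨pullback.diagonal f (genericPoint X), hξU⟩).asIdeal.height :
        WithBot ℕ∞) = n := by
      rw [height_primeIdealOf hU _ hξU]
      exact dim_stalk_diag_generic f n hn
    rw [hI] at hht
    rw [hht] at hht2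
    exact_mod_cast hht2

theorem inter_dim_smooth [Smooth f] [IsSeparated f] [IsIntegral X] (n r s : ℕ)
    (hn : topologicalKrullDim X = n) (V W : Set X) (hVc : IsClosed V) (hVi : IsIrreducible V)
    (hWc : IsClosed W) (hWi : IsIrreducible W) (hr : topologicalKrullDim ↥V = r)
    (hs : topologicalKrullDim ↥W = s) (Z : Set ↥(V ∩ W))
    (hZ : Z ∈ irreducibleComponents ↥(V ∩ W)) :
    ((r + s : ℕ) : WithBot ℕ∞) ≤ topologicalKrullDim ↥Z + n := by
  have hΔ := GeoKrull.cutOut_of_isRegularImmersionOfCodim (pullback.diagonal f) .regular n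
    (diag_regular f n hn)
  have aux : ∀ (V : Set X) (r : ℕ), IsIrreducible V → topologicalKrullDim ↥V = r →
      ∀ T ∈ irreducibleComponents ↥V, topologicalKrullDim ↥T = r := by
    intro V r hVi hr T hT
    haveI : IrreducibleSpace ↥V := Subtype.irreducibleSpace hVi
    rw [irreducibleComponents_eq_singleton, Set.mem_singleton_iff] at hT
    rw [hT, FibZeroSurj.dim_univ, hr]
  exact IntersDim.inter_dim f n hΔ r s V W hVc hWc (aux V r hVi hr) (aux W s hWi hs) Z hZ

end Diag

end Groth.Agent.H1.DiagReg
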