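import Mathlib
import Groth.Agent.Lib.Helper1.DimFormula3
import Groth.Agent.Lib.Helper1.FibreStalk
import Groth.Agent.Lib.Helper1.FlatDimLocal

/-! Helper1: base change of a scheme over a field: fibres of `X_K ⟶ X`; flat local homs with equal
dimension and reduced fibre. -/

set_option autoImplicit false
universe u
open CategoryTheory CategoryTheory.Limits AlgebraicGeometry
attribute [local instance] Curv2.resAlgebra
open scoped TensorProduct

namespace Groth.Agent.H1.DimFormula

/-- the fibre of `X_K ⟶ X` over `x` is `Spec (κ(x) ⊗_k K)` -/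
theorem nonempty_fiber_bcFst_iso (k : Type u) [Field k] (X : Scheme.{u})
    [X.Over (Spec (CommRingCat.of k))] (K : Type u) [Field K] [Algebra k K] (x : X) :
    Nonempty ((Curv2.bcFst k X K).fiber x ≅
      Spec (CommRingCat.of (X.residueField x ⊗[k] K))) := by
  set p := Curv2.bcFst k X K with hp
  set gX := X ↘ Spec (CommRingCat.of k) with hgX
  have left : IsPullback (p.fiberι x) (p.fiberToSpecResidueField x) p
      (X.fromSpecResidueField x) := IsPullback.of_hasPullback _ _
  have right : IsPullback (pullback.snd gX (Spec.map (CommRingCat.ofHom (algebraMap k K)))) p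
      (Spec.map (CommRingCat.ofHom (algebraMap k K))) gX :=
    (IsPullback.of_hasPullback gX (Spec.map (CommRingCat.ofHom (algebraMap k K)))).flip
  have big := left.paste_horiz right
  have e : X.fromSpecResidueField x ≫ gX =
      Spec.map (CommRingCat.ofHom (algebraMap k (X.residueField x))) := by
    rw [← SpecMap_toResidueField]
    congr 1
    ext1
    exact (resMap_eq k X x).symm
  rw [e] at big
  have tens := (AlgebraicGeometry.isPullback_SpecMap_of_isPushout _ _ _ _
    (CommRingCat.isPushout_tensorProduct k (X.residueField x) K)).flip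
  exact ⟨big.isoIsPullback _ _ tens⟩

end Groth.Agent.H1.DimFormula

namespace Groth.Agent.H1.DimFormula

theorem eq_zero_of_natCast_add_eq {n : ℕ} {c : WithBot ℕ∞}
    (h : (n : WithBot ℕ∞) + c = (n : WithBot ℕ∞)) : c = 0 := by
  induction c with
  | bot =>
    exfalso
    rw [WithBot.add_bot] at h
    exact WithBot.bot_ne_coe (a := (n : ℕ∞)) (by exact_mod_cast h)
  | coe c =>
    have h' : (n : ℕ∞) + c = (n : ℕ∞) + 0 := by
      rw [add_zero]; exact_mod_cast h
    have := ENat.add_right_injective_of_ne_top (ENat.natCast_ne_top n) h'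
    rw [this]; rfl

/-- a local homomorphism `A → B` of noetherian local rings, flat, with `dim A = dim B` and reduced
closed fibre, satisfies `m_A B = m_B`. -/
theorem map_maximalIdeal_eq_of_flat_of_dim_eq (A B : Type u) [CommRing A] [CommRing B]
    [IsLocalRing A] [IsLocalRing B] [Algebra A B] [IsLocalHom (algebraMap A B)]
    [IsNoetherianRing A] [IsNoetherianRing B] [Module.Flat A B]
    (hdim : ringKrullDim A = ringKrullDim B)
    (hred : _root_.IsReduced (B ⧸ (IsLocalRing.maximalIdeal A).map (algebraMap A B))) :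
    (IsLocalRing.maximalIdeal A).map (algebraMap A B) = IsLocalRing.maximalIdeal B := by
  have h1 := Groth.Agent.H1.FlatDim.ringKrullDim_eq_add_fiber_of_flat A B
  rw [← hdim] at h1
  obtain ⟨n, hn⟩ : ∃ n : ℕ, ringKrullDim A = n := by
    have h1 : ringKrullDim A ≠ ⊤ := ringKrullDim_ne_top
    have h2 : ringKrullDim A ≠ ⊥ := ringKrullDim_ne_bot
    obtain ⟨a, ha⟩ := WithBot.ne_bot_iff_exists.mp h2
    rw [← ha] at h1
    have : a ≠ ⊤ := fun h => h1 (by rw [h]; rfl)
    obtain ⟨n, rfl⟩ := ENat.ne_top_iff_exists.mp this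
    exact ⟨n, ha.symm⟩
  rw [hn] at h1
  have hzero := eq_zero_of_natCast_add_eq h1.symm
  haveI : Ring.KrullDimLE 0 (B ⧸ (IsLocalRing.maximalIdeal A).map (algebraMap A B)) :=
    ringKrullDimZero_iff_ringKrullDim_eq_zero.mpr hzero
  have hmax : IsLocalRing.maximalIdeal
      (B ⧸ (IsLocalRing.maximalIdeal A).map (algebraMap A B)) = ⊥ := by
    exact (Ring.KrullDimLE.nilradical_eq_maximalIdeal _).symm.trans (nilradical_eq_zero _)
  apply le_antisymm (Groth.Agent.H1.FlatDim.map_maximalIdeal_le A B)
  intro b hb
  have h2 : Ideal.Quotient.mk ((IsLocalRing.maximalIdeal A).map (algebraMap A B)) b ∈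
      IsLocalRing.maximalIdeal (B ⧸ (IsLocalRing.maximalIdeal A).map (algebraMap A B)) := by
    rw [Groth.Agent.H1.FlatDim.maximalIdeal_fiber]
    exact Ideal.mem_map_of_mem _ hb
  rw [hmax, Ideal.mem_bot, Ideal.Quotient.eq_zero_iff_mem] at h2
  exact h2

end Groth.Agent.H1.DimFormula

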