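import Mathlib
import Groth.Agent.Lib.Helper1.DimFun2
import Groth.Agent.Lib.Helper1.DimFormula3

/-! # `-dim O_{S,s}` is a dimension function when the local rings are catenary domains. -/

set_option autoImplicit false
set_option linter.style.haveILetI false
universe u
open CategoryTheory AlgebraicGeometry

namespace Groth.Agent.H1.DimFun

open Groth.Agent.H1.DimLoc Groth.Agent.H1.DimIneq Groth.Agent.H6

variable {X S : Scheme.{u}}

/-- immediate specializations give covering primes in a chart. -/
theorem eq_or_eq_of_immediate {U : X.Opens} (hU : IsAffineOpen U) (x y : X) (hx : x ∈ U)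
    (hy : y ∈ U) (himm : ∀ z : X, x ⤳ z → z ⤳ y → z = x ∨ z = y) (Q : Ideal Γ(X, U)) [Q.IsPrime]
    (h1 : (hU.primeIdealOf ⟨x, hx⟩).asIdeal ≤ Q) (h2 : Q ≤ (hU.primeIdealOf ⟨y, hy⟩).asIdeal) :
    Q = (hU.primeIdealOf ⟨x, hx⟩).asIdeal ∨ Q = (hU.primeIdealOf ⟨y, hy⟩).asIdeal := by
  set P : Spec Γ(X, U) := ⟨Q, inferInstance⟩ with hP
  have hzU : hU.fromSpec P ∈ U := by
    rw [← SetLike.mem_coe, ← hU.range_fromSpec]; exact ⟨P, rfl⟩
  have hprime := primeIdealOf_fromSpec hU P hzU
  have hxz : x ⤳ hU.fromSpec P := by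
    have h3 : hU.primeIdealOf ⟨x, hx⟩ ⤳ P :=
      (PrimeSpectrum.le_iff_specializes (R := Γ(X, U)) _ P).1 h1
    have := h3.map hU.fromSpec.continuous
    rwa [hU.fromSpec_primeIdealOf] at this
  have hzy : hU.fromSpec P ⤳ y := by
    have h3 : P ⤳ hU.primeIdealOf ⟨y, hy⟩ :=
      (PrimeSpectrum.le_iff_specializes (R := Γ(X, U)) P _).1 h2
    have := h3.map hU.fromSpec.continuous
    rwa [hU.fromSpec_primeIdealOf] at this
  rcases himm _ hxz hzy with h | h
  · left
    have hPq' : P = hU.primeIdealOf ⟨x, hx⟩ := by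
      rw [← hprime]; congr 1; exact Subtype.ext h
    exact congrArg PrimeSpectrum.asIdeal hPq'
  · right
    have hPq' : P = hU.primeIdealOf ⟨y, hy⟩ := by
      rw [← hprime]; congr 1; exact Subtype.ext h
    exact congrArg PrimeSpectrum.asIdeal hPq'

/-- **Lemma CatDom**: if `R_p` is a Noetherian catenary domain and `p'` is a prime covered by
`p`, then `ht p = ht p' + 1`. -/
theorem height_eq_add_one_of_localization {R : Type u} [CommRing R] (p p' : Ideal R) [p.IsPrime]
    [p'.IsPrime] (A : Type u) [CommRing A] [Algebra R A] [IsLocalization.AtPrime A p]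
    [IsNoetherianRing A] [IsDomain A] (hcat : CAlg.IsCatenary A) (hlt : p' < p)
    (hcov : ∀ Q : Ideal R, Q.IsPrime → p' ≤ Q → Q ≤ p → Q = p' ∨ Q = p) :
    p.height = p'.height + 1 := by
  haveI : IsLocalRing A := IsLocalization.AtPrime.isLocalRing A p
  have hdisjp : Disjoint (p.primeCompl : Set R) (p : Set R) := by
    rw [Set.disjoint_left]
    intro r hr hrp
    exact hr hrp
  have hdisjp' : Disjoint (p.primeCompl : Set R) (p' : Set R) := by
    rw [Set.disjoint_left]
    intro r hr hrp
    exact hr (hlt.le hrp)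
  haveI hP : (p.map (algebraMap R A)).IsPrime :=
    IsLocalization.isPrime_of_isPrime_disjoint p.primeCompl A p inferInstance hdisjp
  haveI hP' : (p'.map (algebraMap R A)).IsPrime :=
    IsLocalization.isPrime_of_isPrime_disjoint p.primeCompl A p' inferInstance hdisjp'
  have hu : (p.map (algebraMap R A)).under R = p :=
    IsLocalization.under_map_of_isPrime_disjoint p.primeCompl A inferInstance hdisjp
  have hu' : (p'.map (algebraMap R A)).under R = p' :=
    IsLocalization.under_map_of_isPrime_disjoint p.primeCompl A inferInstance hdisjp'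
  have hcovA : (⟨p'.map (algebraMap R A), hP'⟩ : PrimeSpectrum A) ⋖
      ⟨p.map (algebraMap R A), hP⟩ := by
    refine ⟨?_, ?_⟩
    · refine lt_of_le_of_ne (Ideal.map_mono hlt.le) ?_
      intro h
      have h1 : p'.map (algebraMap R A) = p.map (algebraMap R A) :=
        congrArg PrimeSpectrum.asIdeal h
      have h2 := congrArg (Ideal.under R) h1
      rw [hu, hu'] at h2
      exact hlt.ne h2
    · intro Q h1 h2
      have h1' : p'.map (algebraMap R A) < Q.asIdeal := h1
      have h2' : Q.asIdeal < p.map (algebraMap R A) := h2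
      have hQ1 : p' ≤ Q.asIdeal.under R := by
        rw [← hu']; exact Ideal.comap_mono h1'.le
      have hQ2 : Q.asIdeal.under R ≤ p := by
        rw [← hu]; exact Ideal.comap_mono h2'.le
      have hQmap : (Q.asIdeal.under R).map (algebraMap R A) = Q.asIdeal :=
        IsLocalization.map_under p.primeCompl A Q.asIdeal
      rcases hcov (Q.asIdeal.under R) (Ideal.comap_isPrime _ _) hQ1 hQ2 with h | h
      · rw [h] at hQmap
        exact h1'.ne hQmap
      · rw [h] at hQmap
        exact h2'.ne hQmap.symm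
  have heq : ∀ P ∈ minimalPrimes A, ringKrullDim (A ⧸ P) = ringKrullDim A := by
    intro P hPmin
    rw [IsDomain.minimalPrimes_eq_singleton_bot] at hPmin
    have : P = ⊥ := hPmin
    rw [this]
    exact ringKrullDim_eq_of_ringEquiv (RingEquiv.quotientBot A)
  have key := Cat.height_eq_add_one hcat heq hcovA
  change (p.map (algebraMap R A)).height = (p'.map (algebraMap R A)).height + 1 at key
  rw [IsLocalization.height_map_of_disjoint p.primeCompl p hdisjp,
    IsLocalization.height_map_of_disjoint p.primeCompl p' hdisjp'] at key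
  exact key

/-- If the local rings of a locally Noetherian scheme are catenary domains, then a function
`δ ≤ 0` with `dim O_{S,s} = -δ s` is a dimension function. -/
theorem isDimFun_of_stalk_dim [IsLocallyNoetherian S]
    (hdom : ∀ s : S, IsDomain (S.presheaf.stalk s))
    (hcat : ∀ s : S, CAlg.IsCatenary (S.presheaf.stalk s))
    (δS : S → ℤ) (hδS : ∀ s : S, ringKrullDim (S.presheaf.stalk s) = ((-δS s).toNat : WithBot ℕ∞) ∧
      δS s ≤ 0) : Cyc.IsDimFun S δS := by
  intro s' s hsp hne
  obtain ⟨V, hV, hsV⟩ : ∃ V : S.Opens, IsAffineOpen V ∧ s ∈ V := by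
    obtain ⟨_, ⟨V, hV, rfl⟩, hz, -⟩ :=
      S.isBasis_affineOpens.exists_subset_of_mem_open (Set.mem_univ s) isOpen_univ
    exact ⟨V, hV, hz⟩
  have hs'V : s' ∈ V := hsp.mem_open V.2 hsV
  have h1 := Groth.Agent.H1.DimFormula.ringKrullDim_stalk_lt_of_specializes hsp hne
  rw [(hδS s').1, (hδS s).1] at h1
  have h1' : (-δS s').toNat < (-δS s).toNat := by exact_mod_cast h1
  have hs0 := (hδS s).2
  have hs'0 := (hδS s').2
  refine ⟨by omega, fun himm => ?_⟩
  -- immediate specialization
  set p := (hV.primeIdealOf ⟨s, hsV⟩).asIdeal with hp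
  set p' := (hV.primeIdealOf ⟨s', hs'V⟩).asIdeal with hp'
  haveI : p.IsPrime := (hV.primeIdealOf ⟨s, hsV⟩).2
  haveI : p'.IsPrime := (hV.primeIdealOf ⟨s', hs'V⟩).2
  have hle : p' ≤ p := primeIdealOf_le_of_specializes hV s s' hsV hs'V hsp
  have hlt : p' < p := by
    refine lt_of_le_of_ne hle ?_
    intro h
    apply hne
    have : hV.primeIdealOf ⟨s', hs'V⟩ = hV.primeIdealOf ⟨s, hsV⟩ := PrimeSpectrum.ext h
    have h2 := congrArg hV.fromSpec this
    rwa [hV.fromSpec_primeIdealOf, hV.fromSpec_primeIdealOf] at h2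
  letI := S.presheaf.algebra_section_stalk ⟨s, hsV⟩
  haveI := hV.isLocalization_stalk ⟨s, hsV⟩
  haveI := hdom s
  have key := height_eq_add_one_of_localization p p' (S.presheaf.stalk s) (hcat s) hlt
    (fun Q hQ h1 h2 => by
      haveI := hQ
      exact eq_or_eq_of_immediate hV s' s hs'V hsV himm Q h1 h2)
  have e1 := ringKrullDim_stalk_eq_height hV s hsV
  have e2 := ringKrullDim_stalk_eq_height hV s' hs'V
  rw [(hδS s).1] at e1
  rw [(hδS s').1] at e2
  rw [← hp] at e1
  rw [← hp'] at e2
  have e1' : ((-δS s).toNat : ℕ∞) = p.height := by exact_mod_cast e1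
  have e2' : ((-δS s').toNat : ℕ∞) = p'.height := by exact_mod_cast e2
  rw [← e1', ← e2'] at key
  have key' : (-δS s).toNat = (-δS s').toNat + 1 := by exact_mod_cast key
  omega

end Groth.Agent.H1.DimFun
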