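import Mathlib
import Groth.Agent.Lib.Helper1.DimLocG

set_option autoImplicit false
set_option linter.style.haveILetI false
universe u
open CategoryTheory AlgebraicGeometry

namespace Groth.Agent.H1.DimLoc

open Groth.Agent.H1.DimIneq Groth.Agent.H1.DimEq

variable {X Y : Scheme.{u}}

/-- **EGA IV 13.3.? (⇒)**: if `O_{Y,y}` is universally catenary and
`dim O_{X,x} = dim O_{Y,y} + dim O_{X_y,x}`, there is a generic point `z` of a component of the
fibre through `x` with the same fibre dimension and `dim O_{X,z} = dim O_{Y,y}`. -/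
theorem exists_fibre_generic_of_stalk_dim_eq [IsLocallyNoetherian Y] (f : X ⟶ Y)
    [LocallyOfFiniteType f] (x : X)
    (hcat : CAlg.IsUniversallyCatenary (Y.presheaf.stalk (f x)))
    (H : ringKrullDim (X.presheaf.stalk x) = ringKrullDim (Y.presheaf.stalk (f x)) +
      ringKrullDim ((f.fiber (f x)).presheaf.stalk (f.asFiber x))) :
    ∃ z : X, f z = f x ∧ z ⤳ x ∧ (∀ z' : X, f z' = f x → z' ⤳ z → z' = z) ∧
      FlatMor.fibreDimAt f z = FlatMor.fibreDimAt f x ∧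
      ringKrullDim (X.presheaf.stalk z) = ringKrullDim (Y.presheaf.stalk (f z)) := by
  obtain ⟨V, hV, hfxV⟩ : ∃ V : Y.Opens, IsAffineOpen V ∧ f x ∈ V := by
    obtain ⟨_, ⟨V, hV, rfl⟩, hz, -⟩ :=
      Y.isBasis_affineOpens.exists_subset_of_mem_open (Set.mem_univ (f x)) isOpen_univ
    exact ⟨V, hV, hz⟩
  obtain ⟨U, hU, hxU, hUV⟩ := exists_isAffineOpen_mem_and_subset (x := x) (U := f ⁻¹ᵁ V) hfxV
  have e : U ≤ f ⁻¹ᵁ V := hUV
  letI algRS := (f.appLE V U e).hom.toAlgebra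
  haveI : IsNoetherianRing Γ(Y, V) := IsLocallyNoetherian.component_noetherian ⟨V, hV⟩
  haveI : Algebra.FiniteType Γ(Y, V) Γ(X, U) := f.finiteType_appLE hV hU e
  haveI : IsNoetherianRing Γ(X, U) := Algebra.FiniteType.isNoetherianRing Γ(Y, V) Γ(X, U)
  letI hlox := liesOver_primeIdealOf f hU hV e x hxU
  -- step 1: a top dimensional component through `x`
  obtain ⟨q₀, hmin, hq₀le, hht⟩ :=
    exists_minimalPrimes_height_map_eq (hU.primeIdealOf ⟨x, hxU⟩).asIdeal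
  haveI : q₀.IsPrime := hmin.1.1
  set Pξ : Spec Γ(X, U) := ⟨q₀, inferInstance⟩ with hPξ
  set ξ : X := hU.fromSpec Pξ with hξdef
  have hξU : ξ ∈ U := by
    rw [← SetLike.mem_coe, ← hU.range_fromSpec]; exact ⟨Pξ, rfl⟩
  have hprimeξ : hU.primeIdealOf ⟨ξ, hξU⟩ = Pξ := primeIdealOf_fromSpec hU Pξ hξU
  have hqξ : (hU.primeIdealOf ⟨ξ, hξU⟩).asIdeal = q₀ := by rw [hprimeξ]
  rw [← hqξ] at hq₀le hht
  have hξx : ξ ⤳ x := by
    have h1 : hU.primeIdealOf ⟨ξ, hξU⟩ ⤳ hU.primeIdealOf ⟨x, hxU⟩ :=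
      (PrimeSpectrum.le_iff_specializes (R := Γ(X, U)) _ _).1 hq₀le
    have := h1.map hU.fromSpec.continuous
    rwa [hU.fromSpec_primeIdealOf, hU.fromSpec_primeIdealOf] at this
  letI hloξ := liesOver_primeIdealOf f hU hV e ξ hξU
  -- step 2: the prime of the fibre
  obtain ⟨qz, hqzprime, hq₀z, hqzq, hqzunder, hsel⟩ :=
    Groth.Agent.H1.DimSel.exists_fibre_prime Γ(Y, V) Γ(X, U)
      (hV.primeIdealOf ⟨f ξ, e hξU⟩).asIdeal (hV.primeIdealOf ⟨f x, e hxU⟩).asIdeal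
      (hU.primeIdealOf ⟨ξ, hξU⟩).asIdeal (hU.primeIdealOf ⟨x, hxU⟩).asIdeal hq₀le
  set Pz : Spec Γ(X, U) := ⟨qz, hqzprime⟩ with hPz
  set z : X := hU.fromSpec Pz with hzdef
  have hzU : z ∈ U := by
    rw [← SetLike.mem_coe, ← hU.range_fromSpec]; exact ⟨Pz, rfl⟩
  have hprimez : hU.primeIdealOf ⟨z, hzU⟩ = Pz := primeIdealOf_fromSpec hU Pz hzU
  have hqz : (hU.primeIdealOf ⟨z, hzU⟩).asIdeal = qz := by rw [hprimez]
  rw [← hqz] at hq₀z hqzq hqzunder hsel
  have hzx : z ⤳ x := by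
    have h1 : hU.primeIdealOf ⟨z, hzU⟩ ⤳ hU.primeIdealOf ⟨x, hxU⟩ :=
      (PrimeSpectrum.le_iff_specializes (R := Γ(X, U)) _ _).1 hqzq
    have := h1.map hU.fromSpec.continuous
    rwa [hU.fromSpec_primeIdealOf, hU.fromSpec_primeIdealOf] at this
  have hξz : ξ ⤳ z := by
    have h1 : hU.primeIdealOf ⟨ξ, hξU⟩ ⤳ hU.primeIdealOf ⟨z, hzU⟩ :=
      (PrimeSpectrum.le_iff_specializes (R := Γ(X, U)) _ _).1 hq₀z
    have := h1.map hU.fromSpec.continuous
    rwa [hU.fromSpec_primeIdealOf, hU.fromSpec_primeIdealOf] at this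
  letI hloz := liesOver_primeIdealOf f hU hV e z hzU
  have hfz : f z = f x := by
    have h1 : (hV.primeIdealOf ⟨f z, e hzU⟩).asIdeal = (hV.primeIdealOf ⟨f x, e hxU⟩).asIdeal := by
      rw [← hqzunder]
      exact Ideal.over_def (hU.primeIdealOf ⟨z, hzU⟩).asIdeal
        (hV.primeIdealOf ⟨f z, e hzU⟩).asIdeal
    have h2 : hV.primeIdealOf ⟨f z, e hzU⟩ = hV.primeIdealOf ⟨f x, e hxU⟩ := PrimeSpectrum.ext h1
    have h3 := congrArg hV.fromSpec h2
    rwa [hV.fromSpec_primeIdealOf, hV.fromSpec_primeIdealOf] at h3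
  -- numbers
  obtain ⟨tx, htx, hdimx⟩ := Groth.Agent.H1.DimFormula.exists_fibreDimAt_eq_stalk_add_trdeg f x
  obtain ⟨tz, htz, hdimz⟩ := Groth.Agent.H1.DimFormula.exists_fibreDimAt_eq_stalk_add_trdeg f z
  obtain ⟨tξ, htξ, -⟩ := Groth.Agent.H1.DimFormula.exists_fibreDimAt_eq_stalk_add_trdeg f ξ
  have E5 := chart_relative_eq_enat f hU hV e x ξ hxU hξU hξx hcat tx tξ htx htξ
  have hcat' : CAlg.IsUniversallyCatenary (Y.presheaf.stalk (f z)) := by rw [hfz]; exact hcat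
  have E6 := chart_relative_eq_enat f hU hV e z ξ hzU hξU hξz hcat' tz tξ htz htξ
  have hpz : hV.primeIdealOf ⟨f z, e hzU⟩ = hV.primeIdealOf ⟨f x, e hxU⟩ := by
    congr 1; exact Subtype.ext hfz
  rw [hpz] at E6
  have E2 := chart_fibre_eq_enat f hU hV e x z hxU hzU hzx hfz tx tz htx htz
  have E3 := fibreDimAt_le_of_specializes_fibre f x z hzx hfz
  rw [hdimx, hdimz] at E3
  have hple := primeIdealOf_le_of_specializes hV (f x) (f ξ) (e hxU) (e hξU)
    (hξx.map f.continuous)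
  have E7 := height_map_mk_le (hV.primeIdealOf ⟨f ξ, e hξU⟩).asIdeal
    (hV.primeIdealOf ⟨f x, e hxU⟩).asIdeal hple
  have E8 := height_map_mk_le (hU.primeIdealOf ⟨ξ, hξU⟩).asIdeal
    (hU.primeIdealOf ⟨z, hzU⟩).asIdeal hq₀z
  have E9 := stalk_dim_le_add_fiber f z
  have dX := ringKrullDim_stalk_eq_height hU x hxU
  have dZ := ringKrullDim_stalk_eq_height hU z hzU
  have dY := ringKrullDim_stalk_eq_height hV (f x) (e hxU)
  have dYz : ringKrullDim (Y.presheaf.stalk (f z)) = ringKrullDim (Y.presheaf.stalk (f x)) := by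
    rw [hfz]
  -- naturals
  obtain ⟨a, ha⟩ := ENat.ne_top_iff_exists.mp
    (Ideal.height_ne_top_of_isPrime (I := (hU.primeIdealOf ⟨x, hxU⟩).asIdeal))
  obtain ⟨b, hb⟩ := ENat.ne_top_iff_exists.mp
    (Ideal.height_ne_top_of_isPrime (I := (hV.primeIdealOf ⟨f x, e hxU⟩).asIdeal))
  obtain ⟨hz, hhz⟩ := ENat.ne_top_iff_exists.mp
    (Ideal.height_ne_top_of_isPrime (I := (hU.primeIdealOf ⟨z, hzU⟩).asIdeal))
  obtain ⟨b₀, hb₀⟩ := ENat.ne_top_iff_exists.mp
    (ne_top_of_le_ne_top (hb ▸ ENat.natCast_ne_top b) E7)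
  obtain ⟨az, haz⟩ := ENat.ne_top_iff_exists.mp
    (ne_top_of_le_ne_top (hhz ▸ ENat.natCast_ne_top hz) E8)
  obtain ⟨c, hc⟩ : ∃ c : ℕ, (c : ℕ∞) = ((hU.primeIdealOf ⟨x, hxU⟩).asIdeal.map
      (Ideal.Quotient.mk (hU.primeIdealOf ⟨z, hzU⟩).asIdeal)).height := by
    apply ENat.ne_top_iff_exists.mp
    intro htop
    rw [htop, top_add] at E2
    exact absurd E2.symm (ENat.natCast_ne_top tz)
  rw [hht, ← ha, ← hb₀] at E5
  rw [← haz, ← hb₀] at E6
  rw [← hc] at E2
  rw [hht, ← ha, ← hb₀, ← hc] at hsel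
  rw [← hb₀, ← hb] at E7
  rw [← haz, ← hhz] at E8
  rw [← ha] at dX
  rw [← hhz] at dZ
  rw [← hb] at dY
  have hE1 : a ≤ b₀ + c := by exact_mod_cast hsel
  have hE2 : c + tx = tz := by exact_mod_cast E2
  have hE5 : a + tx = b₀ + tξ := by exact_mod_cast E5
  have hE6 : az + tz = b₀ + tξ := by exact_mod_cast E6
  have hE7 : b₀ ≤ b := by exact_mod_cast E7
  have hE8 : az ≤ hz := by exact_mod_cast E8
  -- the fibre local dimension is a natural number
  rw [dX, dY] at H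
  obtain ⟨ndx, hndx⟩ : ∃ n : ℕ, ringKrullDim ((f.fiber (f x)).presheaf.stalk (f.asFiber x)) = n := by
    induction hd : ringKrullDim ((f.fiber (f x)).presheaf.stalk (f.asFiber x)) with
    | bot =>
      rw [hd, WithBot.add_bot] at H
      exact absurd H (by simp)
    | coe d =>
      induction d with
      | top =>
        rw [hd] at H
        exfalso
        have : ((a : ℕ∞) : WithBot ℕ∞) = (((b : ℕ∞) + ⊤ : ℕ∞) : WithBot ℕ∞) := by exact_mod_cast H
        rw [add_top] at this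
        exact absurd (WithBot.coe_injective this) (ENat.natCast_ne_top a)
      | coe n => exact ⟨n, rfl⟩
  rw [hndx] at H E3
  have hE4 : a = b + ndx := by exact_mod_cast H
  have hdz0 : (0 : WithBot ℕ∞) ≤
      ringKrullDim ((f.fiber (f z)).presheaf.stalk (f.asFiber z)) :=
    ringKrullDim_nonneg_of_nontrivial
  have hE3 : tz ≤ ndx + tx := by
    have h1 : (tz : WithBot ℕ∞) ≤ (ndx : WithBot ℕ∞) + (tx : WithBot ℕ∞) :=
      calc (tz : WithBot ℕ∞) = 0 + (tz : WithBot ℕ∞) := (zero_add _).symm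
        _ ≤ ringKrullDim ((f.fiber (f z)).presheaf.stalk (f.asFiber z)) + (tz : WithBot ℕ∞) := by
            gcongr
        _ ≤ _ := E3
    exact_mod_cast h1
  have hb₀b : b₀ = b := by omega
  have hcn : c = ndx := by omega
  have htξz : tξ = tz := by omega
  have hazb : az = b := by omega
  -- maximality of `z` in the fibre
  have hzmax : ∀ z' : X, f z' = f x → z' ⤳ z → z' = z := by
    intro z' hfz' hz'z
    by_contra hne
    have hz'U : z' ∈ U := hz'z.mem_open U.2 hzU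
    obtain ⟨tz', htz', hdimz'⟩ :=
      Groth.Agent.H1.DimFormula.exists_fibreDimAt_eq_stalk_add_trdeg f z'
    have E2' := chart_fibre_eq_enat f hU hV e z z' hzU hz'U hz'z (hfz'.trans hfz.symm) tz tz'
      htz htz'
    obtain ⟨h1, -⟩ := Groth.Agent.H1.DimFun.one_le_height_map_mk hU z' z hz'U hzU hz'z hne
    have E3' := fibreDimAt_le_of_specializes_fibre f x z' (hz'z.trans hzx) hfz'
    rw [hdimx, hdimz', hndx] at E3'
    have hdz0' : (0 : WithBot ℕ∞) ≤
        ringKrullDim ((f.fiber (f z')).presheaf.stalk (f.asFiber z')) :=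
      ringKrullDim_nonneg_of_nontrivial
    have h3 : tz' ≤ ndx + tx := by
      have h1 : (tz' : WithBot ℕ∞) ≤ (ndx : WithBot ℕ∞) + (tx : WithBot ℕ∞) :=
        calc (tz' : WithBot ℕ∞) = 0 + (tz' : WithBot ℕ∞) := (zero_add _).symm
          _ ≤ ringKrullDim ((f.fiber (f z')).presheaf.stalk (f.asFiber z')) +
                (tz' : WithBot ℕ∞) := by gcongr
          _ ≤ _ := E3'
      exact_mod_cast h1
    have h4 : (1 : ℕ∞) + (tz : ℕ∞) ≤ (tz' : ℕ∞) := by
      rw [← E2']; gcongr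
    have h5 : 1 + tz ≤ tz' := by exact_mod_cast h4
    omega
  have hdz : ringKrullDim ((f.fiber (f z)).presheaf.stalk (f.asFiber z)) = 0 := by
    apply Groth.Agent.H1.DimFormula.ringKrullDim_stalk_eq_zero
    intro w hw
    apply (f.fiberι (f z)).isEmbedding.injective
    rw [f.fiberι_asFiber z]
    apply hzmax
    · have : f.fiberι (f z) w ∈ Set.range (f.fiberι (f z)) := ⟨w, rfl⟩
      rw [Scheme.Hom.range_fiberι] at this
      exact this.trans hfz
    · have := hw.map (f.fiberι (f z)).continuous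
      rwa [f.fiberι_asFiber z] at this
  refine ⟨z, hfz, hzx, hzmax, ?_, ?_⟩
  · rw [hdimz, hdimx, hdz, hndx, zero_add]
    have : tz = ndx + tx := by omega
    rw [this]
    push_cast
    rfl
  · rw [hdz, add_zero, dZ, dYz, dY] at E9
    rw [dZ, dYz, dY]
    have h1 : hz ≤ b := by exact_mod_cast E9
    have h2 : hz = b := by omega
    rw [h2]

end Groth.Agent.H1.DimLoc
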