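import Mathlib
import Groth.Prelude.Def_EGA43
import Groth.Agent.Lib.Helper1.DimSubA

/-!
# EGA IV 13.3.6–13.3.7, final statements (helper1)
-/

set_option autoImplicit false
set_option linter.style.haveILetI false
universe u

namespace Groth.Agent.H1.DimSub

open AlgebraicGeometry CategoryTheory CategoryTheory.Limits TopologicalSpace Topology
open Groth.Agent.H1.DimFormula Groth.Agent.H1.UO14 Groth.Agent.H1.DimLoc Groth.Agent.H1.DimIneq

variable {X Y : Scheme.{u}}

theorem core4985 [IsLocallyNoetherian Y] (f : X ⟶ Y) [LocallyOfFiniteType f]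
    {T S : Scheme.{u}} (i : T ⟶ X) [IsClosedImmersion i] (j : S ⟶ Y) [IsClosedImmersion j]
    (g' : T ⟶ S) (hg' : g' ≫ j = i ≫ f) [IrreducibleSpace T] (w : T) (v : S)
    (hv : j.base v = f.base (i.base w)) (Z : Set X) (hZ : Set.range i.base = Z)
    (η' : Y) (hη' : closure ({η'} : Set Y) = closure (f.base '' Z)) :
    (ringKrullDim (T.presheaf.stalk w) =
        ringKrullDim (Y.presheaf.stalk (f.base (i.base w))) +
          ringKrullDim ((f.fiber (f.base (i.base w))).presheaf.stalk (f.asFiber (i.base w))) ↔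
      (ringKrullDim (S.presheaf.stalk v) = ringKrullDim (Y.presheaf.stalk (f.base (i.base w))) ∧
        ringKrullDim (((i ≫ f).fiber ((i ≫ f).base w)).presheaf.stalk ((i ≫ f).asFiber w)) =
          ringKrullDim ((f.fiber (f.base (i.base w))).presheaf.stalk (f.asFiber (i.base w))) ∧
        FlatMor.fibreDimAt (i ≫ f) w = topologicalKrullDim ↥(Z ∩ f.base ⁻¹' {η'}) ∧
        ringKrullDim (T.presheaf.stalk w) = ringKrullDim (S.presheaf.stalk v) +
          ringKrullDim (((i ≫ f).fiber ((i ≫ f).base w)).presheaf.stalk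
            ((i ≫ f).asFiber w)))) := by
  obtain ⟨t, e0, na, d, ha, hcd, hfdf, hfd, hdim, F1, F2, F3, F5⟩ :=
    data f i j g' hg' w v hv Z hZ η' hη'
  constructor
  · intro H
    have F4 := (hfd.symm.le).trans (F5.trans (hfdf.le.trans hcd.symm.le))
    have F2' := F2.trans hfd.le
    obtain ⟨h1, h2, h3, h4⟩ := arith ha hcd ringKrullDim_nonneg_of_nontrivial
      ringKrullDim_nonneg_of_nontrivial ringKrullDim_nonneg_of_nontrivial
      ringKrullDim_nonneg_of_nontrivial F1 F2' F3 F4 H
    exact ⟨h1, h2, hfd.trans (h3.trans hdim.symm), h4⟩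
  · rintro ⟨h1, h2, -, h4⟩
    exact h4.trans (congrArg₂ (· + ·) h1 h2)

theorem core4986 [IsLocallyNoetherian Y] (f : X ⟶ Y) [LocallyOfFiniteType f]
    {T S : Scheme.{u}} (i : T ⟶ X) [IsClosedImmersion i] (j : S ⟶ Y) [IsClosedImmersion j]
    (g' : T ⟶ S) (hg' : g' ≫ j = i ≫ f) [IrreducibleSpace T] (w : T) (v : S)
    (hv : j.base v = f.base (i.base w)) (Z : Set X) (hZ : Set.range i.base = Z)
    (hxZ : i.base w ∈ Z)
    (η' : Y) (hη' : closure ({η'} : Set Y) = closure (f.base '' Z)) :
    ringKrullDim (X.presheaf.stalk (i.base w)) =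
        ringKrullDim (Y.presheaf.stalk (f.base (i.base w))) +
          ringKrullDim ((f.fiber (f.base (i.base w))).presheaf.stalk (f.asFiber (i.base w))) →
      ((ringKrullDim (S.presheaf.stalk v) =
          ringKrullDim (Y.presheaf.stalk (f.base (i.base w))) ∧
        FlatMor.localDim ↥(Z ∩ f.base ⁻¹' {f.base (i.base w)}) ⟨i.base w, ⟨hxZ, rfl⟩⟩ =
          FlatMor.fibreDimAt f (i.base w) ∧
        FlatMor.fibreDimAt (i ≫ f) w = topologicalKrullDim ↥(Z ∩ f.base ⁻¹' {η'}) ∧
        ringKrullDim (T.presheaf.stalk w) = ringKrullDim (S.presheaf.stalk v) +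
          ringKrullDim (((i ≫ f).fiber ((i ≫ f).base w)).presheaf.stalk
            ((i ≫ f).asFiber w))) ↔
        ringKrullDim (T.presheaf.stalk w) = ringKrullDim (X.presheaf.stalk (i.base w))) := by
  intro hB
  subst hZ
  obtain ⟨t, e0, na, d, ha, hcd, hfdf, hfd, hdim, F1, F2, F3, F5⟩ :=
    data f i j g' hg' w v hv _ rfl η' hη'
  have hE : FlatMor.fibreDimAt (i ≫ f) w =
      FlatMor.localDim ↥(Set.range i.base ∩ f.base ⁻¹' {f.base (i.base w)})
        ⟨i.base w, ⟨hxZ, rfl⟩⟩ :=
    fibreDimAt_comp_of_isEmbedding i i.isEmbedding f w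
  have h85 := core4985 f i j g' hg' w v hv _ rfl η' hη'
  constructor
  · rintro ⟨h1, h2, h3, h4⟩
    have hc := withBot_add_natCast_cancel t
      (hfd.symm.trans (hE.trans (h2.trans (hfdf.trans hcd.symm))))
    exact (h85.mpr ⟨h1, hc, h3, h4⟩).trans hB.symm
  · intro H
    obtain ⟨h1, h2, h3, h4⟩ := h85.mp (H.trans hB)
    refine ⟨h1, ?_, h3, h4⟩
    exact hE.symm.trans (hfd.trans ((congrArg (· + (t : WithBot ℕ∞)) h2).trans
      (hcd.trans hfdf.symm)))

theorem s4985 [IsLocallyNoetherian Y] (f : X ⟶ Y)
    [LocallyOfFiniteType f] (x : X) (X' : TopologicalSpace.Closeds X)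
    (hirr : IsIrreducible (X' : Set X))
    (w : ↥(Scheme.IdealSheafData.vanishingIdeal X').subscheme)
    (hw : (Scheme.IdealSheafData.vanishingIdeal X').subschemeι.base w = x)
    (v : ↥(Scheme.IdealSheafData.vanishingIdeal
      (⟨closure (f.base '' (X' : Set X)), isClosed_closure⟩ : TopologicalSpace.Closeds Y)).subscheme)
    (hv : (Scheme.IdealSheafData.vanishingIdeal
      (⟨closure (f.base '' (X' : Set X)), isClosed_closure⟩ :
        TopologicalSpace.Closeds Y)).subschemeι.base v = f.base x)
    (η' : Y) (hη' : closure ({η'} : Set Y) = closure (f.base '' (X' : Set X))) :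
    (ringKrullDim ((Scheme.IdealSheafData.vanishingIdeal X').subscheme.presheaf.stalk w) =
        ringKrullDim (Y.presheaf.stalk (f.base x)) +
          ringKrullDim ((f.fiber (f.base x)).presheaf.stalk (f.asFiber x)) ↔
      (ringKrullDim ((Scheme.IdealSheafData.vanishingIdeal
          (⟨closure (f.base '' (X' : Set X)), isClosed_closure⟩ :
            TopologicalSpace.Closeds Y)).subscheme.presheaf.stalk v) =
          ringKrullDim (Y.presheaf.stalk (f.base x)) ∧
        ringKrullDim ((((Scheme.IdealSheafData.vanishingIdeal X').subschemeι ≫ f).fiber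
            (((Scheme.IdealSheafData.vanishingIdeal X').subschemeι ≫ f).base w)).presheaf.stalk
            (((Scheme.IdealSheafData.vanishingIdeal X').subschemeι ≫ f).asFiber w)) =
          ringKrullDim ((f.fiber (f.base x)).presheaf.stalk (f.asFiber x)) ∧
        FlatMor.fibreDimAt ((Scheme.IdealSheafData.vanishingIdeal X').subschemeι ≫ f) w =
          topologicalKrullDim ↥((X' : Set X) ∩ f.base ⁻¹' {η'}) ∧
        ringKrullDim ((Scheme.IdealSheafData.vanishingIdeal X').subscheme.presheaf.stalk w) =
          ringKrullDim ((Scheme.IdealSheafData.vanishingIdeal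
            (⟨closure (f.base '' (X' : Set X)), isClosed_closure⟩ :
              TopologicalSpace.Closeds Y)).subscheme.presheaf.stalk v) +
          ringKrullDim ((((Scheme.IdealSheafData.vanishingIdeal X').subschemeι ≫ f).fiber
            (((Scheme.IdealSheafData.vanishingIdeal X').subschemeι ≫ f).base w)).presheaf.stalk
            (((Scheme.IdealSheafData.vanishingIdeal X').subschemeι ≫ f).asFiber w)))) := by
  subst hw
  obtain ⟨g', hg'⟩ := exists_lift_reduced f X'
  have hr : Set.range (Scheme.IdealSheafData.vanishingIdeal X').subschemeι.base = (X' : Set X) :=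
    (Scheme.IdealSheafData.range_subschemeι _).trans
      (Scheme.IdealSheafData.coe_support_vanishingIdeal _)
  haveI : IrreducibleSpace ↥(Scheme.IdealSheafData.vanishingIdeal X').subscheme :=
    irreducibleSpace_of_isEmbedding _
      (Scheme.IdealSheafData.vanishingIdeal X').subschemeι.isEmbedding (by rw [hr]; exact hirr)
  exact core4985 f (Scheme.IdealSheafData.vanishingIdeal X').subschemeι
    (Scheme.IdealSheafData.vanishingIdeal
      (⟨closure (f.base '' (X' : Set X)), isClosed_closure⟩ :
        TopologicalSpace.Closeds Y)).subschemeι g' hg' w v hv (X' : Set X) hr η' hη'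

theorem s4986 [IsLocallyNoetherian Y] (f : X ⟶ Y)
    [LocallyOfFiniteType f] (x : X) (X' : TopologicalSpace.Closeds X)
    (hirr : IsIrreducible (X' : Set X)) (hx : x ∈ X')
    (w : ↥(Scheme.IdealSheafData.vanishingIdeal X').subscheme)
    (hw : (Scheme.IdealSheafData.vanishingIdeal X').subschemeι.base w = x)
    (v : ↥(Scheme.IdealSheafData.vanishingIdeal
      (⟨closure (f.base '' (X' : Set X)), isClosed_closure⟩ : TopologicalSpace.Closeds Y)).subscheme)
    (hv : (Scheme.IdealSheafData.vanishingIdeal
      (⟨closure (f.base '' (X' : Set X)), isClosed_closure⟩ :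
        TopologicalSpace.Closeds Y)).subschemeι.base v = f.base x)
    (η' : Y) (hη' : closure ({η'} : Set Y) = closure (f.base '' (X' : Set X))) :
    ringKrullDim (X.presheaf.stalk x) =
        ringKrullDim (Y.presheaf.stalk (f.base x)) +
          ringKrullDim ((f.fiber (f.base x)).presheaf.stalk (f.asFiber x)) →
      ((ringKrullDim ((Scheme.IdealSheafData.vanishingIdeal
          (⟨closure (f.base '' (X' : Set X)), isClosed_closure⟩ :
            TopologicalSpace.Closeds Y)).subscheme.presheaf.stalk v) =
          ringKrullDim (Y.presheaf.stalk (f.base x)) ∧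
        FlatMor.localDim ↥((X' : Set X) ∩ f.base ⁻¹' {f.base x}) ⟨x, ⟨hx, rfl⟩⟩ =
          FlatMor.fibreDimAt f x ∧
        FlatMor.fibreDimAt ((Scheme.IdealSheafData.vanishingIdeal X').subschemeι ≫ f) w =
          topologicalKrullDim ↥((X' : Set X) ∩ f.base ⁻¹' {η'}) ∧
        ringKrullDim ((Scheme.IdealSheafData.vanishingIdeal X').subscheme.presheaf.stalk w) =
          ringKrullDim ((Scheme.IdealSheafData.vanishingIdeal
            (⟨closure (f.base '' (X' : Set X)), isClosed_closure⟩ :
              TopologicalSpace.Closeds Y)).subscheme.presheaf.stalk v) +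
          ringKrullDim ((((Scheme.IdealSheafData.vanishingIdeal X').subschemeι ≫ f).fiber
            (((Scheme.IdealSheafData.vanishingIdeal X').subschemeι ≫ f).base w)).presheaf.stalk
            (((Scheme.IdealSheafData.vanishingIdeal X').subschemeι ≫ f).asFiber w))) ↔
        ringKrullDim ((Scheme.IdealSheafData.vanishingIdeal X').subscheme.presheaf.stalk w) =
          ringKrullDim (X.presheaf.stalk x)) := by
  subst hw
  obtain ⟨g', hg'⟩ := exists_lift_reduced f X'
  have hr : Set.range (Scheme.IdealSheafData.vanishingIdeal X').subschemeι.base = (X' : Set X) :=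
    (Scheme.IdealSheafData.range_subschemeι _).trans
      (Scheme.IdealSheafData.coe_support_vanishingIdeal _)
  haveI : IrreducibleSpace ↥(Scheme.IdealSheafData.vanishingIdeal X').subscheme :=
    irreducibleSpace_of_isEmbedding _
      (Scheme.IdealSheafData.vanishingIdeal X').subschemeι.isEmbedding (by rw [hr]; exact hirr)
  exact core4986 f (Scheme.IdealSheafData.vanishingIdeal X').subschemeι
    (Scheme.IdealSheafData.vanishingIdeal
      (⟨closure (f.base '' (X' : Set X)), isClosed_closure⟩ :
        TopologicalSpace.Closeds Y)).subschemeι g' hg' w v hv (X' : Set X) hr hx η' hη'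

end Groth.Agent.H1.DimSub
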