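import Mathlib
open CategoryTheory AlgebraicGeometry TopologicalSpace
universe u
namespace Groth.Agent.H1.DimZero

/-- The spectrum of a zero-dimensional ring is Hausdorff. -/
lemma t2_primeSpectrum (A : Type*) [CommRing A] [Ring.KrullDimLE 0 A] : T2Space (PrimeSpectrum A) := by
  refine ⟨fun x y hxy => ?_⟩
  have hx : x.asIdeal.IsMaximal := inferInstance
  have hnle : ¬ x.asIdeal ≤ y.asIdeal := by
    intro hle
    exact hxy (PrimeSpectrum.ext (hx.eq_of_le y.2.ne_top hle))
  obtain ⟨a, hax, hay⟩ := Set.not_subset.mp hnle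
  have hmin : x.asIdeal ∈ minimalPrimes A := by
    rw [Ring.KrullDimLE.minimalPrimes_eq_setOfPred_isPrime]
    exact x.2
  have : Ring.KrullDimLE 0 (Localization.AtPrime x.asIdeal) :=
    Ring.KrullDimLE.of_isLocalization x.asIdeal hmin _
  have hnil : IsNilpotent (algebraMap A (Localization.AtPrime x.asIdeal) a) := by
    rw [Ring.KrullDimLE.isNilpotent_iff_mem_maximalIdeal]
    exact (IsLocalization.AtPrime.to_map_mem_maximal_iff _ x.asIdeal a).mpr hax
  obtain ⟨n, hn⟩ := hnil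
  rw [← map_pow, IsLocalization.map_eq_zero_iff x.asIdeal.primeCompl] at hn
  obtain ⟨s, hs⟩ := hn
  refine ⟨PrimeSpectrum.basicOpen (s : A), PrimeSpectrum.basicOpen a,
    (PrimeSpectrum.basicOpen _).isOpen, (PrimeSpectrum.basicOpen _).isOpen, s.2, hay, ?_⟩
  rw [TopologicalSpace.Opens.coe_disjoint, disjoint_iff, ← PrimeSpectrum.basicOpen_mul,
    PrimeSpectrum.basicOpen_eq_bot_iff]
  refine ⟨n + 1, ?_⟩
  have : ((s : A) * a) ^ (n + 1) = ((s : A) * a ^ n) * ((s : A) ^ n * a) := by ring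
  rw [this, hs, zero_mul]

lemma krullDimLE_zero_of_isAffineOpen {X : Scheme.{u}} (h : topologicalKrullDim X ≤ 0)
    {U : X.Opens} (hU : IsAffineOpen U) : Ring.KrullDimLE 0 Γ(X, U) := by
  rw [Ring.KrullDimLE, Order.krullDimLE_iff, ← ringKrullDim,
      Nat.cast_zero, ← PrimeSpectrum.topologicalKrullDim_eq_ringKrullDim Γ(X, U)]
  change topologicalKrullDim (Spec Γ(X, U)) ≤ 0
  rw [← IsHomeomorph.topologicalKrullDim_eq _ hU.isoSpec.hom.homeomorph.isHomeomorph]
  exact (topologicalKrullDim_subspace_le X U).trans h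

lemma t2Space_of_isAffineOpen {X : Scheme.{u}} (h : topologicalKrullDim X ≤ 0)
    {U : X.Opens} (hU : IsAffineOpen U) : T2Space ((U : Set X) : Type u) := by
  have := krullDimLE_zero_of_isAffineOpen h hU
  have : T2Space (Spec Γ(X, U)) := t2_primeSpectrum Γ(X, U)
  have h2 : T2Space (U.toScheme) := hU.isoSpec.hom.homeomorph.isEmbedding.t2Space
  exact h2

lemma t1Space_of_dim {X : Type*} [TopologicalSpace X] [T0Space X]
    (h : topologicalKrullDim X ≤ 0) : T1Space X := by
  refine ⟨fun x => ?_⟩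
  have hmax := Order.krullDim_nonpos_iff_forall_isMax.mp h
  have hcl : closure {x} = {x} := by
    apply Set.Subset.antisymm _ subset_closure
    intro y hy
    let Cx : IrreducibleCloseds X := ⟨closure {x}, isIrreducible_singleton.closure, isClosed_closure⟩
    let Cy : IrreducibleCloseds X := ⟨closure {y}, isIrreducible_singleton.closure, isClosed_closure⟩
    have hle : Cy ≤ Cx := by
      change closure {y} ⊆ closure {x}
      exact closure_minimal (Set.singleton_subset_iff.mpr hy) isClosed_closure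
    have hge : Cx ≤ Cy := hmax Cy hle
    have hxy : x ∈ closure {y} := hge (subset_closure rfl)
    have h1 : x ⤳ y := specializes_iff_mem_closure.mpr hy
    have h2 : y ⤳ x := specializes_iff_mem_closure.mpr hxy
    exact (h1.antisymm h2).eq.symm
  rw [← hcl]
  exact isClosed_closure

lemma isClosed_of_isCompact {X : Scheme.{u}} [QuasiSeparatedSpace X] (h : topologicalKrullDim X ≤ 0)
    (U : X.Opens) (hU : IsCompact (U : Set X)) : IsClosed (U : Set X) := by
  rw [← isOpen_compl_iff, isOpen_iff_forall_mem_open]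
  intro y hy
  obtain ⟨_, ⟨W, hW, rfl⟩, hyW, -⟩ :=
    X.isBasis_affineOpens.exists_subset_of_mem_open (a := y) (by trivial) isOpen_univ
  obtain ⟨W, hW, hyW⟩ : ∃ W : X.Opens, IsAffineOpen W ∧ y ∈ W := ⟨W, hW, hyW⟩
  have hT2 : T2Space ((W : Set X) : Type u) := t2Space_of_isAffineOpen h hW
  -- `U ∩ W` is compact, hence closed in `W`
  have hc : IsCompact ((U : Set X) ∩ W) :=
    QuasiSeparatedSpace.inter_isCompact _ _ U.isOpen hU W.isOpen hW.isCompact
  have hc' : IsCompact ((Subtype.val : W → X) ⁻¹' ((U : Set X) ∩ W)) := by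
    rw [Topology.IsEmbedding.subtypeVal.isCompact_iff, Set.image_preimage_eq_inter_range,
      Subtype.range_coe]
    convert hc using 1
    ext z; simp only [Set.mem_inter_iff, SetLike.mem_coe]; tauto
  have hcl : IsClosed ((Subtype.val : W → X) ⁻¹' ((U : Set X) ∩ W)) := hc'.isClosed
  have hop : IsOpen ((Subtype.val : W → X) '' ((Subtype.val : W → X) ⁻¹' ((U : Set X) ∩ W))ᶜ) :=
    W.isOpen.isOpenMap_subtype_val _ hcl.isOpen_compl
  refine ⟨_, ?_, hop, ⟨⟨y, hyW⟩, ?_, rfl⟩⟩
  · rintro _ ⟨z, hz, rfl⟩ hzU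
    exact hz ⟨hzU, z.2⟩
  · intro hyU
    exact hy hyU.1

lemma t2Space_of_dim {X : Scheme.{u}} [QuasiSeparatedSpace X] (h : topologicalKrullDim X ≤ 0) :
    T2Space X := by
  refine ⟨fun x y hxy => ?_⟩
  obtain ⟨_, ⟨W, hW, rfl⟩, hxW, -⟩ :=
    X.isBasis_affineOpens.exists_subset_of_mem_open (a := x) (by trivial) isOpen_univ
  obtain ⟨W, hW, hxW⟩ : ∃ W : X.Opens, IsAffineOpen W ∧ x ∈ W := ⟨W, hW, hxW⟩
  by_cases hyW : y ∈ W
  · have hT2 : T2Space ((W : Set X) : Type u) := t2Space_of_isAffineOpen h hW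
    have hne : (⟨x, hxW⟩ : W) ≠ ⟨y, hyW⟩ := fun e => hxy (congrArg Subtype.val e)
    obtain ⟨u, v, hu, hv, hxu, hyv, huv⟩ := t2_separation hne
    refine ⟨Subtype.val '' u, Subtype.val '' v, W.isOpen.isOpenMap_subtype_val _ hu,
      W.isOpen.isOpenMap_subtype_val _ hv, ⟨_, hxu, rfl⟩, ⟨_, hyv, rfl⟩, ?_⟩
    exact (Set.disjoint_image_iff Subtype.val_injective).mpr huv
  · have hcl := isClosed_of_isCompact h W hW.isCompact
    exact ⟨W, (W : Set X)ᶜ, W.isOpen, hcl.isOpen_compl, hxW, hyW, disjoint_compl_right⟩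

lemma totallyDisconnectedSpace_of_dim {X : Scheme.{u}} [QuasiSeparatedSpace X]
    (h : topologicalKrullDim X ≤ 0) : TotallyDisconnectedSpace X := by
  have : T2Space X := t2Space_of_dim h
  have : TotallySeparatedSpace X := by
    apply totallySeparatedSpace_of_t0_of_basis_clopen
    apply TopologicalSpace.IsTopologicalBasis.of_isOpen_of_subset (fun s hs => hs.isOpen)
      X.isBasis_affineOpens
    rintro _ ⟨U, hU, rfl⟩
    exact ⟨isClosed_of_isCompact h U hU.isCompact, U.isOpen⟩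
  infer_instance

open CategoryTheory.Limits in
set_option backward.isDefEq.respectTransparency.types false in
lemma uniq_of_t1 (X : Scheme.{u}) [T1Space X] :
    ValuativeCriterion.Uniqueness (terminal.from X) := by
  intro S
  refine ⟨fun l₁ l₂ => ?_⟩
  let ι := Spec.map (CommRingCat.ofHom (algebraMap S.R S.K))
  obtain ⟨pt⟩ : Nonempty (Spec (.of S.K)) := inferInstanceAs (Nonempty (PrimeSpectrum S.K))
  let x : X := S.i₁ pt
  have hconst : ∀ (l : Spec (.of S.R) ⟶ X), ι ≫ l = S.i₁ → ∀ p, l p = x := by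
    intro l hl p
    have h1 : ∀ q : Spec (.of S.R), l q = l (genericPoint (Spec (.of S.R))) := by
      intro q
      have : genericPoint (Spec (.of S.R)) ⤳ q :=
        (genericPoint_spec (Spec (.of S.R))).specializes (Set.mem_univ q)
      exact ((this.map l.continuous).eq).symm
    rw [h1 p, ← h1 (ι pt), ← Scheme.Hom.comp_apply, hl]
  obtain ⟨_, ⟨U₀, hU₀, rfl⟩, hxU₀, -⟩ :=
    X.isBasis_affineOpens.exists_subset_of_mem_open (a := x) (by trivial) isOpen_univ
  obtain ⟨U, hU, hxU⟩ : ∃ U : X.Opens, IsAffineOpen U ∧ x ∈ U := ⟨U₀, hU₀, hxU₀⟩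
  have hr : ∀ (l : Spec (.of S.R) ⟶ X), ι ≫ l = S.i₁ → Set.range l ⊆ Set.range U.ι := by
    rintro l hl _ ⟨p, rfl⟩
    rw [hconst l hl p, Scheme.Opens.range_ι]
    exact hxU
  let l₁' := IsOpenImmersion.lift U.ι l₁.l (hr _ l₁.fac_left)
  let l₂' := IsOpenImmersion.lift U.ι l₂.l (hr _ l₂.fac_left)
  have h₁ : l₁' ≫ U.ι = l₁.l := IsOpenImmersion.lift_fac _ _ _
  have h₂ : l₂' ≫ U.ι = l₂.l := IsOpenImmersion.lift_fac _ _ _
  have : IsAffine U := hU
  have hsep : ValuativeCriterion.Uniqueness (terminal.from (U : Scheme.{u})) :=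
    IsSeparated.valuativeCriterion _
  let S' : ValuativeCommSq (terminal.from (U : Scheme.{u})) :=
    ⟨S.R, S.K, ι ≫ l₁', S.i₂, ⟨terminal.hom_ext _ _⟩⟩
  have hss := hsep S'
  let a₁ : S'.commSq.LiftStruct := ⟨l₁', rfl, terminal.hom_ext _ _⟩
  let a₂ : S'.commSq.LiftStruct := ⟨l₂', by
    rw [← cancel_mono U.ι, Category.assoc, Category.assoc, h₁, h₂, l₁.fac_left, l₂.fac_left],
    terminal.hom_ext _ _⟩
  have h12 : l₁' = l₂' := congrArg CommSq.LiftStruct.l (Subsingleton.elim a₁ a₂)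
  ext1
  rw [← h₁, ← h₂, h12]

lemma isSeparated_of_t1 (X : Scheme.{u}) [T1Space X] [QuasiSeparatedSpace X] : X.IsSeparated := by
  have hqs : QuasiSeparated (CategoryTheory.Limits.terminal.from X) :=
    (quasiSeparatedSpace_iff_quasiSeparated X).mp inferInstance
  exact ⟨IsSeparated.of_valuativeCriterion _ (uniq_of_t1 X)⟩

end Groth.Agent.H1.DimZero
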