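import Mathlib
import Groth.Prelude.Def_FlatCA

/-!
# Associated primes of `N ⊗ M` when `N` is a retract of a direct sum of finite modules over a
local ring
-/

set_option autoImplicit false

universe u

open TensorProduct Function

namespace Groth.Agent.H1.DirSumAss

open IsLocalRing

section lemmaJ

variable {R : Type u} [CommRing R] [IsLocalRing R]

theorem bijective_one_sub_finite {A : Type u} [AddCommGroup A] [Module R A] [Module.Finite R A]
    (θ : A →ₗ[R] A) (hθ : ∀ a, θ a ∈ (maximalIdeal R • ⊤ : Submodule R A)) :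
    Function.Bijective (LinearMap.id - θ : A →ₗ[R] A) := by
  have hsurj : Function.Surjective (LinearMap.id - θ : A →ₗ[R] A) := by
    rw [← LinearMap.range_eq_top, eq_top_iff]
    apply Submodule.le_of_le_smul_of_le_jacobson_bot (I := maximalIdeal R) Module.Finite.fg_top
      (IsLocalRing.maximalIdeal_le_jacobson _)
    intro a _
    have : a = (LinearMap.id - θ : A →ₗ[R] A) a + θ a := by simp
    rw [this]
    exact Submodule.add_mem_sup (LinearMap.mem_range_self _ a) (hθ a)
  exact ⟨OrzechProperty.injective_of_surjective_endomorphism _ hsurj, hsurj⟩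

theorem bijective_one_sub_of_mem {L : Type u} [AddCommGroup L] [Module R L]
    (A : Submodule R L) (hA : A.FG) (θ : L →ₗ[R] L) (hθ : ∀ x, θ x ∈ maximalIdeal R • A) :
    Function.Bijective (LinearMap.id - θ : L →ₗ[R] L) := by
  have hθA : ∀ x, θ x ∈ A := fun x => Submodule.smul_le_right (hθ x)
  haveI : Module.Finite R A := Module.Finite.iff_fg.mpr hA
  let θA : A →ₗ[R] A := θ.restrict (fun x _ => hθA x)
  have hθA' : ∀ a : A, θA a ∈ (maximalIdeal R • ⊤ : Submodule R A) := by
    intro a
    rw [Submodule.mem_smul_top_iff]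
    exact hθ a
  have hb := bijective_one_sub_finite θA hθA'
  constructor
  · rw [injective_iff_map_eq_zero]
    intro x hx
    have hx' : x = θ x := by
      have : x - θ x = 0 := hx
      exact sub_eq_zero.mp this
    have hxA : x ∈ A := by rw [hx']; exact hθA x
    have h0 : (LinearMap.id - θA : A →ₗ[R] A) ⟨x, hxA⟩ = 0 := by
      apply Subtype.ext
      exact hx
    have h1 := hb.1 (h0.trans (map_zero _).symm)
    exact congrArg Subtype.val h1
  · intro y
    obtain ⟨a, ha⟩ := hb.2 ⟨θ y, hθA y⟩
    refine ⟨y + a, ?_⟩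
    have ha' : (a : L) - θ a = θ y := congrArg Subtype.val ha
    change (y + a) - θ (y + a) = y
    rw [map_add]
    have : y + ↑a - (θ y + θ ↑a) = y + ((a : L) - θ a) - θ y := by abel
    rw [this, ha']
    abel

end lemmaJ

section main

variable {R S : Type u} [CommRing R] [CommRing S] [Algebra R S]
  (N : Type u) [AddCommGroup N] [Module S N] [Module R N] [IsScalarTower R S N]

theorem rTensor_lsmul (M : Type u) [AddCommGroup M] [Module R M] (f : S) (z : N ⊗[R] M) :
    ((LinearMap.lsmul S N f).restrictScalars R).rTensor M z = f • z := by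
  induction z using TensorProduct.induction_on with
  | zero => simp
  | add a b ha hb => rw [map_add, ha, hb, smul_add]
  | tmul n m => rw [LinearMap.rTensor_tmul, TensorProduct.smul_tmul']; rfl

variable [IsLocalRing R]

theorem map_smul_mem {L : Type u} [AddCommGroup L] [Module R L] (φ : N →ₗ[R] L)
    (A : Submodule R L) (hφ : ∀ n, φ n ∈ A) (g : S)
    (hg : g ∈ (maximalIdeal R).map (algebraMap R S)) (n : N) :
    φ (g • n) ∈ maximalIdeal R • A := by
  induction hg using Submodule.span_induction generalizing n with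
  | mem g hg =>
    obtain ⟨x, hx, rfl⟩ := hg
    rw [algebraMap_smul, map_smul]
    exact Submodule.smul_mem_smul hx (hφ n)
  | zero => rw [zero_smul, map_zero]; exact Submodule.zero_mem _
  | add a b _ _ ha hb =>
    rw [add_smul, map_add]
    exact Submodule.add_mem _ (ha n) (hb n)
  | smul s a _ ha =>
    rw [smul_eq_mul, mul_comm, mul_smul]
    exact ha (s • n)

theorem main_aux
    (L : Type u) [AddCommGroup L] [Module R L] (i : N →ₗ[R] L) (ρ : L →ₗ[R] N)
    (hρi : ∀ n, ρ (i n) = n)
    (M : Type u) [AddCommGroup M] [Module R M]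
    (hL : ∀ z' : L ⊗[R] M, ∃ (pr : L →ₗ[R] L) (A : Submodule R L),
      A.FG ∧ (∀ x, pr x ∈ A) ∧ pr.rTensor M z' = z')
    (q : Ideal S) [q.IsPrime] (hq : q ∈ FlatCA.ass S (N ⊗[R] M)) :
    q ⊔ (maximalIdeal R).map (algebraMap R S) ≠ ⊤ := by
  intro htop
  obtain ⟨hqp, z, hz⟩ := hq
  have h1 : (1 : S) ∈ q ⊔ (maximalIdeal R).map (algebraMap R S) := by
    rw [htop]; exact Submodule.mem_top
  obtain ⟨f, hf, g, hg, hfg⟩ := Submodule.mem_sup.mp h1
  obtain ⟨pr, A, hA, hprA, hprz⟩ := hL (i.rTensor M z)
  have hfz : f • z = 0 := by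
    rw [hz] at hf
    exact (Submodule.mem_annihilator_span_singleton z f).mp hf
  have hgz : g • z = z := by
    have : g = 1 - f := eq_sub_of_add_eq' hfg
    rw [this, sub_smul, one_smul, hfz, sub_zero]
  let μ : N →ₗ[R] N := (LinearMap.lsmul S N g).restrictScalars R
  let θ : L →ₗ[R] L := (pr ∘ₗ i) ∘ₗ μ ∘ₗ ρ ∘ₗ pr
  have hθ : ∀ x, θ x ∈ maximalIdeal R • A := by
    intro x
    exact map_smul_mem N (pr ∘ₗ i) A (fun n => hprA _) g hg (ρ (pr x))
  have hbij := bijective_one_sub_of_mem A hA θ hθ
  have hρiz : ρ.rTensor M (i.rTensor M z) = z := by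
    rw [← LinearMap.rTensor_comp_apply]
    have : ρ ∘ₗ i = LinearMap.id := LinearMap.ext hρi
    rw [this, LinearMap.rTensor_id_apply]
  have hθz : θ.rTensor M (i.rTensor M z) = i.rTensor M z := by
    change ((pr ∘ₗ i) ∘ₗ μ ∘ₗ ρ ∘ₗ pr).rTensor M (i.rTensor M z) = _
    simp only [LinearMap.rTensor_comp_apply]
    rw [hprz, hρiz, rTensor_lsmul, hgz, hprz]
  have h2 : (LinearMap.id - θ : L →ₗ[R] L).rTensor M (i.rTensor M z) = 0 := by
    rw [LinearMap.rTensor_sub, LinearMap.sub_apply, hθz, LinearMap.rTensor_id_apply, sub_self]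
  let e : L ≃ₗ[R] L := LinearEquiv.ofBijective (LinearMap.id - θ) hbij
  have h3 : (e.rTensor M) (i.rTensor M z) = 0 := h2
  have hz' : i.rTensor M z = 0 := by
    have := congrArg (e.rTensor M).symm h3
    rwa [LinearEquiv.symm_apply_apply, map_zero] at this
  have hz0 : z = 0 := by
    rw [← hρiz, hz', map_zero]
  apply hqp.ne_top
  rw [hz, hz0, Submodule.span_zero_singleton, Submodule.annihilator_bot]

end main

section directSum

open DirectSum

variable {R : Type u} [CommRing R] {ι : Type u} [DecidableEq ι] (F : ι → Type u)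
  [∀ i, AddCommGroup (F i)] [∀ i, Module R (F i)]

/-- projection onto the coordinates in a finite set -/
noncomputable def prT (T : Finset ι) : (⨁ i, F i) →ₗ[R] (⨁ i, F i) :=
  ∑ i ∈ T, (DirectSum.lof R ι F i) ∘ₗ (DirectSum.component R ι F i)

theorem prT_lof (T : Finset ι) (i : ι) (hi : i ∈ T) (x : F i) :
    prT (R := R) F T (DirectSum.lof R ι F i x) = DirectSum.lof R ι F i x := by
  unfold prT
  rw [LinearMap.sum_apply, Finset.sum_eq_single_of_mem i hi]
  · simp
  · intro k _ hki
    rw [LinearMap.comp_apply, DirectSum.component.of, dif_neg (Ne.symm hki), map_zero]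

/-- the finitely generated submodule containing the range of `prT` -/
def AT (T : Finset ι) : Submodule R (⨁ i, F i) :=
  ⨆ i ∈ T, LinearMap.range (DirectSum.lof R ι F i)

theorem prT_mem (T : Finset ι) (x : ⨁ i, F i) : prT (R := R) F T x ∈ AT (R := R) F T := by
  unfold prT AT
  rw [LinearMap.sum_apply]
  refine Submodule.sum_mem _ (fun i hi => ?_)
  exact Submodule.mem_iSup_of_mem i (Submodule.mem_iSup_of_mem hi (LinearMap.mem_range_self _ _))

theorem AT_fg [∀ i, Module.Finite R (F i)] (T : Finset ι) : (AT (R := R) F T).FG := by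
  unfold AT
  refine Submodule.fg_biSup T _ (fun i _ => ?_)
  rw [LinearMap.range_eq_map]
  exact Submodule.FG.map _ Module.Finite.fg_top

theorem exists_prT (M : Type u) [AddCommGroup M] [Module R M] (z : (⨁ i, F i) ⊗[R] M) :
    ∃ T : Finset ι, ∀ T' : Finset ι, T ⊆ T' → (prT (R := R) F T').rTensor M z = z := by
  induction z using TensorProduct.induction_on with
  | zero => exact ⟨∅, fun T' _ => map_zero _⟩
  | add a b ha hb =>
    obtain ⟨Ta, hTa⟩ := ha
    obtain ⟨Tb, hTb⟩ := hb
    refine ⟨Ta ∪ Tb, fun T' hT' => ?_⟩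
    rw [map_add, hTa T' (Finset.union_subset_left hT'), hTb T' (Finset.union_subset_right hT')]
  | tmul l m =>
    induction l using DirectSum.induction_on with
    | zero => exact ⟨∅, fun T' _ => by rw [TensorProduct.zero_tmul, map_zero]⟩
    | of i x =>
      refine ⟨{i}, fun T' hT' => ?_⟩
      rw [LinearMap.rTensor_tmul]
      congr 1
      exact prT_lof F T' i (hT' (Finset.mem_singleton_self i)) x
    | add a b ha hb =>
      obtain ⟨Ta, hTa⟩ := ha
      obtain ⟨Tb, hTb⟩ := hb
      refine ⟨Ta ∪ Tb, fun T' hT' => ?_⟩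
      rw [TensorProduct.add_tmul, map_add, hTa T' (Finset.union_subset_left hT'),
        hTb T' (Finset.union_subset_right hT')]

end directSum

section final

open DirectSum

variable {R S : Type u} [CommRing R] [IsLocalRing R] [CommRing S] [Algebra R S]
  (N : Type u) [AddCommGroup N] [Module S N] [Module R N] [IsScalarTower R S N]

/-- `N` a retract of a direct sum of finite `R`-modules, `R` local: every prime of `S` which is the
annihilator of an element of `N ⊗ M` meets the closed fibre. -/
theorem main_retract {ι : Type u} [DecidableEq ι] (F : ι → Type u)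
    [∀ i, AddCommGroup (F i)] [∀ i, Module R (F i)] [∀ i, Module.Finite R (F i)]
    (i : N →ₗ[R] ⨁ j, F j) (ρ : (⨁ j, F j) →ₗ[R] N) (hρi : ∀ n, ρ (i n) = n)
    (M : Type u) [AddCommGroup M] [Module R M]
    (q : Ideal S) [q.IsPrime] (hq : q ∈ FlatCA.ass S (N ⊗[R] M)) :
    q ⊔ (maximalIdeal R).map (algebraMap R S) ≠ ⊤ := by
  refine main_aux N (⨁ j, F j) i ρ hρi M (fun z' => ?_) q hq
  obtain ⟨T, hT⟩ := exists_prT (R := R) F M z'
  exact ⟨prT F T, AT F T, AT_fg F T, prT_mem F T, hT T (Finset.Subset.refl T)⟩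

/-- projective modules over a local ring -/
theorem main_projective [Module.Projective R N]
    (M : Type u) [AddCommGroup M] [Module R M]
    (q : Ideal S) [q.IsPrime] (hq : q ∈ FlatCA.ass S (N ⊗[R] M)) :
    q ⊔ (maximalIdeal R).map (algebraMap R S) ≠ ⊤ := by
  classical
  obtain ⟨s, hs⟩ := (Module.projective_def' (R := R) (P := N)).mp inferInstance
  let e : (N →₀ R) ≃ₗ[R] ⨁ _ : N, R := finsuppLEquivDirectSum R R N
  refine main_retract N (fun _ : N => R) (e.toLinearMap ∘ₗ s)
    (Finsupp.linearCombination R id ∘ₗ e.symm.toLinearMap) (fun n => ?_) M q hq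
  simp only [LinearMap.comp_apply, LinearEquiv.coe_coe, LinearEquiv.symm_apply_apply]
  exact LinearMap.congr_fun hs n

end final

end Groth.Agent.H1.DirSumAss
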