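import Groth.Agent.Lib.Helper1.HS6

namespace Groth.Agent.Lib.Helper1.HS

universe u

open Polynomial Filter Module

section Asymptotics

/-- The normalized growth of a polynomial of degree `≤ d` along the naturals. -/
lemma tendsto_eval_div_pow (P : ℚ[X]) (d : ℕ) (hd : P.natDegree ≤ d) :
    Tendsto (fun t : ℕ => ((P.eval (t : ℚ) : ℚ) : ℝ) / (t : ℝ) ^ d) atTop
      (nhds ((P.coeff d : ℚ) : ℝ)) := by
  have hev : ∀ t : ℕ, ((P.eval (t : ℚ) : ℚ) : ℝ) / (t : ℝ) ^ d
      = ∑ k ∈ Finset.range (d + 1), ((P.coeff k : ℚ) : ℝ) * ((t : ℝ) ^ k / (t : ℝ) ^ d) := by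
    intro t
    rw [eval_eq_sum_range' (Nat.lt_succ_of_le hd)]
    push_cast
    rw [Finset.sum_div]
    exact Finset.sum_congr rfl fun k _ => by ring
  simp_rw [hev]
  have hlim : ∀ k ∈ Finset.range (d + 1), Tendsto (fun t : ℕ => ((P.coeff k : ℚ) : ℝ) *
      ((t : ℝ) ^ k / (t : ℝ) ^ d)) atTop (nhds (if k = d then ((P.coeff d : ℚ) : ℝ) else 0)) := by
    intro k hk
    have hkd : k ≤ d := Nat.lt_succ_iff.mp (Finset.mem_range.mp hk)
    split_ifs with h
    · subst h
      have : Tendsto (fun t : ℕ => ((P.coeff k : ℚ) : ℝ) * (1 : ℝ)) atTop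
          (nhds (((P.coeff k : ℚ) : ℝ) * 1)) := tendsto_const_nhds
      rw [mul_one] at this
      refine this.congr' ?_
      filter_upwards [eventually_gt_atTop 0] with t ht
      have : (t : ℝ) ^ k ≠ 0 := by positivity
      rw [div_self this, mul_one]
    · have hlt : k < d := lt_of_le_of_ne hkd h
      have h0 : Tendsto (fun t : ℕ => (t : ℝ) ^ k / (t : ℝ) ^ d) atTop (nhds 0) := by
        have h1 : Tendsto (fun t : ℕ => ((t : ℝ) ^ (d - k))⁻¹) atTop (nhds 0) := by
          refine Tendsto.inv_tendsto_atTop ?_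
          exact (tendsto_pow_atTop (by omega : d - k ≠ 0)).comp tendsto_natCast_atTop_atTop
        refine h1.congr' ?_
        filter_upwards [eventually_gt_atTop 0] with t ht
        have htpos : (0 : ℝ) < t := by exact_mod_cast ht
        have : (t : ℝ) ^ d = (t : ℝ) ^ k * (t : ℝ) ^ (d - k) := by
          rw [← pow_add]; congr 1; omega
        rw [this]
        field_simp
      simpa using h0.const_mul ((P.coeff k : ℚ) : ℝ)
  have := tendsto_finsetSum (Finset.range (d + 1)) hlim
  simpa using this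

/-- A polynomial taking values `≥ 1` at all large naturals has positive leading coefficient. -/
lemma leadingCoeff_pos_of_eventually_one_le (P : ℚ[X])
    (h : ∃ n₁ : ℕ, ∀ n : ℕ, n₁ ≤ n → 1 ≤ P.eval (n : ℚ)) : 0 < P.leadingCoeff := by
  obtain ⟨n₁, h⟩ := h
  by_cases hdeg : P.natDegree = 0
  · rw [eq_C_of_natDegree_eq_zero hdeg] at h ⊢
    have := h n₁ le_rfl
    simp only [eval_C] at this
    rw [leadingCoeff_C]
    linarith
  · have hP0 : P ≠ 0 := by rintro rfl; simp at hdeg
    have hdegP : 0 < P.degree := by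
      rw [← natDegree_pos_iff_degree_pos]; omega
    by_contra hneg
    rw [not_lt] at hneg
    have h1 := (P.tendsto_atBot_of_leadingCoeff_nonpos hdegP hneg).comp
      (tendsto_natCast_atTop_atTop (R := ℚ))
    have h2 := (h1.eventually (eventually_lt_atBot (0 : ℚ))).and (eventually_ge_atTop n₁)
    obtain ⟨n, hn1, hn2⟩ := h2.exists
    have := h n hn2
    simp only [Function.comp_apply] at hn1
    linarith

end Asymptotics

section Dimension

variable {A : Type u} [CommRing A] [IsNoetherianRing A]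

/-- **Degree = dimension** for the Jacobson radical of a semilocal Noetherian ring. -/
theorem natDegree_hsPoly_jacobson [Finite (MaximalSpectrum A)] (M : Type u) [AddCommGroup M]
    [Module A M] [Module.Finite A M] [Nontrivial M] :
    ((hsPoly (Ring.jacobson A) M).natDegree : WithBot ℕ∞) = Module.supportDim A M := by
  have hI := isFiniteLength_quotient_jacobson (A := A)
  have hM := isFiniteLength_quotient_smul_top hI M
  have h1 : Module.supportDim A M ≤ ((hsPoly (Ring.jacobson A) M).natDegree : ℕ) :=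
    supportDim_le_of_natDegree_hsPoly_le hI le_rfl _ M le_rfl
  refine le_antisymm ?_ h1
  generalize hd : Module.supportDim A M = a at h1 ⊢
  induction a with
  | bot => exact absurd hd (Module.supportDim_ne_bot_of_nontrivial A M)
  | coe a =>
    induction a with
    | top =>
      exfalso
      have : (⊤ : ℕ∞) ≤ ((hsPoly (Ring.jacobson A) M).natDegree : ℕ∞) := by exact_mod_cast h1
      exact absurd (top_le_iff.mp this) (ENat.natCast_ne_top _)
    | coe e =>
      obtain ⟨x, hx, hfl⟩ := Groth.Agent.H6.SLD.exists_parameters e M (by rw [hd]; rfl)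
      have hJ : Ideal.span (Set.range x) ≤ Ring.jacobson A := by
        rw [Ideal.span_le]
        rintro _ ⟨i, rfl⟩
        exact hx i
      have h2 := natDegree_hsPoly_le_of_le hJ hM hfl
      have h3 := natDegree_hsPoly_le_of_span x rfl hfl
      exact_mod_cast h2.trans h3

omit [IsNoetherianRing A] in
lemma chi_pow (I : Ideal A) (M : Type u) [AddCommGroup M] [Module A M] (n k : ℕ) :
    chi (I ^ n) M k = chi I M (n * k) := by
  rw [chi, chi, ← pow_mul]

/-- Comparison of two ideals of definition. -/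
theorem natDegree_hsPoly_eq_of_pow_le {I J : Ideal A} (hIJ : I ≤ J) {N : ℕ} (hN : J ^ N ≤ I)
    (M : Type u) [AddCommGroup M] [Module A M]
    (hI : IsFiniteLength A (M ⧸ (I • ⊤ : Submodule A M))) :
    (hsPoly I M).natDegree = (hsPoly J M).natDegree := by
  have hJ : IsFiniteLength A (M ⧸ (J • ⊤ : Submodule A M)) :=
    hI.of_surjective (f := Submodule.mapQ _ _ LinearMap.id
      (Submodule.smul_mono_left hIJ : (I • ⊤ : Submodule A M) ≤ J • ⊤)) (by
      intro x
      obtain ⟨x, rfl⟩ := Submodule.mkQ_surjective _ x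
      exact ⟨Submodule.Quotient.mk x, rfl⟩)
  refine le_antisymm ?_ (natDegree_hsPoly_le_of_le hIJ hJ hI)
  obtain ⟨n₁, h₁⟩ := isHSPoly_hsPoly hI
  obtain ⟨n₂, h₂⟩ := isHSPoly_hsPoly hJ
  by_cases hN0 : N = 0
  · -- then `I = ⊤`
    subst hN0
    have hItop : I = ⊤ := by
      rw [pow_zero, Ideal.one_eq_top] at hN
      exact top_le_iff.mp hN
    have hJtop : J = ⊤ := top_le_iff.mp (hItop ▸ hIJ)
    rw [hItop, hJtop]
  have hdeg : ((hsPoly J M).comp (C (N : ℚ) * X)).natDegree ≤ (hsPoly J M).natDegree := by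
    refine natDegree_comp_le.trans ?_
    have : (C (N : ℚ) * X).natDegree ≤ 1 := (natDegree_C_mul_le _ _).trans natDegree_X_le
    calc (hsPoly J M).natDegree * (C (N : ℚ) * X).natDegree
        ≤ (hsPoly J M).natDegree * 1 := Nat.mul_le_mul_left _ this
      _ = _ := mul_one _
  refine le_trans ?_ hdeg
  refine natDegree_le_of_eventually_le _ _ ⟨max n₁ n₂, fun n hn => ?_⟩
  rw [← h₁ n (le_trans (le_max_left _ _) hn), eval_comp, eval_mul, eval_C, eval_X]
  have hNn : n₂ ≤ N * n := by
    have : n₂ ≤ n := le_trans (le_max_right _ _) hn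
    calc n₂ ≤ n := this
      _ = 1 * n := (one_mul n).symm
      _ ≤ N * n := Nat.mul_le_mul_right n (Nat.one_le_iff_ne_zero.mpr hN0)
  have e2 := h₂ (N * n) hNn
  rw [Nat.cast_mul] at e2
  rw [← e2]
  refine ⟨Nat.cast_nonneg _, ?_⟩
  have h3 : chi I M n ≤ chi (J ^ N) M n :=
    chi_le_of_le hN n (by
      have := isFiniteLength_quotient_pow hJ (N * n)
      rwa [pow_mul] at this)
  rw [chi_pow] at h3
  exact_mod_cast h3

omit [IsNoetherianRing A] in
/-- The multiplicity limit, from the Hilbert–Samuel polynomial. -/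
theorem tendsto_chi {I : Ideal A} {M : Type u} [AddCommGroup M] [Module A M] {P : ℚ[X]}
    (hP : IsHSPoly I M P) (d : ℕ) (hd : P.natDegree ≤ d) :
    Tendsto (fun t : ℕ => (d.factorial : ℝ) * (chi I M t : ℝ) / (t : ℝ) ^ d) atTop
      (nhds ((d.factorial : ℝ) * ((P.coeff d : ℚ) : ℝ))) := by
  obtain ⟨n₁, h₁⟩ := hP
  have := (tendsto_eval_div_pow P d hd).const_mul (d.factorial : ℝ)
  refine this.congr' ?_
  filter_upwards [eventually_ge_atTop n₁] with t ht
  rw [← h₁ t ht, mul_div_assoc]
  push_cast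
  rfl

end Dimension

end Groth.Agent.Lib.Helper1.HS
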