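import Mathlib
import Groth.Agent.Lib.Helper1.HS7

set_option autoImplicit false
universe u
open Polynomial Filter

namespace Groth.Agent.Lib.Helper1.Serre

open Groth.Agent.Lib.Helper1.HS

/-- the coefficient of `Xⁿ` of `P(X+1)` for `deg P ≤ n+1`. -/
lemma coeff_taylor_one_of_natDegree_le (P : ℚ[X]) (n : ℕ) (h : P.natDegree ≤ n + 1) :
    (taylor 1 P).coeff n = P.coeff n + (n + 1 : ℚ) * P.coeff (n + 1) := by
  rw [taylor_coeff]
  have hdeg : (hasseDeriv n P).natDegree ≤ 1 :=
    (natDegree_hasseDeriv_le P n).trans (by omega)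
  rw [eval_eq_sum_range' (Nat.lt_succ_of_le hdeg)]
  simp only [Finset.sum_range_succ, Finset.sum_range_zero, zero_add, pow_zero, mul_one, one_pow,
    hasseDeriv_coeff, Nat.choose_self, Nat.cast_one, one_mul]
  rw [add_comm 1 n, Nat.choose_succ_self_right]
  push_cast
  ring

/-- the top coefficient is unchanged by translation. -/
lemma coeff_taylor_of_natDegree_le (P : ℚ[X]) (r : ℚ) (n : ℕ) (h : P.natDegree ≤ n) :
    (taylor r P).coeff n = P.coeff n := by
  rw [taylor_coeff]
  have hdeg : (hasseDeriv n P).natDegree ≤ 0 :=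
    (natDegree_hasseDeriv_le P n).trans (by omega)
  rw [eq_C_of_natDegree_le_zero hdeg, eval_C, hasseDeriv_coeff]
  simp

lemma coeff_nonneg_of_eventually_nonneg (P : ℚ[X]) (d : ℕ) (hd : P.natDegree ≤ d)
    (h : ∃ n₁ : ℕ, ∀ n : ℕ, n₁ ≤ n → 0 ≤ P.eval (n : ℚ)) : 0 ≤ P.coeff d := by
  obtain ⟨n₁, h⟩ := h
  have ht := tendsto_eval_div_pow P d hd
  have : (0 : ℝ) ≤ ((P.coeff d : ℚ) : ℝ) := by
    refine ge_of_tendsto ht ?_
    filter_upwards [eventually_ge_atTop n₁] with t ht
    have h1 := h t ht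
    have h2 : (0 : ℝ) ≤ ((P.eval (t : ℚ) : ℚ) : ℝ) := by exact_mod_cast h1
    positivity
  exact_mod_cast this

variable {A : Type u} [CommRing A] [IsNoetherianRing A] {I : Ideal A}
  {M' M M'' : Type u} [AddCommGroup M'] [Module A M'] [AddCommGroup M] [Module A M]
  [AddCommGroup M''] [Module A M'']

/-- additivity of the degree-`d` coefficient of the Hilbert–Samuel polynomial. -/
theorem coeff_hsPoly_additive [Module.Finite A M] (f : M' →ₗ[A] M) (g : M →ₗ[A] M'')
    (hf : Function.Injective f) (hg : Function.Surjective g)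
    (hfg : LinearMap.range f = LinearMap.ker g)
    (hM : IsFiniteLength A (M ⧸ (I • ⊤ : Submodule A M)))
    (hM' : IsFiniteLength A (M' ⧸ (I • ⊤ : Submodule A M')))
    (hM'' : IsFiniteLength A (M'' ⧸ (I • ⊤ : Submodule A M'')))
    (d : ℕ) (hd : (hsPoly I M).natDegree ≤ d) (hd' : (hsPoly I M').natDegree ≤ d)
    (hd'' : (hsPoly I M'').natDegree ≤ d) :
    (hsPoly I M).coeff d = (hsPoly I M').coeff d + (hsPoly I M'').coeff d := by
  obtain ⟨n₁, h₁⟩ := isHSPoly_hsPoly hM
  obtain ⟨n₂, h₂⟩ := isHSPoly_hsPoly hM'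
  obtain ⟨n₃, h₃⟩ := isHSPoly_hsPoly hM''
  obtain ⟨c, hc⟩ := exists_chi_exact f g hf hg hfg (isFiniteLength_quotient_pow hM)
    (isFiniteLength_quotient_pow hM') (isFiniteLength_quotient_pow hM'')
  set P := hsPoly I M
  set P' := hsPoly I M'
  set P'' := hsPoly I M''
  -- upper bound
  have hR : 0 ≤ (P'' + P' - P).coeff d := by
    refine coeff_nonneg_of_eventually_nonneg _ d ?_ ⟨max n₁ (max n₂ n₃), fun n hn => ?_⟩
    · refine (natDegree_sub_le _ _).trans (max_le ((natDegree_add_le _ _).trans (max_le hd'' hd')) hd)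
    · have a1 := h₁ n (le_trans (le_max_left _ _) hn)
      have a2 := h₂ n (le_trans (le_trans (le_max_left _ _) (le_max_right _ _)) hn)
      have a3 := h₃ n (le_trans (le_trans (le_max_right _ _) (le_max_right _ _)) hn)
      rw [eval_sub, eval_add, ← a1, ← a2, ← a3]
      have := (hc n).2
      have : (chi I M n : ℚ) ≤ chi I M'' n + chi I M' n := by exact_mod_cast this
      linarith
  have hS : 0 ≤ (taylor (c : ℚ) (P - P'') - P').coeff d := by
    refine coeff_nonneg_of_eventually_nonneg _ d ?_ ⟨max n₁ (max n₂ n₃), fun n hn => ?_⟩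
    · refine (natDegree_sub_le _ _).trans (max_le ?_ hd')
      rw [natDegree_taylor]
      exact (natDegree_sub_le _ _).trans (max_le hd hd'')
    · have a1 := h₁ (n + c) (le_trans (le_trans (le_max_left _ _) hn) (Nat.le_add_right _ _))
      have a2 := h₂ n (le_trans (le_trans (le_max_left _ _) (le_max_right _ _)) hn)
      have a3 := h₃ (n + c) (le_trans (le_trans (le_trans (le_max_right _ _) (le_max_right _ _)) hn)
        (Nat.le_add_right _ _))
      rw [eval_sub, taylor_eval, eval_sub]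
      have e : ((n : ℚ) + (c : ℚ)) = ((n + c : ℕ) : ℚ) := by push_cast; ring
      rw [e, ← a1, ← a2, ← a3]
      have := (hc n).1
      have : (chi I M'' (n + c) : ℚ) + chi I M' n ≤ chi I M (n + c) := by exact_mod_cast this
      linarith
  rw [coeff_sub, coeff_taylor_of_natDegree_le _ _ d
    ((natDegree_sub_le _ _).trans (max_le hd hd'')), coeff_sub] at hS
  rw [coeff_sub, coeff_add] at hR
  linarith

end Groth.Agent.Lib.Helper1.Serre
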