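import Mathlib
import Groth.Agent.Lib.Helper1.HS7
import Groth.Agent.Lib.Helper1.Serre3

set_option autoImplicit false
universe u
open Polynomial Filter

namespace Groth.Agent.Lib.Helper1.Serre

open Groth.Agent.Lib.Helper1.HS

section Killed

variable {A : Type u} [CommRing A] {T : Type u} [AddCommGroup T] [Module A T]

lemma pow_smul_top_eq_of_killed {I I' : Ideal A} (f : A) (hI : I = Ideal.span {f} ⊔ I')
    (hf : ∀ t : T, f • t = 0) (n : ℕ) :
    (I ^ n • ⊤ : Submodule A T) = I' ^ n • ⊤ := by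
  induction n with
  | zero => simp
  | succ n ih =>
    rw [pow_succ', mul_smul, ih, pow_succ', mul_smul, hI, Submodule.sup_smul]
    have : (Ideal.span {f} • (I' ^ n • ⊤ : Submodule A T)) = ⊥ := by
      rw [eq_bot_iff]
      refine Submodule.smul_le.2 (fun r hr x _ => ?_)
      obtain ⟨a, rfl⟩ := Ideal.mem_span_singleton'.1 hr
      rw [mul_smul, hf, smul_zero]
      exact Submodule.zero_mem _
    rw [this, bot_sup_eq]

lemma chi_eq_of_killed {I I' : Ideal A} (f : A) (hI : I = Ideal.span {f} ⊔ I')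
    (hf : ∀ t : T, f • t = 0) (n : ℕ) : chi I T n = chi I' T n := by
  unfold chi
  rw [pow_smul_top_eq_of_killed f hI hf n]

lemma hsPoly_congr {I I' : Ideal A} (h : ∀ n, chi I T n = chi I' T n) :
    hsPoly I T = hsPoly I' T := by
  have hiff : ∀ P, IsHSPoly I T P ↔ IsHSPoly I' T P := by
    intro P
    unfold IsHSPoly
    simp only [h]
  by_cases hex : ∃ P, IsHSPoly I T P
  · obtain ⟨P, hP⟩ := hex
    rw [← hP.eq_hsPoly, ← ((hiff P).1 hP).eq_hsPoly]
  · have hex' : ¬ ∃ P, IsHSPoly I' T P := fun ⟨P, hP⟩ => hex ⟨P, (hiff P).2 hP⟩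
    rw [hsPoly, hsPoly, dif_neg hex, dif_neg hex']

end Killed

section Regular

variable {A : Type u} [CommRing A] (I : Ideal A) (M : Type u) [AddCommGroup M] [Module A M]

/-- multiplication by `a ∈ I` from `M/IⁿM` to `M/Iⁿ⁺¹M`. -/
def psi (a : A) (ha : a ∈ I) (n : ℕ) : (M ⧸ F I M n) →ₗ[A] (M ⧸ F I M (n + 1)) :=
  Submodule.mapQ _ _ (LinearMap.lsmul A M a) (fun _ hx => smul_mem_F_succ ha hx)

lemma psi_mk (a : A) (ha : a ∈ I) (n : ℕ) (x : M) :
    psi I M a ha n (Submodule.Quotient.mk x) = Submodule.Quotient.mk (a • x) := rfl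

lemma psi_comm (a b : A) (ha : a ∈ I) (hb : b ∈ I) (n : ℕ) (x : M ⧸ F I M n) :
    psi I M a ha (n + 1) (psi I M b hb n x) = psi I M b hb (n + 1) (psi I M a ha n x) := by
  obtain ⟨x, rfl⟩ := Submodule.mkQ_surjective _ x
  simp only [Submodule.mkQ_apply, psi_mk]
  rw [smul_comm]

/-- the kernel system -/
abbrev Qs (f : A) (hf : f ∈ I) (n : ℕ) : Type u := ↥(LinearMap.ker (psi I M f hf n))

/-- the operators on the kernel system -/
def phiQ (f : A) (hf : f ∈ I) (a : A) (ha : a ∈ I) (n : ℕ) : Qs I M f hf n →ₗ[A] Qs I M f hf (n + 1) :=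
  (psi I M a ha n).restrict (fun x hx => by
    rw [LinearMap.mem_ker] at hx ⊢
    rw [psi_comm, hx, map_zero])

lemma coe_phiQ (f : A) (hf : f ∈ I) (a : A) (ha : a ∈ I) (n : ℕ) (x : Qs I M f hf n) :
    ((phiQ I M f hf a ha n x : Qs I M f hf (n + 1)) : M ⧸ F I M (n + 1)) = psi I M a ha n x.1 := rfl

lemma phiQ_comm (f : A) (hf : f ∈ I) (a b : A) (ha : a ∈ I) (hb : b ∈ I) (n : ℕ)
    (x : Qs I M f hf n) :
    phiQ I M f hf a ha (n + 1) (phiQ I M f hf b hb n x) =
      phiQ I M f hf b hb (n + 1) (phiQ I M f hf a ha n x) := by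
  apply Subtype.ext
  simp only [coe_phiQ]
  exact psi_comm I M a b ha hb n x.1

/-- `Cn n = (Iⁿ⁺¹M : f)`. -/
def Cn (f : A) (n : ℕ) : Submodule A M := (F I M (n + 1)).comap (LinearMap.lsmul A M f)

lemma mem_Cn (f : A) (n : ℕ) (y : M) : y ∈ Cn I M f n ↔ f • y ∈ F I M (n + 1) := Iff.rfl

lemma ker_psi_eq (f : A) (hf : f ∈ I) (n : ℕ) :
    LinearMap.ker (psi I M f hf n) = (Cn I M f n).map (Submodule.mkQ (F I M n)) := by
  ext z
  obtain ⟨y, rfl⟩ := Submodule.mkQ_surjective _ z
  rw [LinearMap.mem_ker, Submodule.mkQ_apply, psi_mk, Submodule.Quotient.mk_eq_zero]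
  constructor
  · intro h
    exact ⟨y, h, rfl⟩
  · rintro ⟨y', hy', hyy'⟩
    rw [Submodule.mkQ_apply, Submodule.Quotient.eq] at hyy'
    have h1 : f • (y' - y) ∈ F I M (n + 1) := smul_mem_F_succ hf hyy'
    have hy' : f • y' ∈ F I M (n + 1) := hy'
    have : f • y = f • y' - f • (y' - y) := by rw [smul_sub]; abel
    rw [this]
    exact Submodule.sub_mem _ hy' h1


section Gen

variable [IsNoetherianRing A] [Module.Finite A M] {s : ℕ} (g : Fin s → A) (f : A)

lemma mulF_comm (a b : A) (ha : a ∈ I) (hb : b ∈ I) (n : ℕ) (x : F I M n) :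
    mulF I M a ha (n + 1) (mulF I M b hb n x) = mulF I M b hb (n + 1) (mulF I M a ha n x) := by
  apply Subtype.ext
  simp only [coe_mulF]
  exact smul_comm _ _ _

lemma gen_F {t : ℕ} (gens : Fin t → A) (hI : I = Ideal.span (Set.range gens))
    (hg : ∀ i, gens i ∈ I) (n : ℕ) :
    ⨆ i, LinearMap.range (mulF I M (gens i) (hg i) n) = ⊤ := by
  rw [eq_top_iff]
  rintro ⟨y, hy⟩ -
  exact mem_iSup_range_restrict (F I M n) (F I M (n + 1))
    (fun i => LinearMap.lsmul A M (gens i)) (fun i _ hx => smul_mem_F_succ (hg i) hx) y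
    (F_succ_le_iSup_map I M gens hI n hy) hy

/-- the key generation statement coming from the Noetherian property of the Rees system. -/
lemma exists_Cn_le (hI : I = Ideal.span {f} ⊔ Ideal.span (Set.range g))
    (hreg : IsSMulRegular M f) :
    ∃ m, ∀ n, m ≤ n → Cn I M f (n + 1) ≤
      (⨆ i, (Cn I M f n).map (LinearMap.lsmul A M (g i))) ⊔ F I M (n + 1) := by
  classical
  set gens : Fin (s + 1) → A := Fin.cons f g with hgens
  have hIg : I = Ideal.span (Set.range gens) := by
    rw [hI, hgens, Fin.range_cons, Ideal.span_insert]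
  have hg : ∀ j, gens j ∈ I := fun j => by rw [hIg]; exact Ideal.subset_span ⟨j, rfl⟩
  have hfg : ∀ n, Module.Finite A (F I M n) := fun n => by
    haveI : IsNoetherian A M := isNoetherian_of_isNoetherianRing_of_finite A M
    infer_instance
  let K : ∀ n, Submodule A (F I M n) := fun n =>
    (LinearMap.range (LinearMap.lsmul A M f)).comap (F I M n).subtype
  have hK : ∀ j n, (K n).map (mulF I M (gens j) (hg j) n) ≤ K (n + 1) := by
    rintro j n _ ⟨x, hx, rfl⟩
    obtain ⟨u, hu⟩ := hx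
    refine ⟨gens j • u, ?_⟩
    change f • (gens j • u) = gens j • (x : M)
    change f • u = (x : M) at hu
    rw [← hu, smul_comm]
  obtain ⟨m, hm⟩ := exists_forall_le_iSup_map (fun n => F I M n)
    (fun j n => mulF I M (gens j) (hg j) n)
    (fun i j n x => mulF_comm I M _ _ _ _ n x) hfg
    ⟨0, fun n _ => gen_F I M gens hIg hg n⟩ K hK
  refine ⟨m, fun n hn y hy => ?_⟩
  set Y := (⨆ i, (Cn I M f n).map (LinearMap.lsmul A M (g i))) ⊔ F I M (n + 1) with hY
  have hy' : f • y ∈ F I M (n + 1 + 1) := hy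
  have hw : (⟨f • y, hy'⟩ : F I M (n + 1 + 1)) ∈ K (n + 1 + 1) := ⟨y, rfl⟩
  have hw' := hm (n + 1) (by omega) hw
  have key : ∀ w : F I M (n + 1 + 1),
      w ∈ ⨆ j, (K (n + 1)).map (mulF I M (gens j) (hg j) (n + 1)) →
      ∃ y' ∈ Y, f • y' = (w : M) := by
    intro w hw
    refine Submodule.iSup_induction _ (motive := fun w : F I M (n + 1 + 1) => ∃ y' ∈ Y, f • y' = (w : M))
      hw ?_ ?_ ?_
    · intro j w hw
      obtain ⟨k, hk, rfl⟩ := hw
      obtain ⟨u, hu⟩ := hk
      change f • u = (k : M) at hu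
      rw [coe_mulF]
      refine Fin.cases ?_ (fun i => ?_) j
      · refine ⟨(k : M), Submodule.mem_sup_right k.2, ?_⟩
        simp [hgens]
      · refine ⟨g i • u, Submodule.mem_sup_left (Submodule.mem_iSup_of_mem i ⟨u, ?_, rfl⟩), ?_⟩
        · change f • u ∈ F I M (n + 1)
          rw [hu]
          exact k.2
        · simp only [hgens, Fin.cons_succ]
          rw [← hu, smul_comm]
    · exact ⟨0, Submodule.zero_mem _, by simp⟩
    · rintro w₁ w₂ ⟨y₁, h₁, e₁⟩ ⟨y₂, h₂, e₂⟩
      exact ⟨y₁ + y₂, Submodule.add_mem _ h₁ h₂, by rw [smul_add, e₁, e₂]; rfl⟩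
  obtain ⟨y', hy'Y, hy'e⟩ := key _ hw'
  have : y = y' := hreg (by simpa using hy'e.symm)
  rw [this]
  exact hy'Y

/-- the kernel system is eventually generated by the operators `g i`. -/
lemma exists_gen_Qs (hI : I = Ideal.span {f} ⊔ Ideal.span (Set.range g))
    (hfI : f ∈ I) (hgI : ∀ i, g i ∈ I) (hreg : IsSMulRegular M f) :
    ∃ m, ∀ n, m ≤ n → ⨆ i, LinearMap.range (phiQ I M f hfI (g i) (hgI i) n) = ⊤ := by
  obtain ⟨m, hm⟩ := exists_Cn_le I M g f hI hreg
  refine ⟨m, fun n hn => ?_⟩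
  rw [eq_top_iff]
  rintro ⟨z, hz⟩ -
  refine mem_iSup_range_restrict (LinearMap.ker (psi I M f hfI n))
    (LinearMap.ker (psi I M f hfI (n + 1)))
    (fun i => psi I M (g i) (hgI i) n) _ z ?_ hz
  rw [ker_psi_eq] at hz ⊢
  have h1 := Submodule.map_mono (f := Submodule.mkQ (F I M (n + 1))) (hm n hn)
  have h2 := h1 hz
  rw [Submodule.map_sup, Submodule.map_iSup] at h2
  have h3 : (F I M (n + 1)).map (Submodule.mkQ (F I M (n + 1))) = ⊥ := by
    rw [← LinearMap.le_ker_iff_map, Submodule.ker_mkQ]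
  rw [h3, sup_bot_eq] at h2
  have h4 : ∀ i, Submodule.map (Submodule.mkQ (F I M (n + 1)))
      (Submodule.map (LinearMap.lsmul A M (g i)) (Cn I M f n)) ≤
      Submodule.map (psi I M (g i) (hgI i) n)
        (Submodule.map (Submodule.mkQ (F I M n)) (Cn I M f n)) := by
    intro i
    rw [← Submodule.map_comp, ← Submodule.map_comp]
    apply le_of_eq
    congr 1
  exact (iSup_mono h4) h2

end Gen


section Len

open scoped Pointwise

lemma length_coker_psi (f : A) (hf : f ∈ I) (n : ℕ) :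
    Module.length A ((M ⧸ F I M (n + 1)) ⧸ LinearMap.range (psi I M f hf n)) =
      Module.length A (QuotSMulTop f M ⧸ (I ^ (n + 1) • ⊤ : Submodule A (QuotSMulTop f M))) := by
  set T : Submodule A M := f • (⊤ : Submodule A M) with hT
  set S : Submodule A M := F I M (n + 1) with hS
  have h_range : LinearMap.range (psi I M f hf n) = T.map S.mkQ := by
    ext z
    constructor
    · rintro ⟨x, rfl⟩
      obtain ⟨y, rfl⟩ := Submodule.mkQ_surjective _ x
      exact ⟨f • y, Submodule.smul_mem_pointwise_smul _ _ _ Submodule.mem_top, rfl⟩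
    · rintro ⟨t, ht, rfl⟩
      obtain ⟨y, -, rfl⟩ := (Submodule.mem_smul_pointwise_iff_exists _ _ _).1 ht
      exact ⟨Submodule.Quotient.mk y, rfl⟩
  have e1 := (Submodule.quotEquivOfEq _ _ h_range).trans
    (Submodule.quotientQuotientEquivQuotientSup S T)
  have h_top : (I ^ (n + 1) • ⊤ : Submodule A (M ⧸ T)) = S.map T.mkQ := by
    rw [hS, F, Submodule.map_smul'', Submodule.map_top, Submodule.range_mkQ]
  have e2 := (Submodule.quotEquivOfEq _ _ h_top).trans
    (Submodule.quotientQuotientEquivQuotientSup T S)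
  have e3 := Submodule.quotEquivOfEq _ _ (sup_comm S T)
  exact (e1.trans (e3.trans e2.symm)).length_eq

variable [IsNoetherianRing A]

/-- the basic length identity. -/
lemma chi_succ_add (f : A) (hf : f ∈ I) (hM : IsFiniteLength A (M ⧸ (I • ⊤ : Submodule A M)))
    (n : ℕ) :
    (chi I M (n + 1) : ℤ) + ((Module.length A (Qs I M f hf n)).toNat : ℤ) =
      (chi I M n : ℤ) + (chi I (QuotSMulTop f M) (n + 1) : ℤ) := by
  have h := length_ker_coker (psi I M f hf n)
  rw [length_coker_psi] at h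
  have f1 : Module.length A (M ⧸ F I M (n + 1)) ≠ ⊤ :=
    Module.length_ne_top_iff.2 (isFiniteLength_quotient_pow hM (n + 1))
  have f2 : Module.length A (M ⧸ F I M n) ≠ ⊤ :=
    Module.length_ne_top_iff.2 (isFiniteLength_quotient_pow hM n)
  have f3 : Module.length A (LinearMap.ker (psi I M f hf n)) ≠ ⊤ :=
    Module.length_ne_top_iff.2
      ((isFiniteLength_quotient_pow hM n).of_injective (f := (LinearMap.ker (psi I M f hf n)).subtype)
        (Submodule.subtype_injective _))
  have f4 : Module.length A (QuotSMulTop f M ⧸ (I ^ (n + 1) • ⊤ : Submodule A (QuotSMulTop f M)))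
      ≠ ⊤ := by
    intro h4
    rw [h4, add_top] at h
    exact (WithTop.add_ne_top.2 ⟨f1, f3⟩) h
  unfold chi
  change Module.length A (M ⧸ F I M (n + 1)) + _ = Module.length A (M ⧸ F I M n) + _ at h
  have := congrArg ENat.toNat h
  rw [ENat.toNat_add f1 f3, ENat.toNat_add f2 f4] at this
  exact_mod_cast this

end Len


section Main

open scoped Pointwise

lemma coeff_bpoly_self (s : ℕ) (c : ℕ → ℤ) : (bpoly s c).coeff s = 0 := by
  cases s with
  | zero => simp [bpoly]
  | succ s => exact coeff_eq_zero_of_natDegree_lt (Nat.lt_succ_of_le (natDegree_bpoly_le s c))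

variable [IsNoetherianRing A] [Module.Finite A M]

lemma smul_quotSMulTop_eq_zero (f : A) (t : QuotSMulTop f M) : f • t = 0 := by
  obtain ⟨y, rfl⟩ := Submodule.mkQ_surjective _ t
  rw [Submodule.mkQ_apply, ← Submodule.Quotient.mk_smul, Submodule.Quotient.mk_eq_zero]
  exact Submodule.smul_mem_pointwise_smul _ _ _ Submodule.mem_top

lemma isFiniteLength_quotSMulTop (f : A)
    (hM : IsFiniteLength A (M ⧸ (I • ⊤ : Submodule A M))) :
    IsFiniteLength A (QuotSMulTop f M ⧸ (I • ⊤ : Submodule A (QuotSMulTop f M))) := by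
  have h := pow_smul_top_le_comap (I := I) (Submodule.mkQ (f • (⊤ : Submodule A M))) 1
  rw [pow_one] at h
  refine hM.of_surjective (f := Submodule.mapQ _ _ (Submodule.mkQ (f • (⊤ : Submodule A M))) h) ?_
  intro x
  obtain ⟨x, rfl⟩ := Submodule.mkQ_surjective _ x
  obtain ⟨y, rfl⟩ := Submodule.mkQ_surjective _ x
  exact ⟨Submodule.Quotient.mk y, rfl⟩

/-- **Regular case**: `(s+1) · a_{s+1}(I, M) = a_s(I', M/fM)` for `I = (f) + I'`, `I'` generated by
`s` elements, `f` regular on `M`. -/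
theorem coeff_hsPoly_of_regular {s : ℕ} (g : Fin s → A) (f : A)
    (hI : I = Ideal.span {f} ⊔ Ideal.span (Set.range g)) (hreg : IsSMulRegular M f)
    (hM : IsFiniteLength A (M ⧸ (I • ⊤ : Submodule A M))) :
    ((s : ℚ) + 1) * (hsPoly I M).coeff (s + 1) =
      (hsPoly (Ideal.span (Set.range g)) (QuotSMulTop f M)).coeff s := by
  have hfI : f ∈ I := by
    rw [hI]; exact Ideal.mem_sup_left (Ideal.subset_span rfl)
  have hgI : ∀ i, g i ∈ I := fun i => by
    rw [hI]; exact Ideal.mem_sup_right (Ideal.subset_span ⟨i, rfl⟩)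
  have hN := isFiniteLength_quotSMulTop I M f hM
  have hkill := smul_quotSMulTop_eq_zero M f
  have hpoly : hsPoly (Ideal.span (Set.range g)) (QuotSMulTop f M) = hsPoly I (QuotSMulTop f M) :=
    (hsPoly_congr (fun n => chi_eq_of_killed f hI hkill n)).symm
  rw [hpoly]
  have hN' : IsFiniteLength A (QuotSMulTop f M ⧸
      (Ideal.span (Set.range g) • ⊤ : Submodule A (QuotSMulTop f M))) := by
    have := pow_smul_top_eq_of_killed f hI hkill 1
    rw [pow_one, pow_one] at this
    rw [← this]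
    exact hN
  have hdN : (hsPoly I (QuotSMulTop f M)).natDegree ≤ s := by
    rw [← hpoly]
    exact natDegree_hsPoly_le_of_span g rfl hN'
  have hdM : (hsPoly I M).natDegree ≤ s + 1 := by
    refine natDegree_hsPoly_le_of_span (Fin.cons f g : Fin (s + 1) → A) ?_ hM
    rw [hI, Fin.range_cons, Ideal.span_insert]
  obtain ⟨n₁, h₁⟩ := isHSPoly_hsPoly hM
  obtain ⟨n₂, h₂⟩ := isHSPoly_hsPoly hN
  -- Hilbert–Serre for the kernel system
  obtain ⟨c, n₃, h₃⟩ := hilbertSerre s (fun n => Qs I M f hfI n)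
    (fun i n => phiQ I M f hfI (g i) (hgI i) n)
    (fun i j n x => phiQ_comm I M f hfI _ _ _ _ n x)
    (fun n => (isFiniteLength_quotient_pow hM n).of_injective
      (f := (LinearMap.ker (psi I M f hfI n)).subtype) (Submodule.subtype_injective _))
    (exists_gen_Qs I M g f hI hfI hgI hreg)
  set P := hsPoly I M with hP
  set PN := hsPoly I (QuotSMulTop f M) with hPN
  have hid : taylor 1 P + bpoly s c = P + taylor 1 PN := by
    refine eq_of_eventually_eval_eq _ _ ⟨max n₁ (max n₂ n₃), fun n hn => ?_⟩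
    have a1 := h₁ n (le_trans (le_max_left _ _) hn)
    have a1' := h₁ (n + 1) (le_trans (le_trans (le_max_left _ _) hn) (Nat.le_succ _))
    have a2 := h₂ (n + 1) (le_trans (le_trans (le_trans (le_max_left _ _) (le_max_right _ _)) hn)
      (Nat.le_succ _))
    have a3 := h₃ n (le_trans (le_trans (le_max_right _ _) (le_max_right _ _)) hn)
    have key := chi_succ_add I M f hfI hM n
    rw [a3] at key
    rw [eval_add, eval_add, taylor_eval, taylor_eval, eval_bpoly]
    have e : ((n : ℚ) + 1) = ((n + 1 : ℕ) : ℚ) := by push_cast; ring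
    rw [e, ← a1, ← a1', ← a2]
    exact_mod_cast key
  have hc := congrArg (fun Q : ℚ[X] => Q.coeff s) hid
  simp only [coeff_add] at hc
  rw [coeff_taylor_one_of_natDegree_le P s hdM, coeff_bpoly_self,
    coeff_taylor_of_natDegree_le PN 1 s hdN] at hc
  linarith

end Main

end Regular

end Groth.Agent.Lib.Helper1.Serre
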