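import Mathlib
import Groth.Agent.Lib.Helper1.Serre4

set_option autoImplicit false
universe u
open Polynomial Filter

namespace Groth.Agent.Lib.Helper1.EMult

open Groth.Agent.Lib.Helper1.HS Groth.Agent.Lib.Helper1.Serre

variable {A : Type u} [CommRing A]

lemma chi_zero (I : Ideal A) (M : Type u) [AddCommGroup M] [Module A M] : chi I M 0 = 0 := by
  unfold chi
  rw [pow_zero, Ideal.one_eq_top, Submodule.top_smul]
  have : Subsingleton (M ⧸ (⊤ : Submodule A M)) := Submodule.Quotient.subsingleton_iff.2 rfl
  rw [Module.length_eq_zero]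
  rfl

lemma chi_bot (M : Type u) [AddCommGroup M] [Module A M] (n : ℕ) (hn : 1 ≤ n) :
    chi (⊥ : Ideal A) M n = chi (⊥ : Ideal A) M 1 := by
  unfold chi
  have : (⊥ : Ideal A) ^ n = ⊥ ^ 1 := by
    rw [pow_one]
    obtain ⟨k, rfl⟩ := Nat.exists_eq_succ_of_ne_zero (by omega : n ≠ 0)
    rw [pow_succ, Ideal.mul_bot]
  rw [this]

variable [IsNoetherianRing A]

/-- `ℓ(M/IⁿM) ≤ ℓ(M/IM) · C(n+s, s)` when `I` is generated by `s` elements. -/
theorem chi_le : ∀ (s : ℕ) (I : Ideal A) (g : Fin s → A) (_hI : I = Ideal.span (Set.range g))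
    (M : Type u) [AddCommGroup M] [Module A M] [Module.Finite A M]
    (_hM : IsFiniteLength A (M ⧸ (I • ⊤ : Submodule A M))) (n : ℕ),
    chi I M n ≤ chi I M 1 * (n + s).choose s := by
  intro s
  induction s with
  | zero =>
    intro I g hI M _ _ _ hM n
    have hI' : I = ⊥ := by
      rw [hI]
      simp
    subst hI'
    rcases Nat.eq_zero_or_pos n with rfl | hn
    · rw [chi_zero]; exact Nat.zero_le _
    · rw [chi_bot M n hn]; simp
  | succ s ih =>
    intro I g hI M _ _ _ hM n
    set f := g 0 with hf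
    set g' : Fin s → A := Fin.tail g with hg'
    have hI2 : I = Ideal.span {f} ⊔ Ideal.span (Set.range g') := by
      rw [hI, ← Ideal.span_insert]
      congr 1
      have : g = Fin.cons f g' := (Fin.cons_self_tail g).symm
      rw [this, Fin.range_cons]
    have hfI : f ∈ I := by
      rw [hI2]; exact Ideal.mem_sup_left (Ideal.subset_span rfl)
    have hN := isFiniteLength_quotSMulTop I M f hM
    have hkill := smul_quotSMulTop_eq_zero M f
    have hN' : IsFiniteLength A (QuotSMulTop f M ⧸
        (Ideal.span (Set.range g') • ⊤ : Submodule A (QuotSMulTop f M))) := by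
      have := pow_smul_top_eq_of_killed f hI2 hkill 1
      rw [pow_one, pow_one] at this
      rw [← this]
      exact hN
    have key : ∀ k, chi I M (k + 1) ≤ chi I M k + chi (Ideal.span (Set.range g')) (QuotSMulTop f M) (k + 1) := by
      intro k
      have := chi_succ_add I M f hfI hM k
      rw [chi_eq_of_killed f hI2 hkill (k + 1)] at this
      have h0 : (0 : ℤ) ≤ ((Module.length A (Qs I M f hfI k)).toNat : ℤ) := Int.natCast_nonneg _
      omega
    have h1 : chi (Ideal.span (Set.range g')) (QuotSMulTop f M) 1 = chi I M 1 := by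
      have := chi_succ_add I M f hfI hM 0
      rw [chi_eq_of_killed f hI2 hkill (0 + 1), chi_zero] at this
      have h0 : Module.length A (Qs I M f hfI 0) = 0 := by
        rw [Module.length_eq_zero_iff]
        have : Subsingleton (M ⧸ F I M 0) := by
          rw [Submodule.Quotient.subsingleton_iff]
          unfold F
          rw [pow_zero, Ideal.one_eq_top, Submodule.top_smul]
        infer_instance
      rw [h0] at this
      simp at this
      omega
    have ihN := ih (Ideal.span (Set.range g')) g' rfl (QuotSMulTop f M) hN'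
    rw [h1] at ihN
    induction n with
    | zero => rw [chi_zero]; exact Nat.zero_le _
    | succ n ihn =>
      refine le_trans (key n) ?_
      refine le_trans (Nat.add_le_add ihn (ihN (n + 1))) ?_
      rw [← Nat.mul_add]
      refine Nat.mul_le_mul_left _ ?_
      have : (n + 1 + (s + 1)).choose (s + 1) = (n + 1 + s).choose s + (n + 1 + s).choose (s + 1) := by
        rw [show n + 1 + (s + 1) = (n + 1 + s) + 1 by ring, Nat.choose_succ_succ]
      rw [this, show n + (s + 1) = n + 1 + s by ring]
      omega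

/-- the multiplicity bound: `s! · a_s(I, M) ≤ ℓ(M/IM)`. -/
theorem factorial_mul_coeff_hsPoly_le {s : ℕ} (I : Ideal A) (g : Fin s → A)
    (hI : I = Ideal.span (Set.range g))
    (M : Type u) [AddCommGroup M] [Module A M] [Module.Finite A M]
    (hM : IsFiniteLength A (M ⧸ (I • ⊤ : Submodule A M))) :
    (s.factorial : ℚ) * (hsPoly I M).coeff s ≤ (chi I M 1 : ℚ) := by
  obtain ⟨n₁, h₁⟩ := isHSPoly_hsPoly hM
  have hd : (hsPoly I M).natDegree ≤ s := natDegree_hsPoly_le_of_span g hI hM
  set P : ℚ[X] := C (chi I M 1 : ℚ) * preHilbertPoly ℚ s 0 - hsPoly I M with hP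
  have hPd : P.natDegree ≤ s := by
    refine (natDegree_sub_le _ _).trans (max_le ?_ hd)
    refine (natDegree_C_mul_le _ _).trans ?_
    rw [natDegree_preHilbertPoly]
  have h0 : 0 ≤ P.coeff s := by
    refine coeff_nonneg_of_eventually_nonneg P s hPd ⟨n₁, fun n hn => ?_⟩
    rw [hP, eval_sub, eval_mul, eval_C, ← h₁ n hn,
      preHilbertPoly_eq_choose_sub_add ℚ s (Nat.zero_le n), Nat.sub_zero]
    have := chi_le s I g hI M hM n
    have : (chi I M n : ℚ) ≤ (chi I M 1 : ℚ) * ((n + s).choose s : ℚ) := by exact_mod_cast this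
    linarith
  rw [hP, coeff_sub, coeff_C_mul, coeff_preHilbertPoly_self] at h0
  have hs : (0 : ℚ) < (s.factorial : ℚ) := by exact_mod_cast Nat.factorial_pos s
  have : (hsPoly I M).coeff s ≤ (chi I M 1 : ℚ) * ((s.factorial : ℚ))⁻¹ := by linarith
  calc (s.factorial : ℚ) * (hsPoly I M).coeff s
      ≤ (s.factorial : ℚ) * ((chi I M 1 : ℚ) * ((s.factorial : ℚ))⁻¹) :=
        mul_le_mul_of_nonneg_left this hs.le
    _ = (chi I M 1 : ℚ) := by field_simp

end Groth.Agent.Lib.Helper1.EMult
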