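import Mathlib
import Groth.Agent.Lib.Helper3.AlgSpCov.EtSmoothST

/-! helper1: S10570, part (a): formal consequences of the three locality hypotheses. -/

set_option autoImplicit false
set_option linter.overlappingInstances false
set_option linter.unusedSectionVars false
set_option linter.unusedVariables false

universe u

open CategoryTheory CategoryTheory.Limits AlgebraicGeometry MorphismProperty Opposite Topology

namespace Groth.Agent.H1.ESST

open _root_.AlgSp Groth.Agent.H5.AlgSp Groth.Agent.H5.EtSrc Groth.Agent.H3.AlgSpCov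

variable {S : Scheme.{u}}

/-- The hypotheses of S10570 at the level of sheaves. -/
structure Hyp (P : MorphismProperty (Sp S)) : Prop where
  h1 : IsLocalOnSource (IsEtCover (S := S)) P
  h2 : IsLocalOnBase (IsSmCover (S := S)) P
  h3 : ∀ ⦃X Y Z : Sp S⦄, IsAlgSpace X → IsAlgSpace Y → IsAlgSpace Z → ∀ (f : X ⟶ Y) (j : Y ⟶ Z),
    P f → RepWith @IsOpenImmersion j → P (f ≫ j)

variable {P : MorphismProperty (Sp S)}

theorem isEtaleMor_comp {X Y Z : Sp S} {f : X ⟶ Y} {g : Y ⟶ Z} (hf : IsEtaleMor f)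
    (hg : IsEtaleMor g) : IsEtaleMor (f ≫ g) := by
  intro U φ hφ
  rw [← Category.assoc]
  exact hg _ (hf φ hφ)

theorem isEtaleMor_of_repWith {X : Sp S} {T : Over S} (c : (yon S).obj T ⟶ X)
    (hc : RepWith @Etale c) : IsEtaleMor c :=
  fun _ _ hφ => (RepWith @Etale).comp_mem _ _ hφ hc

theorem map_yon_map_ofScheme {T T' : Over S} (φ : T ⟶ T') (t : T.left) :
    Points.map ((yon S).map φ) (Points.ofScheme T t) = Points.ofScheme T' (φ.left t) :=
  Points.map_yon_map_apply φ t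

theorem isPullback_yon_map_iff {Q X Y Z : Over S} (fst : Q ⟶ X) (snd : Q ⟶ Y) (f : X ⟶ Z)
    (g : Y ⟶ Z) :
    IsPullback ((yon S).map fst) ((yon S).map snd) ((yon S).map f) ((yon S).map g) ↔
      IsPullback fst snd f g := by
  constructor
  · intro h
    have w : fst ≫ f = snd ≫ g := (yon S).map_injective (by
      rw [Functor.map_comp, Functor.map_comp]; exact h.w)
    exact IsPullback.of_map (yon S) w h
  · intro h
    exact h.map (yon S)

theorem isPullback_left_iff {Q X Y Z : Over S} (fst : Q ⟶ X) (snd : Q ⟶ Y) (f : X ⟶ Z)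
    (g : Y ⟶ Z) : IsPullback fst.left snd.left f.left g.left ↔ IsPullback fst snd f g := by
  constructor
  · intro h
    have w : fst ≫ f = snd ≫ g := Over.OverMorphism.ext (by simpa using h.w)
    exact IsPullback.of_map (Over.forget S) w h
  · intro h
    exact h.map (Over.forget S)

/-- precomposition with an étale morphism. -/
theorem Hyp.precomp (hP : Hyp P) {X Y Z : Sp S} (hX : IsAlgSpace X) (hY : IsAlgSpace Y)
    (hZ : IsAlgSpace Z) (f : X ⟶ Y) (g : Y ⟶ Z) (hf : IsEtaleMor f) (hg : P g) : P (f ≫ g) := by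
  have hcov : IsEtCover (pairFam X Y) (pairMor f (𝟙 Y)) :=
    ⟨fun b => match b with
      | ⟨true⟩ => hf
      | ⟨false⟩ => isEtaleMor_id hY, fun y => ⟨⟨false⟩, y, Points.map_id y⟩⟩
  exact (hP.h1 _ _ hY (pairFam_isAlgSpace hX hY) hcov g hZ).1 hg ⟨true⟩

/-- base change along a smooth morphism. -/
theorem Hyp.baseChange (hP : Hyp P) {X Y X' Y' : Sp S} (hX : IsAlgSpace X) (hY : IsAlgSpace Y)
    (hX' : IsAlgSpace X') (hY' : IsAlgSpace Y') (f : X ⟶ Y) (g : Y' ⟶ Y) (f' : X' ⟶ Y')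
    (g' : X' ⟶ X) (sq : IsPullback g' f' f g) (hg : LocP @Smooth g) (hf : P f) : P f' := by
  have hcov : IsSmCover (pairFam Y' Y) (pairMor g (𝟙 Y)) :=
    ⟨fun b => match b with
      | ⟨true⟩ => hg
      | ⟨false⟩ => locP_smooth_id Y, fun y => ⟨⟨false⟩, y, Points.map_id y⟩⟩
  exact (hP.h2 _ _ hY (pairFam_isAlgSpace hY' hY) hcov f hX (pairFam X' X) (pairMap f' f)
    (pairMor g' (𝟙 X)) (pairFam_isAlgSpace hX' hX) (fun b => match b with
      | ⟨true⟩ => sq
      | ⟨false⟩ => IsPullback.id_horiz f)).1 hf ⟨true⟩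

theorem Hyp.baseChange_etale (hP : Hyp P) {X Y X' Y' : Sp S} (hX : IsAlgSpace X)
    (hY : IsAlgSpace Y) (hX' : IsAlgSpace X') (hY' : IsAlgSpace Y') (f : X ⟶ Y) (g : Y' ⟶ Y)
    (f' : X' ⟶ Y') (g' : X' ⟶ X) (sq : IsPullback g' f' f g) (hg : IsEtaleMor g) (hf : P f) :
    P f' :=
  hP.baseChange hX hY hX' hY' f g f' g' sq (locP_smooth_of_isEtaleMor hY hg) hf

/-- `g` may be postcomposed to morphisms having `P`. -/
def PostOK (P : MorphismProperty (Sp S)) {Y Z : Sp S} (g : Y ⟶ Z) : Prop :=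
  ∀ ⦃X : Sp S⦄, IsAlgSpace X → ∀ f : X ⟶ Y, P f → P (f ≫ g)

theorem postOK_id (Y : Sp S) : PostOK P (𝟙 Y) := fun X _ f hf => by rwa [Category.comp_id]

theorem postOK_comp {Y Z T : Sp S} {g : Y ⟶ Z} {g' : Z ⟶ T} (hg : PostOK P g)
    (hg' : PostOK P g') : PostOK P (g ≫ g') :=
  fun X hX f hf => by rw [← Category.assoc]; exact hg' hX _ (hg hX f hf)

theorem Hyp.postOK_openImm (hP : Hyp P) {Y Z : Sp S} (hY : IsAlgSpace Y) (hZ : IsAlgSpace Z)
    {j : Y ⟶ Z} (hj : RepWith @IsOpenImmersion j) : PostOK P j :=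
  fun X hX f hf => hP.h3 hX hY hZ f j hf hj

theorem Hyp.postOK_yon_openImm (hP : Hyp P) {U V : Over S} (j : U ⟶ V)
    (hj : IsOpenImmersion j.left) : PostOK P ((yon S).map j) :=
  hP.postOK_openImm (IsAlgSpace.yon_obj U) (IsAlgSpace.yon_obj V)
    ((repWith_yon_map_iff @IsOpenImmersion j).2 hj)

/-- étale-local on the source. -/
theorem Hyp.postOK_of_src_cover (hP : Hyp P) {Y Z : Sp S} (hY : IsAlgSpace Y) (hZ : IsAlgSpace Z)
    (g : Y ⟶ Z) {ι : Type u} (Yi : ι → Sp S) (c : ∀ i, Yi i ⟶ Y) (hYi : ∀ i, IsAlgSpace (Yi i))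
    (hcov : IsEtCover Yi c) (h : ∀ i, PostOK P (c i ≫ g)) : PostOK P g := by
  intro X hX f hf
  have sq : ∀ i, IsPullback (pullback.fst f (c i)) (pullback.snd f (c i)) f (c i) :=
    fun i => IsPullback.of_hasPullback _ _
  have hXi : ∀ i, IsAlgSpace (pullback f (c i)) :=
    fun i => isAlgSpace_pullback hY.diag hX (hYi i) (sq i)
  have hcov' : IsEtCover (fun i => pullback f (c i)) (fun i => pullback.fst f (c i)) := by
    refine ⟨fun i => isEtaleMor_of_isPullback (sq i).flip (hYi i) hY hX (hcov.1 i), fun x => ?_⟩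
    obtain ⟨i, yi, hyi⟩ := hcov.2 (Points.map f x)
    obtain ⟨z, hz1, hz2⟩ := points_pullback_surjective (sq i) x yi hyi.symm
    exact ⟨i, z, hz1⟩
  refine (hP.h1 _ _ hX hXi hcov' (f ≫ g) hZ).2 fun i => ?_
  have h1 : P (pullback.snd f (c i)) :=
    hP.baseChange_etale hX hY (hXi i) (hYi i) f (c i) _ _ (sq i) (hcov.1 i) hf
  have h2 := h i (hXi i) _ h1
  rw [← Category.assoc, (sq i).w, Category.assoc]
  exact h2

/-- smooth-local on the target (one-member coverings). -/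
theorem Hyp.postOK_of_tgt_cover (hP : Hyp P) {Y Z Z' Y' : Sp S} (hY : IsAlgSpace Y)
    (hZ : IsAlgSpace Z) (hZ' : IsAlgSpace Z') (hY' : IsAlgSpace Y') (g : Y ⟶ Z) (d : Z' ⟶ Z)
    (g' : Y' ⟶ Z') (r : Y' ⟶ Y) (sq : IsPullback r g' g d) (hd : LocP @Smooth d)
    (hds : Function.Surjective (Points.map d)) (h : PostOK P g') : PostOK P g := by
  intro X hX f hf
  have sqX := IsPullback.of_hasPullback f r
  have hX' : IsAlgSpace (pullback f r) := isAlgSpace_pullback hY.diag hX hY' sqX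
  have hr : LocP @Smooth r := locP_of_isPullback etale_le_smooth sq.flip hZ' hZ hY hd
  have h1 : P (pullback.snd f r) := hP.baseChange hX hY hX' hY' f r _ _ sqX hr hf
  have h2 : P (pullback.snd f r ≫ g') := h hX' _ h1
  have big : IsPullback (pullback.fst f r) (pullback.snd f r ≫ g') (f ≫ g) d :=
    sqX.paste_vert sq
  have hcov : IsSmCover (fun _ : PUnit.{u + 1} => Z') (fun _ => d) :=
    ⟨fun _ => hd, fun z => ⟨PUnit.unit, hds z⟩⟩
  exact (hP.h2 _ _ hZ (fun _ => hZ') hcov (f ≫ g) hX (fun _ => pullback f r)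
    (fun _ => pullback.snd f r ≫ g') (fun _ => pullback.fst f r) (fun _ => hX')
    (fun _ => big)).2 (fun _ => h2)

/-- Reduction of étale postcomposition to morphisms of schemes. -/
theorem Hyp.postOK_of_schemes (hP : Hyp P)
    (hsch : ∀ {U V : Over S} (k : U ⟶ V), Etale k.left → PostOK P ((yon S).map k))
    {Y Z : Sp S} (hY : IsAlgSpace Y) (hZ : IsAlgSpace Z) (g : Y ⟶ Z) (hg : IsEtaleMor g) :
    PostOK P g := by
  obtain ⟨V, c, hce, hcs⟩ := hZ.atlas
  have sq := IsPullback.of_hasPullback g c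
  have hY' : IsAlgSpace (pullback g c) :=
    isAlgSpace_pullback hZ.diag hY (IsAlgSpace.yon_obj V) sq
  have hg' : IsEtaleMor (pullback.snd g c) :=
    isEtaleMor_of_isPullback sq hY hZ (IsAlgSpace.yon_obj V) hg
  refine hP.postOK_of_tgt_cover hY hZ (IsAlgSpace.yon_obj V) hY' g c (pullback.snd g c)
    (pullback.fst g c) sq ?_ ?_ ?_
  · exact locP_smooth_of_isEtaleMor hZ (isEtaleMor_of_repWith c hce)
  · exact points_map_surjective_of_repWith hcs
  · obtain ⟨U, c', hc'e, hc's⟩ := hY'.atlas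
    refine hP.postOK_of_src_cover hY' (IsAlgSpace.yon_obj V) (pullback.snd g c)
      (fun _ : PUnit.{u + 1} => (yon S).obj U) (fun _ => c') (fun _ => IsAlgSpace.yon_obj U)
      ⟨fun _ => isEtaleMor_of_repWith c' hc'e,
        fun y => ⟨PUnit.unit, points_map_surjective_of_repWith hc's y⟩⟩ (fun _ => ?_)
    obtain ⟨k, hk⟩ := (yon S).map_surjective (c' ≫ pullback.snd g c)
    rw [← hk]
    apply hsch
    have : IsEtaleMor ((yon S).map k) := by
      rw [hk]; exact isEtaleMor_comp (isEtaleMor_of_repWith c' hc'e) hg'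
    exact (isEtaleMor_yon_map_iff k).1 this

end Groth.Agent.H1.ESST
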