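import Mathlib

/-! helper1: an étale morphism is locally standard étale (S9567). -/

set_option linter.style.haveILetI false
set_option linter.unusedSectionVars false
set_option linter.unusedVariables false

universe u
open AlgebraicGeometry CategoryTheory IsLocalRing Polynomial

namespace Groth.Agent.H1.StdEtChart

theorem etale_congr {X Y : Scheme.{u}} (φ : X ⟶ Y) (V : Y.Opens) {U U' : X.Opens} (h : U' = U)
    (e : U ≤ φ ⁻¹ᵁ V) (e' : U' ≤ φ ⁻¹ᵁ V) (H : (φ.appLE V U' e').hom.Etale) :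
    (φ.appLE V U e).hom.Etale := by
  subst h; exact H

theorem etale_appLE_of_le {X Y : Scheme.{u}} (φ : X ⟶ Y) (W : X.Opens) (hW : Etale (W.ι ≫ φ))
    (U₀ : X.Opens) (hU₀ : IsAffineOpen U₀) (hle : U₀ ≤ W) (V : Y.Opens) (hV : IsAffineOpen V)
    (e₀ : U₀ ≤ φ ⁻¹ᵁ V) : (φ.appLE V U₀ e₀).hom.Etale := by
  haveI : Etale (U₀.ι ≫ φ) := by
    have : U₀.ι ≫ φ = X.homOfLE hle ≫ (W.ι ≫ φ) := by
      rw [← Category.assoc, Scheme.homOfLE_ι]
    rw [this]; infer_instance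
  have e' : (⊤ : U₀.toScheme.Opens) ≤ (U₀.ι ≫ φ) ⁻¹ᵁ V := fun y _ => e₀ y.2
  haveI : IsAffine U₀.toScheme := hU₀
  have h1 := HasRingHomProperty.appLE (P := @Etale) (U₀.ι ≫ φ) inferInstance ⟨V, hV⟩
    ⟨⊤, isAffineOpen_top _⟩ e'
  have e'' : U₀.ι ''ᵁ ⊤ ≤ φ ⁻¹ᵁ V := by rw [U₀.ι_image_top]; exact e₀
  refine etale_congr φ V U₀.ι_image_top e₀ e'' ?_
  have h2 : (U₀.ι ≫ φ).appLE V ⊤ e' = φ.appLE V (U₀.ι ''ᵁ ⊤) e'' := by
    rw [Scheme.Hom.comp_appLE, Scheme.Opens.ι_appLE, Scheme.Hom.appLE]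
    congr 1
  rw [← h2]; exact h1

/-- algebraic chart: a standard étale presentation maps `(R[t]/f)[1/f'] → (R[t]/f)[1/g]`. -/
theorem isUnit_derivative {R : Type u} [CommRing R] (P : StandardEtalePair R) :
    IsUnit (algebraMap (AdjoinRoot P.f) (Localization.Away (AdjoinRoot.mk P.f P.g))
      (AdjoinRoot.mk P.f (derivative P.f))) := by
  obtain ⟨p₁, p₂, n, hc⟩ := P.cond
  have h1 : AdjoinRoot.mk P.f (derivative P.f) * AdjoinRoot.mk P.f p₁ =
      (AdjoinRoot.mk P.f P.g) ^ n := by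
    have := congrArg (AdjoinRoot.mk P.f) hc
    simpa [AdjoinRoot.mk_self] using this
  have h2 : IsUnit (algebraMap (AdjoinRoot P.f) (Localization.Away (AdjoinRoot.mk P.f P.g))
      (AdjoinRoot.mk P.f P.g)) := IsLocalization.Away.algebraMap_isUnit _
  have h3 : IsUnit (algebraMap (AdjoinRoot P.f) (Localization.Away (AdjoinRoot.mk P.f P.g))
      (AdjoinRoot.mk P.f (derivative P.f) * AdjoinRoot.mk P.f p₁)) := by
    rw [h1, map_pow]; exact h2.pow n
  rw [map_mul] at h3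
  exact isUnit_of_mul_isUnit_left h3

theorem main {X Y : Scheme.{u}} (φ : X ⟶ Y) (x : X)
    (V : Y.Opens) (hV : IsAffineOpen V) (hxV : φ.base x ∈ V)
    (hφ : ∃ W : X.Opens, x ∈ W ∧ Etale (W.ι ≫ φ)) :
    ∃ (U : X.Opens) (hU : IsAffineOpen U) (_ : x ∈ U) (e : U ≤ φ ⁻¹ᵁ V)
      (p : Polynomial Γ(Y, V)) (_ : p.Monic)
      (j : U.toScheme ⟶ Spec (CommRingCat.of (Localization.Away (AdjoinRoot.mk p (Polynomial.derivative p))))),
      IsOpenImmersion j ∧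
        j ≫ Spec.map (CommRingCat.ofHom
            (algebraMap Γ(Y, V) (Localization.Away (AdjoinRoot.mk p (Polynomial.derivative p))))) =
          hU.isoSpec.hom ≫ Spec.map (φ.appLE V U e) := by
  obtain ⟨W, hxW, hW⟩ := hφ
  obtain ⟨_, ⟨U₀, hU₀, rfl⟩, hxU₀, hU₀le⟩ := X.isBasis_affineOpens.exists_subset_of_mem_open
    (show x ∈ (W ⊓ φ ⁻¹ᵁ V : X.Opens) from ⟨hxW, hxV⟩) (W ⊓ φ ⁻¹ᵁ V).2
  have hU₀W : U₀ ≤ W := fun y hy => (hU₀le hy).1
  have e₀ : U₀ ≤ φ ⁻¹ᵁ V := fun y hy => (hU₀le hy).2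
  have het : (φ.appLE V U₀ e₀).hom.Etale := etale_appLE_of_le φ W hW U₀ hU₀ hU₀W V hV e₀
  letI : Algebra Γ(Y, V) Γ(X, U₀) := (φ.appLE V U₀ e₀).hom.toAlgebra
  haveI : Algebra.Etale Γ(Y, V) Γ(X, U₀) := het
  let q : Ideal Γ(X, U₀) :=
    (maximalIdeal (X.presheaf.stalk x)).comap (X.presheaf.germ U₀ x hxU₀).hom
  haveI : q.IsPrime := Ideal.comap_isPrime _ _
  haveI : Algebra.FormallyEtale Γ(X, U₀) (Localization.AtPrime q) :=
    Algebra.FormallyEtale.of_isLocalization q.primeCompl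
  haveI : Algebra.IsEtaleAt Γ(Y, V) q :=
    Algebra.FormallyEtale.comp Γ(Y, V) Γ(X, U₀) (Localization.AtPrime q)
  obtain ⟨f, hfq, hf⟩ := Algebra.IsEtaleAt.exists_isStandardEtale (R := Γ(Y, V)) q
  have hxf : x ∈ X.basicOpen f := by
    rw [Scheme.mem_basicOpen X f x hxU₀]
    by_contra h
    exact hfq h
  have hU : IsAffineOpen (X.basicOpen f) := hU₀.basicOpen f
  have hUle : X.basicOpen f ≤ U₀ := X.basicOpen_le f
  have e : X.basicOpen f ≤ φ ⁻¹ᵁ V := hUle.trans e₀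
  haveI : IsLocalization.Away f Γ(X, X.basicOpen f) := hU₀.isLocalization_basicOpen f
  letI : Algebra Γ(Y, V) Γ(X, X.basicOpen f) := (φ.appLE V (X.basicOpen f) e).hom.toAlgebra
  haveI : IsScalarTower Γ(Y, V) Γ(X, U₀) Γ(X, X.basicOpen f) :=
    IsScalarTower.of_algebraMap_eq fun r => by
      show (φ.appLE V (X.basicOpen f) e).hom r =
        (X.presheaf.map (homOfLE hUle).op).hom ((φ.appLE V U₀ e₀).hom r)
      rw [← Scheme.Hom.appLE_map φ e₀ (homOfLE hUle).op]; rfl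
  let eq1 : Localization.Away f ≃ₐ[Γ(X, U₀)] Γ(X, X.basicOpen f) :=
    IsLocalization.algEquiv (Submonoid.powers f) _ _
  let eq2 : Localization.Away f ≃ₐ[Γ(Y, V)] Γ(X, X.basicOpen f) := eq1.restrictScalars Γ(Y, V)
  haveI : Algebra.IsStandardEtale Γ(Y, V) Γ(X, X.basicOpen f) :=
    Algebra.IsStandardEtale.of_equiv eq2
  obtain ⟨Q⟩ := (inferInstance : Algebra.IsStandardEtale Γ(Y, V)
    Γ(X, X.basicOpen f)).nonempty_standardEtalePresentation
  let E : Γ(X, X.basicOpen f) ≃ₐ[Γ(Y, V)] Localization.Away (AdjoinRoot.mk Q.P.f Q.P.g) :=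
    Q.equivRing.trans Q.P.equivAwayAdjoinRoot
  let ψ : Localization.Away (AdjoinRoot.mk Q.P.f (derivative Q.P.f)) →+*
      Localization.Away (AdjoinRoot.mk Q.P.f Q.P.g) :=
    IsLocalization.Away.lift (AdjoinRoot.mk Q.P.f (derivative Q.P.f)) (isUnit_derivative Q.P)
  have hψ : ψ.comp (algebraMap (AdjoinRoot Q.P.f)
      (Localization.Away (AdjoinRoot.mk Q.P.f (derivative Q.P.f)))) =
      algebraMap (AdjoinRoot Q.P.f) (Localization.Away (AdjoinRoot.mk Q.P.f Q.P.g)) :=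
    IsLocalization.Away.lift_comp _ _
  haveI hopen : IsOpenImmersion (Spec.map (CommRingCat.ofHom ψ)) := by
    haveI h1 : IsOpenImmersion (Spec.map (CommRingCat.ofHom (algebraMap (AdjoinRoot Q.P.f)
        (Localization.Away (AdjoinRoot.mk Q.P.f (derivative Q.P.f)))))) :=
      IsOpenImmersion.of_isLocalization (AdjoinRoot.mk Q.P.f (derivative Q.P.f))
    haveI h2 : IsOpenImmersion (Spec.map (CommRingCat.ofHom ψ) ≫
        Spec.map (CommRingCat.ofHom (algebraMap (AdjoinRoot Q.P.f)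
        (Localization.Away (AdjoinRoot.mk Q.P.f (derivative Q.P.f)))))) := by
      rw [← Spec.map_comp, ← CommRingCat.ofHom_comp, hψ]
      exact IsOpenImmersion.of_isLocalization (AdjoinRoot.mk Q.P.f Q.P.g)
    exact IsOpenImmersion.of_comp _ (Spec.map (CommRingCat.ofHom (algebraMap (AdjoinRoot Q.P.f)
        (Localization.Away (AdjoinRoot.mk Q.P.f (derivative Q.P.f))))))
  let Ei : CommRingCat.of (Localization.Away (AdjoinRoot.mk Q.P.f Q.P.g)) ≅
      CommRingCat.of Γ(X, X.basicOpen f) := E.symm.toRingEquiv.toCommRingCatIso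
  refine ⟨X.basicOpen f, hU, hxf, e, Q.P.f, Q.P.monic_f,
    hU.isoSpec.hom ≫ Spec.map Ei.hom ≫ Spec.map (CommRingCat.ofHom ψ), inferInstance, ?_⟩
  simp only [Category.assoc, ← Spec.map_comp]
  congr 2
  ext r
  show E.symm (ψ (algebraMap Γ(Y, V) _ r)) = (φ.appLE V (X.basicOpen f) e).hom r
  have h1 : algebraMap Γ(Y, V) (Localization.Away (AdjoinRoot.mk Q.P.f (derivative Q.P.f))) r =
      algebraMap (AdjoinRoot Q.P.f) _ (algebraMap Γ(Y, V) (AdjoinRoot Q.P.f) r) :=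
    IsScalarTower.algebraMap_apply _ _ _ r
  rw [h1]
  have h2 : ψ (algebraMap (AdjoinRoot Q.P.f) _ (algebraMap Γ(Y, V) (AdjoinRoot Q.P.f) r)) =
      algebraMap (AdjoinRoot Q.P.f) _ (algebraMap Γ(Y, V) (AdjoinRoot Q.P.f) r) :=
    congrArg (fun g => g (algebraMap Γ(Y, V) (AdjoinRoot Q.P.f) r)) hψ
  rw [h2, ← IsScalarTower.algebraMap_apply, AlgEquiv.commutes]
  rfl

end Groth.Agent.H1.StdEtChart
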