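import Mathlib
import Groth.Agent.Lib.Helper1.ESSTa
import Groth.Agent.Lib.Helper1.StdEtChart

/-! helper1: S10570, part (b): postcomposition with étale morphisms (scheme level). -/

set_option autoImplicit false
set_option linter.overlappingInstances false
set_option linter.unusedSectionVars false
set_option linter.unusedVariables false

universe u

open CategoryTheory CategoryTheory.Limits AlgebraicGeometry MorphismProperty Opposite Topology

namespace Groth.Agent.H1.ESST

open _root_.AlgSp Groth.Agent.H5.AlgSp Groth.Agent.H5.EtSrc Groth.Agent.H3.AlgSpCov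

variable {S : Scheme.{u}} {P : MorphismProperty (Sp S)}

/-- geometric fibres have at most `n` points. -/
def GeomFibLE (n : ℕ) {Y Z : Scheme.{u}} (g : Y ⟶ Z) : Prop :=
  ∀ (Ω : Type u) [Field Ω] (z : Spec (CommRingCat.of Ω) ⟶ Z)
    (s : Finset (Spec (CommRingCat.of Ω) ⟶ Y)), (∀ y ∈ s, y ≫ g = z) → s.card ≤ n

theorem isEtCover_pair {T A B : Over S} (a : A ⟶ T) (b : B ⟶ T) (ha : Etale a.left)
    (hb : Etale b.left) (hsurj : ∀ t : T.left, t ∈ Set.range a.left ∨ t ∈ Set.range b.left) :
    IsEtCover (pairFam ((yon S).obj A) ((yon S).obj B))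
      (pairMor ((yon S).map a) ((yon S).map b)) := by
  refine ⟨fun i => match i with
    | ⟨true⟩ => (isEtaleMor_yon_map_iff a).2 ha
    | ⟨false⟩ => (isEtaleMor_yon_map_iff b).2 hb, fun x => ?_⟩
  obtain ⟨t, rfl⟩ := ofScheme_surjective T x
  rcases hsurj t with ⟨s, rfl⟩ | ⟨s, rfl⟩
  · exact ⟨⟨true⟩, Points.ofScheme A s, map_yon_map_ofScheme a s⟩
  · exact ⟨⟨false⟩, Points.ofScheme B s, map_yon_map_ofScheme b s⟩

theorem Hyp.postOK_fibLE (hP : Hyp P) (n : ℕ) : ∀ {Y Z : Over S} (g : Y ⟶ Z), Etale g.left →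
    IsSeparated g.left → GeomFibLE n g.left → PostOK P ((yon S).map g) := by
  induction n with
  | zero =>
    intro Y Z g _ _ hfib X hX f hf
    have hempty : IsEmpty Y.left := by
      refine ⟨fun y => ?_⟩
      have := hfib (Y.left.residueField y) (Y.left.fromSpecResidueField y ≫ g.left)
        {Y.left.fromSpecResidueField y} (by
          intro y' hy'; rw [Finset.mem_singleton] at hy'; rw [hy'])
      simp at this
    have hXe : IsEmpty (Points X) :=
      ⟨fun x => hempty.false ((Points.schemeEquiv Y).symm (Points.map f x))⟩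
    exact (hP.h1 (fun i : PEmpty.{u + 1} => i.elim) (fun i => i.elim) hX (fun i => i.elim)
      ⟨fun i => i.elim, fun x => (hXe.false x).elim⟩ (f ≫ (yon S).map g)
      (IsAlgSpace.yon_obj Z)).2 (fun i => i.elim)
  | succ n ih =>
    intro Y Z g hge hgs hfib
    haveI := hge
    haveI := hgs
    let D : Z.left.Opens := ⟨Set.range g.left, g.left.isOpenMap.isOpen_range⟩
    have hrange : Set.range g.left ⊆ Set.range D.ι := by
      rw [Scheme.Opens.range_ι]; exact fun _ h => h
    let gD₀ : Y.left ⟶ D.toScheme := IsOpenImmersion.lift D.ι g.left hrange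
    have hgD₀ : gD₀ ≫ D.ι = g.left := IsOpenImmersion.lift_fac _ _ _
    let D' : Over S := Over.mk (D.ι ≫ Z.hom)
    let ιD : D' ⟶ Z := Over.homMk D.ι rfl
    let gD : Y ⟶ D' := Over.homMk gD₀ (by
      change gD₀ ≫ D.ι ≫ Z.hom = Y.hom
      rw [← Category.assoc, hgD₀]; exact Over.w g)
    have hfac : gD ≫ ιD = g := Over.OverMorphism.ext hgD₀
    have hgDe : Etale gD₀ := MorphismProperty.of_postcomp (W := @Etale) (W' := @Etale) gD₀ D.ι
      inferInstance (by rw [hgD₀]; exact hge)
    haveI : IsSeparated (gD₀ ≫ D.ι) := by rw [hgD₀]; exact hgs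
    have hgDs : IsSeparated gD₀ := IsSeparated.of_comp gD₀ D.ι
    have hgDsurj : Function.Surjective gD₀ := by
      intro d
      have hd : D.ι d ∈ Set.range D.ι := Set.mem_range_self d
      rw [Scheme.Opens.range_ι] at hd
      obtain ⟨y, hy⟩ : D.ι d ∈ Set.range g.left := hd
      refine ⟨y, D.ι.isOpenEmbedding.injective ?_⟩
      rw [← Scheme.Hom.comp_apply, hgD₀, hy]
    have hgDfib : GeomFibLE (n + 1) gD₀ := fun Ω _ z s hs =>
      hfib Ω (z ≫ D.ι) s (fun y hy => by rw [← hgD₀, ← Category.assoc, hs y hy])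
    rw [← hfac, Functor.map_comp]
    refine postOK_comp ?_ (hP.postOK_yon_openImm ιD (inferInstanceAs (IsOpenImmersion D.ι)))
    let PP := pullback gD gD
    let pr₁ : PP ⟶ Y := pullback.fst gD gD
    let pr₂ : PP ⟶ Y := pullback.snd gD gD
    have sqO : IsPullback pr₁ pr₂ gD gD := IsPullback.of_hasPullback gD gD
    have sqL : IsPullback pr₁.left pr₂.left gD₀ gD₀ := sqO.map (Over.forget S)
    have hpr₂e : Etale pr₂.left := MorphismProperty.of_isPullback (P := @Etale) sqL hgDe
    have hpr₂s : IsSeparated pr₂.left :=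
      MorphismProperty.of_isPullback (P := @IsSeparated) sqL hgDs
    refine hP.postOK_of_tgt_cover (IsAlgSpace.yon_obj Y) (IsAlgSpace.yon_obj D')
      (IsAlgSpace.yon_obj Y) (IsAlgSpace.yon_obj PP) ((yon S).map gD) ((yon S).map gD)
      ((yon S).map pr₂) ((yon S).map pr₁) (sqO.map (yon S)) ?_ ?_ ?_
    · exact (locP_yon_map_iff etale_le_smooth gD).2 (etale_le_smooth _ _ _ hgDe)
    · intro x
      obtain ⟨d, rfl⟩ := ofScheme_surjective D' x
      obtain ⟨y, rfl⟩ := hgDsurj d
      exact ⟨Points.ofScheme Y y, map_yon_map_ofScheme gD y⟩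
    · let Δ : Y ⟶ PP := pullback.lift (𝟙 Y) (𝟙 Y) rfl
      have hΔ₁ : Δ ≫ pr₁ = 𝟙 Y := pullback.lift_fst _ _ _
      have hΔ₂ : Δ ≫ pr₂ = 𝟙 Y := pullback.lift_snd _ _ _
      have hΔ₁L : Δ.left ≫ pr₁.left = 𝟙 Y.left := by rw [← Over.comp_left, hΔ₁, Over.id_left]
      have hΔ₂L : Δ.left ≫ pr₂.left = 𝟙 Y.left := by rw [← Over.comp_left, hΔ₂, Over.id_left]
      have hΔe : Etale Δ.left := MorphismProperty.of_postcomp (W := @Etale) (W' := @Etale)
        Δ.left pr₂.left hpr₂e (by rw [hΔ₂L]; infer_instance)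
      haveI : IsClosedImmersion (Δ.left ≫ pr₂.left) := by rw [hΔ₂L]; infer_instance
      haveI := hpr₂s
      haveI := hpr₂e
      haveI hΔc : IsClosedImmersion Δ.left := IsClosedImmersion.of_comp Δ.left pr₂.left
      let R : PP.left.Opens :=
        ⟨(Set.range Δ.left)ᶜ, Δ.left.isClosedEmbedding.isClosed_range.isOpen_compl⟩
      let R' : Over S := Over.mk (R.ι ≫ PP.hom)
      let ρ : R' ⟶ PP := Over.homMk R.ι rfl
      have hcov : IsEtCover (pairFam ((yon S).obj Y) ((yon S).obj R'))
          (pairMor ((yon S).map Δ) ((yon S).map ρ)) :=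
        isEtCover_pair Δ ρ hΔe (inferInstanceAs (Etale R.ι)) (fun t => by
          by_cases ht : t ∈ Set.range Δ.left
          · exact Or.inl ht
          · exact Or.inr ⟨⟨t, ht⟩, rfl⟩)
      have hall : ∀ b, PostOK P (pairMor ((yon S).map Δ) ((yon S).map ρ) b ≫
          (yon S).map pr₂) := by
        rintro ⟨b⟩
        cases b
        · change PostOK P ((yon S).map ρ ≫ (yon S).map pr₂)
          rw [← Functor.map_comp]
          refine ih (ρ ≫ pr₂) ?_ ?_ ?_
          · change Etale (R.ι ≫ pr₂.left)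
            infer_instance
          · change IsSeparated (R.ι ≫ pr₂.left)
            infer_instance
          · intro Ω _ z s hs
            classical
            change ∀ y ∈ s, y ≫ (R.ι ≫ pr₂.left) = z at hs
            let F : (Spec (CommRingCat.of Ω) ⟶ R'.left) →
                (Spec (CommRingCat.of Ω) ⟶ Y.left) := fun r => r ≫ R.ι ≫ pr₁.left
            have hFinj : Set.InjOn F ↑s := by
              intro r hr r' hr' hrr'
              have h2 : (r ≫ R.ι) ≫ pr₂.left = (r' ≫ R.ι) ≫ pr₂.left := by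
                rw [Category.assoc, Category.assoc, hs r hr, hs r' hr']
              have h1 : (r ≫ R.ι) ≫ pr₁.left = (r' ≫ R.ι) ≫ pr₁.left := by
                rw [Category.assoc, Category.assoc]; exact hrr'
              exact (cancel_mono R.ι).1 (sqL.hom_ext h1 h2)
            have hz : z ∉ s.image F := by
              intro hmem
              obtain ⟨r, hr, hrz⟩ := Finset.mem_image.1 hmem
              have h1 : (r ≫ R.ι) ≫ pr₁.left = (z ≫ Δ.left) ≫ pr₁.left := by
                rw [Category.assoc, Category.assoc, hΔ₁L, Category.comp_id]; exact hrz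
              have h2 : (r ≫ R.ι) ≫ pr₂.left = (z ≫ Δ.left) ≫ pr₂.left := by
                rw [Category.assoc, Category.assoc, hΔ₂L, Category.comp_id]; exact hs r hr
              have h3 := sqL.hom_ext h1 h2
              let pt : Spec (CommRingCat.of Ω) := IsLocalRing.closedPoint Ω
              have h4 : (r ≫ R.ι) pt = (z ≫ Δ.left) pt := by rw [h3]
              rw [Scheme.Hom.comp_apply, Scheme.Hom.comp_apply] at h4
              have h5 : (r pt).1 ∈ Set.range Δ.left := ⟨z pt, h4.symm⟩
              exact (r pt).2 h5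
            have hcard : (insert z (s.image F)).card ≤ n + 1 := hgDfib Ω (z ≫ gD₀) _ (by
              intro y hy
              rcases Finset.mem_insert.1 hy with rfl | hy
              · rfl
              · obtain ⟨r, hr, rfl⟩ := Finset.mem_image.1 hy
                show (r ≫ R.ι ≫ pr₁.left) ≫ gD₀ = z ≫ gD₀
                rw [← hs r hr]
                simp only [Category.assoc]
                rw [sqL.w])
            rw [Finset.card_insert_of_notMem hz, Finset.card_image_of_injOn hFinj] at hcard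
            omega
        · change PostOK P ((yon S).map Δ ≫ (yon S).map pr₂)
          rw [← Functor.map_comp, hΔ₂, CategoryTheory.Functor.map_id]
          exact postOK_id _
      exact hP.postOK_of_src_cover (IsAlgSpace.yon_obj PP) (IsAlgSpace.yon_obj Y)
        ((yon S).map pr₂) _ _
        (pairFam_isAlgSpace (IsAlgSpace.yon_obj Y) (IsAlgSpace.yon_obj R')) hcov hall

theorem geomFibLE_stdEtale {A : Type u} [CommRing A] (p : Polynomial A) (hp : p.Monic) :
    GeomFibLE p.natDegree (Spec.map (CommRingCat.ofHom (algebraMap A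
      (Localization.Away (AdjoinRoot.mk p (Polynomial.derivative p)))))) := by
  intro Ω _ z s hs
  classical
  let B := Localization.Away (AdjoinRoot.mk p (Polynomial.derivative p))
  let zr : A →+* Ω := (Spec.preimage z).hom
  let yr : (Spec (CommRingCat.of Ω) ⟶ Spec (CommRingCat.of B)) → (B →+* Ω) :=
    fun y => (Spec.preimage y).hom
  have hyr : ∀ y ∈ s, (yr y).comp (algebraMap A B) = zr := by
    intro y hy
    have h1 : Spec.map (CommRingCat.ofHom (algebraMap A B) ≫ Spec.preimage y) =
        Spec.map (Spec.preimage z) := by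
      rw [Spec.map_comp, Spec.map_preimage, Spec.map_preimage]; exact hs y hy
    have h2 := Spec.map_injective h1
    exact congrArg CommRingCat.Hom.hom h2
  let rt : B := algebraMap (AdjoinRoot p) B (AdjoinRoot.root p)
  let val : (Spec (CommRingCat.of Ω) ⟶ Spec (CommRingCat.of B)) → Ω := fun y => yr y rt
  have hroot : ∀ y ∈ s, val y ∈ (p.map zr).roots.toFinset := by
    intro y hy
    rw [Multiset.mem_toFinset, Polynomial.mem_roots (hp.map zr).ne_zero, Polynomial.IsRoot.def,
      Polynomial.eval_map, ← hyr y hy]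
    have h1 : Polynomial.eval₂ ((yr y).comp (algebraMap A B)) (yr y rt) p =
        yr y (Polynomial.eval₂ (algebraMap A B) rt p) :=
      (Polynomial.hom_eval₂ p (algebraMap A B) (yr y) rt).symm
    have h2 : Polynomial.eval₂ (algebraMap A B) rt p =
        algebraMap (AdjoinRoot p) B
          (Polynomial.eval₂ (AdjoinRoot.of p) (AdjoinRoot.root p) p) := by
      rw [IsScalarTower.algebraMap_eq A (AdjoinRoot p) B, Polynomial.hom_eval₂,
        AdjoinRoot.algebraMap_eq]
    change Polynomial.eval₂ ((yr y).comp (algebraMap A B)) (yr y rt) p = 0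
    rw [h1, h2, AdjoinRoot.eval₂_root, map_zero, map_zero]
  have hinj : Set.InjOn val ↑s := by
    intro y hy y' hy' hv
    have h1 : yr y = yr y' := by
      apply IsLocalization.ringHom_ext
        (Submonoid.powers (AdjoinRoot.mk p (Polynomial.derivative p)))
      apply AdjoinRoot.ringHom_ext
      · have e1 := hyr y hy
        have e2 := hyr y' hy'
        rw [IsScalarTower.algebraMap_eq A (AdjoinRoot p) B, AdjoinRoot.algebraMap_eq] at e1 e2
        rw [RingHom.comp_assoc, RingHom.comp_assoc, e1, e2]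
      · exact hv
    have h2 : Spec.preimage y = Spec.preimage y' := CommRingCat.hom_ext h1
    rw [← Spec.map_preimage y, ← Spec.map_preimage y', h2]
  calc s.card ≤ (p.map zr).roots.toFinset.card := Finset.card_le_card_of_injOn val hroot hinj
    _ ≤ Multiset.card (p.map zr).roots := Multiset.toFinset_card_le _
    _ ≤ (p.map zr).natDegree := Polynomial.card_roots' _
    _ = p.natDegree := hp.natDegree_map zr

theorem Hyp.postOK_yon_map_etale (hP : Hyp P) {U V : Over S} (k : U ⟶ V) (hk : Etale k.left) :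
    PostOK P ((yon S).map k) := by
  haveI := hk
  have key : ∀ x : U.left, ∃ (Ux : Over S) (c : Ux ⟶ U), IsOpenImmersion c.left ∧
      x ∈ Set.range c.left ∧ PostOK P ((yon S).map (c ≫ k)) := by
    intro x
    obtain ⟨_, ⟨V₀, hV₀, rfl⟩, hxV₀, -⟩ := V.left.isBasis_affineOpens.exists_subset_of_mem_open
      (show k.left x ∈ ((⊤ : V.left.Opens) : Set V.left) from trivial) (⊤ : V.left.Opens).2
    obtain ⟨U₀, hU₀, hxU₀, e, p, hp, j, hj, hcomm⟩ :=
      Groth.Agent.H1.StdEtChart.main k.left x V₀ hV₀ hxV₀ ⟨⊤, trivial, inferInstance⟩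
    let B := Localization.Away (AdjoinRoot.mk p (Polynomial.derivative p))
    let m₀ : Spec (CommRingCat.of B) ⟶ Spec Γ(V.left, V₀) :=
      Spec.map (CommRingCat.ofHom (algebraMap Γ(V.left, V₀) B))
    have hcomm' : U₀.ι ≫ k.left = j ≫ m₀ ≫ hV₀.fromSpec := by
      rw [← Category.assoc, hcomm, Category.assoc,
        IsAffineOpen.SpecMap_appLE_fromSpec k.left hV₀ hU₀ e, ← Category.assoc,
        IsAffineOpen.isoSpec_hom_fromSpec]
    let V₀' : Over S := Over.mk (hV₀.fromSpec ≫ V.hom)
    let ν : V₀' ⟶ V := Over.homMk hV₀.fromSpec rfl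
    let E' : Over S := Over.mk (m₀ ≫ hV₀.fromSpec ≫ V.hom)
    let m' : E' ⟶ V₀' := Over.homMk m₀ rfl
    let Ux : Over S := Over.mk (U₀.ι ≫ U.hom)
    let c : Ux ⟶ U := Over.homMk U₀.ι rfl
    let j' : Ux ⟶ E' := Over.homMk j (by
      change j ≫ m₀ ≫ hV₀.fromSpec ≫ V.hom = U₀.ι ≫ U.hom
      rw [← Over.w k, ← Category.assoc U₀.ι, hcomm']; simp only [Category.assoc])
    have hfac : c ≫ k = j' ≫ m' ≫ ν := Over.OverMorphism.ext hcomm'
    refine ⟨Ux, c, inferInstanceAs (IsOpenImmersion U₀.ι), ⟨⟨x, hxU₀⟩, rfl⟩, ?_⟩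
    rw [hfac, Functor.map_comp, Functor.map_comp]
    refine postOK_comp (hP.postOK_yon_openImm j' hj) (postOK_comp ?_
      (hP.postOK_yon_openImm ν (inferInstanceAs (IsOpenImmersion hV₀.fromSpec))))
    refine hP.postOK_fibLE p.natDegree m' ?_ ?_ (geomFibLE_stdEtale p hp)
    · change Etale (Spec.map (CommRingCat.ofHom (algebraMap Γ(V.left, V₀) B)))
      rw [HasRingHomProperty.Spec_iff (P := @Etale), CommRingCat.hom_ofHom,
        RingHom.etale_algebraMap]
      let Q : StandardEtalePair Γ(V.left, V₀) :=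
        ⟨p, hp, Polynomial.derivative p, ⟨1, 0, 1, by simp⟩⟩
      exact Algebra.Etale.of_equiv Q.equivAwayAdjoinRoot
    · change IsSeparated (Spec.map (CommRingCat.ofHom (algebraMap Γ(V.left, V₀) B)))
      infer_instance
  choose Ux c hc hx hpost using key
  refine hP.postOK_of_src_cover (IsAlgSpace.yon_obj U) (IsAlgSpace.yon_obj V) ((yon S).map k)
    (fun x : U.left => (yon S).obj (Ux x)) (fun x => (yon S).map (c x))
    (fun x => IsAlgSpace.yon_obj _)
    ⟨fun x => (isEtaleMor_yon_map_iff (c x)).2 (haveI := hc x; inferInstance), fun y => ?_⟩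
    (fun x => by rw [← Functor.map_comp]; exact hpost x)
  obtain ⟨t, rfl⟩ := ofScheme_surjective U y
  obtain ⟨t', ht'⟩ := hx t
  exact ⟨t, Points.ofScheme _ t', by rw [map_yon_map_ofScheme, ht']⟩

/-- **Step 1**: `P` is stable under postcomposition with étale morphisms. -/
theorem Hyp.postcomp_etale (hP : Hyp P) {X Y Z : Sp S} (hX : IsAlgSpace X) (hY : IsAlgSpace Y)
    (hZ : IsAlgSpace Z) (f : X ⟶ Y) (g : Y ⟶ Z) (hg : IsEtaleMor g) (hf : P f) : P (f ≫ g) :=
  hP.postOK_of_schemes (fun k hk => hP.postOK_yon_map_etale k hk) hY hZ g hg hX f hf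

end Groth.Agent.H1.ESST
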