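import Mathlib
import Groth.Agent.Lib.Helper1.ESSTb

/-! helper1: S10570, part (c): slicing data (`Good`) and its closure properties; reductions to the
affine line. -/

set_option autoImplicit false
set_option linter.overlappingInstances false
set_option linter.unusedSectionVars false
set_option linter.unusedVariables false

universe u

open CategoryTheory CategoryTheory.Limits AlgebraicGeometry MorphismProperty Opposite Topology

namespace Groth.Agent.H1.ESST

open _root_.AlgSp Groth.Agent.H5.AlgSp Groth.Agent.H5.EtSrc Groth.Agent.H3.AlgSpCov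

variable {S : Scheme.{u}} {P : MorphismProperty (Sp S)}

/-- `b : V ⟶ Y` admits slicing: whenever `P` holds étale locally on a base change of `f` along `b`,
`P` holds for `f` étale locally around the image point. -/
def Good (P : MorphismProperty (Sp S)) {V Y : Sp S} (b : V ⟶ Y) : Prop :=
  ∀ ⦃X W U : Sp S⦄ (f : X ⟶ Y) (p : W ⟶ X) (q : W ⟶ V) (e : U ⟶ W), IsAlgSpace X → IsAlgSpace W →
    IsAlgSpace U → IsPullback p q f b → IsEtaleMor e → P (e ≫ q) → ∀ v : Points U,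
    ∃ (N : Sp S) (j : N ⟶ X), IsAlgSpace N ∧ IsEtaleMor j ∧
      Points.map (e ≫ p) v ∈ Set.range (Points.map j) ∧ P (j ≫ f)

theorem Hyp.good_of_etale (hP : Hyp P) {V Y : Sp S} (hV : IsAlgSpace V) (hY : IsAlgSpace Y)
    {b : V ⟶ Y} (hb : IsEtaleMor b) : Good P b := by
  intro X W U f p q e hX hW hU sq he hPe v
  refine ⟨U, e ≫ p, hU, isEtaleMor_comp he (isEtaleMor_of_isPullback sq.flip hV hY hX hb),
    ⟨v, rfl⟩, ?_⟩
  have := hP.postcomp_etale hU hV hY (e ≫ q) b hb hPe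
  rw [Category.assoc, ← sq.w, ← Category.assoc] at this
  exact this

theorem good_comp {V₂ V₁ Y : Sp S} (hV₁ : IsAlgSpace V₁) (hY : IsAlgSpace Y) {b₂ : V₂ ⟶ V₁}
    {b₁ : V₁ ⟶ Y} (h₂ : Good P b₂) (h₁ : Good P b₁) : Good P (b₂ ≫ b₁) := by
  intro X W U f p q e hX hW hU sq he hPe v
  have sq₁ := IsPullback.of_hasPullback f b₁
  have hW₁ : IsAlgSpace (pullback f b₁) := isAlgSpace_pullback hY.diag hX hV₁ sq₁
  let t : W ⟶ pullback f b₁ := pullback.lift p (q ≫ b₂) (by rw [Category.assoc]; exact sq.w)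
  have ht₁ : t ≫ pullback.fst f b₁ = p := pullback.lift_fst _ _ _
  have ht₂ : t ≫ pullback.snd f b₁ = q ≫ b₂ := pullback.lift_snd _ _ _
  have sqL : IsPullback t q (pullback.snd f b₁) b₂ := by
    refine IsPullback.of_right ?_ ht₂ sq₁
    rw [ht₁]; exact sq
  obtain ⟨N₁, j₁, hN₁, hj₁, ⟨v₁, hv₁⟩, hP₁⟩ :=
    h₂ (pullback.snd f b₁) t q e hW₁ hW hU sqL he hPe v
  obtain ⟨N, j, hN, hj, ⟨v', hv'⟩, hPj⟩ :=
    h₁ f (pullback.fst f b₁) (pullback.snd f b₁) j₁ hX hW₁ hN₁ sq₁ hj₁ hP₁ v₁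
  refine ⟨N, j, hN, hj, ⟨v', ?_⟩, hPj⟩
  rw [hv', Points.map_comp, hv₁, ← Points.map_comp, Category.assoc, ht₁]

theorem Hyp.good_of_local_src (hP : Hyp P) {V Y : Sp S} (hV : IsAlgSpace V) (hY : IsAlgSpace Y)
    (b : V ⟶ Y)
    (h : ∀ v₀ : Points V, ∃ (V' : Sp S) (c : V' ⟶ V), IsAlgSpace V' ∧ IsEtaleMor c ∧
      v₀ ∈ Set.range (Points.map c) ∧ Good P (c ≫ b)) : Good P b := by
  intro X W U f p q e hX hW hU sq he hPe v
  obtain ⟨V', c, hV', hc, ⟨v₀', hv₀'⟩, hgood⟩ := h (Points.map (e ≫ q) v)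
  have sqW := IsPullback.of_hasPullback q c
  have hW' : IsAlgSpace (pullback q c) := isAlgSpace_pullback hV.diag hW hV' sqW
  have sqU := IsPullback.of_hasPullback e (pullback.fst q c)
  have hU' : IsAlgSpace (pullback e (pullback.fst q c)) :=
    isAlgSpace_pullback hW.diag hU hW' sqU
  have big : IsPullback (pullback.fst q c ≫ p) (pullback.snd q c) f (c ≫ b) :=
    sqW.paste_horiz sq
  have hPe' : P (pullback.snd e (pullback.fst q c) ≫ pullback.snd q c) :=
    hP.baseChange_etale hU hV hU' hV' (e ≫ q) c _ _ (sqU.paste_vert sqW) hc hPe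
  have he' : IsEtaleMor (pullback.snd e (pullback.fst q c)) :=
    isEtaleMor_of_isPullback sqU hU hW hW' he
  obtain ⟨w', hw'1, hw'2⟩ := points_pullback_surjective sqW (Points.map e v) v₀'
    (by rw [hv₀', Points.map_comp])
  obtain ⟨v', hv'1, hv'2⟩ := points_pullback_surjective sqU v w' hw'1.symm
  obtain ⟨N, j, hN, hj, ⟨n, hn⟩, hPj⟩ := hgood f (pullback.fst q c ≫ p) (pullback.snd q c)
    (pullback.snd e (pullback.fst q c)) hX hW' hU' big he' hPe' v'
  refine ⟨N, j, hN, hj, ⟨n, ?_⟩, hPj⟩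
  rw [hn, ← Category.assoc, ← sqU.w, Category.assoc, Points.map_comp, hv'1]

/-- Reduction to morphisms of schemes. -/
theorem Hyp.good_of_schemes (hP : Hyp P)
    (hsch : ∀ {V₀ Y₀ : Over S} (h : V₀ ⟶ Y₀), Smooth h.left → Good P ((yon S).map h))
    {V Y : Sp S} (hV : IsAlgSpace V) (hY : IsAlgSpace Y) (b : V ⟶ Y) (hb : LocP @Smooth b) :
    Good P b := by
  obtain ⟨Y₀, cY, hcYe, hcYs⟩ := hY.atlas
  obtain ⟨V₀, a, h, hae, has, comm⟩ := exists_chart_diagram_surj hV b hcYe hcYs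
  have hsm : Smooth h.left := hb a cY h hae hcYe comm
  refine hP.good_of_local_src hV hY b fun v₀ => ⟨(yon S).obj V₀, a, IsAlgSpace.yon_obj V₀,
    isEtaleMor_of_repWith a hae, points_map_surjective_of_repWith has v₀, ?_⟩
  rw [comm]
  exact good_comp (IsAlgSpace.yon_obj Y₀) hY (hsch h hsm)
    (hP.good_of_etale (IsAlgSpace.yon_obj Y₀) hY (isEtaleMor_of_repWith cY hcYe))

/-- Reduction of smooth morphisms of schemes to affine spaces. -/
theorem Hyp.good_yon_map_smooth (hP : Hyp P)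
    (hAn : ∀ (n : ℕ) (R : Type u) [CommRing R] (σ : Spec (CommRingCat.of R) ⟶ S)
      (k : Over.mk (Spec.map (CommRingCat.ofHom
        (MvPolynomial.C : R →+* MvPolynomial (Fin n) R)) ≫ σ) ⟶ Over.mk σ),
      k.left = Spec.map (CommRingCat.ofHom MvPolynomial.C) → Good P ((yon S).map k))
    {V₀ Y₀ : Over S} (h : V₀ ⟶ Y₀) (hh : Smooth h.left) : Good P ((yon S).map h) := by
  haveI := hh
  refine hP.good_of_local_src (IsAlgSpace.yon_obj V₀) (IsAlgSpace.yon_obj Y₀) _ fun v₀ => ?_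
  obtain ⟨t, rfl⟩ := ofScheme_surjective V₀ v₀
  obtain ⟨UY, hUY, UV, hUV, htUV, e, hstd⟩ := Smooth.exists_isStandardSmooth h.left t
  obtain ⟨n, g, hgC, hget⟩ := hstd.exists_etale_mvPolynomial
  let σ : Spec (CommRingCat.of Γ(Y₀.left, UY)) ⟶ S := hUY.fromSpec ≫ Y₀.hom
  let Y₁ : Over S := Over.mk σ
  let ν : Y₁ ⟶ Y₀ := Over.homMk hUY.fromSpec rfl
  let cn : Spec (CommRingCat.of (MvPolynomial (Fin n) Γ(Y₀.left, UY))) ⟶
      Spec (CommRingCat.of Γ(Y₀.left, UY)) := Spec.map (CommRingCat.ofHom MvPolynomial.C)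
  let A₁ : Over S := Over.mk (cn ≫ σ)
  let πn : A₁ ⟶ Y₁ := Over.homMk cn rfl
  let V₁ : Over S := Over.mk (UV.ι ≫ V₀.hom)
  let c : V₁ ⟶ V₀ := Over.homMk UV.ι rfl
  let e₀ : UV.toScheme ⟶ Spec (CommRingCat.of (MvPolynomial (Fin n) Γ(Y₀.left, UY))) :=
    hUV.isoSpec.hom ≫ Spec.map (CommRingCat.ofHom g)
  have hgC' : Spec.map (CommRingCat.ofHom g) ≫ cn = Spec.map (h.left.appLE UY UV e) := by
    rw [← Spec.map_comp, ← CommRingCat.ofHom_comp, hgC]
    rfl
  have hcomm : UV.ι ≫ h.left = e₀ ≫ cn ≫ hUY.fromSpec := by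
    rw [Category.assoc, ← Category.assoc (Spec.map (CommRingCat.ofHom g)), hgC',
      IsAffineOpen.SpecMap_appLE_fromSpec h.left hUY hUV e, ← Category.assoc,
      IsAffineOpen.isoSpec_hom_fromSpec]
  let e₁ : V₁ ⟶ A₁ := Over.homMk e₀ (by
    change e₀ ≫ cn ≫ hUY.fromSpec ≫ Y₀.hom = UV.ι ≫ V₀.hom
    rw [← Over.w h, ← Category.assoc UV.ι, hcomm]; simp only [Category.assoc])
  have hfac : c ≫ h = e₁ ≫ πn ≫ ν := Over.OverMorphism.ext hcomm
  refine ⟨(yon S).obj V₁, (yon S).map c, IsAlgSpace.yon_obj V₁,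
    (isEtaleMor_yon_map_iff c).2 (inferInstanceAs (Etale UV.ι)),
    ⟨Points.ofScheme V₁ ⟨t, htUV⟩, map_yon_map_ofScheme c _⟩, ?_⟩
  rw [← Functor.map_comp, hfac, Functor.map_comp, Functor.map_comp]
  have he₁ : Etale e₁.left := by
    haveI : Etale (Spec.map (CommRingCat.ofHom g)) :=
      (HasRingHomProperty.Spec_iff (P := @Etale)).2 hget
    change Etale (hUV.isoSpec.hom ≫ Spec.map (CommRingCat.ofHom g))
    infer_instance
  refine good_comp (IsAlgSpace.yon_obj A₁) (IsAlgSpace.yon_obj Y₀)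
    (hP.good_of_etale (IsAlgSpace.yon_obj V₁) (IsAlgSpace.yon_obj A₁)
      ((isEtaleMor_yon_map_iff e₁).2 he₁))
    (good_comp (IsAlgSpace.yon_obj Y₁) (IsAlgSpace.yon_obj Y₀)
      (hAn n Γ(Y₀.left, UY) σ πn rfl)
      (hP.good_of_etale (IsAlgSpace.yon_obj Y₁) (IsAlgSpace.yon_obj Y₀)
        ((isEtaleMor_yon_map_iff ν).2 (inferInstanceAs (Etale hUY.fromSpec)))))

/-- Affine spaces by induction from the affine line. -/
theorem Hyp.good_affineSpace (hP : Hyp P)
    (hA1 : ∀ (R : Type u) [CommRing R] (σ : Spec (CommRingCat.of R) ⟶ S)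
      (k : Over.mk (Spec.map (CommRingCat.ofHom
        (Polynomial.C : R →+* Polynomial R)) ≫ σ) ⟶ Over.mk σ),
      k.left = Spec.map (CommRingCat.ofHom Polynomial.C) → Good P ((yon S).map k))
    (n : ℕ) : ∀ (R : Type u) [CommRing R] (σ : Spec (CommRingCat.of R) ⟶ S)
      (k : Over.mk (Spec.map (CommRingCat.ofHom
        (MvPolynomial.C : R →+* MvPolynomial (Fin n) R)) ≫ σ) ⟶ Over.mk σ),
      k.left = Spec.map (CommRingCat.ofHom MvPolynomial.C) → Good P ((yon S).map k) := by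
  induction n with
  | zero =>
    intro R _ σ k hk
    refine hP.good_of_etale (IsAlgSpace.yon_obj _) (IsAlgSpace.yon_obj _)
      ((isEtaleMor_yon_map_iff k).2 ?_)
    rw [hk, HasRingHomProperty.Spec_iff (P := @Etale), CommRingCat.hom_ofHom]
    exact RingHom.Etale.of_bijective ⟨MvPolynomial.C_injective _ _, MvPolynomial.C_surjective _⟩
  | succ n ih =>
    intro R _ σ k hk
    let C₁ : R →+* MvPolynomial (Fin n) R := MvPolynomial.C
    let C₂ : MvPolynomial (Fin n) R →+* Polynomial (MvPolynomial (Fin n) R) := Polynomial.C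
    let ε : Polynomial (MvPolynomial (Fin n) R) →+* MvPolynomial (Fin (n + 1)) R :=
      ((MvPolynomial.finSuccEquiv R n).symm :
        Polynomial (MvPolynomial (Fin n) R) →+* MvPolynomial (Fin (n + 1)) R)
    have hε : ε.comp (C₂.comp C₁) = MvPolynomial.C := MvPolynomial.finSuccEquiv_comp_C_eq_C n
    have hεS : Spec.map (CommRingCat.ofHom (MvPolynomial.C : R →+* MvPolynomial (Fin (n + 1)) R)) =
        Spec.map (CommRingCat.ofHom ε) ≫ Spec.map (CommRingCat.ofHom C₂) ≫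
          Spec.map (CommRingCat.ofHom C₁) := by
      rw [← hε]
      simp only [CommRingCat.ofHom_comp, Spec.map_comp, Category.assoc]
    let Y₁ : Over S := Over.mk (Spec.map (CommRingCat.ofHom C₁) ≫ σ)
    let k₁ : Y₁ ⟶ Over.mk σ := Over.homMk (Spec.map (CommRingCat.ofHom C₁)) rfl
    let Y₂ : Over S := Over.mk (Spec.map (CommRingCat.ofHom C₂) ≫ Y₁.hom)
    let k₂ : Y₂ ⟶ Y₁ := Over.homMk (Spec.map (CommRingCat.ofHom C₂)) rfl
    let k₃ : Over.mk (Spec.map (CommRingCat.ofHom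
        (MvPolynomial.C : R →+* MvPolynomial (Fin (n + 1)) R)) ≫ σ) ⟶ Y₂ :=
      Over.homMk (Spec.map (CommRingCat.ofHom ε)) (by
        change Spec.map (CommRingCat.ofHom ε) ≫ Spec.map (CommRingCat.ofHom C₂) ≫
          Spec.map (CommRingCat.ofHom C₁) ≫ σ = Spec.map (CommRingCat.ofHom MvPolynomial.C) ≫ σ
        rw [hεS]; simp only [Category.assoc])
    have hfac : k = k₃ ≫ k₂ ≫ k₁ := Over.OverMorphism.ext (by rw [hk]; exact hεS)
    rw [hfac, Functor.map_comp, Functor.map_comp]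
    have hk₃ : Etale k₃.left := by
      change Etale (Spec.map (CommRingCat.ofHom ε))
      rw [HasRingHomProperty.Spec_iff (P := @Etale), CommRingCat.hom_ofHom]
      exact RingHom.Etale.of_bijective (MvPolynomial.finSuccEquiv R n).symm.bijective
    exact good_comp (IsAlgSpace.yon_obj _) (IsAlgSpace.yon_obj _)
      (hP.good_of_etale (IsAlgSpace.yon_obj _) (IsAlgSpace.yon_obj _)
        ((isEtaleMor_yon_map_iff k₃).2 hk₃))
      (good_comp (IsAlgSpace.yon_obj _) (IsAlgSpace.yon_obj _)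
        (hA1 (MvPolynomial (Fin n) R) Y₁.hom k₂ rfl) (ih R σ k₁ rfl))

/-- Final assembly. -/
theorem isEtaleSmoothLocalST_of_hyp (hP : Hyp P)
    (hgood : ∀ {V Y : Sp S}, IsAlgSpace V → IsAlgSpace Y → ∀ b : V ⟶ Y, LocP @Smooth b →
      Good P b) : IsEtaleSmoothLocalST P where
  precomp := fun X Y Z hX hY hZ f g hf hg => hP.precomp hX hY hZ f g hf hg
  baseChange := fun X Y X' Y' hX hY hX' hY' f g f' g' sq hg hf =>
    hP.baseChange hX hY hX' hY' f g f' g' sq hg hf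
  locality := by
    intro X Y hX hY f
    constructor
    · intro hf x
      exact ⟨Y, X, X, 𝟙 Y, 𝟙 X, f, 𝟙 X, x, hY, hX, hX, locP_smooth_id Y, IsPullback.id_horiz f,
        isEtaleMor_id hX, by rw [Category.id_comp]; exact Points.map_id x,
        by rw [Category.id_comp]; exact hf⟩
    · intro h
      have key : ∀ x : Points X, ∃ (N : Sp S) (j : N ⟶ X), IsAlgSpace N ∧ IsEtaleMor j ∧
          x ∈ Set.range (Points.map j) ∧ P (j ≫ f) := by
        intro x
        obtain ⟨V, W, U, b, p, q, e, v, hV, hW, hU, hb, sq, he, hv, hPe⟩ := h x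
        obtain ⟨N, j, hN, hj, hmem, hPj⟩ := hgood hV hY b hb f p q e hX hW hU sq he hPe v
        exact ⟨N, j, hN, hj, hv ▸ hmem, hPj⟩
      choose N j hN hj hmem hPj using key
      obtain ⟨ι, φ, hφ⟩ := exists_small_family hX (D := Points X) N j (fun x => ⟨x, hmem x⟩)
      exact (hP.h1 (fun i => N (φ i)) (fun i => j (φ i)) hX (fun i => hN _) ⟨fun i => hj _, hφ⟩
        f hY).2 fun i => hPj _

end Groth.Agent.H1.ESST
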