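import Mathlib

/-! helper1: S10570, ring lemmas: the ring `Σ = A[X_0..X_m][1/δ]`. -/

set_option autoImplicit false

universe u

open Polynomial

namespace Groth.Agent.H1.ESSTr

variable (A : Type u) [CommRing A] (m : ℕ)

/-- product of all differences `X_j - X_i`, `i ≠ j`. -/
noncomputable irreducible_def delta : MvPolynomial (Fin (m + 1)) A :=
  ∏ p ∈ (Finset.univ : Finset (Fin (m + 1))).offDiag, (MvPolynomial.X p.2 - MvPolynomial.X p.1)

theorem mem_offDiag {i j : Fin (m + 1)} (h : i ≠ j) :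
    (i, j) ∈ (Finset.univ : Finset (Fin (m + 1))).offDiag :=
  Finset.mem_offDiag.2 ⟨Finset.mem_univ _, Finset.mem_univ _, h⟩

theorem dvd_prod_aux {ι : Type} (s : Finset ι) (f : ι → MvPolynomial (Fin (m + 1)) A) (i : ι)
    (hi : i ∈ s) : f i ∣ ∏ p ∈ s, f p := Finset.dvd_prod_of_mem f hi

theorem sub_dvd_delta {i j : Fin (m + 1)} (h : i ≠ j) :
    (MvPolynomial.X j - MvPolynomial.X i : MvPolynomial (Fin (m + 1)) A) ∣ delta A m := by
  rw [delta_def]
  exact dvd_prod_aux A m _ (fun p : Fin (m + 1) × Fin (m + 1) =>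
    (MvPolynomial.X p.2 - MvPolynomial.X p.1 : MvPolynomial (Fin (m + 1)) A)) (i, j)
    (mem_offDiag m h)

/-- the ring `Σ`. -/
abbrev Sig : Type u := Localization.Away (delta A m)

/-- the nodes. -/
noncomputable def s (j : Fin (m + 1)) : Sig A m :=
  algebraMap (MvPolynomial (Fin (m + 1)) A) (Sig A m) (MvPolynomial.X j)

theorem isUnit_sub {i j : Fin (m + 1)} (h : i ≠ j) : IsUnit (s A m j - s A m i) := by
  have hd := sub_dvd_delta A m h
  have hu : IsUnit (algebraMap (MvPolynomial (Fin (m + 1)) A) (Sig A m) (delta A m)) :=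
    IsLocalization.Away.algebraMap_isUnit _
  have h2 : s A m j - s A m i =
      algebraMap (MvPolynomial (Fin (m + 1)) A) (Sig A m)
        (MvPolynomial.X j - MvPolynomial.X i) := by
    rw [map_sub]; rfl
  rw [h2]
  exact isUnit_of_dvd_unit (map_dvd (algebraMap _ (Sig A m)) hd) hu

/-- `φ_j : A[t] → Σ`, `t ↦ s_j`. -/
noncomputable def phi (j : Fin (m + 1)) : A[X] →+* Sig A m :=
  Polynomial.eval₂RingHom (algebraMap A (Sig A m)) (s A m j)

theorem phi_C (j : Fin (m + 1)) (a : A) : phi A m j (C a) = algebraMap A (Sig A m) a := by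
  simp [phi]

theorem phi_X (j : Fin (m + 1)) : phi A m j X = s A m j := by simp [phi]

theorem phi_comp_C (j : Fin (m + 1)) : (phi A m j).comp C = algebraMap A (Sig A m) := by
  ext a; simp [phi]

theorem smooth_phi (j : Fin (m + 1)) : (phi A m j).Smooth := by
  classical
  let φ0 : A[X] →+* MvPolynomial (Fin (m + 1)) A :=
    Polynomial.eval₂RingHom MvPolynomial.C (MvPolynomial.X j)
  have h1 : phi A m j = (algebraMap (MvPolynomial (Fin (m + 1)) A) (Sig A m)).comp φ0 := by
    apply Polynomial.ringHom_ext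
    · intro a
      simp [phi, φ0, IsScalarTower.algebraMap_apply A (MvPolynomial (Fin (m + 1)) A) (Sig A m)]
    · simp [phi, φ0, s]
  rw [h1]
  refine RingHom.Smooth.comp ?_ (RingHom.Smooth.holdsForLocalizationAway _ (delta A m))
  let σ := {i : Fin (m + 1) // i ≠ j}
  let e0 : Fin (m + 1) ≃ Option σ := (Equiv.optionSubtypeNe j).symm
  let e : MvPolynomial (Fin (m + 1)) A ≃ₐ[A] MvPolynomial σ A[X] :=
    (MvPolynomial.renameEquiv A e0).trans (MvPolynomial.optionEquivRight A σ)
  have h3 : (e : MvPolynomial (Fin (m + 1)) A →+* MvPolynomial σ A[X]).comp φ0 =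
      MvPolynomial.C := by
    apply Polynomial.ringHom_ext
    · intro a
      simp [φ0, e]
    · have he0 : e0 j = none := Equiv.optionSubtypeNe_symm_self j
      simp [φ0, e, he0]
  have h2 : φ0 = (e.symm : MvPolynomial σ A[X] →+* MvPolynomial (Fin (m + 1)) A).comp
      MvPolynomial.C := by
    rw [← h3]
    refine RingHom.ext fun x => ?_
    simp only [RingHom.comp_apply, RingHom.coe_coe, AlgEquiv.symm_apply_apply]
  rw [h2]
  refine RingHom.Smooth.comp ?_ (RingHom.Smooth.of_bijective e.symm.bijective)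
  have : Algebra.Smooth A[X] (MvPolynomial σ A[X]) := {}
  exact RingHom.smooth_algebraMap.2 this

theorem smooth_algebraMap : (algebraMap A (Sig A m)).Smooth := by
  rw [← phi_comp_C A m 0]
  refine RingHom.Smooth.comp ?_ (smooth_phi A m 0)
  have : Algebra.Smooth A A[X] := {}
  exact RingHom.smooth_algebraMap.2 this

theorem comap_surjective :
    Function.Surjective (PrimeSpectrum.comap (algebraMap A (Sig A m))) := by
  intro 𝔭
  classical
  let K := FractionRing (MvPolynomial (Fin (m + 1)) (A ⧸ 𝔭.asIdeal))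
  let ρ0 : MvPolynomial (Fin (m + 1)) A →+* K :=
    (algebraMap _ K).comp (MvPolynomial.map (Ideal.Quotient.mk 𝔭.asIdeal))
  have hinj : Function.Injective (fun i : Fin (m + 1) => ρ0 (MvPolynomial.X i)) := by
    intro i i' h
    simp only [ρ0, RingHom.comp_apply, MvPolynomial.map_X] at h
    exact MvPolynomial.X_injective (IsFractionRing.injective _ K h)
  have hunit : IsUnit (ρ0 (delta A m)) := by
    rw [isUnit_iff_ne_zero, delta_def, map_prod]
    refine Finset.prod_ne_zero_iff.2 fun p hp => ?_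
    simp only [Finset.mem_offDiag, Finset.mem_univ, true_and] at hp
    rw [map_sub, sub_ne_zero]
    exact fun h => hp (hinj h).symm
  let ρ : Sig A m →+* K := IsLocalization.Away.lift (delta A m) hunit
  have hρ : ∀ x, ρ (algebraMap _ (Sig A m) x) = ρ0 x := fun x =>
    IsLocalization.Away.lift_eq (delta A m) hunit x
  refine ⟨⟨RingHom.ker ρ, RingHom.ker_isPrime ρ⟩, ?_⟩
  ext a
  change algebraMap A (Sig A m) a ∈ RingHom.ker ρ ↔ a ∈ 𝔭.asIdeal
  rw [RingHom.mem_ker, IsScalarTower.algebraMap_apply A (MvPolynomial (Fin (m + 1)) A) (Sig A m),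
    hρ]
  simp only [ρ0, RingHom.comp_apply, MvPolynomial.algebraMap_eq, MvPolynomial.map_C]
  rw [map_eq_zero_iff _ (IsFractionRing.injective _ K), MvPolynomial.C_eq_zero,
    Ideal.Quotient.eq_zero_iff_mem]

theorem exists_eval_ne_zero {C κ : Type u} [CommRing C] [Field κ] (ρC : C →+* κ)
    (ρS : Sig A m →+* κ) (h : C[X]) (hdeg : h.natDegree ≤ m) (k : ℕ)
    (hk : ρC (h.coeff k) ≠ 0) : ∃ j, (h.map ρC).eval (ρS (s A m j)) ≠ 0 := by
  by_contra hcon
  simp only [not_exists, not_not] at hcon
  have hinj : Function.Injective (fun j => ρS (s A m j)) := by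
    intro i j hij
    by_contra hne
    have hu := (isUnit_sub A m hne).map ρS
    have hij' : ρS (s A m i) = ρS (s A m j) := hij
    rw [map_sub, hij', sub_self] at hu
    exact not_isUnit_zero hu
  have hz : h.map ρC = 0 :=
    Polynomial.eq_zero_of_natDegree_lt_card_of_eval_eq_zero (h.map ρC) hinj hcon (by
      rw [Fintype.card_fin]
      exact lt_of_le_of_lt natDegree_map_le (Nat.lt_succ_of_le hdeg))
  have := congrArg (fun q => q.coeff k) hz
  simp only [coeff_map, coeff_zero] at this
  exact hk this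

theorem exists_coeff_not_mem {C : Type u} [CommRing C] (𝔮 : Ideal C[X]) (h : C[X])
    (hh : h ∉ 𝔮) : ∃ k, h.coeff k ∉ 𝔮.comap (Polynomial.C : C →+* C[X]) := by
  by_contra hcon
  simp only [not_exists, not_not] at hcon
  apply hh
  rw [Polynomial.as_sum_range_C_mul_X_pow h]
  exact Ideal.sum_mem _ fun k _ => Ideal.mul_mem_right _ _ (Ideal.mem_comap.1 (hcon k))

end Groth.Agent.H1.ESSTr
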