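import Mathlib
import Groth.Agent.Lib.Helper1.ESSTa
import Groth.Agent.Lib.Helper1.ESSTr

/-! helper1: S10570, part (e): the affine core of the slicing argument on the affine line. -/

set_option autoImplicit false
set_option linter.overlappingInstances false
set_option linter.unusedSectionVars false
set_option linter.unusedVariables false

universe u

open CategoryTheory CategoryTheory.Limits AlgebraicGeometry MorphismProperty Opposite Topology

namespace Groth.Agent.H1.ESST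

open _root_.AlgSp Groth.Agent.H5.AlgSp Groth.Agent.H5.EtSrc Groth.Agent.H3.AlgSpCov

variable {S : Scheme.{u}} {P : MorphismProperty (Sp S)}

attribute [local instance] Polynomial.algebra

/-- the basic open `D(c)` of `Spec C` as an open of the scheme. -/
abbrev bo {C : Type u} [CommRing C] (c : C) : (Spec (CommRingCat.of C)).Opens :=
  PrimeSpectrum.basicOpen c

theorem preimage_comp_SpecMap {K R R' : CommRingCat.{u}} (m : Spec K ⟶ Spec R) (f : R' ⟶ R) :
    Spec.preimage (m ≫ Spec.map f) = f ≫ Spec.preimage m := by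
  apply Spec.map_injective
  rw [Spec.map_preimage, Spec.map_comp, Spec.map_preimage]

theorem mem_basicOpen_iff {T : Scheme.{u}} {R : Type u} [CommRing R]
    (g : T ⟶ Spec (CommRingCat.of R)) (t : T) (r : R) :
    g t ∈ (PrimeSpectrum.basicOpen r : (Spec (CommRingCat.of R)).Opens) ↔
      (Spec.preimage (T.fromSpecResidueField t ≫ g)).hom r ≠ 0 := by
  set ρ := Spec.preimage (T.fromSpecResidueField t ≫ g) with hρ
  have h1 : Spec.map ρ = T.fromSpecResidueField t ≫ g := Spec.map_preimage _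
  let pt : Spec (T.residueField t) := IsLocalRing.closedPoint (T.residueField t)
  have h2 : g t = Spec.map ρ pt := by
    rw [h1, Scheme.Hom.comp_apply, Scheme.fromSpecResidueField_apply]
  rw [h2]
  change r ∉ Ideal.comap ρ.hom (PrimeSpectrum.asIdeal pt) ↔ _
  rw [Ideal.mem_comap]
  have h3 : (PrimeSpectrum.asIdeal pt) = ⊥ :=
    (Ideal.eq_bot_or_top _).resolve_right (PrimeSpectrum.isPrime pt).ne_top
  rw [h3, Ideal.mem_bot]

theorem isPullback_poly {A C : Type u} [CommRing A] [CommRing C] (φ : A →+* C) :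
    IsPullback (Spec.map (CommRingCat.ofHom (Polynomial.C : C →+* Polynomial C)))
      (Spec.map (CommRingCat.ofHom (Polynomial.mapRingHom φ)))
      (Spec.map (CommRingCat.ofHom φ))
      (Spec.map (CommRingCat.ofHom (Polynomial.C : A →+* Polynomial A))) := by
  letI := φ.toAlgebra
  exact isPullback_SpecMap_of_isPushout _ _ _ _
    (CommRingCat.isPushout_of_isPushout A C (Polynomial A) (Polynomial C))

set_option maxHeartbeats 1600000 in
/-- The affine core: slicing on the affine line over an affine base. -/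
theorem Hyp.affine_core (hP : Hyp P) {A C E : Type u} [CommRing A] [CommRing C] [CommRing E]
    (σA : Spec (CommRingCat.of A) ⟶ S) (σC : Spec (CommRingCat.of C) ⟶ S)
    (σE : Spec (CommRingCat.of E) ⟶ S)
    (φ : A →+* C) (hφ : Spec.map (CommRingCat.ofHom φ) ≫ σA = σC)
    (ψ : Polynomial C →+* E)
    (hψ : Spec.map (CommRingCat.ofHom (ψ.comp Polynomial.C)) ≫ σC = σE) (hψe : ψ.Etale)
    (u₁ : Spec (CommRingCat.of E))
    (kE : Over.mk σE ⟶
      Over.mk (Spec.map (CommRingCat.ofHom (Polynomial.C : A →+* Polynomial A)) ≫ σA))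
    (hkE : kE.left = Spec.map (CommRingCat.ofHom (ψ.comp (Polynomial.mapRingHom φ))))
    (hPE : P ((yon S).map kE)) :
    ∃ c : C, Spec.map (CommRingCat.ofHom (ψ.comp Polynomial.C)) u₁ ∈ bo c ∧
      ∀ (kN : Over.mk ((bo c).ι ≫ σC) ⟶ Over.mk σA),
        kN.left = (bo c).ι ≫ Spec.map (CommRingCat.ofHom φ) → P ((yon S).map kN) := by
  subst hφ
  subst hψ
  classical
  let CA : A →+* Polynomial A := Polynomial.C
  let CC : C →+* Polynomial C := Polynomial.C
  let mφ : Polynomial A →+* Polynomial C := Polynomial.mapRingHom φ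
  have hmφ : mφ.comp CA = CC.comp φ := Polynomial.mapRingHom_comp_C φ
  -- Step 1: the open image and `h`
  haveI hψS : Etale (Spec.map (CommRingCat.ofHom ψ)) :=
    (HasRingHomProperty.Spec_iff (P := @Etale)).2 hψe
  have hopen : IsOpen (Set.range (Spec.map (CommRingCat.ofHom ψ))) :=
    (Spec.map (CommRingCat.ofHom ψ)).isOpenMap.isOpen_range
  let w : Spec (CommRingCat.of (Polynomial C)) := Spec.map (CommRingCat.ofHom ψ) u₁
  obtain ⟨_, ⟨h, rfl⟩, hwh, hsub⟩ :=
    (PrimeSpectrum.isTopologicalBasis_basic_opens (R := Polynomial C)).exists_subset_of_mem_open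
      (show w ∈ Set.range (Spec.map (CommRingCat.ofHom ψ)) from ⟨u₁, rfl⟩) hopen
  have hwh' : h ∉ (PrimeSpectrum.asIdeal w) := hwh
  obtain ⟨k, hk⟩ := ESSTr.exists_coeff_not_mem _ h hwh'
  refine ⟨h.coeff k, ?_, ?_⟩
  · rw [CommRingCat.ofHom_comp, Spec.map_comp, Scheme.Hom.comp_apply]
    exact hk
  -- Step 3: the ring Σ
  let m := h.natDegree
  let aS : A →+* ESSTr.Sig A m := algebraMap A (ESSTr.Sig A m)
  let ζ₀ : Spec (CommRingCat.of (ESSTr.Sig A m)) ⟶ Spec (CommRingCat.of A) :=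
    Spec.map (CommRingCat.ofHom aS)
  let YA : Over S := Over.mk σA
  let VA : Over S := Over.mk (Spec.map (CommRingCat.ofHom CA) ≫ σA)
  let XC : Over S := Over.mk (Spec.map (CommRingCat.ofHom φ) ≫ σA)
  let WC : Over S :=
    Over.mk (Spec.map (CommRingCat.ofHom CC) ≫ Spec.map (CommRingCat.ofHom φ) ≫ σA)
  let UE : Over S :=
    Over.mk (Spec.map (CommRingCat.ofHom (ψ.comp CC)) ≫ Spec.map (CommRingCat.ofHom φ) ≫ σA)
  let Z : Over S := Over.mk (ζ₀ ≫ σA)
  let π : VA ⟶ YA := Over.homMk (Spec.map (CommRingCat.ofHom CA)) rfl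
  let f₁ : XC ⟶ YA := Over.homMk (Spec.map (CommRingCat.ofHom φ)) rfl
  let pW : WC ⟶ XC := Over.homMk (Spec.map (CommRingCat.ofHom CC)) rfl
  have hSq : Spec.map (CommRingCat.ofHom mφ) ≫ Spec.map (CommRingCat.ofHom CA) =
      Spec.map (CommRingCat.ofHom CC) ≫ Spec.map (CommRingCat.ofHom φ) := by
    rw [← Spec.map_comp, ← Spec.map_comp, ← CommRingCat.ofHom_comp, ← CommRingCat.ofHom_comp,
      hmφ]
  let qW : WC ⟶ VA := Over.homMk (Spec.map (CommRingCat.ofHom mφ)) (by
    change Spec.map (CommRingCat.ofHom mφ) ≫ Spec.map (CommRingCat.ofHom CA) ≫ σA =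
      Spec.map (CommRingCat.ofHom CC) ≫ Spec.map (CommRingCat.ofHom φ) ≫ σA
    rw [← Category.assoc, hSq, Category.assoc])
  let e₁ : UE ⟶ WC := Over.homMk (Spec.map (CommRingCat.ofHom ψ)) (by
    change Spec.map (CommRingCat.ofHom ψ) ≫ Spec.map (CommRingCat.ofHom CC) ≫
      Spec.map (CommRingCat.ofHom φ) ≫ σA =
      Spec.map (CommRingCat.ofHom (ψ.comp CC)) ≫ Spec.map (CommRingCat.ofHom φ) ≫ σA
    rw [CommRingCat.ofHom_comp, Spec.map_comp, Category.assoc])
  have hkE0 : Spec.map (CommRingCat.ofHom (ψ.comp mφ)) =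
      Spec.map (CommRingCat.ofHom ψ) ≫ Spec.map (CommRingCat.ofHom mφ) := by
    rw [CommRingCat.ofHom_comp, Spec.map_comp]
  have hkE' : kE = e₁ ≫ qW := Over.OverMorphism.ext (hkE.trans hkE0)
  let ζ : Z ⟶ YA := Over.homMk ζ₀ rfl
  have hφC : ∀ j : Fin (m + 1), Spec.map (CommRingCat.ofHom (ESSTr.phi A m j)) ≫
      Spec.map (CommRingCat.ofHom CA) = ζ₀ := fun j => by
    rw [← Spec.map_comp, ← CommRingCat.ofHom_comp, ESSTr.phi_comp_C]
  let sJ : ∀ j : Fin (m + 1), Z ⟶ VA := fun j =>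
    Over.homMk (Spec.map (CommRingCat.ofHom (ESSTr.phi A m j))) (by
      change Spec.map (CommRingCat.ofHom (ESSTr.phi A m j)) ≫
        Spec.map (CommRingCat.ofHom CA) ≫ σA = ζ₀ ≫ σA
      rw [← Category.assoc, hφC])
  have hsJπ : ∀ j, sJ j ≫ π = ζ := fun j => Over.OverMorphism.ext (hφC j)
  have sqI : IsPullback pW qW f₁ π := (isPullback_left_iff pW qW f₁ π).1 (isPullback_poly φ)
  -- Step 4
  let XZ := pullback f₁ ζ
  let a₁ : XZ ⟶ XC := pullback.fst f₁ ζ
  let a₂ : XZ ⟶ Z := pullback.snd f₁ ζ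
  have sqXZ : IsPullback a₁ a₂ f₁ ζ := IsPullback.of_hasPullback f₁ ζ
  let gJ : ∀ j : Fin (m + 1), XZ ⟶ WC := fun j =>
    sqI.lift a₁ (a₂ ≫ sJ j) (by rw [Category.assoc, hsJπ]; exact sqXZ.w)
  have hgJ₁ : ∀ j, gJ j ≫ pW = a₁ := fun j => sqI.lift_fst _ _ _
  have hgJ₂ : ∀ j, gJ j ≫ qW = a₂ ≫ sJ j := fun j => sqI.lift_snd _ _ _
  have sqJ : ∀ j, IsPullback (gJ j) a₂ qW (sJ j) := fun j => by
    refine IsPullback.of_right ?_ (hgJ₂ j) sqI
    rw [hgJ₁, hsJπ]; exact sqXZ
  -- Step 5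
  let Nc : (Spec (CommRingCat.of C)).Opens := bo (h.coeff k)
  let NC : Over S := Over.mk (Nc.ι ≫ XC.hom)
  let ιN : NC ⟶ XC := Over.homMk Nc.ι rfl
  let NZ := pullback ιN a₁
  let b₁ : NZ ⟶ NC := pullback.fst ιN a₁
  let b₂ : NZ ⟶ XZ := pullback.snd ιN a₁
  have sqN : IsPullback b₁ b₂ ιN a₁ := IsPullback.of_hasPullback ιN a₁
  have sqNZ : IsPullback b₁ (b₂ ≫ a₂) (ιN ≫ f₁) ζ := sqN.paste_vert sqXZ
  intro kN hkN
  obtain rfl : kN = ιN ≫ f₁ := Over.OverMorphism.ext hkN
  have hζsm : LocP @Smooth ((yon S).map ζ) :=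
    (locP_yon_map_iff etale_le_smooth ζ).2
      ((HasRingHomProperty.Spec_iff (P := @Smooth)).2 (ESSTr.smooth_algebraMap A m))
  have hζsurj : Function.Surjective (Points.map ((yon S).map ζ)) := by
    intro x
    obtain ⟨t, rfl⟩ := ofScheme_surjective YA x
    obtain ⟨t', ht'⟩ := ESSTr.comap_surjective A m t
    exact ⟨Points.ofScheme Z t', by rw [map_yon_map_ofScheme]; exact congrArg _ ht'⟩
  have hcov : IsSmCover (fun _ : PUnit.{u + 1} => (yon S).obj Z) (fun _ => (yon S).map ζ) :=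
    ⟨fun _ => hζsm, fun y => ⟨PUnit.unit, hζsurj y⟩⟩
  refine (hP.h2 _ _ (IsAlgSpace.yon_obj YA) (fun _ => IsAlgSpace.yon_obj Z) hcov
    ((yon S).map (ιN ≫ f₁)) (IsAlgSpace.yon_obj NC) (fun _ => (yon S).obj NZ)
    (fun _ => (yon S).map (b₂ ≫ a₂)) (fun _ => (yon S).map b₁) (fun _ => IsAlgSpace.yon_obj NZ)
    (fun _ => sqNZ.map (yon S))).2 (fun _ => ?_)
  -- Step 6: the étale covering of `N_Z`
  have he₁ : IsEtaleMor ((yon S).map e₁) := (isEtaleMor_yon_map_iff e₁).2 hψS
  let T : Fin (m + 1) → Sp S := fun j => pullback ((yon S).map e₁) ((yon S).map (gJ j))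
  let r₁ : ∀ j, T j ⟶ (yon S).obj UE := fun j => pullback.fst _ _
  let r₂ : ∀ j, T j ⟶ (yon S).obj XZ := fun j => pullback.snd _ _
  have sqT : ∀ j, IsPullback (r₁ j) (r₂ j) ((yon S).map e₁) ((yon S).map (gJ j)) :=
    fun j => IsPullback.of_hasPullback _ _
  have hT : ∀ j, IsAlgSpace (T j) := fun j =>
    isAlgSpace_pullback (IsAlgSpace.yon_obj WC).diag (IsAlgSpace.yon_obj UE)
      (IsAlgSpace.yon_obj XZ) (sqT j)
  have hr₂ : ∀ j, IsEtaleMor (r₂ j) := fun j =>
    isEtaleMor_of_isPullback (sqT j) (IsAlgSpace.yon_obj UE) (IsAlgSpace.yon_obj WC)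
      (IsAlgSpace.yon_obj XZ) he₁
  have hPT : ∀ j, P (r₂ j ≫ (yon S).map a₂) := fun j => by
    have big : IsPullback (r₁ j) (r₂ j ≫ (yon S).map a₂) ((yon S).map kE)
        ((yon S).map (sJ j)) := by
      have := (sqT j).paste_vert ((sqJ j).map (yon S))
      rw [← Functor.map_comp, ← hkE'] at this
      exact this
    have hsm : LocP @Smooth ((yon S).map (sJ j)) :=
      (locP_yon_map_iff etale_le_smooth (sJ j)).2
        ((HasRingHomProperty.Spec_iff (P := @Smooth)).2 (ESSTr.smooth_phi A m j))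
    exact hP.baseChange (IsAlgSpace.yon_obj UE) (IsAlgSpace.yon_obj VA) (hT j)
      (IsAlgSpace.yon_obj Z) _ _ _ _ big hsm hPE
  let T' : Fin (m + 1) → Sp S := fun j => pullback (r₂ j) ((yon S).map b₂)
  let o₁ : ∀ j, T' j ⟶ T j := fun j => pullback.fst _ _
  let o₂ : ∀ j, T' j ⟶ (yon S).obj NZ := fun j => pullback.snd _ _
  have sqT' : ∀ j, IsPullback (o₁ j) (o₂ j) (r₂ j) ((yon S).map b₂) :=
    fun j => IsPullback.of_hasPullback _ _
  have hT' : ∀ j, IsAlgSpace (T' j) := fun j =>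
    isAlgSpace_pullback (IsAlgSpace.yon_obj XZ).diag (hT j) (IsAlgSpace.yon_obj NZ) (sqT' j)
  have hb₂ : IsEtaleMor ((yon S).map b₂) := by
    rw [isEtaleMor_yon_map_iff]
    have sqNL : IsPullback b₁.left b₂.left ιN.left a₁.left := sqN.map (Over.forget S)
    haveI : IsOpenImmersion b₂.left :=
      MorphismProperty.of_isPullback (P := @IsOpenImmersion) sqNL
        (inferInstanceAs (IsOpenImmersion Nc.ι))
    infer_instance
  have ho₁ : ∀ j, IsEtaleMor (o₁ j) := fun j =>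
    isEtaleMor_of_isPullback (sqT' j).flip (IsAlgSpace.yon_obj NZ) (IsAlgSpace.yon_obj XZ) (hT j)
      hb₂
  have ho₂ : ∀ j, IsEtaleMor (o₂ j) := fun j =>
    isEtaleMor_of_isPullback (sqT' j) (hT j) (IsAlgSpace.yon_obj XZ) (IsAlgSpace.yon_obj NZ)
      (hr₂ j)
  have hPT' : ∀ j, P (o₂ j ≫ (yon S).map (b₂ ≫ a₂)) := fun j => by
    have := hP.precomp (hT' j) (hT j) (IsAlgSpace.yon_obj Z) (o₁ j) _ (ho₁ j) (hPT j)
    rw [← Category.assoc, (sqT' j).w, Category.assoc, ← Functor.map_comp] at this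
    exact this
  have hsurj : ∀ ξ : Points ((yon S).obj NZ), ∃ j : ULift.{u} (Fin (m + 1)),
      ξ ∈ Set.range (Points.map (o₂ j.down)) := by
    intro ξ
    obtain ⟨n₀, rfl⟩ := ofScheme_surjective NZ ξ
    have hξN : a₁.left (b₂.left n₀) ∈ Nc := by
      have h1 : a₁.left (b₂.left n₀) = ιN.left (b₁.left n₀) := by
        rw [← Scheme.Hom.comp_apply, ← Scheme.Hom.comp_apply, ← Over.comp_left,
          ← Over.comp_left, sqN.w]
      rw [h1]
      exact (b₁.left n₀).2
    let ιξ := XZ.left.fromSpecResidueField (b₂.left n₀)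
    let ρC : C →+* XZ.left.residueField (b₂.left n₀) := (Spec.preimage (ιξ ≫ a₁.left)).hom
    let ρS : ESSTr.Sig A m →+* XZ.left.residueField (b₂.left n₀) :=
      (Spec.preimage (ιξ ≫ a₂.left)).hom
    let ρW : Fin (m + 1) → (Polynomial C →+* XZ.left.residueField (b₂.left n₀)) :=
      fun j => (Spec.preimage (ιξ ≫ (gJ j).left)).hom
    have hρ1 : ∀ j, (ρW j).comp CC = ρC := fun j => by
      have h1 : ιξ ≫ a₁.left = (ιξ ≫ (gJ j).left) ≫ Spec.map (CommRingCat.ofHom CC) := by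
        rw [Category.assoc]
        congr 1
        exact congrArg (fun t => t.left) (hgJ₁ j).symm
      have h2 := preimage_comp_SpecMap (ιξ ≫ (gJ j).left) (CommRingCat.ofHom CC)
      rw [← h1] at h2
      exact (congrArg CommRingCat.Hom.hom h2).symm
    have hρ2 : ∀ j, (ρW j).comp mφ = ρS.comp (ESSTr.phi A m j) := fun j => by
      have h1 : (ιξ ≫ (gJ j).left) ≫ Spec.map (CommRingCat.ofHom mφ) =
          (ιξ ≫ a₂.left) ≫ Spec.map (CommRingCat.ofHom (ESSTr.phi A m j)) := by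
        rw [Category.assoc, Category.assoc]
        congr 1
        exact congrArg (fun t => t.left) (hgJ₂ j)
      have h2 := preimage_comp_SpecMap (ιξ ≫ (gJ j).left) (CommRingCat.ofHom mφ)
      have h3 := preimage_comp_SpecMap (ιξ ≫ a₂.left) (CommRingCat.ofHom (ESSTr.phi A m j))
      rw [h1, h3] at h2
      exact (congrArg CommRingCat.Hom.hom h2).symm
    have hρW : ∀ j, ρW j h = (h.map ρC).eval (ρS (ESSTr.s A m j)) := fun j => by
      have hX : ρW j Polynomial.X = ρS (ESSTr.s A m j) := by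
        have := congrArg (fun g => g Polynomial.X) (hρ2 j)
        simp only [RingHom.comp_apply] at this
        rw [ESSTr.phi_X] at this
        rw [← this]
        simp [mφ]
      have hev : ρW j = Polynomial.eval₂RingHom ρC (ρS (ESSTr.s A m j)) := by
        apply Polynomial.ringHom_ext
        · intro a
          have := congrArg (fun g => g a) (hρ1 j)
          simp only [RingHom.comp_apply] at this
          rw [Polynomial.coe_eval₂RingHom, Polynomial.eval₂_C]
          exact this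
        · rw [Polynomial.coe_eval₂RingHom, Polynomial.eval₂_X]
          exact hX
      rw [hev, Polynomial.coe_eval₂RingHom, Polynomial.eval_map]
    have hC : ρC (h.coeff k) ≠ 0 := (mem_basicOpen_iff a₁.left (b₂.left n₀) (h.coeff k)).1 hξN
    obtain ⟨j, hj⟩ := ESSTr.exists_eval_ne_zero A m ρC ρS h le_rfl k hC
    have hmem : (gJ j).left (b₂.left n₀) ∈
        (PrimeSpectrum.basicOpen h : (Spec (CommRingCat.of (Polynomial C))).Opens) :=
      (mem_basicOpen_iff (gJ j).left (b₂.left n₀) h).2 (by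
        change ρW j h ≠ 0
        rw [hρW j]; exact hj)
    obtain ⟨u, hu⟩ := hsub hmem
    obtain ⟨τ, hτ1, hτ2⟩ := points_pullback_surjective (sqT j) (Points.ofScheme UE u)
      (Points.ofScheme XZ (b₂.left n₀)) (by
        rw [map_yon_map_ofScheme, map_yon_map_ofScheme]
        exact congrArg _ hu)
    obtain ⟨τ', hτ'1, hτ'2⟩ := points_pullback_surjective (sqT' j) τ (Points.ofScheme NZ n₀)
      (by rw [hτ2, map_yon_map_ofScheme])
    exact ⟨⟨j⟩, τ', hτ'2⟩
  exact (hP.h1 (fun j : ULift.{u} (Fin (m + 1)) => T' j.down) (fun j => o₂ j.down)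
    (IsAlgSpace.yon_obj NZ) (fun j => hT' j.down) ⟨fun j => ho₂ j.down, hsurj⟩
    ((yon S).map (b₂ ≫ a₂)) (IsAlgSpace.yon_obj Z)).2 (fun j => hPT' j.down)

end Groth.Agent.H1.ESST
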