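import Mathlib
import Groth.Agent.Lib.Helper1.ESSTc
import Groth.Agent.Lib.Helper1.ESSTe

/-! helper1: S10570, part (d): the affine line over an affine base admits slicing; conclusion. -/

set_option autoImplicit false
set_option linter.overlappingInstances false
set_option linter.unusedSectionVars false
set_option linter.unusedVariables false

universe u

open CategoryTheory CategoryTheory.Limits AlgebraicGeometry MorphismProperty Opposite Topology

namespace Groth.Agent.H1.ESST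

open _root_.AlgSp Groth.Agent.H5.AlgSp Groth.Agent.H5.EtSrc Groth.Agent.H3.AlgSpCov

variable {S : Scheme.{u}} {P : MorphismProperty (Sp S)}

/-- An affine étale chart through a given point of an algebraic space. -/
theorem exists_affine_chart {X : Sp S} (hX : IsAlgSpace X) (x : Points X) :
    ∃ (C : Type u) (_ : CommRing C) (σC : Spec (CommRingCat.of C) ⟶ S)
      (cX : (yon S).obj (Over.mk σC) ⟶ X) (x₁ : Spec (CommRingCat.of C)),
      RepWith @Etale cX ∧ Points.ofPt cX x₁ = x := by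
  obtain ⟨X₀, a, hae, has⟩ := hX.atlas
  obtain ⟨x₀, hx₀⟩ := ofPt_surjective_of_repWith has x
  obtain ⟨_, ⟨X₁, hX₁, rfl⟩, hx₀X₁, -⟩ := X₀.left.isBasis_affineOpens.exists_subset_of_mem_open
    (show x₀ ∈ ((⊤ : X₀.left.Opens) : Set X₀.left) from trivial) (⊤ : X₀.left.Opens).2
  let σC : Spec (CommRingCat.of Γ(X₀.left, X₁)) ⟶ S := hX₁.fromSpec ≫ X₀.hom
  let jX : Over.mk σC ⟶ X₀ := Over.homMk hX₁.fromSpec rfl
  obtain ⟨x₁, hx₁⟩ : ∃ x₁ : Spec (CommRingCat.of Γ(X₀.left, X₁)), hX₁.fromSpec x₁ = x₀ := by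
    have : x₀ ∈ Set.range hX₁.fromSpec := by rw [hX₁.range_fromSpec]; exact hx₀X₁
    exact this
  refine ⟨Γ(X₀.left, X₁), inferInstance, σC, (yon S).map jX ≫ a, x₁, ?_, ?_⟩
  · exact (RepWith @Etale).comp_mem _ _
      ((repWith_yon_map_iff _ _).2 (inferInstanceAs (Etale hX₁.fromSpec))) hae
  · rw [← hx₀, ← hx₁]
    exact ofPt_yon_map_comp jX a x₁

set_option maxHeartbeats 1600000 in
/-- The affine line over an affine base admits slicing. -/
theorem Hyp.good_affineLine (hP : Hyp P) (R : Type u) [CommRing R]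
    (σ : Spec (CommRingCat.of R) ⟶ S)
    (k : Over.mk (Spec.map (CommRingCat.ofHom (Polynomial.C : R →+* Polynomial R)) ≫ σ) ⟶
      Over.mk σ)
    (hk : k.left = Spec.map (CommRingCat.ofHom Polynomial.C)) : Good P ((yon S).map k) := by
  intro X W U f p q e hX hW hU sq he hPe v
  -- the chart of `X`
  obtain ⟨C, _, σC, cX, x₁, hcXe, hx₁⟩ := exists_affine_chart hX (Points.map (e ≫ p) v)
  let XC : Over S := Over.mk σC
  obtain ⟨f₁, hf₁⟩ := (yon S).map_surjective (cX ≫ f)
  obtain ⟨φ, hφ⟩ : ∃ φ : R →+* C, Spec.map (CommRingCat.ofHom φ) = f₁.left :=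
    ⟨(Spec.preimage f₁.left).hom, Spec.map_preimage _⟩
  have hφσ : Spec.map (CommRingCat.ofHom φ) ≫ σ = σC := by rw [hφ]; exact Over.w f₁
  -- the chart of `W`
  let CC : C →+* Polynomial C := Polynomial.C
  let WC : Over S := Over.mk (Spec.map (CommRingCat.ofHom CC) ≫ σC)
  let pW : WC ⟶ XC := Over.homMk (Spec.map (CommRingCat.ofHom CC)) rfl
  have hSq : Spec.map (CommRingCat.ofHom (Polynomial.mapRingHom φ)) ≫
      Spec.map (CommRingCat.ofHom (Polynomial.C : R →+* Polynomial R)) =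
      Spec.map (CommRingCat.ofHom CC) ≫ Spec.map (CommRingCat.ofHom φ) := by
    rw [← Spec.map_comp, ← Spec.map_comp, ← CommRingCat.ofHom_comp, ← CommRingCat.ofHom_comp,
      Polynomial.mapRingHom_comp_C]
  let qW : WC ⟶ Over.mk (Spec.map (CommRingCat.ofHom
      (Polynomial.C : R →+* Polynomial R)) ≫ σ) :=
    Over.homMk (Spec.map (CommRingCat.ofHom (Polynomial.mapRingHom φ))) (by
      change Spec.map (CommRingCat.ofHom (Polynomial.mapRingHom φ)) ≫
        Spec.map (CommRingCat.ofHom (Polynomial.C : R →+* Polynomial R)) ≫ σ =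
        Spec.map (CommRingCat.ofHom CC) ≫ σC
      rw [← hφσ, ← Category.assoc, hSq, Category.assoc])
  have sqI : IsPullback pW qW f₁ k := (isPullback_left_iff pW qW f₁ k).1 (by
    rw [hk, ← hφ]; exact isPullback_poly φ)
  let τ : (yon S).obj WC ⟶ W := sq.lift ((yon S).map pW ≫ cX) ((yon S).map qW) (by
    rw [Category.assoc, ← hf₁, ← Functor.map_comp, ← Functor.map_comp, sqI.w])
  have hτ₁ : τ ≫ p = (yon S).map pW ≫ cX := sq.lift_fst _ _ _
  have hτ₂ : τ ≫ q = (yon S).map qW := sq.lift_snd _ _ _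
  have sqτ : IsPullback τ ((yon S).map pW) p cX := by
    refine IsPullback.of_right ?_ hτ₁ sq.flip
    rw [hτ₂, ← hf₁]
    exact (sqI.map (yon S)).flip
  have hτe : IsEtaleMor τ :=
    isEtaleMor_of_isPullback sqτ.flip (IsAlgSpace.yon_obj XC) hX hW
      (isEtaleMor_of_repWith cX hcXe)
  -- the base change of `U`
  have sqU := IsPullback.of_hasPullback e τ
  have hU' : IsAlgSpace (pullback e τ) :=
    isAlgSpace_pullback hW.diag hU (IsAlgSpace.yon_obj WC) sqU
  have hfst : IsEtaleMor (pullback.fst e τ) :=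
    isEtaleMor_of_isPullback sqU.flip (IsAlgSpace.yon_obj WC) hW hU hτe
  have hsnd : IsEtaleMor (pullback.snd e τ) :=
    isEtaleMor_of_isPullback sqU hU hW (IsAlgSpace.yon_obj WC) he
  have hP' : P (pullback.snd e τ ≫ (yon S).map qW) := by
    have := hP.precomp hU' hU (IsAlgSpace.yon_obj _) (pullback.fst e τ) (e ≫ q) hfst hPe
    rw [← Category.assoc, sqU.w, Category.assoc, hτ₂] at this
    exact this
  obtain ⟨w', hw'1, hw'2⟩ := points_pullback_surjective sqτ (Points.map e v)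
    (Points.ofScheme XC x₁) (by
      rw [← Points.map_comp, ← Points.ofPt_eq_map_ofScheme, hx₁])
  obtain ⟨v', hv'1, hv'2⟩ := points_pullback_surjective sqU v w' hw'1.symm
  -- the chart of `U'`
  obtain ⟨E, _, σE, cU, u₁, hcUe, hu₁⟩ := exists_affine_chart hU' v'
  let UE : Over S := Over.mk σE
  obtain ⟨e₁, he₁⟩ := (yon S).map_surjective (cU ≫ pullback.snd e τ)
  have he₁e : Etale e₁.left := (isEtaleMor_yon_map_iff e₁).1 (by
    rw [he₁]; exact isEtaleMor_comp (isEtaleMor_of_repWith cU hcUe) hsnd)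
  obtain ⟨ψ, hψ⟩ : ∃ ψ : Polynomial C →+* E, Spec.map (CommRingCat.ofHom ψ) = e₁.left :=
    ⟨(Spec.preimage e₁.left).hom, Spec.map_preimage _⟩
  have hψe : ψ.Etale := (HasRingHomProperty.Spec_iff (P := @Etale)).1 (by rw [hψ]; exact he₁e)
  have hψC : Spec.map (CommRingCat.ofHom (ψ.comp CC)) = (e₁ ≫ pW).left := by
    rw [CommRingCat.ofHom_comp, Spec.map_comp, hψ]; rfl
  have hψσ : Spec.map (CommRingCat.ofHom (ψ.comp CC)) ≫ σC = σE := by
    rw [hψC]; exact Over.w (e₁ ≫ pW)
  have hkE : (e₁ ≫ qW).left =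
      Spec.map (CommRingCat.ofHom (ψ.comp (Polynomial.mapRingHom φ))) := by
    rw [CommRingCat.ofHom_comp, Spec.map_comp, hψ]; rfl
  have hPE : P ((yon S).map (e₁ ≫ qW)) := by
    have := hP.precomp (IsAlgSpace.yon_obj UE) hU' (IsAlgSpace.yon_obj _) cU _
      (isEtaleMor_of_repWith cU hcUe) hP'
    rw [← Category.assoc, ← he₁, ← Functor.map_comp] at this
    exact this
  obtain ⟨c, hc, hPN⟩ := hP.affine_core σ σC σE φ hφσ ψ hψσ hψe u₁ (e₁ ≫ qW) hkE hPE
  -- the point `x₁` lies in `D(c)`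
  have hx₁c : x₁ ∈ bo c := by
    have h1 : Points.ofScheme XC ((e₁ ≫ pW).left u₁) = Points.ofScheme XC x₁ := by
      rw [← map_yon_map_ofScheme, Functor.map_comp, Points.map_comp, he₁, Points.map_comp,
        ← Points.ofPt_eq_map_ofScheme, hu₁, hv'2, hw'2]
    have h2 := congrArg (Points.toScheme XC) h1
    rw [Points.toScheme_ofScheme, Points.toScheme_ofScheme] at h2
    rw [← h2, ← hψC]
    exact hc
  let NC : Over S := Over.mk ((bo c).ι ≫ σC)
  let jN : NC ⟶ XC := Over.homMk (bo c).ι rfl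
  have hjN : RepWith @Etale ((yon S).map jN ≫ cX) :=
    (RepWith @Etale).comp_mem _ _
      ((repWith_yon_map_iff _ _).2 (inferInstanceAs (Etale (bo c).ι))) hcXe
  refine ⟨(yon S).obj NC, (yon S).map jN ≫ cX, IsAlgSpace.yon_obj NC,
    isEtaleMor_of_repWith _ hjN, ⟨Points.ofScheme NC ⟨x₁, hx₁c⟩, ?_⟩, ?_⟩
  · rw [← Points.ofPt_eq_map_ofScheme, ofPt_yon_map_comp, ← hx₁]
    rfl
  · rw [Category.assoc, ← hf₁, ← Functor.map_comp]
    exact hPN (jN ≫ f₁) (by rw [hφ]; rfl)

/-- **S10570** at the level of sheaves. -/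
theorem isEtaleSmoothLocalST_of_hyp' (hP : Hyp P) : IsEtaleSmoothLocalST P :=
  isEtaleSmoothLocalST_of_hyp hP fun hV hY b hb =>
    hP.good_of_schemes (fun h hh => hP.good_yon_map_smooth
      (fun n R _ σ k hk => hP.good_affineSpace (fun R' _ σ' k' hk' =>
        hP.good_affineLine R' σ' k' hk') n R σ k hk) h hh) hV hY b hb

end Groth.Agent.H1.ESST
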