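import Mathlib
import Groth.Agent.Lib.Helper1.EquidimLocB

/-! EGA IV 13.3.6 continued: the dimension formula for morphisms equidimensional at a point
(helper1). -/

set_option autoImplicit false
set_option linter.style.haveILetI false

universe u

open CategoryTheory AlgebraicGeometry

namespace Groth.Agent.H1.EquidimLoc

variable {X Y : Scheme.{u}}

open Groth.Agent.H1.DimLoc Groth.Agent.H1.DimIneq in
/-- **EGA IV 13.3.6**: `dim O_{X,x} = dim O_{Y,y} + dim O_{X_y,x}` for a morphism equidimensional at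
`x` over an equidimensional universally catenary local ring. -/
theorem stalk_dim_eq_of_isEquidimAt [IsLocallyNoetherian Y] (f : X ⟶ Y)
    [LocallyOfFiniteType f] (x : X) (h : EGA43.IsEquidimAt f x)
    (hcat : CAlg.IsUniversallyCatenary (Y.presheaf.stalk (f x)))
    (hY : EGA4.IsEquidim (Y.presheaf.stalk (f x))) :
    ringKrullDim (X.presheaf.stalk x) =
      ringKrullDim (Y.presheaf.stalk (f x)) +
        ringKrullDim ((f.fiber (f x)).presheaf.stalk (f.asFiber x)) := by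
  obtain ⟨e, U, hxU, hcomp, hfib⟩ := h
  have hfd := fibreDimAt_eq_of_forall_dim f U e hfib
  obtain ⟨V, hV, hfxV⟩ : ∃ V : Y.Opens, IsAffineOpen V ∧ f x ∈ V := by
    obtain ⟨_, ⟨V, hV, rfl⟩, hz, -⟩ :=
      Y.isBasis_affineOpens.exists_subset_of_mem_open (Set.mem_univ (f x)) isOpen_univ
    exact ⟨V, hV, hz⟩
  obtain ⟨U', hU', hxU', hU'le⟩ :=
    exists_isAffineOpen_mem_and_subset (x := x) (U := U ⊓ f ⁻¹ᵁ V) ⟨hxU, hfxV⟩
  have eUV : U' ≤ f ⁻¹ᵁ V := fun _ hz => (hU'le hz).2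
  have eUU : U' ≤ U := fun _ hz => (hU'le hz).1
  obtain ⟨eX⟩ := nonempty_stalk_ringEquiv_localization hU' x hxU'
  obtain ⟨eY⟩ := nonempty_stalk_ringEquiv_localization hV (f x) (eUV hxU')
  have hY' := isEquidim_of_ringEquiv eY hY
  letI algRS := (f.appLE V U' eUV).hom.toAlgebra
  haveI : Algebra.FiniteType Γ(Y, V) Γ(X, U') := f.finiteType_appLE hV hU' eUV
  haveI : IsNoetherianRing Γ(Y, V) := IsLocallyNoetherian.component_noetherian ⟨V, hV⟩
  haveI : IsNoetherianRing Γ(X, U') := Algebra.FiniteType.isNoetherianRing Γ(Y, V) Γ(X, U')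
  obtain ⟨tx, htx, hfdx⟩ := Groth.Agent.H1.DimFormula.exists_fibreDimAt_eq_stalk_add_trdeg f x
  have key : ∀ q₀ ∈ minimalPrimes Γ(X, U'), q₀ ≤ (hU'.primeIdealOf ⟨x, hxU'⟩).asIdeal →
      ((hU'.primeIdealOf ⟨x, hxU'⟩).asIdeal.map (Ideal.Quotient.mk q₀)).height + (tx : ℕ∞) =
        (hV.primeIdealOf ⟨f x, eUV hxU'⟩).asIdeal.height + (e : ℕ∞) := by
    intro q₀ hq₀ hle
    haveI : q₀.IsPrime := hq₀.1.1
    set P : Spec Γ(X, U') := ⟨q₀, inferInstance⟩ with hP
    have hξU' : hU'.fromSpec P ∈ U' := by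
      rw [← SetLike.mem_coe, ← hU'.range_fromSpec]; exact ⟨P, rfl⟩
    have hprime := primeIdealOf_fromSpec hU' P hξU'
    have hξx : hU'.fromSpec P ⤳ x := by
      have h1 : P ⤳ hU'.primeIdealOf ⟨x, hxU'⟩ :=
        (PrimeSpectrum.le_iff_specializes (R := Γ(X, U')) P (hU'.primeIdealOf ⟨x, hxU'⟩)).1 hle
      have := h1.map hU'.fromSpec.continuous
      rwa [hU'.fromSpec_primeIdealOf] at this
    have hdim0 : ringKrullDim (X.presheaf.stalk (hU'.fromSpec P)) = 0 := by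
      rw [ringKrullDim_stalk_eq_height hU' _ hξU', hprime]
      have : q₀.height = 0 := Ideal.height_eq_zero_iff.2 hq₀
      change ((q₀.height : ℕ∞) : WithBot ℕ∞) = 0
      rw [this]; rfl
    have hgen : ∀ z : X, z ⤳ hU'.fromSpec P → z = hU'.fromSpec P := fun z hz =>
      eq_of_specializes_of_stalk_dim_eq_zero _ z hdim0 hz
    obtain ⟨tξ, htξ, hfdξ⟩ := Groth.Agent.H1.DimFormula.fibreDimAt_eq_trdeg_of_generic f
      (hU'.fromSpec P) (fun x' _ hx' => hgen x' hx')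
    have htξe : tξ = e := by
      have := hfd _ (eUU hξU')
      rw [hfdξ] at this
      exact_mod_cast this
    have hcl := closure_image_mem_irreducibleComponents f U (fun Z hZ => by
      obtain ⟨W, hW, -, hWe⟩ := hcomp Z hZ; exact ⟨W, hW, hWe⟩) _ (eUU hξU') hgen
    have hηgen := eq_of_specializes_of_closure_mem_irreducibleComponents _ hcl
    have hdimη : ringKrullDim (Y.presheaf.stalk (f (hU'.fromSpec P))) = 0 :=
      Groth.Agent.H1.DimFormula.ringKrullDim_stalk_eq_zero _ hηgen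
    have hmin : (hV.primeIdealOf ⟨f (hU'.fromSpec P), eUV hξU'⟩).asIdeal ∈
        minimalPrimes Γ(Y, V) := by
      rw [ringKrullDim_stalk_eq_height hV _ (eUV hξU')] at hdimη
      have h0 : (hV.primeIdealOf ⟨f (hU'.fromSpec P), eUV hξU'⟩).asIdeal.height = 0 := by
        exact_mod_cast hdimη
      exact Ideal.height_eq_zero_iff.1 h0
    have hle' := primeIdealOf_le_of_specializes hV (f x) (f (hU'.fromSpec P)) (eUV hxU')
      (eUV hξU') (hξx.map f.continuous)
    have hC := height_map_mk_eq_of_isEquidim _ hY' _ hmin hle'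
    have hrel := chart_relative_eq_enat f hU' hV eUV x (hU'.fromSpec P) hxU' hξU' hξx hcat
      tx tξ htx htξ
    rw [hprime, hC, htξe] at hrel
    exact hrel
  obtain ⟨q₁, hq₁, hle₁, hht⟩ := exists_minimalPrimes_height_map_eq
    (hU'.primeIdealOf ⟨x, hxU'⟩).asIdeal
  have h1 := key q₁ hq₁ hle₁
  rw [hht] at h1
  obtain ⟨a, ha⟩ : ∃ a : ℕ, (hU'.primeIdealOf ⟨x, hxU'⟩).asIdeal.height = a :=
    ⟨_, (ENat.natCast_toNat (Ideal.height_ne_top
      (hU'.primeIdealOf ⟨x, hxU'⟩).isPrime.ne_top)).symm⟩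
  obtain ⟨b, hb⟩ : ∃ b : ℕ, (hV.primeIdealOf ⟨f x, eUV hxU'⟩).asIdeal.height = b :=
    ⟨_, (ENat.natCast_toNat (Ideal.height_ne_top
      (hV.primeIdealOf ⟨f x, eUV hxU'⟩).isPrime.ne_top)).symm⟩
  rw [ha, hb] at h1
  have h1' : a + tx = b + e := by exact_mod_cast h1
  rw [hfd x hxU] at hfdx
  rw [ringKrullDim_stalk_eq_height hU' x hxU', ringKrullDim_stalk_eq_height hV (f x) (eUV hxU'),
    ha, hb]
  rcases hd : ringKrullDim ((f.fiber (f x)).presheaf.stalk (f.asFiber x)) with _ | d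
  · rw [hd] at hfdx
    have h' : ((e : ℕ∞) : WithBot ℕ∞) = ⊥ + ((tx : ℕ∞) : WithBot ℕ∞) := hfdx
    rw [WithBot.bot_add] at h'
    exact absurd h' WithBot.coe_ne_bot
  · rcases d with _ | c
    · rw [hd] at hfdx
      have h' : ((e : ℕ∞) : WithBot ℕ∞) = ((⊤ : ℕ∞) : WithBot ℕ∞) + ((tx : ℕ∞) : WithBot ℕ∞) :=
        hfdx
      rw [← WithBot.coe_add, WithBot.coe_inj, top_add] at h'
      exact absurd h' (ENat.natCast_ne_top e)
    · rw [hd] at hfdx
      have h' : ((e : ℕ∞) : WithBot ℕ∞) = (((c : ℕ) : ℕ∞) : WithBot ℕ∞) + ((tx : ℕ∞) : WithBot ℕ∞) :=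
        hfdx
      have h'' : e = c + tx := by exact_mod_cast h'
      have : a = b + c := by omega
      change ((a : ℕ∞) : WithBot ℕ∞) = ((b : ℕ∞) : WithBot ℕ∞) + (((c : ℕ) : ℕ∞) : WithBot ℕ∞)
      rw [this]
      push_cast
      rfl

end Groth.Agent.H1.EquidimLoc
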