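import Mathlib
import Groth.Prelude.Def_EGA4b
import Groth.Prelude.Def_EGA43
import Groth.Agent.Lib.Helper1.EquidimLocB
import Groth.Agent.Lib.Helper1.HypSecC

set_option autoImplicit false
set_option linter.style.haveILetI false

universe u

namespace Groth.Agent.H1.EquidimMinPrime

open AlgebraicGeometry CategoryTheory CategoryTheory.Limits TopologicalSpace Topology
open Groth.Agent.H1.DimLoc Groth.Agent.H1.DimIneq Groth.Agent.H1.EquidimLoc

section Algebra

variable {R : Type u} [CommRing R] (P : Ideal R) [P.IsPrime]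
  (L : Type u) [CommRing L] [Algebra R L] [IsLocalization.AtPrime L P]

/-- the quotient of a localization `L = R_P` by the extension of a prime `r₀ ≤ P` has dimension
`ht (P / r₀)`. -/
theorem ringKrullDim_quotient_map (r₀ : Ideal R) [r₀.IsPrime] (hle : r₀ ≤ P) :
    ringKrullDim (L ⧸ r₀.map (algebraMap R L)) =
      ((P.map (Ideal.Quotient.mk r₀)).height : WithBot ℕ∞) := by
  haveI hp' : (P.map (Ideal.Quotient.mk r₀)).IsPrime :=
    Ideal.map_isPrime_of_surjective Ideal.Quotient.mk_surjective (by rw [Ideal.mk_ker]; exact hle)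
  have hM : Algebra.algebraMapSubmonoid (R ⧸ r₀) P.primeCompl =
      (P.map (Ideal.Quotient.mk r₀)).primeCompl := by
    ext d
    obtain ⟨r', rfl⟩ := Ideal.Quotient.mk_surjective d
    constructor
    · rintro ⟨r, hr, hrr'⟩
      change Ideal.Quotient.mk r₀ r' ∉ P.map (Ideal.Quotient.mk r₀)
      have hrr'' : Ideal.Quotient.mk r₀ r = Ideal.Quotient.mk r₀ r' := hrr'
      rw [← hrr'', Ideal.mem_quotient_iff_mem hle]
      exact hr
    · intro hr'
      change Ideal.Quotient.mk r₀ r' ∉ P.map (Ideal.Quotient.mk r₀) at hr'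
      rw [Ideal.mem_quotient_iff_mem hle] at hr'
      exact ⟨r', hr', rfl⟩
  haveI : IsLocalization.AtPrime (L ⧸ r₀.map (algebraMap R L))
      (P.map (Ideal.Quotient.mk r₀)) := by
    change IsLocalization (P.map (Ideal.Quotient.mk r₀)).primeCompl _
    rw [← hM]; infer_instance
  exact IsLocalization.AtPrime.ringKrullDim_eq_height (P.map (Ideal.Quotient.mk r₀)) _

theorem comap_le_of_isPrime (𝔭 : Ideal L) [𝔭.IsPrime] : 𝔭.comap (algebraMap R L) ≤ P := by
  have hdisj := ((IsLocalization.isPrime_iff_isPrime_disjoint P.primeCompl L 𝔭).1 inferInstance).2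
  intro r hr
  by_contra hrq
  exact Set.disjoint_left.1 hdisj hrq hr

/-- for a prime `𝔭` of `L = R_P`, `dim (L/𝔭) = ht (P / (𝔭 ∩ R))`. -/
theorem ringKrullDim_quotient_eq_height (𝔭 : Ideal L) [𝔭.IsPrime] :
    ringKrullDim (L ⧸ 𝔭) =
      ((P.map (Ideal.Quotient.mk (𝔭.comap (algebraMap R L)))).height : WithBot ℕ∞) := by
  have h1 : (𝔭.comap (algebraMap R L)).map (algebraMap R L) = 𝔭 :=
    IsLocalization.map_comap P.primeCompl L 𝔭
  have h2 := ringKrullDim_quotient_map P L (𝔭.comap (algebraMap R L)) (comap_le_of_isPrime P L 𝔭)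
  rw [h1] at h2
  exact h2

include P in
theorem comap_mem_minimalPrimes (𝔭 : Ideal L) (h𝔭 : 𝔭 ∈ minimalPrimes L) :
    𝔭.comap (algebraMap R L) ∈ minimalPrimes R := by
  have h1 := IsLocalization.minimalPrimes_map P.primeCompl L (⊥ : Ideal R)
  rw [Ideal.map_bot] at h1
  have hP' : 𝔭 ∈ (⊥ : Ideal L).minimalPrimes := h𝔭
  rw [h1, Set.mem_preimage] at hP'
  exact hP'

end Algebra

variable {X Y : Scheme.{u}}

theorem appLE_germ (f : X ⟶ Y) {U : X.Opens} {V : Y.Opens} (e : U ≤ f ⁻¹ᵁ V) (x : X)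
    (hx : x ∈ U) (hfx : f x ∈ V) :
    f.appLE V U e ≫ X.presheaf.germ U x hx = Y.presheaf.germ V (f x) hfx ≫ f.stalkMap x := by
  rw [Scheme.Hom.appLE, Category.assoc, X.presheaf.germ_res']
  exact (Scheme.Hom.germ_stalkMap f V x hfx).symm

theorem s3457 [IsLocallyNoetherian Y] (f : X ⟶ Y)
    [LocallyOfFiniteType f] (x : X) (h : EGA43.IsEquidimAt f x)
    (hcat : CAlg.IsUniversallyCatenary (Y.presheaf.stalk (f.base x))) :
    letI : Algebra (Y.residueField (f.base x)) (X.residueField x) :=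
      (f.residueFieldMap x).hom.toAlgebra
    ∀ 𝔭 ∈ minimalPrimes (X.presheaf.stalk x),
      ringKrullDim (X.presheaf.stalk x ⧸ 𝔭) +
          (Cardinal.toNat (Algebra.trdeg (Y.residueField (f.base x)) (X.residueField x)) :
            WithBot ℕ∞) =
        ringKrullDim (Y.presheaf.stalk (f.base x) ⧸ 𝔭.comap (f.stalkMap x).hom) +
          FlatMor.fibreDimAt f x := by
  have hcat' : CAlg.IsUniversallyCatenary (Y.presheaf.stalk (f x)) := hcat
  obtain ⟨e, U, hxU, hfd, -⟩ := Groth.Agent.H1.HypSec.exists_generic_of_isEquidimAt f x h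
  obtain ⟨V, hV, hfxV⟩ : ∃ V : Y.Opens, IsAffineOpen V ∧ f x ∈ V := by
    obtain ⟨_, ⟨V, hV, rfl⟩, hz, -⟩ :=
      Y.isBasis_affineOpens.exists_subset_of_mem_open (Set.mem_univ (f x)) isOpen_univ
    exact ⟨V, hV, hz⟩
  obtain ⟨U', hU', hxU', hU'le⟩ :=
    exists_isAffineOpen_mem_and_subset (x := x) (U := U ⊓ f ⁻¹ᵁ V) ⟨hxU, hfxV⟩
  have eUV : U' ≤ f ⁻¹ᵁ V := fun _ hz => (hU'le hz).2
  have eUU : U' ≤ U := fun _ hz => (hU'le hz).1
  obtain ⟨tx, htx, -⟩ := Groth.Agent.H1.DimFormula.exists_fibreDimAt_eq_stalk_add_trdeg f x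
  have htoNat : Cardinal.toNat (@Algebra.trdeg (Y.residueField (f.base x)) (X.residueField x) _ _
      (f.residueFieldMap x).hom.toAlgebra) = tx := by
    rw [show @Algebra.trdeg (Y.residueField (f.base x)) (X.residueField x) _ _
      (f.residueFieldMap x).hom.toAlgebra = (tx : Cardinal.{u}) from htx]
    exact Cardinal.toNat_natCast tx
  intro 𝔭 h𝔭
  haveI : 𝔭.IsPrime := h𝔭.1.1
  letI algB : Algebra Γ(X, U') (X.presheaf.stalk x) := X.presheaf.algebra_section_stalk ⟨x, hxU'⟩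
  haveI locB : IsLocalization.AtPrime (X.presheaf.stalk x)
      (hU'.primeIdealOf ⟨x, hxU'⟩).asIdeal := hU'.isLocalization_stalk ⟨x, hxU'⟩
  letI algA : Algebra Γ(Y, V) (Y.presheaf.stalk (f x)) :=
    Y.presheaf.algebra_section_stalk ⟨f x, eUV hxU'⟩
  haveI locA : IsLocalization.AtPrime (Y.presheaf.stalk (f x))
      (hV.primeIdealOf ⟨f x, eUV hxU'⟩).asIdeal := hV.isLocalization_stalk ⟨f x, eUV hxU'⟩
  set q₀ : Ideal Γ(X, U') := 𝔭.comap (algebraMap Γ(X, U') (X.presheaf.stalk x)) with hq₀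
  have hq₀min : q₀ ∈ minimalPrimes Γ(X, U') :=
    comap_mem_minimalPrimes (hU'.primeIdealOf ⟨x, hxU'⟩).asIdeal (X.presheaf.stalk x) 𝔭 h𝔭
  have hq₀le : q₀ ≤ (hU'.primeIdealOf ⟨x, hxU'⟩).asIdeal :=
    comap_le_of_isPrime (hU'.primeIdealOf ⟨x, hxU'⟩).asIdeal (X.presheaf.stalk x) 𝔭
  haveI : q₀.IsPrime := hq₀min.1.1
  set P : Spec Γ(X, U') := ⟨q₀, inferInstance⟩ with hP
  have hξU' : hU'.fromSpec P ∈ U' := by
    rw [← SetLike.mem_coe, ← hU'.range_fromSpec]; exact ⟨P, rfl⟩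
  have hprime := primeIdealOf_fromSpec hU' P hξU'
  have hξx : hU'.fromSpec P ⤳ x := by
    have h1 : P ⤳ hU'.primeIdealOf ⟨x, hxU'⟩ :=
      (PrimeSpectrum.le_iff_specializes (R := Γ(X, U')) P (hU'.primeIdealOf ⟨x, hxU'⟩)).1 hq₀le
    have := h1.map hU'.fromSpec.continuous
    rwa [hU'.fromSpec_primeIdealOf] at this
  have hdim0 : ringKrullDim (X.presheaf.stalk (hU'.fromSpec P)) = 0 := by
    rw [ringKrullDim_stalk_eq_height hU' _ hξU', hprime]
    have : q₀.height = 0 := Ideal.height_eq_zero_iff.2 hq₀min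
    change ((q₀.height : ℕ∞) : WithBot ℕ∞) = 0
    rw [this]; rfl
  have hgen : ∀ z : X, z ⤳ hU'.fromSpec P → z = hU'.fromSpec P := fun z hz =>
    eq_of_specializes_of_stalk_dim_eq_zero _ z hdim0 hz
  obtain ⟨tξ, htξ, hfdξ⟩ := Groth.Agent.H1.DimFormula.fibreDimAt_eq_trdeg_of_generic f
    (hU'.fromSpec P) (fun x' _ hx' => hgen x' hx')
  have htξe : tξ = e := by
    have := hfd _ (eUU hξU')
    rw [hfdξ] at this
    exact_mod_cast this
  have hrel := chart_relative_eq_enat f hU' hV eUV x (hU'.fromSpec P) hxU' hξU' hξx hcat'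
    tx tξ htx htξ
  -- the prime of `Γ(Y, V)` below `𝔭`
  have hcomm : ∀ a : Γ(Y, V), (f.stalkMap x).hom ((Y.presheaf.germ V (f x) (eUV hxU')).hom a) =
      (X.presheaf.germ U' x hxU').hom ((f.appLE V U' eUV).hom a) := by
    intro a
    have h1 := congrArg (fun g => (CommRingCat.Hom.hom g) a) (appLE_germ f eUV x hxU' (eUV hxU'))
    simpa only [CommRingCat.hom_comp, RingHom.comp_apply] using h1.symm
  have hp0 : (hV.primeIdealOf ⟨f (hU'.fromSpec P), eUV hξU'⟩).asIdeal =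
      Ideal.comap (f.appLE V U' eUV).hom (hU'.primeIdealOf ⟨hU'.fromSpec P, hξU'⟩).asIdeal :=
    (congrArg PrimeSpectrum.asIdeal
      (IsAffineOpen.comap_primeIdealOf_appLE V hV U' hU' eUV hξU')).symm
  have hpeq : (hV.primeIdealOf ⟨f (hU'.fromSpec P), eUV hξU'⟩).asIdeal =
      (𝔭.comap (f.stalkMap x).hom).comap (algebraMap Γ(Y, V) (Y.presheaf.stalk (f x))) := by
    rw [hp0, hprime]
    ext a
    change (f.appLE V U' eUV).hom a ∈ q₀ ↔
      (f.stalkMap x).hom ((Y.presheaf.germ V (f x) (eUV hxU')).hom a) ∈ 𝔭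
    rw [hcomm a]
    rfl
  haveI : (𝔭.comap (f.stalkMap x).hom).IsPrime := Ideal.comap_isPrime _ _
  have hdimX := ringKrullDim_quotient_eq_height (hU'.primeIdealOf ⟨x, hxU'⟩).asIdeal
    (X.presheaf.stalk x) 𝔭
  have hdimY := ringKrullDim_quotient_eq_height (hV.primeIdealOf ⟨f x, eUV hxU'⟩).asIdeal
    (Y.presheaf.stalk (f x)) (𝔭.comap (f.stalkMap x).hom)
  rw [hprime, hpeq, htξe] at hrel
  have hdimY' : ringKrullDim (Y.presheaf.stalk (f.base x) ⧸ 𝔭.comap (f.stalkMap x).hom) = _ :=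
    hdimY
  rw [hdimX, hdimY', hfd x hxU, htoNat]
  exact_mod_cast hrel

end Groth.Agent.H1.EquidimMinPrime
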