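import Mathlib
import Groth.Agent.Lib.Helper1.FlatNilpotent

/-!
# Lifting projectivity along nilpotent ideals
-/

set_option autoImplicit false

universe u

open Function TensorProduct

namespace Groth.Agent.H1.LiftProj

section endo

variable {R : Type u} [CommRing R] (I : Ideal R) (F : Type u) [AddCommGroup F] [Module R F]

/-- an endomorphism which dies modulo `I` maps into `I F` -/
theorem mem_smul_top_of_baseChange_eq_zero (φ : Module.End R F)
    (h : φ.baseChange (R ⧸ I) = 0) (x : F) : φ x ∈ I • (⊤ : Submodule R F) := by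
  have h1 : ((1 : R ⧸ I) ⊗ₜ[R] φ x : (R ⧸ I) ⊗[R] F) = 0 := by
    have := LinearMap.congr_fun h ((1 : R ⧸ I) ⊗ₜ[R] x)
    simpa using this
  have h2 := congrArg (TensorProduct.quotTensorEquivQuotSMul F I) h1
  rw [TensorProduct.quotTensorEquivQuotSMul_mk_one_tmul, map_zero,
    Submodule.Quotient.mk_eq_zero] at h2
  exact h2

theorem pow_apply_mem (φ : Module.End R F)
    (h : ∀ x, φ x ∈ I • (⊤ : Submodule R F)) (n : ℕ) (x : F) :
    (φ ^ n) x ∈ I ^ n • (⊤ : Submodule R F) := by
  induction n generalizing x with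
  | zero => simp
  | succ n ih =>
    have e1 : (φ ^ (n + 1)) x = φ ((φ ^ n) x) := by
      rw [pow_succ']
      rfl
    rw [e1]
    have h1 : ∀ y ∈ I ^ n • (⊤ : Submodule R F), φ y ∈ I ^ (n + 1) • (⊤ : Submodule R F) := by
      intro y hy
      refine Submodule.smul_induction_on hy ?_ ?_
      · intro r hr z _
        rw [map_smul, pow_succ, Submodule.mul_smul]
        exact Submodule.smul_mem_smul hr (h z)
      · intro y z hy hz
        rw [map_add]
        exact Submodule.add_mem _ hy hz
    exact h1 _ (ih x)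

theorem isNilpotent_of_baseChange_eq_zero (hI : IsNilpotent I) (φ : Module.End R F)
    (h : φ.baseChange (R ⧸ I) = 0) : IsNilpotent φ := by
  obtain ⟨n, hn⟩ := hI
  refine ⟨n, ?_⟩
  ext x
  have := pow_apply_mem I F φ (mem_smul_top_of_baseChange_eq_zero I F φ h) n x
  rw [hn, Ideal.zero_eq_bot, Submodule.bot_smul, Submodule.mem_bot] at this
  simpa using this

/-- endomorphisms of the reduction of a free module lift -/
theorem baseChange_surjective [Module.Free R F] (ψ : Module.End (R ⧸ I) ((R ⧸ I) ⊗[R] F)) :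
    ∃ φ : Module.End R F, φ.baseChange (R ⧸ I) = ψ := by
  let b := Module.Free.chooseBasis R F
  have hsurj : Surjective (TensorProduct.mk R (R ⧸ I) F 1) := by
    intro y
    induction y using TensorProduct.induction_on with
    | zero => exact ⟨0, map_zero _⟩
    | add y z hy hz =>
      obtain ⟨a, rfl⟩ := hy
      obtain ⟨c, rfl⟩ := hz
      exact ⟨a + c, map_add _ _ _⟩
    | tmul r x =>
      obtain ⟨r, rfl⟩ := Ideal.Quotient.mk_surjective r
      refine ⟨r • x, ?_⟩
      rw [TensorProduct.mk_apply, TensorProduct.tmul_smul, TensorProduct.smul_tmul']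
      congr 1
      rw [Algebra.smul_def, mul_one]
      rfl
  choose g hg using fun i => hsurj (ψ ((1 : R ⧸ I) ⊗ₜ[R] b i))
  refine ⟨b.constr R g, ?_⟩
  apply (Algebra.TensorProduct.basis (R ⧸ I) b).ext
  intro i
  rw [Algebra.TensorProduct.basis_apply, LinearMap.baseChange_tmul, Module.Basis.constr_basis]
  exact hg i

end endo

section main

variable {R : Type u} [CommRing R] (I : Ideal R)

/-- idempotents lift along ring homomorphisms with nil kernel (wrapper) -/
theorem lift_idem {A B : Type*} [Ring A] [Ring B] (f : A →+* B)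
    (hker : ∀ x : A, f x = 0 → IsNilpotent x) (eb : B) (heb : eb * eb = eb)
    (hr : ∃ a, f a = eb) : ∃ e : A, e * e = e ∧ f e = eb := by
  obtain ⟨e, he, h⟩ := exists_isIdempotentElem_eq_of_ker_isNilpotent f
    (fun x hx => hker x (RingHom.mem_ker.mp hx)) eb hr heb
  exact ⟨e, he, h⟩

/-- lifting idempotents of the reduction of a free module -/
theorem exists_idempotent_lift (hI : IsNilpotent I) (F : Type u) [AddCommGroup F] [Module R F]
    [Module.Free R F] (eb : Module.End (R ⧸ I) ((R ⧸ I) ⊗[R] F)) (heb : eb ∘ₗ eb = eb) :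
    ∃ e : Module.End R F, e ∘ₗ e = e ∧ e.baseChange (R ⧸ I) = eb :=
  lift_idem (Module.End.baseChangeHom R (R ⧸ I) F).toRingHom
    (fun x hx => isNilpotent_of_baseChange_eq_zero I F hI x hx) eb heb
    (baseChange_surjective I F eb)

theorem projective_aux (hI : IsNilpotent I)
    (M : Type u) [AddCommGroup M] [Module R M] [Module.Flat R M]
    [Module.Projective (R ⧸ I) ((R ⧸ I) ⊗[R] M)]
    (F : Type u) [AddCommGroup F] [Module R F] [Module.Free R F] (π : F →ₗ[R] M)
    (hπ : Surjective π) : Module.Projective R M := by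
  have hπb : Surjective (π.baseChange (R ⧸ I)) := LinearMap.lTensor_surjective _ hπ
  obtain ⟨sb, hsb⟩ := LinearMap.exists_rightInverse_of_surjective (π.baseChange (R ⧸ I))
    (LinearMap.range_eq_top.mpr hπb)
  have hsb' : ∀ w, π.baseChange (R ⧸ I) (sb w) = w := fun w => LinearMap.congr_fun hsb w
  obtain ⟨e, he, hρe⟩ := exists_idempotent_lift I hI F (sb ∘ₗ π.baseChange (R ⧸ I)) (by
    rw [LinearMap.comp_assoc, ← LinearMap.comp_assoc (π.baseChange (R ⧸ I)), hsb,
      LinearMap.id_comp])
  have hri : e.rangeRestrict ∘ₗ (LinearMap.range e).subtype = LinearMap.id := by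
    ext ⟨y, x, rfl⟩
    exact LinearMap.congr_fun he x
  haveI : Module.Projective R (LinearMap.range e) :=
    Module.Projective.of_split (LinearMap.range e).subtype e.rangeRestrict hri
  have hrj : e.rangeRestrict.baseChange (R ⧸ I) ∘ₗ
      (LinearMap.range e).subtype.baseChange (R ⧸ I) = LinearMap.id := by
    rw [← LinearMap.baseChange_comp, hri, LinearMap.baseChange_id]
  have hjr : (LinearMap.range e).subtype.baseChange (R ⧸ I) ∘ₗ
      e.rangeRestrict.baseChange (R ⧸ I) = sb ∘ₗ π.baseChange (R ⧸ I) := by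
    rw [← LinearMap.baseChange_comp, ← hρe]
    rfl
  have hrj' : ∀ x, e.rangeRestrict.baseChange (R ⧸ I)
      ((LinearMap.range e).subtype.baseChange (R ⧸ I) x) = x := fun x => LinearMap.congr_fun hrj x
  have hjr' : ∀ y, (LinearMap.range e).subtype.baseChange (R ⧸ I)
      (e.rangeRestrict.baseChange (R ⧸ I) y) = sb (π.baseChange (R ⧸ I) y) :=
    fun y => LinearMap.congr_fun hjr y
  have hφb : ∀ x, (π ∘ₗ (LinearMap.range e).subtype).lTensor (R ⧸ I) x =
      π.baseChange (R ⧸ I) ((LinearMap.range e).subtype.baseChange (R ⧸ I) x) := by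
    intro x
    rw [LinearMap.lTensor_comp]
    rfl
  have hbij : Bijective ((π ∘ₗ (LinearMap.range e).subtype).lTensor (R ⧸ I)) := by
    constructor
    · rw [injective_iff_map_eq_zero]
      intro x hx
      rw [hφb] at hx
      have h1 := hjr' ((LinearMap.range e).subtype.baseChange (R ⧸ I) x)
      rw [hrj', hx, map_zero] at h1
      rw [← hrj' x, h1, map_zero]
    · intro y
      refine ⟨e.rangeRestrict.baseChange (R ⧸ I) (sb y), ?_⟩
      rw [hφb, hjr', hsb', hsb']
  have hφ := Groth.Agent.H1.bijective_of_lTensor_bijective_of_isNilpotent hI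
    (π ∘ₗ (LinearMap.range e).subtype) hbij
  exact Module.Projective.of_equiv' (LinearEquiv.ofBijective _ hφ)

/-- **Lifting projectivity**: a flat module which is projective modulo a nilpotent ideal is
projective. -/
theorem projective_of_flat_of_projective_quotient (hI : IsNilpotent I)
    (M : Type u) [AddCommGroup M] [Module R M] [Module.Flat R M]
    [Module.Projective (R ⧸ I) ((R ⧸ I) ⊗[R] M)] : Module.Projective R M :=
  projective_aux I hI M (M →₀ R) (Finsupp.linearCombination R (id : M → M))
    (Finsupp.linearCombination_id_surjective R M)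

end main

end Groth.Agent.H1.LiftProj
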