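import Mathlib
import Groth.Prelude.Def_SGA3x
import Groth.Agent.Lib.Helper1.LiftProj

/-!
# Essentially free morphisms (SGA3 VI_B): flatness, artinian bases, base change
-/

set_option autoImplicit false
universe u
open CategoryTheory CategoryTheory.Limits AlgebraicGeometry TensorProduct

namespace Groth.Agent.H1.EssFree

/-- flatness of ring maps descends along faithfully flat ring maps -/
theorem flat_codescendsAlong_faithfullyFlat :
    RingHom.CodescendsAlong (fun f => f.Flat) RingHom.FaithfullyFlat := by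
  apply RingHom.CodescendsAlong.mk _ RingHom.Flat.respectsIso
  introv h H
  rw [RingHom.faithfullyFlat_algebraMap_iff] at h
  rw [RingHom.flat_algebraMap_iff] at H ⊢
  exact Module.Flat.of_flat_tensorProduct R T S

instance flat_descendsAlong :
    MorphismProperty.DescendsAlong @Flat (@Surjective ⊓ @Flat ⊓ @QuasiCompact) :=
  HasRingHomProperty.descendsAlong_flat flat_codescendsAlong_faithfullyFlat

/-- a flat module over an artinian ring is projective -/
theorem projective_of_flat_of_isArtinianRing (R : Type u) [CommRing R] [IsArtinianRing R]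
    (M : Type u) [AddCommGroup M] [Module R M] [Module.Flat R M] : Module.Projective R M := by
  haveI : Module.Projective (R ⧸ Ring.jacobson R) ((R ⧸ Ring.jacobson R) ⊗[R] M) :=
    Module.projective_of_isSemisimpleRing _ _
  exact Groth.Agent.H1.LiftProj.projective_of_flat_of_projective_quotient (Ring.jacobson R)
    IsSemiprimaryRing.isNilpotent M

/-- projectivity is preserved by pushouts of commutative rings -/
theorem projective_of_isPushout {R A B C : CommRingCat.{u}} {a : R ⟶ A} {b : R ⟶ B}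
    {a' : A ⟶ C} {b' : B ⟶ C} (h : IsPushout a b a' b')
    (hA : letI := a.hom.toAlgebra; Module.Projective R A) :
    letI := b'.hom.toAlgebra; Module.Projective B C := by
  letI := a.hom.toAlgebra
  letI := b.hom.toAlgebra
  letI := a'.hom.toAlgebra
  letI := b'.hom.toAlgebra
  letI : Algebra R C := (a ≫ a').hom.toAlgebra
  haveI : IsScalarTower R A C := IsScalarTower.of_algebraMap_eq (fun x => rfl)
  haveI : IsScalarTower R B C := IsScalarTower.of_algebraMap_eq (fun x => by
    show (a ≫ a').hom x = (b ≫ b').hom x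
    rw [h.w])
  have h' : IsPushout (CommRingCat.ofHom (algebraMap R A)) (CommRingCat.ofHom (algebraMap R B))
      (CommRingCat.ofHom (algebraMap A C)) (CommRingCat.ofHom (algebraMap B C)) := h
  have hp : Algebra.IsPushout R A B C := CommRingCat.isPushout_iff_isPushout.mp h'
  have hp' : Algebra.IsPushout R B A C := hp.symm
  haveI : Module.Projective R A := hA
  exact Module.Projective.of_equiv hp'.out.equiv

/-- (a), first half: an essentially free morphism is flat -/
theorem flat_of_isEssentiallyFree (X S : Scheme.{u}) (f : X ⟶ S)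
    (h : SGA3x.IsEssentiallyFree f) : Flat f := by
  apply IsZariskiLocalAtTarget.of_forall_exists_morphismRestrict (P := @Flat)
  intro s
  obtain ⟨U, hsU, hU, S', hS', g, hgflat, hgsurj, hV⟩ := h s
  refine ⟨U, hsU, ?_⟩
  haveI : IsAffine (U : Scheme.{u}) := hU
  haveI := hS'
  have hsnd : Flat (pullback.snd f (g ≫ U.ι)) := by
    choose V hxV hVaff hVproj using hV
    apply IsZariskiLocalAtSource.of_iSup_eq_top (P := @Flat) V
    · exact top_le_iff.mp fun x _ => TopologicalSpace.Opens.mem_iSup.mpr ⟨x, hxV x⟩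
    · intro x
      haveI : IsAffine ((V x : (pullback f (g ≫ U.ι)).Opens) : Scheme.{u}) := hVaff x
      rw [HasRingHomProperty.iff_of_isAffine (P := @Flat)]
      letI := ((V x).ι ≫ pullback.snd f (g ≫ U.ι)).appTop.hom.toAlgebra
      haveI := hVproj x
      show Module.Flat _ _
      infer_instance
  let l : pullback f (g ≫ U.ι) ⟶ (f ⁻¹ᵁ U : Scheme.{u}) :=
    (isPullback_morphismRestrict f U).lift (pullback.snd f (g ≫ U.ι) ≫ g)
      (pullback.fst f (g ≫ U.ι)) (by rw [Category.assoc, pullback.condition])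
  have hl1 : l ≫ (f ∣_ U) = pullback.snd f (g ≫ U.ι) ≫ g := IsPullback.lift_fst _ _ _ _
  have hl2 : l ≫ (f ⁻¹ᵁ U).ι = pullback.fst f (g ≫ U.ι) := IsPullback.lift_snd _ _ _ _
  have hbig : IsPullback (pullback.snd f (g ≫ U.ι)) (l ≫ (f ⁻¹ᵁ U).ι) (g ≫ U.ι) f := by
    rw [hl2]; exact (IsPullback.of_hasPullback f (g ≫ U.ι)).flip
  have hsq : IsPullback (pullback.snd f (g ≫ U.ι)) l g (f ∣_ U) :=
    IsPullback.of_bot hbig hl1.symm (isPullback_morphismRestrict f U)
  exact MorphismProperty.of_isPullback_of_descendsAlong (P := @Flat)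
    (Q := @Surjective ⊓ @Flat ⊓ @QuasiCompact) hsq ⟨⟨hgsurj, hgflat⟩, inferInstance⟩ hsnd

/-- (a), second half: over an artinian ring flat implies essentially free -/
theorem isEssentiallyFree_of_flat_of_isArtinianRing (A : Type u) [CommRing A] [IsArtinianRing A]
    (X : Scheme.{u}) (f : X ⟶ Spec (CommRingCat.of A)) (hf : Flat f) :
    SGA3x.IsEssentiallyFree f := by
  intro s
  haveI : IsArtinianRing Γ(Spec (CommRingCat.of A), ⊤) :=
    RingEquiv.isArtinianRing (Scheme.ΓSpecIso (CommRingCat.of A)).symm.commRingCatIsoToRingEquiv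
  refine ⟨⊤, trivial, isAffineOpen_top _, Spec (CommRingCat.of A), inferInstance,
    (Scheme.topIso (Spec (CommRingCat.of A))).inv, inferInstance, inferInstance, ?_⟩
  intro x
  obtain ⟨_, ⟨V : (pullback f ((Scheme.topIso (Spec (CommRingCat.of A))).inv ≫
      (⊤ : (Spec (CommRingCat.of A)).Opens).ι)).Opens, hV, rfl⟩, hxV, -⟩ :=
    (pullback f ((Scheme.topIso (Spec (CommRingCat.of A))).inv ≫
      (⊤ : (Spec (CommRingCat.of A)).Opens).ι)).isBasis_affineOpens.exists_subset_of_mem_open
      (Set.mem_univ x) isOpen_univ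
  refine ⟨V, hxV, hV, ?_⟩
  haveI : IsAffine (V : Scheme.{u}) := hV
  have hfl := (V.ι ≫ pullback.snd f ((Scheme.topIso (Spec (CommRingCat.of A))).inv ≫
      (⊤ : (Spec (CommRingCat.of A)).Opens).ι)).flat_appTop
  letI := (V.ι ≫ pullback.snd f ((Scheme.topIso (Spec (CommRingCat.of A))).inv ≫
      (⊤ : (Spec (CommRingCat.of A)).Opens).ι)).appTop.hom.toAlgebra
  haveI : Module.Flat Γ(Spec (CommRingCat.of A), ⊤) Γ(V, ⊤) := hfl
  exact projective_of_flat_of_isArtinianRing _ _

/-- (b): everything over a field is essentially free -/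
theorem isEssentiallyFree_of_field (k : Type u) [Field k] (X : Scheme.{u})
    (f : X ⟶ Spec (CommRingCat.of k)) : SGA3x.IsEssentiallyFree f := by
  haveI : Subsingleton ↥(Spec (CommRingCat.of k)) :=
    inferInstanceAs (Subsingleton (PrimeSpectrum k))
  exact isEssentiallyFree_of_flat_of_isArtinianRing k X f inferInstance

/-- (c): essential freeness is stable under base change -/
theorem isEssentiallyFree_baseChange (X S T : Scheme.{u}) (f : X ⟶ S) (g : T ⟶ S)
    (hf : SGA3x.IsEssentiallyFree f) : SGA3x.IsEssentiallyFree (pullback.snd f g) := by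
  intro t
  obtain ⟨U, hsU, hU, S₁, hS₁, h, hflat, hsurj, hV⟩ := hf (g.base t)
  haveI : IsAffine (U : Scheme.{u}) := hU
  haveI := hS₁
  obtain ⟨_, ⟨W : T.Opens, hW, rfl⟩, htW, hWU⟩ :=
    T.isBasis_affineOpens.exists_subset_of_mem_open
      (show t ∈ ((g ⁻¹ᵁ U : T.Opens) : Set T) from hsU) (g ⁻¹ᵁ U).isOpen
  haveI : IsAffine (W : Scheme.{u}) := hW
  have hle : W ≤ g ⁻¹ᵁ U := hWU
  let gW : (W : Scheme.{u}) ⟶ (U : Scheme.{u}) := g.resLE U W hle
  have hgW : gW ≫ U.ι = W.ι ≫ g := Scheme.Hom.resLE_comp_ι g hle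
  refine ⟨W, htW, hW, pullback h gW, inferInstance, pullback.snd h gW, inferInstance,
    inferInstance, ?_⟩
  intro x
  -- the comparison map to the pullback along `h ≫ U.ι`
  have hbot : pullback.fst h gW ≫ h ≫ U.ι = (pullback.snd h gW ≫ W.ι) ≫ g := by
    rw [← Category.assoc, pullback.condition, Category.assoc, hgW, Category.assoc]
  have key : pullback.fst (pullback.snd f g) (pullback.snd h gW ≫ W.ι) ≫ pullback.fst f g ≫ f =
      pullback.snd (pullback.snd f g) (pullback.snd h gW ≫ W.ι) ≫ pullback.fst h gW ≫ h ≫ U.ι := by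
    rw [pullback.condition, pullback.condition_assoc, hbot]
  let θ : pullback (pullback.snd f g) (pullback.snd h gW ≫ W.ι) ⟶ pullback f (h ≫ U.ι) :=
    pullback.lift
      (pullback.fst (pullback.snd f g) (pullback.snd h gW ≫ W.ι) ≫ pullback.fst f g)
      (pullback.snd (pullback.snd f g) (pullback.snd h gW ≫ W.ι) ≫ pullback.fst h gW)
      (by simp only [Category.assoc]; exact key)
  have hθ1 : θ ≫ pullback.fst f (h ≫ U.ι) =
      pullback.fst (pullback.snd f g) (pullback.snd h gW ≫ W.ι) ≫ pullback.fst f g :=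
    pullback.lift_fst _ _ _
  have hθ2 : θ ≫ pullback.snd f (h ≫ U.ι) =
      pullback.snd (pullback.snd f g) (pullback.snd h gW ≫ W.ι) ≫ pullback.fst h gW :=
    pullback.lift_snd _ _ _
  have houter : IsPullback
      (pullback.fst (pullback.snd f g) (pullback.snd h gW ≫ W.ι) ≫ pullback.fst f g)
      (pullback.snd (pullback.snd f g) (pullback.snd h gW ≫ W.ι)) f
      ((pullback.snd h gW ≫ W.ι) ≫ g) :=
    (IsPullback.of_hasPullback (pullback.snd f g) (pullback.snd h gW ≫ W.ι)).paste_horiz
      (IsPullback.of_hasPullback f g)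
  have houter' : IsPullback (θ ≫ pullback.fst f (h ≫ U.ι))
      (pullback.snd (pullback.snd f g) (pullback.snd h gW ≫ W.ι)) f
      (pullback.fst h gW ≫ h ≫ U.ι) := by
    rw [hθ1, hbot]; exact houter
  have hθpb : IsPullback θ (pullback.snd (pullback.snd f g) (pullback.snd h gW ≫ W.ι))
      (pullback.snd f (h ≫ U.ι)) (pullback.fst h gW) :=
    IsPullback.of_right houter' hθ2 (IsPullback.of_hasPullback f (h ≫ U.ι))
  obtain ⟨V₁, hxV₁, hV₁aff, hproj⟩ := hV (θ.base x)
  haveI : IsAffine (V₁ : Scheme.{u}) := hV₁aff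
  have hVpb : IsPullback (θ ∣_ V₁)
      ((θ ⁻¹ᵁ V₁).ι ≫ pullback.snd (pullback.snd f g) (pullback.snd h gW ≫ W.ι))
      (V₁.ι ≫ pullback.snd f (h ≫ U.ι)) (pullback.fst h gW) :=
    (isPullback_morphismRestrict θ V₁).paste_vert hθpb
  have hVaff : IsAffine ((θ ⁻¹ᵁ V₁ : _) : Scheme.{u}) := IsAffine.of_isPullback hVpb
  refine ⟨θ ⁻¹ᵁ V₁, hxV₁, hVaff, ?_⟩
  exact projective_of_isPushout (isPushout_appTop_of_isPullback hVpb) hproj

end Groth.Agent.H1.EssFree
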