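import Mathlib
import Groth.Agent.Lib.Helper1.EtLocSep

set_option autoImplicit false
universe u

namespace Groth.Agent.H1.EtLocSep2

open AlgebraicGeometry CategoryTheory Limits
open Groth.Agent.H1.EtLocFinal

set_option backward.isDefEq.respectTransparency false in
/-- Generic separated final statement. -/
theorem sep_main' {Q : MorphismProperty Scheme.{u}} [Q.RespectsIso]
    (hQres : ∀ {A B : Scheme.{u}} (ψ : A ⟶ B) (V : B.Opens), Q ψ → Q (ψ ∣_ V))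
    {X S : Scheme.{u}} (f : X ⟶ S) [IsSeparated f] (s : S) {ι : Type} [Finite ι] (x : ι → X)
    (hinj : Function.Injective x) (hs : ∀ i, f (x i) = s)
    (W : X.Opens) (hxW : ∀ i, x i ∈ W) [LocallyOfFiniteType (W.ι ≫ f)]
    [FormallyUnramified (W.ι ≫ f)]
    (hloc : ∀ (U : Scheme.{u}) (g : U ⟶ S) (V : (pullback (W.ι ≫ f) g).Opens) (u : U)
      (v : ↥(V : Scheme.{u})),
      IsFinite (V.ι ≫ pullback.snd (W.ι ≫ f) g) →
      (V.ι ≫ pullback.snd (W.ι ≫ f) g) v = u →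
      (∀ w, (V.ι ≫ pullback.snd (W.ι ≫ f) g) w = u → w = v) →
      Function.Surjective ((V.ι ≫ pullback.snd (W.ι ≫ f) g).residueFieldMap v).hom →
      ∃ U' : U.Opens, u ∈ U' ∧ Q ((V.ι ≫ pullback.snd (W.ι ≫ f) g) ∣_ U')) :
    ∃ (U : Scheme.{u}) (g : U ⟶ S) (u : U), Etale g ∧ g u = s ∧
      ∃ (n : ℕ) (Wc : (pullback f g).Opens) (V : Fin n → (pullback f g).Opens),
        Wc ⊔ (⨆ k, V k) = ⊤ ∧ (∀ k, Disjoint Wc (V k)) ∧
        (∀ k k', k ≠ k' → Disjoint (V k) (V k')) ∧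
        (∀ k, Q ((V k).ι ≫ pullback.snd f g) ∧
          ∃ w : ↑(pullback f g), w ∈ V k ∧ pullback.snd f g w = u) ∧
        (∀ (w : ↑(pullback f g)) (i : ι), w ∈ Wc → pullback.snd f g w = u →
          pullback.fst f g w ≠ x i) ∧
        ((∀ (U : Scheme.{u}) (g : U ⟶ S), IsClosedMap (pullback.snd (W.ι ≫ f) g)) →
          (∀ y : X, y ∈ W → f y = s → ∃ i, y = x i) →
          ∀ w : ↑(pullback f g), pullback.fst f g w ∈ W → w ∉ Wc) := by
  classical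
  -- points of W
  let x' : ι → ↥(W : Scheme.{u}) := fun i => ⟨x i, hxW i⟩
  have hx'inj : Function.Injective x' := fun i i' h => hinj (congrArg Subtype.val h)
  have hs' : ∀ i, (W.ι ≫ f) (x' i) = s := fun i => hs i
  haveI : LocallyQuasiFinite (W.ι ≫ f) := locallyQuasiFinite_of_unramified _
  have hqf : ∀ i, (W.ι ≫ f).QuasiFiniteAt (x' i) := fun i => (W.ι ≫ f).quasiFiniteAt _
  obtain ⟨U, g, u, hg, hgu, n, idx, V, v, hvinj, H, Hall⟩ :=
    EtLocCore.core (W.ι ≫ f) s x' hx'inj hs' hqf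
  haveI := hg
  haveI : FormallyUnramified (pullback.snd (W.ι ≫ f) g) :=
    MorphismProperty.pullback_snd (P := @FormallyUnramified) _ _ inferInstance
  haveI : IsSeparated (W.ι ≫ f) := inferInstance
  haveI : IsSeparated (pullback.snd (W.ι ≫ f) g) := inferInstance
  -- neighbourhoods on which Q holds
  have hU' : ∀ k, ∃ U' : U.Opens, u ∈ U' ∧
      Q (((V k).ι ≫ pullback.snd (W.ι ≫ f) g) ∣_ U') := by
    intro k
    obtain ⟨Hk, -, hpi⟩ := H k
    have hsurj := surjective_residueFieldMap_of_pi (pullback.snd (W.ι ≫ f) g) (v k) hpi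
    let v' : ↥((V k : (pullback (W.ι ≫ f) g).Opens) : Scheme.{u}) := ⟨v k, Hk.mem⟩
    refine hloc U g (V k) u v' Hk.finite Hk.snd_eq ?_ ?_
    · intro w hw
      apply Subtype.ext
      exact Hk.uniq w.1 w.2 hw
    · have hcomp : ⇑(((V k).ι ≫ pullback.snd (W.ι ≫ f) g).residueFieldMap v').hom =
          ⇑((V k).ι.residueFieldMap v').hom ∘
            ⇑((pullback.snd (W.ι ≫ f) g).residueFieldMap ((V k).ι v')).hom := by
        rw [Scheme.residueFieldMap_comp]; rfl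
      rw [hcomp]
      exact (ConcreteCategory.bijective_of_isIso ((V k).ι.residueFieldMap v')).surjective.comp
        hsurj
  choose U'k huU'k hQk using hU'
  -- the closed sets to remove
  have hVclosed : ∀ k, IsClosed (V k : Set ↑(pullback (W.ι ≫ f) g)) := fun k =>
    (H k).1.isClosed
  let Z : Fin n → Fin n → Set U := fun k k' =>
    (pullback.snd (W.ι ≫ f) g) '' ((V k : Set ↑(pullback (W.ι ≫ f) g)) ∩ V k')
  have hZclosed : ∀ k k', IsClosed (Z k k') := by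
    intro k k'
    haveI := (H k).1.finite
    have h1 : Z k k' = ((V k).ι ≫ pullback.snd (W.ι ≫ f) g) '' ((V k).ι ⁻¹' (V k' : Set _)) := by
      ext z
      constructor
      · rintro ⟨w, ⟨hw1, hw2⟩, rfl⟩
        let w' : ↥((V k : (pullback (W.ι ≫ f) g).Opens) : Scheme.{u}) := ⟨w, hw1⟩
        exact ⟨w', hw2, rfl⟩
      · rintro ⟨w', hw', rfl⟩
        exact ⟨(V k).ι w', ⟨w'.2, hw'⟩, rfl⟩
    rw [h1]
    exact ((V k).ι ≫ pullback.snd (W.ι ≫ f) g).isClosedMap _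
      ((hVclosed k').preimage (V k).ι.continuous)
  have huZ : ∀ k k', k ≠ k' → u ∉ Z k k' := by
    rintro k k' hne ⟨w, ⟨hw1, hw2⟩, hwu⟩
    apply hne
    apply hvinj
    rw [← (H k).1.uniq w hw1 hwu, ← (H k').1.uniq w hw2 hwu]
  let Z₀ : Set U := (pullback.snd (W.ι ≫ f) g) ''
    (⋃ k, (V k : Set ↑(pullback (W.ι ≫ f) g)))ᶜ
  let Z₀' : Set U := if IsClosed Z₀ ∧ u ∉ Z₀ then Z₀ else ∅
  have hZ₀'closed : IsClosed Z₀' := by
    by_cases h : IsClosed Z₀ ∧ u ∉ Z₀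
    · simp only [Z₀', if_pos h]; exact h.1
    · simp only [Z₀', if_neg h]; exact isClosed_empty
  have huZ₀' : u ∉ Z₀' := by
    by_cases h : IsClosed Z₀ ∧ u ∉ Z₀
    · simp only [Z₀', if_pos h]; exact h.2
    · simp only [Z₀', if_neg h]; exact Set.notMem_empty u
  let U' : U.Opens := ⟨((⋂ k, (U'k k : Set U)) ∩
    ⋂ p : {p : Fin n × Fin n // p.1 ≠ p.2}, (Z p.1.1 p.1.2)ᶜ) ∩ Z₀'ᶜ,
    ((isOpen_iInter_of_finite fun k => (U'k k).2).inter
      (isOpen_iInter_of_finite fun p => (hZclosed _ _).isOpen_compl)).inter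
      hZ₀'closed.isOpen_compl⟩
  have huU' : u ∈ U' :=
    ⟨⟨Set.mem_iInter.mpr huU'k, Set.mem_iInter.mpr fun p => huZ _ _ p.2⟩, huZ₀'⟩
  have hU'le : ∀ k, U' ≤ U'k k := fun k z hz => Set.mem_iInter.mp hz.1.1 k
  have hU'Z : ∀ k k', k ≠ k' → ∀ z ∈ U', z ∉ Z k k' := fun k k' hne z hz =>
    Set.mem_iInter.mp hz.1.2 ⟨(k, k'), hne⟩
  have hU'Z₀ : ∀ z ∈ U', z ∉ Z₀' := fun z hz => hz.2
  have hQ' : ∀ k, Q (((V k).ι ≫ pullback.snd (W.ι ≫ f) g) ∣_ U') := fun k =>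
    restrict_le hQres _ (hU'le k) (hQk k)
  let u' : ↥(U' : Scheme.{u}) := ⟨u, huU'⟩
  let Vf : Fin n → (pullback f (U'.ι ≫ g)).Opens := fun k =>
    jMap f W g U' ''ᵁ (cMap f W g U' ⁻¹ᵁ V k)
  -- closedness of the final opens
  have hVfclosed : ∀ k, IsClosed (Vf k : Set ↑(pullback f (U'.ι ≫ g))) := by
    intro k
    haveI := (H k).1.finite
    have : IsFinite ((Vf k).ι ≫ pullback.snd f (U'.ι ≫ g)) :=
      transport_Q (Q := @IsFinite) f W g U' (V k) inferInstance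
    exact EtLocSep.isClosed_of_isFinite (pullback.snd f (U'.ι ≫ g)) (Vf k) this
  -- disjointness
  have hVfdisj : ∀ k k', k ≠ k' → ∀ w, w ∈ Vf k → w ∉ Vf k' := by
    rintro k k' hne w hwk hwk'
    obtain ⟨t, ht, hwt⟩ := hwk
    obtain ⟨t', ht', hwt'⟩ := hwk'
    have hwt2 : jMap f W g U' t = w := hwt
    have hwt2' : jMap f W g U' t' = w := hwt'
    have : t' = t := (jMap f W g U').injective (hwt2'.trans hwt2.symm)
    subst this
    refine hU'Z k k' hne (U'.ι (pullback.snd (W.ι ≫ f) (U'.ι ≫ g) t'))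
      (pullback.snd (W.ι ≫ f) (U'.ι ≫ g) t').2 ?_
    refine ⟨cMap f W g U' t', ⟨ht, ht'⟩, ?_⟩
    rw [← Scheme.Hom.comp_apply, cMap_snd, Scheme.Hom.comp_apply]
  -- covering of the relevant points
  have hcover : ∀ (w : ↑(pullback f (U'.ι ≫ g))) (i : ι),
      pullback.snd f (U'.ι ≫ g) w = u' → pullback.fst f (U'.ι ≫ g) w = x i →
      ∃ k, w ∈ Vf k := by
    intro w i hw1 hw2
    obtain ⟨t, hwt⟩ := mem_range_jMap f W g U' w (by rw [hw2]; exact hxW i)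
    subst hwt
    have hsnd : pullback.snd (W.ι ≫ f) g (cMap f W g U' t) = u := by
      rw [← Scheme.Hom.comp_apply, cMap_snd, Scheme.Hom.comp_apply]
      rw [← Scheme.Hom.comp_apply, jMap_snd] at hw1
      rw [hw1]; rfl
    have hfst : pullback.fst (W.ι ≫ f) g (cMap f W g U' t) = x' i := by
      rw [← Scheme.Hom.comp_apply, cMap_fst]
      apply W.ι.injective
      rw [← Scheme.Hom.comp_apply, ← jMap_fst, Scheme.Hom.comp_apply, hw2]
      rfl
    obtain ⟨k, hk, hck⟩ := Hall _ i hsnd hfst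
    refine ⟨k, ⟨t, ?_, rfl⟩⟩
    change cMap f W g U' t ∈ V k
    rw [hck]; exact (H k).1.mem
  let Wc : (pullback f (U'.ι ≫ g)).Opens :=
    ⟨(⋃ k, (Vf k : Set ↑(pullback f (U'.ι ≫ g))))ᶜ,
      (isClosed_iUnion_of_finite hVfclosed).isOpen_compl⟩
  refine ⟨U', U'.ι ≫ g, u', inferInstance, hgu, n, Wc, Vf, ?_, ?_, ?_, ?_, ?_, ?_⟩
  · rw [eq_top_iff]
    intro w _
    by_cases hw : w ∈ ⋃ k, (Vf k : Set ↑(pullback f (U'.ι ≫ g)))
    · obtain ⟨k, hk⟩ := Set.mem_iUnion.mp hw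
      exact (le_sup_right : (⨆ k, Vf k) ≤ Wc ⊔ ⨆ k, Vf k)
        ((le_iSup Vf k : Vf k ≤ ⨆ k, Vf k) hk)
    · exact (le_sup_left : Wc ≤ Wc ⊔ ⨆ k, Vf k) hw
  · intro k
    rw [disjoint_iff, eq_bot_iff]
    rintro w ⟨hw1, hw2⟩
    exact (hw1 (Set.mem_iUnion.mpr ⟨k, hw2⟩)).elim
  · intro k k' hne
    rw [disjoint_iff, eq_bot_iff]
    rintro w ⟨hw1, hw2⟩
    exact (hVfdisj k k' hne w hw1 hw2).elim
  · intro k
    refine ⟨transport_Q f W g U' (V k) (hQ' k), ?_⟩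
    obtain ⟨t, ht1, ht2⟩ := Scheme.exists_preimage_of_isPullback (isPullback_c f W g U') (v k) u'
      (H k).1.snd_eq
    refine ⟨jMap f W g U' t, ⟨t, ?_, rfl⟩, ?_⟩
    · change cMap f W g U' t ∈ V k
      rw [ht1]; exact (H k).1.mem
    · rw [← Scheme.Hom.comp_apply, jMap_snd]; exact ht2
  · intro w i hwc hw1 hw2
    obtain ⟨k, hk⟩ := hcover w i hw1 hw2
    exact hwc (Set.mem_iUnion.mpr ⟨k, hk⟩)
  · intro hcl hall w hwW hwc
    have hZ₀ : IsClosed Z₀ ∧ u ∉ Z₀ := by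
      refine ⟨hcl U g _ (isOpen_iUnion fun k => (V k).2).isClosed_compl, ?_⟩
      rintro ⟨t, ht, htu⟩
      apply ht
      obtain ⟨i, hi⟩ := hall (W.ι (pullback.fst (W.ι ≫ f) g t))
        (pullback.fst (W.ι ≫ f) g t).2 (by
          have h1 : f (W.ι (pullback.fst (W.ι ≫ f) g t)) =
              (pullback.fst (W.ι ≫ f) g ≫ W.ι ≫ f) t := rfl
          rw [h1, pullback.condition, Scheme.Hom.comp_apply, htu, hgu])
      have hfst : pullback.fst (W.ι ≫ f) g t = x' i := Subtype.ext hi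
      obtain ⟨k, -, hk⟩ := Hall t i htu hfst
      exact Set.mem_iUnion.mpr ⟨k, hk ▸ (H k).1.mem⟩
    have hZ₀eq : Z₀' = Z₀ := by simp only [Z₀', if_pos hZ₀]
    obtain ⟨t, hwt⟩ := mem_range_jMap f W g U' w hwW
    subst hwt
    refine hU'Z₀ (U'.ι (pullback.snd (W.ι ≫ f) (U'.ι ≫ g) t))
      (pullback.snd (W.ι ≫ f) (U'.ι ≫ g) t).2 ?_
    rw [hZ₀eq]
    refine ⟨cMap f W g U' t, ?_, ?_⟩
    · intro hmem
      obtain ⟨k, hk⟩ := Set.mem_iUnion.mp hmem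
      exact hwc (Set.mem_iUnion.mpr ⟨k, ⟨t, hk, rfl⟩⟩)
    · rw [← Scheme.Hom.comp_apply, cMap_snd, Scheme.Hom.comp_apply]

end Groth.Agent.H1.EtLocSep2
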