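import Mathlib

/-! Helper1: sections of étale morphisms and universal homeomorphisms (topological invariance of
the étale site, full faithfulness part). -/

set_option autoImplicit false
universe u

open CategoryTheory CategoryTheory.Limits AlgebraicGeometry MorphismProperty

namespace Groth.Agent.H1.EtSections

/-- sections of an unramified morphism are open immersions. -/
theorem isOpenImmersion_section {P Y : Scheme.{u}} (p : P ⟶ Y) [FormallyUnramified p]
    [LocallyOfFiniteType p] (s : Y ⟶ P) (hs : s ≫ p = 𝟙 Y) : IsOpenImmersion s := by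
  have hle : (@FormallyUnramified ⊓ @LocallyOfFiniteType : MorphismProperty Scheme.{u}) ≤
      MorphismProperty.diagonal @IsOpenImmersion := by
    intro A B f ⟨h1, h2⟩
    haveI : FormallyUnramified f := h1
    haveI : LocallyOfFiniteType f := h2
    exact (inferInstance : IsOpenImmersion (pullback.diagonal f))
  haveI := (MorphismProperty.hasOfPostcompProperty_iff_le_diagonal
    (P := @IsOpenImmersion)).mpr hle
  refine MorphismProperty.of_postcomp (W := @IsOpenImmersion)
    (W' := (@FormallyUnramified ⊓ @LocallyOfFiniteType : MorphismProperty Scheme.{u})) s p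
    ⟨inferInstance, inferInstance⟩ ?_
  rw [hs]
  exact (inferInstance : IsOpenImmersion (𝟙 Y))

/-- two morphisms into an unramified scheme over `Y` which agree after a surjective base change
agree. -/
theorem eq_of_comp_eq_of_surjective {X Y T T' : Scheme.{u}} (p : X ⟶ Y) [FormallyUnramified p]
    [LocallyOfFiniteType p] (g : T' ⟶ T) [Surjective g] (a b : T ⟶ X) (hab : a ≫ p = b ≫ p)
    (h : g ≫ a = g ≫ b) : a = b := by
  let l : T ⟶ pullback p p := pullback.lift a b hab
  let Δ := pullback.diagonal p
  have hrange : Set.range l ⊆ Set.range Δ := by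
    rintro _ ⟨t, rfl⟩
    obtain ⟨t', rfl⟩ := g.surjective t
    have h2 : g ≫ l = (g ≫ a) ≫ Δ := by
      apply pullback.hom_ext
      · rw [Category.assoc, Category.assoc, pullback.diagonal_fst, Category.comp_id]
        congr 1
        exact pullback.lift_fst _ _ _
      · rw [Category.assoc, Category.assoc, pullback.diagonal_snd, Category.comp_id, h]
        congr 1
        exact pullback.lift_snd _ _ _
    rw [← Scheme.Hom.comp_apply, h2, Scheme.Hom.comp_apply]
    exact ⟨_, rfl⟩
  let m := IsOpenImmersion.lift Δ l hrange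
  have hm : m ≫ Δ = l := IsOpenImmersion.lift_fac _ _ _
  have e1 : a = m := by
    have : l ≫ pullback.fst p p = a := pullback.lift_fst _ _ _
    rw [← this, ← hm, Category.assoc, pullback.diagonal_fst, Category.comp_id]
  have e2 : b = m := by
    have : l ≫ pullback.snd p p = b := pullback.lift_snd _ _ _
    rw [← this, ← hm, Category.assoc, pullback.diagonal_snd, Category.comp_id]
  rw [e1, e2]

/-- an étale, universally injective, surjective morphism is an isomorphism. -/
theorem isIso_of_etale_of_universallyInjective_of_surjective {U Y : Scheme.{u}} (e : U ⟶ Y)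
    [Etale e] [UniversallyInjective e] [Surjective e] : IsIso e := by
  haveI : Surjective (pullback.diagonal e) := (UniversallyInjective.iff_diagonal e).mp inferInstance
  haveI : IsIso (pullback.diagonal e) :=
    (isIso_iff_isOpenImmersion_and_surjective _).mpr ⟨inferInstance, inferInstance⟩
  haveI : Mono e := (pullback.isIso_diagonal_iff e).mp inferInstance
  haveI : IsOpenImmersion e := IsOpenImmersion.of_flat_of_mono e
  exact (isIso_iff_isOpenImmersion_and_surjective _).mpr ⟨inferInstance, inferInstance⟩

set_option backward.isDefEq.respectTransparency.types false in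
/-- universal injectivity descends along surjective base change. -/
theorem universallyInjective_of_isPullback_of_surjective {A X Y Z : Scheme.{u}} {fst : A ⟶ X}
    {snd : A ⟶ Y} {f : X ⟶ Z} {g : Y ⟶ Z} (h : IsPullback fst snd f g) [Surjective f]
    [UniversallyInjective fst] : UniversallyInjective g := by
  have : DescendsAlong (@UniversallyInjective : MorphismProperty Scheme.{u}) @Surjective := by
    rw [universallyInjective_eq_diagonal]
    infer_instance
  exact MorphismProperty.of_isPullback_of_descendsAlong (P := @UniversallyInjective)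
    (Q := @Surjective) h inferInstance inferInstance

/-- **Lemma A**: sections of an étale morphism descend along universal homeomorphisms. -/
theorem exists_section_of_section_pullback {P Y Y' : Scheme.{u}} (p : P ⟶ Y) [Etale p]
    (g : Y' ⟶ Y) [IsIntegralHom g] [UniversallyInjective g] [Surjective g]
    (s' : Y' ⟶ pullback p g) (hs' : s' ≫ pullback.snd p g = 𝟙 Y') :
    ∃ s : Y ⟶ P, s ≫ p = 𝟙 Y ∧ s' ≫ pullback.fst p g = g ≫ s := by
  let q := pullback.fst p g
  let p' := pullback.snd p g
  haveI : Etale p' := inferInstance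
  haveI : UniversallyInjective q := MorphismProperty.pullback_fst _ _ inferInstance
  haveI : Surjective q := MorphismProperty.pullback_fst _ _ inferInstance
  haveI : IsIntegralHom q := MorphismProperty.pullback_fst _ _ inferInstance
  haveI : IsOpenImmersion s' := isOpenImmersion_section p' s' hs'
  have hsqp : s' ≫ q ≫ p = g := by
    change s' ≫ pullback.fst p g ≫ p = g
    rw [pullback.condition, reassoc_of% hs']
  have hqinj : Function.Injective q := q.injective
  have hqopen : IsOpenMap q := by
    have hbij : Function.Bijective q := ⟨q.injective, q.surjective⟩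
    have hhomeo : IsHomeomorph q :=
      isHomeomorph_iff_continuous_isClosedMap_bijective.mpr ⟨q.continuous, q.isClosedMap, hbij⟩
    exact hhomeo.isOpenMap
  let U : P.Opens := ⟨q '' Set.range s', hqopen _ s'.isOpenEmbedding.isOpen_range⟩
  let e : (U : Scheme.{u}) ⟶ Y := U.ι ≫ p
  haveI : Etale e := inferInstance
  -- preimage of U
  have hpre : ∀ x : ↥(pullback p g), x ∈ (q ⁻¹ᵁ U : (pullback p g).Opens) ↔ x ∈ Set.range s' := by
    intro x
    change q x ∈ q '' Set.range s' ↔ x ∈ Set.range s'
    exact hqinj.mem_set_image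
  -- surjective
  haveI : Surjective e := by
    constructor
    intro y
    obtain ⟨y', rfl⟩ := g.surjective y
    refine ⟨⟨q (s' y'), ⟨s' y', ⟨y', rfl⟩, rfl⟩⟩, ?_⟩
    change (U.ι ≫ p) _ = _
    rw [Scheme.Hom.comp_apply]
    change p (q (s' y')) = g y'
    rw [← Scheme.Hom.comp_apply, ← Scheme.Hom.comp_apply, hsqp]
  -- universally injective
  have hpb : IsPullback ((q ⁻¹ᵁ U).ι ≫ p') (q ∣_ U) g e :=
    ((isPullback_morphismRestrict q U).paste_vert (IsPullback.of_hasPullback p g)).flip
  haveI : Mono ((q ⁻¹ᵁ U).ι ≫ p') := by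
    constructor
    intro T a b hab
    have key : ∀ c : T ⟶ (q ⁻¹ᵁ U : (pullback p g).Opens),
        c ≫ (q ⁻¹ᵁ U).ι = (c ≫ (q ⁻¹ᵁ U).ι ≫ p') ≫ s' := by
      intro c
      have hr : Set.range (c ≫ (q ⁻¹ᵁ U).ι) ⊆ Set.range s' := by
        rintro _ ⟨t, rfl⟩
        rw [Scheme.Hom.comp_apply]
        have h1 : ((q ⁻¹ᵁ U).ι (c t)) ∈ (q ⁻¹ᵁ U : (pullback p g).Opens) := (c t).2
        exact (hpre _).mp h1
      let d := IsOpenImmersion.lift s' (c ≫ (q ⁻¹ᵁ U).ι) hr
      have hd : d ≫ s' = c ≫ (q ⁻¹ᵁ U).ι := IsOpenImmersion.lift_fac _ _ _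
      have hd2 : d = c ≫ (q ⁻¹ᵁ U).ι ≫ p' := by
        have := congrArg (· ≫ p') hd
        simp only [Category.assoc] at this
        rw [show s' ≫ p' = 𝟙 Y' from hs', Category.comp_id] at this
        exact this
      rw [← hd2, hd]
    rw [← cancel_mono (q ⁻¹ᵁ U).ι, key a, key b, hab]
  haveI : UniversallyInjective ((q ⁻¹ᵁ U).ι ≫ p') := inferInstance
  haveI : UniversallyInjective e := universallyInjective_of_isPullback_of_surjective hpb
  haveI : IsIso e := isIso_of_etale_of_universallyInjective_of_surjective e
  refine ⟨inv e ≫ U.ι, ?_, ?_⟩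
  · rw [Category.assoc]
    exact IsIso.inv_hom_id e
  · -- both sides factor through U
    have hr : Set.range (s' ≫ q) ⊆ Set.range U.ι := by
      rintro _ ⟨y', rfl⟩
      rw [Scheme.Hom.comp_apply, Scheme.Opens.range_ι]
      exact ⟨s' y', ⟨y', rfl⟩, rfl⟩
    let d := IsOpenImmersion.lift U.ι (s' ≫ q) hr
    have hd : d ≫ U.ι = s' ≫ q := IsOpenImmersion.lift_fac _ _ _
    have hde : d ≫ e = g := by
      change d ≫ U.ι ≫ p = g
      rw [reassoc_of% hd, hsqp]
    have : d = g ≫ inv e := by
      rw [← hde, Category.assoc, IsIso.hom_inv_id, Category.comp_id]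
    rw [← hd, this, Category.assoc]

end Groth.Agent.H1.EtSections
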