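import Mathlib
import Groth.Agent.Lib.Helper1.EtSections

/-! Helper1: sections of étale morphisms descend along submersive morphisms (SGA 1 IX 3.1–3.2). -/

set_option autoImplicit false
universe u

open CategoryTheory CategoryTheory.Limits AlgebraicGeometry MorphismProperty

namespace Groth.Agent.H1.EtSections

/-- **Lemma A''**: a morphism `σ : Y' ⟶ P` over `g : Y' ⟶ Y` into an étale `Y`-scheme `P`, which is
constant on the fibres of `g` (in the functor-of-points sense), descends to a section of `P ⟶ Y`,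
as soon as `g` is surjective and its base change to `P` is a quotient map. -/
theorem exists_section_of_constant_on_fibres {P Y Y' : Scheme.{u}} (p : P ⟶ Y) [Etale p]
    (g : Y' ⟶ Y) [Surjective g]
    (hq : Topology.IsQuotientMap (pullback.fst p g))
    (σ : Y' ⟶ P) (hσ : σ ≫ p = g)
    (hconst : ∀ (K : Type u) [Field K] (a b : Spec (CommRingCat.of K) ⟶ Y'),
      a ≫ g = b ≫ g → a ≫ σ = b ≫ σ) :
    ∃ s : Y ⟶ P, s ≫ p = 𝟙 Y ∧ g ≫ s = σ := by
  let q := pullback.fst p g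
  let p' := pullback.snd p g
  let s' : Y' ⟶ pullback p g := pullback.lift σ (𝟙 Y') (by rw [hσ, Category.id_comp])
  have hs' : s' ≫ p' = 𝟙 Y' := pullback.lift_snd _ _ _
  have hs'q : s' ≫ q = σ := pullback.lift_fst _ _ _
  haveI : Etale p' := inferInstance
  haveI : IsOpenImmersion s' := isOpenImmersion_section p' s' hs'
  have hsqp : s' ≫ q ≫ p = g := by
    rw [reassoc_of% hs'q, hσ]
  -- saturation
  have hsat : ∀ x₁ x₂ : ↥(pullback p g), q x₁ = q x₂ → x₁ ∈ Set.range s' → x₂ ∈ Set.range s' := by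
    intro x₁ x₂ h12 hx₁
    obtain ⟨K, _, t₁, t₂, ht, hr₁, hz⟩ : ∃ (K : Type u) (_ : Field K)
        (t₁ t₂ : Spec (CommRingCat.of K) ⟶ pullback p g), t₁ ≫ q = t₂ ≫ q ∧
        Set.range t₁ ⊆ Set.range s' ∧ t₂ (IsLocalRing.closedPoint K) = x₂ := by
      obtain ⟨w, hw1, hw2⟩ := Scheme.Pullback.exists_preimage_pullback (f := q) (g := q) x₁ x₂ h12
      let t := (pullback q q).fromSpecResidueField w
      refine ⟨(pullback q q).residueField w, inferInstance, t ≫ pullback.fst q q,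
        t ≫ pullback.snd q q, ?_, ?_, ?_⟩
      · simp only [Category.assoc, pullback.condition]
      · rintro _ ⟨z, rfl⟩
        have hz : t z = w := Scheme.fromSpecResidueField_apply w z
        rw [Scheme.Hom.comp_apply, hz, hw1]
        exact hx₁
      · rw [Scheme.Hom.comp_apply, Scheme.fromSpecResidueField_apply, hw2]
    let c := IsOpenImmersion.lift s' t₁ hr₁
    have hc : c ≫ s' = t₁ := IsOpenImmersion.lift_fac _ _ _
    have hc' : c = t₁ ≫ p' := by
      rw [← hc, Category.assoc, hs', Category.comp_id]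
    have hcond : q ≫ p = p' ≫ g := pullback.condition
    have hg12 : (t₁ ≫ p') ≫ g = (t₂ ≫ p') ≫ g := by
      calc (t₁ ≫ p') ≫ g = (t₁ ≫ q) ≫ p := by rw [Category.assoc, Category.assoc, hcond]
        _ = (t₂ ≫ q) ≫ p := by rw [ht]
        _ = (t₂ ≫ p') ≫ g := by rw [Category.assoc, Category.assoc, hcond]
    have h2 := hconst K (t₁ ≫ p') (t₂ ≫ p') hg12
    have e1 : t₁ ≫ q = (t₁ ≫ p') ≫ σ := by
      calc t₁ ≫ q = (c ≫ s') ≫ q := by rw [hc]
        _ = c ≫ σ := by rw [Category.assoc, hs'q]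
        _ = (t₁ ≫ p') ≫ σ := by rw [hc']
    have ht₂ : t₂ = (t₂ ≫ p') ≫ s' := by
      apply pullback.hom_ext
      · calc t₂ ≫ pullback.fst p g = t₂ ≫ q := rfl
          _ = t₁ ≫ q := ht.symm
          _ = (t₁ ≫ p') ≫ σ := e1
          _ = (t₂ ≫ p') ≫ σ := h2
          _ = (t₂ ≫ p') ≫ s' ≫ q := by rw [hs'q]
          _ = ((t₂ ≫ p') ≫ s') ≫ pullback.fst p g := by simp only [Category.assoc]; rfl
      · calc t₂ ≫ pullback.snd p g = t₂ ≫ p' := rfl
          _ = (t₂ ≫ p') ≫ s' ≫ p' := by rw [hs', Category.comp_id]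
          _ = ((t₂ ≫ p') ≫ s') ≫ pullback.snd p g := by simp only [Category.assoc]; rfl
    rw [← hz, ht₂, Scheme.Hom.comp_apply]
    exact ⟨_, rfl⟩
  have hpreS : q ⁻¹' (q '' Set.range s') = Set.range s' := by
    ext x
    constructor
    · rintro ⟨x₁, hx₁, h⟩
      exact hsat x₁ x h hx₁
    · intro hx
      exact ⟨x, hx, rfl⟩
  have hUopen : IsOpen (q '' Set.range s') := by
    rw [← hq.isOpen_preimage, hpreS]
    exact s'.isOpenEmbedding.isOpen_range
  let U : P.Opens := ⟨q '' Set.range s', hUopen⟩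
  let e : (U : Scheme.{u}) ⟶ Y := U.ι ≫ p
  haveI : Etale e := inferInstance
  have hpre : ∀ x : ↥(pullback p g), x ∈ (q ⁻¹ᵁ U : (pullback p g).Opens) ↔ x ∈ Set.range s' := by
    intro x
    change x ∈ q ⁻¹' (q '' Set.range s') ↔ _
    rw [hpreS]
  haveI : Surjective e := by
    constructor
    intro y
    obtain ⟨y', rfl⟩ := g.surjective y
    refine ⟨⟨q (s' y'), ⟨s' y', ⟨y', rfl⟩, rfl⟩⟩, ?_⟩
    change (U.ι ≫ p) _ = _
    rw [Scheme.Hom.comp_apply]
    change p (q (s' y')) = g y'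
    rw [← Scheme.Hom.comp_apply, ← Scheme.Hom.comp_apply, hsqp]
  have hpb : IsPullback ((q ⁻¹ᵁ U).ι ≫ p') (q ∣_ U) g e :=
    ((isPullback_morphismRestrict q U).paste_vert (IsPullback.of_hasPullback p g)).flip
  haveI : Mono ((q ⁻¹ᵁ U).ι ≫ p') := by
    constructor
    intro T a b hab
    have key : ∀ c : T ⟶ (q ⁻¹ᵁ U : (pullback p g).Opens),
        c ≫ (q ⁻¹ᵁ U).ι = (c ≫ (q ⁻¹ᵁ U).ι ≫ p') ≫ s' := by
      intro c
      have hr : Set.range (c ≫ (q ⁻¹ᵁ U).ι) ⊆ Set.range s' := by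
        rintro _ ⟨t, rfl⟩
        rw [Scheme.Hom.comp_apply]
        have h1 : ((q ⁻¹ᵁ U).ι (c t)) ∈ (q ⁻¹ᵁ U : (pullback p g).Opens) := (c t).2
        exact (hpre _).mp h1
      let d := IsOpenImmersion.lift s' (c ≫ (q ⁻¹ᵁ U).ι) hr
      have hd : d ≫ s' = c ≫ (q ⁻¹ᵁ U).ι := IsOpenImmersion.lift_fac _ _ _
      have hd2 : d = c ≫ (q ⁻¹ᵁ U).ι ≫ p' := by
        have := congrArg (· ≫ p') hd
        simp only [Category.assoc] at this
        rw [show s' ≫ p' = 𝟙 Y' from hs', Category.comp_id] at this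
        exact this
      rw [← hd2, hd]
    rw [← cancel_mono (q ⁻¹ᵁ U).ι, key a, key b, hab]
  haveI : UniversallyInjective ((q ⁻¹ᵁ U).ι ≫ p') := inferInstance
  haveI : UniversallyInjective e := universallyInjective_of_isPullback_of_surjective hpb
  haveI : IsIso e := isIso_of_etale_of_universallyInjective_of_surjective e
  refine ⟨inv e ≫ U.ι, ?_, ?_⟩
  · rw [Category.assoc]
    exact IsIso.inv_hom_id e
  · have hr : Set.range (s' ≫ q) ⊆ Set.range U.ι := by
      rintro _ ⟨y', rfl⟩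
      rw [Scheme.Hom.comp_apply, Scheme.Opens.range_ι]
      exact ⟨s' y', ⟨y', rfl⟩, rfl⟩
    let d := IsOpenImmersion.lift U.ι (s' ≫ q) hr
    have hd : d ≫ U.ι = s' ≫ q := IsOpenImmersion.lift_fac _ _ _
    have hde : d ≫ e = g := by
      change d ≫ U.ι ≫ p = g
      rw [reassoc_of% hd, hsqp]
    have : d = g ≫ inv e := by
      rw [← hde, Category.assoc, IsIso.hom_inv_id, Category.comp_id]
    rw [← hs'q, ← hd, this, Category.assoc]

/-- uniqueness of the descended section -/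
theorem section_unique_of_surjective {P Y Y' : Scheme.{u}} (p : P ⟶ Y) [Etale p]
    (g : Y' ⟶ Y) [Surjective g] (s₁ s₂ : Y ⟶ P) (h₁ : s₁ ≫ p = 𝟙 Y) (h₂ : s₂ ≫ p = 𝟙 Y)
    (h : g ≫ s₁ = g ≫ s₂) : s₁ = s₂ :=
  eq_of_comp_eq_of_surjective p g s₁ s₂ (h₁.trans h₂.symm) h

end Groth.Agent.H1.EtSections
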