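import Mathlib
import Groth.Agent.Lib.Helper1.EtSections2
import Groth.Agent.Lib.Helper1.HensPairFin

/-! Helper1: rigidity of maps from connected schemes into étale schemes over a field. -/

set_option autoImplicit false
universe u

open CategoryTheory CategoryTheory.Limits AlgebraicGeometry MorphismProperty

namespace Groth.Agent.H1.EtSections

/-- an étale scheme over a field is topologically discrete -/
theorem discreteTopology_of_etale_field {K : Type u} [Field K] {Z : Scheme.{u}}
    (e : Z ⟶ Spec (CommRingCat.of K)) [Etale e] : DiscreteTopology Z := by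
  haveI : LocallyQuasiFinite e := Groth.Agent.H1.HensPairFin.locallyQuasiFinite_of_etale e
  have h := e.isDiscrete_preimage_singleton (IsLocalRing.closedPoint K)
  have huniv : Set.univ = e ⁻¹' {IsLocalRing.closedPoint K} := by
    ext z
    simp only [Set.mem_preimage, Set.mem_singleton_iff, Set.mem_univ, true_iff]
    exact Subsingleton.elim (α := PrimeSpectrum K) _ _
  rw [← isDiscrete_univ_iff, huniv]
  exact h

/-- two sections of an unramified morphism with the same image point agree (source the spectrum
of a field) -/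
theorem section_eq_of_apply_eq {K : Type u} [Field K] {Z : Scheme.{u}}
    (e : Z ⟶ Spec (CommRingCat.of K)) [Etale e] (s₁ s₂ : Spec (CommRingCat.of K) ⟶ Z)
    (h₁ : s₁ ≫ e = 𝟙 _) (h₂ : s₂ ≫ e = 𝟙 _)
    (h : s₁ (IsLocalRing.closedPoint K) = s₂ (IsLocalRing.closedPoint K)) : s₁ = s₂ := by
  haveI : IsOpenImmersion s₂ := isOpenImmersion_section e s₂ h₂
  have hr : Set.range s₁ ⊆ Set.range s₂ := by
    rintro _ ⟨x, rfl⟩
    obtain rfl : x = IsLocalRing.closedPoint K := Subsingleton.elim (α := PrimeSpectrum K) _ _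
    exact ⟨_, h.symm⟩
  let α := IsOpenImmersion.lift s₂ s₁ hr
  have hα : α ≫ s₂ = s₁ := IsOpenImmersion.lift_fac _ _ _
  have : α = 𝟙 _ := by
    rw [← h₁, ← hα, Category.assoc, h₂, Category.comp_id]
  rw [← hα, this, Category.id_comp]

/-- rigidity: a morphism from a connected scheme to an étale scheme over a field is constant on
rational points -/
theorem comp_eq_comp_of_connectedSpace {K : Type u} [Field K] {Z F : Scheme.{u}}
    (e : Z ⟶ Spec (CommRingCat.of K)) [Etale e] [ConnectedSpace F] (τ : F ⟶ Z)
    (u v : Spec (CommRingCat.of K) ⟶ F) (hu : u ≫ τ ≫ e = 𝟙 _) (hv : v ≫ τ ≫ e = 𝟙 _) :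
    u ≫ τ = v ≫ τ := by
  haveI := discreteTopology_of_etale_field e
  refine section_eq_of_apply_eq e _ _ (by rw [Category.assoc, hu]) (by rw [Category.assoc, hv]) ?_
  rw [Scheme.Hom.comp_apply, Scheme.Hom.comp_apply]
  set z := τ (u (IsLocalRing.closedPoint K)) with hz
  have hclopen : IsClopen (τ ⁻¹' {z}) :=
    ⟨(isClosed_discrete _).preimage τ.continuous, (isOpen_discrete _).preimage τ.continuous⟩
  have hne : (τ ⁻¹' {z}).Nonempty := ⟨u (IsLocalRing.closedPoint K), rfl⟩
  have huniv : τ ⁻¹' {z} = Set.univ := (isClopen_iff.mp hclopen).resolve_left hne.ne_empty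
  have : v (IsLocalRing.closedPoint K) ∈ τ ⁻¹' {z} := by rw [huniv]; trivial
  exact this.symm

end Groth.Agent.H1.EtSections
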