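import Mathlib
import Groth.Agent.Lib.Helper1.QFIsolated
import Groth.Agent.Lib.Helper1.DVRCrit

/-! Helper1: étale slices of smooth morphisms (EGA IV 17.16.3).
Ring level: Jacobian criterion for quotients of formally smooth local algebras by elements whose
differentials form a basis of `Ω`; scheme level: `s0413`. -/

open TensorProduct KaehlerDifferential IsLocalRing AlgebraicGeometry CategoryTheory

universe u

namespace Groth.Agent.H1.EtSlice

section


variable {R P : Type u} [CommRing R] [CommRing P] [Algebra R P] [IsLocalRing P]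

/-- choice of parameters: for a formally smooth, essentially finite type local `R`-algebra `P`
with residue field formally unramified over `R`, there are elements of the maximal ideal whose
differentials form a basis of `Ω[P/R]`. -/
theorem exists_basis_D [Algebra.EssFiniteType R P] [Algebra.FormallySmooth R P]
    [Algebra.FormallyUnramified R (ResidueField P)] :
    ∃ (ι : Type u) (_ : Fintype ι) (g : ι → P) (b : Module.Basis ι P Ω[P⁄R]),
      (∀ i, g i ∈ maximalIdeal P) ∧ ∀ i, b i = D R P (g i) := by
  have hsurj : Function.Surjective (algebraMap P (ResidueField P)) :=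
    IsLocalRing.residue_surjective
  have hex := exact_kerCotangentToTensor_mapBaseChange R P (ResidueField P) hsurj
  have hsub : Subsingleton Ω[ResidueField P⁄R] :=
    Algebra.FormallyUnramified.subsingleton_kaehlerDifferential
  have hs : Function.Surjective (kerCotangentToTensor R P (ResidueField P)) := by
    intro y
    exact (hex y).mp (Subsingleton.elim _ _)
  have hfin : Module.Finite P Ω[P⁄R] := inferInstance
  have hflat : Module.Flat P Ω[P⁄R] := inferInstance
  let w := Module.Free.chooseBasis (ResidueField P) (ResidueField P ⊗[P] Ω[P⁄R])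
  have hw : ∀ i, ∃ g : P, g ∈ maximalIdeal P ∧
      (1 : ResidueField P) ⊗ₜ[P] D R P g = w i := by
    intro i
    obtain ⟨c, hc⟩ := hs (w i)
    obtain ⟨x, rfl⟩ := Ideal.toCotangent_surjective _ c
    refine ⟨x.1, ?_, ?_⟩
    · have := x.2
      rw [← IsLocalRing.ker_residue]; exact this
    · rw [← hc]; rfl
  choose g hg1 hg2 using hw
  have hcomp : (TensorProduct.mk P (ResidueField P) Ω[P⁄R] 1) ∘ (fun i => D R P (g i)) = w := by
    funext i
    exact hg2 i
  have hli : LinearIndependent P (fun i => D R P (g i)) :=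
    Module.IsLocalRing.linearIndependent_of_flat _ (hcomp ▸ w.linearIndependent)
  have hsp : ⊤ ≤ Submodule.span P (Set.range (fun i => D R P (g i))) :=
    (IsLocalRing.span_eq_top_of_tmul_eq_basis _ w (congr_fun hcomp)).ge
  refine ⟨_, inferInstance, g, Module.Basis.mk hli hsp, hg1, fun i => ?_⟩
  rw [Module.Basis.mk_apply]


end

section


variable {R P : Type u} [CommRing R] [CommRing P] [Algebra R P] [IsLocalRing P]

theorem isLocalRing_quotient (I : Ideal P) (hI : I ≤ maximalIdeal P) : IsLocalRing (P ⧸ I) := by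
  haveI : Nontrivial (P ⧸ I) := by
    rw [Ideal.Quotient.nontrivial_iff]
    intro h
    exact (maximalIdeal.isMaximal P).ne_top (top_le_iff.mp (h ▸ hI))
  exact IsLocalRing.of_surjective' (Ideal.Quotient.mk I) Ideal.Quotient.mk_surjective

theorem formallyUnramified_quotient {ι : Type u} [Fintype ι]
    (g : ι → P) (b : Module.Basis ι P Ω[P⁄R])
    (hb : ∀ i, b i = D R P (g i)) :
    Algebra.FormallyUnramified R (P ⧸ Ideal.span (Set.range g)) := by
  set I := Ideal.span (Set.range g) with hIdef
  have hsurj : Function.Surjective (algebraMap P (P ⧸ I)) := Ideal.Quotient.mk_surjective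
  have hex := exact_kerCotangentToTensor_mapBaseChange R P (P ⧸ I) hsurj
  have hms := mapBaseChange_surjective R P (P ⧸ I) hsurj
  constructor
  have hker : ∀ y : (P ⧸ I) ⊗[P] Ω[P⁄R], mapBaseChange R P (P ⧸ I) y = 0 := by
    intro y
    have hy : y ∈ Submodule.span (P ⧸ I) (Set.range (b.baseChange (P ⧸ I))) := by
      rw [Module.Basis.span_eq]; trivial
    induction hy using Submodule.span_induction with
    | mem y hy =>
      obtain ⟨i, rfl⟩ := hy
      rw [Module.Basis.baseChange_apply, hb]
      have hgi : g i ∈ RingHom.ker (algebraMap P (P ⧸ I)) := by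
        rw [Ideal.Quotient.algebraMap_eq, Ideal.mk_ker]
        exact Ideal.subset_span ⟨i, rfl⟩
      exact (hex _).mpr ⟨Ideal.toCotangent _ ⟨g i, hgi⟩, rfl⟩
    | zero => simp
    | add x y _ _ hx hy => rw [map_add, hx, hy, add_zero]
    | smul a x _ hx => rw [map_smul, hx, smul_zero]
  refine ⟨fun x y => ?_⟩
  obtain ⟨x', rfl⟩ := hms x
  obtain ⟨y', rfl⟩ := hms y
  rw [hker, hker]


end

section


variable {R P : Type u} [CommRing R] [CommRing P] [Algebra R P] [IsLocalRing P]

theorem isLocalRing_quotient' (I : Ideal P) (hI : I ≤ maximalIdeal P) : IsLocalRing (P ⧸ I) := by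
  have : Nontrivial (P ⧸ I) := by
    rw [Ideal.Quotient.nontrivial_iff]
    intro h
    exact (maximalIdeal.isMaximal P).ne_top (top_le_iff.mp (h ▸ hI))
  exact IsLocalRing.of_surjective' (Ideal.Quotient.mk I) Ideal.Quotient.mk_surjective

theorem formallySmooth_quotient {ι : Type u} [Fintype ι] [Algebra.FormallySmooth R P]
    (g : ι → P) (b : Module.Basis ι P Ω[P⁄R]) (hg : ∀ i, g i ∈ maximalIdeal P)
    (hb : ∀ i, b i = D R P (g i)) :
    Algebra.FormallySmooth R (P ⧸ Ideal.span (Set.range g)) := by
  classical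
  set I := Ideal.span (Set.range g) with hIdef
  have hIle : I ≤ maximalIdeal P := Ideal.span_le.mpr (by rintro _ ⟨i, rfl⟩; exact hg i)
  haveI : IsLocalRing (P ⧸ I) := isLocalRing_quotient' I hIle
  haveI : Module.Free P Ω[P⁄R] := Module.Free.of_basis b
  haveI : Module.Finite P Ω[P⁄R] := Module.Finite.of_basis b
  have hsurj : Function.Surjective (algebraMap P (P ⧸ I)) := Ideal.Quotient.mk_surjective
  have hkerI : RingHom.ker (algebraMap P (P ⧸ I)) = I := by
    rw [Ideal.Quotient.algebraMap_eq, Ideal.mk_ker]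
  have hfg : (RingHom.ker (algebraMap P (P ⧸ I))).FG := by
    rw [hkerI]
    exact ⟨Finset.univ.image g, by rw [Finset.coe_image, Finset.coe_univ, Set.image_univ]⟩
  rw [Algebra.FormallySmooth.iff_injective_cotangentComplexBaseChange_residueField P hsurj hfg]
  set K := ResidueField (P ⧸ I)
  have hgk : ∀ i, g i ∈ RingHom.ker (algebraMap P (P ⧸ I)) := fun i => by
    rw [hkerI]; exact Ideal.subset_span ⟨i, rfl⟩
  let bK := b.baseChange K
  -- every element is a combination of the `1 ⊗ g i`
  have hrep : ∀ x : K ⊗[P] RingHom.ker (algebraMap P (P ⧸ I)),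
      ∃ c : ι → K, x = ∑ i, c i • ((1 : K) ⊗ₜ[P] (⟨g i, hgk i⟩ : RingHom.ker (algebraMap P (P ⧸ I)))) := by
    intro x
    induction x using TensorProduct.induction_on with
    | zero => exact ⟨0, by simp⟩
    | tmul k y =>
      have hy : y.1 ∈ Ideal.span (Set.range g) := by
        have h1 : y.1 ∈ RingHom.ker (algebraMap P (P ⧸ I)) := y.2
        have h2 : RingHom.ker (algebraMap P (P ⧸ I)) ≤ Ideal.span (Set.range g) := hkerI.le
        exact h2 h1
      obtain ⟨c, hc⟩ := (Submodule.mem_span_range_iff_exists_fun P).mp hy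
      refine ⟨fun i => k * algebraMap P K (c i), ?_⟩
      have hy' : y = ∑ i, c i • (⟨g i, hgk i⟩ : RingHom.ker (algebraMap P (P ⧸ I))) := by
        apply Subtype.ext
        rw [← hc]
        simp
      rw [hy', TensorProduct.tmul_sum]
      refine Finset.sum_congr rfl fun i _ => ?_
      rw [TensorProduct.tmul_smul, TensorProduct.smul_tmul', TensorProduct.smul_tmul',
        Algebra.smul_def, smul_eq_mul, mul_one, mul_comm]
    | add x y hx hy =>
      obtain ⟨c, hc⟩ := hx
      obtain ⟨c', hc'⟩ := hy
      refine ⟨c + c', ?_⟩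
      rw [hc, hc', ← Finset.sum_add_distrib]
      refine Finset.sum_congr rfl fun i _ => ?_
      rw [Pi.add_apply, add_smul]
  rw [injective_iff_map_eq_zero]
  intro x hx
  obtain ⟨c, rfl⟩ := hrep x
  rw [map_sum] at hx
  have hx' : ∑ i, c i • bK i = 0 := by
    rw [← hx]
    refine Finset.sum_congr rfl fun i _ => ?_
    rw [map_smul, cotangentComplexBaseChange_tmul, one_smul, kerToTensor_apply,
      Module.Basis.baseChange_apply, hb]
  have hc : ∀ i, c i = 0 := by
    have := Fintype.linearIndependent_iff.mp bK.linearIndependent c hx'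
    exact this
  simp [hc]


end

section


theorem formallyEtale_quotient {R P : Type u} [CommRing R] [CommRing P] [Algebra R P] [IsLocalRing P]
    {ι : Type u} [Fintype ι] [Algebra.FormallySmooth R P]
    (g : ι → P) (b : Module.Basis ι P Ω[P⁄R]) (hg : ∀ i, g i ∈ maximalIdeal P)
    (hb : ∀ i, b i = D R P (g i)) :
    Algebra.FormallyEtale R (P ⧸ Ideal.span (Set.range g)) := by
  haveI := formallySmooth_quotient g b hg hb
  haveI := formallyUnramified_quotient g b hb
  exact Algebra.FormallyEtale.of_formallyUnramified_and_formallySmooth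

variable {R B : Type u} [CommRing R] [CommRing B] [Algebra R B]

theorem exists_etaleAt_quotient [Algebra.FiniteType R B] (q : Ideal B) [q.IsPrime]
    (P : Type u) [CommRing P] [IsLocalRing P] [Algebra B P] [Algebra R P] [IsScalarTower R B P]
    [IsLocalization.AtPrime P q]
    [Algebra.FormallySmooth R P] [Algebra.FormallyUnramified R (ResidueField P)] :
    ∃ I : Ideal B, I.FG ∧ I ≤ q ∧ ∀ (Q : Ideal (B ⧸ I)) [Q.IsPrime],
      Q.comap (Ideal.Quotient.mk I) = q → Algebra.IsEtaleAt R Q := by
  classical
  haveI : Algebra.EssFiniteType B P := Algebra.EssFiniteType.of_isLocalization P q.primeCompl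
  haveI : Algebra.EssFiniteType R P := Algebra.EssFiniteType.comp R B P
  obtain ⟨ι, _, g, b, hg, hb⟩ := exists_basis_D (R := R) (P := P)
  have hg' : ∀ i, ∃ (a : B) (s : q.primeCompl), a ∈ q ∧ g i = IsLocalization.mk' P a s := by
    intro i
    obtain ⟨a, s, h⟩ := IsLocalization.exists_mk'_eq q.primeCompl (g i)
    refine ⟨a, s, ?_, h.symm⟩
    have := hg i
    rw [← h, IsLocalization.AtPrime.mk'_mem_maximal_iff P q] at this
    exact this
  choose a s ha hgs using hg'
  let I : Ideal B := Ideal.span (Set.range a)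
  have hIq : I ≤ q := Ideal.span_le.mpr (by rintro _ ⟨i, rfl⟩; exact ha i)
  have hIfg : I.FG := ⟨Finset.univ.image a, by
    rw [Finset.coe_image, Finset.coe_univ, Set.image_univ]⟩
  have hImap : I.map (algebraMap B P) = Ideal.span (Set.range g) := by
    apply le_antisymm
    · rw [Ideal.map_span, Ideal.span_le]
      rintro _ ⟨_, ⟨i, rfl⟩, rfl⟩
      have : algebraMap B P (a i) = g i * algebraMap B P (s i) := by
        rw [hgs i, IsLocalization.mk'_spec]
      rw [this]
      exact Ideal.mul_mem_right _ _ (Ideal.subset_span ⟨i, rfl⟩)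
    · rw [Ideal.span_le]
      rintro _ ⟨i, rfl⟩
      rw [hgs i, IsLocalization.mk'_eq_mul_mk'_one]
      exact Ideal.mul_mem_right _ _ (Ideal.mem_map_of_mem _ (Ideal.subset_span ⟨i, rfl⟩))
  have hE : Algebra.FormallyEtale R (P ⧸ I.map (algebraMap B P)) := by
    rw [hImap]
    exact formallyEtale_quotient g b hg hb
  refine ⟨I, hIfg, hIq, ?_⟩
  intro Q _ hQ
  have hsub : Algebra.algebraMapSubmonoid (B ⧸ I) q.primeCompl = Q.primeCompl := by
    ext x
    constructor
    · rintro ⟨y, hy, rfl⟩
      intro hx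
      apply hy
      rw [← hQ]
      exact hx
    · intro hx
      obtain ⟨y, rfl⟩ := Ideal.Quotient.mk_surjective x
      refine ⟨y, ?_, rfl⟩
      intro hy
      apply hx
      rw [← hQ] at hy
      exact hy
  haveI : IsLocalization.AtPrime (P ⧸ I.map (algebraMap B P)) Q := by
    have := IsLocalization.instQuotientIdealAlgebraMapSubmonoidMapRingHomAlgebraMap
      q.primeCompl P I
    rw [hsub] at this
    exact this
  haveI : IsScalarTower R (B ⧸ I) (P ⧸ I.map (algebraMap B P)) :=
    IsScalarTower.of_algebraMap_eq (fun r => by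
      change Ideal.Quotient.mk _ (algebraMap R P r) =
        Ideal.Quotient.mk _ (algebraMap B P (algebraMap R B r))
      rw [← IsScalarTower.algebraMap_apply R B P])
  let e : Localization.AtPrime Q ≃ₐ[B ⧸ I] (P ⧸ I.map (algebraMap B P)) :=
    IsLocalization.algEquiv Q.primeCompl _ _
  exact Algebra.FormallyEtale.of_equiv (e.restrictScalars R).symm


end

section


theorem evaluation_appLE {X Y : Scheme.{u}} (f : X ⟶ Y) (V : Y.Opens) (U : X.Opens)
    (e : U ≤ f ⁻¹ᵁ V) (x : X) (hx : x ∈ U) (s : Γ(Y, V)) :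
    (X.evaluation U x hx).hom ((f.appLE V U e).hom s) =
      (f.residueFieldMap x).hom ((Y.evaluation V (f x) (e hx)).hom s) := by
  have h := Scheme.evaluation_naturality_apply f x (e hx) s
  rw [h, Scheme.Hom.appLE]
  change (X.evaluation U x hx).hom ((X.presheaf.map (homOfLE e).op).hom ((f.app V).hom s)) = _
  unfold Scheme.evaluation
  change (X.residue x).hom ((X.presheaf.germ U x hx).hom ((X.presheaf.map (homOfLE e).op).hom _)) = _
  rw [TopCat.Presheaf.germ_res_apply]
  rfl

/-- the composite `Γ(S, V) → Γ(X, U) → κ(x)` is formally unramified when `κ(x)/κ(f x)` is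
separable. -/
theorem formallyUnramified_evaluation {X S : Scheme.{u}} (f : X ⟶ S) (x : X)
    (hsep : @Algebra.IsSeparable (S.residueField (f x)) (X.residueField x) _ _
      (f.residueFieldMap x).hom.toAlgebra)
    {V : S.Opens} (hV : IsAffineOpen V) {U : X.Opens} (hxU : x ∈ U) (e : U ≤ f ⁻¹ᵁ V) :
    ((X.evaluation U x hxU).hom.comp (f.appLE V U e).hom).FormallyUnramified := by
  have heq : (X.evaluation U x hxU).hom.comp (f.appLE V U e).hom =
      (f.residueFieldMap x).hom.comp (((S.residue (f x)).hom).comp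
        (S.presheaf.germ V (f x) (e hxU)).hom) := by
    ext s
    exact evaluation_appLE f V U e x hxU s
  rw [heq]
  refine RingHom.FormallyUnramified.comp (RingHom.FormallyUnramified.comp ?_ ?_) ?_
  · letI := S.presheaf.algebra_section_stalk ⟨f x, e hxU⟩
    haveI := hV.isLocalization_stalk ⟨f x, e hxU⟩
    have : Algebra.FormallyUnramified Γ(S, V) (S.presheaf.stalk (f x)) :=
      Algebra.FormallyUnramified.of_isLocalization (hV.primeIdealOf ⟨f x, e hxU⟩).asIdeal.primeCompl
    exact RingHom.formallyUnramified_algebraMap.mpr this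
  · exact RingHom.FormallyUnramified.of_surjective (S.residue_surjective _)
  · letI := (f.residueFieldMap x).hom.toAlgebra
    have : Algebra.FormallyUnramified (S.residueField (f x)) (X.residueField x) :=
      Algebra.FormallyUnramified.of_isSeparable _ _
    exact RingHom.formallyUnramified_algebraMap.mpr this


end

section


theorem locallyQuasiFinite_of_etale {X Y : Scheme.{u}} (g : X ⟶ Y) [Etale g] :
    LocallyQuasiFinite g := by
  rw [HasRingHomProperty.iff_appLE (P := @LocallyQuasiFinite)]
  intro U V e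
  have h1 : (g.appLE U.1 V.1 e).hom.FiniteType := g.finiteType_appLE U.2 V.2 e
  have h2 : (g.appLE U.1 V.1 e).hom.FormallyUnramified :=
    FormallyUnramified.formallyUnramified_appLE g U.2 V.2 e
  algebraize [(g.appLE U.1 V.1 e).hom]
  exact RingHom.quasiFinite_algebraMap.mpr inferInstance

set_option backward.isDefEq.respectTransparency false in
theorem s0413 {X S : Scheme.{u}} (f : X ⟶ S) [Smooth f] (x : X)
    (hsep : @Algebra.IsSeparable (S.residueField (f x)) (X.residueField x) _ _
      (f.residueFieldMap x).hom.toAlgebra) :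
    ∃ (Z : Scheme.{u}) (i : Z ⟶ X) (z : Z), IsImmersion i ∧ Etale (i ≫ f) ∧ i z = x ∧
      ∀ z' : ↑Z, f (i z') = f x → z' = z := by
  obtain ⟨V, hV, hxV, -⟩ := DVRCrit.exists_affine_nhd_le (f x) ⊤ trivial
  obtain ⟨U, hU, hxU, e⟩ := DVRCrit.exists_affine_nhd_le x (f ⁻¹ᵁ V) hxV
  -- rings
  let φ := (f.appLE V U e).hom
  letI : Algebra Γ(S, V) Γ(X, U) := φ.toAlgebra
  have hsm : Algebra.Smooth Γ(S, V) Γ(X, U) := by
    have := f.smooth_appLE hV hU e
    exact this
  let q := hU.primeIdealOf ⟨x, hxU⟩
  letI : Algebra Γ(X, U) (X.presheaf.stalk x) := X.presheaf.algebra_section_stalk ⟨x, hxU⟩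
  haveI hloc : IsLocalization.AtPrime (X.presheaf.stalk x) q.asIdeal :=
    hU.isLocalization_stalk ⟨x, hxU⟩
  letI : Algebra Γ(S, V) (X.presheaf.stalk x) :=
    ((algebraMap Γ(X, U) (X.presheaf.stalk x)).comp φ).toAlgebra
  haveI : IsScalarTower Γ(S, V) Γ(X, U) (X.presheaf.stalk x) :=
    IsScalarTower.of_algebraMap_eq (fun r => rfl)
  haveI : Algebra.FormallySmooth Γ(X, U) (X.presheaf.stalk x) :=
    Algebra.FormallySmooth.of_isLocalization q.asIdeal.primeCompl
  haveI : Algebra.FormallySmooth Γ(S, V) (X.presheaf.stalk x) :=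
    Algebra.FormallySmooth.comp Γ(S, V) Γ(X, U) (X.presheaf.stalk x)
  haveI : Algebra.FormallyUnramified Γ(S, V) (ResidueField (X.presheaf.stalk x)) := by
    have h := formallyUnramified_evaluation f x hsep hV hxU e
    have heq : algebraMap Γ(S, V) (ResidueField (X.presheaf.stalk x)) =
        (X.evaluation U x hxU).hom.comp (f.appLE V U e).hom := rfl
    rw [← RingHom.formallyUnramified_algebraMap, heq]
    exact h
  obtain ⟨I, hIfg, hIq, hI⟩ := exists_etaleAt_quotient (R := Γ(S, V)) q.asIdeal
    (X.presheaf.stalk x)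
  -- the quotient ring
  let C := Γ(X, U) ⧸ I
  let Q : Ideal C := q.asIdeal.map (Ideal.Quotient.mk I)
  have hQc : Q.comap (Ideal.Quotient.mk I) = q.asIdeal := by
    rw [Ideal.comap_map_of_surjective _ Ideal.Quotient.mk_surjective, ← RingHom.ker_eq_comap_bot,
      Ideal.mk_ker, sup_eq_left.mpr hIq]
  haveI : Q.IsPrime := Ideal.map_isPrime_of_surjective Ideal.Quotient.mk_surjective
    (by rw [Ideal.mk_ker]; exact hIq)
  haveI : Algebra.IsEtaleAt Γ(S, V) Q := hI Q hQc
  haveI : Algebra.FinitePresentation Γ(S, V) C := Algebra.FinitePresentation.quotient hIfg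
  obtain ⟨t, htQ, het⟩ := Algebra.exists_etale_of_isEtaleAt (R := Γ(S, V)) Q
  -- the scheme Z₀
  let ψ : Γ(X, U) →+* Localization.Away t :=
    (algebraMap C (Localization.Away t)).comp (Ideal.Quotient.mk I)
  let i₀ : Spec (.of (Localization.Away t)) ⟶ X := Spec.map (CommRingCat.ofHom ψ) ≫ hU.fromSpec
  have hi₀ : IsImmersion i₀ := by
    have h1 : Spec.map (CommRingCat.ofHom ψ) =
        Spec.map (CommRingCat.ofHom (algebraMap C (Localization.Away t))) ≫
          Spec.map (CommRingCat.ofHom (Ideal.Quotient.mk I)) := by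
      rw [← Spec.map_comp]; rfl
    haveI : IsOpenImmersion (Spec.map (CommRingCat.ofHom (algebraMap C (Localization.Away t)))) :=
      IsOpenImmersion.of_isLocalization t
    haveI : IsClosedImmersion (Spec.map (CommRingCat.ofHom (Ideal.Quotient.mk I))) :=
      IsClosedImmersion.spec_of_surjective _ Ideal.Quotient.mk_surjective
    change IsImmersion (Spec.map (CommRingCat.ofHom ψ) ≫ hU.fromSpec)
    rw [h1]
    infer_instance
  have hi₀f : i₀ ≫ f = Spec.map (CommRingCat.ofHom (algebraMap Γ(S, V) (Localization.Away t))) ≫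
      hV.fromSpec := by
    change (Spec.map (CommRingCat.ofHom ψ) ≫ hU.fromSpec) ≫ f = _
    rw [Category.assoc, ← IsAffineOpen.SpecMap_appLE_fromSpec f hV hU e, ← Category.assoc,
      ← Spec.map_comp]
    rfl
  have het' : Etale (i₀ ≫ f) := by
    rw [hi₀f]
    haveI : Etale (Spec.map (CommRingCat.ofHom (algebraMap Γ(S, V) (Localization.Away t)))) := by
      rw [HasRingHomProperty.Spec_iff (P := @Etale), CommRingCat.hom_ofHom,
        RingHom.etale_algebraMap]
      exact het
    infer_instance
  -- the point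
  have hQt : (⟨Q, inferInstance⟩ : PrimeSpectrum C) ∈
      Set.range (PrimeSpectrum.comap (algebraMap C (Localization.Away t))) := by
    rw [PrimeSpectrum.localization_away_comap_range (Localization.Away t) t]
    exact htQ
  obtain ⟨z₀, hz₀⟩ := hQt
  have hiz₀ : i₀ z₀ = x := by
    change hU.fromSpec ((Spec.map (CommRingCat.ofHom ψ)) z₀) = x
    have h2 : (Spec.map (CommRingCat.ofHom ψ)) z₀ = q := by
      change PrimeSpectrum.comap ψ z₀ = q
      have h3 : PrimeSpectrum.comap ψ z₀ =
          PrimeSpectrum.comap (Ideal.Quotient.mk I)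
            (PrimeSpectrum.comap (algebraMap C (Localization.Away t)) z₀) := rfl
      rw [h3, hz₀]
      exact PrimeSpectrum.ext hQc
    rw [h2]
    exact hU.fromSpec_primeIdealOf ⟨x, hxU⟩
  -- isolate
  haveI := het'
  haveI : LocallyQuasiFinite (i₀ ≫ f) := locallyQuasiFinite_of_etale _
  obtain ⟨O, hz₀O, hO⟩ := (QFIsolated.quasiFiniteAt_iff_isolated (i₀ ≫ f) z₀).mp
    ((i₀ ≫ f).quasiFiniteAt z₀)
  refine ⟨O, O.ι ≫ i₀, ⟨z₀, hz₀O⟩, ?_, ?_, ?_, ?_⟩
  · haveI := hi₀
    infer_instance
  · rw [Category.assoc]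
    infer_instance
  · rw [Scheme.Hom.comp_apply]
    exact hiz₀
  · intro z' hz'
    have h4 : (O.ι z' : Spec (.of (Localization.Away t))) = z₀ := by
      apply hO (O.ι z') z'.2
      have h5 : (i₀ ≫ f) z₀ = f x := by
        change f (i₀ z₀) = f x
        rw [hiz₀]
      exact hz'.trans h5.symm
    exact Subtype.ext h4


end

end Groth.Agent.H1.EtSlice
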