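import Mathlib

set_option autoImplicit false
universe u
open TensorProduct CategoryTheory CategoryTheory.Limits AlgebraicGeometry

namespace Groth.Agent.H1.EtSplit

/-- A finite étale algebra is split by an étale neighbourhood of any given prime. -/
theorem exists_etale_split (R B : Type u) [CommRing R] [CommRing B] [Algebra R B]
    [Algebra.Etale R B] [Module.Finite R B] (p : Ideal R) [p.IsPrime] :
    ∃ (T : Type u) (_ : CommRing T) (_ : Algebra R T) (_ : Algebra.Etale R T) (q : Ideal T)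
      (_ : q.IsPrime), q.comap (algebraMap R T) = p ∧ Algebra.IsFiniteSplit T (T ⊗[R] B) := by
  have hfp : Module.FinitePresentation R B := Module.FinitePresentation.of_finite_of_finitePresentation R B
  have hlc := Module.isLocallyConstant_rankAtStalk (R := R) (M := B)
  set n := Module.rankAtStalk (R := R) B ⟨p, inferInstance⟩ with hn
  have hopen : IsOpen {x : PrimeSpectrum R | Module.rankAtStalk (R := R) B x = n} :=
    hlc.isOpen_fiber n
  obtain ⟨_, ⟨r, rfl⟩, hpr, hr⟩ := PrimeSpectrum.isTopologicalBasis_basic_opens.exists_subset_of_mem_open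
    (show (⟨p, inferInstance⟩ : PrimeSpectrum R) ∈
      {x : PrimeSpectrum R | Module.rankAtStalk (R := R) B x = n} from rfl) hopen
  let Rr := Localization.Away r
  have hrank : Module.rankAtStalk (R := Rr) (Rr ⊗[R] B) = n := by
    ext P
    rw [Module.rankAtStalk_baseChange]
    apply hr
    change r ∉ _
    intro hmem
    have : (algebraMap R Rr r) ∈ P.asIdeal := hmem
    exact P.2.ne_top (Ideal.eq_top_of_isUnit_mem _ this (IsLocalization.Away.algebraMap_isUnit r))
  obtain ⟨T, _, _, hff, hfin, het, hsplit⟩ :=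
    Algebra.IsFiniteSplit.exists_tensorProduct_of_etale (R := Rr) (S := Rr ⊗[R] B) hrank
  letI : Algebra R T := Algebra.compHom T (algebraMap R Rr)
  haveI : IsScalarTower R Rr T := IsScalarTower.of_algebraMap_eq' rfl
  haveI : Algebra.Etale R T := Algebra.Etale.comp R Rr T
  -- the prime
  have hrp : r ∉ p := hpr
  let P : Ideal Rr := p.map (algebraMap R Rr)
  have hdisj : Disjoint (Submonoid.powers r : Set R) (p : Set R) := by
    rwa [Ideal.disjoint_powers_iff_notMem _ (Ideal.IsPrime.isRadical ‹_›)]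
  haveI hPprime : P.IsPrime := IsLocalization.isPrime_of_isPrime_disjoint (.powers r) _ _ ‹_› hdisj
  have hPc : P.comap (algebraMap R Rr) = p :=
    IsLocalization.comap_map_of_isPrime_disjoint (.powers r) _ ‹_› hdisj
  obtain ⟨⟨q, hq⟩, hqP⟩ := PrimeSpectrum.comap_surjective_of_faithfullyFlat (A := Rr) (B := T)
    ⟨P, hPprime⟩
  refine ⟨T, inferInstance, inferInstance, inferInstance, q, hq, ?_, ?_⟩
  · have h1 : q.comap (algebraMap Rr T) = P := congr(($hqP).asIdeal)
    rw [IsScalarTower.algebraMap_eq R Rr T, ← Ideal.comap_comap, h1, hPc]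
  · exact .of_algEquiv (Algebra.TensorProduct.cancelBaseChange R Rr T T B)

end Groth.Agent.H1.EtSplit

namespace Groth.Agent.H1.EtSplit

/-- `Spec` of a finite power of `T` is a finite coproduct of copies of `Spec T`, over `Spec T`. -/
theorem exists_sigma_iso_spec_pi (T : Type u) [CommRing T] (n : ℕ) :
    ∃ e : (∐ fun _ : Fin n => Spec (CommRingCat.of T)) ≅ Spec (CommRingCat.of (Fin n → T)),
      ∀ j, Sigma.ι (fun _ : Fin n => Spec (CommRingCat.of T)) j ≫ e.hom =
        Spec.map (CommRingCat.ofHom (Pi.evalRingHom (fun _ : Fin n => T) j)) := by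
  let ε : Fin n ≃ ULift.{u} (Fin n) := Equiv.ulift.symm
  let F : ULift.{u} (Fin n) → Scheme.{u} := fun _ => Spec (CommRingCat.of T)
  let e1 : (∐ fun _ : Fin n => Spec (CommRingCat.of T)) ≅ ∐ F := Sigma.reindex ε F
  let e2 : (∐ F) ≅ Spec (CommRingCat.of (ULift.{u} (Fin n) → T)) :=
    asIso (sigmaSpec (fun _ : ULift.{u} (Fin n) => CommRingCat.of T))
  let a : (ULift.{u} (Fin n) → T) ≃+* (Fin n → T) :=
    RingEquiv.piCongrLeft (fun _ => T) ε.symm
  let e3 : Spec (CommRingCat.of (ULift.{u} (Fin n) → T)) ≅ Spec (CommRingCat.of (Fin n → T)) :=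
    Scheme.Spec.mapIso a.toCommRingCatIso.symm.op
  refine ⟨e1 ≪≫ e2 ≪≫ e3, fun j => ?_⟩
  have h1 : Sigma.ι (fun _ : Fin n => Spec (CommRingCat.of T)) j ≫ e1.hom = Sigma.ι F (ε j) :=
    Sigma.ι_reindex_hom ε F j
  have h2 : Sigma.ι F (ε j) ≫ e2.hom =
      Spec.map (CommRingCat.ofHom (Pi.evalRingHom (fun _ : ULift.{u} (Fin n) => T) (ε j))) :=
    ι_sigmaSpec (fun _ : ULift.{u} (Fin n) => CommRingCat.of T) (ε j)
  simp only [Iso.trans_hom]
  rw [reassoc_of% h1, reassoc_of% h2]
  change Spec.map _ ≫ Spec.map _ = _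
  rw [← Spec.map_comp]
  congr 1

end Groth.Agent.H1.EtSplit

namespace Groth.Agent.H1.EtSplit

/-- affine split: if `T ⊗[R] B` is finite split over `T`, then `Spec B ×_{Spec R} Spec T` is a finite
coproduct of copies of `Spec T`. -/
theorem exists_sigma_iso_pullback (R B T : Type u) [CommRing R] [CommRing B] [CommRing T]
    [Algebra R B] [Algebra R T] [Algebra.IsFiniteSplit T (T ⊗[R] B)] :
    ∃ (n : ℕ) (e : (∐ fun _ : Fin n => Spec (CommRingCat.of T)) ≅
        pullback (Spec.map (CommRingCat.ofHom (algebraMap R B)))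
          (Spec.map (CommRingCat.ofHom (algebraMap R T)))),
      ∀ j, Sigma.ι (fun _ : Fin n => Spec (CommRingCat.of T)) j ≫ e.hom ≫ pullback.snd _ _ = 𝟙 _ := by
  obtain ⟨n, ⟨a⟩⟩ := Algebra.IsFiniteSplit.nonempty_algEquiv_fun T (T ⊗[R] B)
  obtain ⟨e0, he0⟩ := exists_sigma_iso_spec_pi T n
  -- ring iso `B ⊗[R] T ≃ Fin n → T`
  let b : (B ⊗[R] T) ≃+* (Fin n → T) :=
    (Algebra.TensorProduct.comm R B T).toRingEquiv.trans a.toRingEquiv
  let e1 : Spec (CommRingCat.of (Fin n → T)) ≅ Spec (CommRingCat.of (B ⊗[R] T)) :=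
    Scheme.Spec.mapIso b.toCommRingCatIso.op
  refine ⟨n, e0 ≪≫ e1 ≪≫ (pullbackSpecIso R B T).symm, fun j => ?_⟩
  simp only [Iso.trans_hom, Iso.symm_hom, Category.assoc]
  rw [pullbackSpecIso_inv_snd, reassoc_of% (he0 j)]
  change Spec.map _ ≫ Spec.map _ ≫ Spec.map _ = _
  rw [← Spec.map_comp, ← Spec.map_comp, ← Spec.map_id]
  congr 1
  ext t
  change a ((Algebra.TensorProduct.comm R B T) ((1 : B) ⊗ₜ[R] t)) j = t
  rw [Algebra.TensorProduct.comm_tmul]
  have : (t ⊗ₜ[R] (1 : B) : T ⊗[R] B) = algebraMap T (T ⊗[R] B) t := rfl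
  rw [this, a.commutes]
  rfl

end Groth.Agent.H1.EtSplit
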