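import Mathlib
import Groth.Agent.Lib.Helper1.RegGlobal

/-! Helper1: projective dimension of finite modules is detected by `Ext(-, A)`. -/

set_option autoImplicit false

universe u

open CategoryTheory Abelian

namespace Groth.Agent.H1.Reg

section

variable {A : Type u} [CommRing A]

/-- Right exactness of the top `Ext`. -/
theorem ext_subsingleton_of_epi (M : ModuleCat.{u} A) (n : ℕ) [HasProjectiveDimensionLT M (n + 1)]
    {S : ShortComplex (ModuleCat.{u} A)} (hS : S.ShortExact)
    (h : Subsingleton (Ext M S.X₂ n)) : Subsingleton (Ext M S.X₃ n) := by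
  refine ⟨fun a b => ?_⟩
  suffices ∀ c : Ext M S.X₃ n, c = 0 by rw [this a, this b]
  intro c
  obtain ⟨x₂, rfl⟩ := Ext.covariant_sequence_exact₃ M hS c (n₁ := n + 1) rfl
    (Ext.eq_zero_of_hasProjectiveDimensionLT _ (n + 1) le_rfl)
  rw [Subsingleton.elim x₂ 0, Ext.zero_comp]

theorem ext_subsingleton_of_extension (M : ModuleCat.{u} A) (n : ℕ)
    {S : ShortComplex (ModuleCat.{u} A)} (hS : S.ShortExact)
    (h₁ : Subsingleton (Ext M S.X₁ n)) (h₃ : Subsingleton (Ext M S.X₃ n)) :
    Subsingleton (Ext M S.X₂ n) := by
  refine ⟨fun a b => ?_⟩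
  suffices ∀ c : Ext M S.X₂ n, c = 0 by rw [this a, this b]
  intro c
  obtain ⟨x₁, rfl⟩ := Ext.covariant_sequence_exact₂ M hS c (Subsingleton.elim _ _)
  rw [Subsingleton.elim x₁ 0, Ext.zero_comp]

theorem ext_subsingleton_of_fin (M : ModuleCat.{u} A) (n : ℕ) [HasProjectiveDimensionLT M (n + 1)]
    (hA : Subsingleton (Ext M (ModuleCat.of A A) n)) :
    ∀ (r : ℕ) (L : Type u) [AddCommGroup L] [Module A L] (s : Fin r → L),
      Submodule.span A (Set.range s) = ⊤ → Subsingleton (Ext M (ModuleCat.of A L) n) := by
  intro r
  induction r with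
  | zero =>
    intro L _ _ s hs
    have : Subsingleton L := by
      have : Set.range s = ∅ := Set.range_eq_empty s
      rw [this, Submodule.span_empty] at hs
      exact (Submodule.subsingleton_iff A).mp (subsingleton_of_bot_eq_top hs)
    have h0 : 𝟙 (ModuleCat.of A L) = 0 := by
      ext x
      exact Subsingleton.elim _ _
    refine ⟨fun a b => ?_⟩
    have key : ∀ c : Ext M (ModuleCat.of A L) n, c = 0 := by
      intro c
      rw [← Ext.comp_mk₀_id c, h0, Ext.mk₀_zero, Ext.comp_zero]
    rw [key a, key b]
  | succ r ih =>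
    intro L _ _ s hs
    let L' : Submodule A L := Submodule.span A {s 0}
    let q : L →ₗ[A] L ⧸ L' := L'.mkQ
    have hq : Function.Surjective q := Submodule.mkQ_surjective _
    have hS := LinearMap.shortExact_shortComplexKer hq
    -- the quotient is generated by `r` elements
    have h3 : Subsingleton (Ext M q.shortComplexKer.X₃ n) := by
      apply ih (L ⧸ L') (fun i => q (s i.succ))
      rw [eq_top_iff]
      rintro y -
      obtain ⟨y, rfl⟩ := hq y
      have hy : y ∈ Submodule.span A (Set.range s) := by rw [hs]; trivial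
      refine Submodule.span_induction ?_ ?_ ?_ ?_ hy
      · rintro _ ⟨i, rfl⟩
        refine Fin.cases ?_ (fun j => ?_) i
        · have : q (s 0) = 0 := by
            rw [Submodule.mkQ_apply, Submodule.Quotient.mk_eq_zero]
            exact Submodule.subset_span rfl
          rw [this]
          exact Submodule.zero_mem _
        · exact Submodule.subset_span ⟨j, rfl⟩
      · rw [map_zero]; exact Submodule.zero_mem _
      · intro a b _ _ ha hb
        rw [map_add]; exact Submodule.add_mem _ ha hb
      · intro a b _ hb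
        rw [map_smul]; exact Submodule.smul_mem _ _ hb
    -- the kernel is cyclic
    have hker : LinearMap.ker q = L' := Submodule.ker_mkQ L'
    let π : A →ₗ[A] LinearMap.ker q :=
      (LinearMap.toSpanSingleton A L (s 0)).codRestrict _ (by
        intro a
        rw [hker]
        exact Submodule.smul_mem _ _ (Submodule.subset_span rfl))
    have hπ : Function.Surjective π := by
      rintro ⟨y, hy⟩
      rw [hker] at hy
      obtain ⟨a, rfl⟩ := Submodule.mem_span_singleton.mp hy
      exact ⟨a, Subtype.ext rfl⟩
    have hSπ := LinearMap.shortExact_shortComplexKer hπ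
    have h1 : Subsingleton (Ext M q.shortComplexKer.X₁ n) :=
      ext_subsingleton_of_epi M n hSπ hA
    exact ext_subsingleton_of_extension M n hS h1 h3

variable [IsNoetherianRing A]

/-- If `pd M ≤ n` and `Extⁿ(M, A) = 0` then `pd M < n` (finite modules over Noetherian rings). -/
theorem hasProjectiveDimensionLT_of_ext_self (M : Type u) [AddCommGroup M] [Module A M]
    [Module.Finite A M] (n : ℕ) [HasProjectiveDimensionLT (ModuleCat.of A M) (n + 1)]
    (hA : Subsingleton (Ext (ModuleCat.of A M) (ModuleCat.of A A) n)) :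
    HasProjectiveDimensionLT (ModuleCat.of A M) n := by
  apply ModuleCat.hasProjectiveDimensionLT_of_forall_finite
  intro L hL
  obtain ⟨r, s, hs⟩ := Module.Finite.exists_fin (R := A) (M := L)
  exact ext_subsingleton_of_fin (ModuleCat.of A M) n hA r L s hs

/-- Descending induction: if `pd M ≤ e` and `Extⁱ(M, A) = 0` for `q < i ≤ e` then `pd M ≤ q`. -/
theorem hasProjectiveDimensionLT_of_ext_self_of_lt (M : Type u) [AddCommGroup M] [Module A M]
    [Module.Finite A M] (q : ℕ)
    (h : ∀ i : ℕ, q < i → Subsingleton (Ext (ModuleCat.of A M) (ModuleCat.of A A) i)) :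
    ∀ e : ℕ, HasProjectiveDimensionLT (ModuleCat.of A M) (e + 1) →
      HasProjectiveDimensionLT (ModuleCat.of A M) (q + 1) := by
  intro e
  induction e with
  | zero =>
    intro h0
    exact hasProjectiveDimensionLT_of_ge _ 1 (q + 1) (by omega)
  | succ e ih =>
    intro h1
    by_cases hqe : q < e + 1
    · exact ih (hasProjectiveDimensionLT_of_ext_self M (e + 1) (h (e + 1) hqe))
    · exact hasProjectiveDimensionLT_of_ge _ (e + 1 + 1) (q + 1) (by omega)

end

end Groth.Agent.H1.Reg
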