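import Mathlib
import Groth.Agent.Lib.Helper1.RegExt

/-! Helper1: projective dimension of finite modules over Noetherian rings is detected by
`Ext(-, A/I)`. -/

set_option autoImplicit false

universe u

open CategoryTheory Abelian

namespace Groth.Agent.H1.Reg

section

variable {A : Type u} [CommRing A]

theorem ext_subsingleton_of_iso {M L L' : ModuleCat.{u} A} (e : L ≅ L') (m : ℕ)
    (h : Subsingleton (Ext M L' m)) : Subsingleton (Ext M L m) := by
  refine ⟨fun a b => ?_⟩
  have key : ∀ c : Ext M L m, c = 0 := by
    intro c
    have h1 : c = (c.comp (Ext.mk₀ e.hom) (add_zero m)).comp (Ext.mk₀ e.inv) (add_zero m) := by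
      rw [Ext.comp_assoc_of_third_deg_zero, Ext.mk₀_comp_mk₀, e.hom_inv_id, Ext.comp_mk₀_id]
    rw [h1, Subsingleton.elim (c.comp (Ext.mk₀ e.hom) (add_zero m)) 0, Ext.zero_comp]
  rw [key a, key b]

theorem ext_subsingleton_of_fin_of_cyclic (M : ModuleCat.{u} A) (n : ℕ)
    (hA : ∀ I : Ideal A, Subsingleton (Ext M (ModuleCat.of A (A ⧸ I)) n)) :
    ∀ (r : ℕ) (L : Type u) [AddCommGroup L] [Module A L] (s : Fin r → L),
      Submodule.span A (Set.range s) = ⊤ → Subsingleton (Ext M (ModuleCat.of A L) n) := by
  intro r
  induction r with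
  | zero =>
    intro L _ _ s hs
    have : Subsingleton L := by
      have : Set.range s = ∅ := Set.range_eq_empty s
      rw [this, Submodule.span_empty] at hs
      exact (Submodule.subsingleton_iff A).mp (subsingleton_of_bot_eq_top hs)
    have h0 : 𝟙 (ModuleCat.of A L) = 0 := by
      ext x
      exact Subsingleton.elim _ _
    refine ⟨fun a b => ?_⟩
    have key : ∀ c : Ext M (ModuleCat.of A L) n, c = 0 := by
      intro c
      rw [← Ext.comp_mk₀_id c, h0, Ext.mk₀_zero, Ext.comp_zero]
    rw [key a, key b]
  | succ r ih =>
    intro L _ _ s hs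
    let L' : Submodule A L := Submodule.span A {s 0}
    let q : L →ₗ[A] L ⧸ L' := L'.mkQ
    have hq : Function.Surjective q := Submodule.mkQ_surjective _
    have hS := LinearMap.shortExact_shortComplexKer hq
    -- the quotient is generated by `r` elements
    have h3 : Subsingleton (Ext M q.shortComplexKer.X₃ n) := by
      apply ih (L ⧸ L') (fun i => q (s i.succ))
      rw [eq_top_iff]
      rintro y -
      obtain ⟨y, rfl⟩ := hq y
      have hy : y ∈ Submodule.span A (Set.range s) := by rw [hs]; trivial
      refine Submodule.span_induction ?_ ?_ ?_ ?_ hy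
      · rintro _ ⟨i, rfl⟩
        refine Fin.cases ?_ (fun j => ?_) i
        · have : q (s 0) = 0 := by
            rw [Submodule.mkQ_apply, Submodule.Quotient.mk_eq_zero]
            exact Submodule.subset_span rfl
          rw [this]
          exact Submodule.zero_mem _
        · exact Submodule.subset_span ⟨j, rfl⟩
      · rw [map_zero]; exact Submodule.zero_mem _
      · intro a b _ _ ha hb
        rw [map_add]; exact Submodule.add_mem _ ha hb
      · intro a b _ hb
        rw [map_smul]; exact Submodule.smul_mem _ _ hb
    -- the kernel is cyclic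
    have hker : LinearMap.ker q = L' := Submodule.ker_mkQ L'
    let π : A →ₗ[A] LinearMap.ker q :=
      (LinearMap.toSpanSingleton A L (s 0)).codRestrict _ (by
        intro a
        rw [hker]
        exact Submodule.smul_mem _ _ (Submodule.subset_span rfl))
    have hπ : Function.Surjective π := by
      rintro ⟨y, hy⟩
      rw [hker] at hy
      obtain ⟨a, rfl⟩ := Submodule.mem_span_singleton.mp hy
      exact ⟨a, Subtype.ext rfl⟩
    have h1 : Subsingleton (Ext M q.shortComplexKer.X₁ n) := by
      refine ext_subsingleton_of_iso (L' := ModuleCat.of A (A ⧸ LinearMap.ker π))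
        (LinearMap.quotKerEquivOfSurjective π hπ).symm.toModuleIso n (hA _)
    exact ext_subsingleton_of_extension M n hS h1 h3

variable [IsNoetherianRing A]

/-- `pd M < n` as soon as `Extⁿ(M, A/I) = 0` for all ideals `I` (finite `M`, Noetherian `A`). -/
theorem hasProjectiveDimensionLT_of_ext_cyclic (M : Type u) [AddCommGroup M] [Module A M]
    [Module.Finite A M] (n : ℕ)
    (hA : ∀ I : Ideal A, Subsingleton (Ext (ModuleCat.of A M) (ModuleCat.of A (A ⧸ I)) n)) :
    HasProjectiveDimensionLT (ModuleCat.of A M) n := by
  apply ModuleCat.hasProjectiveDimensionLT_of_forall_finite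
  intro L hL
  obtain ⟨r, s, hs⟩ := Module.Finite.exists_fin (R := A) (M := L)
  exact ext_subsingleton_of_fin_of_cyclic (ModuleCat.of A M) n hA r L s hs

end

end Groth.Agent.H1.Reg
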