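import Mathlib

set_option autoImplicit false
universe u
open CategoryTheory CategoryTheory.Limits CategoryTheory.Abelian

namespace Groth.Agent.Lib.Helper1.ExtKos

variable {A : Type u} [CommRing A]

/-- if all differentials of a projective resolution become zero after `Hom(-, Y)`, then
`Ext^n(X, Y) = Hom(P_n, Y)` for `n ≥ 1`. -/
theorem nonempty_hom_equiv_ext_succ {X Y : ModuleCat.{u} A} (P : ProjectiveResolution X)
    (h : ∀ (n : ℕ) (φ : P.complex.X n ⟶ Y), P.complex.d (n + 1) n ≫ φ = 0) (n : ℕ) :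
    Nonempty ((P.complex.X (n + 1) ⟶ Y) ≃ₗ[A] Ext X Y (n + 1)) := by
  let F : (P.complex.X (n + 1) ⟶ Y) →ₗ[A] Ext X Y (n + 1) :=
    { toFun := fun φ => P.extMk φ (n + 1 + 1) rfl (h (n + 1) φ)
      map_add' := fun φ ψ => (P.add_extMk φ ψ (n + 1 + 1) rfl (h _ φ) (h _ ψ)).symm
      map_smul' := fun r φ => by
        rw [RingHom.id_apply, Ext.smul_eq_comp_mk₀, P.extMk_comp_mk₀]
        congr 1 }
  refine ⟨LinearEquiv.ofBijective F ⟨?_, ?_⟩⟩
  · rw [← LinearMap.ker_eq_bot, LinearMap.ker_eq_bot']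
    intro φ hφ
    obtain ⟨g, hg⟩ := (P.extMk_eq_zero_iff φ (n + 1 + 1) rfl (h _ φ) n rfl).1 hφ
    rw [← hg]
    exact h n g
  · intro α
    obtain ⟨f, hf, rfl⟩ := P.extMk_surjective α (n + 1 + 1) rfl
    exact ⟨f, rfl⟩

end Groth.Agent.Lib.Helper1.ExtKos
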