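import Mathlib
import Groth.Agent.Lib.Helper1.TorKos2

set_option autoImplicit false
universe u
open CategoryTheory CategoryTheory.Limits CochainComplex CategoryTheory.Abelian

namespace Groth.Agent.Lib.Helper1.ExtKos

open CohIII Groth.Agent.H2.Kos Groth.Agent.Lib.Helper1.TorKos

variable {A : Type u} [CommRing A]

/-- all differentials of the Koszul complex die in `Hom(-, Y)` when `l` kills `Y`. -/
theorem koszul_d_comp_eq_zero (N Y : ModuleCat.{u} A) (l : List A)
    (hl : ∀ a ∈ l, a • 𝟙 Y = 0) (i j : ℤ) (φ : (koszulCx N l).X j ⟶ Y) :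
    (koszulCx N l).d i j ≫ φ = 0 := by
  induction l generalizing i j with
  | nil =>
    by_cases hj : j = 0
    · subst hj
      by_cases hi : i = 0
      · subst hi
        have : (koszulCx N []).d 0 0 = 0 := (koszulCx N []).shape 0 0 (by simp)
        rw [this, zero_comp]
      · have : (koszulCx N []).d i 0 = 0 :=
          (HomologicalComplex.isZero_single_obj_X (ComplexShape.up ℤ) 0 N i hi).eq_of_src _ _
        rw [this, zero_comp]
    · have : φ = 0 :=
        (HomologicalComplex.isZero_single_obj_X (ComplexShape.up ℤ) 0 N j hj).eq_of_src _ _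
      rw [this, comp_zero]
  | cons f l ih =>
    have hl' : ∀ a ∈ l, a • 𝟙 Y = 0 := fun a ha => hl a (List.mem_cons_of_mem _ ha)
    have hf : f • 𝟙 Y = 0 := hl f List.mem_cons_self
    have hfψ : ∀ {X : ModuleCat.{u} A} (ψ : X ⟶ Y), f • ψ = 0 := by
      intro X ψ
      have : f • ψ = ψ ≫ (f • 𝟙 Y) := by rw [Linear.comp_smul, Category.comp_id]
      rw [this, hf, comp_zero]
    by_cases hij : i + 1 = j
    · subst hij
      change (mappingCone (f • 𝟙 (koszulCx N l))).d i (i + 1) ≫ φ = 0
      apply mappingCone.ext_from (f • 𝟙 (koszulCx N l)) (i + 1) i rfl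
      · rw [comp_zero, mappingCone.inl_v_d_assoc (f • 𝟙 (koszulCx N l)) (i + 1) i (i + 1 + 1)
          (by omega) (by omega)]
        rw [Preadditive.sub_comp, Category.assoc, Category.assoc, ih hl',
          HomologicalComplex.smul_f_apply, HomologicalComplex.id_f, Linear.smul_comp,
          Category.id_comp, hfψ, sub_zero]
      · rw [comp_zero, mappingCone.inr_f_d_assoc, ih hl']
    · have : (koszulCx N (f :: l)).d i j = 0 := (koszulCx N (f :: l)).shape i j hij
      rw [this, zero_comp]


/-- ranks of the Koszul complex. -/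
def cnt : ℕ → ℤ → ℕ
  | 0, n => if n = 0 then 1 else 0
  | p + 1, n => cnt p (n + 1) + cnt p n

lemma cnt_pos (p : ℕ) (n : ℤ) (hn : 0 < n) : cnt p n = 0 := by
  induction p generalizing n with
  | zero => simp [cnt]; omega
  | succ p ih => simp [cnt, ih (n + 1) (by omega), ih n hn]

lemma cnt_neg (p i : ℕ) : cnt p (-(i : ℤ)) = p.choose i := by
  induction p generalizing i with
  | zero =>
    cases i with
    | zero => simp [cnt]
    | succ i => simp [cnt]; omega
  | succ p ih =>
    cases i with
    | zero =>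
      have h1 : cnt p (-((0 : ℕ) : ℤ) + 1) = 0 := cnt_pos p _ (by simp)
      have h2 := ih 0
      simp only [cnt, h1, h2, Nat.choose_zero_right]
    | succ i =>
      have h1 : (-((i + 1 : ℕ) : ℤ) + 1) = -(i : ℤ) := by push_cast; ring
      simp only [cnt, h1, ih i, ih (i + 1), Nat.choose_succ_succ]

theorem nonempty_X_iso (l : List A) (n : ℤ) :
    Nonempty ((koszulCx (ModuleCat.of A A) l).X n ≅
      ModuleCat.of A (Fin (cnt l.length n) → A)) := by
  induction l generalizing n with
  | nil =>
    by_cases hn : n = 0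
    · subst hn
      refine ⟨(HomologicalComplex.singleObjXSelf (ComplexShape.up ℤ) 0 (ModuleCat.of A A)) ≪≫
        (LinearEquiv.funUnique (Fin 1) A A).symm.toModuleIso⟩
    · have h0 : cnt ([] : List A).length n = 0 := by simp [cnt, hn]
      rw [h0]
      exact ⟨(HomologicalComplex.isZero_single_obj_X (ComplexShape.up ℤ) 0 _ n hn).iso
        (ModuleCat.isZero_of_subsingleton _)⟩
  | cons f l ih =>
    obtain ⟨e1⟩ := ih (n + 1)
    obtain ⟨e2⟩ := ih n
    have e : (mappingCone (f • 𝟙 (koszulCx (ModuleCat.of A A) l))).X n ≅ _ :=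
      HomologicalComplex.homotopyCofiber.XIsoBiprod (f • 𝟙 (koszulCx (ModuleCat.of A A) l)) n (n + 1) rfl
    refine ⟨e ≪≫ biprod.mapIso e1 e2 ≪≫ ModuleCat.biprodIsoProd _ _ ≪≫
      LinearEquiv.toModuleIso ((LinearEquiv.sumArrowLequivProdArrow (Fin (cnt l.length (n + 1)))
        (Fin (cnt l.length n)) A A).symm ≪≫ₗ LinearEquiv.funCongrLeft A A finSumFinEquiv.symm)⟩

theorem nonempty_hom_X_equiv (l : List A) (n : ℤ) (M : Type u) [AddCommGroup M] [Module A M] :
    Nonempty (((koszulCx (ModuleCat.of A A) l).X n ⟶ ModuleCat.of A M) ≃ₗ[A]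
      (Fin (cnt l.length n) → M)) := by
  obtain ⟨e⟩ := nonempty_X_iso l n
  exact ⟨Linear.homCongr A e (Iso.refl (ModuleCat.of A M)) ≪≫ₗ ModuleCat.homLinearEquiv ≪≫ₗ
    ((Pi.basisFun A (Fin (cnt l.length n))).constr A).symm⟩

end Groth.Agent.Lib.Helper1.ExtKos
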