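import Mathlib
import Groth.Prelude.Def_FEt

set_option autoImplicit false
universe u
open CategoryTheory CategoryTheory.Limits AlgebraicGeometry

namespace Groth.Agent.Lib.Helper1.FEtFaithful

set_option backward.isDefEq.respectTransparency false in
instance isOpenImmersion_equalizer_ι_left {S : Scheme.{u}} {X Y : Over S} [FormallyUnramified Y.hom]
    [LocallyOfFiniteType Y.hom]
    (f g : X ⟶ Y) : IsOpenImmersion (equalizer.ι f g).left := by
  refine MorphismProperty.of_isPullback
    ((Limits.isPullback_equalizer_prod f g).map (Over.forget _)).flip ?_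
  rw [← MorphismProperty.cancel_right_of_respectsIso @IsOpenImmersion _
    (Over.prodLeftIsoPullback Y Y).hom]
  convert! (inferInstance : IsOpenImmersion (pullback.diagonal Y.hom))
  ext1 <;> simp [← Over.comp_left]

theorem faithful_restrict_of_clopen {X Y : Scheme.{u}} (f : X ⟶ Y)
    (H : ∀ U : Set Y, IsClopen U → U.Nonempty → (U ∩ Set.range f.base).Nonempty) :
    (FEt.restrict f).Faithful := by
  refine ⟨fun {Z Z'} φ ψ hφψ => ?_⟩
  -- the projection equalizes
  have hp : pullback.fst Z.hom f ≫ φ.left = pullback.fst Z.hom f ≫ ψ.left := by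
    have h1 : ((FEt.restrict f).map φ).left ≫ pullback.fst Z'.hom f =
        pullback.fst Z.hom f ≫ φ.left := by
      exact pullback.lift_fst _ _ _
    have h2 : ((FEt.restrict f).map ψ).left ≫ pullback.fst Z'.hom f =
        pullback.fst Z.hom f ≫ ψ.left := by
      exact pullback.lift_fst _ _ _
    rw [← h1, ← h2, hφψ]
  let Zo : Over Y := Over.mk Z.hom
  let Zo' : Over Y := Over.mk Z'.hom
  let φ' : Zo ⟶ Zo' := Over.homMk φ.left (MorphismProperty.Over.w φ)
  let ψ' : Zo ⟶ Zo' := Over.homMk ψ.left (MorphismProperty.Over.w ψ)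
  haveI hfin' : IsFinite Z'.hom := Z'.prop.1
  haveI het' : Etale Z'.hom := Z'.prop.2
  haveI hfin : IsFinite Z.hom := Z.prop.1
  haveI het : Etale Z.hom := Z.prop.2
  haveI : IsSeparated Zo'.hom := inferInstanceAs (IsSeparated Z'.hom)
  haveI : FormallyUnramified Zo'.hom := inferInstanceAs (FormallyUnramified Z'.hom)
  haveI : LocallyOfFiniteType Zo'.hom := inferInstanceAs (LocallyOfFiniteType Z'.hom)
  let ι : (equalizer φ' ψ').left ⟶ Z.left := (equalizer.ι φ' ψ').left
  haveI hcl : IsClosedImmersion ι := inferInstanceAs (IsClosedImmersion (equalizer.ι φ' ψ').left)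
  haveI hop : IsOpenImmersion ι := inferInstanceAs (IsOpenImmersion (equalizer.ι φ' ψ').left)
  -- the projection factors through the equalizer
  let P : Over Y := Over.mk (pullback.fst Z.hom f ≫ Z.hom)
  let p' : P ⟶ Zo := Over.homMk (pullback.fst Z.hom f) rfl
  have hp' : p' ≫ φ' = p' ≫ ψ' := by
    ext
    exact hp
  have hrange : Set.range (pullback.fst Z.hom f).base ⊆ Set.range ι.base := by
    rintro _ ⟨w, rfl⟩
    refine ⟨(equalizer.lift p' hp').left.base w, ?_⟩
    have : (equalizer.lift p' hp').left ≫ ι = pullback.fst Z.hom f := by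
      have := congrArg CommaMorphism.left (equalizer.lift_ι p' hp')
      exact this
    rw [← this]
    rfl
  -- the complement of the equalizer
  have hCclopen : IsClopen (Set.range ι.base)ᶜ :=
    (show IsClopen (Set.range ι.base) from ⟨ι.isClosedEmbedding.isClosed_range, ι.isOpenEmbedding.isOpen_range⟩).compl
  have hVclopen : IsClopen (Z.hom.base '' (Set.range ι.base)ᶜ) :=
    ⟨Z.hom.isClosedMap _ hCclopen.1, Z.hom.isOpenMap _ hCclopen.2⟩
  have hsurj : Set.range ι.base = Set.univ := by
    by_contra hne
    have hCne : ((Set.range ι.base)ᶜ).Nonempty := by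
      rw [Set.nonempty_compl]
      exact hne
    obtain ⟨y, ⟨z, hzC, hzy⟩, ⟨x, hxy⟩⟩ := H _ hVclopen (hCne.image _)
    obtain ⟨w, hw1, -⟩ := Scheme.Pullback.exists_preimage_pullback (f := Z.hom) (g := f) z x
      (hzy.trans hxy.symm)
    exact hzC (hrange ⟨w, hw1⟩)
  haveI : IsIso ι := by
    apply isIso_of_isOpenImmersion_of_opensRange_eq_top
    ext1
    exact hsurj.trans (by simp)
  have hcond : ι ≫ φ.left = ι ≫ ψ.left := by
    have := congrArg CommaMorphism.left (equalizer.condition φ' ψ')
    exact this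
  have hleft : φ.left = ψ.left := (cancel_epi ι).1 hcond
  exact MorphismProperty.Over.Hom.ext hleft

end Groth.Agent.Lib.Helper1.FEtFaithful
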