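import Mathlib
import Groth.Prelude.Def_FEt

set_option autoImplicit false
universe u
open CategoryTheory CategoryTheory.Limits AlgebraicGeometry

namespace Groth.Agent.Lib.Helper1.FEtFull

/-- the underlying morphism of `(FEt.restrict f).map ψ`, as a morphism of pullbacks. -/
noncomputable def mapLeft {X Y : Scheme.{u}} (f : X ⟶ Y) {P Q : FEt.Cat Y} (ψ : P ⟶ Q) :
    pullback P.hom f ⟶ pullback Q.hom f := ((FEt.restrict f).map ψ).left

theorem mapLeft_fst {X Y : Scheme.{u}} (f : X ⟶ Y) {P Q : FEt.Cat Y} (ψ : P ⟶ Q) :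
    mapLeft f ψ ≫ pullback.fst Q.hom f = pullback.fst P.hom f ≫ ψ.left :=
  pullback.lift_fst _ _ _

theorem mapLeft_snd {X Y : Scheme.{u}} (f : X ⟶ Y) {P Q : FEt.Cat Y} (ψ : P ⟶ Q) :
    mapLeft f ψ ≫ pullback.snd Q.hom f = pullback.snd P.hom f :=
  pullback.lift_snd _ _ _

/-- the underlying morphism of a morphism between restrictions. -/
def homLeft {X Y : Scheme.{u}} (f : X ⟶ Y) {P Q : FEt.Cat Y}
    (φ : (FEt.restrict f).obj P ⟶ (FEt.restrict f).obj Q) :
    pullback P.hom f ⟶ pullback Q.hom f := φ.left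

theorem homLeft_snd {X Y : Scheme.{u}} (f : X ⟶ Y) {P Q : FEt.Cat Y}
    (φ : (FEt.restrict f).obj P ⟶ (FEt.restrict f).obj Q) :
    homLeft f φ ≫ pullback.snd Q.hom f = pullback.snd P.hom f :=
  MorphismProperty.Over.w φ

theorem hom_ext_left {X Y : Scheme.{u}} (f : X ⟶ Y) {P Q : FEt.Cat Y}
    (φ φ' : (FEt.restrict f).obj P ⟶ (FEt.restrict f).obj Q) (h : homLeft f φ = homLeft f φ') :
    φ = φ' :=
  MorphismProperty.Over.Hom.ext h

/-- Fullness criterion via sections: a morphism between the restrictions is the same as a lift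
`σ` of the projection `P_X ⟶ P` to `P ×_Y Q`; it comes from a morphism `P ⟶ Q` as soon as `σ`
descends to a section of `P ×_Y Q ⟶ P`. -/
theorem full_restrict_of_sections {X Y : Scheme.{u}} (f : X ⟶ Y)
    (H : ∀ (P Q : FEt.Cat Y) (σ : pullback P.hom f ⟶ pullback P.hom Q.hom),
      σ ≫ pullback.fst P.hom Q.hom = pullback.fst P.hom f →
      ∃ s : P.left ⟶ pullback P.hom Q.hom, s ≫ pullback.fst P.hom Q.hom = 𝟙 _ ∧
        pullback.fst P.hom f ≫ s = σ) : (FEt.restrict f).Full := by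
  refine ⟨fun {P Q} φ => ?_⟩
  obtain ⟨φl, hφl⟩ : ∃ t, t = homLeft f φ := ⟨_, rfl⟩
  have hφ : φl ≫ pullback.snd Q.hom f = pullback.snd P.hom f := hφl ▸ homLeft_snd f φ
  have hcond : pullback.fst P.hom f ≫ P.hom = (φl ≫ pullback.fst Q.hom f) ≫ Q.hom := by
    rw [Category.assoc, pullback.condition (f := Q.hom), reassoc_of% hφ, pullback.condition]
  obtain ⟨s, hs1, hs2⟩ := H P Q (pullback.lift (pullback.fst P.hom f)
    (φl ≫ pullback.fst Q.hom f) hcond) (pullback.lift_fst _ _ _)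
  have hw : (s ≫ pullback.snd P.hom Q.hom) ≫ Q.hom = P.hom := by
    rw [Category.assoc, ← pullback.condition, reassoc_of% hs1]
  refine ⟨MorphismProperty.Over.homMk (s ≫ pullback.snd P.hom Q.hom) hw, ?_⟩
  apply hom_ext_left
  rw [← hφl]
  change mapLeft f _ = φl
  apply pullback.hom_ext
  · rw [mapLeft_fst]
    change pullback.fst P.hom f ≫ s ≫ pullback.snd P.hom Q.hom = _
    rw [reassoc_of% hs2, pullback.lift_snd]
  · rw [mapLeft_snd, hφ]

end Groth.Agent.Lib.Helper1.FEtFull
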