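import Mathlib
import Groth.Agent.Lib.Helper1.AffExt
import Groth.Agent.Lib.Helper1.FEtFull
import Groth.Agent.Lib.Helper1.FEtFaithful
import Groth.Agent.Lib.Helper2.FibDepth
import Groth.Agent.Lib.Helper1.DepthConn
import Groth.Agent.Lib.Helper6.SemiLin

/-! Restriction of finite étale covers to an open whose complement has depth at least two. -/

universe u
set_option backward.isDefEq.respectTransparency.types false
set_option linter.style.haveILetI false
open CategoryTheory CategoryTheory.Limits AlgebraicGeometry TopologicalSpace Opposite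

namespace Groth.Agent.H1.FEtDepth2

theorem exists_section_of_finite {X P T : Scheme.{u}} [IsLocallyNoetherian X] (U : X.Opens)
    (h : ∀ x : X, x ∉ U →
      (2 : ℕ∞) ≤ LocCoh.depth (X.presheaf.stalk x) (X.presheaf.stalk x))
    (π : P ⟶ X) [LocallyOfFiniteType π] [Flat π] (q : T ⟶ X) [IsAffineHom q]
    (σ : pullback π U.ι ⟶ pullback π q) (hσ : σ ≫ pullback.fst π q = pullback.fst π U.ι) :
    ∃ s : P ⟶ pullback π q, s ≫ pullback.fst π q = 𝟙 _ ∧ pullback.fst π U.ι ≫ s = σ := by
  haveI : IsLocallyNoetherian P := LocallyOfFiniteType.isLocallyNoetherian π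
  have sq := isPullback_morphismRestrict π U
  have hdepth : ∀ y : P, y ∉ π ⁻¹ᵁ U →
      (2 : ℕ∞) ≤ LocCoh.depth (P.presheaf.stalk y) (P.presheaf.stalk y) := by
    intro y hy
    rw [Groth.Agent.H2.FibDepth.depth_stalk_eq π y]
    exact le_add_right (h _ hy)
  have hcond : (π ⁻¹ᵁ U).ι ≫ π = (π ∣_ U) ≫ U.ι := sq.w.symm
  have hg : (pullback.lift (π ⁻¹ᵁ U).ι (π ∣_ U) hcond ≫ σ) ≫
      pullback.fst π q = (π ⁻¹ᵁ U).ι := by
    rw [Category.assoc, hσ, pullback.lift_fst]
  haveI : IsAffineHom (pullback.fst π q) :=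
    MorphismProperty.pullback_fst (P := @IsAffineHom) π q inferInstance
  obtain ⟨s, hs1, hs2⟩ := Groth.Agent.H1.AffExt.exists_section (π ⁻¹ᵁ U) hdepth
    (pullback.fst π q) _ hg
  refine ⟨s, hs1, ?_⟩
  have h1 : sq.lift (pullback.snd π U.ι) (pullback.fst π U.ι) pullback.condition.symm ≫
      (π ⁻¹ᵁ U).ι = pullback.fst π U.ι := sq.lift_snd _ _ _
  have h2 : sq.lift (pullback.snd π U.ι) (pullback.fst π U.ι) pullback.condition.symm ≫
      (π ∣_ U) = pullback.snd π U.ι := sq.lift_fst _ _ _
  have h3 : sq.lift (pullback.snd π U.ι) (pullback.fst π U.ι) pullback.condition.symm ≫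
      pullback.lift (π ⁻¹ᵁ U).ι (π ∣_ U) hcond = 𝟙 _ := by
    apply pullback.hom_ext
    · rw [Category.assoc, pullback.lift_fst, h1, Category.id_comp]
    · rw [Category.assoc, pullback.lift_snd, h2, Category.id_comp]
  rw [← h1, Category.assoc, hs2, reassoc_of% h3]

theorem full_restrict {X : Scheme.{u}} [IsLocallyNoetherian X] (U : X.Opens)
    (h : ∀ x : X, x ∉ U →
      (2 : ℕ∞) ≤ LocCoh.depth (X.presheaf.stalk x) (X.presheaf.stalk x)) :
    (FEt.restrict U.ι).Full := by
  apply Groth.Agent.Lib.Helper1.FEtFull.full_restrict_of_sections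
  intro P Q σ hσ
  haveI : IsFinite (show P.left ⟶ X from P.hom) := P.prop.1
  haveI : Etale (show P.left ⟶ X from P.hom) := P.prop.2
  haveI : IsFinite (show Q.left ⟶ X from Q.hom) := Q.prop.1
  exact exists_section_of_finite U h (show P.left ⟶ X from P.hom) (show Q.left ⟶ X from Q.hom)
    σ hσ

theorem faithful_restrict {X : Scheme.{u}} (U : X.Opens) (hU : Dense (U : Set X)) :
    (FEt.restrict U.ι).Faithful := by
  apply Groth.Agent.Lib.Helper1.FEtFaithful.faithful_restrict_of_clopen
  intro S hS hne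
  rw [Scheme.Opens.range_ι]
  exact hU.inter_open_nonempty S hS.isOpen hne

theorem s0259 {X : Scheme.{u}} [IsNoetherian X] (U : X.Opens) (hU : Dense (U : Set X))
    (h : ∀ x : X, x ∉ U →
      (2 : ℕ∞) ≤ LocCoh.depth (X.presheaf.stalk x) (X.presheaf.stalk x)) :
    (FEt.restrict U.ι).Full ∧ (FEt.restrict U.ι).Faithful :=
  ⟨full_restrict U h, faithful_restrict U hU⟩

section Local

variable (A : Type u) [CommRing A] [IsNoetherianRing A] [IsLocalRing A]

theorem depth_stalk_closedPoint :
    LocCoh.depth ((Spec (CommRingCat.of A)).presheaf.stalk (IsLocalRing.closedPoint A))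
      ((Spec (CommRingCat.of A)).presheaf.stalk (IsLocalRing.closedPoint A)) =
      LocCoh.depth A A := by
  letI : Algebra A ((Spec (CommRingCat.of A)).presheaf.stalk (IsLocalRing.closedPoint A)) :=
    StructureSheaf.stalkAlgebra A (IsLocalRing.closedPoint A)
  haveI : IsLocalization.AtPrime
      ((Spec (CommRingCat.of A)).presheaf.stalk (IsLocalRing.closedPoint A))
      (IsLocalRing.closedPoint A).asIdeal :=
    StructureSheaf.IsLocalization.to_stalk A (IsLocalRing.closedPoint A)
  haveI : IsLocalization (IsLocalRing.closedPoint A).asIdeal.primeCompl A :=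
    IsLocalization.of_le_isUnit (fun a ha => by
      by_contra hna
      exact ha ((IsLocalRing.mem_maximalIdeal a).mpr hna))
  haveI : IsNoetherianRing
      ((Spec (CommRingCat.of A)).presheaf.stalk (IsLocalRing.closedPoint A)) :=
    IsLocalization.isNoetherianRing (IsLocalRing.closedPoint A).asIdeal.primeCompl _ inferInstance
  haveI : IsLocalizedModule (IsLocalRing.closedPoint A).asIdeal.primeCompl
      (LinearMap.id : A →ₗ[A] A) :=
    isLocalizedModule_id (IsLocalRing.closedPoint A).asIdeal.primeCompl A A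
  exact (Groth.Agent.H6.SemiLin.depth_and_dim_eq_of_isLocalizedModule
    (IsLocalRing.closedPoint A).asIdeal.primeCompl
    (T₁ := (Spec (CommRingCat.of A)).presheaf.stalk (IsLocalRing.closedPoint A)) (T₂ := A)
    (Algebra.linearMap A ((Spec (CommRingCat.of A)).presheaf.stalk (IsLocalRing.closedPoint A)))
    (LinearMap.id : A →ₗ[A] A)).1

theorem dense_puncturedSpec (hA : (1 : ℕ∞) ≤ LocCoh.depth A A) :
    Dense ((FEt.puncturedSpec A : (Spec (CommRingCat.of A)).Opens) :
      Set (Spec (CommRingCat.of A))) := by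
  obtain ⟨r, hrm, hr⟩ := Groth.Agent.H1.DepthConn.exists_not_nilpotent A hA
  have hne : PrimeSpectrum.basicOpen r ≠ ⊥ := fun h => hr (PrimeSpectrum.basicOpen_eq_bot_iff r |>.mp h)
  obtain ⟨p, hp⟩ : ∃ p : PrimeSpectrum A, p ∈ PrimeSpectrum.basicOpen r := by
    by_contra hcon
    push_neg at hcon
    exact hne (by ext x; simpa using hcon x)
  have hpU : p ≠ IsLocalRing.closedPoint A := by
    rintro rfl
    exact hp hrm
  rw [dense_iff_inter_open]
  intro O hO ⟨y, hy⟩
  by_cases hyc : y = IsLocalRing.closedPoint A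
  · subst hyc
    have hpO : p ∈ O := (IsLocalRing.specializes_closedPoint p).mem_open hO hy
    exact ⟨p, hpO, hpU⟩
  · exact ⟨y, hy, hyc⟩

theorem s0258 (hA : (2 : ℕ∞) ≤ LocCoh.depth A A) :
    (FEt.restrict (FEt.puncturedSpec A).ι).Full ∧
      (FEt.restrict (FEt.puncturedSpec A).ι).Faithful := by
  refine ⟨full_restrict (FEt.puncturedSpec A) ?_, faithful_restrict (FEt.puncturedSpec A)
    (dense_puncturedSpec A (le_trans (by norm_num) hA))⟩
  intro x hx
  have hxc : x = IsLocalRing.closedPoint A := by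
    by_contra hne
    exact hx hne
  subst hxc
  rw [depth_stalk_closedPoint]
  exact hA

end Local

end Groth.Agent.H1.FEtDepth2
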