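import Mathlib

set_option autoImplicit false

open CategoryTheory CategoryTheory.Limits

namespace Groth.Agent.H1.FKI

universe v u

variable {A : Type u} [Category.{v} A] [Abelian A]

lemma shortExact_cokernel {K L : CochainComplex A ℤ} (i : K ⟶ L) [Mono i] :
    (ShortComplex.mk i (cokernel.π i) (cokernel.condition i)).ShortExact :=
  ShortComplex.ShortExact.mk' (ShortComplex.exact_cokernel i) inferInstance
    (inferInstanceAs (Epi (cokernel.π i)))

open DerivedCategory in
/-- two-out-of-three for quasi-isomorphisms between short exact sequences: the first map -/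
lemma quasiIso_τ₁ {S₁ S₂ : ShortComplex (CochainComplex A ℤ)} (φ : S₁ ⟶ S₂)
    (h₁ : S₁.ShortExact) (h₂ : S₂.ShortExact) (hφ₂ : QuasiIso φ.τ₂) (hφ₃ : QuasiIso φ.τ₃) :
    QuasiIso φ.τ₁ := by
  let _ := HasDerivedCategory.standard A
  have i2 : IsIso (triangleOfSES.map h₁ h₂ φ).hom₂ := (isIso_Q_map_iff_quasiIso _ φ.τ₂).2 hφ₂
  have i3 : IsIso (triangleOfSES.map h₁ h₂ φ).hom₃ := (isIso_Q_map_iff_quasiIso _ φ.τ₃).2 hφ₃
  have i1 : IsIso (triangleOfSES.map h₁ h₂ φ).hom₁ :=
    Pretriangulated.isIso₁_of_isIso₂₃ _ (triangleOfSES_distinguished h₁)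
      (triangleOfSES_distinguished h₂) i2 i3
  exact (isIso_Q_map_iff_quasiIso _ φ.τ₁).1 i1

section Split

variable (S : ShortComplex (CochainComplex A ℤ))
  (σ : ∀ n, (S.map (HomologicalComplex.eval A (ComplexShape.up ℤ) n)).Splitting)

include σ in
lemma isKInjective_X₃ [S.X₁.IsKInjective] [S.X₂.IsKInjective] : S.X₃.IsKInjective := by
  rw [CochainComplex.isKInjective_iff_rightOrthogonal]
  have hT : CochainComplex.trianglehOfDegreewiseSplit S σ ∈ distTriang _ :=
    (HomotopyCategory.distinguished_iff_iso_trianglehOfDegreewiseSplit _).2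
      ⟨S, σ, ⟨Iso.refl _⟩⟩
  exact (HomotopyCategory.subcategoryAcyclic A).rightOrthogonal.ext_of_isTriangulatedClosed₃ _ hT
    (CochainComplex.IsKInjective.rightOrthogonal S.X₁)
    (CochainComplex.IsKInjective.rightOrthogonal S.X₂)

include σ in
lemma isKInjective_X₁ [S.X₂.IsKInjective] [S.X₃.IsKInjective] : S.X₁.IsKInjective := by
  rw [CochainComplex.isKInjective_iff_rightOrthogonal]
  have hT : CochainComplex.trianglehOfDegreewiseSplit S σ ∈ distTriang _ :=
    (HomotopyCategory.distinguished_iff_iso_trianglehOfDegreewiseSplit _).2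
      ⟨S, σ, ⟨Iso.refl _⟩⟩
  exact (HomotopyCategory.subcategoryAcyclic A).rightOrthogonal.ext_of_isTriangulatedClosed₁ _ hT
    (CochainComplex.IsKInjective.rightOrthogonal S.X₂)
    (CochainComplex.IsKInjective.rightOrthogonal S.X₃)

include σ in
lemma injective_X₁ (n : ℤ) [Injective (S.X₂.X n)] : Injective (S.X₁.X n) :=
  Retract.injective (Y := S.X₂.X n) ⟨S.f.f n, (σ n).r, (σ n).f_r⟩

include σ in
lemma injective_X₃ (n : ℤ) [Injective (S.X₂.X n)] : Injective (S.X₃.X n) :=
  Retract.injective (Y := S.X₂.X n) ⟨(σ n).s, S.g.f n, (σ n).s_g⟩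

variable {S}

/-- degreewise splittings from degreewise sections -/
noncomputable def splittingOfSections (hS : S.ShortExact) (s : ∀ n, S.X₃.X n ⟶ S.X₂.X n)
    (hs : ∀ n, s n ≫ S.g.f n = 𝟙 _) (n : ℤ) :
    (S.map (HomologicalComplex.eval A (ComplexShape.up ℤ) n)).Splitting :=
  ShortComplex.Splitting.ofExactOfSection _
    (hS.map_of_exact (HomologicalComplex.eval A (ComplexShape.up ℤ) n)).exact (s n) (hs n)
    (hS.map_of_exact (HomologicalComplex.eval A (ComplexShape.up ℤ) n)).mono_f

/-- degreewise splittings when the terms of the subcomplex are injective -/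
noncomputable def splittingOfInjective (hS : S.ShortExact) (h : ∀ n, Injective (S.X₁.X n))
    (n : ℤ) : (S.map (HomologicalComplex.eval A (ComplexShape.up ℤ) n)).Splitting :=
  haveI : Injective (S.map (HomologicalComplex.eval A (ComplexShape.up ℤ) n)).X₁ := h n
  (hS.map_of_exact (HomologicalComplex.eval A (ComplexShape.up ℤ) n)).splittingOfInjective

end Split

end Groth.Agent.H1.FKI
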