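import Mathlib
import Groth.Agent.Lib.Helper7.KInj

set_option autoImplicit false

open CategoryTheory CategoryTheory.Limits

namespace Groth.Agent.H1.FKI

universe v u w w'

section Sigma

variable {A : Type u} [Category.{v} A] [Abelian A]

lemma isZero_sigma_of_isEmpty {I : Type w} [IsEmpty I] (f : I → A) [HasCoproduct f] :
    IsZero (∐ f) := by
  rw [IsZero.iff_id_eq_zero]
  exact Sigma.hom_ext _ _ (fun i => isEmptyElim i)

/-- the codiagonal of a coproduct indexed by a subsingleton is a monomorphism -/
lemma mono_codiag {I : Type w} [Subsingleton I] (d : A) [HasCoproduct (fun _ : I => d)] :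
    Mono (Sigma.desc (fun _ : I => 𝟙 d)) := by
  rcases isEmpty_or_nonempty I with hI | ⟨⟨i₀⟩⟩
  · exact ⟨fun g h _ => (isZero_sigma_of_isEmpty _).eq_of_tgt _ _⟩
  · have h : Sigma.desc (fun _ : I => 𝟙 d) ≫ Sigma.ι (fun _ : I => d) i₀ = 𝟙 _ := by
      refine Sigma.hom_ext _ _ (fun i => ?_)
      obtain rfl := Subsingleton.elim i i₀
      simp
    exact mono_of_mono_fac h

end Sigma

section Presheaf

variable {A : Type u} [Category.{v} A] [Abelian A]
variable {S : Type w} [Category.{w'} S] [Quiver.IsThin S]
variable [∀ a b : S, HasCoproductsOfShape (a ⟶ b) A]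

set_option backward.defeqAttrib.useBackward true in
set_option backward.isDefEq.respectTransparency false in
instance preservesMono_evalLeftAdj (c : S) :
    (evaluationLeftAdjoint A c).PreservesMonomorphisms where
  preserves {d d'} u hu := by
    haveI : ∀ k, Mono (((evaluationLeftAdjoint A c).map u).app k) := fun k => by
      haveI := mono_codiag (I := (c ⟶ k)) d
      have e : ((evaluationLeftAdjoint A c).map u).app k ≫
          Sigma.desc (fun _ : (c ⟶ k) => 𝟙 d') = Sigma.desc (fun _ : (c ⟶ k) => 𝟙 d) ≫ u := by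
        refine Sigma.hom_ext _ _ (fun i => ?_)
        simp only [evaluationLeftAdjoint_map_app, evaluationLeftAdjoint_obj_map, evaluationLeftAdjoint_obj_obj, colimit.ι_desc_assoc, colimit.ι_desc, Cofan.mk_ι_app, Cofan.mk_pt, Discrete.functor_obj, Category.assoc, Category.comp_id, Category.id_comp, CategoryTheory.Functor.map_comp, CategoryTheory.Functor.map_id]
      haveI : Mono (Sigma.desc (fun _ : (c ⟶ k) => 𝟙 d) ≫ u) := mono_comp _ _
      exact mono_of_mono_fac e
    exact NatTrans.mono_of_mono_app _

theorem injective_obj (G : S ⥤ A) [Injective G] (c : S) : Injective (G.obj c) :=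
  Injective.injective_of_adjoint (evaluationAdjunctionRight A c) G

instance additive_evalLeftAdj (c : S) : (evaluationLeftAdjoint A c).Additive :=
  (evaluationAdjunctionRight A c).left_adjoint_additive

instance preservesFiniteLimits_evalLeftAdj (c : S) :
    PreservesFiniteLimits (evaluationLeftAdjoint A c) := by
  haveI : PreservesColimitsOfSize.{0, 0} (evaluationLeftAdjoint A c) :=
    (evaluationAdjunctionRight A c).leftAdjoint_preservesColimits
  haveI : (evaluationLeftAdjoint A c).PreservesHomology :=
    Functor.preservesHomology_of_preservesMonos_and_cokernels _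
  exact Functor.preservesFiniteLimits_of_preservesHomology _

theorem isKInjective_eval (I : CochainComplex (S ⥤ A) ℤ) [I.IsKInjective] (c : S) :
    CochainComplex.IsKInjective
      ((((evaluation S A).obj c).mapHomologicalComplex (ComplexShape.up ℤ)).obj I) :=
  Groth.Agent.H7.KInj.isKInjective_map (evaluationAdjunctionRight A c) I

set_option backward.defeqAttrib.useBackward true in
set_option backward.isDefEq.respectTransparency false in
theorem isSplitEpi_map_of_injective (G : S ⥤ A) [Injective G] {c c' : S} (g : c ⟶ c') :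
    IsSplitEpi (G.map g) := by
  obtain ⟨M, hM⟩ : ∃ M : A, M = G.obj c' := ⟨_, rfl⟩
  subst hM
  let a : (evaluationLeftAdjoint A c').obj (G.obj c') ⟶ G :=
    { app := fun k => Sigma.desc fun h => G.map h
      naturality := fun k k' f => by
        refine Sigma.hom_ext _ _ (fun i => ?_)
        simp only [evaluationLeftAdjoint_map_app, evaluationLeftAdjoint_obj_map, evaluationLeftAdjoint_obj_obj, colimit.ι_desc_assoc, colimit.ι_desc, Cofan.mk_ι_app, Cofan.mk_pt, Discrete.functor_obj, Category.assoc, Category.comp_id, Category.id_comp, CategoryTheory.Functor.map_comp, CategoryTheory.Functor.map_id] }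
  let m : (evaluationLeftAdjoint A c').obj (G.obj c') ⟶
      (evaluationLeftAdjoint A c).obj (G.obj c') :=
    { app := fun k => Sigma.desc fun h : c' ⟶ k =>
        Sigma.ι (fun _ : c ⟶ k => G.obj c') (g ≫ h)
      naturality := fun k k' f => by
        refine Sigma.hom_ext _ _ (fun i => ?_)
        simp only [evaluationLeftAdjoint_map_app, evaluationLeftAdjoint_obj_map, evaluationLeftAdjoint_obj_obj, colimit.ι_desc_assoc, colimit.ι_desc, Cofan.mk_ι_app, Cofan.mk_pt, Discrete.functor_obj, Category.assoc, Category.comp_id, Category.id_comp, CategoryTheory.Functor.map_comp, CategoryTheory.Functor.map_id] }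
  haveI : ∀ k, Mono (m.app k) := fun k => by
    haveI := mono_codiag (I := (c' ⟶ k)) (G.obj c')
    have e : m.app k ≫ Sigma.desc (fun _ : (c ⟶ k) => 𝟙 (G.obj c')) =
        Sigma.desc (fun _ : (c' ⟶ k) => 𝟙 (G.obj c')) := by
      refine Sigma.hom_ext _ _ (fun i => ?_)
      simp only [m, evaluationLeftAdjoint_map_app, evaluationLeftAdjoint_obj_map, evaluationLeftAdjoint_obj_obj, colimit.ι_desc_assoc, colimit.ι_desc, Cofan.mk_ι_app, Cofan.mk_pt, Discrete.functor_obj, Category.assoc, Category.comp_id, Category.id_comp, CategoryTheory.Functor.map_comp, CategoryTheory.Functor.map_id]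
    exact mono_of_mono_fac e
  haveI : Mono m := NatTrans.mono_of_mono_app _
  obtain ⟨a', ha'⟩ : ∃ a' : (evaluationLeftAdjoint A c).obj (G.obj c') ⟶ G, m ≫ a' = a :=
    ⟨Injective.factorThru a m, Injective.comp_factorThru a m⟩
  have e1 : Sigma.ι (fun _ : c' ⟶ c' => G.obj c') (𝟙 c') ≫ a.app c' = 𝟙 _ := by
    simp only [a, evaluationLeftAdjoint_map_app, evaluationLeftAdjoint_obj_map, evaluationLeftAdjoint_obj_obj, colimit.ι_desc_assoc, colimit.ι_desc, Cofan.mk_ι_app, Cofan.mk_pt, Discrete.functor_obj, Category.assoc, Category.comp_id, Category.id_comp, CategoryTheory.Functor.map_comp, CategoryTheory.Functor.map_id]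
  have e3 : Sigma.ι (fun _ : c' ⟶ c' => G.obj c') (𝟙 c') ≫ m.app c' =
      Sigma.ι (fun _ : c ⟶ c' => G.obj c') g := by
    simp only [m, evaluationLeftAdjoint_map_app, evaluationLeftAdjoint_obj_map, evaluationLeftAdjoint_obj_obj, colimit.ι_desc_assoc, colimit.ι_desc, Cofan.mk_ι_app, Cofan.mk_pt, Discrete.functor_obj, Category.assoc, Category.comp_id, Category.id_comp, CategoryTheory.Functor.map_comp, CategoryTheory.Functor.map_id]
  have e4 : Sigma.ι (fun _ : c ⟶ c => G.obj c') (𝟙 c) ≫
      ((evaluationLeftAdjoint A c).obj (G.obj c')).map g =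
      Sigma.ι (fun _ : c ⟶ c' => G.obj c') g := by
    simp only [evaluationLeftAdjoint_map_app, evaluationLeftAdjoint_obj_map, evaluationLeftAdjoint_obj_obj, colimit.ι_desc_assoc, colimit.ι_desc, Cofan.mk_ι_app, Cofan.mk_pt, Discrete.functor_obj, Category.assoc, Category.comp_id, Category.id_comp, CategoryTheory.Functor.map_comp, CategoryTheory.Functor.map_id]
  refine ⟨⟨⟨Sigma.ι (fun _ : c ⟶ c => G.obj c') (𝟙 c) ≫ a'.app c, ?_⟩⟩⟩
  calc (Sigma.ι (fun _ : c ⟶ c => G.obj c') (𝟙 c) ≫ a'.app c) ≫ G.map g
      = Sigma.ι (fun _ : c ⟶ c => G.obj c') (𝟙 c) ≫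
          (((evaluationLeftAdjoint A c).obj (G.obj c')).map g ≫ a'.app c') := by
        rw [Category.assoc, a'.naturality]
    _ = Sigma.ι (fun _ : c ⟶ c' => G.obj c') g ≫ a'.app c' := by
        rw [← Category.assoc, e4]
    _ = Sigma.ι (fun _ : c' ⟶ c' => G.obj c') (𝟙 c') ≫ (m ≫ a').app c' := by
        rw [NatTrans.comp_app, ← Category.assoc, e3]
    _ = 𝟙 _ := by rw [ha', e1]

end Presheaf

end Groth.Agent.H1.FKI
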