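import Mathlib
import Groth.Agent.Lib.Helper1.FKI2
import Groth.Agent.Lib.Helper6.KInjG6
import Groth.Prelude.Def_SpSeq

set_option autoImplicit false

open CategoryTheory CategoryTheory.Limits

namespace Groth.Agent.H1.FKI

universe v u

section Pre

variable {A : Type u} [Category.{v} A] [Abelian A]

theorem isGrothendieckAbelian_presheaf [IsGrothendieckAbelian.{v} A] (C : Type) [Category.{0} C] :
    IsGrothendieckAbelian.{v} (Cᵒᵖ ⥤ A) := by
  haveI : HasColimitsOfSize.{0,0} A := hasColimitsOfSizeShrink.{0,0,v,v} A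
  exact {
    locallySmall := inferInstance
    hasFilteredColimitsOfSize := ⟨fun J _ _ => inferInstance⟩
    ab5OfSize := ⟨fun J _ _ => inferInstance⟩
    hasSeparator := inferInstance }

instance isThin_op_withTop : Quiver.IsThin (WithTop ℤ)ᵒᵖ :=
  fun _ _ => ⟨fun _ _ => Quiver.Hom.unop_inj (Subsingleton.elim _ _)⟩

lemma isIso_cokernel_π_of_eq_zero {X Y : A} (f : X ⟶ Y) (h : f = 0) : IsIso (cokernel.π f) := by
  subst h; infer_instance

end Pre

section Quot

variable {B : Type*} [Category B] [Abelian B] {X : B}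

noncomputable def quotMap {S T : Subobject X} (h : S ≤ T) : cokernel S.arrow ⟶ cokernel T.arrow :=
  cokernel.desc _ (cokernel.π T.arrow) (by
    rw [← Subobject.ofLE_arrow h, Category.assoc, cokernel.condition, comp_zero])

@[reassoc (attr := simp)]
lemma π_quotMap {S T : Subobject X} (h : S ≤ T) :
    cokernel.π S.arrow ≫ quotMap h = cokernel.π T.arrow := cokernel.π_desc _ _ _

lemma quotMap_refl (S : Subobject X) : quotMap (le_refl S) = 𝟙 _ := by
  rw [← cancel_epi (cokernel.π S.arrow)]; simp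

lemma quotMap_trans {S T U : Subobject X} (h : S ≤ T) (h' : T ≤ U) :
    quotMap h ≫ quotMap h' = quotMap (h.trans h') := by
  rw [← cancel_epi (cokernel.π S.arrow)]; simp

variable (K : SpSeq.FilObj B)

noncomputable def fil' (t : WithTop ℤ) : Subobject K.obj :=
  WithTop.recTopCoe ⊥ (fun p => K.fil p) t

lemma fil'_top : fil' K ⊤ = ⊥ := rfl
lemma fil'_coe (p : ℤ) : fil' K (p : WithTop ℤ) = K.fil p := rfl

lemma fil'_anti : Antitone (fil' K) := by
  intro s t h
  induction t using WithTop.recTopCoe with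
  | top => exact bot_le
  | coe q =>
    induction s using WithTop.recTopCoe with
    | top => exact absurd h (by simp)
    | coe p => exact K.anti (WithTop.coe_le_coe.1 h)

noncomputable def Qfun : (WithTop ℤ)ᵒᵖ ⥤ B where
  obj t := cokernel (fil' K t.unop).arrow
  map {s t} g := quotMap (fil'_anti K (leOfHom g.unop))
  map_id t := quotMap_refl _
  map_comp g g' := (quotMap_trans _ _).symm

noncomputable def c₀ : K.obj ⟶ (Qfun K).obj (Opposite.op ⊤) := cokernel.π (fil' K ⊤).arrow

instance : IsIso (c₀ K) := isIso_cokernel_π_of_eq_zero _ Subobject.bot_arrow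

noncomputable def cp (p : ℤ) : K.obj ⟶ (Qfun K).obj (Opposite.op (p : WithTop ℤ)) :=
  cokernel.π (K.fil p).arrow

lemma c₀_map (p : ℤ) (h : (p : WithTop ℤ) ≤ ⊤) :
    c₀ K ≫ (Qfun K).map (homOfLE h).op = cp K p := π_quotMap (fil'_anti K h)

end Quot

section Ev

variable {A : Type u} [Category.{v} A] [Abelian A]
variable {T : Type*} [Category T]

noncomputable def Dcx (F : T ⥤ CochainComplex A ℤ) : CochainComplex (T ⥤ A) ℤ where
  X n := F ⋙ HomologicalComplex.eval A (ComplexShape.up ℤ) n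
  d n m := { app := fun t => (F.obj t).d n m, naturality := fun s t g => ((F.map g).comm n m) }
  shape n m h := by ext t; exact (F.obj t).shape n m h
  d_comp_d' n m k _ _ := by ext t; exact (F.obj t).d_comp_d n m k

noncomputable abbrev Ev (t : T) : CochainComplex (T ⥤ A) ℤ ⥤ CochainComplex A ℤ :=
  ((evaluation T A).obj t).mapHomologicalComplex (ComplexShape.up ℤ)

variable (F : T ⥤ CochainComplex A ℤ) (I : CochainComplex (T ⥤ A) ℤ) (f : Dcx F ⟶ I)

noncomputable def evIso (t : T) : (Ev t).obj (Dcx F) ≅ F.obj t :=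
  HomologicalComplex.Hom.isoOfComponents (fun n => Iso.refl _) (by
    intro i j _
    exact (Category.id_comp _).trans (Category.comp_id _).symm)

noncomputable def ft (t : T) : F.obj t ⟶ (Ev t).obj I := (evIso F t).inv ≫ (Ev t).map f

lemma ft_f (t : T) (n : ℤ) : (ft F I f t).f n = (f.f n).app t := by
  simp [ft, evIso]
  exact Category.id_comp _

instance evaluation_preservesFiniteLimits' (t : T) :
    PreservesFiniteLimits ((evaluation T A).obj t) := ⟨fun J _ _ => inferInstance⟩

instance evaluation_preservesFiniteColimits' (t : T) :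
    PreservesFiniteColimits ((evaluation T A).obj t) := ⟨fun J _ _ => inferInstance⟩

lemma quasiIso_ft [QuasiIso f] (t : T) : QuasiIso (ft F I f t) := by
  unfold ft
  haveI : QuasiIso ((Ev t).map f) := by
    unfold Ev
    infer_instance
  infer_instance

noncomputable def tr {s t : T} (g : s ⟶ t) : (Ev s).obj I ⟶ (Ev t).obj I :=
  (NatTrans.mapHomologicalComplex ((evaluation T A).map g) _).app I

lemma tr_f {s t : T} (g : s ⟶ t) (n : ℤ) : (tr I g).f n = (I.X n).map g := rfl

lemma tr_comp {s t r : T} (g : s ⟶ t) (g' : t ⟶ r) : tr I g ≫ tr I g' = tr I (g ≫ g') := by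
  ext n
  exact ((I.X n).map_comp g g').symm

lemma ft_tr {s t : T} (g : s ⟶ t) : ft F I f s ≫ tr I g = F.map g ≫ ft F I f t := by
  ext n
  simp only [HomologicalComplex.comp_f, ft_f, tr_f]
  exact ((f.f n).naturality g).symm

end Ev

section Core

variable {A : Type u} [Category.{v} A] [Abelian A] [IsGrothendieckAbelian.{v} A]

theorem exists_core (K : SpSeq.FilCx A) :
    ∃ (J : CochainComplex A ℤ) (Q : ℤ → CochainComplex A ℤ) (π : ∀ p, J ⟶ Q p)
      (j : K.obj ⟶ J) (fq : ∀ p, K.quot p ⟶ Q p),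
      J.IsKInjective ∧ (∀ n, Injective (J.X n)) ∧ (∀ p, (Q p).IsKInjective) ∧
      (∀ p n, Injective ((Q p).X n)) ∧
      (∀ p n, ∃ s : (Q p).X n ⟶ J.X n, s ≫ (π p).f n = 𝟙 _) ∧
      (∀ p p', p ≤ p' → ∃ τ : Q p' ⟶ Q p, π p' ≫ τ = π p) ∧
      QuasiIso j ∧ (∀ p, QuasiIso (fq p)) ∧
      ∀ p, cokernel.π (K.fil p).arrow ≫ fq p = j ≫ π p := by
  haveI : HasColimitsOfSize.{0,0} A := hasColimitsOfSizeShrink.{0,0,v,v} A
  haveI : IsGrothendieckAbelian.{v} ((WithTop ℤ)ᵒᵖ ⥤ A) :=
    isGrothendieckAbelian_presheaf (WithTop ℤ)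
  obtain ⟨I, f, hI, hf, -, hinj⟩ := Groth.Agent.H6.KInjG.main (Dcx (Qfun K))
  haveI := hI
  haveI := hf
  have hgp : ∀ p : ℤ, (p : WithTop ℤ) ≤ ⊤ := fun p => le_top
  have hj : QuasiIso (c₀ K ≫ ft (Qfun K) I f (Opposite.op (⊤ : WithTop ℤ))) := by
    haveI := quasiIso_ft (Qfun K) I f (Opposite.op (⊤ : WithTop ℤ))
    exact quasiIso_comp _ _
  refine ⟨(Ev (Opposite.op (⊤ : WithTop ℤ))).obj I,
    fun p => (Ev (Opposite.op (p : WithTop ℤ))).obj I,
    fun p => tr I (homOfLE (hgp p)).op,
    c₀ K ≫ ft (Qfun K) I f (Opposite.op (⊤ : WithTop ℤ)),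
    fun p => ft (Qfun K) I f (Opposite.op (p : WithTop ℤ)),
    isKInjective_eval I _, ?_, fun p => isKInjective_eval I _, ?_, ?_, ?_, hj,
    fun p => quasiIso_ft (Qfun K) I f _, ?_⟩
  · intro n
    haveI := hinj n
    exact injective_obj (I.X n) _
  · intro p n
    haveI := hinj n
    exact injective_obj (I.X n) _
  · intro p n
    haveI := hinj n
    haveI := isSplitEpi_map_of_injective (I.X n) (homOfLE (hgp p)).op
    have hs : section_ ((I.X n).map (homOfLE (hgp p)).op) ≫ (I.X n).map (homOfLE (hgp p)).op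
        = 𝟙 _ := IsSplitEpi.id _
    exact ⟨_, hs⟩
  · intro p p' h
    refine ⟨tr I (homOfLE (WithTop.coe_le_coe.2 h)).op, ?_⟩
    rw [tr_comp]
    congr 1
  · intro p
    rw [Category.assoc, ft_tr, ← Category.assoc, c₀_map]
    rfl

end Core

end Groth.Agent.H1.FKI
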