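import Mathlib
import Groth.Agent.Lib.Helper1.FKI1
import Groth.Agent.Lib.Helper1.FKI3

set_option autoImplicit false

open CategoryTheory CategoryTheory.Limits

namespace Groth.Agent.H1.FKI

universe v u

variable {A : Type u} [Category.{v} A] [Abelian A]

section General

lemma le_pullback_of_fac {B : Type*} [Category B] [Abelian B] {X Y : B} (f : X ⟶ Y)
    (S : Subobject X) (T : Subobject Y) (g : (S : B) ⟶ (T : B))
    (w : g ≫ T.arrow = S.arrow ≫ f) : S ≤ (Subobject.pullback f).obj T := by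
  rw [Subobject.pullback_obj]
  exact Subobject.le_mk_of_comm (pullback.lift g S.arrow w) (pullback.lift_snd _ _ _)

noncomputable def cokernelMkIso {X Y : A} (f : X ⟶ Y) [Mono f] :
    cokernel (Subobject.mk f).arrow ≅ cokernel f :=
  cokernel.mapIso _ _ (Subobject.underlyingIso f) (Iso.refl _) (by simp)

noncomputable def cokernelOfLEMkIso {X Y Z : A} (f : X ⟶ Z) (g : Y ⟶ Z) [Mono f] [Mono g]
    (u : X ⟶ Y) (hu : u ≫ g = f) (h : Subobject.mk f ≤ Subobject.mk g) :
    cokernel ((Subobject.mk f).ofLE (Subobject.mk g) h) ≅ cokernel u :=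
  cokernel.mapIso _ _ (Subobject.underlyingIso f) (Subobject.underlyingIso g) (by
    rw [← cancel_mono g, Category.assoc, Category.assoc,
      Subobject.underlyingIso_hom_comp_eq_mk, Subobject.ofLE_arrow, hu,
      Subobject.underlyingIso_hom_comp_eq_mk])

variable {L M : CochainComplex A ℤ} (i : L ⟶ M) [Mono i]

lemma coker_isKInjective (hL : ∀ n, Injective (L.X n)) (hL' : L.IsKInjective)
    (hM' : M.IsKInjective) : (cokernel i).IsKInjective :=
  @isKInjective_X₃ A _ _ (ShortComplex.mk i (cokernel.π i) (cokernel.condition i))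
    (splittingOfInjective (shortExact_cokernel i) hL) hL' hM'

lemma coker_injective (hL : ∀ n, Injective (L.X n)) (hM : ∀ n, Injective (M.X n)) (n : ℤ) :
    Injective ((cokernel i).X n) :=
  @injective_X₃ A _ _ (ShortComplex.mk i (cokernel.π i) (cokernel.condition i))
    (splittingOfInjective (shortExact_cokernel i) hL) n (hM n)

lemma coker_f_injective (hL : ∀ n, Injective (L.X n)) (hM : ∀ n, Injective (M.X n)) (n : ℤ) :
    Injective (cokernel (i.f n)) :=
  Injective.of_iso (PreservesCokernel.iso (HomologicalComplex.eval A (ComplexShape.up ℤ) n) i)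
    (coker_injective i hL hM n)

end General

section Assemble

variable (K : SpSeq.FilCx A) {J : CochainComplex A ℤ} {Q : ℤ → CochainComplex A ℤ}
  (π : ∀ p, J ⟶ Q p)

lemma kerAnti (hτ : ∀ p p', p ≤ p' → ∃ τ : Q p' ⟶ Q p, π p' ≫ τ = π p) :
    Antitone (fun p : ℤ => kernelSubobject (π p)) := by
  intro p p' h
  obtain ⟨τ, hτ'⟩ := hτ p p' h
  calc kernelSubobject (π p') ≤ kernelSubobject (π p' ≫ τ) := kernelSubobject_comp_le _ _
    _ = kernelSubobject (π p) := by rw [hτ']

noncomputable abbrev JF (hτ : ∀ p p', p ≤ p' → ∃ τ : Q p' ⟶ Q p, π p' ≫ τ = π p) :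
    SpSeq.FilCx A := ⟨J, fun p => kernelSubobject (π p), kerAnti π hτ⟩

noncomputable def SJ (p : ℤ) : ShortComplex (CochainComplex A ℤ) :=
  ShortComplex.mk (kernelSubobject (π p)).arrow (π p) (kernelSubobject_arrow_comp _)

lemma SJ_shortExact (hsec : ∀ p n, ∃ s : (Q p).X n ⟶ J.X n, s ≫ (π p).f n = 𝟙 _) (p : ℤ) :
    (SJ π p).ShortExact := by
  haveI : Epi (π p) := HomologicalComplex.epi_of_epi_f _ (fun n => by
    obtain ⟨s, hs⟩ := hsec p n
    exact epi_of_epi_fac hs)
  have hex : (SJ π p).Exact := by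
    let e : SJ π p ≅ ShortComplex.mk (kernel.ι (π p)) (π p) (kernel.condition _) :=
      ShortComplex.isoMk (kernelSubobjectIso (π p)) (Iso.refl _) (Iso.refl _)
        (by simp [SJ]) (by simp [SJ])
    exact (ShortComplex.exact_iff_of_iso e).2 (ShortComplex.exact_kernel (π p))
  exact ShortComplex.ShortExact.mk' hex (by dsimp [SJ]; infer_instance)
    (by dsimp [SJ]; infer_instance)

noncomputable def σJ (hsec : ∀ p n, ∃ s : (Q p).X n ⟶ J.X n, s ≫ (π p).f n = 𝟙 _) (p n : ℤ) :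
    ((SJ π p).map (HomologicalComplex.eval A (ComplexShape.up ℤ) n)).Splitting :=
  splittingOfSections (SJ_shortExact π hsec p) (fun n => (hsec p n).choose)
    (fun n => (hsec p n).choose_spec) n

lemma step_isKInjective (hsec : ∀ p n, ∃ s : (Q p).X n ⟶ J.X n, s ≫ (π p).f n = 𝟙 _)
    (hJ : J.IsKInjective) (hQ : ∀ p, (Q p).IsKInjective) (p : ℤ) :
    CochainComplex.IsKInjective ((kernelSubobject (π p) : CochainComplex A ℤ)) :=
  @isKInjective_X₁ A _ _ (SJ π p) (σJ π hsec p) hJ (hQ p)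

lemma step_injective (hsec : ∀ p n, ∃ s : (Q p).X n ⟶ J.X n, s ≫ (π p).f n = 𝟙 _)
    (hJi : ∀ n, Injective (J.X n)) (p n : ℤ) :
    Injective ((kernelSubobject (π p) : CochainComplex A ℤ).X n) :=
  @injective_X₁ A _ _ (SJ π p) (σJ π hsec p) n (hJi n)

variable (j : K.obj ⟶ J) (fq : ∀ p, K.quot p ⟶ Q p)
  (hcomp : ∀ p, cokernel.π (K.fil p).arrow ≫ fq p = j ≫ π p)

include hcomp in
lemma fil_j_π (p : ℤ) : ((K.fil p).arrow ≫ j) ≫ π p = 0 := by
  rw [Category.assoc, ← hcomp p, cokernel.condition_assoc, zero_comp]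

noncomputable def jp (p : ℤ) : K.step p ⟶ (kernelSubobject (π p) : CochainComplex A ℤ) :=
  factorThruKernelSubobject (π p) ((K.fil p).arrow ≫ j) (fil_j_π K π j fq hcomp p)

lemma jp_arrow (p : ℤ) :
    jp K π j fq hcomp p ≫ (kernelSubobject (π p)).arrow = (K.fil p).arrow ≫ j :=
  factorThruKernelSubobject_comp_arrow _ _ _

lemma quasiIso_jp (hsec : ∀ p n, ∃ s : (Q p).X n ⟶ J.X n, s ≫ (π p).f n = 𝟙 _)
    (hj : QuasiIso j) (hfq : ∀ p, QuasiIso (fq p)) (p : ℤ) :
    QuasiIso (jp K π j fq hcomp p) := by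
  let S₁ : ShortComplex (CochainComplex A ℤ) :=
    ShortComplex.mk (K.fil p).arrow (cokernel.π (K.fil p).arrow) (cokernel.condition _)
  let φ : S₁ ⟶ SJ π p :=
    ⟨jp K π j fq hcomp p, j, fq p, jp_arrow K π j fq hcomp p, (hcomp p).symm⟩
  exact quasiIso_τ₁ φ (shortExact_cokernel _) (SJ_shortExact π hsec p) hj (hfq p)

noncomputable def jF (hτ : ∀ p p', p ≤ p' → ∃ τ : Q p' ⟶ Q p, π p' ≫ τ = π p) :
    K ⟶ JF π hτ :=
  ⟨j, fun p => le_pullback_of_fac j (K.fil p) (kernelSubobject (π p)) (jp K π j fq hcomp p)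
    (jp_arrow K π j fq hcomp p)⟩

lemma jp_sq (hτ : ∀ p p', p ≤ p' → ∃ τ : Q p' ⟶ Q p, π p' ≫ τ = π p) {p p' : ℤ} (h : p ≤ p') :
    jp K π j fq hcomp p' ≫ (JF π hτ).stepLE h = K.stepLE h ≫ jp K π j fq hcomp p := by
  rw [← cancel_mono (kernelSubobject (π p)).arrow]
  calc (jp K π j fq hcomp p' ≫ (JF π hτ).stepLE h) ≫ (kernelSubobject (π p)).arrow
      = jp K π j fq hcomp p' ≫ (kernelSubobject (π p')).arrow := by
        rw [Category.assoc]
        exact congrArg (jp K π j fq hcomp p' ≫ ·) (Subobject.ofLE_arrow _)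
    _ = (K.fil p').arrow ≫ j := jp_arrow K π j fq hcomp p'
    _ = K.stepLE h ≫ (K.fil p).arrow ≫ j := by rw [← Category.assoc, Subobject.ofLE_arrow]
    _ = K.stepLE h ≫ jp K π j fq hcomp p ≫ (kernelSubobject (π p)).arrow :=
        congrArg (K.stepLE h ≫ ·) (jp_arrow K π j fq hcomp p).symm
    _ = (K.stepLE h ≫ jp K π j fq hcomp p) ≫ (kernelSubobject (π p)).arrow :=
        (Category.assoc _ _ _).symm

end Assemble

theorem main [IsGrothendieckAbelian.{v} A] (K : SpSeq.FilCx A) :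
    ∃ (J : SpSeq.FilCx A) (j : K ⟶ J),
      (∀ n p : ℤ, Injective (J.obj.X n) ∧ Injective ((J.XFil n).step p) ∧
        Injective ((J.XFil n).quot p) ∧
        ∀ (p' : ℤ) (h : p ≤ p'), Injective (cokernel ((J.XFil n).stepLE h))) ∧
      (CochainComplex.IsKInjective J.obj ∧ ∀ p : ℤ, CochainComplex.IsKInjective (J.step p) ∧
        CochainComplex.IsKInjective (J.quot p) ∧
        ∀ (p' : ℤ) (h : p ≤ p'), CochainComplex.IsKInjective (cokernel (J.stepLE h))) ∧
      QuasiIso j.hom ∧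
      (∀ p : ℤ, ∃ jp : K.step p ⟶ J.step p,
        jp ≫ (J.fil p).arrow = (K.fil p).arrow ≫ j.hom ∧ QuasiIso jp ∧
        (∀ (p' : ℤ) (h : p ≤ p'), ∃ (jp' : K.step p' ⟶ J.step p')
          (jg : cokernel (K.stepLE h) ⟶ cokernel (J.stepLE h)),
          jp' ≫ (J.fil p').arrow = (K.fil p').arrow ≫ j.hom ∧
          jp' ≫ J.stepLE h = K.stepLE h ≫ jp ∧
          cokernel.π (K.stepLE h) ≫ jg = jp ≫ cokernel.π (J.stepLE h) ∧ QuasiIso jg)) ∧
      (∀ p : ℤ, ∃ jq : K.quot p ⟶ J.quot p,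
        cokernel.π (K.fil p).arrow ≫ jq = j.hom ≫ cokernel.π (J.fil p).arrow ∧ QuasiIso jq) := by
  obtain ⟨J, Q, π, j, fq, hJ, hJi, hQ, hQi, hsec, hτ, hj, hfq, hcomp⟩ := exists_core K
  have hstepK : ∀ p, CochainComplex.IsKInjective ((JF π hτ).step p) :=
    fun p => step_isKInjective π hsec hJ hQ p
  have hstepI : ∀ p n, Injective (((JF π hτ).step p).X n) :=
    fun p n => step_injective π hsec hJi p n
  have hqjp : ∀ p, QuasiIso (jp K π j fq hcomp p) :=
    fun p => quasiIso_jp K π j fq hcomp hsec hj hfq p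
  refine ⟨JF π hτ, jF K π j fq hcomp hτ, ?_, ?_, hj, ?_, ?_⟩
  · intro n p
    refine ⟨hJi n, ?_, ?_, ?_⟩
    · exact Injective.of_iso (Subobject.underlyingIso (((JF π hτ).fil p).arrow.f n)).symm
        (hstepI p n)
    · exact Injective.of_iso (cokernelMkIso (((JF π hτ).fil p).arrow.f n)).symm
        (coker_f_injective ((JF π hτ).fil p).arrow (hstepI p) hJi n)
    · intro p' h
      exact Injective.of_iso (cokernelOfLEMkIso (((JF π hτ).fil p').arrow.f n)
        (((JF π hτ).fil p).arrow.f n) (((JF π hτ).stepLE h).f n)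
        (by rw [← HomologicalComplex.comp_f, Subobject.ofLE_arrow]) _).symm
        (coker_f_injective ((JF π hτ).stepLE h) (hstepI p') (hstepI p) n)
  · refine ⟨hJ, fun p => ⟨hstepK p, ?_, ?_⟩⟩
    · exact coker_isKInjective ((JF π hτ).fil p).arrow (hstepI p) (hstepK p) hJ
    · intro p' h
      exact coker_isKInjective ((JF π hτ).stepLE h) (hstepI p') (hstepK p') (hstepK p)
  · intro p
    refine ⟨jp K π j fq hcomp p, jp_arrow K π j fq hcomp p, hqjp p, ?_⟩
    intro p' h
    have hsq := jp_sq K π j fq hcomp hτ h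
    refine ⟨jp K π j fq hcomp p', cokernel.map (K.stepLE h) ((JF π hτ).stepLE h)
      (jp K π j fq hcomp p') (jp K π j fq hcomp p) hsq.symm, jp_arrow K π j fq hcomp p', hsq,
      cokernel.π_desc _ _ _, ?_⟩
    let S₁ : ShortComplex (CochainComplex A ℤ) :=
      ShortComplex.mk (K.stepLE h) (cokernel.π (K.stepLE h)) (cokernel.condition _)
    let S₂ : ShortComplex (CochainComplex A ℤ) :=
      ShortComplex.mk ((JF π hτ).stepLE h) (cokernel.π ((JF π hτ).stepLE h))
        (cokernel.condition _)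
    let φ : S₁ ⟶ S₂ :=
      ⟨jp K π j fq hcomp p', jp K π j fq hcomp p, cokernel.map (K.stepLE h) ((JF π hτ).stepLE h)
        (jp K π j fq hcomp p') (jp K π j fq hcomp p) hsq.symm, hsq,
        (cokernel.π_desc _ _ _).symm⟩
    exact HomologicalComplex.HomologySequence.quasiIso_τ₃ φ (shortExact_cokernel _)
      (shortExact_cokernel _) (hqjp p') (hqjp p)
  · intro p
    have hsq : (K.fil p).arrow ≫ j = jp K π j fq hcomp p ≫ ((JF π hτ).fil p).arrow :=
      (jp_arrow K π j fq hcomp p).symm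
    refine ⟨cokernel.map (K.fil p).arrow ((JF π hτ).fil p).arrow (jp K π j fq hcomp p) j hsq,
      cokernel.π_desc _ _ _, ?_⟩
    let S₁ : ShortComplex (CochainComplex A ℤ) :=
      ShortComplex.mk (K.fil p).arrow (cokernel.π (K.fil p).arrow) (cokernel.condition _)
    let S₂ : ShortComplex (CochainComplex A ℤ) :=
      ShortComplex.mk ((JF π hτ).fil p).arrow (cokernel.π ((JF π hτ).fil p).arrow)
        (cokernel.condition _)
    let φ : S₁ ⟶ S₂ :=
      ⟨jp K π j fq hcomp p, j, cokernel.map (K.fil p).arrow ((JF π hτ).fil p).arrow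
        (jp K π j fq hcomp p) j hsq, jp_arrow K π j fq hcomp p, (cokernel.π_desc _ _ _).symm⟩
    exact HomologicalComplex.HomologySequence.quasiIso_τ₃ φ (shortExact_cokernel _)
      (shortExact_cokernel _) (hqjp p) hj

end Groth.Agent.H1.FKI
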