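import Mathlib
import Groth.Agent.Lib.Helper1.LimFlat4
import Groth.Agent.Lib.Helper1.LimFlat5

/-!
# Flat finite modules over finitely presented algebras: finite presentation is local on the base
when the base embeds into finitely many of its local rings
-/

set_option autoImplicit false

universe u

open TensorProduct Function

namespace Groth.Agent.H1.FPLocal

section basic

variable {R : Type*} [CommRing R]

/-- a regular element of `R` acts injectively on a flat module -/
theorem eq_zero_of_smul_eq_zero_of_flat {Y : Type*} [AddCommGroup Y] [Module R Y]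
    [Module.Flat R Y] (t : R) (ht : ∀ a : R, t * a = 0 → a = 0) (y : Y) (h : t • y = 0) :
    y = 0 := by
  have hinj : Injective ((LinearMap.lsmul R R t).lTensor Y) := by
    apply Module.Flat.lTensor_preserves_injective_linearMap
    intro a b hab
    have h1 : t * a = t * b := hab
    have h2 : t * (a - b) = 0 := by rw [mul_sub, sub_eq_zero]; exact h1
    exact sub_eq_zero.mp (ht _ h2)
  have h1 : (LinearMap.lsmul R R t).lTensor Y (y ⊗ₜ[R] (1 : R)) = 0 := by
    rw [LinearMap.lTensor_tmul]
    show y ⊗ₜ[R] (t • (1 : R)) = 0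
    rw [← TensorProduct.smul_tmul, h, TensorProduct.zero_tmul]
  have h2 : y ⊗ₜ[R] (1 : R) = 0 := hinj (by rw [h1, map_zero])
  have h3 := congrArg (TensorProduct.rid R Y) h2
  simpa using h3

end basic

section locL

variable {B : Type*} [CommRing B] (T : Submonoid B) {M₁ M : Type*} [AddCommGroup M₁]
  [Module B M₁] [AddCommGroup M] [Module B M]

/-- a surjection whose kernel is killed locally by `T` induces the localization at `T` -/
theorem isLocalizedModule_comp_of_surjective (φ : M₁ →ₗ[B] M) (hφ : Surjective φ)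
    (hker : ∀ x : M₁, φ x = 0 → ∃ c ∈ T, c • x = 0) :
    IsLocalizedModule T ((LocalizedModule.mkLinearMap T M) ∘ₗ φ) where
  map_units x := IsLocalizedModule.map_units (LocalizedModule.mkLinearMap T M) x
  surj y := by
    obtain ⟨⟨m, s⟩, h⟩ := IsLocalizedModule.surj T (LocalizedModule.mkLinearMap T M) y
    obtain ⟨m₁, rfl⟩ := hφ m
    exact ⟨⟨m₁, s⟩, h⟩
  exists_of_eq {x₁ x₂} h := by
    obtain ⟨c, hc⟩ := IsLocalizedModule.exists_of_eq (S := T)
      (f := LocalizedModule.mkLinearMap T M) h
    rw [Submonoid.smul_def, Submonoid.smul_def] at hc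
    have h0 : φ ((c : B) • (x₁ - x₂)) = 0 := by
      rw [map_smul, map_sub, smul_sub, sub_eq_zero]; exact hc
    obtain ⟨c', hc', h1⟩ := hker _ h0
    refine ⟨⟨c', hc'⟩ * c, ?_⟩
    simp only [Submonoid.smul_def, mul_smul]
    rw [smul_sub, smul_sub, sub_eq_zero] at h1
    exact h1

end locL

section B1

variable {P : Type u} [CommRing P] (S : Submonoid P) {M : Type u} [AddCommGroup M] [Module P M]
  {r : ℕ}

/-- if the localization of `M` is finitely presented, the kernel of a presentation is, locally,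
finitely generated -/
theorem exists_fg_le_ker (π : (Fin r → P) →ₗ[P] M) (hπ : Surjective π)
    [Module.FinitePresentation (Localization S) (LocalizedModule S M)] :
    ∃ K₁ : Submodule P (Fin r → P), K₁ ≤ LinearMap.ker π ∧ K₁.FG ∧
      ∀ k ∈ LinearMap.ker π, ∃ a ∈ S, a • k ∈ K₁ := by
  classical
  obtain ⟨fF, hfF⟩ : ∃ fF : (Fin r → P) →ₗ[P] LocalizedModule S (Fin r → P),
      fF = LocalizedModule.mkLinearMap S (Fin r → P) := ⟨_, rfl⟩
  obtain ⟨fM, hfM⟩ : ∃ fM : M →ₗ[P] LocalizedModule S M,
      fM = LocalizedModule.mkLinearMap S M := ⟨_, rfl⟩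
  haveI : IsLocalizedModule S fF := by rw [hfF]; infer_instance
  haveI : IsLocalizedModule S fM := by rw [hfM]; infer_instance
  obtain ⟨πS, hπS⟩ : ∃ πS : LocalizedModule S (Fin r → P) →ₗ[Localization S] LocalizedModule S M,
      πS = (IsLocalizedModule.map S fF fM π).extendScalarsOfIsLocalization S (Localization S) :=
    ⟨_, rfl⟩
  have hsurj : Surjective πS := by
    intro y
    obtain ⟨⟨m, s⟩, h⟩ := IsLocalizedModule.surj S fM y
    obtain ⟨x, rfl⟩ := hπ m
    refine ⟨IsLocalizedModule.mk' fF x s, ?_⟩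
    rw [hπS]
    show (IsLocalizedModule.map S fF fM π) (IsLocalizedModule.mk' fF x s) = y
    rw [IsLocalizedModule.map_mk', IsLocalizedModule.mk'_eq_iff]
    exact h.symm
  have hfg : (LinearMap.ker πS).FG := Module.FinitePresentation.fg_ker πS hsurj
  rw [hπS, ← LinearMap.localized'_ker_eq_ker_localizedMap (Localization S) S fF fM π] at hfg
  obtain ⟨G', hG'⟩ := hfg
  have hmem : ∀ g' ∈ G', ∃ m ∈ LinearMap.ker π, ∃ s : S, IsLocalizedModule.mk' fF m s = g' := by
    intro g' hg'
    have : g' ∈ (LinearMap.ker π).localized' (Localization S) S fF := by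
      rw [← hG']; exact Submodule.subset_span hg'
    exact (Submodule.mem_localized' ..).mp this
  choose! m hm s hs using hmem
  refine ⟨Submodule.span P (m '' (G' : Set _)), ?_, ?_, ?_⟩
  · rw [Submodule.span_le]
    rintro _ ⟨g', hg', rfl⟩
    exact hm g' hg'
  · exact Submodule.fg_span ((G'.finite_toSet).image m)
  · intro k hk
    have h1 : fF k ∈ (LinearMap.ker π).localized' (Localization S) S fF :=
      (Submodule.mem_localized' ..).mpr ⟨k, hk, 1, IsLocalizedModule.mk'_one S fF k⟩
    have h2 : (LinearMap.ker π).localized' (Localization S) S fF ≤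
        (Submodule.span P (m '' (G' : Set _))).localized' (Localization S) S fF := by
      rw [← hG', Submodule.span_le]
      intro g' hg'
      exact (Submodule.mem_localized' ..).mpr
        ⟨m g', Submodule.subset_span ⟨g', hg', rfl⟩, s g', hs g' hg'⟩
    obtain ⟨m₀, hm₀, s₀, hms⟩ := (Submodule.mem_localized' ..).mp (h2 h1)
    rw [IsLocalizedModule.mk'_eq_iff, Submonoid.smul_def, ← map_smul] at hms
    obtain ⟨c, hc⟩ := IsLocalizedModule.exists_of_eq (S := S) (f := fF) hms
    refine ⟨(c : P) * (s₀ : P), S.mul_mem c.2 s₀.2, ?_⟩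
    rw [mul_smul]
    have hc' : (c : P) • m₀ = (c : P) • ((s₀ : P) • k) := hc
    rw [← hc']
    exact Submodule.smul_mem _ _ hm₀

end B1

section core

variable {R P : Type u} [CommRing R] [CommRing P] [Algebra R P] [Algebra.FinitePresentation R P]
  {M : Type u} [AddCommGroup M] [Module P M] [Module R M] [IsScalarTower R P M]

theorem exists_good (hfin : Module.Finite P M) [Module.Flat R M] (s : Finset (PrimeSpectrum R))
    (hs : Injective fun r : R => fun p : s =>
      algebraMap R (Localization.AtPrime p.1.asIdeal) r)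
    (hloc : ∀ (p : Ideal R) [p.IsPrime],
      Module.FinitePresentation (Localization (Algebra.algebraMapSubmonoid P p.primeCompl))
        (LocalizedModule (Algebra.algebraMapSubmonoid P p.primeCompl) M))
    (p : Ideal R) [hp : p.IsPrime] :
    ∃ f : R, f ∉ p ∧ Module.FinitePresentation (Localization.Away (algebraMap R P f))
      (LocalizedModule.Away (algebraMap R P f) M) := by
  classical
  obtain ⟨r, π, hπ⟩ := Module.Finite.exists_fin' P M
  -- regular elements
  have hreg : ∀ t : R, (∀ j ∈ s, t ∉ j.asIdeal) → ∀ a : R, t * a = 0 → a = 0 := by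
    intro t ht a hta
    apply hs
    funext j
    have hu : IsUnit (algebraMap R (Localization.AtPrime j.1.asIdeal) t) :=
      IsLocalization.map_units _ (⟨t, ht j.1 j.2⟩ : j.1.asIdeal.primeCompl)
    have h0 : algebraMap R (Localization.AtPrime j.1.asIdeal) t *
        algebraMap R (Localization.AtPrime j.1.asIdeal) a = 0 := by
      rw [← map_mul, hta, map_zero]
    show algebraMap R (Localization.AtPrime j.1.asIdeal) a =
      algebraMap R (Localization.AtPrime j.1.asIdeal) 0
    rw [map_zero]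
    exact (hu.mul_right_eq_zero).mp h0
  -- local finite generation of the kernel
  have hB1 : ∀ q : PrimeSpectrum R, ∃ K₁ : Submodule P (Fin r → P), K₁ ≤ LinearMap.ker π ∧
      K₁.FG ∧ ∀ k ∈ LinearMap.ker π,
        ∃ a ∈ Algebra.algebraMapSubmonoid P q.asIdeal.primeCompl, a • k ∈ K₁ := by
    intro q
    haveI := hloc q.asIdeal
    exact exists_fg_le_ker _ π hπ
  choose K' hK'le hK'fg hK'prop using hB1
  obtain ⟨K₁, hK₁⟩ : ∃ K₁ : Submodule P (Fin r → P), K₁ = K' ⟨p, hp⟩ ⊔ s.sup K' := ⟨_, rfl⟩
  have hK₁le : K₁ ≤ LinearMap.ker π := by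
    rw [hK₁]; exact sup_le (hK'le _) (Finset.sup_le fun j _ => hK'le j)
  have hK₁fg : K₁.FG := by
    rw [hK₁]; exact (hK'fg _).sup (Submodule.fg_finset_sup s K' fun j _ => hK'fg j)
  obtain ⟨φ, hφdef⟩ : ∃ φ : ((Fin r → P) ⧸ K₁) →ₗ[P] M, φ = K₁.liftQ π hK₁le := ⟨_, rfl⟩
  have hφmk : ∀ k, φ (K₁.mkQ k) = π k := by
    intro k; rw [hφdef]; rfl
  have hφ : Surjective φ := fun y => by
    obtain ⟨x, rfl⟩ := hπ y
    exact ⟨K₁.mkQ x, hφmk x⟩
  haveI hfp : Module.FinitePresentation P ((Fin r → P) ⧸ K₁) :=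
    Module.finitePresentation_of_surjective K₁.mkQ (Submodule.mkQ_surjective _)
      (by rw [Submodule.ker_mkQ]; exact hK₁fg)
  -- the kernel dies at `p` and at the `p_j`
  have hZ : ∀ q : PrimeSpectrum R, (q = ⟨p, hp⟩ ∨ q ∈ s) → ∀ x : (Fin r → P) ⧸ K₁, φ x = 0 →
      ∃ a : R, a ∉ q.asIdeal ∧ (algebraMap R P a) • x = 0 := by
    intro q hq x hx
    obtain ⟨k, rfl⟩ := Submodule.mkQ_surjective K₁ x
    have hk : k ∈ LinearMap.ker π := by
      rw [LinearMap.mem_ker, ← hφmk]; exact hx
    obtain ⟨a, ⟨a₀, ha₀, rfl⟩, hak⟩ := hK'prop q k hk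
    refine ⟨a₀, ha₀, ?_⟩
    rw [← map_smul, Submodule.mkQ_apply, Submodule.Quotient.mk_eq_zero]
    have hle : K' q ≤ K₁ := by
      rw [hK₁]
      rcases hq with rfl | hq
      · exact le_sup_left
      · exact le_sup_of_le_right (Finset.le_sup hq)
    exact hle hak
  -- the kernel is torsion for regular elements
  have hT : ∀ x : (Fin r → P) ⧸ K₁, φ x = 0 →
      ∃ t : R, (∀ j ∈ s, t ∉ j.asIdeal) ∧ (algebraMap R P t) • x = 0 := by
    intro x hx
    obtain ⟨I, hI⟩ : ∃ I : Ideal R, I = Ideal.comap (algebraMap R P) (LinearMap.ker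
      (LinearMap.toSpanSingleton P ((Fin r → P) ⧸ K₁) x)) := ⟨_, rfl⟩
    have hImem : ∀ a : R, a ∈ I ↔ (algebraMap R P a) • x = 0 := by
      intro a
      rw [hI, Ideal.mem_comap, LinearMap.mem_ker, LinearMap.toSpanSingleton_apply]
    by_contra hcon
    push Not at hcon
    have hsub : (I : Set R) ⊆ ⋃ j ∈ (s : Set (PrimeSpectrum R)), (j.asIdeal : Set R) := by
      intro t ht
      by_contra hnot
      simp only [Set.mem_iUnion, not_exists] at hnot
      exact hcon t (fun j hj hmem => hnot j hj hmem) ((hImem t).mp ht)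
    obtain ⟨j, hj, hIj⟩ := (Ideal.subset_union_prime (s := s) (f := fun j => j.asIdeal)
      ⟨p, hp⟩ ⟨p, hp⟩ (fun j _ _ _ => j.isPrime)).mp hsub
    obtain ⟨a, ha, hax⟩ := hZ j (Or.inr hj) x hx
    exact ha (hIj ((hImem a).mpr hax))
  -- flatness of the approximation near the fibre over `p`
  have hU : ∀ (q : Ideal P) [q.IsPrime], (∀ a : R, a ∉ p → algebraMap R P a ∉ q) →
      Module.Flat R (LocalizedModule q.primeCompl ((Fin r → P) ⧸ K₁)) := by
    intro q _ hq
    haveI : IsLocalizedModule q.primeCompl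
        (LocalizedModule.mkLinearMap q.primeCompl M ∘ₗ φ) :=
      isLocalizedModule_comp_of_surjective q.primeCompl φ hφ (fun x hx => by
        obtain ⟨a, ha, hax⟩ := hZ ⟨p, hp⟩ (Or.inl rfl) x hx
        exact ⟨algebraMap R P a, hq a ha, hax⟩)
    let e : LocalizedModule q.primeCompl ((Fin r → P) ⧸ K₁) ≃ₗ[P]
        LocalizedModule q.primeCompl M :=
      IsLocalizedModule.iso q.primeCompl (LocalizedModule.mkLinearMap q.primeCompl M ∘ₗ φ)
    haveI : Module.Flat R (LocalizedModule q.primeCompl M) :=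
      Groth.Agent.H1.LimFlat.flat_localizedModule_of_flat q.primeCompl
    exact Module.Flat.of_linearEquiv (e.restrictScalars R)
  -- the open flat locus
  obtain ⟨f, hfp', hfU⟩ : ∃ f : R, f ∉ p ∧ ∀ (q' : Ideal P) [q'.IsPrime],
      algebraMap R P f ∉ q' →
        Module.Flat R (LocalizedModule q'.primeCompl ((Fin r → P) ⧸ K₁)) := by
    obtain ⟨U, hUdef⟩ : ∃ U : Set (PrimeSpectrum P), U = {q | Module.Flat R
        (LocalizedModule q.asIdeal.primeCompl ((Fin r → P) ⧸ K₁))} := ⟨_, rfl⟩
    have hUo : IsOpen U := by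
      rw [hUdef]
      exact Groth.Agent.H1.LimFlat.isOpen_flatLocus_of_finitePresentation
    obtain ⟨J, hJdef⟩ : ∃ J : Ideal P, J = PrimeSpectrum.vanishingIdeal Uᶜ := ⟨_, rfl⟩
    have hJ : PrimeSpectrum.zeroLocus (J : Set P) = Uᶜ := by
      rw [hJdef, PrimeSpectrum.zeroLocus_vanishingIdeal_eq_closure]
      exact hUo.isClosed_compl.closure_eq
    have hex : ∃ f : R, f ∉ p ∧ algebraMap R P f ∈ J := by
      by_contra hcon
      push Not at hcon
      have hdisj : Disjoint (J : Set P)
          (Algebra.algebraMapSubmonoid P p.primeCompl : Set P) := by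
        rw [Set.disjoint_left]
        rintro _ hgJ ⟨f, hf, rfl⟩
        exact hcon f hf hgJ
      obtain ⟨q, hqprime, hJq, hqdisj⟩ := Ideal.exists_le_prime_disjoint J _ hdisj
      haveI := hqprime
      have hqU : (⟨q, hqprime⟩ : PrimeSpectrum P) ∈ U := by
        rw [hUdef]
        exact hU q (fun a ha haq => Set.disjoint_left.mp hqdisj haq ⟨a, ha, rfl⟩)
      have hqc : (⟨q, hqprime⟩ : PrimeSpectrum P) ∈ Uᶜ := by
        rw [← hJ]; exact hJq
      exact hqc hqU
    obtain ⟨f, hfp', hfJ⟩ := hex
    refine ⟨f, hfp', fun q' _ hfq' => ?_⟩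
    by_contra hnot
    have hq'c : (⟨q', inferInstance⟩ : PrimeSpectrum P) ∈ PrimeSpectrum.zeroLocus (J : Set P) := by
      rw [hJ, hUdef]; exact hnot
    exact hfq' ((PrimeSpectrum.mem_zeroLocus _ _).mp hq'c hfJ)
  refine ⟨f, hfp', ?_⟩
  -- the kernel is killed by powers of `f`
  have hpow : ∀ x : (Fin r → P) ⧸ K₁, φ x = 0 →
      ∃ c ∈ Submonoid.powers (algebraMap R P f), c • x = 0 := by
    intro x hx
    obtain ⟨t, ht, htx⟩ := hT x hx
    obtain ⟨Ann, hAnn⟩ : ∃ Ann : Ideal P, Ann = LinearMap.ker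
      (LinearMap.toSpanSingleton P ((Fin r → P) ⧸ K₁) x) := ⟨_, rfl⟩
    have hAmem : ∀ c : P, c ∈ Ann ↔ c • x = 0 := by
      intro c
      rw [hAnn, LinearMap.mem_ker, LinearMap.toSpanSingleton_apply]
    have hrad : algebraMap R P f ∈ Ann.radical := by
      rw [Ideal.radical_eq_sInf, Ideal.mem_sInf]
      rintro q' ⟨hAq', hq'prime⟩
      by_contra hfq'
      haveI := hq'prime
      haveI := hfU q' hfq'
      have h0 : LocalizedModule.mkLinearMap q'.primeCompl ((Fin r → P) ⧸ K₁) x = 0 := by
        apply eq_zero_of_smul_eq_zero_of_flat (R := R) t (hreg t ht)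
        rw [← LinearMap.map_smul_of_tower, ← algebraMap_smul P t x, htx, map_zero]
      obtain ⟨c, hc⟩ := (IsLocalizedModule.eq_zero_iff q'.primeCompl
        (LocalizedModule.mkLinearMap q'.primeCompl ((Fin r → P) ⧸ K₁))).mp h0
      exact c.2 (hAq' ((hAmem c).mpr hc))
    obtain ⟨b, hb⟩ := hrad
    exact ⟨_, ⟨b, rfl⟩, (hAmem _).mp hb⟩
  haveI : IsLocalizedModule (Submonoid.powers (algebraMap R P f))
      (LocalizedModule.mkLinearMap (Submonoid.powers (algebraMap R P f)) M ∘ₗ φ) :=
    isLocalizedModule_comp_of_surjective _ φ hφ hpow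
  exact FinitePresentation.of_isBaseChange
    (LocalizedModule.mkLinearMap (Submonoid.powers (algebraMap R P f)) M ∘ₗ φ)
    ((isLocalizedModule_iff_isBaseChange (Submonoid.powers (algebraMap R P f))
      (Localization.Away (algebraMap R P f)) _).mp inferInstance)

/-- **Stacks, flat finite type modules**: finite presentation can be checked at the primes of the
base, for flat modules, when the base embeds into finitely many of its local rings. -/
theorem main (hfin : Module.Finite P M) [Module.Flat R M] (s : Finset (PrimeSpectrum R))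
    (hs : Injective fun r : R => fun p : s =>
      algebraMap R (Localization.AtPrime p.1.asIdeal) r)
    (hloc : ∀ (p : Ideal R) [p.IsPrime],
      Module.FinitePresentation (Localization (Algebra.algebraMapSubmonoid P p.primeCompl))
        (LocalizedModule (Algebra.algebraMapSubmonoid P p.primeCompl) M)) :
    Module.FinitePresentation P M := by
  obtain ⟨G, hGdef⟩ : ∃ G : Set R, G = {f | Module.FinitePresentation
      (Localization.Away (algebraMap R P f)) (LocalizedModule.Away (algebraMap R P f) M)} :=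
    ⟨_, rfl⟩
  have hG : Ideal.span G = ⊤ := by
    by_contra hne
    obtain ⟨m, hm, hle⟩ := Ideal.exists_le_maximal _ hne
    haveI := hm.isPrime
    obtain ⟨f, hf, hgood⟩ := exists_good hfin s hs hloc m
    apply hf
    apply hle
    apply Ideal.subset_span
    rw [hGdef]
    exact hgood
  have hs' : Ideal.span (algebraMap R P '' G) = ⊤ := by
    rw [← Ideal.map_span, hG, Ideal.map_top]
  refine Module.FinitePresentation.of_localizationSpan (algebraMap R P '' G) hs' ?_
  rintro ⟨_, f, hf, rfl⟩
  rw [hGdef] at hf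
  exact hf

end core

end Groth.Agent.H1.FPLocal
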