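import Mathlib
import Groth.Agent.Lib.Helper1.FPLocal

/-!
# Flat finite type algebras: finite presentation is local on the base (algebra form)
-/

set_option autoImplicit false

universe u

open Function

namespace Groth.Agent.H1.FPLocalAlg

section transfer

variable {P : Type u} [CommRing P] (T : Submonoid P) {M N : Type u} [AddCommGroup M]
  [Module P M] [AddCommGroup N] [Module P N] [Module (Localization T) N]
  [IsScalarTower P (Localization T) N]

theorem fp_localizedModule_of_isLocalizedModule (g : M →ₗ[P] N) [IsLocalizedModule T g]
    [Module.FinitePresentation (Localization T) N] :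
    Module.FinitePresentation (Localization T) (LocalizedModule T M) := by
  let e : LocalizedModule T M ≃ₗ[P] N := IsLocalizedModule.iso T g
  exact Module.FinitePresentation.of_equiv
    (e.extendScalarsOfIsLocalization T (Localization T)).symm

end transfer

section hloc

variable {R S P : Type u} [CommRing R] [CommRing S] [CommRing P] [Algebra R S] [Algebra R P]
  [Algebra P S] [IsScalarTower R P S]

theorem hloc_mod (hft : Algebra.FiniteType R P) (hsurj : Surjective (algebraMap P S))
    (p : Ideal R) [p.IsPrime]
    [hfp : Algebra.FinitePresentation (Localization.AtPrime p)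
      (Localization (Algebra.algebraMapSubmonoid S p.primeCompl))] :
    Module.FinitePresentation (Localization (Algebra.algebraMapSubmonoid P p.primeCompl))
      (LocalizedModule (Algebra.algebraMapSubmonoid P p.primeCompl) S) := by
  have hSig : Algebra.algebraMapSubmonoid S (Algebra.algebraMapSubmonoid P p.primeCompl) =
      Algebra.algebraMapSubmonoid S p.primeCompl := by
    ext x
    simp only [Algebra.algebraMapSubmonoid, Submonoid.mem_map]
    constructor
    · rintro ⟨_, ⟨a, ha, rfl⟩, rfl⟩
      exact ⟨a, ha, IsScalarTower.algebraMap_apply R P S a⟩
    · rintro ⟨a, ha, rfl⟩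
      exact ⟨algebraMap R P a, ⟨a, ha, rfl⟩, (IsScalarTower.algebraMap_apply R P S a).symm⟩
  haveI : IsLocalization
      (Algebra.algebraMapSubmonoid S (Algebra.algebraMapSubmonoid P p.primeCompl))
      (Localization (Algebra.algebraMapSubmonoid S p.primeCompl)) := by
    rw [hSig]; infer_instance
  have hunit : ∀ y : Algebra.algebraMapSubmonoid P p.primeCompl,
      IsUnit (algebraMap P (Localization (Algebra.algebraMapSubmonoid S p.primeCompl)) y) := by
    rintro ⟨_, a, ha, rfl⟩
    rw [IsScalarTower.algebraMap_apply P S
      (Localization (Algebra.algebraMapSubmonoid S p.primeCompl)),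
      ← IsScalarTower.algebraMap_apply R P S]
    exact IsLocalization.map_units (Localization (Algebra.algebraMapSubmonoid S p.primeCompl))
      (⟨algebraMap R S a, a, ha, rfl⟩ : Algebra.algebraMapSubmonoid S p.primeCompl)
  obtain ⟨ψ, hψdef⟩ : ∃ ψ : Localization (Algebra.algebraMapSubmonoid P p.primeCompl) →+*
      Localization (Algebra.algebraMapSubmonoid S p.primeCompl),
      ψ = IsLocalization.lift (M := Algebra.algebraMapSubmonoid P p.primeCompl) hunit := ⟨_, rfl⟩
  have hψeq : ∀ x : P, ψ (algebraMap P _ x) =
      algebraMap P (Localization (Algebra.algebraMapSubmonoid S p.primeCompl)) x := by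
    intro x; rw [hψdef]; exact IsLocalization.lift_eq hunit x
  letI algPpSp : Algebra (Localization (Algebra.algebraMapSubmonoid P p.primeCompl))
      (Localization (Algebra.algebraMapSubmonoid S p.primeCompl)) := ψ.toAlgebra
  haveI : IsScalarTower P (Localization (Algebra.algebraMapSubmonoid P p.primeCompl))
      (Localization (Algebra.algebraMapSubmonoid S p.primeCompl)) :=
    IsScalarTower.of_algebraMap_eq fun x => (hψeq x).symm
  have hψsurj : Surjective ψ := by
    intro z
    obtain ⟨⟨x, ⟨_, a, ha, rfl⟩⟩, hz⟩ :=
      IsLocalization.surj (Algebra.algebraMapSubmonoid S p.primeCompl) z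
    obtain ⟨x', rfl⟩ := hsurj x
    refine ⟨IsLocalization.mk' _ x'
      (⟨algebraMap R P a, a, ha, rfl⟩ : Algebra.algebraMapSubmonoid P p.primeCompl), ?_⟩
    rw [hψdef, IsLocalization.lift_mk'_spec]
    rw [IsScalarTower.algebraMap_apply P S
      (Localization (Algebra.algebraMapSubmonoid S p.primeCompl)),
      IsScalarTower.algebraMap_apply P S
      (Localization (Algebra.algebraMapSubmonoid S p.primeCompl)) (algebraMap R P a),
      ← IsScalarTower.algebraMap_apply R P S, mul_comm]
    exact hz.symm
  -- finite type of the localized polynomial algebra
  haveI : Algebra.IsPushout R P (Localization.AtPrime p)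
      (Localization (Algebra.algebraMapSubmonoid P p.primeCompl)) :=
    Algebra.isPushout_of_isLocalization p.primeCompl (Localization.AtPrime p) P
      (Localization (Algebra.algebraMapSubmonoid P p.primeCompl))
  have hFT : (algebraMap (Localization.AtPrime p)
      (Localization (Algebra.algebraMapSubmonoid P p.primeCompl))).FiniteType :=
    RingHom.finiteType_isStableUnderBaseChange R P (Localization.AtPrime p)
      (Localization (Algebra.algebraMapSubmonoid P p.primeCompl))
      (RingHom.finiteType_algebraMap.mpr hft)
  have hcomp : ψ.comp (algebraMap (Localization.AtPrime p)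
      (Localization (Algebra.algebraMapSubmonoid P p.primeCompl))) =
      algebraMap (Localization.AtPrime p)
        (Localization (Algebra.algebraMapSubmonoid S p.primeCompl)) := by
    apply IsLocalization.ringHom_ext p.primeCompl
    ext a
    simp only [RingHom.comp_apply]
    rw [← IsScalarTower.algebraMap_apply R (Localization.AtPrime p)
        (Localization (Algebra.algebraMapSubmonoid P p.primeCompl)),
      IsScalarTower.algebraMap_apply R P
        (Localization (Algebra.algebraMapSubmonoid P p.primeCompl)),
      hψeq, ← IsScalarTower.algebraMap_apply R P,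
      ← IsScalarTower.algebraMap_apply R (Localization.AtPrime p)]
  have hψfp : ψ.FinitePresentation := by
    refine RingHom.FinitePresentation.of_comp_finiteType _ ?_ hFT
    rw [hcomp]
    exact RingHom.finitePresentation_algebraMap.mpr hfp
  haveI : Algebra.FinitePresentation (Localization (Algebra.algebraMapSubmonoid P p.primeCompl))
      (Localization (Algebra.algebraMapSubmonoid S p.primeCompl)) := hψfp
  have hker : (RingHom.ker (Algebra.ofId (Localization (Algebra.algebraMapSubmonoid P p.primeCompl))
      (Localization (Algebra.algebraMapSubmonoid S p.primeCompl))).toRingHom).FG :=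
    Algebra.FinitePresentation.ker_fG_of_surjective _ hψsurj
  haveI : Module.FinitePresentation (Localization (Algebra.algebraMapSubmonoid P p.primeCompl))
      (Localization (Algebra.algebraMapSubmonoid S p.primeCompl)) :=
    Module.finitePresentation_of_surjective
      (Algebra.linearMap (Localization (Algebra.algebraMapSubmonoid P p.primeCompl))
        (Localization (Algebra.algebraMapSubmonoid S p.primeCompl))) hψsurj hker
  exact fp_localizedModule_of_isLocalizedModule (Algebra.algebraMapSubmonoid P p.primeCompl)
    (IsScalarTower.toAlgHom P S
      (Localization (Algebra.algebraMapSubmonoid S p.primeCompl))).toLinearMap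

end hloc

theorem main {R S : Type u} [CommRing R] [CommRing S] [Algebra R S] [Algebra.FiniteType R S]
    [Module.Flat R S] (s : Finset (PrimeSpectrum R))
    (hs : Injective fun r : R => fun p : s =>
      algebraMap R (Localization.AtPrime p.1.asIdeal) r)
    (hloc : ∀ (p : Ideal R) [p.IsPrime],
      Algebra.FinitePresentation (Localization.AtPrime p)
        (Localization (Algebra.algebraMapSubmonoid S p.primeCompl))) :
    Algebra.FinitePresentation R S := by
  obtain ⟨n, f, hf⟩ := Algebra.FiniteType.iff_quotient_mvPolynomial''.mp
    (inferInstance : Algebra.FiniteType R S)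
  letI algPS : Algebra (MvPolynomial (Fin n) R) S := f.toRingHom.toAlgebra
  haveI : IsScalarTower R (MvPolynomial (Fin n) R) S :=
    IsScalarTower.of_algebraMap_eq fun x => (f.commutes x).symm
  have hsurj : Surjective (algebraMap (MvPolynomial (Fin n) R) S) := hf
  haveI : Module.Finite (MvPolynomial (Fin n) R) S :=
    Module.Finite.of_surjective (Algebra.linearMap (MvPolynomial (Fin n) R) S) hsurj
  have key : Module.FinitePresentation (MvPolynomial (Fin n) R) S := by
    refine FPLocal.main inferInstance s hs (fun p _ => ?_)
    haveI := hloc p
    exact hloc_mod inferInstance hsurj p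
  refine ⟨⟨n, f, hf, ?_⟩⟩
  exact Module.FinitePresentation.fg_ker (Algebra.linearMap (MvPolynomial (Fin n) R) S) hsurj

end Groth.Agent.H1.FPLocalAlg
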