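import Mathlib

set_option autoImplicit false

open CategoryTheory CategoryTheory.Limits CochainComplex HomComplex

namespace Groth.Agent.H1.FRS

universe w v u

variable {A : Type u} [Category.{v} A] [Abelian A]

section Cone

/-- the cone of the identity -/
noncomputable abbrev Cn (Z : CochainComplex A ℤ) : CochainComplex A ℤ := mappingCone (𝟙 Z)

noncomputable def Cmap {Z Z' : CochainComplex A ℤ} (f : Z ⟶ Z') : Cn Z ⟶ Cn Z' :=
  mappingCone.map (𝟙 Z) (𝟙 Z') f f (by simp)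

lemma Cmap_id (Z : CochainComplex A ℤ) : Cmap (𝟙 Z) = 𝟙 _ := by
  ext n
  simp [mappingCone.ext_from_iff _ (n + 1) n rfl, Cmap, mappingCone.map]

lemma Cmap_comp {Z Z' Z'' : CochainComplex A ℤ} (f : Z ⟶ Z') (g : Z' ⟶ Z'') :
    Cmap (f ≫ g) = Cmap f ≫ Cmap g := by
  ext n
  simp [mappingCone.ext_from_iff _ (n + 1) n rfl, Cmap, mappingCone.map]

lemma Cmap_zero (Z Z' : CochainComplex A ℤ) : Cmap (0 : Z ⟶ Z') = 0 := by
  ext n
  simp [mappingCone.ext_from_iff _ (n + 1) n rfl, Cmap, mappingCone.map]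

noncomputable def ιC (Z : CochainComplex A ℤ) : Z ⟶ Cn Z := mappingCone.inr (𝟙 Z)

@[reassoc]
lemma ιC_Cmap {Z Z' : CochainComplex A ℤ} (f : Z ⟶ Z') : ιC Z ≫ Cmap f = f ≫ ιC Z' := by
  simp [ιC, Cmap, mappingCone.map]

instance mono_ιC (Z : CochainComplex A ℤ) : Mono (ιC Z) :=
  HomologicalComplex.mono_of_mono_f _
    (fun n => mono_of_mono_fac (mappingCone.inr_f_snd_v (𝟙 Z) n))

noncomputable def heFst (X Z : CochainComplex A ℤ) : HomotopyEquiv (X ⊞ Cn Z) X where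
  hom := biprod.fst
  inv := biprod.inl
  homotopyHomInvId :=
    let h₀ : Homotopy (𝟙 (Cn Z)) 0 := mappingCone.homotopyToZeroOfId Z
    let h₁ := (h₀.compRight (biprod.inr : _ ⟶ X ⊞ Cn Z)).compLeft
      (biprod.snd : X ⊞ Cn Z ⟶ _)
    let h₂ := Homotopy.add (Homotopy.refl (biprod.fst ≫ (biprod.inl : _ ⟶ X ⊞ Cn Z))) h₁
    (Homotopy.ofEq (by simp)).trans (h₂.symm.trans (Homotopy.ofEq (by simp)))
  homotopyInvHomId := Homotopy.ofEq (by simp)

instance quasiIso_fst (X Z : CochainComplex A ℤ) : QuasiIso (biprod.fst : X ⊞ Cn Z ⟶ X) :=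
  (heFst X Z).quasiIso_hom

end Cone

section Assembly

variable {ι : Type} [HasCoproductsOfShape ι A] (Y : ι → CochainComplex A ℤ)
  (I : CochainComplex A ℤ)

noncomputable def eX (p : ℤ) : (∐ Y).X p ≅ ∐ (fun j => (Y j).X p) :=
  PreservesCoproduct.iso (HomologicalComplex.eval A (ComplexShape.up ℤ) p) Y

lemma ι_eX_inv (j : ι) (p : ℤ) :
    Sigma.ι (fun j => (Y j).X p) j ≫ (eX Y p).inv = (Sigma.ι Y j).f p :=
  ι_comp_sigmaComparison (HomologicalComplex.eval A (ComplexShape.up ℤ) p) Y j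

@[reassoc]
lemma ι_eX (j : ι) (p : ℤ) :
    (Sigma.ι Y j).f p ≫ (eX Y p).hom = Sigma.ι (fun j => (Y j).X p) j := by
  rw [← ι_eX_inv, Category.assoc, Iso.inv_hom_id, Category.comp_id]

noncomputable def asm {n : ℤ} (z : ∀ j, Cochain (Y j) I n) : Cochain (∐ Y) I n :=
  Cochain.mk (fun p q hpq => (eX Y p).hom ≫ Sigma.desc (fun j => (z j).v p q hpq))

lemma ι_asm {n : ℤ} (z : ∀ j, Cochain (Y j) I n) (j : ι) :
    (Cochain.ofHom (Sigma.ι Y j)).comp (asm Y I z) (zero_add n) = z j := by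
  ext p q hpq
  simp only [Cochain.zero_cochain_comp_v, Cochain.ofHom_v, asm, Cochain.mk_v]
  rw [ι_eX_assoc, Sigma.ι_desc]

lemma cochain_ext {n : ℤ} (z₁ z₂ : Cochain (∐ Y) I n)
    (h : ∀ j, (Cochain.ofHom (Sigma.ι Y j)).comp z₁ (zero_add n) =
      (Cochain.ofHom (Sigma.ι Y j)).comp z₂ (zero_add n)) : z₁ = z₂ := by
  ext p q hpq
  rw [← cancel_epi (eX Y p).inv]
  refine Sigma.hom_ext _ _ (fun j => ?_)
  have := Cochain.congr_v (h j) p q hpq
  simp only [Cochain.zero_cochain_comp_v, Cochain.ofHom_v] at this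
  rw [← Category.assoc, ← Category.assoc, ι_eX_inv]
  exact this

lemma δ_asm (z : ∀ j, Cochain (Y j) I (-1)) (g : ∀ j, Y j ⟶ I)
    (hz : ∀ j, δ (-1) 0 (z j) = Cochain.ofHom (g j)) :
    δ (-1) 0 (asm Y I z) = Cochain.ofHom (Sigma.desc g) := by
  apply cochain_ext
  intro j
  rw [← δ_ofHom_comp, ι_asm, hz, ← Cochain.ofHom_comp, Sigma.ι_desc]

noncomputable def Ψ (z : ∀ j, Cochain (Y j) I (-1)) (g : ∀ j, Y j ⟶ I)
    (hz : ∀ j, δ (-1) 0 (z j) = Cochain.ofHom (g j)) : Cn (∐ Y) ⟶ I :=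
  mappingCone.desc (𝟙 _) (asm Y I z) (Sigma.desc g) (by
    rw [Category.id_comp]; exact δ_asm Y I z g hz)

lemma ιC_Ψ (z : ∀ j, Cochain (Y j) I (-1)) (g : ∀ j, Y j ⟶ I)
    (hz : ∀ j, δ (-1) 0 (z j) = Cochain.ofHom (g j)) :
    ιC _ ≫ Ψ Y I z g hz = Sigma.desc g := mappingCone.inr_desc _ _ _ _

end Assembly

end Groth.Agent.H1.FRS
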