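import Mathlib
import Groth.Agent.Lib.Helper1.FRS1
import Groth.Prelude.Def_SpSeq

set_option autoImplicit false

open CategoryTheory CategoryTheory.Limits CochainComplex HomComplex

namespace Groth.Agent.H1.FRS

universe w v u

variable {A : Type u} [Category.{v} A] [Abelian A]

lemma ofLE_mk_comp {B : Type*} [Category B] {X Y Z : B} (f : X ⟶ Z) (g : Y ⟶ Z) [Mono f] [Mono g]
    (u : X ⟶ Y) (hu : u ≫ g = f) (h : Subobject.mk f ≤ Subobject.mk g) :
    (Subobject.mk f).ofLE (Subobject.mk g) h ≫ (Subobject.underlyingIso g).hom =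
      (Subobject.underlyingIso f).hom ≫ u := by
  rw [← cancel_mono g, Category.assoc, Category.assoc,
    Subobject.underlyingIso_hom_comp_eq_mk, Subobject.ofLE_arrow, hu,
    Subobject.underlyingIso_hom_comp_eq_mk]

section Construction

variable [HasColimitsOfSize.{0,0} A]
variable (X : ℤ → CochainComplex A ℤ) (I : CochainComplex A ℤ)

noncomputable abbrev Mc : CochainComplex A ℤ := ∐ X
noncomputable abbrev Nc : CochainComplex A ℤ := ∐ (fun k : ℤ => X (k + 1))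
noncomputable abbrev Ni (i : ℤ) : CochainComplex A ℤ :=
  ∐ (fun s : {k : ℤ // i ≤ k} => X (s.1 + 1))

noncomputable def σ (k : ℤ) : X k ⟶ Mc X := Sigma.ι X k
noncomputable def ν (k : ℤ) : X (k + 1) ⟶ Nc X := Sigma.ι (fun k : ℤ => X (k + 1)) k
noncomputable def νi (i k : ℤ) (h : i ≤ k) : X (k + 1) ⟶ Ni X i :=
  Sigma.ι (fun s : {k : ℤ // i ≤ k} => X (s.1 + 1)) ⟨k, h⟩

variable {X}

lemma Mc_ext {W : CochainComplex A ℤ} (f g : Mc X ⟶ W) (h : ∀ k, σ X k ≫ f = σ X k ≫ g) :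
    f = g := Sigma.hom_ext _ _ h

lemma Nc_ext {W : CochainComplex A ℤ} (f g : Nc X ⟶ W) (h : ∀ k, ν X k ≫ f = ν X k ≫ g) :
    f = g := Sigma.hom_ext _ _ h

lemma Ni_ext {i : ℤ} {W : CochainComplex A ℤ} (f g : Ni X i ⟶ W)
    (h : ∀ k hk, νi X i k hk ≫ f = νi X i k hk ≫ g) : f = g :=
  Sigma.hom_ext _ _ (fun s => h s.1 s.2)

noncomputable def Mdesc {W : CochainComplex A ℤ} (f : ∀ k, X k ⟶ W) : Mc X ⟶ W := Sigma.desc f
noncomputable def Ndesc {W : CochainComplex A ℤ} (f : ∀ k, X (k + 1) ⟶ W) : Nc X ⟶ W :=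
  Sigma.desc f
noncomputable def Nidesc (i : ℤ) {W : CochainComplex A ℤ} (f : ∀ k, i ≤ k → (X (k + 1) ⟶ W)) :
    Ni X i ⟶ W := Sigma.desc (fun s => f s.1 s.2)

@[reassoc (attr := simp)]
lemma σ_Mdesc {W : CochainComplex A ℤ} (f : ∀ k, X k ⟶ W) (k : ℤ) :
    σ X k ≫ Mdesc f = f k := Sigma.ι_desc _ _

@[reassoc (attr := simp)]
lemma ν_Ndesc {W : CochainComplex A ℤ} (f : ∀ k, X (k + 1) ⟶ W) (k : ℤ) :
    ν X k ≫ Ndesc f = f k := Sigma.ι_desc _ _

@[reassoc (attr := simp)]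
lemma νi_Nidesc (i : ℤ) {W : CochainComplex A ℤ} (f : ∀ k, i ≤ k → (X (k + 1) ⟶ W)) (k : ℤ)
    (hk : i ≤ k) : νi X i k hk ≫ Nidesc i f = f k hk :=
  Sigma.ι_desc (fun s : {k : ℤ // i ≤ k} => f s.1 s.2) ⟨k, hk⟩

variable (X)

noncomputable def ni (i : ℤ) : Ni X i ⟶ Nc X := Nidesc i (fun k _ => ν X k)

noncomputable def vi (i : ℤ) : Ni X (i + 1) ⟶ Ni X i :=
  Nidesc (i + 1) (fun k h => νi X i k (by omega))

@[reassoc (attr := simp)]
lemma νi_ni (i k : ℤ) (hk : i ≤ k) : νi X i k hk ≫ ni X i = ν X k := by simp [ni]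

@[reassoc (attr := simp)]
lemma νi_vi (i k : ℤ) (hk : i + 1 ≤ k) : νi X (i + 1) k hk ≫ vi X i = νi X i k (by omega) := by
  simp [vi]

@[reassoc (attr := simp)]
lemma vi_ni (i : ℤ) : vi X i ≫ ni X i = ni X (i + 1) :=
  Ni_ext _ _ (fun k hk => by simp)

variable {X} (t : ∀ i, X (i + 1) ⟶ X i)

noncomputable def θ : Nc X ⟶ Mc X := Ndesc (fun k => σ X (k + 1) - t k ≫ σ X k)

@[reassoc (attr := simp)]
lemma ν_θ (k : ℤ) : ν X k ≫ θ t = σ X (k + 1) - t k ≫ σ X k := by simp [θ]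

noncomputable def T (i k : ℤ) : X k ⟶ X i :=
  Int.inductionOn' (motive := fun k => X k ⟶ X i) k i (𝟙 _) (fun k _ f => t k ≫ f)
    (fun _ _ _ => 0)

lemma T_self (i : ℤ) : T t i i = 𝟙 _ := Int.inductionOn'_self

lemma T_succ (i k : ℤ) (h : i ≤ k) : T t i (k + 1) = t k ≫ T t i k :=
  Int.inductionOn'_add_one h

noncomputable def S (i k : ℤ) : X k ⟶ Ni X i :=
  Int.inductionOn' (motive := fun k => X k ⟶ Ni X i) k i 0
    (fun k hk f => νi X i k hk + t k ≫ f) (fun _ _ _ => 0)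

lemma S_self (i : ℤ) : S t i i = 0 := Int.inductionOn'_self

lemma S_succ (i k : ℤ) (h : i ≤ k) : S t i (k + 1) = νi X i k h + t k ≫ S t i k :=
  Int.inductionOn'_add_one h

noncomputable def R1 (i : ℤ) : Mc X ⟶ X i := Mdesc (T t i)
noncomputable def R2 (i : ℤ) : Mc X ⟶ Ni X i := Mdesc (S t i)

lemma σ_R1 (i : ℤ) : σ X i ≫ R1 t i = 𝟙 _ := by simp [R1, T_self]

lemma σ_R2 (i : ℤ) : σ X i ≫ R2 t i = 0 := by simp [R2, S_self]

lemma ni_θ_R1 (i : ℤ) : ni X i ≫ θ t ≫ R1 t i = 0 := by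
  refine Ni_ext _ _ (fun k hk => ?_)
  simp only [Category.assoc, νi_ni_assoc, ν_θ_assoc, comp_zero, Preadditive.sub_comp, R1,
    σ_Mdesc, T_succ t i k hk, sub_self]

lemma ni_θ_R2 (i : ℤ) : ni X i ≫ θ t ≫ R2 t i = 𝟙 _ := by
  refine Ni_ext _ _ (fun k hk => ?_)
  simp only [Category.assoc, νi_ni_assoc, ν_θ_assoc, Category.comp_id, Preadditive.sub_comp, R2,
    σ_Mdesc, S_succ t i k hk, add_sub_cancel_right]

variable (a : ∀ i, X i ⟶ I)
  (z : ∀ k : ℤ, Cochain (X (k + 1)) I (-1))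
  (hz : ∀ k, δ (-1) 0 (z k) = Cochain.ofHom (a (k + 1) - t k ≫ a k))

noncomputable def Ψ' : Cn (Nc X) ⟶ I :=
  Ψ (fun k : ℤ => X (k + 1)) I z (fun k => a (k + 1) - t k ≫ a k) hz

@[reassoc]
lemma ν_ιC_Ψ' (k : ℤ) : ν X k ≫ ιC _ ≫ Ψ' I t a z hz = a (k + 1) - t k ≫ a k := by
  rw [Ψ', ιC_Ψ]
  exact Sigma.ι_desc _ _

/-- the single map out of the big cone -/
noncomputable def Λ : Cn (Nc X) ⟶ I ⊞ Cn (Mc X) := biprod.lift (Ψ' I t a z hz) (Cmap (θ t))

noncomputable abbrev G (i : ℤ) : CochainComplex A ℤ := X i ⊞ Cn (Ni X i)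
noncomputable abbrev Kc : CochainComplex A ℤ := I ⊞ Cn (Mc X)

noncomputable def e (i : ℤ) : G (X := X) i ⟶ Kc (X := X) I :=
  biprod.desc (biprod.lift (a i) (σ X i ≫ ιC _)) (Cmap (ni X i) ≫ Λ I t a z hz)

noncomputable def incl (i : ℤ) : G (X := X) (i + 1) ⟶ G (X := X) i :=
  biprod.desc (biprod.lift (t i) (νi X i i le_rfl ≫ ιC _)) (Cmap (vi X i) ≫ biprod.inr)

lemma incl_fst (i : ℤ) : incl t i ≫ biprod.fst = biprod.fst ≫ t i := by
  refine biprod.hom_ext' _ _ ?_ ?_ <;> simp [incl]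

lemma incl_e (i : ℤ) : incl t i ≫ e I t a z hz i = e I t a z hz (i + 1) := by
  refine biprod.hom_ext' _ _ ?_ ?_
  · refine biprod.hom_ext _ _ ?_ ?_
    · simp only [incl, e, Λ, biprod.inl_desc_assoc, biprod.inl_desc, Category.assoc,
        biprod.lift_fst, biprod.lift_eq (f := t i), Preadditive.add_comp, biprod.inr_desc_assoc,
        ιC_Cmap_assoc, νi_ni_assoc, ν_ιC_Ψ', add_sub_cancel]
    · simp only [incl, e, Λ, biprod.inl_desc_assoc, biprod.inl_desc, Category.assoc,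
        biprod.lift_snd, biprod.lift_eq (f := t i), Preadditive.add_comp, biprod.inr_desc_assoc,
        ιC_Cmap_assoc, νi_ni_assoc, ιC_Cmap, ν_θ_assoc, Preadditive.sub_comp, add_sub_cancel]
  · simp only [incl, e, biprod.inr_desc_assoc, biprod.inr_desc, Category.assoc]
    rw [← Category.assoc, ← Cmap_comp, vi_ni]

lemma e_snd (i : ℤ) : e I t a z hz i ≫ biprod.snd =
    biprod.desc (σ X i ≫ ιC _) (Cmap (ni X i ≫ θ t)) := by
  refine biprod.hom_ext' _ _ ?_ ?_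
  · simp [e]
  · simp [e, Λ, Cmap_comp]

lemma inl_e_fst (i : ℤ) : biprod.inl ≫ e I t a z hz i ≫ biprod.fst = a i := by
  simp [e]

lemma mono_e (i : ℤ) : Mono (e I t a z hz i) := by
  refine Preadditive.mono_of_cancel_zero _ (fun {Z} w hw => ?_)
  have h0 : w ≫ biprod.desc (σ X i ≫ ιC _) (Cmap (ni X i ≫ θ t)) = 0 := by
    rw [← e_snd I t a z hz, ← Category.assoc, hw, zero_comp]
  rw [biprod.desc_eq, Preadditive.comp_add] at h0
  have hc : w ≫ biprod.snd = 0 := by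
    have h1 := congrArg (fun m => m ≫ Cmap (R2 t i)) h0
    simp only [Preadditive.add_comp, Category.assoc, zero_comp, ιC_Cmap, ← Cmap_comp,
      ni_θ_R2, Cmap_id, Category.comp_id] at h1
    rw [reassoc_of% (σ_R2 t i), zero_comp, comp_zero, comp_zero, zero_add] at h1
    exact h1
  have hx : w ≫ biprod.fst = 0 := by
    have h1 := congrArg (fun m => m ≫ Cmap (R1 t i)) h0
    simp only [Preadditive.add_comp, Category.assoc, zero_comp, ιC_Cmap, ← Cmap_comp,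
      ni_θ_R1, Cmap_zero, comp_zero, add_zero] at h1
    rw [reassoc_of% (σ_R1 t i)] at h1
    rw [← cancel_mono (ιC (X i)), zero_comp]
    simpa using h1
  refine biprod.hom_ext _ _ ?_ ?_
  · rw [hx, zero_comp]
  · rw [hc, zero_comp]

instance (i : ℤ) : Mono (e I t a z hz i) := mono_e I t a z hz i

noncomputable abbrev KF : SpSeq.FilCx A :=
  ⟨Kc (X := X) I, fun i => Subobject.mk (e I t a z hz i),
    antitone_int_of_succ_le (fun i =>
      Subobject.mk_le_mk_of_comm (incl t i) (incl_e I t a z hz i))⟩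

include z hz in
theorem core : ∃ (K : SpSeq.FilCx A) (r : K.obj ⟶ I) (ρ : ∀ i, K.step i ⟶ X i)
    (s : ∀ i, X i ⟶ K.step i),
    QuasiIso r ∧ (∀ i, QuasiIso (ρ i)) ∧ (∀ i, s i ≫ ρ i = 𝟙 _) ∧
    (∀ i, s i ≫ (K.fil i).arrow ≫ r = a i) ∧
    ∀ i, K.stepLE (q := i + 1) (le_of_lt (Int.lt_succ_self i)) ≫ ρ i = ρ (i + 1) ≫ t i := by
  refine ⟨KF I t a z hz, (biprod.fst : Kc (X := X) I ⟶ I),
    fun i => (Subobject.underlyingIso (e I t a z hz i)).hom ≫ biprod.fst,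
    fun i => biprod.inl ≫ (Subobject.underlyingIso (e I t a z hz i)).inv,
    quasiIso_fst _ _, fun i => ?_, fun i => ?_, fun i => ?_, fun i => ?_⟩
  · exact (quasiIso_iff_comp_left _ _).2 (quasiIso_fst _ _)
  · simp
  · show (biprod.inl ≫ (Subobject.underlyingIso (e I t a z hz i)).inv) ≫
      (Subobject.mk (e I t a z hz i)).arrow ≫ biprod.fst = a i
    have := Subobject.underlyingIso_arrow (e I t a z hz i)
    rw [Category.assoc, reassoc_of% this]
    exact inl_e_fst I t a z hz i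
  · have h1 := ofLE_mk_comp (e I t a z hz (i + 1)) (e I t a z hz i) (incl t i)
      (incl_e I t a z hz i) ((KF I t a z hz).anti (le_of_lt (Int.lt_succ_self i)))
    calc (KF I t a z hz).stepLE (q := i + 1) (le_of_lt (Int.lt_succ_self i)) ≫
          (Subobject.underlyingIso (e I t a z hz i)).hom ≫ biprod.fst
        = ((Subobject.underlyingIso (e I t a z hz (i + 1))).hom ≫ incl t i) ≫ biprod.fst := by
          rw [← h1, Category.assoc]
      _ = ((Subobject.underlyingIso (e I t a z hz (i + 1))).hom ≫ biprod.fst) ≫ t i := by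
          rw [Category.assoc, incl_fst, Category.assoc]

end Construction

end Groth.Agent.H1.FRS
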