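import Mathlib
import Groth.Agent.Lib.Helper1.FRS2
import Groth.Agent.Lib.Helper6.KInjG6

set_option autoImplicit false

open CategoryTheory CategoryTheory.Limits CochainComplex HomComplex

namespace Groth.Agent.H1.FRS

universe w v u

variable {A : Type u} [Category.{v} A] [Abelian A] [HasDerivedCategory.{w} A]

open DerivedCategory

lemma exists_Q_map_eq {K J : CochainComplex A ℤ} [J.IsKInjective]
    (φ : Q.obj K ⟶ Q.obj J) : ∃ g : K ⟶ J, Q.map g = φ := by
  obtain ⟨g', hg'⟩ := (CochainComplex.IsKInjective.Qh_map_bijective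
    ((HomotopyCategory.quotient A (ComplexShape.up ℤ)).obj K) J).2
    ((quotientCompQhIso A).hom.app K ≫ φ ≫ (quotientCompQhIso A).inv.app J)
  obtain ⟨g, rfl⟩ := (HomotopyCategory.quotient A (ComplexShape.up ℤ)).map_surjective g'
  refine ⟨g, ?_⟩
  have := NatIso.naturality_1 (quotientCompQhIso A) g
  dsimp at this
  rw [← this, hg']
  simp

lemma homotopy_zero_of_Q_map_eq_zero {K J : CochainComplex A ℤ} [J.IsKInjective]
    (f : K ⟶ J) (hf : Q.map f = 0) : Nonempty (Homotopy f 0) := by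
  have h1 : Qh.map ((HomotopyCategory.quotient A (ComplexShape.up ℤ)).map f) =
      Qh.map ((HomotopyCategory.quotient A (ComplexShape.up ℤ)).map 0) := by
    have := NatIso.naturality_2 (quotientCompQhIso A) f
    rw [hf, zero_comp, comp_zero] at this
    dsimp at this
    rw [← this, Functor.map_zero, Functor.map_zero]
  have h2 := (CochainComplex.IsKInjective.Qh_map_bijective
    ((HomotopyCategory.quotient A (ComplexShape.up ℤ)).obj K) J).1 h1
  exact ⟨HomotopyCategory.homotopyOfEq _ _ h2⟩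

lemma exists_cochain_of_Q_map_eq_zero {K J : CochainComplex A ℤ} [J.IsKInjective]
    (f : K ⟶ J) (hf : Q.map f = 0) :
    ∃ z : Cochain K J (-1), δ (-1) 0 z = Cochain.ofHom f := by
  obtain ⟨h⟩ := homotopy_zero_of_Q_map_eq_zero f hf
  obtain ⟨z, hz⟩ := Cochain.equivHomotopy f 0 h
  refine ⟨z, ?_⟩
  rw [hz, Cochain.ofHom_zero, add_zero]

theorem main [IsGrothendieckAbelian.{v} A]
    (E : DerivedCategory A) (Es : ℤ → DerivedCategory A) (t : ∀ i : ℤ, Es (i + 1) ⟶ Es i)
    (a : ∀ i : ℤ, Es i ⟶ E) (hat : ∀ i : ℤ, t i ≫ a i = a (i + 1)) :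
    ∃ (K : SpSeq.FilCx A) (e : DerivedCategory.Q.obj K.obj ≅ E)
      (ei : ∀ i : ℤ, DerivedCategory.Q.obj (K.step i) ≅ Es i),
      (∀ i : ℤ, DerivedCategory.Q.map (K.fil i).arrow ≫ e.hom = (ei i).hom ≫ a i) ∧
      (∀ i : ℤ, DerivedCategory.Q.map (K.stepLE (le_of_lt (Int.lt_succ_self i))) ≫ (ei i).hom =
        (ei (i + 1)).hom ≫ t i) := by
  haveI : HasColimitsOfSize.{0,0} A := hasColimitsOfSizeShrink.{0,0,v,v} A
  have rep : ∀ Y : DerivedCategory A, ∃ (X : CochainComplex A ℤ), X.IsKInjective ∧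
      Nonempty (Q.obj X ≅ Y) := by
    intro Y
    obtain ⟨J, f, hJ, hf, -, -⟩ := Groth.Agent.H6.KInjG.main (Q.objPreimage Y)
    haveI := hf
    exact ⟨J, hJ, ⟨(asIso (Q.map f)).symm ≪≫ Q.objObjPreimageIso Y⟩⟩
  obtain ⟨I, hI, ⟨φ⟩⟩ := rep E
  choose X hX φn using fun i => rep (Es i)
  let φi : ∀ i, Q.obj (X i) ≅ Es i := fun i => (φn i).some
  have ht : ∀ i, ∃ g : X (i + 1) ⟶ X i, Q.map g = (φi (i + 1)).hom ≫ t i ≫ (φi i).inv :=
    fun i => by haveI := hX i; exact exists_Q_map_eq _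
  have ha : ∀ i, ∃ g : X i ⟶ I, Q.map g = (φi i).hom ≫ a i ≫ φ.inv :=
    fun i => exists_Q_map_eq _
  choose tc htc using ht
  choose ac hac using ha
  have hz : ∀ k, ∃ z : Cochain (X (k + 1)) I (-1),
      δ (-1) 0 z = Cochain.ofHom (ac (k + 1) - tc k ≫ ac k) := by
    intro k
    apply exists_cochain_of_Q_map_eq_zero
    rw [Functor.map_sub, Functor.map_comp, hac, htc, hac, sub_eq_zero]
    simp only [Category.assoc, Iso.inv_hom_id_assoc]
    rw [reassoc_of% (hat k)]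
  choose z hz using hz
  obtain ⟨K, r, ρ, s, hr, hρ, hsρ, hsa, hstep⟩ := core I tc ac z hz
  haveI := hr
  haveI := hρ
  have hsiso : ∀ i, IsIso (Q.map (s i)) := by
    intro i
    have h1 : Q.map (s i) ≫ Q.map (ρ i) = 𝟙 _ := by
      rw [← Functor.map_comp, hsρ, CategoryTheory.Functor.map_id]
    have h2 : Q.map (s i) = inv (Q.map (ρ i)) := by
      rw [← cancel_mono (Q.map (ρ i)), h1, IsIso.inv_hom_id]
    rw [h2]; infer_instance
  refine ⟨K, asIso (Q.map r) ≪≫ φ, fun i => asIso (Q.map (ρ i)) ≪≫ φi i, ?_, ?_⟩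
  · intro i
    haveI := hsiso i
    rw [← cancel_epi (Q.map (s i))]
    have e1 : Q.map (s i) ≫ Q.map (K.fil i).arrow ≫ Q.map r = Q.map (ac i) := by
      rw [← Functor.map_comp, ← Functor.map_comp, hsa]
    have e2 : Q.map (s i) ≫ Q.map (ρ i) = 𝟙 _ := by
      rw [← Functor.map_comp, hsρ, CategoryTheory.Functor.map_id]
    simp only [Iso.trans_hom, asIso_hom, Category.assoc]
    rw [reassoc_of% e1, reassoc_of% e2, hac]
    simp
  · intro i
    show Q.map (K.stepLE (q := i + 1) (le_of_lt (Int.lt_succ_self i))) ≫ _ = _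
    have e3 : Q.map (K.stepLE (q := i + 1) (le_of_lt (Int.lt_succ_self i))) ≫ Q.map (ρ i) =
        Q.map (ρ (i + 1)) ≫ Q.map (tc i) := by
      rw [← Functor.map_comp, hstep, Functor.map_comp]
    simp only [Iso.trans_hom, asIso_hom, Category.assoc]
    rw [reassoc_of% e3, htc]
    simp

end Groth.Agent.H1.FRS
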