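import Mathlib

universe u

open TensorProduct KaehlerDifferential

namespace Groth.Agent.H1.SqLift

variable {A C : Type u} [CommRing A] [CommRing C] [Algebra A C] (I : Ideal A)
  [Algebra C (A ⧸ I)] [IsScalarTower A C (A ⧸ I)]

lemma p_algebraMap (a : A) : algebraMap C (A ⧸ I) (algebraMap A C a) = Ideal.Quotient.mk I a := by
  rw [← IsScalarTower.algebraMap_apply A C (A ⧸ I)]; rfl

lemma p_surjective : Function.Surjective (algebraMap C (A ⧸ I)) := by
  intro r
  obtain ⟨a, rfl⟩ := Ideal.Quotient.mk_surjective r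
  exact ⟨algebraMap A C a, p_algebraMap I a⟩

variable (hsq : ∀ x y : C, algebraMap C (A ⧸ I) x = 0 → algebraMap C (A ⧸ I) y = 0 → x * y = 0)

/-- the image of `I` in `C` is an ideal. -/
def imI (hsq : ∀ x y : C, algebraMap C (A ⧸ I) x = 0 → algebraMap C (A ⧸ I) y = 0 → x * y = 0) :
    Ideal C where
  carrier := {c | ∃ x ∈ I, algebraMap A C x = c}
  add_mem' := by
    rintro _ _ ⟨x, hx, rfl⟩ ⟨y, hy, rfl⟩
    exact ⟨x + y, I.add_mem hx hy, map_add _ _ _⟩
  zero_mem' := ⟨0, I.zero_mem, map_zero _⟩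
  smul_mem' := by
    rintro c _ ⟨x, hx, rfl⟩
    obtain ⟨a, ha⟩ := Ideal.Quotient.mk_surjective (algebraMap C (A ⧸ I) c)
    refine ⟨a * x, I.mul_mem_left a hx, ?_⟩
    have h1 : algebraMap C (A ⧸ I) (c - algebraMap A C a) = 0 := by
      rw [map_sub, p_algebraMap, ha, sub_self]
    have h2 : algebraMap C (A ⧸ I) (algebraMap A C x) = 0 := by
      rw [p_algebraMap]; exact Ideal.Quotient.eq_zero_iff_mem.mpr hx
    have h3 := hsq _ _ h1 h2
    rw [smul_eq_mul, map_mul]
    linear_combination (-1 : C) * h3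

include hsq in
lemma map_le_imI : Ideal.map (algebraMap A C) I ≤ imI I hsq := by
  rw [Ideal.map, Ideal.span_le]
  rintro _ ⟨x, hx, rfl⟩
  exact ⟨x, hx, rfl⟩

section kernel

/-- `ι : A/I → C/IC`. -/
noncomputable def iota : A ⧸ I →+* C ⧸ Ideal.map (algebraMap A C) I :=
  Ideal.Quotient.lift I ((Ideal.Quotient.mk _).comp (algebraMap A C)) (fun a ha =>
    Ideal.Quotient.eq_zero_iff_mem.mpr (Ideal.mem_map_of_mem _ ha))

lemma iota_mk (a : A) : iota (C := C) I (Ideal.Quotient.mk I a) =
    Ideal.Quotient.mk _ (algebraMap A C a) := by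
  simp [iota]

/-- `ε : C/IC → A/I`. -/
noncomputable def eps : C ⧸ Ideal.map (algebraMap A C) I →+* A ⧸ I :=
  Ideal.Quotient.lift _ (algebraMap C (A ⧸ I)) (fun c hc => by
    have : Ideal.map (algebraMap A C) I ≤ RingHom.ker (algebraMap C (A ⧸ I)) := by
      rw [Ideal.map, Ideal.span_le]
      rintro _ ⟨x, hx, rfl⟩
      rw [SetLike.mem_coe, RingHom.mem_ker, p_algebraMap]
      exact Ideal.Quotient.eq_zero_iff_mem.mpr hx
    exact this hc)

lemma eps_mk (c : C) : eps I (Ideal.Quotient.mk _ c) = algebraMap C (A ⧸ I) c := by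
  simp [eps]

lemma eps_iota (r : A ⧸ I) : eps (C := C) I (iota I r) = r := by
  obtain ⟨a, rfl⟩ := Ideal.Quotient.mk_surjective r
  rw [iota_mk, eps_mk, p_algebraMap]

include hsq in
lemma kbar_sq (x y : C ⧸ Ideal.map (algebraMap A C) I) (hx : eps I x = 0) (hy : eps I y = 0) :
    x * y = 0 := by
  obtain ⟨c, rfl⟩ := Ideal.Quotient.mk_surjective x
  obtain ⟨c', rfl⟩ := Ideal.Quotient.mk_surjective y
  rw [eps_mk] at hx hy
  rw [← map_mul, hsq c c' hx hy, map_zero]

/-- `c ↦ [c] - ι(p c)`. -/
noncomputable def dfun (c : C) : C ⧸ Ideal.map (algebraMap A C) I :=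
  Ideal.Quotient.mk _ c - iota I (algebraMap C (A ⧸ I) c)

lemma eps_dfun (c : C) : eps I (dfun I c) = 0 := by
  rw [dfun, map_sub, eps_mk, eps_iota, sub_self]

lemma dfun_algebraMap (a : A) : dfun (C := C) I (algebraMap A C a) = 0 := by
  rw [dfun, p_algebraMap, iota_mk, sub_self]

include hsq in
lemma dfun_mul (c c' : C) : dfun I (c * c') =
    Ideal.Quotient.mk _ c * dfun I c' + Ideal.Quotient.mk _ c' * dfun I c := by
  have h := kbar_sq I hsq _ _ (eps_dfun I c) (eps_dfun I c')
  simp only [dfun, map_mul] at h ⊢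
  linear_combination (-1 : C ⧸ Ideal.map (algebraMap A C) I) * h

/-- the derivation `C → ker ε`. -/
noncomputable def der : Derivation A C (RingHom.ker (eps (C := C) I)) :=
  Derivation.mk'
    { toFun := fun c => ⟨dfun I c, eps_dfun I c⟩
      map_add' := fun c c' => by
        apply Subtype.ext
        simp only [dfun, map_add, Submodule.coe_add]
        ring
      map_smul' := fun a c => by
        apply Subtype.ext
        rw [RingHom.id_apply, Algebra.smul_def, Submodule.coe_smul_of_tower]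
        show dfun I (algebraMap A C a * c) = a • dfun I c
        rw [dfun_mul I hsq, dfun_algebraMap, mul_zero, add_zero, Algebra.smul_def]
        rfl }
    (fun c c' => by
      apply Subtype.ext
      show dfun I (c * c') = ((c • (⟨dfun I c', eps_dfun I c'⟩ : RingHom.ker (eps (C := C) I)) +
        c' • (⟨dfun I c, eps_dfun I c⟩ : RingHom.ker (eps (C := C) I)) : RingHom.ker (eps (C := C) I)) :
          C ⧸ Ideal.map (algebraMap A C) I)
      rw [Submodule.coe_add, Submodule.coe_smul_of_tower, Submodule.coe_smul_of_tower,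
        Algebra.smul_def, Algebra.smul_def, dfun_mul I hsq]
      rfl)


/-- the comparison map `N → ker ε`. -/
noncomputable def Phi : (A ⧸ I) ⊗[C] Ω[C⁄A] →ₗ[C] RingHom.ker (eps (C := C) I) :=
  TensorProduct.lift (LinearMap.mk₂ C
    (fun r ω => iota (C := C) I r • (der I hsq).liftKaehlerDifferential ω)
    (fun r r' ω => by rw [map_add, add_smul])
    (fun c r ω => by
      apply Subtype.ext
      simp only [Submodule.coe_smul_of_tower, smul_eq_mul, Algebra.smul_def, map_mul]
      have h := kbar_sq I hsq _ _ (eps_dfun I c)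
        (show eps I (iota (C := C) I r * (((der I hsq).liftKaehlerDifferential ω :
          RingHom.ker (eps (C := C) I)) : C ⧸ Ideal.map (algebraMap A C) I)) = 0 by
          rw [map_mul, ((der I hsq).liftKaehlerDifferential ω).2, mul_zero])
      rw [dfun] at h
      have e1 : algebraMap C (C ⧸ Ideal.map (algebraMap A C) I) c = Ideal.Quotient.mk _ c := rfl
      rw [e1]
      linear_combination (-1 : C ⧸ Ideal.map (algebraMap A C) I) * h)
    (fun r ω ω' => by rw [map_add, smul_add])
    (fun c r ω => by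
      apply Subtype.ext
      simp only [map_smul, Submodule.coe_smul_of_tower, smul_eq_mul, Algebra.smul_def]
      ring))

end kernel

section main

/-- the kernel as an `A`-submodule -/
def K : Submodule A C := (RingHom.ker (algebraMap C (A ⧸ I))).restrictScalars A

lemma mem_K (c : C) : c ∈ K (C := C) I ↔ algebraMap C (A ⧸ I) c = 0 := by
  rw [K, Submodule.restrictScalars_mem, RingHom.mem_ker]

/-- `d̄ : C → N` -/
noncomputable def dbar : C →ₗ[A] (A ⧸ I) ⊗[C] Ω[C⁄A] :=
  ((TensorProduct.mk C (A ⧸ I) Ω[C⁄A] 1).restrictScalars A).comp (D A C).toLinearMap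

lemma dbar_apply (c : C) : dbar (C := C) I c = (1 : A ⧸ I) ⊗ₜ[C] D A C c := rfl

lemma dbar_algebraMap (a : A) : dbar (C := C) I (algebraMap A C a) = 0 := by
  rw [dbar_apply, Derivation.map_algebraMap, tmul_zero]

include hsq in
lemma mem_imI_of_dbar_eq_zero (k : C) (hk : algebraMap C (A ⧸ I) k = 0) (h : dbar (C := C) I k = 0) :
    k ∈ imI I hsq := by
  have h1 : Phi I hsq (dbar (C := C) I k) = 0 := by rw [h, map_zero]
  rw [dbar_apply, Phi, TensorProduct.lift.tmul] at h1
  simp only [LinearMap.mk₂_apply, map_one, one_smul,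
    Derivation.liftKaehlerDifferential_comp_D] at h1
  have h2 : dfun I k = 0 := congrArg Subtype.val h1
  rw [dfun, hk, map_zero, sub_zero, Ideal.Quotient.eq_zero_iff_mem] at h2
  exact map_le_imI I hsq h2

include hsq in
/-- **Key lemma**: if `C → A/I` is a surjection of `A`-algebras with square zero kernel, `A → C`
is injective and `(A/I) ⊗_C Ω_{C/A}` is a projective `A/I`-module, then `C → A/I` lifts to an
`A`-algebra retraction `C → A`. -/
theorem exists_retraction [Module.Projective (A ⧸ I) ((A ⧸ I) ⊗[C] Ω[C⁄A])]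
    (hinj : Function.Injective (algebraMap A C)) :
    ∃ σ : C →ₐ[A] A, ∀ c, Ideal.Quotient.mk I (σ c) = algebraMap C (A ⧸ I) c := by
  classical
  have hK : Module.IsTorsionBySet A (K (C := C) I) (I : Set A) := by
    rintro ⟨k, hk⟩ ⟨a, ha⟩
    apply Subtype.ext
    rw [Submodule.coe_smul, Submodule.coe_zero, Algebra.smul_def]
    refine hsq _ _ ?_ ((mem_K (C := C) I k).mp hk)
    rw [p_algebraMap]; exact Ideal.Quotient.eq_zero_iff_mem.mpr ha
  letI : Module (A ⧸ I) (K (C := C) I) := hK.module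
  haveI : IsScalarTower A (A ⧸ I) (K (C := C) I) := hK.isScalarTower
  let q : K (C := C) I →ₗ[A] (A ⧸ I) ⊗[C] Ω[C⁄A] := (dbar (C := C) I).comp (K (C := C) I).subtype
  let q' : K (C := C) I →ₗ[A ⧸ I] (A ⧸ I) ⊗[C] Ω[C⁄A] :=
    q.extendScalarsOfSurjective Ideal.Quotient.mk_surjective
  have hq' : ∀ k, q' k = dbar (C := C) I (k : C) := fun k => rfl
  have hsurj : Function.Surjective q' := by
    rw [← LinearMap.range_eq_top, eq_top_iff]
    rintro x -
    have key : ∀ ω : Ω[C⁄A], (1 : A ⧸ I) ⊗ₜ[C] ω ∈ LinearMap.range q' := by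
      intro ω
      have hω : ω ∈ Submodule.span C (Set.range (D A C)) := by
        rw [KaehlerDifferential.span_range_derivation]; trivial
      induction hω using Submodule.span_induction with
      | mem y hy =>
        obtain ⟨c, rfl⟩ := hy
        obtain ⟨a, ha⟩ := Ideal.Quotient.mk_surjective (algebraMap C (A ⧸ I) c)
        have hk : c - algebraMap A C a ∈ K (C := C) I := by
          rw [mem_K, map_sub, p_algebraMap, ha, sub_self]
        refine ⟨⟨_, hk⟩, ?_⟩
        rw [hq']
        show dbar (C := C) I (c - algebraMap A C a) = _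
        rw [map_sub, dbar_algebraMap, sub_zero, dbar_apply]
      | zero => rw [tmul_zero]; exact Submodule.zero_mem _
      | add y z _ _ hy hz => rw [tmul_add]; exact Submodule.add_mem _ hy hz
      | smul c y _ hy =>
        have : (1 : A ⧸ I) ⊗ₜ[C] (c • y) =
            algebraMap C (A ⧸ I) c • ((1 : A ⧸ I) ⊗ₜ[C] y) := by
          rw [TensorProduct.smul_tmul', smul_eq_mul, mul_one, ← TensorProduct.smul_tmul,
            Algebra.smul_def, mul_one]
        rw [this]
        exact Submodule.smul_mem _ _ hy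
    induction x using TensorProduct.induction_on with
    | zero => exact Submodule.zero_mem _
    | tmul r ω =>
      have : r ⊗ₜ[C] ω = r • ((1 : A ⧸ I) ⊗ₜ[C] ω) := by
        rw [TensorProduct.smul_tmul', smul_eq_mul, mul_one]
      rw [this]
      exact Submodule.smul_mem _ _ (key ω)
    | add y z hy hz => exact Submodule.add_mem _ hy hz
  obtain ⟨s, hs⟩ := Module.projective_lifting_property q' LinearMap.id hsurj
  have hs' : ∀ n, dbar (C := C) I ((s n : K (C := C) I) : C) = n := fun n => by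
    have := LinearMap.congr_fun hs n
    rw [LinearMap.comp_apply, LinearMap.id_apply, hq'] at this
    exact this
  let J : Ideal C :=
    { carrier := {c | ∃ n, ((s n : K (C := C) I) : C) = c}
      add_mem' := by
        rintro _ _ ⟨n, rfl⟩ ⟨m, rfl⟩
        exact ⟨n + m, by rw [map_add]; rfl⟩
      zero_mem' := ⟨0, by rw [map_zero]; rfl⟩
      smul_mem' := by
        rintro c _ ⟨n, rfl⟩
        obtain ⟨a, ha⟩ := Ideal.Quotient.mk_surjective (algebraMap C (A ⧸ I) c)
        refine ⟨Ideal.Quotient.mk I a • n, ?_⟩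
        rw [map_smul]
        have h0 : (Ideal.Quotient.mk I a • s n : K (C := C) I) = a • s n :=
          algebraMap_smul (A ⧸ I) a (s n)
        rw [h0, Submodule.coe_smul, Algebra.smul_def, smul_eq_mul]
        have h1 : algebraMap C (A ⧸ I) (c - algebraMap A C a) = 0 := by
          rw [map_sub, p_algebraMap, ha, sub_self]
        have h3 := hsq _ _ h1 ((mem_K (C := C) I _).mp (s n).2)
        linear_combination (-1 : C) * h3 }
  have hJ : ∀ c, c ∈ J ↔ ∃ n, ((s n : K (C := C) I) : C) = c := fun c => Iff.rfl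
  let φ : A →+* C ⧸ J := (Ideal.Quotient.mk J).comp (algebraMap A C)
  have hφinj : Function.Injective φ := by
    rw [injective_iff_map_eq_zero]
    intro a ha
    have : algebraMap A C a ∈ J := Ideal.Quotient.eq_zero_iff_mem.mp ha
    obtain ⟨n, hn⟩ := (hJ _).mp this
    have h1 : n = 0 := by
      rw [← hs' n, hn, dbar_algebraMap]
    rw [h1, map_zero] at hn
    exact hinj (by rw [← hn, map_zero]; rfl)
  have hφsurj : Function.Surjective φ := by
    intro x
    obtain ⟨c, rfl⟩ := Ideal.Quotient.mk_surjective x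
    obtain ⟨a, ha⟩ := Ideal.Quotient.mk_surjective (algebraMap C (A ⧸ I) c)
    have hk : c - algebraMap A C a ∈ K (C := C) I := by
      rw [mem_K, map_sub, p_algebraMap, ha, sub_self]
    obtain ⟨k, hkdef⟩ : ∃ k : K (C := C) I, (k : C) = c - algebraMap A C a := ⟨⟨_, hk⟩, rfl⟩
    obtain ⟨k', hk'def⟩ : ∃ k' : K (C := C) I, k' = s (q' k) := ⟨_, rfl⟩
    have hkk' : dbar (C := C) I ((k : C) - (k' : C)) = 0 := by
      rw [map_sub, hk'def, hs' (q' k), hq', sub_self]
    have hmem : algebraMap C (A ⧸ I) ((k : C) - (k' : C)) = 0 :=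
      (mem_K (C := C) I _).mp ((K (C := C) I).sub_mem k.2 k'.2)
    obtain ⟨x, hx, hxe⟩ := mem_imI_of_dbar_eq_zero I hsq _ hmem hkk'
    refine ⟨a + x, ?_⟩
    show Ideal.Quotient.mk J (algebraMap A C (a + x)) = Ideal.Quotient.mk J c
    rw [Ideal.Quotient.eq]
    have : algebraMap A C (a + x) - c = -(k' : C) := by
      rw [map_add, hxe, hkdef]; ring
    rw [this]
    exact J.neg_mem ((hJ _).mpr ⟨q' k, by rw [hk'def]⟩)
  let e : A ≃+* C ⧸ J := RingEquiv.ofBijective φ ⟨hφinj, hφsurj⟩
  let σ₀ : C →+* A := (e.symm : C ⧸ J →+* A).comp (Ideal.Quotient.mk J)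
  have hσ₀ : ∀ a, σ₀ (algebraMap A C a) = a := fun a => by
    show e.symm (e a) = a
    exact e.symm_apply_apply a
  refine ⟨{ σ₀ with commutes' := hσ₀ }, fun c => ?_⟩
  show Ideal.Quotient.mk I (σ₀ c) = _
  have h1 : Ideal.Quotient.mk J (algebraMap A C (σ₀ c)) = Ideal.Quotient.mk J c := by
    show e (e.symm (Ideal.Quotient.mk J c)) = _
    exact e.apply_symm_apply _
  rw [Ideal.Quotient.eq] at h1
  obtain ⟨n, hn⟩ := (hJ _).mp h1
  have h2 : algebraMap C (A ⧸ I) (algebraMap A C (σ₀ c) - c) = 0 := by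
    rw [← hn]; exact (mem_K (C := C) I _).mp (s n).2
  rw [map_sub, p_algebraMap, sub_eq_zero] at h2
  exact h2

end main

end Groth.Agent.H1.SqLift
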