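import Mathlib
import Groth.Agent.Lib.Helper9.Misc.DES1
import Groth.Agent.Lib.Helper1.SqLift

universe u

open TensorProduct KaehlerDifferential

namespace Groth.Agent.H1.KDesc

open Groth.Agent.H9.DES

/-- a set-valued functor on `A`-algebras in `Type u`. -/
structure PFun (A : Type u) [CommRing A] where
  Pt : ∀ (E : Type u) [CommRing E] [Algebra A E], Type (u + 1)
  map : ∀ {E E' : Type u} [CommRing E] [Algebra A E] [CommRing E'] [Algebra A E'],
    (E →ₐ[A] E') → Pt E → Pt E'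
  map_id : ∀ {E : Type u} [CommRing E] [Algebra A E] (x : Pt E), map (AlgHom.id A E) x = x
  map_comp : ∀ {E E' E'' : Type u} [CommRing E] [Algebra A E] [CommRing E'] [Algebra A E']
    [CommRing E''] [Algebra A E''] (g : E →ₐ[A] E') (g' : E' →ₐ[A] E'') (x : Pt E),
    map (g'.comp g) x = map g' (map g x)

section

variable {A : Type u} [CommRing A] (I : Ideal A)

lemma quot_algHom_ext {B : Type u} [CommRing B] [Algebra A B] (φ ψ : A ⧸ I →ₐ[A] B) : φ = ψ := by
  apply AlgHom.ext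
  intro x
  obtain ⟨a, rfl⟩ := Ideal.Quotient.mk_surjective x
  have h1 : Ideal.Quotient.mk I a = algebraMap A (A ⧸ I) a := rfl
  rw [h1, φ.commutes, ψ.commutes]

variable (P : PFun A) (τ : P.Pt (A ⧸ I))
variable (A' : Type u) [CommRing A'] [Algebra A A']

/-- the quotient `A'/IA'` -/
abbrev Q' : Type u := A' ⧸ I.map (algebraMap A A')

variable (C' : Type u) [CommRing C'] [Algebra A C'] [Algebra A' C'] [IsScalarTower A A' C']
  [Algebra C' (Q' I A')] [IsScalarTower A' C' (Q' I A')]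

/-- the universal thickening property (affine test objects). -/
structure UT (c : P.Pt C') : Prop where
  sq : ∀ x y : C', algebraMap C' (Q' I A') x = 0 → algebraMap C' (Q' I A') y = 0 → x * y = 0
  hc : ∃ φ : A ⧸ I →ₐ[A] Q' I A',
    P.map ((IsScalarTower.toAlgHom A' C' (Q' I A')).restrictScalars A) c = P.map φ τ
  univ : ∀ (E : Type u) [CommRing E] [Algebra A E] [Algebra A' E] [IsScalarTower A A' E]
    (K : Ideal E), K ^ 2 = ⊥ → ∀ (φ : A ⧸ I →ₐ[A] E ⧸ K) (x : P.Pt E),
    P.map (Ideal.Quotient.mkₐ A K) x = P.map φ τ →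
    ∃! g : C' →ₐ[A'] E, (∀ z, algebraMap C' (Q' I A') z = 0 → g z ∈ K) ∧
      P.map (g.restrictScalars A) c = x

/-- the kernel ideal -/
def J : Ideal C' := RingHom.ker (algebraMap C' (Q' I A'))

lemma mem_J (z : C') : z ∈ J I A' C' ↔ algebraMap C' (Q' I A') z = 0 := RingHom.mem_ker

lemma algebraMap_A' (a' : A') :
    algebraMap C' (Q' I A') (algebraMap A' C' a') = Ideal.Quotient.mk _ a' := by
  rw [← IsScalarTower.algebraMap_apply A' C' (Q' I A')]
  rfl

lemma algebraMap_mem (a : A) (ha : a ∈ I) :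
    algebraMap C' (Q' I A') (algebraMap A C' a) = 0 := by
  rw [IsScalarTower.algebraMap_apply A A' C', algebraMap_A']
  exact Ideal.Quotient.eq_zero_iff_mem.2 (Ideal.mem_map_of_mem _ ha)

lemma exists_sub_mem (z : C') : ∃ a' : A', algebraMap C' (Q' I A') (z - algebraMap A' C' a') = 0 := by
  obtain ⟨a', ha'⟩ := Ideal.Quotient.mk_surjective (algebraMap C' (Q' I A') z)
  exact ⟨a', by rw [map_sub, algebraMap_A', ha', sub_self]⟩

variable {I P τ A' C'}
variable {c : P.Pt C'} (U : UT I P τ A' C' c)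

include U in
lemma J_sq : J I A' C' ^ 2 = ⊥ := by
  rw [← le_bot_iff, pow_two, Ideal.mul_le]
  intro x hx y hy
  rw [Ideal.mem_bot]
  exact U.sq x y ((mem_J I A' C' x).1 hx) ((mem_J I A' C' y).1 hy)

include U in
lemma map_eq_of_kills {B : Type u} [CommRing B] [Algebra A B] (ψ : C' →ₐ[A] B)
    (hψ : ∀ z, algebraMap C' (Q' I A') z = 0 → ψ z = 0) (φ : A ⧸ I →ₐ[A] B) :
    P.map ψ c = P.map φ τ := by
  obtain ⟨φ₀, h0⟩ := U.hc
  obtain ⟨f, hf⟩ : ∃ f : A' →ₐ[A] B, ∀ a', f a' = ψ (algebraMap A' C' a') :=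
    ⟨ψ.comp ((Algebra.ofId A' C').restrictScalars A), fun _ => rfl⟩
  have hfI : ∀ a' : A', a' ∈ I.map (algebraMap A A') → f a' = 0 := fun a' ha' => by
    rw [hf]
    refine hψ _ ?_
    rw [algebraMap_A']
    exact Ideal.Quotient.eq_zero_iff_mem.2 ha'
  obtain ⟨ψb, hψb⟩ : ∃ ψb : Q' I A' →ₐ[A] B, ∀ a', ψb (Ideal.Quotient.mk _ a') = f a' :=
    ⟨Ideal.Quotient.liftₐ (I.map (algebraMap A A')) f hfI, fun _ => rfl⟩
  have key : ψb.comp ((IsScalarTower.toAlgHom A' C' (Q' I A')).restrictScalars A) = ψ := by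
    apply AlgHom.ext
    intro z
    obtain ⟨a', ha'⟩ := exists_sub_mem I A' C' z
    have h1 : algebraMap C' (Q' I A') z = Ideal.Quotient.mk _ a' := by
      rw [map_sub, sub_eq_zero, algebraMap_A'] at ha'
      exact ha'
    have h2 := hψ _ ha'
    rw [map_sub, sub_eq_zero] at h2
    show ψb (algebraMap C' (Q' I A') z) = ψ z
    rw [h1, hψb, hf, h2]
  rw [← key, P.map_comp, h0, ← P.map_comp]
  congr 1
  exact quot_algHom_ext I _ _

include U in
lemma map_mk_map (E : Type u) [CommRing E] [Algebra A E] (K : Ideal E) (g : C' →ₐ[A] E)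
    (hg : ∀ z, algebraMap C' (Q' I A') z = 0 → g z ∈ K) (φ : A ⧸ I →ₐ[A] E ⧸ K) :
    P.map (Ideal.Quotient.mkₐ A K) (P.map g c) = P.map φ τ := by
  rw [← P.map_comp]
  refine map_eq_of_kills U _ (fun z hz => ?_) φ
  show Ideal.Quotient.mk K (g z) = 0
  exact Ideal.Quotient.eq_zero_iff_mem.2 (hg z hz)

variable (I A' C') in
/-- some structure map `A/I → E/K` -/
noncomputable def phiOf (E : Type u) [CommRing E] [Algebra A E] (K : Ideal E) (g : C' →ₐ[A] E)
    (hg : ∀ z, algebraMap C' (Q' I A') z = 0 → g z ∈ K) : A ⧸ I →ₐ[A] E ⧸ K :=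
  Ideal.Quotient.liftₐ I ((Ideal.Quotient.mkₐ A K).comp (Algebra.ofId A E)) (fun a ha => by
    show Ideal.Quotient.mk K (algebraMap A E a) = 0
    rw [← g.commutes a]
    exact Ideal.Quotient.eq_zero_iff_mem.2 (hg _ (algebraMap_mem I A' C' a ha)))

include U in
lemma univ_unique (E : Type u) [CommRing E] [Algebra A E] [Algebra A' E] [IsScalarTower A A' E]
    (K : Ideal E) (hK : K ^ 2 = ⊥) (g₁ g₂ : C' →ₐ[A'] E)
    (h1 : ∀ z, algebraMap C' (Q' I A') z = 0 → g₁ z ∈ K)
    (h2 : ∀ z, algebraMap C' (Q' I A') z = 0 → g₂ z ∈ K)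
    (h : P.map (g₁.restrictScalars A) c = P.map (g₂.restrictScalars A) c) : g₁ = g₂ := by
  obtain ⟨g, -, hu⟩ := U.univ E K hK (phiOf I A' C' E K (g₁.restrictScalars A) h1)
    (P.map (g₁.restrictScalars A) c) (map_mk_map U E K _ h1 _)
  rw [hu g₁ ⟨h1, rfl⟩, hu g₂ ⟨h2, h.symm⟩]

variable (I A' C') in
/-- the ideal generated by `1 ⊗ J` -/
def K₁ : Ideal (A' ⊗[A] C') :=
  (J I A' C').map (Algebra.TensorProduct.includeRight : C' →ₐ[A] A' ⊗[A] C')

include U in
lemma K₁_sq : K₁ I A' C' ^ 2 = ⊥ := by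
  rw [K₁, ← Ideal.map_pow, J_sq U, Ideal.map_bot]

lemma incl_mem_K₁ (z : C') (hz : algebraMap C' (Q' I A') z = 0) :
    (Algebra.TensorProduct.includeRight : C' →ₐ[A] A' ⊗[A] C') z ∈ K₁ I A' C' :=
  Ideal.mem_map_of_mem _ ((mem_J I A' C' z).2 hz)

include U in
lemma exists_rho : ∃ ρ : C' →ₐ[A'] A' ⊗[A] C',
    (∀ z, algebraMap C' (Q' I A') z = 0 → ρ z ∈ K₁ I A' C') ∧
    P.map (ρ.restrictScalars A) c =
      P.map (Algebra.TensorProduct.includeRight : C' →ₐ[A] A' ⊗[A] C') c := by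
  obtain ⟨ρ, hρ, -⟩ := U.univ (A' ⊗[A] C') (K₁ I A' C') (K₁_sq U)
    (phiOf I A' C' (A' ⊗[A] C') (K₁ I A' C')
      (Algebra.TensorProduct.includeRight : C' →ₐ[A] A' ⊗[A] C') incl_mem_K₁)
    (P.map (Algebra.TensorProduct.includeRight : C' →ₐ[A] A' ⊗[A] C') c)
    (map_mk_map U (A' ⊗[A] C') (K₁ I A' C')
      (Algebra.TensorProduct.includeRight : C' →ₐ[A] A' ⊗[A] C') incl_mem_K₁ _)
  exact ⟨ρ, hρ⟩

/-- the coaction -/
noncomputable def rho : C' →ₐ[A'] A' ⊗[A] C' := Classical.choose (exists_rho U)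

lemma rho_mem (z : C') (hz : algebraMap C' (Q' I A') z = 0) : rho U z ∈ K₁ I A' C' :=
  (Classical.choose_spec (exists_rho U)).1 z hz

lemma map_rho : P.map ((rho U).restrictScalars A) c =
    P.map (Algebra.TensorProduct.includeRight : C' →ₐ[A] A' ⊗[A] C') c :=
  (Classical.choose_spec (exists_rho U)).2

variable (A A' C') in
/-- multiplication `A' ⊗ C' → C'` -/
noncomputable def muAlg : A' ⊗[A] C' →ₐ[A'] C' :=
  Algebra.TensorProduct.lift (Algebra.ofId A' C') (AlgHom.id A C') (fun _ _ => Commute.all _ _)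

lemma muAlg_tmul (a : A') (z : C') : muAlg A A' C' (a ⊗ₜ[A] z) = a • z := by
  rw [muAlg, Algebra.TensorProduct.lift_tmul, Algebra.smul_def]
  rfl

lemma mu_eq_muAlg (w : A' ⊗[A] C') : mu A A' C' w = muAlg A A' C' w := by
  induction w using TensorProduct.induction_on with
  | zero => rw [map_zero, map_zero]
  | tmul a z => rw [mu_tmul, muAlg_tmul]
  | add x y hx hy => rw [map_add, map_add, hx, hy]

lemma muAlg_mem_J (w : A' ⊗[A] C') (hw : w ∈ K₁ I A' C') : muAlg A A' C' w ∈ J I A' C' := by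
  have : K₁ I A' C' ≤ (J I A' C').comap (muAlg A A' C') := by
    rw [K₁, Ideal.map_le_iff_le_comap]
    intro z hz
    rw [Ideal.mem_comap, Ideal.mem_comap]
    have : muAlg A A' C' ((Algebra.TensorProduct.includeRight : C' →ₐ[A] A' ⊗[A] C') z) = z := by
      rw [Algebra.TensorProduct.includeRight_apply, muAlg_tmul, one_smul]
    rw [this]
    exact hz
  exact this hw

theorem counit_alg : (muAlg A A' C').comp (rho U) = AlgHom.id A' C' := by
  refine univ_unique U C' (J I A' C') (J_sq U) _ _ (fun z hz => ?_) (fun z hz => ?_) ?_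
  · exact muAlg_mem_J _ (rho_mem U z hz)
  · exact (mem_J I A' C' z).2 hz
  · have h1 : ((muAlg A A' C').comp (rho U)).restrictScalars A =
        ((muAlg A A' C').restrictScalars A).comp ((rho U).restrictScalars A) := rfl
    have h2 : ((muAlg A A' C').restrictScalars A).comp
        (Algebra.TensorProduct.includeRight : C' →ₐ[A] A' ⊗[A] C') = AlgHom.id A C' := by
      apply AlgHom.ext
      intro z
      show muAlg A A' C' ((Algebra.TensorProduct.includeRight : C' →ₐ[A] A' ⊗[A] C') z) = z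
      rw [Algebra.TensorProduct.includeRight_apply, muAlg_tmul, one_smul]
    have h3 : (AlgHom.id A' C').restrictScalars A = AlgHom.id A C' := rfl
    rw [h1, P.map_comp, map_rho U, ← P.map_comp, h2, h3]


variable (A A') in
/-- `id ⊗ g` -/
noncomputable abbrev tmap {D B : Type u} [CommRing D] [Algebra A D] [CommRing B] [Algebra A B]
    (g : D →ₐ[A] B) : A' ⊗[A] D →ₐ[A'] A' ⊗[A] B :=
  Algebra.TensorProduct.map (AlgHom.id A' A') g

lemma tmap_tmul {D B : Type u} [CommRing D] [Algebra A D] [CommRing B] [Algebra A B]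
    (g : D →ₐ[A] B) (a : A') (z : D) : tmap A A' g (a ⊗ₜ[A] z) = a ⊗ₜ[A] g z := by
  rw [Algebra.TensorProduct.map_tmul]; rfl

lemma lTensor_eq_tmap {D B : Type u} [CommRing D] [Algebra A D] [CommRing B] [Algebra A B]
    (g : D →ₐ[A] B) (l : D →ₗ[A] B) (h : ∀ z, l z = g z) (w : A' ⊗[A] D) :
    LinearMap.lTensor A' l w = tmap A A' g w := by
  induction w using TensorProduct.induction_on with
  | zero => rw [map_zero, map_zero]
  | tmul a z => rw [LinearMap.lTensor_tmul, tmap_tmul, h]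
  | add x y hx hy => rw [map_add, map_add, hx, hy]

lemma tmap_restrict {D B : Type u} [CommRing D] [Algebra A D] [CommRing B] [Algebra A B]
    (g : D →ₐ[A] B) :
    (tmap A A' g).restrictScalars A = Algebra.TensorProduct.map (AlgHom.id A A') g := by
  apply AlgHom.ext
  intro w
  show tmap A A' g w = _
  induction w using TensorProduct.induction_on with
  | zero => rw [map_zero, map_zero]
  | tmul a z => rw [tmap_tmul, Algebra.TensorProduct.map_tmul]; rfl
  | add x y hx hy => rw [map_add, map_add, hx, hy]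

variable (A A') in
/-- `a ⊗ e ↦ a ⊗ (1 ⊗ e)` as a map of `A`-algebras -/
noncomputable def mapR (E : Type u) [CommRing E] [Algebra A E] :
    A' ⊗[A] E →ₐ[A] A' ⊗[A] (A' ⊗[A] E) :=
  (tmap A A' (Algebra.TensorProduct.includeRight : E →ₐ[A] A' ⊗[A] E)).restrictScalars A

lemma mapR_tmul (E : Type u) [CommRing E] [Algebra A E] (a : A') (e : E) :
    mapR A A' E (a ⊗ₜ[A] e) = a ⊗ₜ[A] ((1 : A') ⊗ₜ[A] e) := by
  show tmap A A' _ (a ⊗ₜ[A] e) = _
  rw [tmap_tmul]
  rfl

variable (I A' C') in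
/-- the ideal generated by `1 ⊗ 1 ⊗ J` -/
def K₂ : Ideal (A' ⊗[A] (A' ⊗[A] C')) :=
  (K₁ I A' C').map
    (Algebra.TensorProduct.includeRight : A' ⊗[A] C' →ₐ[A] A' ⊗[A] (A' ⊗[A] C'))

include U in
lemma K₂_sq : K₂ I A' C' ^ 2 = ⊥ := by
  rw [K₂, ← Ideal.map_pow, K₁_sq U, Ideal.map_bot]

lemma tmap_mem_K₂ (g : C' →ₐ[A] A' ⊗[A] C')
    (hg : ∀ z, algebraMap C' (Q' I A') z = 0 → g z ∈ K₁ I A' C')
    (w : A' ⊗[A] C') (hw : w ∈ K₁ I A' C') : tmap A A' g w ∈ K₂ I A' C' := by
  have : K₁ I A' C' ≤ (K₂ I A' C').comap (tmap A A' g) := by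
    rw [K₁, Ideal.map_le_iff_le_comap]
    intro z hz
    rw [Ideal.mem_comap, Ideal.mem_comap, Algebra.TensorProduct.includeRight_apply, tmap_tmul]
    exact Ideal.mem_map_of_mem
      (Algebra.TensorProduct.includeRight : A' ⊗[A] C' →ₐ[A] A' ⊗[A] (A' ⊗[A] C'))
      (hg z ((mem_J I A' C' z).1 hz))
  exact this hw

theorem coassoc_alg :
    (tmap A A' ((rho U).restrictScalars A)).comp (rho U) =
      (tmap A A' (Algebra.TensorProduct.includeRight : C' →ₐ[A] A' ⊗[A] C')).comp (rho U) := by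
  refine univ_unique U (A' ⊗[A] (A' ⊗[A] C')) (K₂ I A' C') (K₂_sq U) _ _
    (fun z hz => ?_) (fun z hz => ?_) ?_
  · exact tmap_mem_K₂ _ (rho_mem U) _ (rho_mem U z hz)
  · exact tmap_mem_K₂ _ (fun z hz => incl_mem_K₁ z hz) _ (rho_mem U z hz)
  · have e2 : ∀ (g : C' →ₐ[A] A' ⊗[A] C'),
        ((tmap A A' g).restrictScalars A).comp
          (Algebra.TensorProduct.includeRight : C' →ₐ[A] A' ⊗[A] C') =
        (Algebra.TensorProduct.includeRight :
          A' ⊗[A] C' →ₐ[A] A' ⊗[A] (A' ⊗[A] C')).comp g := by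
      intro g
      apply AlgHom.ext
      intro z
      show tmap A A' g
        ((Algebra.TensorProduct.includeRight : C' →ₐ[A] A' ⊗[A] C') z) = _
      rw [Algebra.TensorProduct.includeRight_apply, tmap_tmul]
      rfl
    have e3 : ∀ (g : C' →ₐ[A] A' ⊗[A] C'),
        P.map (((tmap A A' g).comp (rho U)).restrictScalars A) c =
          P.map (Algebra.TensorProduct.includeRight :
            A' ⊗[A] C' →ₐ[A] A' ⊗[A] (A' ⊗[A] C')) (P.map g c) := by
      intro g
      have e1 : ((tmap A A' g).comp (rho U)).restrictScalars A =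
          ((tmap A A' g).restrictScalars A).comp ((rho U).restrictScalars A) := rfl
      rw [e1, P.map_comp, map_rho U, ← P.map_comp, e2, P.map_comp]
    rw [e3, e3, map_rho U]

/-- the descent datum in comodule form -/
noncomputable def descData : DescData A A' C' where
  ρ := (rho U).toLinearMap
  counit := fun n => by
    rw [mu_eq_muAlg]
    exact congrArg (fun f => f n) (counit_alg U)
  coassoc := fun n => by
    rw [lTensor_eq_tmap ((rho U).restrictScalars A) _ (fun _ => rfl),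
      lTensor_eq_tmap (Algebra.TensorProduct.includeRight : C' →ₐ[A] A' ⊗[A] C') _
        (fun _ => rfl)]
    exact congrArg (fun f => f n) (coassoc_alg U)

/-- the descended algebra -/
noncomputable def Cs : Subalgebra A C' :=
  AlgHom.equalizer ((rho U).restrictScalars A)
    (Algebra.TensorProduct.includeRight : C' →ₐ[A] A' ⊗[A] C')

lemma mem_Cs (z : C') : z ∈ Cs U ↔ rho U z = (1 : A') ⊗ₜ[A] z := by
  rw [Cs, AlgHom.mem_equalizer]
  rfl

/-- `A' ⊗ C → C'` -/
noncomputable def thetaAlg : A' ⊗[A] (Cs U) →ₐ[A'] C' :=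
  Algebra.TensorProduct.lift (Algebra.ofId A' C') (Cs U).val (fun _ _ => Commute.all _ _)

lemma thetaAlg_tmul (a : A') (z : Cs U) : thetaAlg U (a ⊗ₜ[A] z) = a • (z : C') := by
  rw [thetaAlg, Algebra.TensorProduct.lift_tmul, Algebra.smul_def]
  rfl

/-- invariants as a submodule vs as a subalgebra -/
noncomputable def csEquiv : Cs U ≃ₗ[A] (descData U).inv where
  toFun z := ⟨z.1, ((descData U).mem_inv _).2 ((mem_Cs U _).1 z.2)⟩
  invFun p := ⟨p.1, (mem_Cs U _).2 (((descData U).mem_inv _).1 p.2)⟩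
  map_add' _ _ := rfl
  map_smul' _ _ := rfl
  left_inv _ := rfl
  right_inv _ := rfl

lemma thetaAlg_eq (w : A' ⊗[A] (Cs U)) :
    thetaAlg U w = (descData U).theta (LinearMap.lTensor A' (csEquiv U).toLinearMap w) := by
  induction w using TensorProduct.induction_on with
  | zero => rw [map_zero, map_zero, map_zero]
  | tmul a z => rw [thetaAlg_tmul, LinearMap.lTensor_tmul, DescData.theta_tmul]; rfl
  | add x y hx hy => rw [map_add, map_add, map_add, hx, hy]

theorem thetaAlg_bijective [Module.Flat A A'] : Function.Bijective (thetaAlg U) := by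
  have h : (thetaAlg U : A' ⊗[A] (Cs U) → C') =
      (descData U).theta ∘ (LinearEquiv.lTensor A' (csEquiv U)) := funext (thetaAlg_eq U)
  rw [h]
  exact (descData U).theta_bijective.comp (LinearEquiv.bijective _)

variable (I A') in
/-- `A'/IA' ≃ A' ⊗ A/I` -/
noncomputable abbrev gam : Q' I A' ≃ₐ[A'] A' ⊗[A] (A ⧸ I) :=
  Algebra.TensorProduct.quotIdealMapEquivTensorQuot A' I

lemma gam_mk (a' : A') : gam I A' (Ideal.Quotient.mk _ a') = a' ⊗ₜ[A] (1 : A ⧸ I) := rfl

lemma gam_algebraMap (q : A ⧸ I) :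
    gam I A' (algebraMap (A ⧸ I) (Q' I A') q) = (1 : A') ⊗ₜ[A] q := by
  obtain ⟨a, rfl⟩ := Ideal.Quotient.mk_surjective q
  rw [Ideal.Quotient.algebraMap_quotient_map_quotient, gam_mk, Algebra.algebraMap_eq_smul_one,
    TensorProduct.smul_tmul]
  congr 1
  rw [Algebra.smul_def, mul_one]
  rfl

variable (I A' C') in
/-- `C' → A'/IA' ≃ A' ⊗ A/I` -/
noncomputable def eps : C' →ₐ[A'] A' ⊗[A] (A ⧸ I) :=
  ((gam I A' : Q' I A' ≃ₐ[A'] A' ⊗[A] (A ⧸ I)) : Q' I A' →ₐ[A'] A' ⊗[A] (A ⧸ I)).comp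
    (IsScalarTower.toAlgHom A' C' (Q' I A'))

lemma eps_apply (z : C') : eps I A' C' z = gam I A' (algebraMap C' (Q' I A') z) := rfl

lemma eps_eq_zero (z : C') (hz : algebraMap C' (Q' I A') z = 0) : eps I A' C' z = 0 := by
  rw [eps_apply, hz, map_zero]

theorem eps_comodule :
    (tmap A A' ((eps I A' C').restrictScalars A)).comp (rho U) =
      (tmap A A' (Algebra.TensorProduct.includeRight : A ⧸ I →ₐ[A] A' ⊗[A] (A ⧸ I))).comp
        (eps I A' C') := by
  apply AlgHom.ext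
  intro z
  obtain ⟨a', ha'⟩ := exists_sub_mem I A' C' z
  have hK : K₁ I A' C' ≤ RingHom.ker (tmap A A' ((eps I A' C').restrictScalars A)) := by
    rw [K₁, Ideal.map_le_iff_le_comap]
    intro j hj
    rw [Ideal.mem_comap, RingHom.mem_ker, Algebra.TensorProduct.includeRight_apply, tmap_tmul]
    show (1 : A') ⊗ₜ[A] eps I A' C' j = 0
    rw [eps_eq_zero j ((mem_J I A' C' j).1 hj), TensorProduct.tmul_zero]
  have h1 : ((tmap A A' ((eps I A' C').restrictScalars A)).comp (rho U))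
      (z - algebraMap A' C' a') = 0 :=
    RingHom.mem_ker.1 (hK (rho_mem U _ ha'))
  have h2 : ((tmap A A'
      (Algebra.TensorProduct.includeRight : A ⧸ I →ₐ[A] A' ⊗[A] (A ⧸ I))).comp
        (eps I A' C')) (z - algebraMap A' C' a') = 0 := by
    show tmap A A' _ (eps I A' C' (z - algebraMap A' C' a')) = 0
    rw [eps_eq_zero _ ha', map_zero]
  have hz : z = algebraMap A' C' a' + (z - algebraMap A' C' a') := by ring
  rw [hz, map_add, map_add, h1, h2, AlgHom.commutes, AlgHom.commutes]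

theorem eps_mem_range [Module.FaithfullyFlat A A'] (z : C')
    (hz : rho U z = (1 : A') ⊗ₜ[A] z) :
    ∃ q : A ⧸ I, eps I A' C' z = (1 : A') ⊗ₜ[A] q := by
  apply amitsur A A' (A ⧸ I)
  rw [lTensor_eq_tmap (Algebra.TensorProduct.includeRight : A ⧸ I →ₐ[A] A' ⊗[A] (A ⧸ I))
    (eta A A' (A ⧸ I)) (fun _ => rfl)]
  have h := congrArg (fun f => f z) (eps_comodule U)
  change tmap A A' ((eps I A' C').restrictScalars A) (rho U z) =
    tmap A A' (Algebra.TensorProduct.includeRight : A ⧸ I →ₐ[A] A' ⊗[A] (A ⧸ I))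
      (eps I A' C' z) at h
  rw [← h, hz, tmap_tmul]
  rfl


section Pi

variable [Module.FaithfullyFlat A A']

variable (I A') in
lemma inclRQ_injective : Function.Injective
    (Algebra.TensorProduct.includeRight : A ⧸ I →ₐ[A] A' ⊗[A] (A ⧸ I)) := by
  intro x y h
  exact eta_injective A A' (A ⧸ I) (show eta A A' _ x = eta A A' _ y from h)

/-- the descended augmentation `C → A/I` -/
noncomputable def piC : Cs U →ₐ[A] A ⧸ I :=
  ((AlgEquiv.ofInjective _ (inclRQ_injective I A')).symm : _ →ₐ[A] A ⧸ I).comp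
    ((((eps I A' C').restrictScalars A).comp (Cs U).val).codRestrict
      (Algebra.TensorProduct.includeRight : A ⧸ I →ₐ[A] A' ⊗[A] (A ⧸ I)).range (fun z => by
      obtain ⟨q, hq⟩ := eps_mem_range U z.1 ((mem_Cs U _).1 z.2)
      exact ⟨q, hq.symm⟩))

lemma incl_piC (z : Cs U) : (1 : A') ⊗ₜ[A] (piC U z) = eps I A' C' (z : C') := by
  have h := (AlgEquiv.ofInjective _ (inclRQ_injective I A')).apply_symm_apply
    ((((eps I A' C').restrictScalars A).comp (Cs U).val).codRestrict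
      (Algebra.TensorProduct.includeRight : A ⧸ I →ₐ[A] A' ⊗[A] (A ⧸ I)).range (fun z => by
      obtain ⟨q, hq⟩ := eps_mem_range U z.1 ((mem_Cs U _).1 z.2)
      exact ⟨q, hq.symm⟩) z)
  have h2 := congrArg Subtype.val h
  rw [AlgEquiv.ofInjective_apply] at h2
  exact h2

lemma algebraMap_piC (z : Cs U) :
    algebraMap (A ⧸ I) (Q' I A') (piC U z) = algebraMap C' (Q' I A') (z : C') := by
  apply (gam I A').injective
  rw [gam_algebraMap, incl_piC, eps_apply]

lemma piC_eq_zero_iff (z : Cs U) : piC U z = 0 ↔ algebraMap C' (Q' I A') (z : C') = 0 := by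
  constructor
  · intro h
    rw [← algebraMap_piC, h, map_zero]
  · intro h
    apply inclRQ_injective I A'
    show (1 : A') ⊗ₜ[A] (piC U z) = (1 : A') ⊗ₜ[A] (0 : A ⧸ I)
    rw [incl_piC, eps_eq_zero _ h, TensorProduct.tmul_zero]

end Pi

end

/-- Finite presentation of a finite module descends along faithfully flat ring maps
(copied from helper9's DUA4 to avoid its import closure). -/
theorem finitePresentation_of_faithfullyFlat (S : Type u) [CommRing S] (T : Type u) [CommRing T]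
    [Algebra S T] [Module.FaithfullyFlat S T] (N : Type u) [AddCommGroup N] [Module S N]
    [Module.Finite S N] (h : Module.FinitePresentation T (T ⊗[S] N)) :
    Module.FinitePresentation S N := by
  obtain ⟨n, f, hf⟩ := Module.Finite.exists_fin' S N
  rw [← Module.FinitePresentation.fg_ker_iff f hf]
  let fT : T ⊗[S] (Fin n → S) →ₗ[T] T ⊗[S] N := TensorProduct.AlgebraTensorModule.lTensor T T f
  have hfT : Function.Surjective fT := LinearMap.lTensor_surjective T hf
  have h1 : (LinearMap.ker fT).FG := Module.FinitePresentation.fg_ker fT hfT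
  have h2 : LinearMap.ker fT = LinearMap.range
      (TensorProduct.AlgebraTensorModule.lTensor T T (LinearMap.ker f).subtype) :=
    Module.Flat.ker_lTensor_eq T T f
  let j : T ⊗[S] (LinearMap.ker f) →ₗ[T] T ⊗[S] (Fin n → S) :=
    TensorProduct.AlgebraTensorModule.lTensor T T (LinearMap.ker f).subtype
  have hj : Function.Injective j :=
    Module.Flat.lTensor_preserves_injective_linearMap (M := T) (LinearMap.ker f).subtype
      (Submodule.injective_subtype _)
  haveI : Module.Finite T (T ⊗[S] LinearMap.ker f) := by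
    have e := LinearEquiv.ofInjective j hj
    haveI : Module.Finite T (LinearMap.range j) := by
      rw [Module.Finite.iff_fg]
      rw [← h2]
      exact h1
    exact Module.Finite.equiv e.symm
  haveI : Module.Finite S (LinearMap.ker f) :=
    Module.Finite.of_finite_tensorProduct_of_faithfullyFlat T
  exact Module.Finite.iff_fg.1 inferInstance

/-- descent of projectivity of the conormal-type module. -/
theorem projective_descent {A A' C C' : Type u} [CommRing A] [CommRing A'] [CommRing C]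
    [CommRing C'] (I : Ideal A) [Algebra A A'] [Algebra A C] [Algebra A C'] [Algebra A' C']
    [Algebra C C'] [IsScalarTower A A' C'] [IsScalarTower A C C'] [Algebra.IsPushout A A' C C']
    [Module.FaithfullyFlat A A']
    [Algebra C (A ⧸ I)] [Algebra C' (Q' I A')] [Algebra C (Q' I A')]
    [IsScalarTower C (A ⧸ I) (Q' I A')] [IsScalarTower C C' (Q' I A')]
    [Module.Finite (Q' I A') (Q' I A' ⊗[C'] Ω[C'⁄A'])]
    [Module.Projective (Q' I A') (Q' I A' ⊗[C'] Ω[C'⁄A'])] :
    Module.Projective (A ⧸ I) ((A ⧸ I) ⊗[C] Ω[C⁄A]) := by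
  let e1 := AlgebraTensorModule.cancelBaseChange C (A ⧸ I) (Q' I A') (Q' I A') Ω[C⁄A]
  let e2 := AlgebraTensorModule.cancelBaseChange C C' (Q' I A') (Q' I A') Ω[C⁄A]
  let e3 := AlgebraTensorModule.congr (LinearEquiv.refl (Q' I A') (Q' I A'))
    (KaehlerDifferential.tensorKaehlerEquiv A A' C C')
  let e : Q' I A' ⊗[A ⧸ I] ((A ⧸ I) ⊗[C] Ω[C⁄A]) ≃ₗ[Q' I A'] Q' I A' ⊗[C'] Ω[C'⁄A'] :=
    e1 ≪≫ₗ e2.symm ≪≫ₗ e3
  haveI : Module.FaithfullyFlat (A ⧸ I) (Q' I A') :=
    Module.FaithfullyFlat.of_linearEquiv _ _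
      (Algebra.TensorProduct.quotIdealMapEquivQuotTensor A' I).toLinearEquiv
  haveI : Module.Finite (Q' I A') (Q' I A' ⊗[A ⧸ I] ((A ⧸ I) ⊗[C] Ω[C⁄A])) :=
    Module.Finite.equiv e.symm
  haveI : Module.Projective (Q' I A') (Q' I A' ⊗[A ⧸ I] ((A ⧸ I) ⊗[C] Ω[C⁄A])) :=
    Module.Projective.of_equiv' e.symm
  haveI : Module.Finite (A ⧸ I) ((A ⧸ I) ⊗[C] Ω[C⁄A]) :=
    Module.Finite.of_finite_tensorProduct_of_faithfullyFlat (Q' I A')
  haveI : Module.FinitePresentation (A ⧸ I) ((A ⧸ I) ⊗[C] Ω[C⁄A]) :=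
    finitePresentation_of_faithfullyFlat (A ⧸ I) (Q' I A') _
      (Module.finitePresentation_of_projective _ _)
  haveI : Module.Flat (A ⧸ I) ((A ⧸ I) ⊗[C] Ω[C⁄A]) :=
    Module.Flat.of_flat_tensorProduct _ _ (Q' I A')
  exact Module.Flat.projective_of_finitePresentation

section Main

variable {A : Type u} [CommRing A] {I : Ideal A} {P : PFun A} {τ : P.Pt (A ⧸ I)}
  {A' : Type u} [CommRing A'] [Algebra A A']
  {C' : Type u} [CommRing C'] [Algebra A C'] [Algebra A' C'] [IsScalarTower A A' C']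
  [Algebra C' (Q' I A')] [IsScalarTower A' C' (Q' I A')]

/-- **Descent of the lifting problem** along a faithfully flat cover over which a universal
first order thickening with projective conormal module exists. -/
theorem main {c : P.Pt C'} (U : UT I P τ A' C' c) [Module.FaithfullyFlat A A']
    (hsh_inj : ∀ (E : Type u) [CommRing E] [Algebra A E] (x y : P.Pt E),
      P.map (Algebra.TensorProduct.includeRight : E →ₐ[A] A' ⊗[A] E) x =
        P.map (Algebra.TensorProduct.includeRight : E →ₐ[A] A' ⊗[A] E) y → x = y)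
    (hsh_glue : ∀ (E : Type u) [CommRing E] [Algebra A E] (x' : P.Pt (A' ⊗[A] E)),
      P.map (Algebra.TensorProduct.includeRight : A' ⊗[A] E →ₐ[A] A' ⊗[A] (A' ⊗[A] E)) x' =
        P.map (mapR A A' E) x' →
      ∃ x : P.Pt E, P.map (Algebra.TensorProduct.includeRight : E →ₐ[A] A' ⊗[A] E) x = x')
    (hinjC : Function.Injective (algebraMap A' C'))
    [Module.Finite (Q' I A') (Q' I A' ⊗[C'] Ω[C'⁄A'])]
    [Module.Projective (Q' I A') (Q' I A' ⊗[C'] Ω[C'⁄A'])] :
    ∃ x : P.Pt A, P.map (Ideal.Quotient.mkₐ A I) x = τ := by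
  letI : Algebra (Cs U) (A ⧸ I) := (piC U).toRingHom.toAlgebra
  haveI : IsScalarTower A (Cs U) (A ⧸ I) :=
    IsScalarTower.of_algebraMap_eq (fun a => ((piC U).commutes a).symm)
  have hsq : ∀ x y : Cs U, algebraMap (Cs U) (A ⧸ I) x = 0 → algebraMap (Cs U) (A ⧸ I) y = 0 →
      x * y = 0 := fun x y hx hy =>
    Subtype.ext (U.sq x y ((piC_eq_zero_iff U x).1 hx) ((piC_eq_zero_iff U y).1 hy))
  have hinj : Function.Injective (algebraMap A (Cs U)) := by
    intro a b hab
    have h1 : algebraMap A C' a = algebraMap A C' b := congrArg Subtype.val hab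
    rw [IsScalarTower.algebraMap_apply A A' C', IsScalarTower.algebraMap_apply A A' C'] at h1
    exact FaithfulSMul.algebraMap_injective A A' (hinjC h1)
  haveI : Algebra.IsPushout A A' (Cs U) C' :=
    ⟨IsBaseChange.of_equiv
      (LinearEquiv.ofBijective (thetaAlg U).toLinearMap (thetaAlg_bijective U)) (fun z => by
        show thetaAlg U ((1 : A') ⊗ₜ[A] z) = _
        rw [thetaAlg_tmul, one_smul]
        rfl)⟩
  haveI : IsScalarTower (Cs U) (A ⧸ I) (Q' I A') :=
    IsScalarTower.of_algebraMap_eq (fun z => (algebraMap_piC U z).symm)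
  haveI : IsScalarTower (Cs U) C' (Q' I A') := IsScalarTower.of_algebraMap_eq (fun _ => rfl)
  haveI : Module.Projective (A ⧸ I) ((A ⧸ I) ⊗[Cs U] Ω[(Cs U)⁄A]) :=
    projective_descent (A' := A') (C := Cs U) (C' := C') I
  obtain ⟨σ, hσ⟩ := Groth.Agent.H1.SqLift.exists_retraction I hsq hinj
  -- descend `c`
  obtain ⟨e, he⟩ : ∃ e : A' ⊗[A] (Cs U) ≃ₐ[A'] C', ∀ w, e w = thetaAlg U w :=
    ⟨AlgEquiv.ofBijective (thetaAlg U) (thetaAlg_bijective U), fun _ => rfl⟩
  obtain ⟨eA, heA⟩ : ∃ eA : A' ⊗[A] (Cs U) →ₐ[A] C', ∀ w, eA w = e w :=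
    ⟨(e : A' ⊗[A] (Cs U) →ₐ[A'] C').restrictScalars A, fun _ => rfl⟩
  obtain ⟨eS, heS⟩ : ∃ eS : C' →ₐ[A] A' ⊗[A] (Cs U), ∀ w, eS w = e.symm w :=
    ⟨(e.symm : C' →ₐ[A'] A' ⊗[A] (Cs U)).restrictScalars A, fun _ => rfl⟩
  have hSe : eS.comp eA = AlgHom.id A _ := AlgHom.ext fun w => by
    show eS (eA w) = w
    rw [heS, heA, AlgEquiv.symm_apply_apply]
  have heS' : eA.comp eS = AlgHom.id A _ := AlgHom.ext fun w => by
    show eA (eS w) = w
    rw [heS, heA, AlgEquiv.apply_symm_apply]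
  obtain ⟨x', hx'def⟩ : ∃ x', x' = P.map eS c := ⟨_, rfl⟩
  have hx' : P.map eA x' = c := by rw [hx'def, ← P.map_comp, heS', P.map_id]
  -- the transport isomorphism
  obtain ⟨T, hT⟩ : ∃ T : A' ⊗[A] (A' ⊗[A] (Cs U)) →ₐ[A] A' ⊗[A] C',
      ∀ w, T w = tmap A A' eA w := ⟨(tmap A A' eA).restrictScalars A, fun _ => rfl⟩
  obtain ⟨T', hT'⟩ : ∃ T' : A' ⊗[A] C' →ₐ[A] A' ⊗[A] (A' ⊗[A] (Cs U)),
      ∀ w, T' w = tmap A A' eS w := ⟨(tmap A A' eS).restrictScalars A, fun _ => rfl⟩
  have hT'T : T'.comp T = AlgHom.id A _ := by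
    apply AlgHom.ext
    intro w
    show T' (T w) = w
    rw [hT, hT']
    induction w using TensorProduct.induction_on with
    | zero => rw [map_zero, map_zero]
    | tmul a z =>
      rw [tmap_tmul, tmap_tmul]
      have : eS (eA z) = z := congrArg (fun f => f z) hSe
      rw [this]
    | add x y hx hy => rw [map_add, map_add, hx, hy]
  obtain ⟨inc, hinc⟩ : ∃ inc : A' ⊗[A] (Cs U) →ₐ[A] A' ⊗[A] (A' ⊗[A] (Cs U)),
      inc = Algebra.TensorProduct.includeRight := ⟨_, rfl⟩
  have hinjT : Function.Injective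
      (P.map (E := A' ⊗[A] (A' ⊗[A] (Cs U))) (E' := A' ⊗[A] C') T) := fun a b h => by
    have := congrArg (P.map (E := A' ⊗[A] C') (E' := A' ⊗[A] (A' ⊗[A] (Cs U))) T') h
    rwa [← P.map_comp, ← P.map_comp, hT'T, P.map_id, P.map_id] at this
  have k1 : T.comp inc = (Algebra.TensorProduct.includeRight : C' →ₐ[A] A' ⊗[A] C').comp eA := by
    apply AlgHom.ext
    intro w
    show T (inc w) = _
    rw [hT, hinc, Algebra.TensorProduct.includeRight_apply, tmap_tmul]
    rfl
  have k2 : T.comp (mapR A A' (Cs U)) = ((rho U).restrictScalars A).comp eA := by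
    apply AlgHom.ext
    intro w
    show T (mapR A A' (Cs U) w) = rho U (eA w)
    rw [hT, heA, he]
    induction w using TensorProduct.induction_on with
    | zero => rw [map_zero, map_zero, map_zero, map_zero]
    | tmul a z =>
      rw [mapR_tmul, tmap_tmul,
        heA, he, thetaAlg_tmul, thetaAlg_tmul, one_smul, map_smul, (mem_Cs U _).1 z.2,
        TensorProduct.smul_tmul', smul_eq_mul, mul_one]
    | add x y hx hy => rw [map_add, map_add, map_add, map_add, hx, hy]
  have hglue : P.map inc x' = P.map (mapR A A' (Cs U)) x' := by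
    apply hinjT
    rw [← P.map_comp, ← P.map_comp, k1, k2, P.map_comp, P.map_comp, hx', map_rho U]
  rw [hinc] at hglue
  obtain ⟨c₀, hc₀⟩ := hsh_glue (Cs U) x' hglue
  have hc₀' : P.map (Cs U).val c₀ = c := by
    have h1 : P.map (Cs U).val c₀ = P.map eA x' := by
      rw [← hc₀, ← P.map_comp]
      congr 1
      apply AlgHom.ext
      intro z
      show (z : C') = eA ((1 : A') ⊗ₜ[A] z)
      rw [heA, he, thetaAlg_tmul, one_smul]
    rw [h1, hx']
  refine ⟨P.map σ c₀, ?_⟩
  apply hsh_inj (A ⧸ I)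
  have hcomp : ((Algebra.TensorProduct.includeRight : A ⧸ I →ₐ[A] A' ⊗[A] (A ⧸ I)).comp
      (Ideal.Quotient.mkₐ A I)).comp σ = ((eps I A' C').restrictScalars A).comp (Cs U).val := by
    apply AlgHom.ext
    intro z
    show (1 : A') ⊗ₜ[A] (Ideal.Quotient.mk I (σ z)) = eps I A' C' (z : C')
    rw [hσ z]
    exact incl_piC U z
  rw [← P.map_comp, ← P.map_comp, hcomp, P.map_comp, hc₀']
  exact map_eq_of_kills U _ (fun z hz => eps_eq_zero z hz) _

end Main

end Groth.Agent.H1.KDesc
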