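import Mathlib
import Groth.Agent.Lib.Helper1.KDesc
import Groth.Agent.Lib.Helper1.DescProj

/-!
# (K)-project, descent of the lifting problem without finiteness of the conormal module
(uses Raynaud–Gruson descent of projectivity).
-/

universe u

open TensorProduct KaehlerDifferential

namespace Groth.Agent.H1.KDescF

open Groth.Agent.H9.DES Groth.Agent.H1.KDesc

/-- descent of projectivity of the conormal-type module. -/
theorem projective_descent' {A A' C C' : Type u} [CommRing A] [CommRing A'] [CommRing C]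
    [CommRing C'] (I : Ideal A) [Algebra A A'] [Algebra A C] [Algebra A C'] [Algebra A' C']
    [Algebra C C'] [IsScalarTower A A' C'] [IsScalarTower A C C'] [Algebra.IsPushout A A' C C']
    [Module.FaithfullyFlat A A']
    [Algebra C (A ⧸ I)] [Algebra C' (Q' I A')] [Algebra C (Q' I A')]
    [IsScalarTower C (A ⧸ I) (Q' I A')] [IsScalarTower C C' (Q' I A')]
    [Module.Projective (Q' I A') (Q' I A' ⊗[C'] Ω[C'⁄A'])] :
    Module.Projective (A ⧸ I) ((A ⧸ I) ⊗[C] Ω[C⁄A]) := by
  let e1 := AlgebraTensorModule.cancelBaseChange C (A ⧸ I) (Q' I A') (Q' I A') Ω[C⁄A]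
  let e2 := AlgebraTensorModule.cancelBaseChange C C' (Q' I A') (Q' I A') Ω[C⁄A]
  let e3 := AlgebraTensorModule.congr (LinearEquiv.refl (Q' I A') (Q' I A'))
    (KaehlerDifferential.tensorKaehlerEquiv A A' C C')
  let e : Q' I A' ⊗[A ⧸ I] ((A ⧸ I) ⊗[C] Ω[C⁄A]) ≃ₗ[Q' I A'] Q' I A' ⊗[C'] Ω[C'⁄A'] :=
    e1 ≪≫ₗ e2.symm ≪≫ₗ e3
  haveI : Module.FaithfullyFlat (A ⧸ I) (Q' I A') :=
    Module.FaithfullyFlat.of_linearEquiv _ _
      (Algebra.TensorProduct.quotIdealMapEquivQuotTensor A' I).toLinearEquiv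
  haveI : Module.Projective (Q' I A') (Q' I A' ⊗[A ⧸ I] ((A ⧸ I) ⊗[C] Ω[C⁄A])) :=
    Module.Projective.of_equiv' e.symm
  exact Groth.Agent.H1.DescProj.projective_of_baseChange (S := Q' I A')

section Main

variable {A : Type u} [CommRing A] {I : Ideal A} {P : PFun A} {τ : P.Pt (A ⧸ I)}
  {A' : Type u} [CommRing A'] [Algebra A A']
  {C' : Type u} [CommRing C'] [Algebra A C'] [Algebra A' C'] [IsScalarTower A A' C']
  [Algebra C' (Q' I A')] [IsScalarTower A' C' (Q' I A')]

/-- **Descent of the lifting problem** along a faithfully flat cover over which a universal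
first order thickening with projective conormal module exists. -/
theorem main' {c : P.Pt C'} (U : UT I P τ A' C' c) [Module.FaithfullyFlat A A']
    (hsh_inj : ∀ (E : Type u) [CommRing E] [Algebra A E] (x y : P.Pt E),
      P.map (Algebra.TensorProduct.includeRight : E →ₐ[A] A' ⊗[A] E) x =
        P.map (Algebra.TensorProduct.includeRight : E →ₐ[A] A' ⊗[A] E) y → x = y)
    (hsh_glue : ∀ (E : Type u) [CommRing E] [Algebra A E] (x' : P.Pt (A' ⊗[A] E)),
      P.map (Algebra.TensorProduct.includeRight : A' ⊗[A] E →ₐ[A] A' ⊗[A] (A' ⊗[A] E)) x' =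
        P.map (mapR A A' E) x' →
      ∃ x : P.Pt E, P.map (Algebra.TensorProduct.includeRight : E →ₐ[A] A' ⊗[A] E) x = x')
    (hinjC : Function.Injective (algebraMap A' C'))
    [Module.Projective (Q' I A') (Q' I A' ⊗[C'] Ω[C'⁄A'])] :
    ∃ x : P.Pt A, P.map (Ideal.Quotient.mkₐ A I) x = τ := by
  letI : Algebra (Cs U) (A ⧸ I) := (piC U).toRingHom.toAlgebra
  haveI : IsScalarTower A (Cs U) (A ⧸ I) :=
    IsScalarTower.of_algebraMap_eq (fun a => ((piC U).commutes a).symm)
  have hsq : ∀ x y : Cs U, algebraMap (Cs U) (A ⧸ I) x = 0 → algebraMap (Cs U) (A ⧸ I) y = 0 →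
      x * y = 0 := fun x y hx hy =>
    Subtype.ext (U.sq x y ((piC_eq_zero_iff U x).1 hx) ((piC_eq_zero_iff U y).1 hy))
  have hinj : Function.Injective (algebraMap A (Cs U)) := by
    intro a b hab
    have h1 : algebraMap A C' a = algebraMap A C' b := congrArg Subtype.val hab
    rw [IsScalarTower.algebraMap_apply A A' C', IsScalarTower.algebraMap_apply A A' C'] at h1
    exact FaithfulSMul.algebraMap_injective A A' (hinjC h1)
  haveI : Algebra.IsPushout A A' (Cs U) C' :=
    ⟨IsBaseChange.of_equiv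
      (LinearEquiv.ofBijective (thetaAlg U).toLinearMap (thetaAlg_bijective U)) (fun z => by
        show thetaAlg U ((1 : A') ⊗ₜ[A] z) = _
        rw [thetaAlg_tmul, one_smul]
        rfl)⟩
  haveI : IsScalarTower (Cs U) (A ⧸ I) (Q' I A') :=
    IsScalarTower.of_algebraMap_eq (fun z => (algebraMap_piC U z).symm)
  haveI : IsScalarTower (Cs U) C' (Q' I A') := IsScalarTower.of_algebraMap_eq (fun _ => rfl)
  haveI : Module.Projective (A ⧸ I) ((A ⧸ I) ⊗[Cs U] Ω[(Cs U)⁄A]) :=
    projective_descent' (A' := A') (C := Cs U) (C' := C') I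
  obtain ⟨σ, hσ⟩ := Groth.Agent.H1.SqLift.exists_retraction I hsq hinj
  -- descend `c`
  obtain ⟨e, he⟩ : ∃ e : A' ⊗[A] (Cs U) ≃ₐ[A'] C', ∀ w, e w = thetaAlg U w :=
    ⟨AlgEquiv.ofBijective (thetaAlg U) (thetaAlg_bijective U), fun _ => rfl⟩
  obtain ⟨eA, heA⟩ : ∃ eA : A' ⊗[A] (Cs U) →ₐ[A] C', ∀ w, eA w = e w :=
    ⟨(e : A' ⊗[A] (Cs U) →ₐ[A'] C').restrictScalars A, fun _ => rfl⟩
  obtain ⟨eS, heS⟩ : ∃ eS : C' →ₐ[A] A' ⊗[A] (Cs U), ∀ w, eS w = e.symm w :=
    ⟨(e.symm : C' →ₐ[A'] A' ⊗[A] (Cs U)).restrictScalars A, fun _ => rfl⟩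
  have hSe : eS.comp eA = AlgHom.id A _ := AlgHom.ext fun w => by
    show eS (eA w) = w
    rw [heS, heA, AlgEquiv.symm_apply_apply]
  have heS' : eA.comp eS = AlgHom.id A _ := AlgHom.ext fun w => by
    show eA (eS w) = w
    rw [heS, heA, AlgEquiv.apply_symm_apply]
  obtain ⟨x', hx'def⟩ : ∃ x', x' = P.map eS c := ⟨_, rfl⟩
  have hx' : P.map eA x' = c := by rw [hx'def, ← P.map_comp, heS', P.map_id]
  -- the transport isomorphism
  obtain ⟨T, hT⟩ : ∃ T : A' ⊗[A] (A' ⊗[A] (Cs U)) →ₐ[A] A' ⊗[A] C',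
      ∀ w, T w = tmap A A' eA w := ⟨(tmap A A' eA).restrictScalars A, fun _ => rfl⟩
  obtain ⟨T', hT'⟩ : ∃ T' : A' ⊗[A] C' →ₐ[A] A' ⊗[A] (A' ⊗[A] (Cs U)),
      ∀ w, T' w = tmap A A' eS w := ⟨(tmap A A' eS).restrictScalars A, fun _ => rfl⟩
  have hT'T : T'.comp T = AlgHom.id A _ := by
    apply AlgHom.ext
    intro w
    show T' (T w) = w
    rw [hT, hT']
    induction w using TensorProduct.induction_on with
    | zero => rw [map_zero, map_zero]
    | tmul a z =>
      rw [tmap_tmul, tmap_tmul]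
      have : eS (eA z) = z := congrArg (fun f => f z) hSe
      rw [this]
    | add x y hx hy => rw [map_add, map_add, hx, hy]
  obtain ⟨inc, hinc⟩ : ∃ inc : A' ⊗[A] (Cs U) →ₐ[A] A' ⊗[A] (A' ⊗[A] (Cs U)),
      inc = Algebra.TensorProduct.includeRight := ⟨_, rfl⟩
  have hinjT : Function.Injective
      (P.map (E := A' ⊗[A] (A' ⊗[A] (Cs U))) (E' := A' ⊗[A] C') T) := fun a b h => by
    have := congrArg (P.map (E := A' ⊗[A] C') (E' := A' ⊗[A] (A' ⊗[A] (Cs U))) T') h
    rwa [← P.map_comp, ← P.map_comp, hT'T, P.map_id, P.map_id] at this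
  have k1 : T.comp inc = (Algebra.TensorProduct.includeRight : C' →ₐ[A] A' ⊗[A] C').comp eA := by
    apply AlgHom.ext
    intro w
    show T (inc w) = _
    rw [hT, hinc, Algebra.TensorProduct.includeRight_apply, tmap_tmul]
    rfl
  have k2 : T.comp (mapR A A' (Cs U)) = ((rho U).restrictScalars A).comp eA := by
    apply AlgHom.ext
    intro w
    show T (mapR A A' (Cs U) w) = rho U (eA w)
    rw [hT, heA, he]
    induction w using TensorProduct.induction_on with
    | zero => rw [map_zero, map_zero, map_zero, map_zero]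
    | tmul a z =>
      rw [mapR_tmul, tmap_tmul,
        heA, he, thetaAlg_tmul, thetaAlg_tmul, one_smul, map_smul, (mem_Cs U _).1 z.2,
        TensorProduct.smul_tmul', smul_eq_mul, mul_one]
    | add x y hx hy => rw [map_add, map_add, map_add, map_add, hx, hy]
  have hglue : P.map inc x' = P.map (mapR A A' (Cs U)) x' := by
    apply hinjT
    rw [← P.map_comp, ← P.map_comp, k1, k2, P.map_comp, P.map_comp, hx', map_rho U]
  rw [hinc] at hglue
  obtain ⟨c₀, hc₀⟩ := hsh_glue (Cs U) x' hglue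
  have hc₀' : P.map (Cs U).val c₀ = c := by
    have h1 : P.map (Cs U).val c₀ = P.map eA x' := by
      rw [← hc₀, ← P.map_comp]
      congr 1
      apply AlgHom.ext
      intro z
      show (z : C') = eA ((1 : A') ⊗ₜ[A] z)
      rw [heA, he, thetaAlg_tmul, one_smul]
    rw [h1, hx']
  refine ⟨P.map σ c₀, ?_⟩
  apply hsh_inj (A ⧸ I)
  have hcomp : ((Algebra.TensorProduct.includeRight : A ⧸ I →ₐ[A] A' ⊗[A] (A ⧸ I)).comp
      (Ideal.Quotient.mkₐ A I)).comp σ = ((eps I A' C').restrictScalars A).comp (Cs U).val := by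
    apply AlgHom.ext
    intro z
    show (1 : A') ⊗ₜ[A] (Ideal.Quotient.mk I (σ z)) = eps I A' C' (z : C')
    rw [hσ z]
    exact incl_piC U z
  rw [← P.map_comp, ← P.map_comp, hcomp, P.map_comp, hc₀']
  exact map_eq_of_kills U _ (fun z hz => eps_eq_zero z hz) _

end Main

end Groth.Agent.H1.KDescF
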