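import Mathlib
import Groth.Agent.Lib.Helper1.KDesc
import Groth.Agent.Lib.Helper7.FOSp6

/-!
# (K)-project, part II a: the functor of sections of `P → Spec A` on `A`-algebras and its fppf
sheaf property.
-/

set_option autoImplicit false
universe u

open AlgebraicGeometry CategoryTheory Limits TensorProduct

namespace Groth.Agent.H1.KGeomA

open _root_.AlgSp Groth.Agent.H1.KDesc Groth.Agent.H7.FOSp3

variable {S : Scheme.{u}} {A : Type u} [CommRing A] (str : Spec (CommRingCat.of A) ⟶ S)

/-- `Spec E` over `S`, for an `A`-algebra `E`. -/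
noncomputable abbrev ov (E : Type u) [CommRing E] [Algebra A E] : Over S :=
  Over.mk (Spec.map (CommRingCat.ofHom (algebraMap A E)) ≫ str)

/-- the structure map `Spec E → Spec A` over `S`. -/
noncomputable abbrev ovStr (E : Type u) [CommRing E] [Algebra A E] : ov str E ⟶ Over.mk str :=
  Over.homMk (Spec.map (CommRingCat.ofHom (algebraMap A E))) rfl

section
variable {E E' E'' : Type u} [CommRing E] [Algebra A E] [CommRing E'] [Algebra A E']
  [CommRing E''] [Algebra A E'']

lemma specMap_comm (φ : E →ₐ[A] E') :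
    Spec.map (CommRingCat.ofHom φ.toRingHom) ≫ Spec.map (CommRingCat.ofHom (algebraMap A E)) =
      Spec.map (CommRingCat.ofHom (algebraMap A E')) := by
  rw [← Spec.map_comp]
  congr 1
  ext a
  exact φ.commutes a

/-- `Spec` of an `A`-algebra map, over `S`. -/
noncomputable def ovMap (φ : E →ₐ[A] E') : ov str E' ⟶ ov str E :=
  Over.homMk (Spec.map (CommRingCat.ofHom φ.toRingHom)) (by
    show Spec.map (CommRingCat.ofHom φ.toRingHom) ≫
      Spec.map (CommRingCat.ofHom (algebraMap A E)) ≫ str =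
        Spec.map (CommRingCat.ofHom (algebraMap A E')) ≫ str
    rw [← Category.assoc, specMap_comm])

lemma ovMap_left (φ : E →ₐ[A] E') :
    (ovMap str φ).left = Spec.map (CommRingCat.ofHom φ.toRingHom) := rfl

lemma ovMap_ovStr (φ : E →ₐ[A] E') : ovMap str φ ≫ ovStr str E = ovStr str E' := by
  apply Over.OverMorphism.ext
  exact specMap_comm φ

variable (E) in
lemma ovMap_id : ovMap str (AlgHom.id A E) = 𝟙 _ := by
  apply Over.OverMorphism.ext
  show Spec.map (CommRingCat.ofHom (AlgHom.id A E).toRingHom) = 𝟙 _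
  rw [show CommRingCat.ofHom (AlgHom.id A E).toRingHom = 𝟙 (CommRingCat.of E) from rfl,
    Spec.map_id]

lemma ovMap_comp (g : E →ₐ[A] E') (g' : E' →ₐ[A] E'') :
    ovMap str (g'.comp g) = ovMap str g' ≫ ovMap str g := by
  apply Over.OverMorphism.ext
  show Spec.map (CommRingCat.ofHom (g'.comp g).toRingHom) =
    Spec.map (CommRingCat.ofHom g'.toRingHom) ≫ Spec.map (CommRingCat.ofHom g.toRingHom)
  rw [← Spec.map_comp]
  rfl

lemma ovMap_congr {φ ψ : E →ₐ[A] E'} (h : φ = ψ) : ovMap str φ = ovMap str ψ := by rw [h]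

end

/-- the functor of sections of `g : P ⟶ h_{Spec A}` on `A`-algebras. -/
noncomputable def pfun {P : Sp S} (g : P ⟶ (yon S).obj (Over.mk str)) : PFun A where
  Pt E _ _ := {x : (yon S).obj (ov str E) ⟶ P // x ≫ g = (yon S).map (ovStr str E)}
  map φ x := ⟨(yon S).map (ovMap str φ) ≫ x.1, by
    rw [Category.assoc, x.2, ← Functor.map_comp, ovMap_ovStr]⟩
  map_id x := Subtype.ext (by
    show (yon S).map (ovMap str (AlgHom.id A _)) ≫ x.1 = x.1
    rw [ovMap_id, CategoryTheory.Functor.map_id, Category.id_comp])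
  map_comp g₁ g₂ x := Subtype.ext (by
    show (yon S).map (ovMap str (g₂.comp g₁)) ≫ x.1 =
      (yon S).map (ovMap str g₂) ≫ (yon S).map (ovMap str g₁) ≫ x.1
    rw [ovMap_comp, Functor.map_comp, Category.assoc])

section
variable {P : Sp S} (g : P ⟶ (yon S).obj (Over.mk str))

/-- constructor for points. -/
def mkPt (E : Type u) [CommRing E] [Algebra A E] (x : (yon S).obj (ov str E) ⟶ P)
    (hx : x ≫ g = (yon S).map (ovStr str E)) : (pfun str g).Pt E := ⟨x, hx⟩

/-- the underlying map of a point. -/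
def ptVal {E : Type u} [CommRing E] [Algebra A E] (x : (pfun str g).Pt E) :
    (yon S).obj (ov str E) ⟶ P := Subtype.val x

lemma ptVal_comp {E : Type u} [CommRing E] [Algebra A E] (x : (pfun str g).Pt E) :
    ptVal str g x ≫ g = (yon S).map (ovStr str E) := Subtype.property x

lemma ptVal_mkPt (E : Type u) [CommRing E] [Algebra A E] (x : (yon S).obj (ov str E) ⟶ P)
    (hx : x ≫ g = (yon S).map (ovStr str E)) : ptVal str g (mkPt str g E x hx) = x := rfl

lemma pt_ext {E : Type u} [CommRing E] [Algebra A E] (x y : (pfun str g).Pt E)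
    (h : ptVal str g x = ptVal str g y) : x = y := Subtype.ext h

lemma ptVal_map {E E' : Type u} [CommRing E] [Algebra A E] [CommRing E'] [Algebra A E']
    (φ : E →ₐ[A] E') (x : (pfun str g).Pt E) :
    ptVal str g ((pfun str g).map φ x) = (yon S).map (ovMap str φ) ≫ ptVal str g x := rfl

end

/-! ### the covering `Spec (A' ⊗ E) → Spec E` -/

section Cover

variable (A' : Type u) [CommRing A'] [Algebra A A']

lemma isPullback_inclR (E : Type u) [CommRing E] [Algebra A E] :
    IsPullback
      (Spec.map (CommRingCat.ofHom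
        (Algebra.TensorProduct.includeLeftRingHom : A' →+* A' ⊗[A] E)))
      (Spec.map (CommRingCat.ofHom
        (Algebra.TensorProduct.includeRight : E →ₐ[A] A' ⊗[A] E).toRingHom))
      (Spec.map (CommRingCat.ofHom (algebraMap A A')))
      (Spec.map (CommRingCat.ofHom (algebraMap A E))) :=
  isPullback_SpecMap_of_isPushout _ _ _ _ (CommRingCat.isPushout_tensorProduct A A' E)

lemma inclR_prop (Q : MorphismProperty Scheme.{u}) [Q.IsStableUnderBaseChange]
    (hQ : Q (Spec.map (CommRingCat.ofHom (algebraMap A A'))))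
    (E : Type u) [CommRing E] [Algebra A E] :
    Q (ovMap str (Algebra.TensorProduct.includeRight : E →ₐ[A] A' ⊗[A] E)).left :=
  MorphismProperty.of_isPullback (P := Q) (isPullback_inclR A' E) hQ

lemma isPushout_mapR (E : Type u) [CommRing E] [Algebra A E] :
    IsPushout
      (CommRingCat.ofHom (Algebra.TensorProduct.includeRight : E →ₐ[A] A' ⊗[A] E).toRingHom)
      (CommRingCat.ofHom (Algebra.TensorProduct.includeRight : E →ₐ[A] A' ⊗[A] E).toRingHom)
      (CommRingCat.ofHom (Algebra.TensorProduct.includeRight :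
        A' ⊗[A] E →ₐ[A] A' ⊗[A] (A' ⊗[A] E)).toRingHom)
      (CommRingCat.ofHom (mapR A A' E).toRingHom) := by
  have t := (CommRingCat.isPushout_tensorProduct A A' E).flip
  have s := (CommRingCat.isPushout_tensorProduct A A' (A' ⊗[A] E)).flip
  have e1 : CommRingCat.ofHom (algebraMap A (A' ⊗[A] E)) =
      CommRingCat.ofHom (algebraMap A E) ≫
        CommRingCat.ofHom (Algebra.TensorProduct.includeRight : E →ₐ[A] A' ⊗[A] E).toRingHom := by
    ext a
    exact ((Algebra.TensorProduct.includeRight : E →ₐ[A] A' ⊗[A] E).commutes a).symm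
  have e2 : CommRingCat.ofHom
      (Algebra.TensorProduct.includeLeftRingHom : A' →+* A' ⊗[A] (A' ⊗[A] E)) =
      CommRingCat.ofHom (Algebra.TensorProduct.includeLeftRingHom : A' →+* A' ⊗[A] E) ≫
        CommRingCat.ofHom (mapR A A' E).toRingHom := by
    ext a'
    show a' ⊗ₜ[A] (1 : A' ⊗[A] E) = mapR A A' E (a' ⊗ₜ[A] (1 : E))
    rw [mapR_tmul]
    rfl
  rw [e1, e2] at s
  refine IsPushout.of_left s ?_ t
  ext e
  show (1 : A') ⊗ₜ[A] ((1 : A') ⊗ₜ[A] e) = mapR A A' E ((1 : A') ⊗ₜ[A] e)
  rw [mapR_tmul]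

lemma isPullback_mapR (E : Type u) [CommRing E] [Algebra A E] :
    IsPullback
      (ovMap str (Algebra.TensorProduct.includeRight :
        A' ⊗[A] E →ₐ[A] A' ⊗[A] (A' ⊗[A] E)))
      (ovMap str (mapR A A' E))
      (ovMap str (Algebra.TensorProduct.includeRight : E →ₐ[A] A' ⊗[A] E))
      (ovMap str (Algebra.TensorProduct.includeRight : E →ₐ[A] A' ⊗[A] E)) := by
  have hpb := isPullback_SpecMap_of_isPushout _ _ _ _ (isPushout_mapR (A := A) A' E)
  have comm : ovMap str (Algebra.TensorProduct.includeRight :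
        A' ⊗[A] E →ₐ[A] A' ⊗[A] (A' ⊗[A] E)) ≫
      ovMap str (Algebra.TensorProduct.includeRight : E →ₐ[A] A' ⊗[A] E) =
      ovMap str (mapR A A' E) ≫
        ovMap str (Algebra.TensorProduct.includeRight : E →ₐ[A] A' ⊗[A] E) := by
    apply Over.OverMorphism.ext
    exact hpb.w
  exact IsPullback.of_map (Over.forget S) comm hpb

variable {A'}
variable {P : Sp S} (g : P ⟶ (yon S).obj (Over.mk str))

include str in
theorem hsh_inj
    (hfl : Flat (Spec.map (CommRingCat.ofHom (algebraMap A A'))))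
    (hfp : LocallyOfFinitePresentation (Spec.map (CommRingCat.ofHom (algebraMap A A'))))
    (hsj : Surjective (Spec.map (CommRingCat.ofHom (algebraMap A A'))))
    (E : Type u) [CommRing E] [Algebra A E] (x y : (pfun str g).Pt E)
    (h : (pfun str g).map (Algebra.TensorProduct.includeRight : E →ₐ[A] A' ⊗[A] E) x =
      (pfun str g).map (Algebra.TensorProduct.includeRight : E →ₐ[A] A' ⊗[A] E) y) : x = y := by
  apply pt_ext
  haveI : Surjective (ovMap str (Algebra.TensorProduct.includeRight : E →ₐ[A] A' ⊗[A] E)).left :=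
    inclR_prop str A' @Surjective hsj E
  refine hom_ext_of_family (ι := PUnit.{1}) (fun _ => ov str (A' ⊗[A] E))
    (fun _ => ovMap str (Algebra.TensorProduct.includeRight : E →ₐ[A] A' ⊗[A] E))
    (fun _ => inclR_prop str A' @Flat hfl E)
    (fun _ => inclR_prop str A' @LocallyOfFinitePresentation hfp E)
    (fun t => ⟨PUnit.unit, (ovMap str (Algebra.TensorProduct.includeRight :
      E →ₐ[A] A' ⊗[A] E)).left.surjective t⟩) _ _ (fun _ => ?_)
  exact congrArg (ptVal str g) h

theorem hsh_glue
    (hfl : Flat (Spec.map (CommRingCat.ofHom (algebraMap A A'))))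
    (hfp : LocallyOfFinitePresentation (Spec.map (CommRingCat.ofHom (algebraMap A A'))))
    (hsj : Surjective (Spec.map (CommRingCat.ofHom (algebraMap A A'))))
    (E : Type u) [CommRing E] [Algebra A E] (x' : (pfun str g).Pt (A' ⊗[A] E))
    (h : (pfun str g).map (Algebra.TensorProduct.includeRight :
        A' ⊗[A] E →ₐ[A] A' ⊗[A] (A' ⊗[A] E)) x' = (pfun str g).map (mapR A A' E) x') :
    ∃ x : (pfun str g).Pt E,
      (pfun str g).map (Algebra.TensorProduct.includeRight : E →ₐ[A] A' ⊗[A] E) x = x' := by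
  haveI : Surjective (ovMap str (Algebra.TensorProduct.includeRight : E →ₐ[A] A' ⊗[A] E)).left :=
    inclR_prop str A' @Surjective hsj E
  have hfl' := inclR_prop str A' @Flat hfl E
  have hfp' := inclR_prop str A' @LocallyOfFinitePresentation hfp E
  have hsurj : ∀ t : ↥(ov str E).left, ∃ _ : PUnit.{1}, t ∈ Set.range
      (ovMap str (Algebra.TensorProduct.includeRight : E →ₐ[A] A' ⊗[A] E)).left :=
    fun t => ⟨PUnit.unit, (ovMap str (Algebra.TensorProduct.includeRight :
      E →ₐ[A] A' ⊗[A] E)).left.surjective t⟩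
  have h' : (yon S).map (ovMap str (Algebra.TensorProduct.includeRight :
        A' ⊗[A] E →ₐ[A] A' ⊗[A] (A' ⊗[A] E))) ≫ ptVal str g x' =
      (yon S).map (ovMap str (mapR A A' E)) ≫ ptVal str g x' := congrArg (ptVal str g) h
  obtain ⟨t, ht⟩ := exists_glue (ι := PUnit.{1}) (fun _ => ov str (A' ⊗[A] E))
    (fun _ => ovMap str (Algebra.TensorProduct.includeRight : E →ₐ[A] A' ⊗[A] E))
    (fun _ => hfl') (fun _ => hfp') hsurj (fun _ => ptVal str g x') (by
      intro _ _ Z gk gl hg
      have pb := isPullback_mapR str A' E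
      obtain ⟨w, e1, e2⟩ : ∃ w, w ≫ ovMap str (Algebra.TensorProduct.includeRight :
          A' ⊗[A] E →ₐ[A] A' ⊗[A] (A' ⊗[A] E)) = gk ∧ w ≫ ovMap str (mapR A A' E) = gl :=
        ⟨pb.lift gk gl hg, pb.lift_fst gk gl hg, pb.lift_snd gk gl hg⟩
      rw [← e1, ← e2, CategoryTheory.Functor.map_comp, CategoryTheory.Functor.map_comp,
        Category.assoc, Category.assoc, h'])
  have ht' := ht PUnit.unit
  refine ⟨mkPt str g E t ?_, ?_⟩
  · refine hom_ext_of_family (ι := PUnit.{1}) (fun _ => ov str (A' ⊗[A] E))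
      (fun _ => ovMap str (Algebra.TensorProduct.includeRight : E →ₐ[A] A' ⊗[A] E))
      (fun _ => hfl') (fun _ => hfp') hsurj _ _ (fun _ => ?_)
    rw [← Category.assoc, ht', ptVal_comp, ← Functor.map_comp, ovMap_ovStr]
  · apply pt_ext
    rw [ptVal_map, ptVal_mkPt]
    exact ht'

end Cover

/-! ### identifications for `E = A` -/

lemma specMap_algebraMap_self :
    Spec.map (CommRingCat.ofHom (algebraMap A A)) = 𝟙 (Spec (CommRingCat.of A)) := by
  rw [Algebra.algebraMap_self]
  exact Spec.map_id _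

/-- the identification `Spec A = ov str A`. -/
noncomputable def ovIso : Over.mk str ⟶ ov str A :=
  Over.homMk (𝟙 _) (by
    show 𝟙 _ ≫ Spec.map (CommRingCat.ofHom (algebraMap A A)) ≫ str = str
    rw [specMap_algebraMap_self, Category.id_comp, Category.id_comp])

lemma ovIso_ovStr : ovIso str ≫ ovStr str A = 𝟙 _ := by
  apply Over.OverMorphism.ext
  show 𝟙 _ ≫ Spec.map (CommRingCat.ofHom (algebraMap A A)) = 𝟙 _
  rw [specMap_algebraMap_self, Category.id_comp]

end Groth.Agent.H1.KGeomA
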