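import Mathlib
import Groth.Agent.Lib.Helper1.KGeomA
import Groth.Agent.Lib.Helper7.FOSp8

/-!
# (K)-project, part II b: an affine étale cover of `Spec A` over which a section over `Spec (A/I)`
of an algebraic space lifts to an étale atlas.
-/

set_option autoImplicit false
universe u

open AlgebraicGeometry CategoryTheory Limits TensorProduct

namespace Groth.Agent.H1.KGeomB

open _root_.AlgSp Groth.Agent.H1.KDesc Groth.Agent.H1.KGeomA Groth.Agent.H7.FOSp8
  Groth.Agent.H5.Thick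

/-- An étale surjective morphism to a quasi-compact scheme is refined by an affine scheme
(copy of helper7's `LPres.exists_affine_etale_refinement`). -/
theorem exists_affine_etale_refinement {T P : Scheme.{u}} [CompactSpace T] (π : P ⟶ T)
    [Etale π] [Surjective π] :
    ∃ (W : Scheme.{u}) (q : W ⟶ P), IsAffine W ∧ Etale (q ≫ π) ∧ Surjective (q ≫ π) := by
  classical
  let 𝒰 := P.affineCover
  have hopen : ∀ α, IsOpen (Set.range (𝒰.f α ≫ π)) := fun α =>
    (𝒰.f α ≫ π).isOpenMap.isOpen_range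
  have hcov : (Set.univ : Set T) ⊆ ⋃ α, Set.range (𝒰.f α ≫ π) := by
    intro t _
    obtain ⟨p, rfl⟩ := π.surjective t
    obtain ⟨α, y, rfl⟩ := 𝒰.exists_eq p
    exact Set.mem_iUnion.2 ⟨α, y, by rw [Scheme.Hom.comp_apply]⟩
  obtain ⟨s, hs⟩ := isCompact_univ.elim_finite_subcover _ hopen hcov
  let W : Scheme.{u} := ∐ (fun α : s => 𝒰.X α.1)
  let q : W ⟶ P := Sigma.desc (fun α : s => 𝒰.f α.1)
  haveI : Etale q := IsZariskiLocalAtSource.sigmaDesc (P := @Etale) (fun i => inferInstance)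
  refine ⟨W, q, inferInstance, inferInstance, ⟨fun t => ?_⟩⟩
  obtain ⟨α, hα, y, hy⟩ : ∃ α ∈ s, t ∈ Set.range (𝒰.f α ≫ π) := by
    simpa using hs (Set.mem_univ t)
  refine ⟨Sigma.ι (fun α : s => 𝒰.X α.1) ⟨α, hα⟩ y, ?_⟩
  rw [← Scheme.Hom.comp_apply, ← Category.assoc, Sigma.ι_desc]
  exact hy

variable {S : Scheme.{u}} {A : Type u} [CommRing A] (I : Ideal A)
  (str : Spec (CommRingCat.of A) ⟶ S)

/-- the canonical map `A/I → A'/IA'`. -/
noncomputable def phiQ (A' : Type u) [CommRing A'] [Algebra A A'] : A ⧸ I →ₐ[A] Q' I A' :=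
  Ideal.Quotient.liftₐ I (Algebra.ofId A (Q' I A')) (fun a ha => by
    show algebraMap A (Q' I A') a = 0
    rw [IsScalarTower.algebraMap_apply A A' (Q' I A')]
    exact Ideal.Quotient.eq_zero_iff_mem.2 (Ideal.mem_map_of_mem _ ha))

lemma phiQ_mk (A' : Type u) [CommRing A'] [Algebra A A'] (a : A) :
    phiQ I A' (Ideal.Quotient.mk I a) = Ideal.Quotient.mk _ (algebraMap A A' a) := rfl

variable {P : Sp S} (g : P ⟶ (yon S).obj (Over.mk str))

theorem exists_cover (hI : I ^ 2 = ⊥) (hP : IsAlgSpace P) (hg : LocP @Smooth g)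
    (s₀ : (yon S).obj (ov str (A ⧸ I)) ⟶ P) :
    ∃ (U : Over S) (u : (yon S).obj U ⟶ P) (gU : U ⟶ Over.mk str) (A' : Type u)
      (_ : CommRing A') (_ : Algebra A A') (t₀ : ov str (Q' I A') ⟶ U),
      RepWith @Etale u ∧ (yon S).map gU = u ≫ g ∧ Smooth gU.left ∧ Algebra.Etale A A' ∧
      Surjective (Spec.map (CommRingCat.ofHom (algebraMap A A'))) ∧
      (yon S).map t₀ ≫ u = (yon S).map (ovMap str (phiQ I A')) ≫ s₀ := by
  obtain ⟨U, u, hue, hus⟩ := hP.atlas
  obtain ⟨gU, hgU⟩ := (yon S).map_surjective (u ≫ g)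
  have hsm : Smooth gU.left :=
    hg u (𝟙 _) gU hue (repWith_id _ _) (by rw [hgU, Category.comp_id])
  have psq := hue.1.isPullback s₀
  obtain ⟨q₁, hq₁⟩ := (yon S).map_surjective (hue.1.fst s₀)
  obtain ⟨p₀, hp₀def⟩ : ∃ p₀ : (hue.1.pullback s₀).left ⟶ Spec (CommRingCat.of (A ⧸ I)),
      p₀ = (hue.1.snd s₀).left := ⟨_, rfl⟩
  haveI hp₀e : Etale p₀ := by rw [hp₀def]; exact hue.2 _ _ _ psq
  haveI hp₀s : Surjective p₀ := by rw [hp₀def]; exact hus.2 _ _ _ psq
  obtain ⟨W, q, hW, hqe, hqs⟩ := exists_affine_etale_refinement p₀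
  obtain ⟨φE, hφE⟩ := Spec.map_surjective (W.isoSpec.inv ≫ q ≫ p₀)
  have hre : Etale (Spec.map φE) := by rw [hφE]; infer_instance
  have hrs : Surjective (Spec.map φE) := by rw [hφE]; infer_instance
  rw [HasRingHomProperty.Spec_iff (P := @Etale)] at hre
  letI : Algebra (A ⧸ I) Γ(W, ⊤) := φE.hom.toAlgebra
  haveI : Algebra.Etale (A ⧸ I) Γ(W, ⊤) := hre
  have hN : IsNilpotent (RingHom.ker (Ideal.Quotient.mk I)) := by
    rw [Ideal.mk_ker]
    exact ⟨2, by rw [hI]; rfl⟩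
  obtain ⟨E', _, _, hE', πE, hπ, hker, hcomm⟩ := Groth.Agent.H7.EtLift.exists_etale_lift
    (Ideal.Quotient.mk I) Ideal.Quotient.mk_surjective hN Γ(W, ⊤)
  rw [Ideal.mk_ker] at hker
  obtain ⟨e, he⟩ : ∃ e : Q' I E' ≃+* Γ(W, ⊤), ∀ a' : E', e (Ideal.Quotient.mk _ a') = πE a' :=
    ⟨(Ideal.quotEquivOfEq hker.symm).trans (RingHom.quotientKerEquivOfSurjective hπ),
      fun _ => rfl⟩
  obtain ⟨w₀, hw₀def⟩ : ∃ w₀ : Spec (CommRingCat.of (Q' I E')) ⟶ (hue.1.pullback s₀).left,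
      w₀ = Spec.map (CommRingCat.ofHom e.symm.toRingHom) ≫ W.isoSpec.inv ≫ q := ⟨_, rfl⟩
  have hw₀ : w₀ ≫ p₀ = Spec.map (CommRingCat.ofHom (phiQ I E').toRingHom) := by
    rw [hw₀def, Category.assoc, Category.assoc, ← hφE, ← Spec.map_comp]
    congr 1
    apply CommRingCat.hom_ext
    apply RingHom.ext
    intro x
    obtain ⟨a, rfl⟩ := Ideal.Quotient.mk_surjective x
    show e.symm (φE.hom (Ideal.Quotient.mk I a)) = phiQ I E' (Ideal.Quotient.mk I a)
    rw [phiQ_mk, RingEquiv.symm_apply_eq, he, hcomm]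
    rfl
  obtain ⟨w, hw⟩ : ∃ w : ov str (Q' I E') ⟶ hue.1.pullback s₀, w.left = w₀ := by
    refine ⟨Over.homMk w₀ ?_, rfl⟩
    have e1 : (hue.1.pullback s₀).hom = p₀ ≫ (ov str (A ⧸ I)).hom := by
      rw [hp₀def]; exact (Over.w (hue.1.snd s₀)).symm
    rw [e1, ← Category.assoc, hw₀]
    show Spec.map (CommRingCat.ofHom (phiQ I E').toRingHom) ≫
      Spec.map (CommRingCat.ofHom (algebraMap A (A ⧸ I))) ≫ str = _
    rw [← Category.assoc, specMap_comm]
    rfl
  have hwp : w ≫ hue.1.snd s₀ = ovMap str (phiQ I E') := by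
    apply Over.OverMorphism.ext
    rw [Over.comp_left, hw, ← hp₀def, hw₀]
    rfl
  have hsurjE : Surjective (Spec.map (CommRingCat.ofHom (algebraMap A E'))) := by
    have hpo := isPushout_of_ker_eq I (algebraMap A E') πE φE.hom hπ hker hcomm
    have hpb := isPullback_SpecMap_of_isPushout _ _ _ _ hpo
    haveI : Surjective (Spec.map (CommRingCat.ofHom (Ideal.Quotient.mk I))) :=
      (isFirstOrderThickening_SpecMap_mk I hI).1.2
    refine ⟨fun t => ?_⟩
    obtain ⟨t₁, rfl⟩ := (Spec.map (CommRingCat.ofHom (Ideal.Quotient.mk I))).surjective t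
    obtain ⟨w', rfl⟩ := (Spec.map φE).surjective t₁
    refine ⟨Spec.map (CommRingCat.ofHom πE) w', ?_⟩
    have := congrArg (fun m => m w') hpb.w
    simp only [Scheme.Hom.comp_apply] at this
    exact this
  refine ⟨U, u, gU, E', inferInstance, inferInstance, w ≫ q₁, hue, hgU, hsm, hE', hsurjE, ?_⟩
  rw [Functor.map_comp, Category.assoc, hq₁, psq.w, ← Category.assoc, ← Functor.map_comp, hwp]

end Groth.Agent.H1.KGeomB
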