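import Mathlib

universe u

open TensorProduct

namespace Groth.Agent.H1.LocProj

section
variable {R : Type u} [CommRing R] {M : Type u} [AddCommGroup M] [Module R M]
  (t : Finset R) (ht : Ideal.span (t : Set R) = ⊤)
  (Rₚ : R → Type u) [∀ g, CommRing (Rₚ g)] [∀ g, Algebra R (Rₚ g)]
  [∀ g, IsLocalization.Away g (Rₚ g)]

omit [∀ g, IsLocalization.Away g (Rₚ g)] in
lemma isLocalizedModule_mk (g : R) [IsLocalization.Away g (Rₚ g)] (N : Type u) [AddCommGroup N] [Module R N] :
    IsLocalizedModule (Submonoid.powers g) (TensorProduct.mk R (Rₚ g) N 1) :=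
  (isLocalizedModule_iff_isBaseChange (Submonoid.powers g) (Rₚ g) _).mpr
    (TensorProduct.isBaseChange R N (Rₚ g))

include ht in
/-- finite presentation of modules is local on a finite cover by basic opens. -/
theorem finitePresentation_of_span
    (H : ∀ g ∈ t, Module.FinitePresentation (Rₚ g) (Rₚ g ⊗[R] M)) :
    Module.FinitePresentation R M := by
  classical
  haveI : ∀ g : t, IsLocalizedModule.Away g.val (TensorProduct.mk R (Rₚ g.1) M 1) :=
    fun g => isLocalizedModule_mk Rₚ g.1 M
  haveI : Module.Finite R M := by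
    refine Module.Finite.of_localizationSpan_finite' t ht (Rₚ := fun g : t => Rₚ g.1)
      (Mₚ := fun g : t => Rₚ g.1 ⊗[R] M) (fun g => TensorProduct.mk R (Rₚ g.1) M 1) (fun g => ?_)
    haveI := H g.1 g.2
    infer_instance
  obtain ⟨n, π, hπ⟩ := Module.Finite.exists_fin' R M
  refine Module.finitePresentation_of_surjective π hπ ?_
  haveI : ∀ g : (t : Set R), IsLocalizedModule (Submonoid.powers g.val)
      (TensorProduct.mk R (Rₚ g.1) (Fin n → R) 1) :=
    fun g => isLocalizedModule_mk Rₚ g.1 (Fin n → R)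
  refine Submodule.of_localizationSpan' (t : Set R) ht (Rₚ := fun g : (t : Set R) => Rₚ g.1)
    (Mₚ := fun g : (t : Set R) => Rₚ g.1 ⊗[R] (Fin n → R))
    (fun g => TensorProduct.mk R (Rₚ g.1) (Fin n → R) 1) (fun g => ?_)
  haveI := H g.1 g.2
  haveI := isLocalizedModule_mk Rₚ g.1 M
  haveI := isLocalizedModule_mk Rₚ g.1 (Fin n → R)
  rw [LinearMap.localized'_ker_eq_ker_localizedMap (Rₚ g.1) (Submonoid.powers g.1)
    (TensorProduct.mk R (Rₚ g.1) (Fin n → R) 1) (TensorProduct.mk R (Rₚ g.1) M 1) π]
  apply Module.FinitePresentation.fg_ker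
  exact IsLocalizedModule.map_surjective (Submonoid.powers g.1) _ _ π hπ

include ht in
/-- finite projective is local on a finite cover by basic opens. -/
theorem projective_of_span
    (H : ∀ g ∈ t, Module.Finite (Rₚ g) (Rₚ g ⊗[R] M) ∧ Module.Projective (Rₚ g) (Rₚ g ⊗[R] M)) :
    Module.Projective R M := by
  haveI : Module.FinitePresentation R M := finitePresentation_of_span t ht Rₚ (fun g hg => by
    haveI := (H g hg).1; haveI := (H g hg).2
    exact Module.finitePresentation_of_projective (Rₚ g) _)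
  haveI : Module.Flat R M := by
    haveI : ∀ g : (t : Set R), IsLocalizedModule.Away g.val (TensorProduct.mk R (Rₚ g.1) M 1) :=
      fun g => isLocalizedModule_mk Rₚ g.1 M
    refine Module.flat_of_isLocalized_span R M (t : Set R) ht (fun g : (t : Set R) => Rₚ g.1 ⊗[R] M)
      (fun g => TensorProduct.mk R (Rₚ g.1) M 1) (fun g => ?_)
    haveI := (H g.1 g.2).2
    haveI : Module.Flat R (Rₚ g.1) := IsLocalization.flat (Rₚ g.1) (Submonoid.powers g.1)
    exact Module.Flat.trans R (Rₚ g.1) _
  exact Module.Flat.projective_of_finitePresentation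

end

end Groth.Agent.H1.LocProj
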