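import Mathlib
import Groth.Prelude.Def_Omega3
import Groth.Agent.Lib.Helper5.CA.UnivThickDer2
import Groth.Agent.Lib.Helper1.LocProj
import Groth.Agent.Lib.Helper1.SqLift

universe u

open TensorProduct KaehlerDifferential

namespace Groth.Agent.H1.SqChart

variable {A C : Type u} [CommRing A] [CommRing C] [Algebra A C] (I : Ideal A)
  [Algebra C (A ⧸ I)] [IsScalarTower A C (A ⧸ I)]

/-- local chart data: a smooth `A₁`-algebra `P` such that `C₁ → Q₁` is the universal first order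
thickening of `P → Q₁`. -/
def Chart (A₁ Q₁ C₁ : Type u) [CommRing A₁] [CommRing Q₁] [CommRing C₁]
    [Algebra A A₁] [Algebra (A ⧸ I) Q₁] [Algebra C C₁] : Prop :=
  ∃ (P : Type u) (_ : CommRing P) (ψ : A₁ →+* P) (χ : P →+* C₁) (π₁ : C₁ →+* Q₁) (ρ : P →+* Q₁),
    ρ = π₁.comp χ ∧
    (∀ c, π₁ (algebraMap C C₁ c) = algebraMap (A ⧸ I) Q₁ (algebraMap C (A ⧸ I) c)) ∧
    (∀ a, χ (ψ (algebraMap A A₁ a)) = algebraMap C C₁ (algebraMap A C a)) ∧
    ψ.Smooth ∧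
    (letI := ρ.toAlgebra; letI := χ.toAlgebra;
      ∃ πₐ : C₁ →ₐ[P] Q₁, πₐ.toRingHom = π₁ ∧ OmegaSh.IsUnivThickeningRing P Q₁ C₁ πₐ)

theorem chart_projective (g : A) (A₁ Q₁ C₁ : Type u) [CommRing A₁] [CommRing Q₁] [CommRing C₁]
    [Algebra A A₁] [Algebra (A ⧸ I) Q₁] [Algebra C C₁]
    [IsLocalization.Away g A₁] [IsLocalization.Away (algebraMap A C g) C₁]
    (h : Chart (C := C) I A₁ Q₁ C₁) :
    Module.Finite Q₁ (Q₁ ⊗[A ⧸ I] ((A ⧸ I) ⊗[C] Ω[C⁄A])) ∧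
      Module.Projective Q₁ (Q₁ ⊗[A ⧸ I] ((A ⧸ I) ⊗[C] Ω[C⁄A])) := by
  obtain ⟨P, _, ψ, χ, π₁, ρ, hρ, h2, h3, hsm, hut⟩ := h
  letI : Algebra A₁ P := ψ.toAlgebra
  letI : Algebra P C₁ := χ.toAlgebra
  letI : Algebra P Q₁ := ρ.toAlgebra
  obtain ⟨πₐ, hπₐ, hU⟩ := hut
  letI : Algebra C₁ Q₁ := π₁.toAlgebra
  haveI : IsScalarTower P C₁ Q₁ := IsScalarTower.of_algebraMap_eq (fun x => by
    show ρ x = π₁ (χ x); rw [hρ]; rfl)
  letI : Algebra A₁ C₁ := (χ.comp ψ).toAlgebra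
  haveI : IsScalarTower A₁ P C₁ := IsScalarTower.of_algebraMap_eq (fun x => rfl)
  letI : Algebra A C₁ := ((algebraMap C C₁).comp (algebraMap A C)).toAlgebra
  haveI : IsScalarTower A C C₁ := IsScalarTower.of_algebraMap_eq (fun x => rfl)
  haveI : IsScalarTower A A₁ C₁ := IsScalarTower.of_algebraMap_eq (fun x => (h3 x).symm)
  letI : Algebra C Q₁ := ((algebraMap (A ⧸ I) Q₁).comp (algebraMap C (A ⧸ I))).toAlgebra
  haveI : IsScalarTower C (A ⧸ I) Q₁ := IsScalarTower.of_algebraMap_eq (fun x => rfl)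
  haveI : IsScalarTower C C₁ Q₁ := IsScalarTower.of_algebraMap_eq (fun x => (h2 x).symm)
  haveI : Algebra.Smooth A₁ P := hsm
  have hU' : OmegaSh.IsUnivThickeningRing P Q₁ C₁ (IsScalarTower.toAlgHom P C₁ Q₁) := by
    have : IsScalarTower.toAlgHom P C₁ Q₁ = πₐ := by
      ext x
      show π₁ x = πₐ x
      rw [← hπₐ]; rfl
    rw [this]; exact hU
  have hbij := Groth.Agent.H5.CA.kaehler_baseChange_bijective_of_isUnivThickeningRing A₁ hU'
  haveI : IsLocalization (Algebra.algebraMapSubmonoid C (Submonoid.powers g)) C₁ := by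
    show IsLocalization (Submonoid.map (algebraMap A C) (Submonoid.powers g)) C₁
    rw [Submonoid.map_powers]; infer_instance
  haveI : Algebra.IsPushout A C A₁ C₁ :=
    Algebra.isPushout_of_isLocalization (Submonoid.powers g) A₁ C C₁
  haveI : Algebra.IsPushout A A₁ C C₁ := Algebra.IsPushout.symm inferInstance
  let e1 := AlgebraTensorModule.cancelBaseChange C (A ⧸ I) Q₁ Q₁ Ω[C⁄A]
  let e2 := AlgebraTensorModule.cancelBaseChange C C₁ Q₁ Q₁ Ω[C⁄A]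
  let e3 := AlgebraTensorModule.congr (LinearEquiv.refl Q₁ Q₁)
    (KaehlerDifferential.tensorKaehlerEquiv A A₁ C C₁)
  let e4 := LinearEquiv.ofBijective _ hbij
  let e5 := AlgebraTensorModule.cancelBaseChange P C₁ Q₁ Q₁ Ω[P⁄A₁]
  let e : Q₁ ⊗[A ⧸ I] ((A ⧸ I) ⊗[C] Ω[C⁄A]) ≃ₗ[Q₁] Q₁ ⊗[P] Ω[P⁄A₁] :=
    e1 ≪≫ₗ e2.symm ≪≫ₗ e3 ≪≫ₗ e4.symm ≪≫ₗ e5
  exact ⟨Module.Finite.equiv e.symm, Module.Projective.of_equiv' e.symm⟩

theorem chart_injective (hI : ∀ x ∈ I, ∀ y ∈ I, x * y = 0) (g : A)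
    (A₁ Q₁ C₁ : Type u) [CommRing A₁] [CommRing Q₁] [CommRing C₁]
    [Algebra A A₁] [Algebra (A ⧸ I) Q₁] [Algebra C C₁]
    [IsLocalization.Away g A₁] [IsLocalization.Away (Ideal.Quotient.mk I g) Q₁]
    (h : Chart (C := C) I A₁ Q₁ C₁) (a : A) (ha : algebraMap A C a = 0) : algebraMap A A₁ a = 0 := by
  obtain ⟨P, _, ψ, χ, π₁, ρ, hρ, h2, h3, hsm, hut⟩ := h
  letI : Algebra A₁ P := ψ.toAlgebra
  letI : Algebra P C₁ := χ.toAlgebra
  letI : Algebra P Q₁ := ρ.toAlgebra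
  obtain ⟨πₐ, hπₐ, hU⟩ := hut
  haveI : Algebra.Smooth A₁ P := hsm
  obtain ⟨κ₁, hκdef⟩ : ∃ κ₁ : A₁ →+* Q₁, κ₁ = ρ.comp ψ := ⟨_, rfl⟩
  have hκ : ∀ a : A, κ₁ (algebraMap A A₁ a) =
      algebraMap (A ⧸ I) Q₁ (Ideal.Quotient.mk I a) := by
    intro a
    rw [hκdef, hρ]
    show π₁ (χ (ψ (algebraMap A A₁ a))) = _
    rw [h3, h2, SqLift.p_algebraMap]
  have hgu : IsUnit (algebraMap A A₁ g) := IsLocalization.Away.algebraMap_isUnit g
  have hκsurj : Function.Surjective κ₁ := by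
    intro y
    obtain ⟨n, r, hy⟩ := IsLocalization.Away.surj (Ideal.Quotient.mk I g) y
    obtain ⟨a, rfl⟩ := Ideal.Quotient.mk_surjective r
    obtain ⟨u, hu⟩ := hgu
    refine ⟨algebraMap A A₁ a * ((u⁻¹ : A₁ˣ) : A₁) ^ n, ?_⟩
    have h1 : κ₁ (u : A₁) = algebraMap (A ⧸ I) Q₁ (Ideal.Quotient.mk I g) := by rw [hu, hκ]
    have h2' : algebraMap (A ⧸ I) Q₁ (Ideal.Quotient.mk I g) * κ₁ ((u⁻¹ : A₁ˣ) : A₁) = 1 := by
      rw [← h1, ← map_mul, Units.mul_inv, map_one]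
    rw [map_mul, map_pow, hκ, ← hy, mul_assoc, ← mul_pow, h2', one_pow, mul_one]
  have hκsq : ∀ x y : A₁, κ₁ x = 0 → κ₁ y = 0 → x * y = 0 := by
    have aux : ∀ x : A₁, κ₁ x = 0 → ∃ (b : A) (m : ℕ), b ∈ I ∧
        x * (algebraMap A A₁ g) ^ m = algebraMap A A₁ b := by
      intro x hx
      obtain ⟨n, a, hxa⟩ := IsLocalization.Away.surj g x
      have h0 : algebraMap (A ⧸ I) Q₁ (Ideal.Quotient.mk I a) = 0 := by
        rw [← hκ, ← hxa, map_mul, hx, zero_mul]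
      obtain ⟨⟨_, m, rfl⟩, hm⟩ := (IsLocalization.map_eq_zero_iff
        (Submonoid.powers (Ideal.Quotient.mk I g)) Q₁ _).mp h0
      refine ⟨g ^ m * a, n + m, ?_, ?_⟩
      · rw [← Ideal.Quotient.eq_zero_iff_mem, map_mul, map_pow]; exact hm
      · rw [pow_add, ← mul_assoc, hxa, map_mul, map_pow]; ring
    intro x y hx hy
    obtain ⟨b, m, hb, hxb⟩ := aux x hx
    obtain ⟨b', m', hb', hyb⟩ := aux y hy
    have h0 : (x * y) * (algebraMap A A₁ g) ^ (m + m') = 0 := by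
      rw [pow_add]
      calc x * y * (algebraMap A A₁ g ^ m * algebraMap A A₁ g ^ m')
          = (x * algebraMap A A₁ g ^ m) * (y * algebraMap A A₁ g ^ m') := by ring
        _ = algebraMap A A₁ (b * b') := by rw [hxb, hyb, map_mul]
        _ = 0 := by rw [hI b hb b' hb', map_zero]
    exact (hgu.pow (m + m')).mul_left_eq_zero.mp h0
  letI : Algebra A₁ Q₁ := κ₁.toAlgebra
  haveI : IsScalarTower A₁ P Q₁ := IsScalarTower.of_algebraMap_eq (fun x => by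
    show κ₁ x = ρ (ψ x); rw [hκdef]; rfl)
  let f : P →ₐ[A₁] Q₁ := IsScalarTower.toAlgHom A₁ P Q₁
  let gq : A₁ →ₐ[A₁] Q₁ := Algebra.ofId A₁ Q₁
  have hgqs : Function.Surjective gq := hκsurj
  have hnil : IsNilpotent (RingHom.ker (gq : A₁ →+* Q₁)) := by
    refine ⟨2, ?_⟩
    rw [Ideal.zero_eq_bot, ← le_bot_iff, pow_two, Ideal.mul_le]
    intro x hx y hy
    rw [Ideal.mem_bot]
    exact hκsq x y hx hy
  let lam : P →ₐ[A₁] A₁ := Algebra.FormallySmooth.liftOfSurjective f gq hgqs hnil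
  have hlam : ∀ x, κ₁ (lam x) = ρ x := fun x =>
    Algebra.FormallySmooth.liftOfSurjective_apply f gq hgqs hnil x
  letI : Algebra P A₁ := lam.toRingHom.toAlgebra
  let q : A₁ →ₐ[P] Q₁ := { κ₁ with commutes' := fun x => hlam x }
  have hqs : Function.Surjective q := hκsurj
  obtain ⟨gg, hgg, -⟩ := Groth.Agent.H5.CA.existsUnique_lift_of_isUnivThickeningRing hU q hqs
    (fun x y hx hy => hκsq x y hx hy)
  have hret : ∀ y : P, gg (χ y) = lam y := fun y => gg.commutes y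
  have hlamψ : ∀ a₁ : A₁, lam (ψ a₁) = a₁ := fun a₁ => lam.commutes a₁
  have h5 : gg (χ (ψ (algebraMap A A₁ a))) = algebraMap A A₁ a := by rw [hret, hlamψ]
  rw [← h5, h3, ha, map_zero, map_zero]

theorem main (hI : ∀ x ∈ I, ∀ y ∈ I, x * y = 0)
    (hsq : ∀ x y : C, algebraMap C (A ⧸ I) x = 0 → algebraMap C (A ⧸ I) y = 0 → x * y = 0)
    (A' : A → Type u) [∀ g, CommRing (A' g)] [∀ g, Algebra A (A' g)]
    [∀ g, IsLocalization.Away g (A' g)]
    (Q : A ⧸ I → Type u) [∀ r, CommRing (Q r)] [∀ r, Algebra (A ⧸ I) (Q r)]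
    [∀ r, IsLocalization.Away r (Q r)]
    (C' : C → Type u) [∀ c, CommRing (C' c)] [∀ c, Algebra C (C' c)]
    [∀ c, IsLocalization.Away c (C' c)]
    (hloc : ∀ 𝔭 : Ideal A, 𝔭.IsPrime → ∃ g : A, g ∉ 𝔭 ∧
      Chart (C := C) I (A' g) (Q (Ideal.Quotient.mk I g)) (C' (algebraMap A C g))) :
    ∃ σ : C →ₐ[A] A, ∀ c, Ideal.Quotient.mk I (σ c) = algebraMap C (A ⧸ I) c := by
  classical
  have hinj : Function.Injective (algebraMap A C) := by
    rw [injective_iff_map_eq_zero]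
    intro a ha
    by_contra hne
    let Ann : Ideal A := LinearMap.ker (LinearMap.toSpanSingleton A A a)
    have hAnn : ∀ b, b ∈ Ann ↔ b * a = 0 := fun b => by
      rw [LinearMap.mem_ker, LinearMap.toSpanSingleton_apply, smul_eq_mul]
    have hne' : Ann ≠ ⊤ := by
      intro h
      have : (1 : A) ∈ Ann := h ▸ Submodule.mem_top
      rw [hAnn, one_mul] at this
      exact hne this
    obtain ⟨𝔪, hm, hle⟩ := Ideal.exists_le_maximal Ann hne'
    obtain ⟨g, hg, hch⟩ := hloc 𝔪 hm.isPrime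
    have h0 := chart_injective I hI g _ _ _ hch a ha
    obtain ⟨⟨_, m, rfl⟩, hm'⟩ :=
      (IsLocalization.map_eq_zero_iff (Submonoid.powers g) (A' g) a).mp h0
    have : g ^ m ∈ 𝔪 := hle ((hAnn _).mpr hm')
    exact hg (hm.isPrime.mem_of_pow_mem m this)
  haveI : Module.Projective (A ⧸ I) ((A ⧸ I) ⊗[C] Ω[C⁄A]) := by
    let s : Set (A ⧸ I) := {r | ∃ g : A, r = Ideal.Quotient.mk I g ∧
      Chart (C := C) I (A' g) (Q (Ideal.Quotient.mk I g)) (C' (algebraMap A C g))}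
    have hs : Ideal.span s = ⊤ := by
      by_contra hne
      obtain ⟨𝔪, hm, hle⟩ := Ideal.exists_le_maximal _ hne
      haveI := hm.isPrime
      obtain ⟨g, hg, hch⟩ := hloc (𝔪.comap (Ideal.Quotient.mk I)) inferInstance
      exact hg (Ideal.mem_comap.mpr (hle (Ideal.subset_span ⟨g, rfl, hch⟩)))
    obtain ⟨t, hts, ht⟩ := (Ideal.span_eq_top_iff_finite s).mp hs
    refine LocProj.projective_of_span t ht Q (fun r hr => ?_)
    obtain ⟨g, rfl, hch⟩ := hts hr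
    exact chart_projective I g _ _ _ hch
  exact SqLift.exists_retraction I hsq hinj

end Groth.Agent.H1.SqChart
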