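import Mathlib
import Groth.Prelude.Def_MoreMor
import Groth.Prelude.Def_Omega3
import Groth.Agent.Lib.Helper5.Thick.UnivThickGlue
import Groth.Agent.Lib.Helper1.ThickAff1
import Groth.Agent.Lib.Helper1.SqChart
import Groth.Agent.Lib.Helper3.OmSm1

universe u
open AlgebraicGeometry CategoryTheory Limits

namespace Groth.Agent.H1.SmLift

lemma appLE_congr' {X Y : Scheme.{u}} {f f' : X ⟶ Y} (h : f = f') (U : Y.Opens) (V : X.Opens)
    (e : V ≤ f ⁻¹ᵁ U) : f.appLE U V e = f'.appLE U V (h ▸ e) := by subst h; rfl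

lemma appLE_algebraMap {R S : CommRingCat.{u}} (θ : R ⟶ S) (U : (Spec R).Opens)
    (V : (Spec S).Opens) (e : V ≤ Spec.map θ ⁻¹ᵁ U) (r : R) :
    ((Spec.map θ).appLE U V e).hom (algebraMap R Γ(Spec R, U) r) =
      algebraMap S Γ(Spec S, V) (θ.hom r) := by
  have h : (Scheme.ΓSpecIso R).inv ≫ (Spec R).presheaf.map (homOfLE le_top).op ≫
      (Spec.map θ).appLE U V e =
      θ ≫ (Scheme.ΓSpecIso S).inv ≫ (Spec S).presheaf.map (homOfLE le_top).op := by
    rw [Scheme.Hom.map_appLE, Scheme.ΓSpecIso_inv_naturality_assoc]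
    congr 1
  rw [IsAffineOpen.algebraMap_Spec_obj, IsAffineOpen.algebraMap_Spec_obj]
  exact congrArg (fun f => f.hom r) h



/-- the structure algebra `R → Γ(Spec R, U)` (explicit form of the Mathlib instance). -/
noncomputable abbrev algOf (R : CommRingCat.{u}) (U : (Spec R).Opens) : Algebra R Γ(Spec R, U) :=
  inferInstance

lemma awayOf (R : CommRingCat.{u}) (f : R) :
    @IsLocalization.Away R _ f Γ(Spec R, PrimeSpectrum.basicOpen f) _
      (algOf R (PrimeSpectrum.basicOpen f)) :=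
  inferInstanceAs (IsLocalization.Away f Γ(Spec R, PrimeSpectrum.basicOpen f))

open Groth.Agent.H5.Thick in
/-- core: a universal first order thickening of a section over `Spec (A/I)` of a smooth
`XT → Spec A` contains a section over `Spec A`. -/
theorem exists_lift_of_isUnivThickening {XT : Scheme.{u}} {A : Type u} [CommRing A] (I : Ideal A)
    (hI : I ^ 2 = ⊥) (pr₂ : XT ⟶ Spec (CommRingCat.of A)) [Smooth pr₂]
    (s₀ : Spec (CommRingCat.of (A ⧸ I)) ⟶ XT)
    (hs₀ : s₀ ≫ pr₂ = Spec.map (CommRingCat.ofHom (Ideal.Quotient.mk I)))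
    (C : CommRingCat.{u}) (π : C ⟶ CommRingCat.of (A ⧸ I)) (h'' : Spec C ⟶ XT)
    (hu : OmegaSh.IsUnivThickening s₀ (Spec.map π) h'') :
    ∃ l : Spec (CommRingCat.of A) ⟶ XT,
      Spec.map (CommRingCat.ofHom (Ideal.Quotient.mk I)) ≫ l = s₀ ∧ l ≫ pr₂ = 𝟙 _ := by
  obtain ⟨φ, hφ⟩ := Spec.map_surjective (h'' ≫ pr₂)
  have hπh : Spec.map π ≫ h'' = s₀ := hu.2.1
  have hφπ : φ ≫ π = CommRingCat.ofHom (Ideal.Quotient.mk I) :=
    Spec.map_injective (by rw [Spec.map_comp, hφ, ← Category.assoc, hπh, hs₀])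
  letI : Algebra A C := φ.hom.toAlgebra
  letI : Algebra C (A ⧸ I) := π.hom.toAlgebra
  haveI : IsScalarTower A C (A ⧸ I) := IsScalarTower.of_algebraMap_eq (fun x => by
    show Ideal.Quotient.mk I x = π.hom (φ.hom x)
    exact (congrArg (fun f => f.hom x) hφπ).symm)
  have hSZ := sqZeroSurj_of_isFirstOrderThickening_SpecMap π hu.1
  have hI' : ∀ x ∈ I, ∀ y ∈ I, x * y = 0 := fun x hx y hy => by
    have : x * y ∈ I ^ 2 := by rw [pow_two]; exact Ideal.mul_mem_mul hx hy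
    rw [hI] at this
    exact this
  have hsurjπ : Function.Surjective (Spec.map π) := hu.1.1.2.surj
  letI iA : ∀ g : A, Algebra A Γ(Spec (CommRingCat.of A), PrimeSpectrum.basicOpen g) := fun g =>
    algOf (CommRingCat.of A) (PrimeSpectrum.basicOpen g)
  haveI iA' : ∀ g : A, IsLocalization.Away g
      Γ(Spec (CommRingCat.of A), PrimeSpectrum.basicOpen g) := fun g =>
    awayOf (CommRingCat.of A) g
  letI iQ : ∀ r : A ⧸ I, Algebra (A ⧸ I)
      Γ(Spec (CommRingCat.of (A ⧸ I)), PrimeSpectrum.basicOpen r) := fun r =>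
    algOf (CommRingCat.of (A ⧸ I)) (PrimeSpectrum.basicOpen r)
  haveI iQ' : ∀ r : A ⧸ I, IsLocalization.Away r
      Γ(Spec (CommRingCat.of (A ⧸ I)), PrimeSpectrum.basicOpen r) := fun r =>
    awayOf (CommRingCat.of (A ⧸ I)) r
  have key := SqChart.main I hI' hSZ.2
    (fun g => Γ(Spec (CommRingCat.of A), PrimeSpectrum.basicOpen g))
    (fun r => Γ(Spec (CommRingCat.of (A ⧸ I)), PrimeSpectrum.basicOpen r))
    (fun c => Γ(Spec C, PrimeSpectrum.basicOpen c))
  refine Exists.elim (key ?_) (fun σ hσ => ?_)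
  rotate_left
  · refine ⟨Spec.map (CommRingCat.ofHom σ.toRingHom) ≫ h'', ?_, ?_⟩
    · rw [← Category.assoc, ← Spec.map_comp, ← hπh]
      congr 2
      ext c
      exact hσ c
    · rw [Category.assoc, ← hφ, ← Spec.map_comp]
      have : φ ≫ CommRingCat.ofHom σ.toRingHom = 𝟙 _ := by
        ext x
        exact σ.commutes x
      rw [this, Spec.map_id]
  · intro 𝔭 h𝔭
    have hI𝔭 : I ≤ 𝔭 := fun x hx => h𝔭.mem_of_pow_mem 2 (by
      rw [pow_two, hI' x hx x hx]; exact 𝔭.zero_mem)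
    have hker : RingHom.ker (Ideal.Quotient.mk I) ≤ 𝔭 := by rw [Ideal.mk_ker]; exact hI𝔭
    have h𝔭' : (𝔭.map (Ideal.Quotient.mk I)).IsPrime :=
      Ideal.map_isPrime_of_surjective Ideal.Quotient.mk_surjective hker
    obtain ⟨t₀, ht₀⟩ : ∃ t₀ : Spec (CommRingCat.of (A ⧸ I)),
        t₀.asIdeal = 𝔭.map (Ideal.Quotient.mk I) :=
      ⟨⟨𝔭.map (Ideal.Quotient.mk I), h𝔭'⟩, rfl⟩
    obtain ⟨O, hO, hyO, -⟩ := TopologicalSpace.Opens.isBasis_iff_nbhd.mp XT.isBasis_affineOpens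
      (show s₀ t₀ ∈ (⊤ : XT.Opens) from trivial)
    obtain ⟨_, ⟨r, rfl⟩, ht₀r, hrO⟩ := TopologicalSpace.Opens.isBasis_iff_nbhd.mp
      PrimeSpectrum.isBasis_basic_opens (show t₀ ∈ s₀ ⁻¹ᵁ O from hyO)
    obtain ⟨g, rfl⟩ := Ideal.Quotient.mk_surjective r
    have hg𝔭 : g ∉ 𝔭 := by
      intro hg
      have h1 : Ideal.Quotient.mk I g ∉ t₀.asIdeal := (PrimeSpectrum.mem_basicOpen _ _).mp ht₀r
      rw [ht₀] at h1
      exact h1 (Ideal.mem_map_of_mem _ hg)
    obtain ⟨U, hUdef⟩ : ∃ U : XT.Opens, U = O ⊓ pr₂ ⁻¹ᵁ PrimeSpectrum.basicOpen g := ⟨_, rfl⟩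
    have hUa : IsAffineOpen U := by
      have h1 : U = XT.basicOpen (XT.presheaf.map (homOfLE (le_top : O ≤ ⊤)).op
          (pr₂.appTop ((Scheme.ΓSpecIso (CommRingCat.of A)).inv g))) := by
        rw [Scheme.basicOpen_res, ← Scheme.preimage_basicOpen_top, basicOpen_eq_of_affine, hUdef]
      rw [h1]
      exact IsAffineOpen.basicOpen hO _
    have hWa : IsAffineOpen (X := Spec (CommRingCat.of A)) (PrimeSpectrum.basicOpen g) :=
      IsAffineOpen.Spec_basicOpen _
    have hVa : IsAffineOpen (X := Spec (CommRingCat.of (A ⧸ I)))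
        (PrimeSpectrum.basicOpen (Ideal.Quotient.mk I g)) := IsAffineOpen.Spec_basicOpen _
    have hV'a : IsAffineOpen (X := Spec C) (PrimeSpectrum.basicOpen (φ.hom g)) :=
      IsAffineOpen.Spec_basicOpen _
    have hUW : U ≤ pr₂ ⁻¹ᵁ PrimeSpectrum.basicOpen g := hUdef ▸ inf_le_right
    have hVU : (PrimeSpectrum.basicOpen (Ideal.Quotient.mk I g) :
        (Spec (CommRingCat.of (A ⧸ I))).Opens) ≤ s₀ ⁻¹ᵁ U := by
      intro z hz
      rw [hUdef]
      refine ⟨hrO hz, ?_⟩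
      show pr₂ (s₀ z) ∈ PrimeSpectrum.basicOpen g
      have h1 : pr₂ (s₀ z) = (Spec.map (CommRingCat.ofHom (Ideal.Quotient.mk I))) z := by
        rw [← hs₀]; rfl
      rw [h1]
      exact hz
    have hV' : Spec.map π ⁻¹ᵁ (PrimeSpectrum.basicOpen (φ.hom g) : (Spec C).Opens) =
        PrimeSpectrum.basicOpen (Ideal.Quotient.mk I g) := by
      rw [SpecMap_preimage_basicOpen]
      congr 1
      exact congrArg (fun f => f.hom g) hφπ
    have hV'U : (PrimeSpectrum.basicOpen (φ.hom g) : (Spec C).Opens) ≤ h'' ⁻¹ᵁ U := by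
      intro y hy
      obtain ⟨z, rfl⟩ := hsurjπ y
      have hz : z ∈ Spec.map π ⁻¹ᵁ (PrimeSpectrum.basicOpen (φ.hom g) : (Spec C).Opens) := hy
      rw [hV'] at hz
      have h1 := hVU hz
      show h'' (Spec.map π z) ∈ U
      have h2 : h'' (Spec.map π z) = s₀ z := by rw [← hπh]; rfl
      rw [h2]
      exact h1
    have huR := isUnivThickening_resLE s₀ (Spec.map π) h'' hu _ U hVU _ hV' hV'U
    have huS := isUnivThickening_of_iso huR hVa.isoSpec.symm hV'a.isoSpec.symm hUa.isoSpec.symm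
      (h₁ := Spec.map (s₀.appLE U _ hVU)) (i₁ := Spec.map ((Spec.map π).appLE _ _ hV'.ge))
      (h'₁ := Spec.map (h''.appLE U _ hV'U))
      (SpecMap_appLE_isoSpec_inv s₀ hUa hVa hVU)
      (SpecMap_appLE_isoSpec_inv (Spec.map π) hV'a hVa hV'.ge)
      (SpecMap_appLE_isoSpec_inv h'' hUa hV'a hV'U)
    have e1 : h''.appLE U _ hV'U ≫ (Spec.map π).appLE _ _ hV'.ge = s₀.appLE U _ hVU := by
      rw [Scheme.Hom.appLE_comp_appLE]
      exact appLE_congr' hπh U _ _
    have e2 : pr₂.appLE _ U hUW ≫ h''.appLE U _ hV'U =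
        (Spec.map φ).appLE (PrimeSpectrum.basicOpen g) (PrimeSpectrum.basicOpen (φ.hom g))
          (by rw [SpecMap_preimage_basicOpen]) := by
      rw [Scheme.Hom.appLE_comp_appLE]
      exact appLE_congr' hφ.symm _ _ _
    refine ⟨g, hg𝔭, Γ(XT, U), inferInstance, (pr₂.appLE _ U hUW).hom,
      (h''.appLE U _ hV'U).hom, ((Spec.map π).appLE _ _ hV'.ge).hom, (s₀.appLE U _ hVU).hom,
      ?_, ?_, ?_, ?_, ?_⟩
    · exact (congrArg CommRingCat.Hom.hom e1).symm
    · intro c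
      exact appLE_algebraMap π _ _ hV'.ge c
    · intro a
      have h1 := appLE_algebraMap φ (PrimeSpectrum.basicOpen g)
        (PrimeSpectrum.basicOpen (φ.hom g)) (by rw [SpecMap_preimage_basicOpen]) a
      rw [← e2] at h1
      exact h1
    · exact Smooth.smooth_appLE pr₂ hWa hUa hUW
    · exact isUnivThickeningRing_of_SpecMap _ _ _ huS


open Groth.Agent.H5.Thick in
/-- **Smooth morphisms are formally smooth** (lifting against affine first order thickenings). -/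
theorem isFormallySmoothHom_of_smooth {X S : Scheme.{u}} (f : X ⟶ S) [Smooth f] :
    MoreMor.IsFormallySmoothHom f := by
  intro A _ I hI a b hcomm
  haveI : IsClosedImmersion (Spec.map (CommRingCat.ofHom (Ideal.Quotient.mk I))) :=
    IsClosedImmersion.spec_of_surjective _ Ideal.Quotient.mk_surjective
  haveI : Smooth (pullback.snd f b) := MorphismProperty.pullback_snd (P := @Smooth) f b inferInstance
  obtain ⟨s₀, hs₀def⟩ : ∃ s₀ : Spec (CommRingCat.of (A ⧸ I)) ⟶ pullback f b,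
      s₀ = pullback.lift a (Spec.map (CommRingCat.ofHom (Ideal.Quotient.mk I))) hcomm.symm :=
    ⟨_, rfl⟩
  have hs₁ : s₀ ≫ pullback.fst f b = a := by rw [hs₀def, pullback.lift_fst]
  have hs₂ : s₀ ≫ pullback.snd f b = Spec.map (CommRingCat.ofHom (Ideal.Quotient.mk I)) := by
    rw [hs₀def, pullback.lift_snd]
  haveI : FormallyUnramified (s₀ ≫ pullback.snd f b) := by rw [hs₂]; infer_instance
  haveI : FormallyUnramified s₀ := FormallyUnramified.of_comp s₀ (pullback.snd f b)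
  obtain ⟨X', i, h', hu⟩ := exists_isUnivThickening s₀
  haveI : IsClosedImmersion i := hu.1.1.1
  haveI : IsAffine X' := Groth.Agent.H1.ThickAff.isAffine_of_sqZero i hu.1.1.2.surj hu.1.2
  have hu' : OmegaSh.IsUnivThickening s₀ (i ≫ X'.isoSpec.hom) (X'.isoSpec.inv ≫ h') :=
    isUnivThickening_of_iso hu (Iso.refl _) X'.isoSpec.symm (Iso.refl _) (by simp) (by simp)
      (by simp)
  obtain ⟨π, hπ⟩ := Spec.map_surjective (i ≫ X'.isoSpec.hom)
  rw [← hπ] at hu'
  obtain ⟨l, hl1, hl2⟩ :=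
    exists_lift_of_isUnivThickening I hI (pullback.snd f b) s₀ hs₂ _ π _ hu'
  refine ⟨l ≫ pullback.fst f b, ?_, ?_⟩
  · rw [← Category.assoc, hl1, hs₁]
  · rw [Category.assoc, pullback.condition, ← Category.assoc, hl2, Category.id_comp]

/-- smooth ⟺ locally of finite presentation and formally smooth. -/
theorem smooth_iff {X S : Scheme.{u}} (f : X ⟶ S) :
    Smooth f ↔ LocallyOfFinitePresentation f ∧ MoreMor.IsFormallySmoothHom f := by
  constructor
  · intro h
    exact ⟨inferInstance, isFormallySmoothHom_of_smooth f⟩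
  · rintro ⟨h1, h2⟩
    refine ⟨fun {U} hU {V} hV e => ?_⟩
    rw [RingHom.smooth_def]
    exact ⟨Groth.Agent.H3.Om.formallySmooth_appLE h2 hV hU e,
      HasRingHomProperty.appLE @LocallyOfFinitePresentation f h1 ⟨U, hU⟩ ⟨V, hV⟩ e⟩

end Groth.Agent.H1.SmLift
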