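import Mathlib
import Groth.Agent.Lib.Helper1.SmLift

/-!
# (K)-project: injectivity and projectivity of the conormal data of a universal first order
thickening of a section of a smooth morphism (variants of `SqChart.main` /
`SmLift.exists_lift_of_isUnivThickening` keeping the intermediate facts).
-/

universe u
open AlgebraicGeometry CategoryTheory Limits TensorProduct KaehlerDifferential

namespace Groth.Agent.H1.KSq2

open Groth.Agent.H1.SqChart Groth.Agent.H1.SmLift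

section Alg

variable {A C : Type u} [CommRing A] [CommRing C] [Algebra A C] (I : Ideal A)
  [Algebra C (A ⧸ I)] [IsScalarTower A C (A ⧸ I)]

theorem main_inj (hI : ∀ x ∈ I, ∀ y ∈ I, x * y = 0)
    (A' : A → Type u) [∀ g, CommRing (A' g)] [∀ g, Algebra A (A' g)]
    [∀ g, IsLocalization.Away g (A' g)]
    (Q : A ⧸ I → Type u) [∀ r, CommRing (Q r)] [∀ r, Algebra (A ⧸ I) (Q r)]
    [∀ r, IsLocalization.Away r (Q r)]
    (C' : C → Type u) [∀ c, CommRing (C' c)] [∀ c, Algebra C (C' c)]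
    [∀ c, IsLocalization.Away c (C' c)]
    (hloc : ∀ 𝔭 : Ideal A, 𝔭.IsPrime → ∃ g : A, g ∉ 𝔭 ∧
      Chart (C := C) I (A' g) (Q (Ideal.Quotient.mk I g)) (C' (algebraMap A C g))) :
    Function.Injective (algebraMap A C) := by
  classical
  rw [injective_iff_map_eq_zero]
  intro a ha
  by_contra hne
  let Ann : Ideal A := LinearMap.ker (LinearMap.toSpanSingleton A A a)
  have hAnn : ∀ b, b ∈ Ann ↔ b * a = 0 := fun b => by
    rw [LinearMap.mem_ker, LinearMap.toSpanSingleton_apply, smul_eq_mul]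
  have hne' : Ann ≠ ⊤ := by
    intro h
    have : (1 : A) ∈ Ann := h ▸ Submodule.mem_top
    rw [hAnn, one_mul] at this
    exact hne this
  obtain ⟨𝔪, hm, hle⟩ := Ideal.exists_le_maximal Ann hne'
  obtain ⟨g, hg, hch⟩ := hloc 𝔪 hm.isPrime
  have h0 := chart_injective I hI g _ _ _ hch a ha
  obtain ⟨⟨_, m, rfl⟩, hm'⟩ :=
    (IsLocalization.map_eq_zero_iff (Submonoid.powers g) (A' g) a).mp h0
  have : g ^ m ∈ 𝔪 := hle ((hAnn _).mpr hm')
  exact hg (hm.isPrime.mem_of_pow_mem m this)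

theorem main_proj
    (A' : A → Type u) [∀ g, CommRing (A' g)] [∀ g, Algebra A (A' g)]
    [∀ g, IsLocalization.Away g (A' g)]
    (Q : A ⧸ I → Type u) [∀ r, CommRing (Q r)] [∀ r, Algebra (A ⧸ I) (Q r)]
    [∀ r, IsLocalization.Away r (Q r)]
    (C' : C → Type u) [∀ c, CommRing (C' c)] [∀ c, Algebra C (C' c)]
    [∀ c, IsLocalization.Away c (C' c)]
    (hloc : ∀ 𝔭 : Ideal A, 𝔭.IsPrime → ∃ g : A, g ∉ 𝔭 ∧
      Chart (C := C) I (A' g) (Q (Ideal.Quotient.mk I g)) (C' (algebraMap A C g))) :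
    Module.Finite (A ⧸ I) ((A ⧸ I) ⊗[C] Ω[C⁄A]) ∧
      Module.Projective (A ⧸ I) ((A ⧸ I) ⊗[C] Ω[C⁄A]) := by
  classical
  let s : Set (A ⧸ I) := {r | ∃ g : A, r = Ideal.Quotient.mk I g ∧
    Chart (C := C) I (A' g) (Q (Ideal.Quotient.mk I g)) (C' (algebraMap A C g))}
  have hs : Ideal.span s = ⊤ := by
    by_contra hne
    obtain ⟨𝔪, hm, hle⟩ := Ideal.exists_le_maximal _ hne
    haveI := hm.isPrime
    obtain ⟨g, hg, hch⟩ := hloc (𝔪.comap (Ideal.Quotient.mk I)) inferInstance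
    exact hg (Ideal.mem_comap.mpr (hle (Ideal.subset_span ⟨g, rfl, hch⟩)))
  obtain ⟨t, hts, ht⟩ := (Ideal.span_eq_top_iff_finite s).mp hs
  have H : ∀ r ∈ t, Module.Finite (Q r) (Q r ⊗[A ⧸ I] ((A ⧸ I) ⊗[C] Ω[C⁄A])) ∧
      Module.Projective (Q r) (Q r ⊗[A ⧸ I] ((A ⧸ I) ⊗[C] Ω[C⁄A])) := fun r hr => by
    obtain ⟨g, rfl, hch⟩ := hts hr
    exact chart_projective I g _ _ _ hch
  haveI : Module.FinitePresentation (A ⧸ I) ((A ⧸ I) ⊗[C] Ω[C⁄A]) :=
    LocProj.finitePresentation_of_span t ht Q (fun r hr => by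
      haveI := (H r hr).1; haveI := (H r hr).2
      exact Module.finitePresentation_of_projective (Q r) _)
  exact ⟨inferInstance, LocProj.projective_of_span t ht Q H⟩

end Alg

open Groth.Agent.H5.Thick in
/-- a universal first order thickening `Spec C` of a section over `Spec (A/I)` of a smooth
`XT → Spec A`: `A → C` is injective and `(A/I) ⊗_C Ω_{C/A}` is finite projective. -/
theorem inj_proj_of_isUnivThickening {XT : Scheme.{u}} {A : Type u} [CommRing A] (I : Ideal A)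
    (hI : I ^ 2 = ⊥) (pr₂ : XT ⟶ Spec (CommRingCat.of A)) [Smooth pr₂]
    (s₀ : Spec (CommRingCat.of (A ⧸ I)) ⟶ XT)
    (hs₀ : s₀ ≫ pr₂ = Spec.map (CommRingCat.ofHom (Ideal.Quotient.mk I)))
    (C : Type u) [CommRing C] [Algebra A C] [Algebra C (A ⧸ I)] [IsScalarTower A C (A ⧸ I)]
    (h'' : Spec (CommRingCat.of C) ⟶ XT)
    (hφ : Spec.map (CommRingCat.ofHom (algebraMap A C)) = h'' ≫ pr₂)
    (hu : OmegaSh.IsUnivThickening s₀
      (Spec.map (CommRingCat.ofHom (algebraMap C (A ⧸ I)))) h'') :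
    Function.Injective (algebraMap A C) ∧ Module.Finite (A ⧸ I) ((A ⧸ I) ⊗[C] Ω[C⁄A]) ∧
      Module.Projective (A ⧸ I) ((A ⧸ I) ⊗[C] Ω[C⁄A]) := by
  have hπh : Spec.map (CommRingCat.ofHom (algebraMap C (A ⧸ I))) ≫ h'' = s₀ := hu.2.1
  have hφπ : CommRingCat.ofHom (algebraMap A C) ≫ CommRingCat.ofHom (algebraMap C (A ⧸ I)) =
      CommRingCat.ofHom (Ideal.Quotient.mk I) :=
    Spec.map_injective (by rw [Spec.map_comp, hφ, ← Category.assoc, hπh, hs₀])
  have hSZ := sqZeroSurj_of_isFirstOrderThickening_SpecMap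
    (CommRingCat.ofHom (algebraMap C (A ⧸ I))) hu.1
  have hI' : ∀ x ∈ I, ∀ y ∈ I, x * y = 0 := fun x hx y hy => by
    have : x * y ∈ I ^ 2 := by rw [pow_two]; exact Ideal.mul_mem_mul hx hy
    rw [hI] at this
    exact this
  have hsurjπ : Function.Surjective (Spec.map (CommRingCat.ofHom (algebraMap C (A ⧸ I)))) :=
    hu.1.1.2.surj
  letI iA : ∀ g : A, Algebra A Γ(Spec (CommRingCat.of A), PrimeSpectrum.basicOpen g) := fun g =>
    algOf (CommRingCat.of A) (PrimeSpectrum.basicOpen g)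
  haveI iA' : ∀ g : A, IsLocalization.Away g
      Γ(Spec (CommRingCat.of A), PrimeSpectrum.basicOpen g) := fun g =>
    awayOf (CommRingCat.of A) g
  letI iQ : ∀ r : A ⧸ I, Algebra (A ⧸ I)
      Γ(Spec (CommRingCat.of (A ⧸ I)), PrimeSpectrum.basicOpen r) := fun r =>
    algOf (CommRingCat.of (A ⧸ I)) (PrimeSpectrum.basicOpen r)
  haveI iQ' : ∀ r : A ⧸ I, IsLocalization.Away r
      Γ(Spec (CommRingCat.of (A ⧸ I)), PrimeSpectrum.basicOpen r) := fun r =>
    awayOf (CommRingCat.of (A ⧸ I)) r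
  letI iC : ∀ c : C, Algebra C Γ(Spec (CommRingCat.of C), PrimeSpectrum.basicOpen c) := fun c =>
    algOf (CommRingCat.of C) (PrimeSpectrum.basicOpen c)
  haveI iC' : ∀ c : C, IsLocalization.Away c
      Γ(Spec (CommRingCat.of C), PrimeSpectrum.basicOpen c) := fun c =>
    awayOf (CommRingCat.of C) c
  have hloc : ∀ 𝔭 : Ideal A, 𝔭.IsPrime → ∃ g : A, g ∉ 𝔭 ∧
      Chart (C := C) I Γ(Spec (CommRingCat.of A), PrimeSpectrum.basicOpen g)
        Γ(Spec (CommRingCat.of (A ⧸ I)), PrimeSpectrum.basicOpen (Ideal.Quotient.mk I g))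
        Γ(Spec (CommRingCat.of C), PrimeSpectrum.basicOpen (algebraMap A C g)) := by
    intro 𝔭 h𝔭
    have hI𝔭 : I ≤ 𝔭 := fun x hx => h𝔭.mem_of_pow_mem 2 (by
      rw [pow_two, hI' x hx x hx]; exact 𝔭.zero_mem)
    have hker : RingHom.ker (Ideal.Quotient.mk I) ≤ 𝔭 := by rw [Ideal.mk_ker]; exact hI𝔭
    have h𝔭' : (𝔭.map (Ideal.Quotient.mk I)).IsPrime :=
      Ideal.map_isPrime_of_surjective Ideal.Quotient.mk_surjective hker
    obtain ⟨t₀, ht₀⟩ : ∃ t₀ : Spec (CommRingCat.of (A ⧸ I)),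
        t₀.asIdeal = 𝔭.map (Ideal.Quotient.mk I) :=
      ⟨⟨𝔭.map (Ideal.Quotient.mk I), h𝔭'⟩, rfl⟩
    obtain ⟨O, hO, hyO, -⟩ := TopologicalSpace.Opens.isBasis_iff_nbhd.mp XT.isBasis_affineOpens
      (show s₀ t₀ ∈ (⊤ : XT.Opens) from trivial)
    obtain ⟨_, ⟨r, rfl⟩, ht₀r, hrO⟩ := TopologicalSpace.Opens.isBasis_iff_nbhd.mp
      PrimeSpectrum.isBasis_basic_opens (show t₀ ∈ s₀ ⁻¹ᵁ O from hyO)
    obtain ⟨g, rfl⟩ := Ideal.Quotient.mk_surjective r
    have hg𝔭 : g ∉ 𝔭 := by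
      intro hg
      have h1 : Ideal.Quotient.mk I g ∉ t₀.asIdeal := (PrimeSpectrum.mem_basicOpen _ _).mp ht₀r
      rw [ht₀] at h1
      exact h1 (Ideal.mem_map_of_mem _ hg)
    obtain ⟨U, hUdef⟩ : ∃ U : XT.Opens, U = O ⊓ pr₂ ⁻¹ᵁ PrimeSpectrum.basicOpen g := ⟨_, rfl⟩
    have hUa : IsAffineOpen U := by
      have h1 : U = XT.basicOpen (XT.presheaf.map (homOfLE (le_top : O ≤ ⊤)).op
          (pr₂.appTop ((Scheme.ΓSpecIso (CommRingCat.of A)).inv g))) := by
        rw [Scheme.basicOpen_res, ← Scheme.preimage_basicOpen_top, basicOpen_eq_of_affine, hUdef]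
      rw [h1]
      exact IsAffineOpen.basicOpen hO _
    have hWa : IsAffineOpen (X := Spec (CommRingCat.of A)) (PrimeSpectrum.basicOpen g) :=
      IsAffineOpen.Spec_basicOpen _
    have hVa : IsAffineOpen (X := Spec (CommRingCat.of (A ⧸ I)))
        (PrimeSpectrum.basicOpen (Ideal.Quotient.mk I g)) := IsAffineOpen.Spec_basicOpen _
    have hV'a : IsAffineOpen (X := Spec (CommRingCat.of C))
        (PrimeSpectrum.basicOpen (algebraMap A C g)) := IsAffineOpen.Spec_basicOpen _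
    have hUW : U ≤ pr₂ ⁻¹ᵁ PrimeSpectrum.basicOpen g := hUdef ▸ inf_le_right
    have hVU : (PrimeSpectrum.basicOpen (Ideal.Quotient.mk I g) :
        (Spec (CommRingCat.of (A ⧸ I))).Opens) ≤ s₀ ⁻¹ᵁ U := by
      intro z hz
      rw [hUdef]
      refine ⟨hrO hz, ?_⟩
      show pr₂ (s₀ z) ∈ PrimeSpectrum.basicOpen g
      have h1 : pr₂ (s₀ z) = (Spec.map (CommRingCat.ofHom (Ideal.Quotient.mk I))) z := by
        rw [← hs₀]; rfl
      rw [h1]
      exact hz
    have hV' : Spec.map (CommRingCat.ofHom (algebraMap C (A ⧸ I))) ⁻¹ᵁ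
        (PrimeSpectrum.basicOpen (algebraMap A C g) : (Spec (CommRingCat.of C)).Opens) =
        PrimeSpectrum.basicOpen (Ideal.Quotient.mk I g) := by
      rw [SpecMap_preimage_basicOpen]
      congr 1
      exact congrArg (fun f => f.hom g) hφπ
    have hV'U : (PrimeSpectrum.basicOpen (algebraMap A C g) : (Spec (CommRingCat.of C)).Opens) ≤
        h'' ⁻¹ᵁ U := by
      intro y hy
      obtain ⟨z, rfl⟩ := hsurjπ y
      have hz : z ∈ Spec.map (CommRingCat.ofHom (algebraMap C (A ⧸ I))) ⁻¹ᵁ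
          (PrimeSpectrum.basicOpen (algebraMap A C g) : (Spec (CommRingCat.of C)).Opens) := hy
      rw [hV'] at hz
      have h1 := hVU hz
      show h'' (Spec.map (CommRingCat.ofHom (algebraMap C (A ⧸ I))) z) ∈ U
      have h2 : h'' (Spec.map (CommRingCat.ofHom (algebraMap C (A ⧸ I))) z) = s₀ z := by
        rw [← hπh]; rfl
      rw [h2]
      exact h1
    have huR := isUnivThickening_resLE s₀ (Spec.map (CommRingCat.ofHom (algebraMap C (A ⧸ I))))
      h'' hu _ U hVU _ hV' hV'U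
    have huS := isUnivThickening_of_iso huR hVa.isoSpec.symm hV'a.isoSpec.symm hUa.isoSpec.symm
      (h₁ := Spec.map (s₀.appLE U _ hVU))
      (i₁ := Spec.map ((Spec.map (CommRingCat.ofHom (algebraMap C (A ⧸ I)))).appLE _ _ hV'.ge))
      (h'₁ := Spec.map (h''.appLE U _ hV'U))
      (SpecMap_appLE_isoSpec_inv s₀ hUa hVa hVU)
      (SpecMap_appLE_isoSpec_inv (Spec.map (CommRingCat.ofHom (algebraMap C (A ⧸ I)))) hV'a hVa
        hV'.ge)
      (SpecMap_appLE_isoSpec_inv h'' hUa hV'a hV'U)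
    have e1 : h''.appLE U _ hV'U ≫
        (Spec.map (CommRingCat.ofHom (algebraMap C (A ⧸ I)))).appLE _ _ hV'.ge =
        s₀.appLE U _ hVU := by
      rw [Scheme.Hom.appLE_comp_appLE]
      exact appLE_congr' hπh U _ _
    have e2 : pr₂.appLE _ U hUW ≫ h''.appLE U _ hV'U =
        (Spec.map (CommRingCat.ofHom (algebraMap A C))).appLE (PrimeSpectrum.basicOpen g)
          (PrimeSpectrum.basicOpen (algebraMap A C g))
          (by rw [SpecMap_preimage_basicOpen]; rfl) := by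
      rw [Scheme.Hom.appLE_comp_appLE]
      exact appLE_congr' hφ.symm _ _ _
    refine ⟨g, hg𝔭, Γ(XT, U), inferInstance, (pr₂.appLE _ U hUW).hom,
      (h''.appLE U _ hV'U).hom,
      ((Spec.map (CommRingCat.ofHom (algebraMap C (A ⧸ I)))).appLE _ _ hV'.ge).hom,
      (s₀.appLE U _ hVU).hom, ?_, ?_, ?_, ?_, ?_⟩
    · exact (congrArg CommRingCat.Hom.hom e1).symm
    · intro c
      exact appLE_algebraMap (CommRingCat.ofHom (algebraMap C (A ⧸ I))) _ _ hV'.ge c
    · intro a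
      have h1 := appLE_algebraMap (CommRingCat.ofHom (algebraMap A C)) (PrimeSpectrum.basicOpen g)
        (PrimeSpectrum.basicOpen (algebraMap A C g))
        (by rw [SpecMap_preimage_basicOpen]; rfl) a
      rw [← e2] at h1
      exact h1
    · exact Smooth.smooth_appLE pr₂ hWa hUa hUW
    · exact isUnivThickeningRing_of_SpecMap _ _ _ huS
  refine ⟨?_, ?_⟩
  · exact main_inj I hI'
      (fun g => Γ(Spec (CommRingCat.of A), PrimeSpectrum.basicOpen g))
      (fun r => Γ(Spec (CommRingCat.of (A ⧸ I)), PrimeSpectrum.basicOpen r))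
      (fun c => Γ(Spec (CommRingCat.of C), PrimeSpectrum.basicOpen c)) hloc
  · exact main_proj I
      (fun g => Γ(Spec (CommRingCat.of A), PrimeSpectrum.basicOpen g))
      (fun r => Γ(Spec (CommRingCat.of (A ⧸ I)), PrimeSpectrum.basicOpen r))
      (fun c => Γ(Spec (CommRingCat.of C), PrimeSpectrum.basicOpen c)) hloc

end Groth.Agent.H1.KSq2
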