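import Mathlib
import Groth.Agent.Lib.Helper1.KGeomB
import Groth.Agent.Lib.Helper1.KSq2

/-!
# (K)-project, part II c: the universal first order thickening over the étale cover and its
universal property among sections of the algebraic space.
-/

set_option autoImplicit false
universe u

open AlgebraicGeometry CategoryTheory Limits TensorProduct KaehlerDifferential

namespace Groth.Agent.H1.KGeomC

open _root_.AlgSp Groth.Agent.H1.KDesc Groth.Agent.H1.KGeomA Groth.Agent.H1.KGeomB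
  Groth.Agent.H5.Thick Groth.Agent.H7.FOSp1 Groth.Agent.H7.FOSp6

/-- the universal first order thickening of a section, in ring terms. -/
theorem exists_thickening {XT : Scheme.{u}} {A' : Type u} [CommRing A'] (I' : Ideal A')
    (pr₂ : XT ⟶ Spec (CommRingCat.of A'))
    (s₀ : Spec (CommRingCat.of (A' ⧸ I')) ⟶ XT)
    (hs₀ : s₀ ≫ pr₂ = Spec.map (CommRingCat.ofHom (Ideal.Quotient.mk I'))) :
    ∃ (C : Type u) (_ : CommRing C) (_ : Algebra A' C) (_ : Algebra C (A' ⧸ I'))
      (_ : IsScalarTower A' C (A' ⧸ I')) (h'' : Spec (CommRingCat.of C) ⟶ XT),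
      Spec.map (CommRingCat.ofHom (algebraMap A' C)) = h'' ≫ pr₂ ∧
      OmegaSh.IsUnivThickening s₀
        (Spec.map (CommRingCat.ofHom (algebraMap C (A' ⧸ I')))) h'' := by
  haveI : IsClosedImmersion (Spec.map (CommRingCat.ofHom (Ideal.Quotient.mk I'))) :=
    IsClosedImmersion.spec_of_surjective _ Ideal.Quotient.mk_surjective
  haveI : FormallyUnramified (s₀ ≫ pr₂) := by rw [hs₀]; infer_instance
  haveI : FormallyUnramified s₀ := FormallyUnramified.of_comp s₀ pr₂
  obtain ⟨X', i, h', hu⟩ := exists_isUnivThickening s₀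
  haveI : IsClosedImmersion i := hu.1.1.1
  haveI : IsAffine X' := Groth.Agent.H1.ThickAff.isAffine_of_sqZero i hu.1.1.2.surj hu.1.2
  have hu' : OmegaSh.IsUnivThickening s₀ (i ≫ X'.isoSpec.hom) (X'.isoSpec.inv ≫ h') :=
    isUnivThickening_of_iso hu (Iso.refl _) X'.isoSpec.symm (Iso.refl _) (by simp) (by simp)
      (by simp)
  obtain ⟨π, hπ⟩ := Spec.map_surjective (i ≫ X'.isoSpec.hom)
  rw [← hπ] at hu'
  obtain ⟨φ, hφ⟩ := Spec.map_surjective ((X'.isoSpec.inv ≫ h') ≫ pr₂)
  have hπh : Spec.map π ≫ (X'.isoSpec.inv ≫ h') = s₀ := hu'.2.1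
  have hφπ : φ ≫ π = CommRingCat.ofHom (Ideal.Quotient.mk I') :=
    Spec.map_injective (by rw [Spec.map_comp, hφ, ← Category.assoc, hπh, hs₀])
  letI : Algebra A' Γ(X', ⊤) := φ.hom.toAlgebra
  letI : Algebra Γ(X', ⊤) (A' ⧸ I') := π.hom.toAlgebra
  refine ⟨Γ(X', ⊤), inferInstance, inferInstance, inferInstance, ?_, X'.isoSpec.inv ≫ h', ?_, ?_⟩
  · exact IsScalarTower.of_algebraMap_eq (fun x => (congrArg (fun f => f.hom x) hφπ).symm)
  · exact hφ
  · exact hu'

section UTproof

variable {S : Scheme.{u}} {A : Type u} [CommRing A] (I : Ideal A)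
  (str : Spec (CommRingCat.of A) ⟶ S)
  {P : Sp S} (g : P ⟶ (yon S).obj (Over.mk str))
  (τ : (pfun str g).Pt (A ⧸ I))
  {U : Over S} (u : (yon S).obj U ⟶ P) (gU : U ⟶ Over.mk str)
  (A' : Type u) [CommRing A'] [Algebra A A']
  (t₀ : ov str (Q' I A') ⟶ U)
  {XT : Scheme.{u}} (pr₁ : XT ⟶ U.left) (pr₂ : XT ⟶ Spec (CommRingCat.of A'))
  (t'' : Spec (CommRingCat.of (Q' I A')) ⟶ XT)
  (C' : Type u) [CommRing C'] [Algebra A C'] [Algebra A' C'] [IsScalarTower A A' C']
  [Algebra C' (Q' I A')] [IsScalarTower A' C' (Q' I A')]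
  (h'' : Spec (CommRingCat.of C') ⟶ XT)
  (cU : ov str C' ⟶ U) (c : (pfun str g).Pt C')

/-- the geometric data of the universal thickening. -/
structure Data : Prop where
  hue : RepWith @Etale u
  hgU : (yon S).map gU = u ≫ g
  ht₀ : (yon S).map t₀ ≫ u = (yon S).map (ovMap str (phiQ I A')) ≫ ptVal str g τ
  pb : IsPullback pr₁ pr₂ gU.left (Spec.map (CommRingCat.ofHom (algebraMap A A')))
  ht1 : t'' ≫ pr₁ = t₀.left
  ht2 : t'' ≫ pr₂ = Spec.map (CommRingCat.ofHom (Ideal.Quotient.mk (I.map (algebraMap A A'))))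
  hφ : Spec.map (CommRingCat.ofHom (algebraMap A' C')) = h'' ≫ pr₂
  hu : OmegaSh.IsUnivThickening t''
    (Spec.map (CommRingCat.ofHom (algebraMap C' (Q' I A')))) h''
  hcU : cU.left = h'' ≫ pr₁
  hc : ptVal str g c = (yon S).map cU ≫ u

variable {I str g τ u gU A' t₀ pr₁ pr₂ t'' C' h'' cU c}

lemma piU (D : Data I str g τ u gU A' t₀ pr₁ pr₂ t'' C' h'' cU c) :
    ovMap str ((IsScalarTower.toAlgHom A' C' (Q' I A')).restrictScalars A) ≫ cU = t₀ := by
  apply Over.OverMorphism.ext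
  rw [Over.comp_left, D.hcU, ovMap_left, ← D.ht1, ← D.hu.2.1, Category.assoc]
  rfl

theorem univ_aux (D : Data I str g τ u gU A' t₀ pr₁ pr₂ t'' C' h'' cU c)
    (E : Type u) [CommRing E] [Algebra A E] [Algebra A' E] [IsScalarTower A A' E]
    (K : Ideal E) (hK : K ^ 2 = ⊥) (φ : A ⧸ I →ₐ[A] E ⧸ K) (x : (pfun str g).Pt E)
    (hx : (pfun str g).map (Ideal.Quotient.mkₐ A K) x = (pfun str g).map φ τ) :
    ∃! gg : C' →ₐ[A'] E, (∀ z, algebraMap C' (Q' I A') z = 0 → gg z ∈ K) ∧
      (pfun str g).map (gg.restrictScalars A) c = x := by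
  have hIK : ∀ a ∈ I, algebraMap A E a ∈ K := fun a ha => by
    have h1 : φ (Ideal.Quotient.mk I a) = Ideal.Quotient.mk K (algebraMap A E a) := φ.commutes a
    rw [Ideal.Quotient.eq_zero_iff_mem.2 ha, map_zero] at h1
    exact Ideal.Quotient.eq_zero_iff_mem.1 h1.symm
  obtain ⟨ψ₀, -⟩ : ∃ ψ₀ : Q' I A' →ₐ[A'] E ⧸ K, True := by
    refine ⟨Ideal.Quotient.liftₐ (I.map (algebraMap A A')) (Algebra.ofId A' (E ⧸ K)) ?_, trivial⟩
    have hle : I.map (algebraMap A A') ≤ RingHom.ker (algebraMap A' (E ⧸ K)) := by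
      rw [Ideal.map_le_iff_le_comap]
      intro a ha
      rw [Ideal.mem_comap, RingHom.mem_ker, ← IsScalarTower.algebraMap_apply A A' (E ⧸ K),
        IsScalarTower.algebraMap_apply A E (E ⧸ K)]
      exact Ideal.Quotient.eq_zero_iff_mem.2 (hIK a ha)
    intro a' ha'
    exact hle ha'
  have hψ₀ : ∀ a' : A', ψ₀ (Ideal.Quotient.mk _ a') = Ideal.Quotient.mk K (algebraMap A' E a') :=
    fun a' => ψ₀.commutes a'
  have hfo : FOThick (ovMap str (Ideal.Quotient.mkₐ A K)).left :=
    isFirstOrderThickening_SpecMap_mk K hK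
  have hx' : (yon S).map (ovMap str (Ideal.Quotient.mkₐ A K)) ≫ ptVal str g x =
      (yon S).map (ovMap str φ) ≫ ptVal str g τ := congrArg (ptVal str g) hx
  have hcomp : (ψ₀.restrictScalars A).comp (phiQ I A') = φ := quot_algHom_ext I _ _
  have comm : (yon S).map (ovMap str (ψ₀.restrictScalars A) ≫ t₀) ≫ u =
      (yon S).map (ovMap str (Ideal.Quotient.mkₐ A K)) ≫ ptVal str g x := by
    rw [hx', ← hcomp, ovMap_comp, CategoryTheory.Functor.map_comp,
      CategoryTheory.Functor.map_comp, Category.assoc, Category.assoc, D.ht₀]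
  obtain ⟨l, hl1, hl2⟩ := rep_lift u D.hue (ovMap str (Ideal.Quotient.mkₐ A K)) hfo _ _ comm
  obtain ⟨lU, hlU⟩ := (yon S).map_surjective l
  have hlU1 : ovMap str (Ideal.Quotient.mkₐ A K) ≫ lU = ovMap str (ψ₀.restrictScalars A) ≫ t₀ :=
    (yon S).map_injective (by rw [CategoryTheory.Functor.map_comp, hlU, hl1])
  have hlUg : lU ≫ gU = ovStr str E := (yon S).map_injective (by
    rw [CategoryTheory.Functor.map_comp, hlU, D.hgU, ← Category.assoc, hl2, ptVal_comp])
  have hbcomm : lU.left ≫ gU.left = Spec.map (CommRingCat.ofHom (algebraMap A' E)) ≫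
      Spec.map (CommRingCat.ofHom (algebraMap A A')) := by
    have h1 : lU.left ≫ gU.left = Spec.map (CommRingCat.ofHom (algebraMap A E)) := by
      rw [← Over.comp_left, hlUg]
      rfl
    rw [h1, ← Spec.map_comp]
    congr 1
    ext a
    exact IsScalarTower.algebraMap_apply A A' E a
  obtain ⟨b, hb1, hb2⟩ : ∃ b : Spec (CommRingCat.of E) ⟶ XT, b ≫ pr₁ = lU.left ∧
      b ≫ pr₂ = Spec.map (CommRingCat.ofHom (algebraMap A' E)) :=
    ⟨D.pb.lift _ _ hbcomm, D.pb.lift_fst _ _ _, D.pb.lift_snd _ _ _⟩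
  have hjb : Spec.map (CommRingCat.ofHom (Ideal.Quotient.mk K)) ≫ b =
      Spec.map (CommRingCat.ofHom ψ₀.toRingHom) ≫ t'' := by
    apply D.pb.hom_ext
    · rw [Category.assoc, hb1, Category.assoc, D.ht1]
      exact congrArg (fun m => m.left) hlU1
    · rw [Category.assoc, hb2, Category.assoc, D.ht2, ← Spec.map_comp, ← Spec.map_comp]
      congr 1
      ext a'
      exact (hψ₀ a').symm
  have hfoj : MoreMor.IsFirstOrderThickening
      (Spec.map (CommRingCat.ofHom (Ideal.Quotient.mk K))) :=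
    isFirstOrderThickening_SpecMap_mk K hK
  obtain ⟨a', ⟨ha'1, ha'2⟩, ha'u⟩ := D.hu.2.2 _ _ _ b
    (Spec.map (CommRingCat.ofHom ψ₀.toRingHom)) hfoj hjb
  obtain ⟨γ, hγ⟩ := Spec.map_surjective a'
  have h1 : CommRingCat.ofHom (algebraMap A' C') ≫ γ = CommRingCat.ofHom (algebraMap A' E) :=
    Spec.map_injective (by rw [Spec.map_comp, hγ, D.hφ, ← Category.assoc, ha'2, hb2])
  have hγA : ∀ r : A', γ.hom (algebraMap A' C' r) = algebraMap A' E r :=
    fun r => congrArg (fun f => f.hom r) h1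
  obtain ⟨gg, hgg⟩ : ∃ gg : C' →ₐ[A'] E, ∀ z, gg z = γ.hom z :=
    ⟨{ γ.hom with commutes' := hγA }, fun _ => rfl⟩
  have hggS : Spec.map (CommRingCat.ofHom gg.toRingHom) = a' := by
    rw [← hγ]
    congr 1
    ext z
    exact hgg z
  have claimA : ∀ (g' : C' →ₐ[A'] E), (∀ z, algebraMap C' (Q' I A') z = 0 → g' z ∈ K) →
      ∀ z, Ideal.Quotient.mk K (g' z) = ψ₀ (algebraMap C' (Q' I A') z) := by
    intro g' hg' z
    obtain ⟨r, hr⟩ := exists_sub_mem I A' C' z
    have h3 := hg' _ hr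
    have h4 : Ideal.Quotient.mk K (g' z) = Ideal.Quotient.mk K (algebraMap A' E r) := by
      rw [map_sub, g'.commutes] at h3
      exact Ideal.Quotient.eq.2 h3
    have h5 : algebraMap C' (Q' I A') z = algebraMap C' (Q' I A') (algebraMap A' C' r) := by
      rwa [map_sub, sub_eq_zero] at hr
    rw [h4, h5, ← IsScalarTower.algebraMap_apply A' C' (Q' I A'), ← hψ₀]
    rfl
  have claimB : ∀ (g' : C' →ₐ[A'] E), (∀ z, algebraMap C' (Q' I A') z = 0 → g' z ∈ K) →
      Spec.map (CommRingCat.ofHom (Ideal.Quotient.mk K)) ≫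
        Spec.map (CommRingCat.ofHom g'.toRingHom) =
      Spec.map (CommRingCat.ofHom ψ₀.toRingHom) ≫
        Spec.map (CommRingCat.ofHom (algebraMap C' (Q' I A'))) := by
    intro g' hg'
    rw [← Spec.map_comp, ← Spec.map_comp]
    congr 1
    ext z
    exact claimA g' hg' z
  have claimL : ∀ (g' : C' →ₐ[A'] E), (∀ z, algebraMap C' (Q' I A') z = 0 → g' z ∈ K) →
      (pfun str g).map (g'.restrictScalars A) c = x →
      ovMap str (g'.restrictScalars A) ≫ cU = lU := by
    intro g' hg' hg'2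
    have e1 : (Ideal.Quotient.mkₐ A K).comp (g'.restrictScalars A) =
        (ψ₀.restrictScalars A).comp
          ((IsScalarTower.toAlgHom A' C' (Q' I A')).restrictScalars A) := by
      apply AlgHom.ext
      intro z
      exact claimA g' hg' z
    apply (yon S).map_injective
    refine rep_uniq u D.hue etale_le_formallyUnramified (ovMap str (Ideal.Quotient.mkₐ A K)) hfo
      _ _ ?_ ?_
    · rw [← CategoryTheory.Functor.map_comp, ← CategoryTheory.Functor.map_comp, hlU1,
        ← Category.assoc, ← ovMap_comp, e1, ovMap_comp, Category.assoc, piU D]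
    · rw [hlU, hl2, CategoryTheory.Functor.map_comp, Category.assoc, ← D.hc, ← ptVal_map, hg'2]
  refine ⟨gg, ⟨?_, ?_⟩, ?_⟩
  · intro z hz
    have h2 : γ ≫ CommRingCat.ofHom (Ideal.Quotient.mk K) =
        CommRingCat.ofHom (algebraMap C' (Q' I A')) ≫ CommRingCat.ofHom ψ₀.toRingHom :=
      Spec.map_injective (by rw [Spec.map_comp, Spec.map_comp, hγ]; exact ha'1)
    have h3 : Ideal.Quotient.mk K (γ.hom z) = ψ₀ (algebraMap C' (Q' I A') z) :=
      congrArg (fun f => f.hom z) h2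
    rw [hz, map_zero] at h3
    rw [hgg]
    exact Ideal.Quotient.eq_zero_iff_mem.1 h3
  · apply pt_ext
    rw [ptVal_map, D.hc, ← hl2, ← hlU, ← Category.assoc, ← CategoryTheory.Functor.map_comp]
    congr 2
    apply Over.OverMorphism.ext
    rw [Over.comp_left, D.hcU, ovMap_left]
    show Spec.map (CommRingCat.ofHom gg.toRingHom) ≫ h'' ≫ pr₁ = lU.left
    rw [hggS, ← Category.assoc, ha'2, hb1]
  · rintro g' ⟨hg'1, hg'2⟩
    have hL := claimL g' hg'1 hg'2
    have hC : Spec.map (CommRingCat.ofHom g'.toRingHom) ≫ h'' = b := by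
      apply D.pb.hom_ext
      · rw [Category.assoc, hb1, ← hL, Over.comp_left, D.hcU, ovMap_left]
        rfl
      · rw [Category.assoc, ← D.hφ, ← Spec.map_comp, hb2]
        congr 1
        ext r
        exact g'.commutes r
    have haa := ha'u _ ⟨claimB g' hg'1, hC⟩
    have h5 : CommRingCat.ofHom g'.toRingHom = γ := Spec.map_injective (haa.trans hγ.symm)
    apply AlgHom.ext
    intro z
    rw [hgg]
    exact congrArg (fun f => f.hom z) h5

theorem ut (D : Data I str g τ u gU A' t₀ pr₁ pr₂ t'' C' h'' cU c) :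
    UT I (pfun str g) τ A' C' c where
  sq := (sqZeroSurj_of_isFirstOrderThickening_SpecMap
    (CommRingCat.ofHom (algebraMap C' (Q' I A'))) D.hu.1).2
  hc := by
    refine ⟨phiQ I A', ?_⟩
    apply pt_ext
    rw [ptVal_map, ptVal_map, D.hc, ← Category.assoc, ← CategoryTheory.Functor.map_comp, piU D,
      D.ht₀]
  univ := fun E _ _ _ _ K hK φ x hx => univ_aux D E K hK φ x hx

end UTproof

section Final

variable {S : Scheme.{u}} {A : Type u} [CommRing A] (I : Ideal A)
  (str : Spec (CommRingCat.of A) ⟶ S)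
  {P : Sp S} (g : P ⟶ (yon S).obj (Over.mk str))
  (τ : (pfun str g).Pt (A ⧸ I))
  {U : Over S} (u : (yon S).obj U ⟶ P) (gU : U ⟶ Over.mk str)
  (A' : Type u) [CommRing A'] [Algebra A A']
  (t₀ : ov str (Q' I A') ⟶ U)

theorem exists_ut (hI : I ^ 2 = ⊥) (hue : RepWith @Etale u) (hgU : (yon S).map gU = u ≫ g)
    (hsm : Smooth gU.left)
    (ht₀ : (yon S).map t₀ ≫ u = (yon S).map (ovMap str (phiQ I A')) ≫ ptVal str g τ) :
    ∃ (C' : Type u) (_ : CommRing C') (_ : Algebra A C') (_ : Algebra A' C')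
      (_ : IsScalarTower A A' C') (_ : Algebra C' (Q' I A'))
      (_ : IsScalarTower A' C' (Q' I A')) (c : (pfun str g).Pt C'),
      UT I (pfun str g) τ A' C' c ∧ Function.Injective (algebraMap A' C') ∧
      Module.Finite (Q' I A') (Q' I A' ⊗[C'] Ω[C'⁄A']) ∧
      Module.Projective (Q' I A') (Q' I A' ⊗[C'] Ω[C'⁄A']) := by
  have pb := IsPullback.of_hasPullback gU.left (Spec.map (CommRingCat.ofHom (algebraMap A A')))
  haveI : Smooth (pullback.snd gU.left (Spec.map (CommRingCat.ofHom (algebraMap A A')))) :=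
    MorphismProperty.pullback_snd (P := @Smooth) _ _ hsm
  have htg : t₀ ≫ gU = ovStr str (Q' I A') := (yon S).map_injective (by
    rw [CategoryTheory.Functor.map_comp, hgU, ← Category.assoc, ht₀, Category.assoc, ptVal_comp,
      ← CategoryTheory.Functor.map_comp, ovMap_ovStr])
  have hcomm : t₀.left ≫ gU.left =
      Spec.map (CommRingCat.ofHom (Ideal.Quotient.mk (I.map (algebraMap A A')))) ≫
        Spec.map (CommRingCat.ofHom (algebraMap A A')) := by
    rw [← Over.comp_left, htg, ← Spec.map_comp]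
    rfl
  obtain ⟨t'', ht1, ht2⟩ : ∃ t'' : Spec (CommRingCat.of (Q' I A')) ⟶
      pullback gU.left (Spec.map (CommRingCat.ofHom (algebraMap A A'))),
      t'' ≫ pullback.fst _ _ = t₀.left ∧ t'' ≫ pullback.snd _ _ =
        Spec.map (CommRingCat.ofHom (Ideal.Quotient.mk (I.map (algebraMap A A')))) :=
    ⟨pb.lift _ _ hcomm, pb.lift_fst _ _ _, pb.lift_snd _ _ _⟩
  have hI' : (I.map (algebraMap A A')) ^ 2 = ⊥ := by
    rw [← Ideal.map_pow, hI, Ideal.map_bot]
  obtain ⟨C', _, _, _, _, h'', hφ, hu⟩ := exists_thickening (I.map (algebraMap A A'))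
    (pullback.snd gU.left (Spec.map (CommRingCat.ofHom (algebraMap A A')))) t'' ht2
  letI : Algebra A C' := ((algebraMap A' C').comp (algebraMap A A')).toAlgebra
  haveI : IsScalarTower A A' C' := IsScalarTower.of_algebraMap_eq (fun _ => rfl)
  obtain ⟨hinj, hfin, hproj⟩ := Groth.Agent.H1.KSq2.inj_proj_of_isUnivThickening
    (I.map (algebraMap A A')) hI'
    (pullback.snd gU.left (Spec.map (CommRingCat.ofHom (algebraMap A A')))) t'' ht2 C' h'' hφ hu
  obtain ⟨cU, hcU⟩ : ∃ cU : ov str C' ⟶ U, cU.left = h'' ≫ pullback.fst _ _ := by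
    refine ⟨Over.homMk (h'' ≫ pullback.fst _ _) ?_, rfl⟩
    show (h'' ≫ pullback.fst _ _) ≫ U.hom = Spec.map (CommRingCat.ofHom (algebraMap A C')) ≫ str
    have e1 : U.hom = gU.left ≫ str := (Over.w gU).symm
    rw [e1, Category.assoc, ← Category.assoc (pullback.fst _ _), pb.w, Category.assoc,
      ← Category.assoc h'', ← hφ, ← Category.assoc, ← Spec.map_comp]
    rfl
  have hcg : ((yon S).map cU ≫ u) ≫ g = (yon S).map (ovStr str C') := by
    rw [Category.assoc, ← hgU, ← CategoryTheory.Functor.map_comp]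
    congr 1
    apply Over.OverMorphism.ext
    rw [Over.comp_left, hcU, Category.assoc, pb.w, ← Category.assoc, ← hφ, ← Spec.map_comp]
    rfl
  have D : Data I str g τ u gU A' t₀ (pullback.fst _ _) (pullback.snd _ _) t'' C' h'' cU
      (mkPt str g C' ((yon S).map cU ≫ u) hcg) :=
    ⟨hue, hgU, ht₀, pb, ht1, ht2, hφ, hu, hcU, rfl⟩
  exact ⟨C', inferInstance, inferInstance, inferInstance, inferInstance, inferInstance,
    inferInstance, _, ut D, hinj, hfin, hproj⟩

end Final

end Groth.Agent.H1.KGeomC
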