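import Mathlib
import Groth.Agent.Lib.Helper1.KGeomC
import Groth.Agent.Lib.Helper5.AlgSp.LocPCalc
import Groth.Agent.Lib.Helper5.AlgSp.FibreProduct

/-!
# (K)-project: smooth morphisms of algebraic spaces are formally smooth
-/

set_option autoImplicit false
universe u

open AlgebraicGeometry CategoryTheory Limits TensorProduct

namespace Groth.Agent.H1.KMain

open _root_.AlgSp Groth.Agent.H1.KDesc Groth.Agent.H1.KGeomA Groth.Agent.H1.KGeomB
  Groth.Agent.H1.KGeomC Groth.Agent.H5.AlgSp

variable {S : Scheme.{u}}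

lemma etale_le_smooth' : (@Etale : MorphismProperty Scheme.{u}) ≤ @Smooth := fun _ _ f hf => by
  have : Etale f := hf
  exact (inferInstance : Smooth f)

section
variable {A : Type u} [CommRing A] (I : Ideal A) (str : Spec (CommRingCat.of A) ⟶ S)
  {P : Sp S} (g : P ⟶ (yon S).obj (Over.mk str))

/-- a section over `Spec (A/I)` of a smooth algebraic space over `Spec A` extends to `Spec A`. -/
theorem section_lift (hI : I ^ 2 = ⊥) (hP : IsAlgSpace P) (hg : LocP @Smooth g)
    (τ : (pfun str g).Pt (A ⧸ I)) :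
    ∃ x : (pfun str g).Pt A, (pfun str g).map (Ideal.Quotient.mkₐ A I) x = τ := by
  obtain ⟨U, u, gU, A', _, _, t₀, hue, hgU, hsm, hE', hsurj, ht₀⟩ :=
    exists_cover I str g hI hP hg (ptVal str g τ)
  obtain ⟨C', _, _, _, _, _, _, c, hUT, hinj, hfin, hproj⟩ :=
    exists_ut I str g τ u gU A' t₀ hI hue hgU hsm ht₀
  haveI hEt : Etale (Spec.map (CommRingCat.ofHom (algebraMap A A'))) := by
    rw [HasRingHomProperty.Spec_iff (P := @Etale)]
    exact RingHom.etale_algebraMap.2 hE'
  have hfl : Flat (Spec.map (CommRingCat.ofHom (algebraMap A A'))) := inferInstance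
  have hfp : LocallyOfFinitePresentation (Spec.map (CommRingCat.ofHom (algebraMap A A'))) :=
    inferInstance
  haveI : Module.Flat A A' := inferInstance
  haveI : Module.FaithfullyFlat A A' :=
    Module.FaithfullyFlat.of_comap_surjective (fun p => hsurj.surj p)
  exact KDesc.main hUT (hsh_inj str g hfl hfp hsurj) (hsh_glue str g hfl hfp hsurj) hinj

end

lemma ovStr_ovIso {A : Type u} [CommRing A] (I : Ideal A) (str : Spec (CommRingCat.of A) ⟶ S) :
    ovStr str (A ⧸ I) ≫ ovIso str = ovMap str (Ideal.Quotient.mkₐ A I) := by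
  apply Over.OverMorphism.ext
  show Spec.map (CommRingCat.ofHom (algebraMap A (A ⧸ I))) ≫ 𝟙 _ =
    Spec.map (CommRingCat.ofHom (Ideal.Quotient.mkₐ A I).toRingHom)
  rw [Category.comp_id]
  rfl

theorem lift_of_locP_smooth {A : Type u} [CommRing A] (I : Ideal A) (hI : I ^ 2 = ⊥)
    (str : Spec (CommRingCat.of A) ⟶ S) {X Y : Sp S} (hX : IsAlgSpace X) (hY : IsAlgSpace Y)
    (f : X ⟶ Y) (hf : LocP @Smooth f)
    (top : (yon S).obj (ov str (A ⧸ I)) ⟶ X) (bot : (yon S).obj (Over.mk str) ⟶ Y)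
    (comm : top ≫ f = (yon S).map (ovStr str (A ⧸ I)) ≫ bot) :
    ∃ l : (yon S).obj (Over.mk str) ⟶ X,
      (yon S).map (ovStr str (A ⧸ I)) ≫ l = top ∧ l ≫ f = bot := by
  have psq := IsPullback.of_hasPullback f bot
  have hP : IsAlgSpace (pullback f bot) :=
    isAlgSpace_pullback hY.diag hX (IsAlgSpace.yon_obj _) psq
  have hg : LocP @Smooth (pullback.snd f bot) :=
    locP_of_isPullback etale_le_smooth' psq hX hY (IsAlgSpace.yon_obj _) hf
  obtain ⟨s₀, hs1, hs2⟩ : ∃ s₀ : (yon S).obj (ov str (A ⧸ I)) ⟶ pullback f bot,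
      s₀ ≫ pullback.fst f bot = top ∧
        s₀ ≫ pullback.snd f bot = (yon S).map (ovStr str (A ⧸ I)) :=
    ⟨pullback.lift top _ comm, pullback.lift_fst _ _ _, pullback.lift_snd _ _ _⟩
  obtain ⟨x, hx⟩ := section_lift I str (pullback.snd f bot) hI hP hg
    (mkPt str (pullback.snd f bot) (A ⧸ I) s₀ hs2)
  have hx' : (yon S).map (ovMap str (Ideal.Quotient.mkₐ A I)) ≫
      ptVal str (pullback.snd f bot) x = s₀ := congrArg (ptVal str (pullback.snd f bot)) hx
  refine ⟨(yon S).map (ovIso str) ≫ ptVal str (pullback.snd f bot) x ≫ pullback.fst f bot, ?_, ?_⟩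
  · rw [← Category.assoc, ← CategoryTheory.Functor.map_comp, ovStr_ovIso, ← Category.assoc, hx',
      hs1]
  · rw [Category.assoc, Category.assoc, pullback.condition, ← Category.assoc
      (ptVal str (pullback.snd f bot) x), ptVal_comp, ← Category.assoc,
      ← CategoryTheory.Functor.map_comp, ovIso_ovStr, CategoryTheory.Functor.map_id,
      Category.id_comp]

/-- **Smooth morphisms of algebraic spaces are formally smooth.** -/
theorem isFormallySmoothMor_of_locP_smooth {X Y : Sp S} (hX : IsAlgSpace X) (hY : IsAlgSpace Y)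
    (f : X ⟶ Y) (hf : LocP @Smooth f) : IsFormallySmoothMor f := by
  intro sq
  exact lift_of_locP_smooth sq.I sq.sq_zero sq.str hX hY f hf sq.top sq.bot sq.comm

end Groth.Agent.H1.KMain
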