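import Mathlib
import Groth.Agent.Lib.Helper1.KMain
import Groth.Agent.Lib.Helper7.FOSp6

/-!
# smooth ⟺ locally of finite presentation + formally smooth, for algebraic spaces
-/

set_option autoImplicit false
universe u

open AlgebraicGeometry CategoryTheory Limits

namespace Groth.Agent.H1.KSmooth

open _root_.AlgSp Groth.Agent.H4.AlgSpInf Groth.Agent.H7.FOSp6

variable {S : Scheme.{u}}

/-- from the sheaf-level lifting property of `h_g` to the scheme-level one. -/
theorem isFormallySmoothHom_left_of_isFormallySmoothMor {U V : Over S} (h : U ⟶ V)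
    (H : IsFormallySmoothMor ((yon S).map h)) : MoreMor.IsFormallySmoothHom h.left := by
  intro A _ I hI a b w
  have ha : a ≫ U.hom = Spec.map (CommRingCat.ofHom (Ideal.Quotient.mk I)) ≫ b ≫ V.hom := by
    rw [← Over.w h, ← Category.assoc, ← w, Category.assoc]
  let sq : InfSq ((yon S).map h) :=
    { A := A, I := I, sq_zero := hI, str := b ≫ V.hom
      top := (yon S).map (CategoryTheory.Over.homMk a ha)
      bot := (yon S).map (CategoryTheory.Over.homMk b rfl)
      comm := by
        rw [← Functor.map_comp, ← Functor.map_comp]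
        congr 1
        apply CategoryTheory.Over.OverMorphism.ext
        exact w.symm }
  obtain ⟨l, hl1, hl2⟩ := H sq
  obtain ⟨m, rfl⟩ := (yon S).map_surjective l
  have hm1 : sq.j ≫ m = CategoryTheory.Over.homMk a ha := by
    apply (yon S).map_injective
    rw [Functor.map_comp]; exact hl1
  have hm2 : m ≫ h = CategoryTheory.Over.homMk b rfl := by
    apply (yon S).map_injective
    rw [Functor.map_comp]; exact hl2
  exact ⟨m.left, congrArg (fun k => k.left) hm1, congrArg (fun k => k.left) hm2⟩

variable {X Y : Sp S} (f : X ⟶ Y)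

theorem locP_formallySmoothHom_of_isFormallySmoothMor (hf : IsFormallySmoothMor f) :
    LocP @MoreMor.IsFormallySmoothHom f := by
  intro U V a b h ha hb w
  apply isFormallySmoothHom_left_of_isFormallySmoothMor
  apply formallySmooth_of_comp _ b
    (isFormallyUnramifiedMor_of_repWith b hb etale_le_formallyUnramified)
  rw [← w]
  exact formallySmooth_comp _ _ (isFormallySmoothMor_of_repWith_etale a ha) hf

theorem smooth_iff (hX : IsAlgSpace X) (hY : IsAlgSpace Y) :
    LocP @Smooth f ↔ LocP @LocallyOfFinitePresentation f ∧ IsFormallySmoothMor f := by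
  constructor
  · intro hf
    refine ⟨fun U V a b h ha hb w => ?_,
      Groth.Agent.H1.KMain.isFormallySmoothMor_of_locP_smooth hX hY f hf⟩
    have : Smooth h.left := hf a b h ha hb w
    infer_instance
  · rintro ⟨h1, h2⟩ U V a b h ha hb w
    exact (Groth.Agent.H1.SmLift.smooth_iff h.left).2
      ⟨h1 a b h ha hb w, locP_formallySmoothHom_of_isFormallySmoothMor f h2 a b h ha hb w⟩

end Groth.Agent.H1.KSmooth
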