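import Mathlib
import Groth.Agent.Lib.Helper1.DescProj

/-!
# Zariski descent of projectivity (no finiteness hypotheses), via Raynaud–Gruson
-/

set_option autoImplicit false
universe u
open TensorProduct

namespace Groth.Agent.H1.ZarProj

section Pi

variable {R : Type u} [CommRing R] {ι : Type u} [Fintype ι] [DecidableEq ι]
  (S : ι → Type u) [∀ i, CommRing (S i)] [∀ i, Algebra R (S i)]

/-- `(Π S_i) ⊗ X ≃ Π (S_i ⊗ X)` for a finite family. -/
noncomputable def phi (X : Type u) [AddCommGroup X] [Module R X] :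
    (Π i, S i) ⊗[R] X ≃ₗ[R] Π i, (S i ⊗[R] X) :=
  (TensorProduct.comm R (Π i, S i) X) ≪≫ₗ (TensorProduct.piRight R R X S) ≪≫ₗ
    (LinearEquiv.piCongrRight (fun i => TensorProduct.comm R X (S i)))

lemma phi_tmul (X : Type u) [AddCommGroup X] [Module R X] (s : Π i, S i) (x : X) (i : ι) :
    phi S X (s ⊗ₜ[R] x) i = s i ⊗ₜ[R] x := by
  simp [phi]

lemma phi_lTensor {X Y : Type u} [AddCommGroup X] [Module R X] [AddCommGroup Y] [Module R Y]
    (f : X →ₗ[R] Y) (w : (Π i, S i) ⊗[R] X) (i : ι) :
    phi S Y (LinearMap.lTensor (Π i, S i) f w) i = LinearMap.lTensor (S i) f (phi S X w i) := by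
  induction w using TensorProduct.induction_on with
  | zero => simp
  | tmul s x => rw [LinearMap.lTensor_tmul, phi_tmul, phi_tmul, LinearMap.lTensor_tmul]
  | add a b ha hb =>
    rw [map_add, map_add, map_add, Pi.add_apply, Pi.add_apply, map_add, ha, hb]

/-- the base change of `M` to a finite product ring is projective as soon as the base changes
to the factors are. -/
theorem projective_pi_tensor (M : Type u) [AddCommGroup M] [Module R M]
    (H : ∀ i, Module.Projective (S i) (S i ⊗[R] M)) :
    Module.Projective (Π i, S i) ((Π i, S i) ⊗[R] M) := by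
  classical
  obtain ⟨π, hπ⟩ : ∃ π : (M →₀ R) →ₗ[R] M, Function.Surjective π :=
    ⟨Finsupp.linearCombination R id, Finsupp.linearCombination_id_surjective R M⟩
  have hσ : ∀ i, ∃ σ : S i ⊗[R] M →ₗ[S i] S i ⊗[R] (M →₀ R),
      ∀ y, (π.baseChange (S i)) (σ y) = y := by
    intro i
    haveI := H i
    have hsurj : Function.Surjective (π.baseChange (S i)) := fun y => by
      obtain ⟨x, hx⟩ := LinearMap.lTensor_surjective (S i) hπ y
      exact ⟨x, hx⟩
    obtain ⟨σ, hσ⟩ := Module.projective_lifting_property (π.baseChange (S i)) LinearMap.id hsurj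
    exact ⟨σ, fun y => congrArg (fun f => f y) hσ⟩
  choose σ hσ using hσ
  obtain ⟨j, hj⟩ : ∃ j : M →ₗ[R] (Π i, S i) ⊗[R] (M →₀ R),
      ∀ m i, phi S (M →₀ R) (j m) i = σ i ((1 : S i) ⊗ₜ[R] m) := by
    refine ⟨(phi S (M →₀ R)).symm.toLinearMap.comp (LinearMap.pi (fun i =>
      ((σ i).restrictScalars R).comp (TensorProduct.mk R (S i) M 1))), fun m i => ?_⟩
    show phi S (M →₀ R) ((phi S (M →₀ R)).symm _) i = _
    rw [LinearEquiv.apply_symm_apply]
    rfl
  have key : ∀ m, (π.baseChange (Π i, S i)) (j m) = (1 : Π i, S i) ⊗ₜ[R] m := by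
    intro m
    apply (phi S M).injective
    funext i
    have h1 : (π.baseChange (Π i, S i)) (j m) = LinearMap.lTensor (Π i, S i) π (j m) := rfl
    rw [h1, phi_lTensor, hj, phi_tmul]
    exact hσ i _
  refine Module.Projective.of_split (j.liftBaseChange (Π i, S i)) (π.baseChange (Π i, S i)) ?_
  refine TensorProduct.AlgebraTensorModule.ext (fun t m => ?_)
  show (π.baseChange (Π i, S i)) ((j.liftBaseChange (Π i, S i)) (t ⊗ₜ[R] m)) = t ⊗ₜ[R] m
  rw [LinearMap.liftBaseChange_tmul, map_smul, key, TensorProduct.smul_tmul', smul_eq_mul,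
    mul_one]

end Pi

section Span

variable {R : Type u} [CommRing R] (t : Finset R) (ht : Ideal.span (t : Set R) = ⊤)
  (Rₚ : R → Type u) [∀ g, CommRing (Rₚ g)] [∀ g, Algebra R (Rₚ g)]
  [∀ g, IsLocalization.Away g (Rₚ g)]

include ht in
/-- the product of the localizations at a finite spanning set is faithfully flat. -/
theorem faithfullyFlat_pi_away : Module.FaithfullyFlat R (Π g : t, Rₚ g.1) := by
  classical
  haveI : ∀ g : t, Module.Flat R (Rₚ g.1) := fun g =>
    IsLocalization.flat (Rₚ g.1) (Submonoid.powers g.1)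
  haveI : Module.Flat R (Π g : t, Rₚ g.1) :=
    Module.Flat.of_linearEquiv
      (DFinsupp.linearEquivFunOnFintype (R := R) (M := fun g : t => Rₚ g.1)).symm
  apply Module.FaithfullyFlat.of_comap_surjective
  intro p
  obtain ⟨g, hg, hgp⟩ : ∃ g ∈ t, g ∉ p.asIdeal := by
    by_contra h
    simp only [not_exists, not_and, not_not] at h
    have h1 : Ideal.span (t : Set R) ≤ p.asIdeal := Ideal.span_le.2 (fun g hg => h g hg)
    rw [ht] at h1
    exact p.isPrime.ne_top (top_le_iff.1 h1)
  have hmem : p ∈ Set.range (PrimeSpectrum.comap (algebraMap R (Rₚ g))) := by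
    rw [PrimeSpectrum.localization_away_comap_range (Rₚ g) g]
    exact hgp
  obtain ⟨q, hq⟩ := hmem
  refine ⟨PrimeSpectrum.comap (Pi.evalRingHom (fun g : t => Rₚ g.1) ⟨g, hg⟩) q, ?_⟩
  rw [← hq]
  rfl

include ht in
/-- **Zariski descent of projectivity**: a module which is projective over the localizations
at a finite spanning set of elements is projective. -/
theorem projective_of_span {M : Type u} [AddCommGroup M] [Module R M]
    (H : ∀ g ∈ t, Module.Projective (Rₚ g) (Rₚ g ⊗[R] M)) : Module.Projective R M := by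
  classical
  haveI := faithfullyFlat_pi_away t ht Rₚ
  haveI : Module.Projective (Π g : t, Rₚ g.1) ((Π g : t, Rₚ g.1) ⊗[R] M) :=
    projective_pi_tensor (fun g : t => Rₚ g.1) M (fun g => H g.1 g.2)
  exact Groth.Agent.H1.DescProj.projective_of_baseChange (S := Π g : t, Rₚ g.1)

end Span

end Groth.Agent.H1.ZarProj
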