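import Mathlib
import Groth.Agent.Lib.Helper1.ZarProj

/-!
# Formal smoothness of ring maps is a local property (no finiteness hypotheses)

`RingHom.FormallySmooth` satisfies `RingHom.PropertyIsLocal`; the hard part
(`OfLocalizationSpanTarget`) uses Zariski descent of projectivity of `Ω` (Raynaud–Gruson) and the
localization of `H¹(L)`.  We deduce the morphism property `FS` of schemes (affine-locally formally
smooth), which is stable under base change.
-/

set_option autoImplicit false
universe u
open TensorProduct AlgebraicGeometry CategoryTheory Limits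

namespace Groth.Agent.H1.FSLocal

/-- an element killed by a power of each element of a spanning set is zero. -/
lemma eq_zero_of_span {S : Type u} [CommRing S] {N : Type u} [AddCommGroup N] [Module S N]
    (s : Set S) (hs : Ideal.span s = ⊤) (x : N) (h : ∀ r ∈ s, ∃ n : ℕ, r ^ n • x = 0) :
    x = 0 := by
  let Ann : Ideal S := LinearMap.ker (LinearMap.toSpanSingleton S N x)
  have hmem : ∀ c, c ∈ Ann ↔ c • x = 0 := fun c => by
    rw [LinearMap.mem_ker, LinearMap.toSpanSingleton_apply]
  by_contra hx
  have hne : Ann ≠ ⊤ := fun h1 => hx (by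
    have h2 : (1 : S) ∈ Ann := h1 ▸ Submodule.mem_top
    rwa [hmem, one_smul] at h2)
  obtain ⟨m, hm, hle⟩ := Ideal.exists_le_maximal Ann hne
  have h3 : s ⊆ m := fun r hr => by
    obtain ⟨n, hn⟩ := h r hr
    exact hm.isPrime.mem_of_pow_mem n (hle ((hmem _).2 hn))
  have h4 : Ideal.span s ≤ m := Ideal.span_le.2 h3
  rw [hs] at h4
  exact hm.ne_top (top_le_iff.1 h4)

/-- formal smoothness is local on the target for the Zariski topology. -/
theorem formallySmooth_of_span {R S : Type u} [CommRing R] [CommRing S] [Algebra R S]
    (s : Finset S) (hs : Ideal.span (s : Set S) = ⊤)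
    (H : ∀ r ∈ s, Algebra.FormallySmooth R (Localization.Away r)) :
    Algebra.FormallySmooth R S := by
  refine ⟨?_, ?_⟩
  · refine ZarProj.projective_of_span s hs (fun r => Localization.Away r) (fun r hr => ?_)
    haveI := H r hr
    haveI : Algebra.FormallyEtale S (Localization.Away r) :=
      Algebra.FormallyEtale.of_isLocalization (Rₘ := Localization.Away r) (Submonoid.powers r)
    exact Module.Projective.of_equiv'
      (KaehlerDifferential.tensorKaehlerEquivOfFormallyEtale R S (Localization.Away r)).symm
  · refine ⟨fun x y => ?_⟩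
    rw [← sub_eq_zero]
    refine eq_zero_of_span (s : Set S) hs (x - y) (fun r hr => ?_)
    haveI := H r hr
    have h0 : Algebra.H1Cotangent.map R R S (Localization.Away r) (x - y) = 0 :=
      Subsingleton.elim _ _
    obtain ⟨⟨_, n, rfl⟩, hc⟩ := (IsLocalizedModule.eq_zero_iff (Submonoid.powers r)
      (Algebra.H1Cotangent.map R R S (Localization.Away r))).1 h0
    exact ⟨n, hc⟩

theorem ofLocalizationSpanTarget :
    RingHom.OfLocalizationSpanTarget.{u} @RingHom.FormallySmooth := by
  rw [RingHom.ofLocalizationSpanTarget_iff_finite]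
  intro R S _ _ f s hs H
  letI := f.toAlgebra
  show Algebra.FormallySmooth R S
  refine formallySmooth_of_span s hs (fun r hr => ?_)
  have h1 : (algebraMap R (Localization.Away r)).FormallySmooth := H ⟨r, hr⟩
  exact RingHom.formallySmooth_algebraMap.1 h1

theorem propertyIsLocal : RingHom.PropertyIsLocal.{u} @RingHom.FormallySmooth where
  localizationAwayPreserves :=
    RingHom.FormallySmooth.isStableUnderBaseChange.localizationPreserves.away
  ofLocalizationSpanTarget := ofLocalizationSpanTarget
  ofLocalizationSpan := ofLocalizationSpanTarget.ofLocalizationSpan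
    (RingHom.FormallySmooth.stableUnderComposition.stableUnderCompositionWithLocalizationAway
      RingHom.FormallySmooth.holdsForLocalizationAway).left
  StableUnderCompositionWithLocalizationAwayTarget :=
    (RingHom.FormallySmooth.stableUnderComposition.stableUnderCompositionWithLocalizationAway
      RingHom.FormallySmooth.holdsForLocalizationAway).right

/-- morphisms of schemes that are affine-locally formally smooth. -/
def FS : MorphismProperty Scheme.{u} := affineLocally @RingHom.FormallySmooth

instance : HasRingHomProperty FS.{u} @RingHom.FormallySmooth := ⟨propertyIsLocal, rfl⟩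

lemma fs_iff {X Y : Scheme.{u}} (f : X ⟶ Y) :
    FS f ↔ ∀ (U : X.Opens) (V : Y.Opens) (_ : IsAffineOpen U) (_ : IsAffineOpen V)
      (e : U ≤ f ⁻¹ᵁ V), (f.appLE V U e).hom.FormallySmooth := by
  rw [HasRingHomProperty.iff_appLE (P := FS)]
  exact ⟨fun h U V hU hV e => h ⟨V, hV⟩ ⟨U, hU⟩ e, fun h V U e => h U.1 V.1 U.2 V.2 e⟩

instance : MorphismProperty.IsStableUnderBaseChange FS.{u} :=
  HasRingHomProperty.isStableUnderBaseChange (P := FS)
    RingHom.FormallySmooth.isStableUnderBaseChange

lemma fs_pullback_snd {X Y Z : Scheme.{u}} (f : X ⟶ Y) (g : Z ⟶ Y) (hf : FS f) :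
    FS (pullback.snd f g) :=
  MorphismProperty.pullback_snd (P := FS) f g hf

end Groth.Agent.H1.FSLocal
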