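import Mathlib
import Groth.Agent.Lib.Helper1.SmLift
import Groth.Agent.Lib.Helper1.SqChartF
import Groth.Agent.Lib.Helper1.KGeomC
import Groth.Agent.Lib.Helper1.FSLocal

/-!
# Formally smooth morphisms of schemes without finite presentation

* `inj_proj_of_isUnivThickeningF`: conormal data of the universal first order thickening of a
  section of a morphism which is formally smooth on affine charts;
* `exists_lift_of_charts`: such a section over `Spec (A/I)` extends to `Spec A`;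
* `isFormallySmoothHom_of_fs` / `isFormallySmoothHom_iff`: the infinitesimal lifting property is
  equivalent to formal smoothness of all the ring maps on affine charts.
-/

universe u
open AlgebraicGeometry CategoryTheory Limits TensorProduct KaehlerDifferential

namespace Groth.Agent.H1.KSq2F

open Groth.Agent.H1.SqChartF Groth.Agent.H1.SmLift Groth.Agent.H1.FSLocal

open Groth.Agent.H5.Thick in
/-- a universal first order thickening `Spec C` of a section over `Spec (A/I)` of a morphism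
`XT → Spec A` which is formally smooth on affine charts: `A → C` is injective and
`(A/I) ⊗_C Ω_{C/A}` is projective. -/
theorem inj_proj_of_isUnivThickeningF {XT : Scheme.{u}} {A : Type u} [CommRing A] (I : Ideal A)
    (hI : I ^ 2 = ⊥) (pr₂ : XT ⟶ Spec (CommRingCat.of A))
    (hch : ∀ (W : (Spec (CommRingCat.of A)).Opens) (U : XT.Opens), IsAffineOpen W →
      IsAffineOpen U → ∀ e : U ≤ pr₂ ⁻¹ᵁ W, (pr₂.appLE W U e).hom.FormallySmooth)
    (s₀ : Spec (CommRingCat.of (A ⧸ I)) ⟶ XT)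
    (hs₀ : s₀ ≫ pr₂ = Spec.map (CommRingCat.ofHom (Ideal.Quotient.mk I)))
    (C : Type u) [CommRing C] [Algebra A C] [Algebra C (A ⧸ I)] [IsScalarTower A C (A ⧸ I)]
    (h'' : Spec (CommRingCat.of C) ⟶ XT)
    (hφ : Spec.map (CommRingCat.ofHom (algebraMap A C)) = h'' ≫ pr₂)
    (hu : OmegaSh.IsUnivThickening s₀
      (Spec.map (CommRingCat.ofHom (algebraMap C (A ⧸ I)))) h'') :
    Function.Injective (algebraMap A C) ∧
      Module.Projective (A ⧸ I) ((A ⧸ I) ⊗[C] Ω[C⁄A]) := by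
  have hπh : Spec.map (CommRingCat.ofHom (algebraMap C (A ⧸ I))) ≫ h'' = s₀ := hu.2.1
  have hφπ : CommRingCat.ofHom (algebraMap A C) ≫ CommRingCat.ofHom (algebraMap C (A ⧸ I)) =
      CommRingCat.ofHom (Ideal.Quotient.mk I) :=
    Spec.map_injective (by rw [Spec.map_comp, hφ, ← Category.assoc, hπh, hs₀])
  have hSZ := sqZeroSurj_of_isFirstOrderThickening_SpecMap
    (CommRingCat.ofHom (algebraMap C (A ⧸ I))) hu.1
  have hI' : ∀ x ∈ I, ∀ y ∈ I, x * y = 0 := fun x hx y hy => by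
    have : x * y ∈ I ^ 2 := by rw [pow_two]; exact Ideal.mul_mem_mul hx hy
    rw [hI] at this
    exact this
  have hsurjπ : Function.Surjective (Spec.map (CommRingCat.ofHom (algebraMap C (A ⧸ I)))) :=
    hu.1.1.2.surj
  letI iA : ∀ g : A, Algebra A Γ(Spec (CommRingCat.of A), PrimeSpectrum.basicOpen g) := fun g =>
    algOf (CommRingCat.of A) (PrimeSpectrum.basicOpen g)
  haveI iA' : ∀ g : A, IsLocalization.Away g
      Γ(Spec (CommRingCat.of A), PrimeSpectrum.basicOpen g) := fun g =>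
    awayOf (CommRingCat.of A) g
  letI iQ : ∀ r : A ⧸ I, Algebra (A ⧸ I)
      Γ(Spec (CommRingCat.of (A ⧸ I)), PrimeSpectrum.basicOpen r) := fun r =>
    algOf (CommRingCat.of (A ⧸ I)) (PrimeSpectrum.basicOpen r)
  haveI iQ' : ∀ r : A ⧸ I, IsLocalization.Away r
      Γ(Spec (CommRingCat.of (A ⧸ I)), PrimeSpectrum.basicOpen r) := fun r =>
    awayOf (CommRingCat.of (A ⧸ I)) r
  letI iC : ∀ c : C, Algebra C Γ(Spec (CommRingCat.of C), PrimeSpectrum.basicOpen c) := fun c =>
    algOf (CommRingCat.of C) (PrimeSpectrum.basicOpen c)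
  haveI iC' : ∀ c : C, IsLocalization.Away c
      Γ(Spec (CommRingCat.of C), PrimeSpectrum.basicOpen c) := fun c =>
    awayOf (CommRingCat.of C) c
  have hloc : ∀ 𝔭 : Ideal A, 𝔭.IsPrime → ∃ g : A, g ∉ 𝔭 ∧
      Chart (C := C) I Γ(Spec (CommRingCat.of A), PrimeSpectrum.basicOpen g)
        Γ(Spec (CommRingCat.of (A ⧸ I)), PrimeSpectrum.basicOpen (Ideal.Quotient.mk I g))
        Γ(Spec (CommRingCat.of C), PrimeSpectrum.basicOpen (algebraMap A C g)) := by
    intro 𝔭 h𝔭
    have hI𝔭 : I ≤ 𝔭 := fun x hx => h𝔭.mem_of_pow_mem 2 (by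
      rw [pow_two, hI' x hx x hx]; exact 𝔭.zero_mem)
    have hker : RingHom.ker (Ideal.Quotient.mk I) ≤ 𝔭 := by rw [Ideal.mk_ker]; exact hI𝔭
    have h𝔭' : (𝔭.map (Ideal.Quotient.mk I)).IsPrime :=
      Ideal.map_isPrime_of_surjective Ideal.Quotient.mk_surjective hker
    obtain ⟨t₀, ht₀⟩ : ∃ t₀ : Spec (CommRingCat.of (A ⧸ I)),
        t₀.asIdeal = 𝔭.map (Ideal.Quotient.mk I) :=
      ⟨⟨𝔭.map (Ideal.Quotient.mk I), h𝔭'⟩, rfl⟩
    obtain ⟨O, hO, hyO, -⟩ := TopologicalSpace.Opens.isBasis_iff_nbhd.mp XT.isBasis_affineOpens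
      (show s₀ t₀ ∈ (⊤ : XT.Opens) from trivial)
    obtain ⟨_, ⟨r, rfl⟩, ht₀r, hrO⟩ := TopologicalSpace.Opens.isBasis_iff_nbhd.mp
      PrimeSpectrum.isBasis_basic_opens (show t₀ ∈ s₀ ⁻¹ᵁ O from hyO)
    obtain ⟨g, rfl⟩ := Ideal.Quotient.mk_surjective r
    have hg𝔭 : g ∉ 𝔭 := by
      intro hg
      have h1 : Ideal.Quotient.mk I g ∉ t₀.asIdeal := (PrimeSpectrum.mem_basicOpen _ _).mp ht₀r
      rw [ht₀] at h1
      exact h1 (Ideal.mem_map_of_mem _ hg)
    obtain ⟨U, hUdef⟩ : ∃ U : XT.Opens, U = O ⊓ pr₂ ⁻¹ᵁ PrimeSpectrum.basicOpen g := ⟨_, rfl⟩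
    have hUa : IsAffineOpen U := by
      have h1 : U = XT.basicOpen (XT.presheaf.map (homOfLE (le_top : O ≤ ⊤)).op
          (pr₂.appTop ((Scheme.ΓSpecIso (CommRingCat.of A)).inv g))) := by
        rw [Scheme.basicOpen_res, ← Scheme.preimage_basicOpen_top, basicOpen_eq_of_affine, hUdef]
      rw [h1]
      exact IsAffineOpen.basicOpen hO _
    have hWa : IsAffineOpen (X := Spec (CommRingCat.of A)) (PrimeSpectrum.basicOpen g) :=
      IsAffineOpen.Spec_basicOpen _
    have hVa : IsAffineOpen (X := Spec (CommRingCat.of (A ⧸ I)))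
        (PrimeSpectrum.basicOpen (Ideal.Quotient.mk I g)) := IsAffineOpen.Spec_basicOpen _
    have hV'a : IsAffineOpen (X := Spec (CommRingCat.of C))
        (PrimeSpectrum.basicOpen (algebraMap A C g)) := IsAffineOpen.Spec_basicOpen _
    have hUW : U ≤ pr₂ ⁻¹ᵁ PrimeSpectrum.basicOpen g := hUdef ▸ inf_le_right
    have hVU : (PrimeSpectrum.basicOpen (Ideal.Quotient.mk I g) :
        (Spec (CommRingCat.of (A ⧸ I))).Opens) ≤ s₀ ⁻¹ᵁ U := by
      intro z hz
      rw [hUdef]
      refine ⟨hrO hz, ?_⟩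
      show pr₂ (s₀ z) ∈ PrimeSpectrum.basicOpen g
      have h1 : pr₂ (s₀ z) = (Spec.map (CommRingCat.ofHom (Ideal.Quotient.mk I))) z := by
        rw [← hs₀]; rfl
      rw [h1]
      exact hz
    have hV' : Spec.map (CommRingCat.ofHom (algebraMap C (A ⧸ I))) ⁻¹ᵁ
        (PrimeSpectrum.basicOpen (algebraMap A C g) : (Spec (CommRingCat.of C)).Opens) =
        PrimeSpectrum.basicOpen (Ideal.Quotient.mk I g) := by
      rw [SpecMap_preimage_basicOpen]
      congr 1
      exact congrArg (fun f => f.hom g) hφπ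
    have hV'U : (PrimeSpectrum.basicOpen (algebraMap A C g) : (Spec (CommRingCat.of C)).Opens) ≤
        h'' ⁻¹ᵁ U := by
      intro y hy
      obtain ⟨z, rfl⟩ := hsurjπ y
      have hz : z ∈ Spec.map (CommRingCat.ofHom (algebraMap C (A ⧸ I))) ⁻¹ᵁ
          (PrimeSpectrum.basicOpen (algebraMap A C g) : (Spec (CommRingCat.of C)).Opens) := hy
      rw [hV'] at hz
      have h1 := hVU hz
      show h'' (Spec.map (CommRingCat.ofHom (algebraMap C (A ⧸ I))) z) ∈ U
      have h2 : h'' (Spec.map (CommRingCat.ofHom (algebraMap C (A ⧸ I))) z) = s₀ z := by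
        rw [← hπh]; rfl
      rw [h2]
      exact h1
    have huR := isUnivThickening_resLE s₀ (Spec.map (CommRingCat.ofHom (algebraMap C (A ⧸ I))))
      h'' hu _ U hVU _ hV' hV'U
    have huS := isUnivThickening_of_iso huR hVa.isoSpec.symm hV'a.isoSpec.symm hUa.isoSpec.symm
      (h₁ := Spec.map (s₀.appLE U _ hVU))
      (i₁ := Spec.map ((Spec.map (CommRingCat.ofHom (algebraMap C (A ⧸ I)))).appLE _ _ hV'.ge))
      (h'₁ := Spec.map (h''.appLE U _ hV'U))
      (SpecMap_appLE_isoSpec_inv s₀ hUa hVa hVU)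
      (SpecMap_appLE_isoSpec_inv (Spec.map (CommRingCat.ofHom (algebraMap C (A ⧸ I)))) hV'a hVa
        hV'.ge)
      (SpecMap_appLE_isoSpec_inv h'' hUa hV'a hV'U)
    have e1 : h''.appLE U _ hV'U ≫
        (Spec.map (CommRingCat.ofHom (algebraMap C (A ⧸ I)))).appLE _ _ hV'.ge =
        s₀.appLE U _ hVU := by
      rw [Scheme.Hom.appLE_comp_appLE]
      exact appLE_congr' hπh U _ _
    have e2 : pr₂.appLE _ U hUW ≫ h''.appLE U _ hV'U =
        (Spec.map (CommRingCat.ofHom (algebraMap A C))).appLE (PrimeSpectrum.basicOpen g)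
          (PrimeSpectrum.basicOpen (algebraMap A C g))
          (by rw [SpecMap_preimage_basicOpen]; rfl) := by
      rw [Scheme.Hom.appLE_comp_appLE]
      exact appLE_congr' hφ.symm _ _ _
    refine ⟨g, hg𝔭, Γ(XT, U), inferInstance, (pr₂.appLE _ U hUW).hom,
      (h''.appLE U _ hV'U).hom,
      ((Spec.map (CommRingCat.ofHom (algebraMap C (A ⧸ I)))).appLE _ _ hV'.ge).hom,
      (s₀.appLE U _ hVU).hom, ?_, ?_, ?_, ?_, ?_⟩
    · exact (congrArg CommRingCat.Hom.hom e1).symm
    · intro c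
      exact appLE_algebraMap (CommRingCat.ofHom (algebraMap C (A ⧸ I))) _ _ hV'.ge c
    · intro a
      have h1 := appLE_algebraMap (CommRingCat.ofHom (algebraMap A C)) (PrimeSpectrum.basicOpen g)
        (PrimeSpectrum.basicOpen (algebraMap A C g))
        (by rw [SpecMap_preimage_basicOpen]; rfl) a
      rw [← e2] at h1
      exact h1
    · exact hch _ _ hWa hUa hUW
    · exact isUnivThickeningRing_of_SpecMap _ _ _ huS
  refine ⟨?_, ?_⟩
  · exact main_inj I hI'
      (fun g => Γ(Spec (CommRingCat.of A), PrimeSpectrum.basicOpen g))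
      (fun r => Γ(Spec (CommRingCat.of (A ⧸ I)), PrimeSpectrum.basicOpen r))
      (fun c => Γ(Spec (CommRingCat.of C), PrimeSpectrum.basicOpen c)) hloc
  · exact main_proj I
      (fun g => Γ(Spec (CommRingCat.of A), PrimeSpectrum.basicOpen g))
      (fun r => Γ(Spec (CommRingCat.of (A ⧸ I)), PrimeSpectrum.basicOpen r))
      (fun c => Γ(Spec (CommRingCat.of C), PrimeSpectrum.basicOpen c)) hloc



open Groth.Agent.H5.Thick in
/-- a section over `Spec (A/I)` of a morphism `XT → Spec A` which is formally smooth on affine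
charts extends to a section over `Spec A`. -/
theorem exists_lift_of_charts {XT : Scheme.{u}} {A : Type u} [CommRing A] (I : Ideal A)
    (hI : I ^ 2 = ⊥) (pr₂ : XT ⟶ Spec (CommRingCat.of A))
    (hch : ∀ (W : (Spec (CommRingCat.of A)).Opens) (U : XT.Opens), IsAffineOpen W →
      IsAffineOpen U → ∀ e : U ≤ pr₂ ⁻¹ᵁ W, (pr₂.appLE W U e).hom.FormallySmooth)
    (s₀ : Spec (CommRingCat.of (A ⧸ I)) ⟶ XT)
    (hs₀ : s₀ ≫ pr₂ = Spec.map (CommRingCat.ofHom (Ideal.Quotient.mk I))) :
    ∃ l : Spec (CommRingCat.of A) ⟶ XT,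
      Spec.map (CommRingCat.ofHom (Ideal.Quotient.mk I)) ≫ l = s₀ ∧ l ≫ pr₂ = 𝟙 _ := by
  obtain ⟨C, _, _, _, _, h'', hφ, hu⟩ := Groth.Agent.H1.KGeomC.exists_thickening I pr₂ s₀ hs₀
  obtain ⟨hinj, hproj⟩ := inj_proj_of_isUnivThickeningF I hI pr₂ hch s₀ hs₀ C h'' hφ hu
  have hSZ := sqZeroSurj_of_isFirstOrderThickening_SpecMap
    (CommRingCat.ofHom (algebraMap C (A ⧸ I))) hu.1
  haveI := hproj
  obtain ⟨σ, hσ⟩ := Groth.Agent.H1.SqLift.exists_retraction I hSZ.2 hinj
  have hπh : Spec.map (CommRingCat.ofHom (algebraMap C (A ⧸ I))) ≫ h'' = s₀ := hu.2.1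
  refine ⟨Spec.map (CommRingCat.ofHom σ.toRingHom) ≫ h'', ?_, ?_⟩
  · rw [← Category.assoc, ← Spec.map_comp, ← hπh]
    congr 2
    ext c
    exact hσ c
  · rw [Category.assoc, ← hφ, ← Spec.map_comp]
    have : CommRingCat.ofHom (algebraMap A C) ≫ CommRingCat.ofHom σ.toRingHom = 𝟙 _ := by
      ext x
      exact σ.commutes x
    rw [this, Spec.map_id]

/-- the lifting property is stable under base change. -/
theorem isFormallySmoothHom_pullback_snd {X Y Z : Scheme.{u}} (f : X ⟶ Y) (g : Z ⟶ Y)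
    (hf : MoreMor.IsFormallySmoothHom f) : MoreMor.IsFormallySmoothHom (pullback.snd f g) := by
  intro A _ I hI a b w
  obtain ⟨l', hl1, hl2⟩ := hf A I hI (a ≫ pullback.fst f g) (b ≫ g) (by
    rw [← Category.assoc, w, Category.assoc, Category.assoc, pullback.condition])
  refine ⟨pullback.lift l' b hl2, ?_, pullback.lift_snd _ _ _⟩
  apply pullback.hom_ext
  · rw [Category.assoc, pullback.lift_fst, hl1]
  · rw [Category.assoc, pullback.lift_snd, w]

/-- **affine-locally formally smooth morphisms have the infinitesimal lifting property**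
(no finite presentation hypothesis). -/
theorem isFormallySmoothHom_of_fs {X Y : Scheme.{u}} (f : X ⟶ Y) (hf : FS f) :
    MoreMor.IsFormallySmoothHom f := by
  intro A _ I hI a b hcomm
  have hp : FS (pullback.snd f b) := fs_pullback_snd f b hf
  obtain ⟨s₀, hs₀def⟩ : ∃ s₀ : Spec (CommRingCat.of (A ⧸ I)) ⟶ pullback f b,
      s₀ = pullback.lift a (Spec.map (CommRingCat.ofHom (Ideal.Quotient.mk I))) hcomm.symm :=
    ⟨_, rfl⟩
  have hs₁ : s₀ ≫ pullback.fst f b = a := by rw [hs₀def, pullback.lift_fst]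
  have hs₂ : s₀ ≫ pullback.snd f b = Spec.map (CommRingCat.ofHom (Ideal.Quotient.mk I)) := by
    rw [hs₀def, pullback.lift_snd]
  obtain ⟨l, hl1, hl2⟩ := exists_lift_of_charts I hI (pullback.snd f b)
    (fun W U hW hU e => (fs_iff _).1 hp U W hU hW e) s₀ hs₂
  refine ⟨l ≫ pullback.fst f b, ?_, ?_⟩
  · rw [← Category.assoc, hl1, hs₁]
  · rw [Category.assoc, pullback.condition, ← Category.assoc, hl2, Category.id_comp]

/-- the infinitesimal lifting property ⟺ formally smooth ring maps on all affine charts. -/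
theorem isFormallySmoothHom_iff {X Y : Scheme.{u}} (f : X ⟶ Y) :
    MoreMor.IsFormallySmoothHom f ↔ FS f := by
  constructor
  · intro h
    rw [fs_iff]
    intro U V hU hV e
    exact Groth.Agent.H3.Om.formallySmooth_appLE h hU hV e
  · exact isFormallySmoothHom_of_fs f

end Groth.Agent.H1.KSq2F
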