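import Mathlib
import Groth.Agent.Lib.Helper1.KSmooth
import Groth.Agent.Lib.Helper1.KSq2F
import Groth.Agent.Lib.Helper1.KDescF

/-!
# (K)-project without finite presentation: formal smoothness of morphisms of algebraic spaces is
étale local on the source, and can be read off from one chart diagram.
-/

set_option autoImplicit false
universe u

open AlgebraicGeometry CategoryTheory Limits TensorProduct KaehlerDifferential

namespace Groth.Agent.H1.KMainF

open _root_.AlgSp Groth.Agent.H1.KDesc Groth.Agent.H1.KGeomA Groth.Agent.H1.KGeomB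
  Groth.Agent.H1.KGeomC Groth.Agent.H5.AlgSp Groth.Agent.H5.Thick Groth.Agent.H7.FOSp1
  Groth.Agent.H7.FOSp6 Groth.Agent.H7.FOSp8 Groth.Agent.H4.AlgSpInf

section Cover

variable {S : Scheme.{u}} {A : Type u} [CommRing A] (I : Ideal A)
  (str : Spec (CommRingCat.of A) ⟶ S)

/-- étale-locally on `Spec A`, a section over `Spec (A/I)` of a sheaf lifts to a given étale
surjective atlas. -/
theorem exists_cover_of_atlas (hI : I ^ 2 = ⊥) {P : Sp S} {U : Over S} (u : (yon S).obj U ⟶ P)
    (hue : RepWith @Etale u) (hus : RepWith @Surjective u)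
    (s₀ : (yon S).obj (ov str (A ⧸ I)) ⟶ P) :
    ∃ (A' : Type u) (_ : CommRing A') (_ : Algebra A A') (t₀ : ov str (Q' I A') ⟶ U),
      Algebra.Etale A A' ∧
      Surjective (Spec.map (CommRingCat.ofHom (algebraMap A A'))) ∧
      (yon S).map t₀ ≫ u = (yon S).map (ovMap str (phiQ I A')) ≫ s₀ := by
  have psq := hue.1.isPullback s₀
  obtain ⟨q₁, hq₁⟩ := (yon S).map_surjective (hue.1.fst s₀)
  obtain ⟨p₀, hp₀def⟩ : ∃ p₀ : (hue.1.pullback s₀).left ⟶ Spec (CommRingCat.of (A ⧸ I)),
      p₀ = (hue.1.snd s₀).left := ⟨_, rfl⟩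
  haveI hp₀e : Etale p₀ := by rw [hp₀def]; exact hue.2 _ _ _ psq
  haveI hp₀s : Surjective p₀ := by rw [hp₀def]; exact hus.2 _ _ _ psq
  obtain ⟨W, q, hW, hqe, hqs⟩ := exists_affine_etale_refinement p₀
  obtain ⟨φE, hφE⟩ := Spec.map_surjective (W.isoSpec.inv ≫ q ≫ p₀)
  have hre : Etale (Spec.map φE) := by rw [hφE]; infer_instance
  have hrs : Surjective (Spec.map φE) := by rw [hφE]; infer_instance
  rw [HasRingHomProperty.Spec_iff (P := @Etale)] at hre
  letI : Algebra (A ⧸ I) Γ(W, ⊤) := φE.hom.toAlgebra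
  haveI : Algebra.Etale (A ⧸ I) Γ(W, ⊤) := hre
  have hN : IsNilpotent (RingHom.ker (Ideal.Quotient.mk I)) := by
    rw [Ideal.mk_ker]
    exact ⟨2, by rw [hI]; rfl⟩
  obtain ⟨E', _, _, hE', πE, hπ, hker, hcomm⟩ := Groth.Agent.H7.EtLift.exists_etale_lift
    (Ideal.Quotient.mk I) Ideal.Quotient.mk_surjective hN Γ(W, ⊤)
  rw [Ideal.mk_ker] at hker
  obtain ⟨e, he⟩ : ∃ e : Q' I E' ≃+* Γ(W, ⊤), ∀ a' : E', e (Ideal.Quotient.mk _ a') = πE a' :=
    ⟨(Ideal.quotEquivOfEq hker.symm).trans (RingHom.quotientKerEquivOfSurjective hπ),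
      fun _ => rfl⟩
  obtain ⟨w₀, hw₀def⟩ : ∃ w₀ : Spec (CommRingCat.of (Q' I E')) ⟶ (hue.1.pullback s₀).left,
      w₀ = Spec.map (CommRingCat.ofHom e.symm.toRingHom) ≫ W.isoSpec.inv ≫ q := ⟨_, rfl⟩
  have hw₀ : w₀ ≫ p₀ = Spec.map (CommRingCat.ofHom (phiQ I E').toRingHom) := by
    rw [hw₀def, Category.assoc, Category.assoc, ← hφE, ← Spec.map_comp]
    congr 1
    apply CommRingCat.hom_ext
    apply RingHom.ext
    intro x
    obtain ⟨a, rfl⟩ := Ideal.Quotient.mk_surjective x
    show e.symm (φE.hom (Ideal.Quotient.mk I a)) = phiQ I E' (Ideal.Quotient.mk I a)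
    rw [phiQ_mk, RingEquiv.symm_apply_eq, he, hcomm]
    rfl
  obtain ⟨w, hw⟩ : ∃ w : ov str (Q' I E') ⟶ hue.1.pullback s₀, w.left = w₀ := by
    refine ⟨Over.homMk w₀ ?_, rfl⟩
    have e1 : (hue.1.pullback s₀).hom = p₀ ≫ (ov str (A ⧸ I)).hom := by
      rw [hp₀def]; exact (Over.w (hue.1.snd s₀)).symm
    rw [e1, ← Category.assoc, hw₀]
    show Spec.map (CommRingCat.ofHom (phiQ I E').toRingHom) ≫
      Spec.map (CommRingCat.ofHom (algebraMap A (A ⧸ I))) ≫ str = _
    rw [← Category.assoc, specMap_comm]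
    rfl
  have hwp : w ≫ hue.1.snd s₀ = ovMap str (phiQ I E') := by
    apply Over.OverMorphism.ext
    rw [Over.comp_left, hw, ← hp₀def, hw₀]
    rfl
  have hsurjE : Surjective (Spec.map (CommRingCat.ofHom (algebraMap A E'))) := by
    have hpo := isPushout_of_ker_eq I (algebraMap A E') πE φE.hom hπ hker hcomm
    have hpb := isPullback_SpecMap_of_isPushout _ _ _ _ hpo
    haveI : Surjective (Spec.map (CommRingCat.ofHom (Ideal.Quotient.mk I))) :=
      (isFirstOrderThickening_SpecMap_mk I hI).1.2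
    refine ⟨fun t => ?_⟩
    obtain ⟨t₁, rfl⟩ := (Spec.map (CommRingCat.ofHom (Ideal.Quotient.mk I))).surjective t
    obtain ⟨w', rfl⟩ := (Spec.map φE).surjective t₁
    refine ⟨Spec.map (CommRingCat.ofHom πE) w', ?_⟩
    have := congrArg (fun m => m w') hpb.w
    simp only [Scheme.Hom.comp_apply] at this
    exact this
  refine ⟨E', inferInstance, inferInstance, w ≫ q₁, hE', hsurjE, ?_⟩
  rw [Functor.map_comp, Category.assoc, hq₁, psq.w, ← Category.assoc, ← Functor.map_comp, hwp]


end Cover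

section Final

variable {S : Scheme.{u}} {A : Type u} [CommRing A] (I : Ideal A)
  (str : Spec (CommRingCat.of A) ⟶ S)
  {P : Sp S} (g : P ⟶ (yon S).obj (Over.mk str))
  (τ : (pfun str g).Pt (A ⧸ I))
  {U : Over S} (u : (yon S).obj U ⟶ P) (gU : U ⟶ Over.mk str)
  (A' : Type u) [CommRing A'] [Algebra A A']
  (t₀ : ov str (Q' I A') ⟶ U)

theorem exists_utF (hI : I ^ 2 = ⊥) (hue : RepWith @Etale u) (hgU : (yon S).map gU = u ≫ g)
    (hsm : MoreMor.IsFormallySmoothHom gU.left)
    (ht₀ : (yon S).map t₀ ≫ u = (yon S).map (ovMap str (phiQ I A')) ≫ ptVal str g τ) :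
    ∃ (C' : Type u) (_ : CommRing C') (_ : Algebra A C') (_ : Algebra A' C')
      (_ : IsScalarTower A A' C') (_ : Algebra C' (Q' I A'))
      (_ : IsScalarTower A' C' (Q' I A')) (c : (pfun str g).Pt C'),
      UT I (pfun str g) τ A' C' c ∧ Function.Injective (algebraMap A' C') ∧
      Module.Projective (Q' I A') (Q' I A' ⊗[C'] Ω[C'⁄A']) := by
  have pb := IsPullback.of_hasPullback gU.left (Spec.map (CommRingCat.ofHom (algebraMap A A')))
  have hsm' : MoreMor.IsFormallySmoothHom
      (pullback.snd gU.left (Spec.map (CommRingCat.ofHom (algebraMap A A')))) :=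
    Groth.Agent.H1.KSq2F.isFormallySmoothHom_pullback_snd _ _ hsm
  have htg : t₀ ≫ gU = ovStr str (Q' I A') := (yon S).map_injective (by
    rw [CategoryTheory.Functor.map_comp, hgU, ← Category.assoc, ht₀, Category.assoc, ptVal_comp,
      ← CategoryTheory.Functor.map_comp, ovMap_ovStr])
  have hcomm : t₀.left ≫ gU.left =
      Spec.map (CommRingCat.ofHom (Ideal.Quotient.mk (I.map (algebraMap A A')))) ≫
        Spec.map (CommRingCat.ofHom (algebraMap A A')) := by
    rw [← Over.comp_left, htg, ← Spec.map_comp]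
    rfl
  obtain ⟨t'', ht1, ht2⟩ : ∃ t'' : Spec (CommRingCat.of (Q' I A')) ⟶
      pullback gU.left (Spec.map (CommRingCat.ofHom (algebraMap A A'))),
      t'' ≫ pullback.fst _ _ = t₀.left ∧ t'' ≫ pullback.snd _ _ =
        Spec.map (CommRingCat.ofHom (Ideal.Quotient.mk (I.map (algebraMap A A')))) :=
    ⟨pb.lift _ _ hcomm, pb.lift_fst _ _ _, pb.lift_snd _ _ _⟩
  have hI' : (I.map (algebraMap A A')) ^ 2 = ⊥ := by
    rw [← Ideal.map_pow, hI, Ideal.map_bot]
  obtain ⟨C', _, _, _, _, h'', hφ, hu⟩ := exists_thickening (I.map (algebraMap A A'))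
    (pullback.snd gU.left (Spec.map (CommRingCat.ofHom (algebraMap A A')))) t'' ht2
  letI : Algebra A C' := ((algebraMap A' C').comp (algebraMap A A')).toAlgebra
  haveI : IsScalarTower A A' C' := IsScalarTower.of_algebraMap_eq (fun _ => rfl)
  obtain ⟨hinj, hproj⟩ := Groth.Agent.H1.KSq2F.inj_proj_of_isUnivThickeningF
    (I.map (algebraMap A A')) hI'
    (pullback.snd gU.left (Spec.map (CommRingCat.ofHom (algebraMap A A'))))
    (fun W U' hW hU' e => Groth.Agent.H3.Om.formallySmooth_appLE hsm' hU' hW e)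
    t'' ht2 C' h'' hφ hu
  obtain ⟨cU, hcU⟩ : ∃ cU : ov str C' ⟶ U, cU.left = h'' ≫ pullback.fst _ _ := by
    refine ⟨Over.homMk (h'' ≫ pullback.fst _ _) ?_, rfl⟩
    show (h'' ≫ pullback.fst _ _) ≫ U.hom = Spec.map (CommRingCat.ofHom (algebraMap A C')) ≫ str
    have e1 : U.hom = gU.left ≫ str := (Over.w gU).symm
    rw [e1, Category.assoc, ← Category.assoc (pullback.fst _ _), pb.w, Category.assoc,
      ← Category.assoc h'', ← hφ, ← Category.assoc, ← Spec.map_comp]
    rfl
  have hcg : ((yon S).map cU ≫ u) ≫ g = (yon S).map (ovStr str C') := by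
    rw [Category.assoc, ← hgU, ← CategoryTheory.Functor.map_comp]
    congr 1
    apply Over.OverMorphism.ext
    rw [Over.comp_left, hcU, Category.assoc, pb.w, ← Category.assoc, ← hφ, ← Spec.map_comp]
    rfl
  have D : Data I str g τ u gU A' t₀ (pullback.fst _ _) (pullback.snd _ _) t'' C' h'' cU
      (mkPt str g C' ((yon S).map cU ≫ u) hcg) :=
    ⟨hue, hgU, ht₀, pb, ht1, ht2, hφ, hu, hcU, rfl⟩
  exact ⟨C', inferInstance, inferInstance, inferInstance, inferInstance, inferInstance,
    inferInstance, _, ut D, hinj, hproj⟩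

end Final

section Main

variable {S : Scheme.{u}}

section
variable {A : Type u} [CommRing A] (I : Ideal A) (str : Spec (CommRingCat.of A) ⟶ S)
  {P : Sp S} (g : P ⟶ (yon S).obj (Over.mk str))

/-- a section over `Spec (A/I)` of a sheaf over `Spec A` with an étale surjective atlas which is
formally smooth over `Spec A` extends to `Spec A`. -/
theorem section_liftF (hI : I ^ 2 = ⊥) {U : Over S} (u : (yon S).obj U ⟶ P)
    (hue : RepWith @Etale u) (hus : RepWith @Surjective u) (gU : U ⟶ Over.mk str)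
    (hgU : (yon S).map gU = u ≫ g) (hsm : MoreMor.IsFormallySmoothHom gU.left)
    (τ : (pfun str g).Pt (A ⧸ I)) :
    ∃ x : (pfun str g).Pt A, (pfun str g).map (Ideal.Quotient.mkₐ A I) x = τ := by
  obtain ⟨A', _, _, t₀, hE', hsurj, ht₀⟩ :=
    exists_cover_of_atlas I str hI u hue hus (ptVal str g τ)
  obtain ⟨C', _, _, _, _, _, _, c, hUT, hinj, hproj⟩ :=
    exists_utF I str g τ u gU A' t₀ hI hue hgU hsm ht₀
  haveI hEt : Etale (Spec.map (CommRingCat.ofHom (algebraMap A A'))) := by
    rw [HasRingHomProperty.Spec_iff (P := @Etale)]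
    exact RingHom.etale_algebraMap.2 hE'
  have hfl : Flat (Spec.map (CommRingCat.ofHom (algebraMap A A'))) := inferInstance
  have hfp : LocallyOfFinitePresentation (Spec.map (CommRingCat.ofHom (algebraMap A A'))) :=
    inferInstance
  haveI : Module.Flat A A' := inferInstance
  haveI : Module.FaithfullyFlat A A' :=
    Module.FaithfullyFlat.of_comap_surjective (fun p => hsurj.surj p)
  exact Groth.Agent.H1.KDescF.main' hUT (hsh_inj str g hfl hfp hsurj)
    (hsh_glue str g hfl hfp hsurj) hinj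

end

/-- scheme-level formal smoothness gives sheaf-level formal smoothness. -/
theorem isFormallySmoothMor_yon_map_of_hom {U V : Over S} (h : U ⟶ V)
    (H : MoreMor.IsFormallySmoothHom h.left) : IsFormallySmoothMor ((yon S).map h) := by
  intro sq
  obtain ⟨t, ht⟩ := (yon S).map_surjective sq.top
  obtain ⟨b, hb⟩ := (yon S).map_surjective sq.bot
  have hcomm : t ≫ h = sq.j ≫ b := (yon S).map_injective (by
    rw [Functor.map_comp, Functor.map_comp, ht, hb]
    exact sq.comm)
  have hcl : Spec.map (CommRingCat.ofHom (Ideal.Quotient.mk sq.I)) ≫ b.left = t.left ≫ h.left :=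
    (congrArg (fun k => k.left) hcomm).symm
  obtain ⟨l, hl1, hl2⟩ := H sq.A sq.I sq.sq_zero t.left b.left hcl
  have hlw : l ≫ U.hom = sq.str := by
    rw [← Over.w h, ← Category.assoc, hl2]
    exact Over.w b
  refine ⟨(yon S).map (Over.homMk l hlw), ?_, ?_⟩
  · rw [← ht, ← Functor.map_comp]
    congr 1
    apply Over.OverMorphism.ext
    exact hl1
  · rw [← hb, ← Functor.map_comp]
    congr 1
    apply Over.OverMorphism.ext
    exact hl2

theorem lift_of_cover {A : Type u} [CommRing A] (I : Ideal A) (hI : I ^ 2 = ⊥)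
    (str : Spec (CommRingCat.of A) ⟶ S) {X Y : Sp S} (hY : Representable (Limits.diag Y))
    (f : X ⟶ Y) {U : Over S} (a : (yon S).obj U ⟶ X) (hae : RepWith @Etale a)
    (has : RepWith @Surjective a) (hfs : IsFormallySmoothMor (a ≫ f))
    (top : (yon S).obj (ov str (A ⧸ I)) ⟶ X) (bot : (yon S).obj (Over.mk str) ⟶ Y)
    (comm : top ≫ f = (yon S).map (ovStr str (A ⧸ I)) ≫ bot) :
    ∃ l : (yon S).obj (Over.mk str) ⟶ X,
      (yon S).map (ovStr str (A ⧸ I)) ≫ l = top ∧ l ≫ f = bot := by
  have psq := IsPullback.of_hasPullback f bot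
  have hr : Representable (a ≫ f) := Functor.relativelyRepresentable.of_diag hY _
  obtain ⟨W, aW, gW, sqW⟩ : ∃ (W : Over S) (aW : W ⟶ U) (gW : W ⟶ Over.mk str),
      IsPullback ((yon S).map aW) ((yon S).map gW) (a ≫ f) bot :=
    ⟨_, _, _, hr.isPullback' bot⟩
  have hw : ((yon S).map aW ≫ a) ≫ f = (yon S).map gW ≫ bot := by
    rw [Category.assoc]
    exact sqW.w
  obtain ⟨uW, hu1, hu2⟩ : ∃ uW : (yon S).obj W ⟶ pullback f bot,
      uW ≫ pullback.fst f bot = (yon S).map aW ≫ a ∧
        uW ≫ pullback.snd f bot = (yon S).map gW :=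
    ⟨psq.lift _ _ hw, psq.lift_fst _ _ _, psq.lift_snd _ _ _⟩
  have sqV : IsPullback uW ((yon S).map aW) (pullback.fst f bot) a :=
    IsPullback.of_right (by rw [hu2]; exact sqW.flip) hu1 psq.flip
  have hue : RepWith @Etale uW := (RepWith @Etale).of_isPullback sqV.flip hae
  have hus : RepWith @Surjective uW := (RepWith @Surjective).of_isPullback sqV.flip has
  have hgfs : IsFormallySmoothMor ((yon S).map gW) :=
    formallySmooth_baseChange (a ≫ f) bot _ _ sqW hfs
  have hsm : MoreMor.IsFormallySmoothHom gW.left :=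
    Groth.Agent.H1.KSmooth.isFormallySmoothHom_left_of_isFormallySmoothMor gW hgfs
  obtain ⟨s₀, hs1, hs2⟩ : ∃ s₀ : (yon S).obj (ov str (A ⧸ I)) ⟶ pullback f bot,
      s₀ ≫ pullback.fst f bot = top ∧
        s₀ ≫ pullback.snd f bot = (yon S).map (ovStr str (A ⧸ I)) :=
    ⟨pullback.lift top _ comm, pullback.lift_fst _ _ _, pullback.lift_snd _ _ _⟩
  obtain ⟨x, hx⟩ := section_liftF I str (pullback.snd f bot) hI uW hue hus gW hu2.symm hsm
    (mkPt str (pullback.snd f bot) (A ⧸ I) s₀ hs2)
  have hx' : (yon S).map (ovMap str (Ideal.Quotient.mkₐ A I)) ≫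
      ptVal str (pullback.snd f bot) x = s₀ := congrArg (ptVal str (pullback.snd f bot)) hx
  refine ⟨(yon S).map (ovIso str) ≫ ptVal str (pullback.snd f bot) x ≫ pullback.fst f bot, ?_, ?_⟩
  · rw [← Category.assoc, ← CategoryTheory.Functor.map_comp, Groth.Agent.H1.KMain.ovStr_ovIso,
      ← Category.assoc, hx', hs1]
  · rw [Category.assoc, Category.assoc, pullback.condition, ← Category.assoc
      (ptVal str (pullback.snd f bot) x), ptVal_comp, ← Category.assoc,
      ← CategoryTheory.Functor.map_comp, ovIso_ovStr, CategoryTheory.Functor.map_id,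
      Category.id_comp]

/-- **formal smoothness is étale local on the source**: if `a : U → X` is an étale surjective
atlas and `a ≫ f` is formally smooth then so is `f` (target with representable diagonal). -/
theorem isFormallySmoothMor_of_cover {X Y : Sp S} (hY : Representable (Limits.diag Y))
    (f : X ⟶ Y) {U : Over S} (a : (yon S).obj U ⟶ X) (hae : RepWith @Etale a)
    (has : RepWith @Surjective a) (hfs : IsFormallySmoothMor (a ≫ f)) :
    IsFormallySmoothMor f := by
  intro sq
  exact lift_of_cover sq.I sq.sq_zero sq.str hY f a hae has hfs sq.top sq.bot sq.comm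

/-- one chart diagram with étale surjective source chart, étale target chart and formally smooth
top arrow suffices for formal smoothness. -/
theorem isFormallySmoothMor_of_chart {X Y : Sp S} (hY : Representable (Limits.diag Y))
    (f : X ⟶ Y) {U V : Over S} (a : (yon S).obj U ⟶ X) (b : (yon S).obj V ⟶ Y) (h : U ⟶ V)
    (hae : RepWith @Etale a) (has : RepWith @Surjective a) (hbe : RepWith @Etale b)
    (comm : a ≫ f = (yon S).map h ≫ b) (hh : MoreMor.IsFormallySmoothHom h.left) :
    IsFormallySmoothMor f := by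
  apply isFormallySmoothMor_of_cover hY f a hae has
  rw [comm]
  exact formallySmooth_comp _ _ (isFormallySmoothMor_yon_map_of_hom h hh)
    (isFormallySmoothMor_of_repWith_etale b hbe)

/-- formally smooth ⟺ formally smooth on all chart diagrams, for algebraic spaces. -/
theorem isFormallySmoothMor_iff_locP {X Y : Sp S} (hX : IsAlgSpace X) (hY : IsAlgSpace Y)
    (f : X ⟶ Y) : IsFormallySmoothMor f ↔ LocP @MoreMor.IsFormallySmoothHom f := by
  constructor
  · exact Groth.Agent.H1.KSmooth.locP_formallySmoothHom_of_isFormallySmoothMor f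
  · intro hf
    obtain ⟨V, b, hbe, hbs⟩ := hY.atlas
    obtain ⟨U, a, h, hae, has, comm⟩ := exists_chart_diagram_surj hX f hbe hbs
    exact isFormallySmoothMor_of_chart hY.diag f a b h hae has hbe comm (hf a b h hae hbe comm)

end Main

end Groth.Agent.H1.KMainF
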