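import Mathlib
import Groth.Agent.Lib.Helper1.KMainF
import Groth.Agent.Lib.Helper3.AlgSpCov.LocPBaseInst
import Groth.Agent.Lib.Helper6.FSmDesc

/-!
# Formal smoothness: étale local on the source, fpqc local on the base
-/

set_option autoImplicit false
universe u

open AlgebraicGeometry CategoryTheory Limits MorphismProperty

namespace Groth.Agent.H1.FSDesc

open _root_.AlgSp Groth.Agent.H1.FSLocal Groth.Agent.H1.KSq2F Groth.Agent.H1.KMainF
  Groth.Agent.H5.EtSrc Groth.Agent.H3.AlgSpCov

instance : MorphismProperty.IsStableUnderComposition FS.{u} :=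
  HasRingHomProperty.stableUnderComposition (P := FS)
    RingHom.FormallySmooth.stableUnderComposition

lemma fs_eq : (@MoreMor.IsFormallySmoothHom : MorphismProperty Scheme.{u}) = FS := by
  ext X Y f
  exact isFormallySmoothHom_iff f

lemma etale_le_fs : (@Etale : MorphismProperty Scheme.{u}) ≤ FS := fun X Y f hf => by
  have : Etale f := hf
  exact (isFormallySmoothHom_iff f).1 (Groth.Agent.H1.SmLift.isFormallySmoothHom_of_smooth f)

/-- the infinitesimal lifting property is étale local on the source. -/
theorem isFormallySmoothHom_of_comp_etale_surjective {U' U V : Scheme.{u}} (g : U' ⟶ U)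
    (f : U ⟶ V) (hg : Etale g) (hs : Surjective g) (h : MoreMor.IsFormallySmoothHom (g ≫ f)) :
    MoreMor.IsFormallySmoothHom f := by
  let U'o : Over V := Over.mk (g ≫ f)
  let Uo : Over V := Over.mk f
  let Vo : Over V := Over.mk (𝟙 V)
  let go : U'o ⟶ Uo := Over.homMk g rfl
  let fo : Uo ⟶ Vo := Over.homMk f (by simp [Uo, Vo])
  have h1 : IsFormallySmoothMor ((yon V).map (go ≫ fo)) :=
    isFormallySmoothMor_yon_map_of_hom (go ≫ fo) (by exact h)
  rw [Functor.map_comp] at h1
  have h2 : IsFormallySmoothMor ((yon V).map fo) :=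
    isFormallySmoothMor_of_cover (IsAlgSpace.yon_obj Vo).diag ((yon V).map fo) ((yon V).map go)
      ((repWith_yon_map_iff @Etale go).2 hg) ((repWith_yon_map_iff @Surjective go).2 hs) h1
  exact Groth.Agent.H1.KSmooth.isFormallySmoothHom_left_of_isFormallySmoothMor fo h2

instance : IsEtaleLocalSource FS.{u} where
  of_comp g f hg hs h := by
    rw [← isFormallySmoothHom_iff] at h ⊢
    exact isFormallySmoothHom_of_comp_etale_surjective g f hg hs h

lemma formallySmooth_codescendsAlong :
    RingHom.CodescendsAlong.{u} RingHom.FormallySmooth RingHom.FaithfullyFlat := by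
  apply RingHom.CodescendsAlong.mk _ RingHom.FormallySmooth.respectsIso
  introv h H
  rw [RingHom.faithfullyFlat_algebraMap_iff] at h
  rw [RingHom.formallySmooth_algebraMap] at H ⊢
  exact Groth.Agent.H6.FSmDesc.formallySmooth_of_baseChange R T S

instance : MorphismProperty.DescendsAlong FS.{u}
    (@Surjective ⊓ @Flat ⊓ @QuasiCompact : MorphismProperty Scheme.{u}) :=
  HasRingHomProperty.descendsAlong_flat (P := FS) formallySmooth_codescendsAlong

/-- formal smoothness of morphisms of algebraic spaces is fpqc local on the base. -/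
theorem isLocalOnBase_fpqc_isFormallySmoothMor {S : Scheme.{u}} :
    IsLocalOnBase (IsFpqcCover (S := S)) IsFormallySmoothMor := by
  refine isLocalOnBase_congr (Q := LocP FS) (fun X Y f hX hY => ?_)
    (isLocalOnBase_fpqc_locP etale_le_fs)
  rw [isFormallySmoothMor_iff_locP hX hY f, fs_eq]

end Groth.Agent.H1.FSDesc
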