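import Mathlib
import Groth.Agent.Lib.Helper1.CMQF
import Groth.Agent.Lib.Helper1.Chev3

/-!
# A uniform bound on fibre dimensions over a quasi-compact base (helper1)
-/

set_option autoImplicit false
universe u

namespace Groth.Agent.H1.FibBound

open AlgebraicGeometry CategoryTheory TopologicalSpace

/-- over a quasi-compact base, the fibres of a morphism of finite type have bounded dimension. -/
theorem s3389 {X Y : Scheme.{u}} [CompactSpace Y] (f : X ⟶ Y) [LocallyOfFiniteType f]
    [QuasiCompact f] : ∃ n : ℕ, ∀ y : Y, topologicalKrullDim ↥(f.fiber y) ≤ n := by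
  haveI : CompactSpace X := QuasiCompact.compactSpace_of_compactSpace f
  let Uo : ℕ → Set X := fun n => {x : X | FlatMor.fibreDimAt f x ≤ n}
  have hopen : ∀ n, IsOpen (Uo n) := fun n => Groth.Agent.H1.Chev.isOpen_fibreDimAt_le f n
  have hcov : (Set.univ : Set X) ⊆ ⋃ n, Uo n := by
    intro x _
    obtain ⟨d, hd⟩ := Groth.Agent.H1.CMQF.exists_nat_fibreDimAt f x
    exact Set.mem_iUnion.mpr ⟨d, hd.le⟩
  obtain ⟨t, ht⟩ := isCompact_univ.elim_finite_subcover Uo hopen hcov
  refine ⟨t.sup id, fun y => ?_⟩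
  rw [Groth.Agent.H1.Chev.fiber_dim_le_iff]
  intro x _
  have hx := ht (Set.mem_univ x)
  simp only [Set.mem_iUnion] at hx
  obtain ⟨i, hi, hxi⟩ := hx
  refine le_trans hxi ?_
  have : i ≤ t.sup id := Finset.le_sup (f := id) hi
  exact_mod_cast this

end Groth.Agent.H1.FibBound
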