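import Mathlib
import Groth.Prelude.Def_EGA43
import Groth.Agent.Lib.Helper1.FibCompC

/-!
# EGA IV 14.3.8: local constancy of the set of dimensions of fibre components (helper1)
-/

set_option autoImplicit false
set_option linter.style.haveILetI false
universe u

namespace Groth.Agent.H1.FibComp

open AlgebraicGeometry CategoryTheory CategoryTheory.Limits TopologicalSpace Topology

variable {X Y : Scheme.{u}}

theorem isLocallyConstructible_compl' {T : Type*} [TopologicalSpace T] {s : Set T}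
    (hs : IsLocallyConstructible s) : IsLocallyConstructible sᶜ := by
  intro x
  obtain ⟨U, hU, hUo, hc⟩ := hs x
  refine ⟨U, hU, hUo, ?_⟩
  have : (Subtype.val ⁻¹' sᶜ : Set U) = (Subtype.val ⁻¹' s : Set U)ᶜ := Set.preimage_compl
  rw [this]
  exact hc.compl

theorem mem_dims_iff (f : X ⟶ Y) [LocallyOfFiniteType f] (z : Y) (d : WithBot ℕ∞) :
    d ∈ (fun Z : Set ↥(f.fiber z) => topologicalKrullDim ↥Z) ''
        irreducibleComponents ↥(f.fiber z) ↔
      ∃ ζ : X, f.base ζ = z ∧ (∀ z' : X, f.base z' = f.base ζ → z' ⤳ ζ → z' = ζ) ∧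
        FlatMor.fibreDimAt f ζ = d := by
  constructor
  · rintro ⟨Z, hZ, rfl⟩
    obtain ⟨ζ, hfζ, hmax, hdim⟩ := exists_fibreMax_of_component_fiber f z Z hZ
    exact ⟨ζ, hfζ, hmax, hdim.symm⟩
  · rintro ⟨ζ, hfζ, hmax, rfl⟩
    obtain ⟨Z, hZ, hdim⟩ := exists_component_fiber_of_fibreMax f z ζ hfζ hmax
    exact ⟨Z, hZ, hdim⟩

theorem mem_dims_iff_dim (f : X ⟶ Y) [LocallyOfFiniteType f] (z : Y) (n : ℕ) (U : X.Opens)
    (hU : ∀ x : X, x ∈ U ↔ FlatMor.fibreDimAt f x ≤ (n : WithBot ℕ∞)) :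
    (n : WithBot ℕ∞) ∈ (fun Z : Set ↥(f.fiber z) => topologicalKrullDim ↥Z) ''
        irreducibleComponents ↥(f.fiber z) ↔
      topologicalKrullDim ↥((U.ι ≫ f).fiber z) = n := by
  have hmemU : ∀ u : U.toScheme, U.ι.base u ∈ U := fun u => by
    have h2 : U.ι.base u ∈ Set.range U.ι.base := ⟨_, rfl⟩
    rw [Scheme.Opens.range_ι] at h2
    exact h2
  have hle : topologicalKrullDim ↥((U.ι ≫ f).fiber z) ≤ (n : WithBot ℕ∞) := by
    apply dim_fiber_le_of_forall
    intro u _
    rw [Groth.Agent.H1.CMQF.fibreDimAt_comp_isOpenImmersion U.ι f u]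
    exact (hU _).mp (hmemU u)
  rw [mem_dims_iff]
  constructor
  · rintro ⟨ζ, hfζ, -, hd⟩
    apply le_antisymm hle
    have hζU : ζ ∈ U := (hU ζ).mpr hd.le
    have h2 : ζ ∈ Set.range U.ι.base := by rw [Scheme.Opens.range_ι]; exact hζU
    obtain ⟨u, rfl⟩ := h2
    rw [← hd, ← Groth.Agent.H1.CMQF.fibreDimAt_comp_isOpenImmersion U.ι f u]
    apply fibreDimAt_le_dim_fiber
    rw [Scheme.Hom.comp_apply]
    exact hfζ
  · intro hdim
    by_contra hcon
    have hne : ∀ u : U.toScheme, (U.ι ≫ f).base u = z →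
        FlatMor.fibreDimAt f (U.ι.base u) ≠ (n : WithBot ℕ∞) := by
      intro u hu hd
      obtain ⟨ζ, hfζ, hζx, hmaxζ, hdζ⟩ :=
        Groth.Agent.H1.FibGen.exists_fibre_generic_fibreDimAt_eq f (U.ι.base u)
      apply hcon
      refine ⟨ζ, ?_, fun z' h1 h2 => hmaxζ z' (h1.trans hfζ) h2, hdζ.trans hd⟩
      rw [Scheme.Hom.comp_apply] at hu
      exact hfζ.trans hu
    rcases Nat.eq_zero_or_pos n with hn | hn
    · subst hn
      have h1 : topologicalKrullDim ↥((U.ι ≫ f).fiber z) ≤ ⊥ := by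
        apply dim_fiber_le_of_forall
        intro u hu
        exfalso
        apply hne u hu
        apply le_antisymm ((hU _).mp (hmemU u))
        rw [Nat.cast_zero]
        exact Groth.Agent.H1.Chev.zero_le_fibreDimAt f _
      rw [hdim] at h1
      exact absurd h1 (by simp)
    · obtain ⟨m, rfl⟩ : ∃ m, n = m + 1 := ⟨n - 1, by omega⟩
      have h1 : topologicalKrullDim ↥((U.ι ≫ f).fiber z) ≤ (m : WithBot ℕ∞) := by
        apply dim_fiber_le_of_forall
        intro u hu
        rw [Groth.Agent.H1.CMQF.fibreDimAt_comp_isOpenImmersion U.ι f u]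
        obtain ⟨k, hk⟩ := Groth.Agent.H1.CMQF.exists_nat_fibreDimAt f (U.ι.base u)
        have h2 := (hU _).mp (hmemU u)
        have h3 := hne u hu
        rw [hk] at h2 h3 ⊢
        have h2' : k ≤ m + 1 := by exact_mod_cast h2
        have h3' : k ≠ m + 1 := fun h => h3 (by rw [h])
        have : k ≤ m := by omega
        exact_mod_cast this
      rw [hdim] at h1
      have h1' : m + 1 ≤ m := by exact_mod_cast h1
      omega

theorem s4923 [IsLocallyNoetherian Y] (f : X ⟶ Y) [LocallyOfFiniteType f] [QuasiCompact f]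
    (hf : IsOpenMap f.base) (y : Y)
    (hE : ∀ η : Y, y ∈ closure {η} → closure {η} ∈ irreducibleComponents (Y : Type u) →
      (fun Z : Set ↥(f.fiber y) => topologicalKrullDim ↥Z) '' irreducibleComponents ↥(f.fiber y) =
      (fun Z : Set ↥(f.fiber η) => topologicalKrullDim ↥Z) ''
        irreducibleComponents ↥(f.fiber η)) :
    ∃ V ∈ nhds y, ∀ z ∈ V,
      (fun Z : Set ↥(f.fiber z) => topologicalKrullDim ↥Z) '' irreducibleComponents ↥(f.fiber z) =
      (fun Z : Set ↥(f.fiber y) => topologicalKrullDim ↥Z) ''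
        irreducibleComponents ↥(f.fiber y) := by
  haveI : IsLocallyNoetherian X := LocallyOfFiniteType.isLocallyNoetherian f
  have hopen : ∀ x : X, EGA43.IsOpenAt f.base x := fun x =>
    Groth.Agent.H3.isOpenAt_of_isOpenMap _ hf x
  -- generizations
  have hgen : ∀ η : Y, η ⤳ y →
      (fun Z : Set ↥(f.fiber η) => topologicalKrullDim ↥Z) '' irreducibleComponents ↥(f.fiber η) =
      (fun Z : Set ↥(f.fiber y) => topologicalKrullDim ↥Z) ''
        irreducibleComponents ↥(f.fiber y) := by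
    intro η hη
    apply subset_antisymm _ (fibre_dims_subset_of_isOpenAt f y η hη (fun x _ => hopen x)).1
    obtain ⟨η', hη'⟩ := QuasiSober.sober (isIrreducible_irreducibleComponent (x := η))
      isClosed_irreducibleComponent
    have hη'c : closure ({η'} : Set Y) = irreducibleComponent η := hη'
    have hη'η : η' ⤳ η := by
      rw [specializes_iff_mem_closure, hη'c]; exact mem_irreducibleComponent
    have h1 := (fibre_dims_subset_of_isOpenAt f η η' hη'η (fun x _ => hopen x)).1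
    rw [hE η' (specializes_iff_mem_closure.mp (hη'η.trans hη))
      (by rw [hη'c]; exact irreducibleComponent_mem_irreducibleComponents η)]
    exact h1
  -- an affine neighbourhood and a bound
  obtain ⟨W, hW, hyW⟩ : ∃ W : Y.Opens, IsAffineOpen W ∧ y ∈ W := by
    obtain ⟨_, ⟨V, hV, rfl⟩, hx, -⟩ :=
      Y.isBasis_affineOpens.exists_subset_of_mem_open (Set.mem_univ y) isOpen_univ
    exact ⟨V, hV, hx⟩
  obtain ⟨N, hN⟩ : ∃ N : ℕ, (f ⁻¹ᵁ W : Set X) ⊆
      {x : X | FlatMor.fibreDimAt f x ≤ (N : WithBot ℕ∞)} := by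
    apply IsCompact.elim_directed_cover (f.isCompact_preimage hW.isCompact)
      (fun N : ℕ => {x : X | FlatMor.fibreDimAt f x ≤ (N : WithBot ℕ∞)})
      (fun N => Groth.Agent.H1.Chev.isOpen_fibreDimAt_le f N)
    · intro x _
      obtain ⟨k, hk⟩ := Groth.Agent.H1.CMQF.exists_nat_fibreDimAt f x
      exact Set.mem_iUnion.mpr ⟨k, hk.le⟩
    · intro a b
      refine ⟨max a b, ?_, ?_⟩
      · intro x hx
        have hx' : FlatMor.fibreDimAt f x ≤ (a : WithBot ℕ∞) := hx
        show FlatMor.fibreDimAt f x ≤ ((max a b : ℕ) : WithBot ℕ∞)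
        exact le_trans hx' (by exact_mod_cast le_max_left a b)
      · intro x hx
        have hx' : FlatMor.fibreDimAt f x ≤ (b : WithBot ℕ∞) := hx
        show FlatMor.fibreDimAt f x ≤ ((max a b : ℕ) : WithBot ℕ∞)
        exact le_trans hx' (by exact_mod_cast le_max_right a b)
  -- for each `n`, the condition `n ∈ E z ↔ n ∈ E y` holds near `y`
  have hA : ∀ n : ℕ, {z : Y | ((n : WithBot ℕ∞) ∈ (fun Z : Set ↥(f.fiber z) =>
        topologicalKrullDim ↥Z) '' irreducibleComponents ↥(f.fiber z)) ↔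
      ((n : WithBot ℕ∞) ∈ (fun Z : Set ↥(f.fiber y) => topologicalKrullDim ↥Z) ''
        irreducibleComponents ↥(f.fiber y))} ∈ nhds y := by
    intro n
    let U : X.Opens := ⟨{x : X | FlatMor.fibreDimAt f x ≤ (n : WithBot ℕ∞)},
      Groth.Agent.H1.Chev.isOpen_fibreDimAt_le f n⟩
    have hU : ∀ x : X, x ∈ U ↔ FlatMor.fibreDimAt f x ≤ (n : WithBot ℕ∞) := fun x => Iff.rfl
    haveI : LocallyOfFinitePresentation (U.ι ≫ f) :=
      Groth.Agent.H1.EtNhd.lfp_of_lft_of_noetherian (U.ι ≫ f)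
    have hC := Groth.Agent.H1.FibDim.isLocallyConstructible_fiber_dim (U.ι ≫ f)
      (n : WithBot ℕ∞)
    by_cases hy : (n : WithBot ℕ∞) ∈ (fun Z : Set ↥(f.fiber y) => topologicalKrullDim ↥Z) ''
        irreducibleComponents ↥(f.fiber y)
    · have hmem := mem_nhds_of_isLocallyConstructible hC y (by
        intro η hη
        show topologicalKrullDim ↥((U.ι ≫ f).fiber η) = n
        rw [← mem_dims_iff_dim f η n U hU, hgen η hη]
        exact hy)
      refine Filter.mem_of_superset hmem ?_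
      intro z hz
      have hz' : topologicalKrullDim ↥((U.ι ≫ f).fiber z) = n := hz
      show _ ↔ _
      rw [mem_dims_iff_dim f z n U hU]
      exact ⟨fun _ => hy, fun _ => hz'⟩
    · have hmem := mem_nhds_of_isLocallyConstructible (isLocallyConstructible_compl' hC) y (by
        intro η hη
        show ¬ (topologicalKrullDim ↥((U.ι ≫ f).fiber η) = n)
        rw [← mem_dims_iff_dim f η n U hU, hgen η hη]
        exact hy)
      refine Filter.mem_of_superset hmem ?_
      intro z hz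
      have hz' : ¬ (topologicalKrullDim ↥((U.ι ≫ f).fiber z) = n) := hz
      show _ ↔ _
      rw [mem_dims_iff_dim f z n U hU]
      exact ⟨fun h => absurd h hz', fun h => absurd h hy⟩
  refine ⟨(W : Set Y) ∩ ⋂ n ∈ Finset.range (N + 1), {z : Y | ((n : WithBot ℕ∞) ∈
      (fun Z : Set ↥(f.fiber z) => topologicalKrullDim ↥Z) '' irreducibleComponents ↥(f.fiber z)) ↔
      ((n : WithBot ℕ∞) ∈ (fun Z : Set ↥(f.fiber y) => topologicalKrullDim ↥Z) ''
        irreducibleComponents ↥(f.fiber y))},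
    Filter.inter_mem (W.isOpen.mem_nhds hyW)
      ((Filter.biInter_finset_mem _).mpr fun n _ => hA n), ?_⟩
  rintro z ⟨hzW, hzA⟩
  have hzA' : ∀ n : ℕ, n ≤ N → (((n : WithBot ℕ∞) ∈ (fun Z : Set ↥(f.fiber z) =>
        topologicalKrullDim ↥Z) '' irreducibleComponents ↥(f.fiber z)) ↔
      ((n : WithBot ℕ∞) ∈ (fun Z : Set ↥(f.fiber y) => topologicalKrullDim ↥Z) ''
        irreducibleComponents ↥(f.fiber y))) := by
    intro n hn
    have := Set.mem_iInter₂.mp hzA n (Finset.mem_range.mpr (by omega))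
    exact this
  have hnat : ∀ (w : Y), w ∈ W → ∀ d : WithBot ℕ∞,
      d ∈ (fun Z : Set ↥(f.fiber w) => topologicalKrullDim ↥Z) ''
        irreducibleComponents ↥(f.fiber w) → ∃ n : ℕ, n ≤ N ∧ d = n := by
    intro w hw d hd
    rw [mem_dims_iff] at hd
    obtain ⟨ζ, hfζ, -, hdζ⟩ := hd
    obtain ⟨k, hk⟩ := Groth.Agent.H1.CMQF.exists_nat_fibreDimAt f ζ
    have hζW : ζ ∈ (f ⁻¹ᵁ W : Set X) := by
      show f.base ζ ∈ W
      rw [hfζ]; exact hw
    have h1 : FlatMor.fibreDimAt f ζ ≤ (N : WithBot ℕ∞) := hN hζW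
    rw [hk] at h1
    refine ⟨k, by exact_mod_cast h1, ?_⟩
    rw [← hdζ, hk]
  ext d
  constructor
  · intro hd
    obtain ⟨n, hn, rfl⟩ := hnat z hzW d hd
    exact (hzA' n hn).mp hd
  · intro hd
    obtain ⟨n, hn, rfl⟩ := hnat y hyW d hd
    exact (hzA' n hn).mpr hd

end Groth.Agent.H1.FibComp
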