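import Mathlib
import Groth.Prelude.Def_Curv2
import Groth.Agent.Lib.Helper1.GeomConnSch2
import Groth.Agent.Lib.Helper1.EtRootSch

/-! Helper1: geometric connectedness of a fibre tested on étale neighbourhoods
(Stacks 055G-ish / EGA IV 15.5.?). -/

set_option autoImplicit false
set_option linter.style.haveILetI false
universe u
open CategoryTheory CategoryTheory.Limits AlgebraicGeometry IsLocalRing TensorProduct TopologicalSpace
  Polynomial

namespace Groth.Agent.H1.FibGeomConn

open Groth.Agent.H1.BCTower Groth.Agent.H1.GeomConnSch

/-- a finite separable extension embeds in any extension containing a root of the minimal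
polynomial of a primitive element. -/
theorem exists_algHom_of_root (k k' K : Type u) [Field k] [Field k'] [Field K] [Algebra k k']
    [Algebra k K] (α : k') (hα : IntermediateField.adjoin k {α} = ⊤) (hint : IsIntegral k α)
    (θ : K) (hθ : ((minpoly k α).map (algebraMap k K)).eval θ = 0) :
    Nonempty (k' →ₐ[k] K) := by
  have hmem : θ ∈ (minpoly k α).aroots K := by
    rw [Polynomial.mem_aroots]
    refine ⟨minpoly.ne_zero hint, ?_⟩
    rw [Polynomial.aeval_def, Polynomial.eval₂_eq_eval_map]
    exact hθ
  let φ₁ : IntermediateField.adjoin k {α} →ₐ[k] K :=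
    (IntermediateField.algHomAdjoinIntegralEquiv k hint).symm ⟨θ, hmem⟩
  let e : k' ≃ₐ[k] IntermediateField.adjoin k {α} :=
    (IntermediateField.topEquiv (F := k) (E := k')).symm.trans
      (IntermediateField.equivOfEq hα.symm)
  exact ⟨φ₁.comp e.toAlgHom⟩

theorem s1355 {X S : Scheme.{u}} (f : X ⟶ S) (s : S) :
    GeometricallyConnected (f.fiberToSpecResidueField s) ↔
      ∀ (U : Scheme.{u}) (g : U ⟶ S) (u : U), Etale g → g u = s →
        ConnectedSpace ↑((pullback.snd f g).fiber u) := by
  constructor
  · intro hgc U g u _ hu
    subst hu
    have hpb := isPullback_fiberToSpecResidueField_of_isPullback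
      (IsPullback.of_hasPullback f g) u
    haveI : GeometricallyConnected ((pullback.snd f g).fiberToSpecResidueField u) :=
      MorphismProperty.of_isPullback hpb hgc
    haveI : Subsingleton ↥(Spec (U.residueField u)) :=
      inferInstanceAs (Subsingleton (PrimeSpectrum (U.residueField u)))
    haveI : Nonempty ↥(Spec (U.residueField u)) :=
      inferInstanceAs (Nonempty (PrimeSpectrum (U.residueField u)))
    exact GeometricallyConnected.connectedSpace_of_subsingleton
      (f := (pullback.snd f g).fiberToSpecResidueField u)
  · intro hyp
    letI : (f.fiber s).Over (Spec (CommRingCat.of (S.residueField s))) :=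
      ⟨f.fiberToSpecResidueField s⟩
    show GeometricallyConnected ((f.fiber s) ↘ Spec (CommRingCat.of (S.residueField s)))
    refine (s7591 (S.residueField s) (f.fiber s)).mpr ?_
    intro k' _ _ _ _
    obtain ⟨α, hα⟩ := Field.exists_primitive_element (S.residueField s) k'
    have hint : IsIntegral (S.residueField s) α := Algebra.IsIntegral.isIntegral α
    have hdeg : (minpoly (S.residueField s) α).natDegree ≠ 0 :=
      (minpoly.natDegree_pos hint).ne'
    obtain ⟨U, g, u, h, hg, θ, hθ⟩ := EtRootSch.exists_etale_root s
      (minpoly (S.residueField s) α) (minpoly.monic hint)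
      (Algebra.IsSeparable.isSeparable (S.residueField s) α) hdeg
    subst h
    rw [Scheme.residueFieldCongr_refl] at hθ
    letI : Algebra (S.residueField (g u)) (U.residueField u) :=
      (g.residueFieldMap u).hom.toAlgebra
    have hθ' : ((minpoly (S.residueField (g u)) α).map
        (algebraMap (S.residueField (g u)) (U.residueField u))).eval θ = 0 := by
      convert hθ using 2
      rw [Iso.refl_inv, Category.id_comp]
      rfl
    obtain ⟨φ⟩ := exists_algHom_of_root (S.residueField (g u)) k' (U.residueField u) α hα hint θ hθ'
    letI : Algebra k' (U.residueField u) := φ.toRingHom.toAlgebra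
    haveI : IsScalarTower (S.residueField (g u)) k' (U.residueField u) :=
      IsScalarTower.of_algebraMap_eq fun c => (φ.commutes c).symm
    haveI hconn : ConnectedSpace ↑((pullback.snd f g).fiber u) := hyp U g u hg rfl
    have hpb := isPullback_fiberToSpecResidueField_of_isPullback
      (IsPullback.of_hasPullback f g) u
    haveI : ConnectedSpace ↥(Curv2.bc (S.residueField (g u)) (f.fiber (g u))
        (U.residueField u)) := by
      have e := hpb.isoPullback
      show ConnectedSpace ↥(pullback (f.fiberToSpecResidueField (g u))
        (Spec.map (g.residueFieldMap u)))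
      exact e.hom.homeomorph.connectedSpace_iff.mp hconn
    exact (towerMap (S.residueField (g u)) (f.fiber (g u)) k'
      (U.residueField u)).surjective.connectedSpace
        (towerMap (S.residueField (g u)) (f.fiber (g u)) k' (U.residueField u)).continuous

end Groth.Agent.H1.FibGeomConn
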