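import Mathlib

/-! Helper1: fibrewise Nakayama — a finite `B`-module all of whose fibres over `Spec A` vanish is
zero. -/

set_option autoImplicit false

universe u v w

open TensorProduct

namespace Groth.Agent.H1.FibreNak

variable {A : Type u} {B : Type v} [CommRing A] [CommRing B] [Algebra A B]
  (N : Type w) [AddCommGroup N] [Module B N] [Module A N] [IsScalarTower A B N]

/-- if the fibre of `N` over `q ∩ A` vanishes then `κ(q) ⊗_B N` vanishes. -/
theorem subsingleton_residueField_tensor (q : Ideal B) [q.IsPrime]
    (h : Subsingleton ((q.comap (algebraMap A B)).ResidueField ⊗[A] N)) :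
    Subsingleton (q.ResidueField ⊗[B] N) := by
  set p := q.comap (algebraMap A B) with hp
  let f : A →+* q.ResidueField := (algebraMap B q.ResidueField).comp (algebraMap A B)
  let φ : p.ResidueField →+* q.ResidueField :=
    Ideal.ResidueField.lift p f (by
      intro a ha
      rw [RingHom.mem_ker]
      change algebraMap B q.ResidueField (algebraMap A B a) = 0
      rw [Ideal.algebraMap_residueField_eq_zero]
      exact ha) (by
      intro a ha
      rw [Submonoid.mem_comap, IsUnit.mem_submonoid_iff, isUnit_iff_ne_zero]
      intro h0
      apply ha
      change algebraMap A B a ∈ q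
      rw [← Ideal.algebraMap_residueField_eq_zero]
      exact h0)
  letI : Algebra p.ResidueField q.ResidueField := φ.toAlgebra
  haveI : IsScalarTower A p.ResidueField q.ResidueField := by
    refine IsScalarTower.of_algebraMap_eq fun a => ?_
    rw [IsScalarTower.algebraMap_apply A B q.ResidueField]
    exact (Ideal.ResidueField.lift_algebraMap (I := p) f _ _ a).symm
  let e := AlgebraTensorModule.cancelBaseChange A p.ResidueField q.ResidueField q.ResidueField N
  haveI : Subsingleton (q.ResidueField ⊗[A] N) := e.symm.toEquiv.subsingleton
  exact (TensorProduct.mapOfCompatibleSMul_surjective B A B q.ResidueField N).subsingleton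

/-- **fibrewise Nakayama**: a finite `B`-module whose fibres over all primes of `A` vanish is
zero. -/
theorem subsingleton_of_fibres [Module.Finite B N]
    (h : ∀ p : PrimeSpectrum A, Subsingleton (p.asIdeal.ResidueField ⊗[A] N)) :
    Subsingleton N := by
  rw [← Module.support_eq_empty_iff (R := B)]
  ext q
  simp only [Set.mem_empty_iff_false, iff_false]
  rw [Module.mem_support_iff_nontrivial_residueField_tensorProduct, not_nontrivial_iff_subsingleton]
  exact subsingleton_residueField_tensor N q.asIdeal
    (h ⟨q.asIdeal.comap (algebraMap A B), inferInstance⟩)

end Groth.Agent.H1.FibreNak
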