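import Groth.Agent.Lib.Helper2.RDer6
import Groth.Prelude.Def_SpSeq
import Mathlib.CategoryTheory.Abelian.Injective.Resolution
import Mathlib.Algebra.Homology.QuasiIso

set_option autoImplicit false

open CategoryTheory CategoryTheory.Limits Groth.Agent.H2.RDer ZeroObject

namespace Groth.Agent.H1.FilInjRes

universe u v

variable {C : Type u} [Category.{v} C] [Abelian C]

lemma isIso_of_isZero {D : Type*} [Category D] {X Y : D} (hX : IsZero X) (hY : IsZero Y)
    (f : X ⟶ Y) : IsIso f :=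
  ⟨⟨hY.to_ X, hX.eq_of_src _ _, hY.eq_of_src _ _⟩⟩

lemma injective_of_isZero {X : C} (h : IsZero X) : Injective X :=
  ⟨fun _ f _ => ⟨0, h.eq_of_tgt _ _⟩⟩

lemma subobject_eq_bot_of_isZero {D : Type*} [Category D] [HasZeroMorphisms D] [HasZeroObject D]
    {B : D} (hB : IsZero B) (S : Subobject B) : S = ⊥ := by
  rw [← Subobject.mk_arrow S, Subobject.mk_eq_bot_iff_zero]
  exact hB.eq_of_tgt _ _

lemma isZero_of_eq_bot {D : Type*} [Category D] [HasZeroMorphisms D] [HasZeroObject D]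
    {B : D} (S : Subobject B) (h : S = ⊥) : IsZero (S : D) := by
  subst h
  exact (isZero_zero _).of_iso Subobject.botCoeIsoZero

variable (K : SpSeq.FilObj C)

/-- The property required of a step of the filtration of the resolution. -/
def P {Y : CochainComplex C ℕ} (ιX : (CochainComplex.single₀ C).obj K.obj ⟶ Y) (i : ℤ)
    (S : Subobject Y) : Prop :=
  (∀ j : ℕ, Injective ((S : CochainComplex C ℕ).X j)) ∧
    ∃ ι : (CochainComplex.single₀ C).obj (K.step i) ⟶ (S : CochainComplex C ℕ),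
      ι ≫ S.arrow = (CochainComplex.single₀ C).map (K.fil i).arrow ≫ ιX ∧ QuasiIso ι

lemma P_mk {Y : CochainComplex C ℕ} (ιX : (CochainComplex.single₀ C).obj K.obj ⟶ Y) (i : ℤ)
    {Z : CochainComplex C ℕ} (j : Z ⟶ Y) [Mono j] (hZ : ∀ k, Injective (Z.X k))
    (ι₀ : (CochainComplex.single₀ C).obj (K.step i) ⟶ Z) [QuasiIso ι₀]
    (h : ι₀ ≫ j = (CochainComplex.single₀ C).map (K.fil i).arrow ≫ ιX) :
    P K ιX i (Subobject.mk j) := by
  refine ⟨fun k => ?_, ι₀ ≫ (Subobject.underlyingIso j).inv, ?_, inferInstance⟩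
  · exact Injective.of_iso
      ((HomologicalComplex.eval C (ComplexShape.up ℕ) k).mapIso (Subobject.underlyingIso j)).symm
      (hZ k)
  · rw [Category.assoc, Subobject.underlyingIso_arrow, h]

lemma P_top {Y : CochainComplex C ℕ} (ιX : (CochainComplex.single₀ C).obj K.obj ⟶ Y)
    [QuasiIso ιX] (hY : ∀ k, Injective (Y.X k)) (i : ℤ) (hi : K.fil i = ⊤) :
    P K ιX i ⊤ := by
  haveI : IsIso (K.fil i).arrow := (Subobject.isIso_arrow_iff_eq_top _).2 hi
  rw [← Subobject.mk_eq_top_of_isIso (𝟙 Y)]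
  exact P_mk K ιX i (𝟙 Y) hY ((CochainComplex.single₀ C).map (K.fil i).arrow ≫ ιX)
    (Category.comp_id _)

lemma P_bot {Y : CochainComplex C ℕ} (ιX : (CochainComplex.single₀ C).obj K.obj ⟶ Y)
    (i : ℤ) (hi : K.fil i = ⊥) : P K ιX i ⊥ := by
  have hS : IsZero ((⊥ : Subobject Y) : CochainComplex C ℕ) :=
    (isZero_zero _).of_iso Subobject.botCoeIsoZero
  have hsrc : IsZero ((CochainComplex.single₀ C).obj (K.step i)) :=
    (CochainComplex.single₀ C).map_isZero (isZero_of_eq_bot (K.fil i) hi)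
  refine ⟨fun k => injective_of_isZero
    ((HomologicalComplex.eval C (ComplexShape.up ℕ) k).map_isZero hS), 0, hsrc.eq_of_src _ _, ?_⟩
  haveI : IsIso (0 : (CochainComplex.single₀ C).obj (K.step i) ⟶
      ((⊥ : Subobject Y) : CochainComplex C ℕ)) := isIso_of_isZero hsrc hS _
  infer_instance

variable [EnoughInjectives C] (b : ℤ)

lemma idx_le (n : ℕ) : b - ((n + 1 : ℕ) : ℤ) ≤ b - (n : ℤ) := by push_cast; omega

lemma idx_anti {m n : ℕ} (h : m ≤ n) : b - (n : ℤ) ≤ b - (m : ℤ) := by omega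

/-- The short exact sequence `F^{p+1} → F^p → gr^p`. -/
@[reducible] noncomputable def SC (n : ℕ) : ShortComplex C :=
  ShortComplex.mk (K.stepLE (idx_le b n)) (cokernel.π _) (cokernel.condition _)

lemma SC_shortExact (n : ℕ) : (SC K b n).ShortExact := by
  have h1 : (SC K b n).Exact :=
    ShortComplex.exact_of_g_is_cokernel (SC K b n) (cokernelIsCokernel (K.stepLE (idx_le b n)))
  haveI : Mono (SC K b n).f := inferInstanceAs (Mono (K.stepLE (idx_le b n)))
  haveI : Epi (SC K b n).g := inferInstanceAs (Epi (cokernel.π (K.stepLE (idx_le b n))))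
  exact ShortComplex.ShortExact.mk' h1 ‹_› ‹_›

noncomputable def R₃ (n : ℕ) : InjectiveResolution (cokernel (K.stepLE (idx_le b n))) :=
  InjectiveResolution.of _

/-- The tower of resolutions. -/
noncomputable def T (n : ℕ) : InjectiveResolution (K.step (b - (n : ℤ))) :=
  Nat.rec (motive := fun n => InjectiveResolution (K.step (b - (n : ℤ))))
    (InjectiveResolution.of _)
    (fun n Tn => HS.res₂ (SC_shortExact K b n) Tn (R₃ K b n)) n

noncomputable def φ (n : ℕ) : (T K b n).cocomplex ⟶ (T K b (n + 1)).cocomplex :=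
  HS.φ₁ (SC_shortExact K b n) (T K b n) (R₃ K b n)

lemma ι_φ (n : ℕ) : (T K b n).ι ≫ φ K b n =
    (CochainComplex.single₀ C).map (K.stepLE (idx_le b n)) ≫ (T K b (n + 1)).ι := by
  apply HomologicalComplex.from_single_hom_ext
  rw [HomologicalComplex.comp_f, HomologicalComplex.comp_f, CochainComplex.single₀_map_f_zero]
  exact HS.comm₁ (SC_shortExact K b n) (T K b n) (R₃ K b n)

instance mono_φ (n : ℕ) : Mono (φ K b n) := by
  haveI : ∀ k, Mono ((φ K b n).f k) := fun k =>
    inferInstanceAs (Mono (biprod.inl : (T K b n).cocomplex.X k ⟶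
      (T K b n).cocomplex.X k ⊞ (R₃ K b n).cocomplex.X k))
  exact HomologicalComplex.mono_of_mono_f (φ K b n) this

noncomputable def ψ {m n : ℕ} (h : m ≤ n) : (T K b m).cocomplex ⟶ (T K b n).cocomplex :=
  Nat.leRecOn (C := fun k => ((T K b m).cocomplex ⟶ (T K b k).cocomplex)) h
    (fun {k} f => f ≫ φ K b k) (𝟙 _)

lemma ψ_self (m : ℕ) : ψ K b (le_refl m) = 𝟙 _ := Nat.leRecOn_self _

lemma ψ_succ {m n : ℕ} (h : m ≤ n) :
    ψ K b (Nat.le_succ_of_le h) = ψ K b h ≫ φ K b n := Nat.leRecOn_succ h _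

lemma mono_ψ {m n : ℕ} (h : m ≤ n) : Mono (ψ K b h) := by
  induction n, h using Nat.le_induction with
  | base => rw [ψ_self]; infer_instance
  | succ n h ih =>
    rw [ψ_succ K b h]
    haveI := ih
    exact mono_comp _ _

lemma ψ_trans {m n k : ℕ} (h1 : m ≤ n) (h2 : n ≤ k) :
    ψ K b h1 ≫ ψ K b h2 = ψ K b (h1.trans h2) := by
  induction k, h2 using Nat.le_induction with
  | base => rw [ψ_self, Category.comp_id]
  | succ k h2 ih =>
    rw [ψ_succ K b h2, ← Category.assoc, ih]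
    exact (ψ_succ K b (h1.trans h2)).symm

lemma ι_ψ {m n : ℕ} (h : m ≤ n) : (T K b m).ι ≫ ψ K b h =
    (CochainComplex.single₀ C).map (K.stepLE (idx_anti b h)) ≫ (T K b n).ι := by
  induction n, h using Nat.le_induction with
  | base =>
    rw [ψ_self, Category.comp_id]
    have e : K.stepLE (idx_anti b (le_refl m)) = 𝟙 _ := Subobject.ofLE_refl _
    rw [e, CategoryTheory.Functor.map_id, Category.id_comp]
  | succ n h ih =>
    rw [ψ_succ K b h, ← Category.assoc, ih, Category.assoc, ι_φ, ← Category.assoc,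
      ← Functor.map_comp]
    congr 2
    exact Subobject.ofLE_comp_ofLE _ _ _ _ _

/-- The filtration steps of the top resolution. -/
noncomputable def GN (N m : ℕ) : Subobject (T K b N).cocomplex :=
  if h : m ≤ N then @Subobject.mk _ _ _ _ (ψ K b h) (mono_ψ K b h) else ⊤

lemma GN_eq {N m : ℕ} (h : m ≤ N) :
    GN K b N m = @Subobject.mk _ _ _ _ (ψ K b h) (mono_ψ K b h) := dif_pos h

lemma GN_le {N m m' : ℕ} (h : m ≤ m') (h' : m' ≤ N) : GN K b N m ≤ GN K b N m' := by
  rw [GN_eq K b (h.trans h'), GN_eq K b h']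
  haveI := mono_ψ K b (h.trans h')
  haveI := mono_ψ K b h'
  exact Subobject.mk_le_mk_of_comm (ψ K b h) (ψ_trans K b h h')

/-- The resolution of `K.obj` obtained from a resolution of a step equal to `⊤`. -/
noncomputable def resTop {p : ℤ} (hp : K.fil p = ⊤) (R : InjectiveResolution (K.step p)) :
    InjectiveResolution K.obj :=
  haveI : IsIso (K.fil p).arrow := (Subobject.isIso_arrow_iff_eq_top _).2 hp
  { cocomplex := R.cocomplex
    injective := R.injective
    ι := (CochainComplex.single₀ C).map (inv (K.fil p).arrow) ≫ R.ι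
    quasiIso := inferInstance }

lemma P_mid (N : ℕ) (hp : K.fil (b - (N : ℤ)) = ⊤) {m : ℕ} (hm : m ≤ N) :
    P K (resTop K hp (T K b N)).ι (b - (m : ℤ)) (GN K b N m) := by
  haveI : IsIso (K.fil (b - (N : ℤ))).arrow := (Subobject.isIso_arrow_iff_eq_top _).2 hp
  rw [GN_eq K b hm]
  haveI := mono_ψ K b hm
  refine P_mk K _ _ (ψ K b hm) (T K b m).injective (T K b m).ι ?_
  rw [ι_ψ]
  change _ = _ ≫ (CochainComplex.single₀ C).map (inv (K.fil (b - (N : ℤ))).arrow) ≫ (T K b N).ι
  rw [← Category.assoc, ← Functor.map_comp]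
  congr 2
  rw [IsIso.eq_comp_inv]
  exact Subobject.ofLE_arrow _

/-- The zero resolution of a zero object. -/
noncomputable def zeroRes (hz : IsZero K.obj) : InjectiveResolution K.obj where
  cocomplex := 0
  injective n := injective_of_isZero
    ((HomologicalComplex.eval C (ComplexShape.up ℕ) n).map_isZero (isZero_zero _))
  ι := 0
  quasiIso := by
    haveI : IsIso (0 : (CochainComplex.single₀ C).obj K.obj ⟶ (0 : CochainComplex C ℕ)) :=
      isIso_of_isZero ((CochainComplex.single₀ C).map_isZero hz) (isZero_zero _) _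
    infer_instance

open Classical in
theorem main (hK : K.IsFinite) :
    ∃ (X : InjectiveResolution K.obj) (G : ℤ → Subobject X.cocomplex), Antitone G ∧
      (∀ i : ℤ, K.fil i = ⊤ → G i = ⊤) ∧ (∀ i : ℤ, K.fil i = ⊥ → G i = ⊥) ∧
      ∀ i : ℤ, (∀ j : ℕ, Injective ((G i : CochainComplex C ℕ).X j)) ∧
        ∃ ι : (CochainComplex.single₀ C).obj (K.step i) ⟶ (G i : CochainComplex C ℕ),
          ι ≫ (G i).arrow = (CochainComplex.single₀ C).map (K.fil i).arrow ≫ X.ι ∧ QuasiIso ι := by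
  by_cases hz : IsZero K.obj
  · have hbot : ∀ i, K.fil i = ⊥ := fun i => subobject_eq_bot_of_isZero hz _
    refine ⟨zeroRes K hz, fun _ => ⊥, fun _ _ _ => le_rfl,
      fun _ _ => (subobject_eq_bot_of_isZero (isZero_zero _) ⊤).symm, fun _ _ => rfl, fun i => ?_⟩
    exact P_bot K (zeroRes K hz).ι i (hbot i)
  · obtain ⟨⟨a₀, ha₀⟩, ⟨b, hb⟩⟩ := hK
    have hne : (⊤ : Subobject K.obj) ≠ ⊥ := by
      intro h
      apply hz
      have h1 : IsZero ((⊤ : Subobject K.obj) : C) := isZero_of_eq_bot _ h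
      exact h1.of_iso (asIso (⊤ : Subobject K.obj).arrow).symm
    obtain ⟨a, hab, ha⟩ : ∃ a : ℤ, a ≤ b ∧ K.fil a = ⊤ :=
      ⟨min a₀ b, min_le_right _ _, top_le_iff.1 (ha₀ ▸ K.anti (min_le_left a₀ b))⟩
    obtain ⟨N, hN⟩ : ∃ N : ℕ, b - (N : ℤ) = a := ⟨(b - a).toNat, by omega⟩
    have hp : K.fil (b - (N : ℤ)) = ⊤ := by rw [hN]; exact ha
    have hlo : ∀ i : ℤ, K.fil i ≠ ⊤ → a < i := fun i hi => by
      by_contra hcon
      exact hi (top_le_iff.1 (ha ▸ K.anti (not_lt.1 hcon)))
    have hhi : ∀ i : ℤ, K.fil i ≠ ⊥ → i < b := fun i hi => by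
      by_contra hcon
      exact hi (le_bot_iff.1 (hb ▸ K.anti (not_lt.1 hcon)))
    obtain ⟨G, hG⟩ : ∃ G : ℤ → Subobject (T K b N).cocomplex, ∀ i, G i =
        if K.fil i = ⊤ then ⊤ else if K.fil i = ⊥ then ⊥ else GN K b N (b - i).toNat :=
      ⟨fun i => _, fun i => rfl⟩
    have hGtop : ∀ i, K.fil i = ⊤ → G i = ⊤ := fun i hi => by rw [hG, if_pos hi]
    have hGbot : ∀ i, K.fil i = ⊥ → G i = ⊥ := fun i hi => by
      rw [hG, if_neg (fun h => hne (h.symm.trans hi)), if_pos hi]
    have hGmid : ∀ i, K.fil i ≠ ⊤ → K.fil i ≠ ⊥ → G i = GN K b N (b - i).toNat :=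
      fun i h1 h2 => by rw [hG, if_neg h1, if_neg h2]
    refine ⟨resTop K hp (T K b N), G, ?_, hGtop, hGbot, fun i => ?_⟩
    · intro i j hij
      by_cases hiT : K.fil i = ⊤
      · rw [hGtop i hiT]; exact le_top
      by_cases hjB : K.fil j = ⊥
      · rw [hGbot j hjB]; exact bot_le
      have hjT : K.fil j ≠ ⊤ := fun h => hiT (top_le_iff.1 (h ▸ K.anti hij))
      have hiB : K.fil i ≠ ⊥ := fun h => hjB (le_bot_iff.1 (h ▸ K.anti hij))
      rw [hGmid i hiT hiB, hGmid j hjT hjB]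
      have h1 := hlo i hiT
      have h2 := hhi j hjB
      exact GN_le K b (by omega) (by omega)
    · show P K (resTop K hp (T K b N)).ι i (G i)
      by_cases hiT : K.fil i = ⊤
      · rw [hGtop i hiT]
        exact P_top K (resTop K hp (T K b N)).ι (resTop K hp (T K b N)).injective i hiT
      by_cases hiB : K.fil i = ⊥
      · rw [hGbot i hiB]
        exact P_bot K _ i hiB
      rw [hGmid i hiT hiB]
      have h1 := hlo i hiT
      have h2 := hhi i hiB
      have key : ∀ (m : ℕ) (_ : m ≤ N) (i : ℤ), i = b - (m : ℤ) →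
          P K (resTop K hp (T K b N)).ι i (GN K b N m) := by
        rintro m hm i rfl
        exact P_mid K b N hp hm
      exact key _ (by omega) i (by omega)

end Groth.Agent.H1.FilInjRes
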