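import Mathlib
import Groth.Prelude.Def_CGrpSh
import Groth.Agent.H4.SmRed2

set_option autoImplicit false
universe u

namespace Groth.Agent.H1.FinConnGrp

open CategoryTheory AlgebraicGeometry CategoryTheory.Limits MonObj MonoidalCategory
  CartesianMonoidalCategory Opposite

/-- A surjective closed immersion `η : Z ⟶ Y`: every morphism from a reduced scheme to `Y`
factors through `η`. -/
theorem exists_lift_of_surjective_closedImmersion {Z Y T : Scheme.{u}} (i : Z ⟶ Y)
    [IsClosedImmersion i] (hsurj : Function.Surjective i.base) [IsReduced T] (u : T ⟶ Y) :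
    ∃ w : T ⟶ Z, w ≫ i = u := by
  have H : i.ker ≤ u.ker := by
    refine Scheme.IdealSheafData.le_ofIdeals_iff.mpr ?_
    intro W a ha
    rw [Scheme.Hom.ker_apply] at ha
    have ha0 : i.app W.1 a = 0 := ha
    show a ∈ RingHom.ker (u.app W.1).hom
    rw [RingHom.mem_ker]
    have hbot : Y.basicOpen a = ⊥ := by
      rw [eq_bot_iff]
      intro y hy
      obtain ⟨s, rfl⟩ := hsurj y
      have h1 : s ∈ i ⁻¹ᵁ Y.basicOpen a := hy
      rw [Scheme.preimage_basicOpen, ha0, Scheme.basicOpen_zero] at h1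
      exact h1
    have h2 : T.basicOpen (u.app W.1 a) = ⊥ := by
      rw [← Scheme.preimage_basicOpen, hbot]
      rfl
    exact (basicOpen_eq_bot_iff _).mp h2
  exact ⟨IsClosedImmersion.lift i u H, IsClosedImmersion.lift_fac i u H⟩

variable {S : Scheme.{u}}

/-- the unit section of a finite group scheme with connected fibres is surjective. -/
theorem unit_surjective (I : Over S) [GrpObj I] [IsFinite I.hom]
    (hconn : ∀ s : S, ConnectedSpace ↥(I.hom.fiber s)) :
    Function.Surjective (η[I] : 𝟙_ (Over S) ⟶ I).left.base := by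
  intro y
  have hw : (η[I] : 𝟙_ (Over S) ⟶ I).left ≫ I.hom = 𝟙 S := Over.w (η[I] : 𝟙_ (Over S) ⟶ I)
  let s : S := I.hom.base y
  refine ⟨s, ?_⟩
  have h1 : y ∈ I.hom.base ⁻¹' {s} := rfl
  have h2 : (η[I] : 𝟙_ (Over S) ⟶ I).left.base s ∈ I.hom.base ⁻¹' {s} := by
    show I.hom.base ((η[I] : 𝟙_ (Over S) ⟶ I).left.base s) = s
    rw [← Scheme.Hom.comp_apply, hw]
    rfl
  rw [← Scheme.Hom.range_fiberι] at h1 h2
  obtain ⟨a, ha⟩ := h1
  obtain ⟨b, hb⟩ := h2
  haveI := hconn s
  haveI : DiscreteTopology ↥(I.hom.fiber s) := inferInstance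
  haveI : Subsingleton ↥(I.hom.fiber s) := PreconnectedSpace.trivial_of_discrete
  rw [← ha, ← hb, Subsingleton.elim a b]

/-- every point of `I` with values in a reduced `S`-scheme is trivial. -/
theorem eq_one_of_isReduced (I : Over S) [GrpObj I] [IsFinite I.hom]
    (hconn : ∀ s : S, ConnectedSpace ↥(I.hom.fiber s)) (T : Over S) [IsReduced T.left]
    (u : T ⟶ I) : u = 1 := by
  have hw : (η[I] : 𝟙_ (Over S) ⟶ I).left ≫ I.hom = 𝟙 S := Over.w (η[I] : 𝟙_ (Over S) ⟶ I)
  haveI : IsClosedImmersion ((η[I] : 𝟙_ (Over S) ⟶ I).left ≫ I.hom) := by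
    have h0 : IsClosedImmersion (𝟙 S) := inferInstance
    rw [hw]; exact h0
  haveI : IsClosedImmersion (η[I] : 𝟙_ (Over S) ⟶ I).left :=
    IsClosedImmersion.of_comp (η[I] : 𝟙_ (Over S) ⟶ I).left I.hom
  obtain ⟨w, hwu⟩ := exists_lift_of_surjective_closedImmersion (η[I] : 𝟙_ (Over S) ⟶ I).left
    (unit_surjective I hconn) u.left
  have hwT : w = T.hom := by
    have h1 : w ≫ (η[I] : 𝟙_ (Over S) ⟶ I).left ≫ I.hom = u.left ≫ I.hom := by
      rw [← Category.assoc, hwu]
    rw [hw] at h1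
    have h2 : w = u.left ≫ I.hom := (Category.comp_id w).symm.trans h1
    rw [h2]; exact Over.w u
  rw [Hom.one_def]
  apply Over.OverMorphism.ext
  rw [Over.comp_left, ← hwu, hwT]
  congr 1

theorem main (S : Scheme.{u}) [IsReduced S]
    (I : Over S) [GrpObj I] [IsCommMonObj I] [IsFinite I.hom]
    (hconn : ∀ s : S, ConnectedSpace ↥(I.hom.fiber s)) :
    IsZero ((BigSite.resEt Scheme.fppfPrecoverage S).obj
      (CGrpSh.pts Scheme.fppfPrecoverage I)) := by
  rw [IsZero.iff_id_eq_zero]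
  apply Sheaf.hom_ext
  apply NatTrans.ext
  funext U
  apply AddCommGrpCat.hom_ext
  ext x
  show x = 0
  let T : Over S := (EtFppf.a S).obj U.unop
  haveI : Etale T.hom := U.unop.prop
  haveI : IsReduced T.left := Groth.Agent.H4.SmRed.isReduced_of_smooth_scheme T.hom
  have hx : (x : ULift.{u + 1} (Additive (T ⟶ I))).down.toMul = 1 :=
    eq_one_of_isReduced I hconn T _
  apply ULift.ext
  exact congrArg Additive.ofMul hx

end Groth.Agent.H1.FinConnGrp
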