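import Mathlib

set_option autoImplicit false
universe u
open CategoryTheory AlgebraicGeometry TopologicalSpace Opposite

namespace Groth.Agent.H1.FinExt

/-! ### Algebra -/

/-- `R → C` ring map, `r : R`, `C_r` finite over `R_r`: finitely many `R`-integral elements of `C`
generate `C` up to powers of `r`. -/
theorem exists_finset_integral {R C R' C' : Type*} [CommRing R] [CommRing C] [CommRing R']
    [CommRing C'] [Algebra R C] [Algebra R R'] [Algebra C C'] [Algebra R' C'] [Algebra R C']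
    [IsScalarTower R C C'] [IsScalarTower R R' C'] (r : R)
    [IsLocalization.Away r R'] [IsLocalization.Away (algebraMap R C r) C']
    [Module.Finite R' C'] :
    ∃ T : Finset C, (∀ t ∈ T, IsIntegral R t) ∧
      ∀ S : Subring C, (∀ x, algebraMap R C x ∈ S) → (↑T ⊆ (S : Set C)) →
        ∀ c : C, ∃ N : ℕ, algebraMap R C r ^ N * c ∈ S := by
  classical
  haveI hloc : IsLocalization (Algebra.algebraMapSubmonoid C (Submonoid.powers r)) C' := by
    rw [Algebra.algebraMapSubmonoid_powers]; infer_instance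
  obtain ⟨v, hv⟩ := (IsLocalization.Away.algebraMap_isUnit (S := R') r).exists_right_inv
  have hū : algebraMap R C' r * algebraMap R' C' v = 1 := by
    rw [IsScalarTower.algebraMap_apply R R' C', ← map_mul, hv, map_one]
  have hCr : algebraMap C C' (algebraMap R C r) = algebraMap R C' r :=
    (IsScalarTower.algebraMap_apply R C C' r).symm
  have hsm : ∀ (x : R) (z : C), algebraMap C C' (x • z) = algebraMap R C' x * algebraMap C C' z := by
    intro x z
    rw [Algebra.smul_def, map_mul, ← IsScalarTower.algebraMap_apply]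
  have step1 : ∀ y : C', ∃ t : C, IsIntegral R t ∧
      y ∈ Submodule.span R' {algebraMap C C' t} := by
    intro y
    obtain ⟨n, c, hc⟩ := IsLocalization.Away.surj (algebraMap R C r) y
    have hint : IsIntegral R' (algebraMap C C' c) := Algebra.IsIntegral.isIntegral _
    obtain ⟨⟨m, hm'⟩, hm⟩ := IsIntegral.exists_multiple_integral_of_isLocalization
      (Submonoid.powers r) (algebraMap C C' c) hint
    obtain ⟨k, rfl⟩ := (Submonoid.mem_powers_iff _ _).mp hm'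
    have e1 : (⟨r ^ k, hm'⟩ : Submonoid.powers r) • algebraMap C C' c =
        algebraMap C C' (r ^ k • c) := by
      rw [Submonoid.mk_smul, hsm, Algebra.smul_def]
    rw [e1] at hm
    obtain ⟨m2, hm2, hint2⟩ :=
      IsLocalization.exists_isIntegral_smul_of_isIntegral_map (Submonoid.powers r) hm
    obtain ⟨k', rfl⟩ := (Submonoid.mem_powers_iff _ _).mp hm2
    refine ⟨r ^ k' • r ^ k • c, hint2, Submodule.mem_span_singleton.mpr ⟨v ^ (k' + k + n), ?_⟩⟩
    rw [Algebra.smul_def, hsm, hsm, ← hc, hCr]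
    simp only [map_pow]
    have : algebraMap R' C' v ^ (k' + k + n) * (algebraMap R C' r ^ k' *
        (algebraMap R C' r ^ k * (y * algebraMap R C' r ^ n))) =
        y * (algebraMap R C' r * algebraMap R' C' v) ^ (k' + k + n) := by ring
    rw [this, hū, one_pow, mul_one]
  choose tf htf1 htf2 using step1
  obtain ⟨s0, hs0⟩ := (Module.Finite.fg_top : (⊤ : Submodule R' C').FG)
  refine ⟨s0.image tf, ?_, ?_⟩
  · intro t ht
    obtain ⟨y, -, rfl⟩ := Finset.mem_image.mp ht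
    exact htf1 y
  · intro S hS1 hS2 c
    have hspan : Submodule.span R' (algebraMap C C' '' (↑(s0.image tf) : Set C)) = ⊤ := by
      rw [eq_top_iff, ← hs0, Submodule.span_le]
      intro y hy
      have h1 : ({algebraMap C C' (tf y)} : Set C') ⊆
          algebraMap C C' '' (↑(s0.image tf) : Set C) := by
        rw [Set.singleton_subset_iff]
        exact ⟨tf y, Finset.mem_coe.mpr (Finset.mem_image_of_mem tf hy), rfl⟩
      exact Submodule.span_mono h1 (htf2 y)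
    have hmem : algebraMap C C' c ∈
        Algebra.adjoin R' (algebraMap C C' '' (↑(s0.image tf) : Set C)) := by
      have h0 : algebraMap C C' c ∈
          Submodule.span R' (algebraMap C C' '' (↑(s0.image tf) : Set C)) := by
        rw [hspan]; trivial
      exact Algebra.span_le_adjoin R' _ h0
    obtain ⟨⟨m, hm'⟩, hm⟩ := multiple_mem_adjoin_of_mem_localization_adjoin
      (Submonoid.powers r) R' _ _ hmem
    obtain ⟨k, rfl⟩ := (Submonoid.mem_powers_iff _ _).mp hm'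
    have hadj : Algebra.adjoin R (algebraMap C C' '' (↑(s0.image tf) : Set C)) =
        (Algebra.adjoin R (↑(s0.image tf) : Set C)).map (IsScalarTower.toAlgHom R C C') := by
      rw [AlgHom.map_adjoin, IsScalarTower.coe_toAlgHom']
    rw [hadj, Submonoid.mk_smul] at hm
    obtain ⟨b, hb, hbe⟩ := Subalgebra.mem_map.mp hm
    rw [IsScalarTower.toAlgHom_apply, Algebra.smul_def, ← hsm] at hbe
    obtain ⟨⟨m2, hm2⟩, hmul⟩ :=
      (IsLocalization.eq_iff_exists (Submonoid.powers (algebraMap R C r)) C').mp hbe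
    obtain ⟨l, rfl⟩ := (Submonoid.mem_powers_iff _ _).mp hm2
    have hbS : b ∈ S := by
      refine Algebra.adjoin_induction (p := fun x _ => x ∈ S) (fun x hx => hS2 hx)
        (fun x => hS1 x) (fun x y _ _ hx hy => S.add_mem hx hy)
        (fun x y _ _ hx hy => S.mul_mem hx hy) hb
    refine ⟨l + k, ?_⟩
    have hmul' : algebraMap R C r ^ l * b = algebraMap R C r ^ l * (r ^ k • c) := hmul
    have : algebraMap R C r ^ (l + k) * c = algebraMap R C r ^ l * b := by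
      rw [hmul', Algebra.smul_def, map_pow, pow_add, mul_assoc]
    rw [this]
    exact S.mul_mem (S.pow_mem (hS1 r) l) hbS

/-- a map between localizations away from an element is bijective under an injectivity and an
"up to powers" surjectivity condition. -/
theorem bijective_of_away {R S R' S' : Type*} [CommRing R] [CommRing S] [CommRing R']
    [CommRing S'] [Algebra R R'] [Algebra S S'] (ψ : R →+* S) (hψ : Function.Injective ψ) (b : R)
    [IsLocalization.Away b R'] [IsLocalization.Away (ψ b) S'] (β : R' →+* S')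
    (hβ : ∀ x, β (algebraMap R R' x) = algebraMap S S' (ψ x))
    (hS : ∀ c : S, ∃ (N : ℕ) (t : R), ψ t = ψ b ^ N * c) : Function.Bijective β := by
  have hub : IsUnit (algebraMap R R' b) := IsLocalization.Away.algebraMap_isUnit b
  obtain ⟨v, hv⟩ := hub.exists_right_inv
  have hv' : algebraMap S S' (ψ b) * β v = 1 := by rw [← hβ, ← map_mul, hv, map_one]
  constructor
  · rw [injective_iff_map_eq_zero]
    intro z hz
    obtain ⟨n, t, ht⟩ := IsLocalization.Away.surj b z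
    have h1 : algebraMap S S' (ψ t) = 0 := by rw [← hβ, ← ht, map_mul, hz, zero_mul]
    obtain ⟨⟨m, hm⟩, hmt⟩ :=
      (IsLocalization.map_eq_zero_iff (Submonoid.powers (ψ b)) S' (ψ t)).mp h1
    obtain ⟨k, rfl⟩ := (Submonoid.mem_powers_iff _ _).mp hm
    have hmt' : ψ b ^ k * ψ t = 0 := hmt
    have h2 : b ^ k * t = 0 := hψ (by rw [map_mul, map_pow, map_zero]; exact hmt')
    have h3 : algebraMap R R' t = 0 := by
      have h4 : algebraMap R R' b ^ k * algebraMap R R' t = 0 := by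
        rw [← map_pow, ← map_mul, h2, map_zero]
      exact ((hub.pow k).mul_right_eq_zero).mp h4
    rw [h3] at ht
    exact ((hub.pow n).mul_left_eq_zero).mp ht
  · intro c'
    obtain ⟨n, c, hc⟩ := IsLocalization.Away.surj (ψ b) c'
    obtain ⟨N, t, ht⟩ := hS c
    refine ⟨algebraMap R R' t * v ^ (N + n), ?_⟩
    rw [map_mul, map_pow, hβ, ht, map_mul, map_pow, ← hc]
    have : algebraMap S S' (ψ b) ^ N * (c' * algebraMap S S' (ψ b) ^ n) * β v ^ (N + n) =
        c' * (algebraMap S S' (ψ b) * β v) ^ (N + n) := by ring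
    rw [this, hv', one_pow, mul_one]

/-! ### Geometry -/

/-- a morphism with affine source and target over `U` which is an isomorphism on sections over
`U` restricts to an isomorphism over `U`. -/
theorem isIso_morphismRestrict_of_isIso_app {X Y : Scheme.{u}} (f : X ⟶ Y) {U : Y.Opens}
    (hU : IsAffineOpen U) (hfU : IsAffineOpen (f ⁻¹ᵁ U)) (h : IsIso (f.app U)) :
    IsIso (f ∣_ U) := by
  haveI : IsAffine U := hU
  haveI : IsAffine (f ⁻¹ᵁ U) := hfU
  change MorphismProperty.isomorphisms Scheme (f ∣_ U)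
  rw [HasAffineProperty.iff_of_isAffine (P := MorphismProperty.isomorphisms Scheme)]
  refine ⟨inferInstance, ?_⟩
  have e := arrowResLEAppIso f U (f ⁻¹ᵁ U) le_rfl
  rw [Scheme.Hom.resLE_eq_morphismRestrict] at e
  have h2 : IsIso (f.appLE U (f ⁻¹ᵁ U) le_rfl) := by
    rw [← Scheme.Hom.app_eq_appLE]; exact h
  exact ((MorphismProperty.isomorphisms CommRingCat).arrow_mk_iso_iff e).mpr h2

/-- compatibility of `appLE` on basic opens with restriction of global sections. -/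
theorem nat_appLE {X Y : Scheme.{u}} (f : X ⟶ Y) (b : Γ(Y, ⊤))
    (hle : X.basicOpen (f.appTop.hom b) ≤ f ⁻¹ᵁ Y.basicOpen b) (x : Γ(Y, ⊤)) :
    (f.appLE (Y.basicOpen b) (X.basicOpen (f.appTop.hom b)) hle).hom
        (algebraMap Γ(Y, ⊤) Γ(Y, Y.basicOpen b) x) =
      algebraMap Γ(X, ⊤) Γ(X, X.basicOpen (f.appTop.hom b)) (f.appTop.hom x) := by
  have hnat : Y.presheaf.map (homOfLE (Y.basicOpen_le b)).op ≫
        f.appLE (Y.basicOpen b) (X.basicOpen (f.appTop.hom b)) hle =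
      f.app ⊤ ≫ X.presheaf.map (homOfLE (X.basicOpen_le (f.appTop.hom b))).op := by
    rw [Scheme.Hom.appLE, ← Category.assoc, Scheme.Hom.naturality, Category.assoc,
      ← Functor.map_comp]
    rfl
  exact congrArg (fun q => q.hom x) hnat

/-- Local isomorphism criterion over a basic open of an affine target. -/
theorem isIso_restrict_basicOpen {X Y : Scheme.{u}} [IsAffine Y] [CompactSpace X]
    [QuasiSeparatedSpace X] (i : X ⟶ Y) (b : Γ(Y, ⊤))
    (hinj : Function.Injective i.appTop.hom)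
    (haff : IsAffineOpen (i ⁻¹ᵁ Y.basicOpen b))
    (hS : ∀ c : Γ(X, ⊤), ∃ (N : ℕ) (t : Γ(Y, ⊤)),
      i.appTop.hom t = i.appTop.hom b ^ N * c) :
    IsIso (i ∣_ Y.basicOpen b) := by
  apply isIso_morphismRestrict_of_isIso_app i ((isAffineOpen_top Y).basicOpen b) haff
  have heq : i ⁻¹ᵁ Y.basicOpen b = X.basicOpen (i.appTop.hom b) :=
    Scheme.preimage_basicOpen_top i b
  have hle : X.basicOpen (i.appTop.hom b) ≤ i ⁻¹ᵁ Y.basicOpen b := heq.ge
  have happ : i.app (Y.basicOpen b) =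
      i.appLE (Y.basicOpen b) (X.basicOpen (i.appTop.hom b)) hle ≫
        X.presheaf.map (eqToHom heq).op := by
    rw [Scheme.Hom.appLE_map, ← Scheme.Hom.app_eq_appLE]
  rw [happ]
  haveI : IsIso (i.appLE (Y.basicOpen b) (X.basicOpen (i.appTop.hom b)) hle) := by
    rw [ConcreteCategory.isIso_iff_bijective]
    haveI : IsLocalization.Away (i.appTop.hom b) Γ(X, X.basicOpen (i.appTop.hom b)) :=
      isLocalization_basicOpen_of_qcqs isCompact_univ isQuasiSeparated_univ _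
    exact bijective_of_away i.appTop.hom hinj b
      (i.appLE (Y.basicOpen b) (X.basicOpen (i.appTop.hom b)) hle).hom
      (fun x => nat_appLE i b hle x) hS
  infer_instance

/-- finiteness of `appLE` over an affine open contained in `U`. -/
theorem finite_appLE {Z X : Scheme.{u}} (U : Z.Opens) (g : X ⟶ U.toScheme) [IsFinite g]
    (V : Z.Opens) (hV : IsAffineOpen V) (hVU : V ≤ U) (V' : X.Opens)
    (he : V' = (g ≫ U.ι) ⁻¹ᵁ V) :
    ((g ≫ U.ι).appLE V V' he.le).hom.Finite := by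
  subst he
  rw [← Scheme.Hom.app_eq_appLE, Scheme.Hom.comp_app]
  have hVU' : V ≤ U.ι.opensRange := by rw [Scheme.Opens.opensRange_ι]; exact hVU
  have h1 : IsAffineOpen (U.ι ⁻¹ᵁ V) := hV.preimage_of_isOpenImmersion U.ι hVU'
  have h2 : (g.app (U.ι ⁻¹ᵁ V)).hom.Finite := IsFinite.finite_app g _ h1
  haveI : IsIso (U.ι.app V) := Scheme.Hom.isIso_app U.ι V hVU'
  have h3 : (U.ι.app V).hom.Finite :=
    RingHom.Finite.of_surjective _ (ConcreteCategory.bijective_of_isIso (U.ι.app V)).2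
  exact h2.comp h3

/-- Gluing criterion for a cartesian square over an open subscheme. -/
theorem isPullback_of_cover {X Y Z : Scheme.{u}} (i : X ⟶ Y) (f : Y ⟶ Z) (U : Z.Opens)
    (g : X ⟶ U.toScheme) (H : i ≫ f = g ≫ U.ι) {ι : Type*} (V : ι → Z.Opens)
    (hle : ∀ j, V j ≤ U) (hcov : U ≤ ⨆ j, V j)
    (hiso : ∀ j, IsIso (i ∣_ (f ⁻¹ᵁ V j))) : IsPullback i g f U.ι := by
  have hW : i ⁻¹ᵁ (f ⁻¹ᵁ U) = ⊤ := by
    show (i ≫ f) ⁻¹ᵁ U = ⊤
    rw [H]
    show g ⁻¹ᵁ (U.ι ⁻¹ᵁ U) = ⊤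
    rw [Scheme.Opens.ι_preimage_self]
    rfl
  have hsup : ⨆ j, (f ⁻¹ᵁ U).ι ⁻¹ᵁ (f ⁻¹ᵁ V j) = ⊤ := by
    rw [eq_top_iff]
    intro x _
    have hx : (f ⁻¹ᵁ U).ι x ∈ (f ⁻¹ᵁ U).ι.opensRange := ⟨x, rfl⟩
    rw [Scheme.Opens.opensRange_ι] at hx
    obtain ⟨j, hj⟩ := TopologicalSpace.Opens.mem_iSup.mp (hcov hx)
    exact TopologicalSpace.Opens.mem_iSup.mpr ⟨j, hj⟩
  haveI h2 : IsIso (i ∣_ (f ⁻¹ᵁ U)) := by
    change MorphismProperty.isomorphisms Scheme (i ∣_ (f ⁻¹ᵁ U))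
    rw [IsZariskiLocalAtTarget.iff_of_iSup_eq_top
      (P := MorphismProperty.isomorphisms Scheme) _ hsup]
    intro j
    have e : (f ⁻¹ᵁ U).ι ''ᵁ ((f ⁻¹ᵁ U).ι ⁻¹ᵁ (f ⁻¹ᵁ V j)) = f ⁻¹ᵁ V j := by
      rw [Scheme.Hom.image_preimage_eq_opensRange_inf, Scheme.Opens.opensRange_ι]
      exact inf_eq_right.mpr (Scheme.Hom.preimage_mono f (hle j))
    exact ((MorphismProperty.isomorphisms Scheme).arrow_mk_iso_iff
      (morphismRestrictRestrict i (f ⁻¹ᵁ U) _ ≪≫ morphismRestrictEq i e)).mpr (hiso j)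
  haveI h3 : IsIso (i ⁻¹ᵁ (f ⁻¹ᵁ U)).ι := by
    rw [hW]; exact inferInstanceAs (IsIso (Scheme.topIso X).hom)
  obtain ⟨e, he⟩ : ∃ e : X ⟶ (f ⁻¹ᵁ U).toScheme,
      e = inv (i ⁻¹ᵁ (f ⁻¹ᵁ U)).ι ≫ (i ∣_ (f ⁻¹ᵁ U)) := ⟨_, rfl⟩
  haveI : IsIso e := by rw [he]; infer_instance
  have he1 : e ≫ (f ⁻¹ᵁ U).ι = i := by
    rw [he, Category.assoc, morphismRestrict_ι, IsIso.inv_hom_id_assoc]
  have he2 : e ≫ (f ∣_ U) = g := by
    rw [← cancel_mono U.ι, Category.assoc, morphismRestrict_ι, ← Category.assoc, he1, H]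
  refine (isPullback_morphismRestrict f U).flip.of_iso' (asIso e) (Iso.refl _) (Iso.refl _)
    (Iso.refl _) ?_ ?_ ?_ ?_
  · simp only [asIso_hom, Iso.refl_hom, Category.comp_id]; exact he1
  · simp only [asIso_hom, Iso.refl_hom, Category.comp_id]; exact he2
  · simp
  · simp

theorem key_aux {Z X : Scheme.{u}} [IsAffine Z] [CompactSpace X] [QuasiSeparatedSpace X]
    (U : Z.Opens) (g : X ⟶ U.toScheme) [IsFinite g] (r : Γ(Z, ⊤)) (hr : Z.basicOpen r ≤ U) :
    ∃ T : Finset Γ(X, ⊤), (∀ t ∈ T, (g ≫ U.ι).appTop.hom.IsIntegralElem t) ∧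
      ∀ S : Subring Γ(X, ⊤), (∀ x, (g ≫ U.ι).appTop.hom x ∈ S) → (↑T ⊆ (S : Set Γ(X, ⊤))) →
        ∀ c : Γ(X, ⊤), ∃ N : ℕ, (g ≫ U.ι).appTop.hom r ^ N * c ∈ S := by
  letI algRC : Algebra Γ(Z, ⊤) Γ(X, ⊤) := (g ≫ U.ι).appTop.hom.toAlgebra
  have hle' : X.basicOpen ((g ≫ U.ι).appTop.hom r) ≤ (g ≫ U.ι) ⁻¹ᵁ Z.basicOpen r :=
    (Scheme.preimage_basicOpen_top (g ≫ U.ι) r).ge
  haveI locC : IsLocalization.Away (algebraMap Γ(Z, ⊤) Γ(X, ⊤) r)
      Γ(X, X.basicOpen ((g ≫ U.ι).appTop.hom r)) :=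
    isLocalization_basicOpen_of_qcqs isCompact_univ isQuasiSeparated_univ _
  letI algR'C' : Algebra Γ(Z, Z.basicOpen r) Γ(X, X.basicOpen ((g ≫ U.ι).appTop.hom r)) :=
    ((g ≫ U.ι).appLE (Z.basicOpen r) (X.basicOpen ((g ≫ U.ι).appTop.hom r)) hle').hom.toAlgebra
  letI algRC' : Algebra Γ(Z, ⊤) Γ(X, X.basicOpen ((g ≫ U.ι).appTop.hom r)) :=
    ((algebraMap Γ(X, ⊤) Γ(X, X.basicOpen ((g ≫ U.ι).appTop.hom r))).comp
      (algebraMap Γ(Z, ⊤) Γ(X, ⊤))).toAlgebra
  haveI : IsScalarTower Γ(Z, ⊤) Γ(X, ⊤) Γ(X, X.basicOpen ((g ≫ U.ι).appTop.hom r)) :=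
    IsScalarTower.of_algebraMap_eq (fun _ => rfl)
  haveI : IsScalarTower Γ(Z, ⊤) Γ(Z, Z.basicOpen r)
      Γ(X, X.basicOpen ((g ≫ U.ι).appTop.hom r)) :=
    IsScalarTower.of_algebraMap_eq (fun x => (nat_appLE (g ≫ U.ι) r hle' x).symm)
  haveI : Module.Finite Γ(Z, Z.basicOpen r) Γ(X, X.basicOpen ((g ≫ U.ι).appTop.hom r)) :=
    finite_appLE U g (Z.basicOpen r) ((isAffineOpen_top Z).basicOpen r) hr _
      (Scheme.preimage_basicOpen_top (g ≫ U.ι) r).symm
  exact exists_finset_integral (R := Γ(Z, ⊤)) (C := Γ(X, ⊤)) (R' := Γ(Z, Z.basicOpen r))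
    (C' := Γ(X, X.basicOpen ((g ≫ U.ι).appTop.hom r))) r

theorem main_aux {Z X : Scheme.{u}} [IsAffine Z] (U : Z.Opens) (hU : IsCompact (U : Set Z))
    (g : X ⟶ U.toScheme) [IsFinite g] :
    ∃ T : Finset Γ(X, ⊤), (∀ t ∈ T, (g ≫ U.ι).appTop.hom.IsIntegralElem t) ∧
      ∀ (Y : Scheme.{u}) [IsAffine Y] (f : Y ⟶ Z) (i : X ⟶ Y), i ≫ f = g ≫ U.ι →
        Function.Injective i.appTop.hom → (∀ t ∈ T, t ∈ i.appTop.hom.range) →
        IsPullback i g f U.ι := by
  classical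
  obtain ⟨s, hs, hUs⟩ :=
    (isCompact_and_isOpen_iff_finite_and_eq_biUnion_basicOpen (X := Z)).mp ⟨hU, U.isOpen⟩
  have hle : ∀ r ∈ s, Z.basicOpen r ≤ U := by
    intro r hr x hx
    have : x ∈ (U : Set Z) := by rw [hUs]; exact Set.mem_biUnion hr hx
    exact this
  haveI : CompactSpace U.toScheme := isCompact_iff_compactSpace.mp hU
  haveI : U.toScheme.IsQuasiAffine := Scheme.IsQuasiAffine.of_isImmersion U.ι
  haveI : X.IsQuasiAffine := Scheme.IsQuasiAffine.of_isAffineHom g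
  haveI : CompactSpace X := inferInstance
  haveI : QuasiSeparatedSpace X := inferInstance
  have key : ∀ r ∈ s, ∃ T : Finset Γ(X, ⊤),
      (∀ t ∈ T, (g ≫ U.ι).appTop.hom.IsIntegralElem t) ∧
      ∀ S : Subring Γ(X, ⊤), (∀ x, (g ≫ U.ι).appTop.hom x ∈ S) → (↑T ⊆ (S : Set Γ(X, ⊤))) →
        ∀ c : Γ(X, ⊤), ∃ N : ℕ, (g ≫ U.ι).appTop.hom r ^ N * c ∈ S :=
    fun r hr => key_aux U g r (hle r hr)
  choose! T hT1 hT2 using key
  refine ⟨hs.toFinset.biUnion T, ?_, ?_⟩
  · intro t ht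
    rw [Finset.mem_biUnion] at ht
    obtain ⟨r, hr, htr⟩ := ht
    exact hT1 r (hs.mem_toFinset.mp hr) t htr
  · intro Y _ f i H hinj hT
    have hcomp : ∀ x, i.appTop.hom (f.appTop.hom x) = (g ≫ U.ι).appTop.hom x := by
      intro x
      have h0 : (i ≫ f).appTop = (g ≫ U.ι).appTop := by rw [H]
      exact congrArg (fun q => q.hom x) h0
    refine isPullback_of_cover i f U g H (fun r : s => Z.basicOpen r.1)
      (fun r => hle r.1 r.2) ?_ ?_
    · intro x hx
      have hx' : x ∈ ⋃ i ∈ s, (Z.basicOpen i : Set Z) := by rw [← hUs]; exact hx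
      obtain ⟨r, hr, hxr⟩ := Set.mem_iUnion₂.mp hx'
      exact TopologicalSpace.Opens.mem_iSup.mpr ⟨⟨r, hr⟩, hxr⟩
    · rintro ⟨r, hr⟩
      show IsIso (i ∣_ f ⁻¹ᵁ Z.basicOpen r)
      have e0 : f ⁻¹ᵁ Z.basicOpen r = Y.basicOpen (f.appTop.hom r) :=
        Scheme.preimage_basicOpen_top f r
      rw [e0]
      apply isIso_restrict_basicOpen i (f.appTop.hom r) hinj
      · rw [← e0]
        have e1 : i ⁻¹ᵁ (f ⁻¹ᵁ Z.basicOpen r) = g ⁻¹ᵁ (U.ι ⁻¹ᵁ Z.basicOpen r) := by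
          show (i ≫ f) ⁻¹ᵁ Z.basicOpen r = (g ≫ U.ι) ⁻¹ᵁ Z.basicOpen r
          rw [H]
        rw [e1]
        exact (((isAffineOpen_top Z).basicOpen r).preimage_of_isOpenImmersion U.ι
          (by rw [Scheme.Opens.opensRange_ι]; exact hle r hr)).preimage g
      · intro c
        obtain ⟨N, hN⟩ := hT2 r hr i.appTop.hom.range
          (fun x => RingHom.mem_range.mpr ⟨f.appTop.hom x, hcomp x⟩)
          (fun t ht => hT t (Finset.mem_biUnion.mpr
            ⟨r, hs.mem_toFinset.mpr hr, Finset.mem_coe.mp ht⟩)) c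
        obtain ⟨t, ht⟩ := RingHom.mem_range.mp hN
        exact ⟨N, t, by rw [ht, hcomp r]⟩

theorem main (A : Type u) [CommRing A] (U : (Spec (CommRingCat.of A)).Opens)
    (hU : IsCompact (U : Set (Spec (CommRingCat.of A))))
    (U' : Scheme.{u}) (g : U' ⟶ (U : Scheme.{u})) [IsFinite g] :
    ∃ (B : Type u) (_ : CommRing B) (_ : Algebra A B) (i : U' ⟶ Spec (CommRingCat.of B)),
      Module.Finite A B ∧
        IsPullback i g (Spec.map (CommRingCat.ofHom (algebraMap A B))) U.ι := by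
  obtain ⟨T, hT1, hT2⟩ := main_aux U hU g
  letI algRC : Algebra Γ(Spec (CommRingCat.of A), ⊤) Γ(U', ⊤) :=
    (g ≫ U.ι).appTop.hom.toAlgebra
  letI algAR : Algebra A Γ(Spec (CommRingCat.of A), ⊤) :=
    (Scheme.ΓSpecIso (CommRingCat.of A)).inv.hom.toAlgebra
  obtain ⟨B, hB⟩ : ∃ B : Subalgebra Γ(Spec (CommRingCat.of A), ⊤) Γ(U', ⊤),
      B = Algebra.adjoin _ (T : Set Γ(U', ⊤)) := ⟨_, rfl⟩
  haveI hfinB : Module.Finite Γ(Spec (CommRingCat.of A), ⊤) B := by
    rw [hB]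
    exact Algebra.finite_adjoin_of_finite_of_isIntegral T.finite_toSet
      (fun x hx => hT1 x (Finset.mem_coe.mp hx))
  letI algAB : Algebra A B := ((algebraMap Γ(Spec (CommRingCat.of A), ⊤) B).comp
    (Scheme.ΓSpecIso (CommRingCat.of A)).inv.hom).toAlgebra
  haveI : IsScalarTower A Γ(Spec (CommRingCat.of A), ⊤) B :=
    IsScalarTower.of_algebraMap_eq (fun _ => rfl)
  haveI : Module.Finite A Γ(Spec (CommRingCat.of A), ⊤) :=
    Module.Finite.of_surjective (Algebra.linearMap A Γ(Spec (CommRingCat.of A), ⊤))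
      (ConcreteCategory.bijective_of_isIso (Scheme.ΓSpecIso (CommRingCat.of A)).inv).2
  have hfinAB : Module.Finite A B := Module.Finite.trans Γ(Spec (CommRingCat.of A), ⊤) B
  obtain ⟨ιB, hιB⟩ : ∃ ιB : CommRingCat.of B ⟶ Γ(U', ⊤),
      ιB = CommRingCat.ofHom B.val.toRingHom := ⟨_, rfl⟩
  have hιx : ∀ x : B, ιB.hom x = (x : Γ(U', ⊤)) := by
    intro x; rw [hιB]; rfl
  have hi : (U'.toSpecΓ ≫ Spec.map ιB).appTop =
      (Scheme.ΓSpecIso (CommRingCat.of B)).hom ≫ ιB := by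
    rw [Scheme.Hom.comp_appTop, Scheme.toSpecΓ_appTop, Scheme.ΓSpecIso_naturality]
  refine ⟨B, inferInstance, algAB, U'.toSpecΓ ≫ Spec.map ιB, hfinAB, ?_⟩
  apply hT2
  · have hφ : CommRingCat.ofHom (algebraMap A B) ≫ ιB =
        (Scheme.ΓSpecIso (CommRingCat.of A)).inv ≫ (g ≫ U.ι).appTop := by
      ext x
      rw [hιB]
      rfl
    rw [Category.assoc, ← Spec.map_comp, hφ, Spec.map_comp,
      ← Scheme.toSpecΓ_naturality_assoc, toSpecΓ_SpecMap_ΓSpecIso_inv, Category.comp_id]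
  · rw [hi, CommRingCat.hom_comp, RingHom.coe_comp]
    refine Function.Injective.comp ?_
      (ConcreteCategory.bijective_of_isIso (Scheme.ΓSpecIso (CommRingCat.of B)).hom).1
    intro x y hxy
    rw [hιx, hιx] at hxy
    exact Subtype.ext hxy
  · intro t ht
    have htB : t ∈ B := by rw [hB]; exact Algebra.subset_adjoin (Finset.mem_coe.mpr ht)
    refine RingHom.mem_range.mpr
      ⟨(Scheme.ΓSpecIso (CommRingCat.of B)).inv.hom ⟨t, htB⟩, ?_⟩
    rw [hi]
    have h1 : (Scheme.ΓSpecIso (CommRingCat.of B)).hom.hom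
        ((Scheme.ΓSpecIso (CommRingCat.of B)).inv.hom ⟨t, htB⟩) = ⟨t, htB⟩ :=
      congrArg (fun q => q.hom (⟨t, htB⟩ : B)) (Scheme.ΓSpecIso (CommRingCat.of B)).inv_hom_id
    show ιB.hom ((Scheme.ΓSpecIso (CommRingCat.of B)).hom.hom
      ((Scheme.ΓSpecIso (CommRingCat.of B)).inv.hom ⟨t, htB⟩)) = t
    rw [h1, hιx]

end Groth.Agent.H1.FinExt
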