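import Mathlib
import Groth.Prelude.Def_EGA43
import Groth.Agent.Lib.Helper1.ValDimB
import Groth.Agent.Lib.Helper1.FibCompB
import Groth.Agent.Lib.Helper1.FibCompC
import Groth.Agent.Lib.Helper1.FibDimFP
import Groth.Agent.Lib.Helper1.DimFormula2

set_option autoImplicit false
set_option linter.style.haveILetI false

universe u

namespace Groth.Agent.H1.GenEquidim

open AlgebraicGeometry CategoryTheory CategoryTheory.Limits TopologicalSpace Topology
open Groth.Agent.H1.ValDim

theorem isLocallyConstructible_compl {α : Type*} [TopologicalSpace α] {s : Set α}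
    (h : IsLocallyConstructible s) : IsLocallyConstructible sᶜ := fun x => by
  obtain ⟨U, hU, hU', hc⟩ := h x
  exact ⟨U, hU, hU', by simpa using hc.compl⟩

/-- dimension of the generic fibre of a dominant morphism of irreducible schemes. -/
theorem dim_generic_fibre {X S : Scheme.{u}} [IrreducibleSpace X] [IrreducibleSpace S]
    (f : X ⟶ S) [LocallyOfFiniteType f] [IsDominant f] :
    topologicalKrullDim ↥(f.base ⁻¹' {genericPoint S}) =
      FlatMor.fibreDimAt f (genericPoint X) := by
  have hξmax : ∀ z : X, z ⤳ genericPoint X → z = genericPoint X := fun z hz =>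
    (hz.antisymm (genericPoint_specializes z)).eq
  have hcl : closure ({f.base (genericPoint X)} : Set S) = Set.univ := by
    have h1 := Groth.Agent.H1.EquidimComp.closure_image_closure_singleton f (genericPoint X)
    have hd : closure (Set.range f.base) = Set.univ := f.denseRange.closure_range
    rw [← h1, genericPoint_closure, Set.image_univ, hd]
  have hη : f.base (genericPoint X) = genericPoint S :=
    IsGenericPoint.eq (isGenericPoint_def.mpr hcl) (genericPoint_spec _)
  have h1 := Groth.Agent.H1.GenComp.dim_closure_inter_fibre f (genericPoint X) hξmax _ hη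
  rw [← h1]
  refine congrArg (fun B : Set X => topologicalKrullDim ↥B) ?_
  rw [genericPoint_closure, Set.univ_inter]

set_option backward.isDefEq.respectTransparency false in
theorem s4781 {X S : Scheme.{u}} (f : X ⟶ S)
    [IsNoetherian S] [IrreducibleSpace S] [IrreducibleSpace X] [IsDominant f]
    [LocallyOfFiniteType f] [QuasiCompact f] :
    ∃ U : S.Opens, genericPoint S ∈ U ∧ ∀ s ∈ U, ∀ T ∈ irreducibleComponents ↥(⇑f ⁻¹' {s}),
      topologicalKrullDim ↥T = topologicalKrullDim ↥(⇑f ⁻¹' {genericPoint S}) := by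
  haveI : LocallyOfFinitePresentation f :=
    LocallyOfFinitePresentation.iff_locallyOfFiniteType.mpr inferInstance
  have hξmax : ∀ z : X, f z = f (genericPoint X) → z ⤳ genericPoint X → z = genericPoint X :=
    fun z _ hz => (hz.antisymm (genericPoint_specializes z)).eq
  obtain ⟨n, -, hn⟩ :=
    Groth.Agent.H1.DimFormula.fibreDimAt_eq_trdeg_of_generic f (genericPoint X) hξmax
  have hgen := dim_generic_fibre f
  set E : Set X := {x | FlatMor.fibreDimAt f x ≤ n} with hE
  have hEo : IsOpen E := Groth.Agent.H1.Chev.isOpen_fibreDimAt_le f n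
  have hEr : IsRetrocompact E := Groth.Agent.H1.FibDimFP.isRetrocompact_fibreDimAt_le f n
  have hEc : IsLocallyConstructible Eᶜ :=
    (hEr.isConstructible hEo).compl.isLocallyConstructible
  have himg : IsLocallyConstructible (f '' Eᶜ) := f.isLocallyConstructible_image hEc
  have hW : IsLocallyConstructible (f '' Eᶜ)ᶜ := isLocallyConstructible_compl himg
  have hηW : ∀ η' : S, η' ⤳ genericPoint S → η' ∈ (f '' Eᶜ)ᶜ := by
    intro η' hη'
    have hη'eq : η' = genericPoint S := (hη'.antisymm (genericPoint_specializes η')).eq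
    rintro ⟨x, hxE, hfx⟩
    apply hxE
    have h1 := Groth.Agent.H1.FibComp.fibreDimAt_le_dim_fiber f x _ (hfx.trans hη'eq)
    rw [dim_fiber_eq_dim_preimage, hgen, hn] at h1
    exact h1
  have hnhds :=
    Groth.Agent.H1.FibComp.mem_nhds_of_isLocallyConstructible hW (genericPoint S) hηW
  obtain ⟨U₀, hU₀W, hU₀o, hηU₀⟩ := mem_nhds_iff.mp hnhds
  refine ⟨⟨U₀, hU₀o⟩, hηU₀, ?_⟩
  intro s hs T hT
  have hT' : ((f.fiberHomeo s) ⁻¹' T) ∈ irreducibleComponents ↥(f.fiber s) := by
    refine preimage_mem_irreducibleComponents hT (f.fiberHomeo s).isOpenEmbedding ?_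
    obtain ⟨t, ht⟩ := hT.1.nonempty
    exact ⟨t, ht, (f.fiberHomeo s).symm t, (f.fiberHomeo s).apply_symm_apply t⟩
  obtain ⟨ζ, hfζ, hζmax, hdζ⟩ :=
    Groth.Agent.H1.FibComp.exists_fibreMax_of_component_fiber f s _ hT'
  have hdT : topologicalKrullDim ↥T = topologicalKrullDim ↥((f.fiberHomeo s) ⁻¹' T) := by
    have himgT : (f.fiberHomeo s) '' ((f.fiberHomeo s) ⁻¹' T) = T :=
      Set.image_preimage_eq T (f.fiberHomeo s).surjective
    have h2 := IsHomeomorph.topologicalKrullDim_eq _
      ((f.fiberHomeo s).image ((f.fiberHomeo s) ⁻¹' T)).isHomeomorph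
    rw [h2]
    exact congrArg (fun B : Set ↥(⇑f ⁻¹' {s}) => topologicalKrullDim ↥B) himgT.symm
  rw [hdT, hdζ, hgen, hn]
  apply le_antisymm
  · by_contra hcon
    have h3 : s ∈ f '' Eᶜ := ⟨ζ, hcon, hfζ⟩
    exact hU₀W hs h3
  · rw [← hn]
    exact Groth.Agent.H1.EquidimLoc.fibreDimAt_le_of_specializes f (genericPoint_specializes ζ)

end Groth.Agent.H1.GenEquidim
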