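import Mathlib
import Groth.Prelude
import Groth.Agent.Lib.Helper1.GenEquidim
import Groth.Agent.Lib.Helper1.EquidimLocC
import Groth.Agent.Lib.Helper1.AlgSpDim3
import Groth.Agent.Lib.Helper1.Chev4

set_option autoImplicit false
set_option linter.style.haveILetI false

universe u

namespace Groth.Agent.H1.FinFibGen

open AlgebraicGeometry CategoryTheory CategoryTheory.Limits TopologicalSpace Topology

/-- two distinct points in a specialization chain force dimension at least one. -/
lemma one_le_dim_of_chain {T : Type*} [TopologicalSpace T] [T0Space T] {x y : T} (h2 : x ⤳ y)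
    (hne2 : x ≠ y) : (1 : WithBot ℕ∞) ≤ topologicalKrullDim T := by
  let c : T → IrreducibleCloseds T := fun p =>
    ⟨closure {p}, isIrreducible_singleton.closure, isClosed_closure⟩
  have hlt : ∀ {a b : T}, a ⤳ b → a ≠ b → c b < c a := by
    intro a b hab hne
    refine lt_of_le_of_ne ?_ ?_
    · change closure {b} ⊆ closure {a}
      exact closure_minimal (Set.singleton_subset_iff.mpr (specializes_iff_mem_closure.mp hab))
        isClosed_closure
    · intro heq
      have : closure {b} = closure {a} := congrArg (fun s : IrreducibleCloseds T => (s : Set T)) heq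
      have ha : a ∈ closure {b} := by rw [this]; exact subset_closure rfl
      have hba : b ⤳ a := specializes_iff_mem_closure.mpr ha
      exact hne (hab.antisymm hba).eq
  let s : LTSeries (IrreducibleCloseds T) :=
    { length := 1
      toFun := ![c y, c x]
      step := by
        intro i
        fin_cases i
        exact hlt h2 hne2 }
  have := Order.LTSeries.length_le_krullDim s
  exact this

/-- a morphism locally of finite type is quasi-finite at every point of a finite fibre. -/
theorem quasiFiniteAt_of_finite_fiber {X Y : Scheme.{u}} (f : X ⟶ Y) [LocallyOfFiniteType f] (x : X)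
    [Finite ↥(f.fiber (f x))] : f.QuasiFiniteAt x := by
  haveI : LocallyQuasiFinite (f.fiberToSpecResidueField (f x)) :=
    LocallyQuasiFinite.of_finite_preimage_singleton _ (fun _ => Set.toFinite _)
  haveI : IsLocallyArtinian (f.fiber (f x)) :=
    IsLocallyArtinian.of_locallyQuasiFinite (f.fiberToSpecResidueField (f x))
  rw [Scheme.Hom.quasiFiniteAt_iff_isOpen_singleton_asFiber]
  exact isOpen_discrete _

theorem s11561 {X Y : Scheme.{u}} (f : X ⟶ Y)
    [IrreducibleSpace ↥Y] [IrreducibleSpace ↥X] [LocallyOfFiniteType f]
    (y : Y) [Nonempty ↥(f.fiber y)] [Finite ↥(f.fiber y)] :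
    Subsingleton ↥(f.fiber (genericPoint ↥Y)) := by
  have hfib : ∀ a : f.fiber (genericPoint ↥Y),
      f.base ((f.fiberι (genericPoint ↥Y)).base a) = genericPoint ↥Y := by
    intro a
    have h := (f.range_fiberι (genericPoint ↥Y)).le ⟨a, rfl⟩
    exact h
  by_cases hξη : f.base (genericPoint ↥X) = genericPoint ↥Y
  swap
  · refine ⟨fun a b => ?_⟩
    exfalso
    apply hξη
    have h2 : genericPoint ↥X ⤳ (f.fiberι (genericPoint ↥Y)).base a := genericPoint_specializes _
    have h3 : f.base (genericPoint ↥X) ⤳ f.base ((f.fiberι (genericPoint ↥Y)).base a) :=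
      h2.map f.base.hom.continuous
    rw [hfib a] at h3
    exact (h3.antisymm (genericPoint_specializes _)).eq
  · haveI : IsDominant f := by
      refine ⟨?_⟩
      show Dense (Set.range f.base)
      rw [dense_iff_closure_eq]
      apply Set.eq_univ_of_univ_subset
      rw [← genericPoint_closure (α := ↥Y), ← hξη]
      exact closure_mono (Set.singleton_subset_iff.mpr ⟨_, rfl⟩)
    obtain ⟨x₀⟩ := ‹Nonempty ↥(f.fiber y)›
    have hy : f ((f.fiberι y) x₀) = y := (f.range_fiberι y).le ⟨x₀, rfl⟩
    haveI : Finite ↥(f.fiber (f ((f.fiberι y) x₀))) := by rw [hy]; infer_instance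
    have hqf : f.QuasiFiniteAt ((f.fiberι y) x₀) := quasiFiniteAt_of_finite_fiber f _
    have h0 : FlatMor.fibreDimAt f ((f.fiberι y) x₀) = 0 :=
      (Groth.Agent.H1.QFDim.fibreDimAt_eq_zero_iff f _).mpr hqf
    have h1 : FlatMor.fibreDimAt f (genericPoint ↥X) ≤ 0 := by
      rw [← h0]
      exact Groth.Agent.H1.EquidimLoc.fibreDimAt_le_of_specializes f (genericPoint_specializes _)
    have hdim : topologicalKrullDim ↥(f.base ⁻¹' {genericPoint ↥Y}) ≤ 0 := by
      rw [Groth.Agent.H1.GenEquidim.dim_generic_fibre f]; exact h1
    have key : ∀ a : f.fiber (genericPoint ↥Y),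
        (f.fiberι (genericPoint ↥Y)).base a = genericPoint ↥X := by
      intro a
      let pa : ↥(f.base ⁻¹' {genericPoint ↥Y}) := ⟨(f.fiberι (genericPoint ↥Y)).base a, hfib a⟩
      let pξ : ↥(f.base ⁻¹' {genericPoint ↥Y}) := ⟨genericPoint ↥X, hξη⟩
      have hsp : pξ ⤳ pa := by
        apply Topology.IsInducing.subtypeVal.specializes_iff.mp
        exact genericPoint_specializes _
      by_contra hne
      have hne' : pξ ≠ pa := fun h => hne (congrArg Subtype.val h).symm
      have := one_le_dim_of_chain hsp hne'
      exact absurd (this.trans hdim) (by decide)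
    refine ⟨fun a b => ?_⟩
    have hinj : Function.Injective (f.fiberι (genericPoint ↥Y)).base :=
      (Scheme.Hom.isEmbedding _).injective
    exact hinj ((key a).trans (key b).symm)

end Groth.Agent.H1.FinFibGen
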