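import Mathlib
import Groth.Prelude.Def_ModelsG
import Groth.Prelude.Def_Pi1
import Groth.Agent.Lib.Helper9.Misc.FinBir

set_option autoImplicit false
universe u
open CategoryTheory CategoryTheory.Limits AlgebraicGeometry

namespace Groth.Agent.H1.FinNormGD

/-- going down for an integral surjective morphism from an integral scheme onto a normal integral
scheme -/
theorem exists_generization {W Z : Scheme.{u}} [IsIntegral W] [IsIntegral Z] (ψ : W ⟶ Z)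
    [IsIntegralHom ψ] [Surjective ψ]
    (hZ : ∀ z : Z, IsIntegrallyClosed (Z.presheaf.stalk z)) (w : W) (δ : Z) (hδ : δ ⤳ ψ w) :
    ∃ γ : W, γ ⤳ w ∧ ψ γ = δ := by
  obtain ⟨V, hV, hzV, -⟩ := exists_isAffineOpen_mem_and_subset (x := ψ w) (U := ⊤) trivial
  have hδV : δ ∈ V := hδ.mem_open V.2 hzV
  have hU : IsAffineOpen (ψ ⁻¹ᵁ V) := hV.preimage ψ
  have hwU : w ∈ ψ ⁻¹ᵁ V := hzV
  haveI : Nonempty V := ⟨⟨ψ w, hzV⟩⟩
  haveI : Nonempty (ψ ⁻¹ᵁ V : W.Opens) := ⟨⟨w, hwU⟩⟩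
  have hint : (ψ.app V).hom.IsIntegral := ψ.isIntegral_app V hV
  haveI : IsSchemeTheoreticallyDominant ψ := IsSchemeTheoreticallyDominant.of_isDominant ψ
  have hinj : Function.Injective (ψ.app V).hom := ψ.app_injective V
  haveI : IsIntegrallyClosed Γ(Z, V) := Groth.Agent.H9.FinBir.intClosed_sections hZ V hV
  obtain ⟨Q, hQ⟩ : ∃ Q, Q = hU.primeIdealOf ⟨w, hwU⟩ := ⟨_, rfl⟩
  obtain ⟨q, hq⟩ : ∃ q, q = hV.primeIdealOf ⟨ψ w, hzV⟩ := ⟨_, rfl⟩
  obtain ⟨p, hp⟩ : ∃ p, p = hV.primeIdealOf ⟨δ, hδV⟩ := ⟨_, rfl⟩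
  have hQw : hU.fromSpec Q = w := by rw [hQ]; exact hU.fromSpec_primeIdealOf ⟨w, hwU⟩
  have hqz : hV.fromSpec q = ψ w := by rw [hq]; exact hV.fromSpec_primeIdealOf ⟨ψ w, hzV⟩
  have hpδ : hV.fromSpec p = δ := by rw [hp]; exact hV.fromSpec_primeIdealOf ⟨δ, hδV⟩
  have hnat : ∀ P : Spec Γ(W, ψ ⁻¹ᵁ V),
      ψ (hU.fromSpec P) = hV.fromSpec (Spec.map (ψ.app V) P) := by
    intro P
    have h := IsAffineOpen.SpecMap_appLE_fromSpec ψ hV hU le_rfl
    rw [← Scheme.Hom.app_eq_appLE] at h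
    rw [← Scheme.Hom.comp_apply, ← Scheme.Hom.comp_apply, h]
  have hqQ : Spec.map (ψ.app V) Q = q := by
    apply hV.fromSpec.isOpenEmbedding.injective
    rw [← hnat, hQw, hqz]
  have hle : p.asIdeal ≤ q.asIdeal := by
    have h1 : hV.fromSpec p ⤳ hV.fromSpec q := by rw [hpδ, hqz]; exact hδ
    have h2 : p ⤳ q := hV.fromSpec.isOpenEmbedding.isInducing.specializes_iff.mp h1
    exact (PrimeSpectrum.le_iff_specializes p q).mpr h2
  algebraize [(ψ.app V).hom]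
  haveI : FaithfulSMul Γ(Z, V) Γ(W, ψ ⁻¹ᵁ V) :=
    (faithfulSMul_iff_algebraMap_injective _ _).mpr hinj
  haveI : Algebra.IsIntegral Γ(Z, V) Γ(W, ψ ⁻¹ᵁ V) := ⟨hint⟩
  haveI : Q.asIdeal.LiesOver q.asIdeal := ⟨by rw [← hqQ]; rfl⟩
  obtain ⟨P, hPQ, hPprime, hPover⟩ :=
    Ideal.exists_ideal_le_liesOver_of_le (p := p.asIdeal) (q := q.asIdeal) Q.asIdeal hle
  refine ⟨hU.fromSpec ⟨P, hPprime⟩, ?_, ?_⟩
  · have h1 : (⟨P, hPprime⟩ : PrimeSpectrum Γ(W, ψ ⁻¹ᵁ V)) ⤳ Q :=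
      (PrimeSpectrum.le_iff_specializes _ _).mp hPQ
    have h2 := h1.map hU.fromSpec.continuous
    rwa [hQw] at h2
  · rw [hnat]
    have h3 : Spec.map (ψ.app V) (⟨P, hPprime⟩ : PrimeSpectrum Γ(W, ψ ⁻¹ᵁ V)) = p := by
      apply PrimeSpectrum.ext
      exact hPover.over.symm
    rw [h3, hpδ]

/-- maximal irreducible subsets of a closed set containing a given irreducible subset -/
theorem exists_maximal_irreducible {X : Type*} [TopologicalSpace X] (F : Set X) (s : Set X)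
    (hs : IsIrreducible s) (hsF : s ⊆ F) :
    ∃ m : Set X, s ⊆ m ∧ Maximal (fun S : Set X => IsIrreducible S ∧ S ⊆ F) m := by
  obtain ⟨m, hsm, hm⟩ := zorn_subset_nonempty {t : Set X | IsPreirreducible t ∧ t ⊆ F}
    (fun c hc hcc _ =>
      ⟨⋃₀ c, ⟨fun u v hu hv ⟨y, hy, hyu⟩ ⟨x, hx, hxv⟩ =>
        let ⟨p, hpc, hyp⟩ := Set.mem_sUnion.1 hy
        let ⟨q, hqc, hxq⟩ := Set.mem_sUnion.1 hx
        Or.casesOn (hcc.total hpc hqc)
          (fun hpq : p ⊆ q =>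
            let ⟨x, hxp, hxuv⟩ := (hc hqc).1 u v hu hv ⟨y, hpq hyp, hyu⟩ ⟨x, hxq, hxv⟩
            ⟨x, Set.mem_sUnion_of_mem hxp hqc, hxuv⟩)
          fun hqp : q ⊆ p =>
          let ⟨x, hxp, hxuv⟩ := (hc hpc).1 u v hu hv ⟨y, hyp, hyu⟩ ⟨x, hqp hxq, hxv⟩
          ⟨x, Set.mem_sUnion_of_mem hxp hpc, hxuv⟩,
        Set.sUnion_subset fun t ht => (hc ht).2⟩,
        fun _ hxc => Set.subset_sUnion_of_mem hxc⟩)
    s ⟨hs.isPreirreducible, hsF⟩
  refine ⟨m, hsm, ⟨⟨hs.nonempty.mono hsm, hm.prop.1⟩, hm.prop.2⟩, ?_⟩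
  intro S hS hmS
  exact hm.le_of_ge ⟨hS.1.isPreirreducible, hS.2⟩ hmS

section Main
variable (R : Type u) [CommRing R] [IsDomain R] [IsDiscreteValuationRing R]

theorem main (W Z : Over (Spec (CommRingCat.of R))) [IsIntegral W.left] [IsIntegral Z.left]
    (hZn : Pi1.IsNormalScheme Z.left) (ψ : W ⟶ Z) [IsFinite ψ.left] [Surjective ψ.left]
    (z : Z.left) (w : W.left) (hw : ψ.left w = z)
    (Δ : Set Z.left) (hΔ : Δ ∈ Models.fibreComponents R Z) (hzΔ : z ∈ Δ) :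
    ∃ Γ ∈ Models.fibreComponents R W, w ∈ Γ ∧ ψ.left '' Γ = Δ := by
  have hΔ' : Maximal (fun S : Set Z.left => IsIrreducible S ∧ S ⊆ Models.specialFibreSet R Z) Δ :=
    hΔ
  have hZs : IsClosed (Models.specialFibreSet R Z) := Models.isClosed_specialFibreSet R Z
  have hWs : IsClosed (Models.specialFibreSet R W) := Models.isClosed_specialFibreSet R W
  -- `ψ` maps the special fibre to the special fibre
  have hfib : ∀ x : W.left, ψ.left x ∈ Models.specialFibreSet R Z ↔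
      x ∈ Models.specialFibreSet R W := by
    intro x
    change Z.hom (ψ.left x) = _ ↔ W.hom x = _
    rw [← Scheme.Hom.comp_apply, Over.w ψ]
  -- `Δ` is closed
  have hΔcl : IsClosed Δ := by
    rw [← closure_subset_iff_isClosed]
    exact hΔ'.le_of_ge ⟨hΔ'.prop.1.closure, hZs.closure_subset_iff.mpr hΔ'.prop.2⟩ subset_closure
  obtain ⟨δ, hδ⟩ := QuasiSober.sober hΔ'.prop.1 hΔcl
  have hδcl : closure {δ} = Δ := hδ
  have hδz : δ ⤳ ψ.left w := by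
    rw [hw, specializes_iff_mem_closure, hδcl]; exact hzΔ
  obtain ⟨γ, hγw, hγδ⟩ := exists_generization ψ.left (fun z => (hZn z).2) w δ hδz
  have hδΔ : δ ∈ Δ := by rw [← hδcl]; exact subset_closure rfl
  have hγs : γ ∈ Models.specialFibreSet R W := by
    rw [← hfib, hγδ]; exact hΔ'.prop.2 hδΔ
  obtain ⟨Γ, hΓ₀, hΓ⟩ := exists_maximal_irreducible (Models.specialFibreSet R W) (closure {γ})
    isIrreducible_singleton.closure (hWs.closure_subset_iff.mpr (Set.singleton_subset_iff.mpr hγs))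
  refine ⟨Γ, hΓ, hΓ₀ (specializes_iff_mem_closure.mp hγw), ?_⟩
  have hsub : Δ ⊆ ψ.left '' Γ := by
    have h1 : IsClosed (ψ.left '' closure {γ}) := ψ.left.isClosedMap _ isClosed_closure
    have h2 : δ ∈ ψ.left '' closure {γ} := ⟨γ, subset_closure rfl, hγδ⟩
    have h3 : closure {δ} ⊆ ψ.left '' closure {γ} :=
      h1.closure_subset_iff.mpr (Set.singleton_subset_iff.mpr h2)
    rw [hδcl] at h3
    exact h3.trans (Set.image_mono hΓ₀)
  refine le_antisymm (hΔ'.le_of_ge ⟨?_, ?_⟩ hsub) hsub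
  · exact hΓ.prop.1.image _ ψ.left.continuous.continuousOn
  · rintro _ ⟨x, hx, rfl⟩
    exact (hfib x).mpr (hΓ.prop.2 hx)

end Main

end Groth.Agent.H1.FinNormGD
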