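import Mathlib

/-! helper1: over a ring with finitely many primes, the localization of an étale algebra at a prime
is a principal localization, hence étale (S14896). -/

set_option autoImplicit false

universe u

namespace Groth.Agent.H1.FinSpecEt

/-- in a ring with finitely many primes, the localization at a prime is a principal localization. -/
theorem exists_away_eq_atPrime {B : Type*} [CommRing B] [Finite (PrimeSpectrum B)] (P : Ideal B)
    [P.IsPrime] : ∃ h : B, h ∉ P ∧ IsLocalization P.primeCompl (Localization.Away h) := by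
  classical
  letI := Fintype.ofFinite (PrimeSpectrum B)
  have hex : ∀ Q : PrimeSpectrum B, ∃ b : B, b ∉ P ∧ (¬ Q.asIdeal ≤ P → b ∈ Q.asIdeal) := by
    intro Q
    by_cases hQ : Q.asIdeal ≤ P
    · exact ⟨1, (Ideal.ne_top_iff_one P).mp (Ideal.IsPrime.ne_top ‹_›), fun h => absurd hQ h⟩
    · obtain ⟨b, hbQ, hbP⟩ := Set.not_subset.mp hQ
      exact ⟨b, hbP, fun _ => hbQ⟩
  choose hf hf1 hf2 using hex
  obtain ⟨h, hh⟩ : ∃ h : B, h = ∏ Q : PrimeSpectrum B, hf Q := ⟨_, rfl⟩
  have hP : h ∉ P := by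
    intro hmem
    rw [hh] at hmem
    obtain ⟨Q, _, hQ⟩ := (Ideal.IsPrime.prod_mem_iff).mp hmem
    exact hf1 Q hQ
  have hle : ∀ Q : PrimeSpectrum B, h ∉ Q.asIdeal → Q.asIdeal ≤ P := by
    intro Q hQ
    by_contra hcon
    apply hQ
    rw [hh]
    exact Ideal.mem_of_dvd _ (Finset.dvd_prod_of_mem hf (Finset.mem_univ Q)) (hf2 Q hcon)
  refine ⟨h, hP, ?_⟩
  refine IsLocalization.of_le (S := Localization.Away h) (Submonoid.powers h) P.primeCompl ?_ ?_
  · rintro _ ⟨n, rfl⟩ hmem
    exact hP (Ideal.IsPrime.mem_of_pow_mem ‹P.IsPrime› n hmem)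
  · intro s hs
    by_contra hunit
    obtain ⟨𝔪, h𝔪, hs𝔪⟩ := exists_max_ideal_of_mem_nonunits (mem_nonunits_iff.mpr hunit)
    haveI : 𝔪.IsPrime := h𝔪.isPrime
    let Q : PrimeSpectrum B := ⟨𝔪.comap (algebraMap B (Localization.Away h)), inferInstance⟩
    have hhQ : h ∉ Q.asIdeal := by
      intro hmem
      have h1 : algebraMap B (Localization.Away h) h ∈ 𝔪 := hmem
      exact h𝔪.ne_top (Ideal.eq_top_of_isUnit_mem _ h1 (IsLocalization.Away.algebraMap_isUnit h))
    have hsQ : s ∈ Q.asIdeal := hs𝔪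
    exact hs (hle Q hhQ hsQ)

/-- **S14896**, ring form. -/
theorem etale_atPrime_of_finite_primeSpectrum {R B S : Type u} [CommRing R] [CommRing B]
    [CommRing S] [Algebra R B] [Algebra B S] [Algebra R S] [IsScalarTower R B S]
    [Finite (PrimeSpectrum R)] [Algebra.Etale R B] (P : Ideal B) [P.IsPrime]
    [IsLocalization.AtPrime S P] : Algebra.Etale R S := by
  haveI : Finite (PrimeSpectrum B) := Algebra.QuasiFinite.finite_primeSpectrum (R := R) (S := B)
  obtain ⟨h, -, hloc⟩ := exists_away_eq_atPrime P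
  haveI := hloc
  let e : Localization.Away h ≃ₐ[B] S := IsLocalization.algEquiv P.primeCompl _ _
  exact Algebra.Etale.of_equiv (e.restrictScalars R)

end Groth.Agent.H1.FinSpecEt
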