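import Mathlib

/-! helper1: over a base with finite spectrum, a locally quasi-finite scheme is locally a finite
topological space, so every point has a smallest open neighbourhood `W`, `𝒪_{X,x} = Γ(W)` and
`Spec 𝒪_{X,x} ⟶ X` is an open immersion (S14888). -/

set_option autoImplicit false

universe u

namespace Groth.Agent.H1.FinSpecStalk

open AlgebraicGeometry CategoryTheory TopologicalSpace Opposite

/-- if `x` has a smallest open neighbourhood `W`, the germ map from `W` is bijective -/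
theorem germ_bijective_of_minimal {X : Scheme.{u}} (x : X) (W : X.Opens) (hxW : x ∈ W)
    (hmin : ∀ V : X.Opens, x ∈ V → W ≤ V) :
    Function.Bijective (X.presheaf.germ W x hxW) := by
  constructor
  · intro s t hst
    obtain ⟨V, hxV, iU, iV, h⟩ := X.presheaf.germ_eq x hxW hxW s t hst
    have hWV : W ≤ V := hmin V hxV
    have hVW : V = W := le_antisymm iU.le hWV
    subst hVW
    have h1 : iU = 𝟙 _ := Subsingleton.elim _ _
    have h2 : iV = 𝟙 _ := Subsingleton.elim _ _
    rw [h1, h2] at h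
    simpa using h
  · intro g
    obtain ⟨V, hxV, s, rfl⟩ := X.presheaf.exists_germ_eq g
    exact ⟨X.presheaf.map (homOfLE (hmin V hxV)).op s,
      X.presheaf.germ_res_apply (homOfLE (hmin V hxV)) x hxW s⟩

theorem isOpenImmersion_fromSpecStalk_of_minimal {X : Scheme.{u}} (x : X) (W : X.Opens)
    (hxW : x ∈ W) (hmin : ∀ V : X.Opens, x ∈ V → W ≤ V) :
    IsOpenImmersion (X.fromSpecStalk x) := by
  obtain ⟨_, ⟨V, hV, rfl⟩, hxV, hVW⟩ :=
    X.isBasis_affineOpens.exists_subset_of_mem_open hxW W.isOpen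
  have hVW' : W = V := le_antisymm (hmin V hxV) hVW
  subst hVW'
  rw [← hV.fromSpecStalk_eq_fromSpecStalk hxV]
  unfold IsAffineOpen.fromSpecStalk
  haveI : IsIso (X.presheaf.germ W x hxV) := by
    rw [ConcreteCategory.isIso_iff_bijective]
    exact germ_bijective_of_minimal x W hxV hmin
  infer_instance

theorem exists_minimal_nhd {X : Type*} [TopologicalSpace X] (x : X) (U : Set X) (hU : IsOpen U)
    (hxU : x ∈ U) (hfin : U.Finite) :
    ∃ W : Set X, IsOpen W ∧ x ∈ W ∧ ∀ V : Set X, IsOpen V → x ∈ V → W ⊆ V := by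
  let S : Set (Set X) := {T | IsOpen T ∧ x ∈ T ∧ T ⊆ U}
  have hS : S.Finite := hfin.finite_subsets.subset (fun T hT => hT.2.2)
  refine ⟨⋂₀ S, hS.isOpen_sInter (fun T hT => hT.1), ?_, ?_⟩
  · exact Set.mem_sInter.mpr fun T hT => hT.2.1
  · intro V hV hxV
    exact (Set.sInter_subset_of_mem
      (⟨hV.inter hU, ⟨hxV, hxU⟩, Set.inter_subset_right⟩ : V ∩ U ∈ S)).trans
        Set.inter_subset_left

theorem finite_affineOpen {R : Type u} [CommRing R] [Finite (PrimeSpectrum R)]
    {X : Scheme.{u}} (f : X ⟶ Spec (CommRingCat.of R)) [LocallyQuasiFinite f]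
    (U : X.Opens) (hU : IsAffineOpen U) : (U : Set X).Finite := by
  haveI : IsAffine ↑U := hU
  haveI : Finite ↥(Spec (CommRingCat.of R)) := ‹Finite (PrimeSpectrum R)›
  have h1 : ((U.ι ≫ f) ⁻¹' Set.univ).Finite := (U.ι ≫ f).finite_preimage Set.finite_univ
  rw [Set.preimage_univ] at h1
  have h2 : (U.ι '' Set.univ).Finite := h1.image _
  rwa [Set.image_univ, Scheme.Opens.range_ι] at h2

/-- **S14888** (no valuation hypothesis needed). -/
theorem main (R : Type u) [CommRing R] [Finite (PrimeSpectrum R)]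
    {X : Scheme.{u}} (f : X ⟶ Spec (CommRingCat.of R)) [LocallyOfFiniteType f]
    [LocallyQuasiFinite f] (x : X) :
    IsOpenImmersion (X.fromSpecStalk x) ∧ LocallyOfFiniteType (X.fromSpecStalk x ≫ f) := by
  obtain ⟨_, ⟨U, hU, rfl⟩, hxU, -⟩ :=
    X.isBasis_affineOpens.exists_subset_of_mem_open (Set.mem_univ x) isOpen_univ
  obtain ⟨W, hWo, hxW, hmin⟩ :=
    exists_minimal_nhd x (U : Set X) U.isOpen hxU (finite_affineOpen f U hU)
  haveI : IsOpenImmersion (X.fromSpecStalk x) :=
    isOpenImmersion_fromSpecStalk_of_minimal x ⟨W, hWo⟩ hxW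
      (fun V hxV => hmin V V.isOpen hxV)
  exact ⟨inferInstance, inferInstance⟩

end Groth.Agent.H1.FinSpecStalk
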