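import Mathlib
set_option autoImplicit false
universe u
open CategoryTheory AlgebraicGeometry IsLocalRing

namespace Groth.Agent.H1.FinUnr

/-- Finite, unique prime `q` over `p`, unramified at `q`, trivial residue field extension:
there is `r ∉ p` with `r • B ⊆ A`. -/
theorem exists_forall_mul_mem_range {R S : Type*} [CommRing R] [CommRing S] [Algebra R S]
    {p : Ideal R} [p.IsPrime] {q : Ideal S} [q.IsPrime] (hq : p.primesOver S = {q})
    [Module.Finite R S] [q.LiesOver p] [Algebra.IsUnramifiedAt R q]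
    [Algebra (Localization.AtPrime p) (Localization.AtPrime q)]
    [Localization.AtPrime.IsLiesOverAlgebra p q]
    (H : Function.Surjective (algebraMap p.ResidueField q.ResidueField)) :
    ∃ r ∉ p, ∀ x : S, ∃ a : R, algebraMap R S a = x * algebraMap R S r := by
  classical
  have Hs := Localization.localRingHom_surjective_of_primesOver_eq_singleton hq H
  have key (x : S) : ∃ a, ∃ b ∉ p, algebraMap R S a = x * algebraMap R S b := by
    have := (IsLocalization.mk'_surjective p.primeCompl).exists.mp (Hs (algebraMap _ _ x))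
    simp only [Localization.localRingHom_mk', Prod.exists, Subtype.exists, Ideal.mem_primeCompl_iff,
      IsLocalization.mk'_eq_iff_eq_mul, exists_prop, ← map_mul,
      IsLocalization.eq_iff_exists q.primeCompl] at this
    obtain ⟨a, b, hbp, c, hcq, hc⟩ := this
    obtain ⟨d, hd, e, he⟩ := Ideal.exists_notMem_dvd_algebraMap_of_primesOver_eq_singleton hq _ hcq
    exact ⟨d * a, d * b, ‹p.IsPrime›.mul_notMem hd hbp, by grind⟩
  choose a b hbp e using key
  obtain ⟨s, hs⟩ := Module.Finite.fg_top (R := R) (M := S)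
  refine ⟨∏ i ∈ s, b i, prod_mem (S := p.primeCompl) fun _ _ ↦ hbp _, ?_⟩
  intro x
  have hx : x ∈ Submodule.span R (s : Set S) := hs ▸ Submodule.mem_top
  induction hx using Submodule.span_induction with
  | mem y hy =>
    refine ⟨(∏ i ∈ s.erase y, b i) * a y, ?_⟩
    rw [← Finset.prod_erase_mul s b hy, map_mul, map_mul, e]
    ring
  | zero => exact ⟨0, by simp⟩
  | add y z _ _ hy hz =>
    obtain ⟨ay, hay⟩ := hy
    obtain ⟨az, haz⟩ := hz
    exact ⟨ay + az, by rw [map_add, hay, haz, add_mul]⟩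
  | smul c y _ hy =>
    obtain ⟨ay, hay⟩ := hy
    exact ⟨c * ay, by rw [map_mul, hay, Algebra.smul_def, mul_assoc]⟩


/-- "The residue field map is surjective", phrased for arbitrary ring homs. -/
def ResSurj {R S : Type u} [CommRing R] [CommRing S] (φ : R →+* S) : Prop :=
  ∀ t : S, ∃ r : R, ¬ IsUnit (t - φ r)

theorem resSurj_respectsIso : RingHom.RespectsIso @ResSurj := by
  constructor
  · intro R S T _ _ _ f e hf t
    obtain ⟨r, hr⟩ := hf (e.symm t)
    refine ⟨r, fun h ↦ hr ?_⟩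
    have : e.symm (t - (e.toRingHom.comp f) r) = e.symm t - f r := by simp
    rw [← this]
    exact h.map e.symm
  · intro R S T _ _ _ f e hf t
    obtain ⟨r, hr⟩ := hf t
    exact ⟨e.symm r, by simpa using hr⟩

theorem resSurj_stalkMap {X S : Scheme.{u}} (f : X ⟶ S) (x : X)
    (hκ : Function.Surjective (f.residueFieldMap x)) : ResSurj (f.stalkMap x).hom := by
  intro t
  obtain ⟨r, hr⟩ := hκ (IsLocalRing.residue _ t)
  obtain ⟨r, rfl⟩ := IsLocalRing.residue_surjective r
  refine ⟨r, ?_⟩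
  change (t - (f.stalkMap x).hom r) ∈ IsLocalRing.maximalIdeal _
  rw [← IsLocalRing.residue_eq_zero_iff, map_sub, ← hr]
  exact sub_eq_zero.mpr rfl

theorem surjective_of_resSurj {R S : Type u} [CommRing R] [CommRing S] [Algebra R S]
    (p : Ideal R) [p.IsPrime] (q : Ideal S) [q.IsPrime] [q.LiesOver p]
    [Algebra (Localization.AtPrime p) (Localization.AtPrime q)]
    [Localization.AtPrime.IsLiesOverAlgebra p q]
    (h : ResSurj (algebraMap (Localization.AtPrime p) (Localization.AtPrime q))) :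
    Function.Surjective (algebraMap p.ResidueField q.ResidueField) := by
  intro y
  obtain ⟨t, rfl⟩ := IsLocalRing.residue_surjective y
  obtain ⟨r, hr⟩ := h t
  refine ⟨IsLocalRing.residue _ r, ?_⟩
  have hr' : t - algebraMap _ _ r ∈ IsLocalRing.maximalIdeal (Localization.AtPrime q) := hr
  rw [← IsLocalRing.residue_eq_zero_iff, map_sub, sub_eq_zero] at hr'
  rw [hr', ← IsLocalRing.ResidueField.algebraMap_eq, ← IsLocalRing.ResidueField.algebraMap_eq,
    ← IsScalarTower.algebraMap_apply, ← IsScalarTower.algebraMap_apply]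


theorem surjective_app_basicOpen {X S : Scheme.{u}} (f : X ⟶ S) (V : S.Opens)
    (hW : IsAffineOpen (f ⁻¹ᵁ V))
    (r : Γ(S, V))
    (H : ∀ b : Γ(X, f ⁻¹ᵁ V), ∃ a : Γ(S, V), f.app V a = b * f.app V r) :
    Function.Surjective (f.app (S.basicOpen r)) := by
  intro y
  let i : f ⁻¹ᵁ (S.basicOpen r) ⟶ f ⁻¹ᵁ V := homOfLE (f.preimage_mono (S.basicOpen_le r))
  have hloc := hW.isLocalization_of_eq_basicOpen (f.app V r) i (Scheme.preimage_basicOpen f r)
  letI := (X.presheaf.map i.op).hom.toAlgebra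
  obtain ⟨b, ⟨_, n, rfl⟩, hb⟩ := IsLocalization.exists_mk'_eq (Submonoid.powers (f.app V r)) y
  obtain ⟨a, ha⟩ := H b
  have hunit : IsUnit (S.presheaf.map (homOfLE (S.basicOpen_le r)).op r) :=
    S.toRingedSpace.isUnit_res_basicOpen r
  obtain ⟨u, hu⟩ := hunit
  have hnat : ∀ c : Γ(S, V), f.app (S.basicOpen r) (S.presheaf.map (homOfLE (S.basicOpen_le r)).op c) =
      X.presheaf.map i.op (f.app V c) := by
    intro c
    have := f.naturality (homOfLE (S.basicOpen_le r)).op
    exact congr($(this).hom c)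
  refine ⟨S.presheaf.map (homOfLE (S.basicOpen_le r)).op a * (↑(u⁻¹ ^ (n + 1)) : Γ(S, S.basicOpen r)), ?_⟩
  have h1 : f.app (S.basicOpen r) ↑u = X.presheaf.map i.op (f.app V r) := by rw [hu, hnat]
  have h2 : f.app (S.basicOpen r) ↑u * f.app (S.basicOpen r) ↑u⁻¹ = 1 := by
    rw [← map_mul, Units.mul_inv, map_one]
  have h3 : y * X.presheaf.map i.op (f.app V r) ^ n = X.presheaf.map i.op b := by
    rw [← hb]
    have := IsLocalization.mk'_spec (M := Submonoid.powers (f.app V r)) Γ(X, f ⁻¹ᵁ S.basicOpen r) b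
      ⟨f.app V r ^ n, n, rfl⟩
    rw [map_pow] at this
    exact this
  have h4 : f.app (S.basicOpen r) (S.presheaf.map (homOfLE (S.basicOpen_le r)).op a) =
      y * f.app (S.basicOpen r) ↑u ^ (n + 1) := by
    rw [hnat, ha, map_mul, ← h3, h1, pow_succ, mul_assoc]
  rw [map_mul, h4, Units.val_pow_eq_pow_val, map_pow, mul_assoc, ← mul_pow, h2, one_pow, mul_one]

theorem surjective_appLE_of_eq {X S : Scheme.{u}} (f : X ⟶ S) (U U₁ : S.Opens) (W₁ : X.Opens)
    (e : W₁ ≤ f ⁻¹ᵁ U₁) (hU₁ : U₁ = U) (hW₁ : W₁ = f ⁻¹ᵁ U₁)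
    (H : Function.Surjective (f.app U)) : Function.Surjective (f.appLE U₁ W₁ e) := by
  subst hU₁ hW₁
  rwa [Scheme.Hom.appLE_eq_app] 

theorem isClosedImmersion_restrict_basicOpen {X S : Scheme.{u}} (f : X ⟶ S) [IsAffineHom f]
    (V : S.Opens) (hV : IsAffineOpen V) (r : Γ(S, V))
    (H : ∀ b : Γ(X, f ⁻¹ᵁ V), ∃ a : Γ(S, V), f.app V a = b * f.app V r) :
    IsClosedImmersion (f ∣_ S.basicOpen r) := by
  have hU : IsAffineOpen (S.basicOpen r) := hV.basicOpen r
  have hW : IsAffineOpen (f ⁻¹ᵁ V) := hV.preimage f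
  have hU' : IsAffineOpen (f ⁻¹ᵁ S.basicOpen r) := hU.preimage f
  haveI : IsAffine (S.basicOpen r).toScheme := hU
  haveI : IsAffine (f ⁻¹ᵁ S.basicOpen r).toScheme := hU'
  apply IsClosedImmersion.of_surjective_of_isAffine
  rw [Scheme.Hom.appTop, morphismRestrict_app']
  refine surjective_appLE_of_eq f (S.basicOpen r) _ _ _ ?_ ?_ (surjective_app_basicOpen f V hW r H)
  · simp
  · exact image_morphismRestrict_preimage f _ ⊤

set_option backward.defeqAttrib.useBackward true in
set_option backward.isDefEq.respectTransparency false in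
theorem exists_affine_data {X S : Scheme.{u}} (f : X ⟶ S) [IsFinite f] [FormallyUnramified f]
    (s : S) (x : X)
    (hx : f.base ⁻¹' {s} = {x}) (hκ : Function.Surjective (f.residueFieldMap x)) :
    ∃ (V : S.Opens) (_ : IsAffineOpen V) (r : Γ(S, V)), s ∈ S.basicOpen r ∧
      ∀ b : Γ(X, f ⁻¹ᵁ V), ∃ a : Γ(S, V), f.app V a = b * f.app V r := by
  obtain rfl : f x = s := by
    have : x ∈ f.base ⁻¹' {s} := hx ▸ rfl
    exact this
  obtain ⟨_, ⟨V, hV, rfl⟩, hsV, -⟩ :=
    S.isBasis_affineOpens.exists_subset_of_mem_open (Set.mem_univ (f x)) isOpen_univ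
  have hW : IsAffineOpen (f ⁻¹ᵁ V) := hV.preimage f
  have hxW : x ∈ f ⁻¹ᵁ V := hsV
  have hfin : (f.appLE V (f ⁻¹ᵁ V) le_rfl).hom.Finite := by
    rw [Scheme.Hom.appLE_eq_app]; exact f.finite_app V hV
  algebraize [(f.appLE V (f ⁻¹ᵁ V) le_rfl).hom]
  let p := (hV.primeIdealOf ⟨f x, hsV⟩).asIdeal
  let q := (hW.primeIdealOf ⟨x, hxW⟩).asIdeal
  have : q.LiesOver p :=
    ⟨congr($(IsAffineOpen.comap_primeIdealOf_appLE V hV (f ⁻¹ᵁ V) hW le_rfl hxW).1).symm⟩
  let := Localization.AtPrime.algebraOfLiesOver p q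
  have hunr : Algebra.FormallyUnramified (Localization.AtPrime p) (Localization.AtPrime q) := by
    rw [← RingHom.formallyUnramified_algebraMap]
    exact (RingHom.FormallyUnramified.respectsIso.arrow_mk_iso_iff
      (IsAffineOpen.arrowStalkMapIso f V hV (f ⁻¹ᵁ V) hW le_rfl hxW)).mp
        (FormallyUnramified.stalkMap f x)
  haveI : Algebra.FormallyUnramified Γ(S, V) (Localization.AtPrime p) :=
    Algebra.FormallyUnramified.of_isLocalization p.primeCompl
  have : Algebra.IsUnramifiedAt Γ(S, V) q :=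
    Algebra.FormallyUnramified.comp Γ(S, V) (Localization.AtPrime p) (Localization.AtPrime q)
  have hres : Function.Surjective (algebraMap p.ResidueField q.ResidueField) :=
    surjective_of_resSurj p q ((resSurj_respectsIso.arrow_mk_iso_iff
      (IsAffineOpen.arrowStalkMapIso f V hV (f ⁻¹ᵁ V) hW le_rfl hxW)).mp (resSurj_stalkMap f x hκ))
  have hq : p.primesOver Γ(X, f ⁻¹ᵁ V) = {q} := by
    ext q'
    simp only [Set.mem_singleton_iff]
    constructor
    · rintro ⟨hq'prime, hq'over⟩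
      let y : PrimeSpectrum Γ(X, f ⁻¹ᵁ V) := ⟨q', hq'prime⟩
      have h1 : f (hW.fromSpec y) = f x := by
        have := congr($(IsAffineOpen.SpecMap_appLE_fromSpec f hV hW le_rfl) y)
        rw [Scheme.Hom.comp_apply, Scheme.Hom.comp_apply] at this
        rw [← this]
        have h' : Spec.map (f.appLE V (f ⁻¹ᵁ V) le_rfl) y = hV.primeIdealOf ⟨f x, hsV⟩ :=
          PrimeSpectrum.ext hq'over.over.symm
        rw [h', hV.fromSpec_primeIdealOf]
      have h2 : hW.fromSpec y = x := by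
        have : hW.fromSpec y ∈ f.base ⁻¹' {f x} := h1
        rw [hx] at this
        exact this
      have h3 : hW.fromSpec (hW.primeIdealOf ⟨x, hxW⟩) = x := hW.fromSpec_primeIdealOf ⟨x, hxW⟩
      have : y = hW.primeIdealOf ⟨x, hxW⟩ := hW.fromSpec.isOpenEmbedding.injective (h2.trans h3.symm)
      exact congr($(this).asIdeal)
    · rintro rfl; exact ⟨inferInstance, inferInstance⟩
  obtain ⟨r, hr, H⟩ := exists_forall_mul_mem_range hq hres
  refine ⟨V, hV, r, ?_, ?_⟩
  · rwa [← PrimeSpectrum.mem_basicOpen, IsAffineOpen.primeIdealOf,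
      ← hV.fromSpec_preimage_basicOpen, Scheme.Hom.mem_preimage, ← Scheme.Hom.comp_apply,
      IsAffineOpen.isoSpec_hom, IsAffineOpen.toSpecΓ_fromSpec] at hr
  · intro b
    obtain ⟨a, ha⟩ := H b
    refine ⟨a, ?_⟩
    rw [RingHom.algebraMap_toAlgebra, Scheme.Hom.appLE_eq_app] at ha
    exact ha


theorem main97 {X S : Scheme.{u}} (f : X ⟶ S) [IsFinite f] [FormallyUnramified f] (s : S) (x : X)
    (hx : f.base ⁻¹' {s} = {x}) (hκ : Function.Surjective (f.residueFieldMap x)) :
    ∃ U : S.Opens, s ∈ U ∧ IsClosedImmersion (f ∣_ U) := by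
  obtain ⟨V, hV, r, hsr, H⟩ := exists_affine_data f s x hx hκ
  exact ⟨S.basicOpen r, hsr, isClosedImmersion_restrict_basicOpen f V hV r H⟩

end Groth.Agent.H1.FinUnr
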