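import Mathlib
import Groth.Prelude.Def_Red2
import Groth.Prelude.Def_ChGrp
import Groth.Agent.Lib.Helper9.Misc.GAQ3
import Groth.Agent.Lib.Helper9.Misc.GAQ7

/-! Fixed points of `𝔾_a`/`𝔾_m` actions on proper schemes over a field, by degeneration along a
formal curve (helper1, S15592). -/

set_option autoImplicit false
set_option linter.style.haveILetI false
universe u

namespace Groth.Agent.H1.FixDeg

open CategoryTheory CategoryTheory.Limits MonoidalCategory CartesianMonoidalCategory MonObj GrpObj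
  AlgebraicGeometry Groth.Agent.H9.GAQ Groth.Agent.H4.GaGm

section Abstract

variable {S : Scheme.{u}} {H X : Over S} [GrpObj H]

theorem fixed_of_degeneration [IsSeparated X.hom] (a : AlgGrp.Action H X)
    (x₀ : 𝟙_ (Over S) ⟶ X) {TK TR W WL T₀ : Over S}
    (j : TK ⟶ TR) (tK : TK ⟶ H) (ρ : TR ⟶ X)
    (hρ : j ≫ ρ = lift tK (toUnit TK ≫ x₀) ≫ a.act)
    (c : 𝟙_ (Over S) ⟶ TR)
    (π τ : W ⟶ TR) (et : WL ⟶ W) [IsDominant et.left] [AlgebraicGeometry.IsReduced W.left]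
    (πK τK : WL ⟶ TK) (hπ : et ≫ π = πK ≫ j) (hτ : et ≫ τ = τK ≫ j)
    (gW : W ⟶ H) (hkey : (et ≫ gW) * (πK ≫ tK) = τK ≫ tK)
    (ι₀ : T₀ ⟶ W) (hι₀π : ι₀ ≫ π = toUnit T₀ ≫ c) (hι₀τ : ι₀ ≫ τ = toUnit T₀ ≫ c)
    (hepi : Epi (ι₀ ≫ gW)) :
    a.IsFixedPt (c ≫ ρ) := by
  have hη : et ≫ lift gW (π ≫ ρ) ≫ a.act = et ≫ τ ≫ ρ := by
    calc et ≫ lift gW (π ≫ ρ) ≫ a.act
        = lift (et ≫ gW) (πK ≫ j ≫ ρ) ≫ a.act := by
          rw [comp_lift_assoc, reassoc_of% hπ]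
      _ = lift (et ≫ gW) (lift (πK ≫ tK) (toUnit WL ≫ x₀) ≫ a.act) ≫ a.act := by
          rw [hρ, comp_lift_assoc, comp_toUnit_assoc]
      _ = lift ((et ≫ gW) * (πK ≫ tK)) (toUnit WL ≫ x₀) ≫ a.act :=
          (AlgGrp.Action.lift_mul_act a _ _ _).symm
      _ = τK ≫ j ≫ ρ := by
          rw [hkey, hρ, comp_lift_assoc, comp_toUnit_assoc]
      _ = et ≫ τ ≫ ρ := by rw [reassoc_of% hτ]
  have hE : lift gW (π ≫ ρ) ≫ a.act = τ ≫ ρ := by
    apply Over.OverMorphism.ext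
    refine ext_of_isDominant_of_isSeparated X.hom ?_ et.left ?_
    · rw [Over.w, Over.w]
    · exact congrArg (fun m => m.left) hη
  have h1 : ι₀ ≫ lift gW (π ≫ ρ) ≫ a.act = ι₀ ≫ τ ≫ ρ := by rw [hE]
  rw [comp_lift_assoc, reassoc_of% hι₀π, reassoc_of% hι₀τ] at h1
  have h3 : (ι₀ ≫ gW) ≫ a.orbitMap (c ≫ ρ) = (ι₀ ≫ gW) ≫ (toUnit H ≫ c ≫ ρ) := by
    rw [AlgGrp.Action.comp_orbitMap, comp_toUnit_assoc]
    exact h1
  have h4 : a.orbitMap (c ≫ ρ) = toUnit H ≫ c ≫ ρ := (cancel_epi (ι₀ ≫ gW)).mp h3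
  intro T g
  rw [← AlgGrp.Action.comp_orbitMap, h4, comp_toUnit_assoc]

end Abstract

section Points

variable {k : Type u} [Field k]

/-- `Spec A` as a `k`-scheme through `σ` -/
noncomputable abbrev ABh {A : Type u} [CommRing A] (σ : k →+* A) :
    Over (Spec (CommRingCat.of k)) :=
  Over.mk (Spec.map (CommRingCat.ofHom σ))

variable {A A' A'' : Type u} [CommRing A] [CommRing A'] [CommRing A'']
  {σ : k →+* A} {σ' : k →+* A'} {σ'' : k →+* A''}

noncomputable def abMap (ψ : A →+* A') (h : ψ.comp σ = σ') : ABh σ' ⟶ ABh σ :=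
  Over.homMk (Spec.map (CommRingCat.ofHom ψ)) (by
    show Spec.map (CommRingCat.ofHom ψ) ≫ Spec.map (CommRingCat.ofHom σ) =
      Spec.map (CommRingCat.ofHom σ')
    rw [← Spec.map_comp, ← CommRingCat.ofHom_comp, h])

theorem abMap_comp (ψ : A →+* A') (h : ψ.comp σ = σ') (ψ' : A' →+* A'') (h' : ψ'.comp σ' = σ'') :
    abMap ψ' h' ≫ abMap ψ h = abMap (ψ'.comp ψ) (by rw [RingHom.comp_assoc, h, h']) := by
  apply Over.OverMorphism.ext
  show Spec.map (CommRingCat.ofHom ψ') ≫ Spec.map (CommRingCat.ofHom ψ) =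
    Spec.map (CommRingCat.ofHom (ψ'.comp ψ))
  rw [← Spec.map_comp, ← CommRingCat.ofHom_comp]

theorem abMap_congr {ψ₁ ψ₂ : A →+* A'} (e : ψ₁ = ψ₂) (h₁ : ψ₁.comp σ = σ') (h₂ : ψ₂.comp σ = σ') :
    abMap ψ₁ h₁ = abMap ψ₂ h₂ := by
  subst e; rfl

/-- sections of `Spec A` -/
noncomputable def sc (σ : k →+* A) : A →+* Γ((ABh σ).left, ⊤) :=
  (Scheme.ΓSpecIso (CommRingCat.of A)).inv.hom

theorem sc_abMap (ψ : A →+* A') (h : ψ.comp σ = σ') (r : A) :
    (abMap ψ h).left.appTop.hom (sc σ r) = sc σ' (ψ r) := by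
  have h2 := congrArg (fun f => f.hom r) (Scheme.ΓSpecIso_inv_naturality (CommRingCat.ofHom ψ))
  simp only [CommRingCat.hom_comp, RingHom.coe_comp, Function.comp_apply,
    CommRingCat.hom_ofHom] at h2
  exact h2.symm

noncomputable def gaP (σ : k →+* A) (r : A) : ABh σ ⟶ Red.Ga (Spec (CommRingCat.of k)) :=
  gaPt (sc σ r)

theorem gaFn_gaP (r : A) : Red.gaFn (gaP σ r) = sc σ r := gaFn_gaPt _

theorem abMap_gaP (ψ : A →+* A') (h : ψ.comp σ = σ') (r : A) :
    abMap ψ h ≫ gaP σ r = gaP σ' (ψ r) := by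
  apply gaFn_injective
  rw [gaFn_comp, gaFn_gaP, gaFn_gaP, sc_abMap]

theorem gaP_mul (r r' : A) : gaP σ r * gaP σ r' = gaP σ (r + r') := by
  apply gaFn_injective
  rw [gaFn_mul, gaFn_gaP, gaFn_gaP, gaFn_gaP, map_add]

noncomputable def gmP (σ : k →+* A) (v : Aˣ) : ABh σ ⟶ Red.Gm (Spec (CommRingCat.of k)) :=
  gmPt (Units.map (sc σ : A →* Γ((ABh σ).left, ⊤)) v)

theorem gmUnit_gmP (v : Aˣ) :
    gmUnit (gmP σ v) = Units.map (sc σ : A →* Γ((ABh σ).left, ⊤)) v := gmUnit_gmPt _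

theorem abMap_gmP (ψ : A →+* A') (h : ψ.comp σ = σ') (v : Aˣ) :
    abMap ψ h ≫ gmP σ v = gmP σ' (Units.map (ψ : A →* A') v) := by
  apply gmUnit_injective
  rw [gmUnit_comp, gmUnit_gmP, gmUnit_gmP]
  apply Units.ext
  simp only [Units.coe_map, MonoidHom.coe_coe]
  exact sc_abMap ψ h v

theorem gmP_mul (v v' : Aˣ) : gmP σ v * gmP σ v' = gmP σ (v * v') := by
  apply gmUnit_injective
  rw [gmUnit_mul, gmUnit_gmP, gmUnit_gmP, gmUnit_gmP, map_mul]

/-- the `k`-point of `Spec A` attached to a retraction `ε` of `σ` -/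
noncomputable def cpt (σ : k →+* A) (ε : A →+* k) (h : ε.comp σ = RingHom.id k) :
    𝟙_ (Over (Spec (CommRingCat.of k))) ⟶ ABh σ :=
  Over.homMk (U := 𝟙_ (Over (Spec (CommRingCat.of k)))) (V := ABh σ)
    (Spec.map (CommRingCat.ofHom ε)) (by
      show Spec.map (CommRingCat.ofHom ε) ≫ Spec.map (CommRingCat.ofHom σ) = 𝟙 _
      rw [← Spec.map_comp, ← CommRingCat.ofHom_comp, h, CommRingCat.ofHom_id, Spec.map_id])

theorem toUnit_cpt (σ : k →+* A) (ε : A →+* k) (h : ε.comp σ = RingHom.id k) (σ' : k →+* A') :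
    toUnit (ABh σ') ≫ cpt σ ε h =
      abMap (σ'.comp ε) (by rw [RingHom.comp_assoc, h, RingHom.comp_id]) := by
  apply Over.OverMorphism.ext
  show Spec.map (CommRingCat.ofHom σ') ≫ Spec.map (CommRingCat.ofHom ε) =
    Spec.map (CommRingCat.ofHom (σ'.comp ε))
  rw [← Spec.map_comp, ← CommRingCat.ofHom_comp]

theorem isDominant_abMap_left (ψ : A →+* A') (h : ψ.comp σ = σ') (hψ : Function.Injective ψ) :
    IsDominant (abMap ψ h).left := by
  constructor
  have : DenseRange (PrimeSpectrum.comap ψ) := by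
    rw [PrimeSpectrum.denseRange_comap_iff_ker_le_nilRadical,
      (RingHom.injective_iff_ker_eq_bot _).mp hψ]
    exact bot_le
  exact this

theorem exists_extension (X : Over (Spec (CommRingCat.of k))) [IsProper X.hom]
    {R K : Type u} [CommRing R] [IsDomain R] [ValuationRing R] [Field K] [Algebra R K]
    [IsFractionRing R K] (σ : k →+* R) (y : ABh ((algebraMap R K).comp σ) ⟶ X) :
    ∃ ρ : ABh σ ⟶ X, abMap (σ := σ) (σ' := (algebraMap R K).comp σ) (algebraMap R K) rfl ≫ ρ = y := by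
  have hex : ValuativeCriterion.Existence X.hom := by
    have h : UniversallyClosed X.hom := inferInstance
    rw [UniversallyClosed.eq_valuativeCriterion] at h
    exact h.1
  obtain ⟨⟨l⟩⟩ := hex
    { R := R, K := K, i₁ := y.left, i₂ := Spec.map (CommRingCat.ofHom σ)
      commSq := ⟨by
        rw [Over.w y]
        show Spec.map (CommRingCat.ofHom ((algebraMap R K).comp σ)) = _
        rw [CommRingCat.ofHom_comp, Spec.map_comp]⟩ }
  refine ⟨Over.homMk l.l l.fac_right, ?_⟩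
  apply Over.OverMorphism.ext
  exact l.fac_left

theorem gaP_X : gaP (algebraMap k (Polynomial k)) Polynomial.X = (θ (K := k)).inv := by
  apply gaFn_injective
  rw [gaFn_gaP]
  have h := gaFn_comp_θinv (𝟙 (AB (K := k) (Polynomial k)))
  rw [Category.id_comp] at h
  exact (show sc _ Polynomial.X = co (𝟙 (AB (K := k) (Polynomial k))) Polynomial.X from rfl).trans
    h.symm

theorem gmP_T : gmP (algebraMap k (LaurentPolynomial k)) (LaurentPolynomial.isUnit_T 1).unit =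
    (θm (K := k)).inv := by
  apply gmUnit_injective
  rw [gmUnit_gmP]
  have h := gmUnit_comp_θminv (𝟙 (AB (K := k) (LaurentPolynomial k)))
  rw [Category.id_comp] at h
  refine Eq.trans ?_ h.symm
  apply Units.ext
  rfl

end Points

end Groth.Agent.H1.FixDeg
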