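import Mathlib
import Groth.Agent.Lib.Helper1.FixDeg

/-! Fixed points of `𝔾_a`/`𝔾_m` actions on proper schemes over a field: the degeneration data
(helper1, S15592). -/

set_option autoImplicit false
set_option linter.style.haveILetI false
universe u

namespace Groth.Agent.H1.FixDeg

open CategoryTheory CategoryTheory.Limits MonoidalCategory CartesianMonoidalCategory MonObj GrpObj
  AlgebraicGeometry Groth.Agent.H9.GAQ Groth.Agent.H4.GaGm

section Datum

variable (k : Type u) [Field k]

noncomputable abbrev σR : k →+* PowerSeries k := PowerSeries.C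
noncomputable abbrev jR : PowerSeries k →+* LaurentSeries k :=
  algebraMap (PowerSeries k) (LaurentSeries k)
noncomputable abbrev σK : k →+* LaurentSeries k := (jR k).comp (σR k)
noncomputable abbrev εR : PowerSeries k →+* k := PowerSeries.constantCoeff

theorem εR_σR : (εR k).comp (σR k) = RingHom.id k := by
  refine RingHom.ext fun c => ?_
  simp

noncomputable def sK : LaurentSeries k := jR k PowerSeries.X

theorem sK_ne_zero : sK k ≠ 0 := by
  intro h
  have h2 : (PowerSeries.X : PowerSeries k) = 0 :=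
    (IsFractionRing.injective (PowerSeries k) (LaurentSeries k)) (h.trans (map_zero _).symm)
  exact PowerSeries.X_ne_zero h2

noncomputable def liftK {L : Type u} [Field L] (g : PowerSeries k →+* L)
    (hg : g PowerSeries.X ≠ 0) : LaurentSeries k →+* L :=
  IsLocalization.Away.lift (PowerSeries.X : PowerSeries k) (g := g) (isUnit_iff_ne_zero.mpr hg)

theorem liftK_comp {L : Type u} [Field L] (g : PowerSeries k →+* L) (hg : g PowerSeries.X ≠ 0) :
    (liftK k g hg).comp (jR k) = g :=
  IsLocalization.Away.lift_comp _ _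

variable {k} {A₀ : Type u} [CommRing A₀]

noncomputable abbrev σB (σ₀ : k →+* A₀) : k →+* PowerSeries A₀ :=
  (PowerSeries.C (R := A₀)).comp σ₀

noncomputable abbrev ηB (A₀ : Type u) [CommRing A₀] :
    PowerSeries A₀ →+* FractionRing (PowerSeries A₀) := algebraMap _ _

noncomputable abbrev σL (σ₀ : k →+* A₀) : k →+* FractionRing (PowerSeries A₀) :=
  (ηB A₀).comp (σB σ₀)

theorem cc_comp (σ₀ : k →+* A₀) :
    (PowerSeries.constantCoeff (R := A₀)).comp (σB σ₀) = σ₀ := by
  refine RingHom.ext fun c => ?_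
  simp

theorem map_comp_σR (σ₀ : k →+* A₀) : (PowerSeries.map σ₀).comp (σR k) = σB σ₀ := by
  refine RingHom.ext fun c => ?_
  simp

theorem exists_fixed_of_datum {H X : Over (Spec (CommRingCat.of k))} [GrpObj H] [IsProper X.hom]
    (a : AlgGrp.Action H X) (x₀ : 𝟙_ (Over (Spec (CommRingCat.of k))) ⟶ X)
    [IsDomain A₀] (σ₀ : k →+* A₀) (τ : PowerSeries k →+* PowerSeries A₀)
    (hτσ : τ.comp (σR k) = σB σ₀)
    (hτε : (PowerSeries.constantCoeff (R := A₀)).comp τ = σ₀.comp (εR k))
    (hτX : τ PowerSeries.X ≠ 0)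
    (tK : ABh (σK k) ⟶ H) (gW : ABh (σB σ₀) ⟶ H)
    (hkey : ∀ (πK τK : LaurentSeries k →+* FractionRing (PowerSeries A₀))
        (hπK : πK.comp (σK k) = σL σ₀) (hτK : τK.comp (σK k) = σL σ₀),
        πK.comp (jR k) = (ηB A₀).comp (PowerSeries.map σ₀) →
        τK.comp (jR k) = (ηB A₀).comp τ →
        (abMap (ηB A₀) (rfl : (ηB A₀).comp (σB σ₀) = σL σ₀) ≫ gW) * (abMap πK hπK ≫ tK) =
          abMap τK hτK ≫ tK)
    (hepi : Epi (abMap (PowerSeries.constantCoeff (R := A₀)) (cc_comp σ₀) ≫ gW)) :
    ∃ x : 𝟙_ (Over (Spec (CommRingCat.of k))) ⟶ X, a.IsFixedPt x := by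
  have hinj : Function.Injective (ηB A₀) := IsFractionRing.injective _ _
  have hπX : ((ηB A₀).comp (PowerSeries.map σ₀)) PowerSeries.X ≠ 0 := by
    rw [RingHom.comp_apply, PowerSeries.map_X]
    intro h
    exact PowerSeries.X_ne_zero (hinj (h.trans (map_zero _).symm))
  have hτX' : ((ηB A₀).comp τ) PowerSeries.X ≠ 0 := by
    rw [RingHom.comp_apply]
    intro h
    exact hτX (hinj (h.trans (map_zero _).symm))
  obtain ⟨πK, hπKdef⟩ : ∃ πK, πK = liftK k _ hπX := ⟨_, rfl⟩
  obtain ⟨τK, hτKdef⟩ : ∃ τK, τK = liftK k _ hτX' := ⟨_, rfl⟩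
  have h1 : πK.comp (jR k) = (ηB A₀).comp (PowerSeries.map σ₀) := by
    rw [hπKdef]; exact liftK_comp k _ _
  have h2 : τK.comp (jR k) = (ηB A₀).comp τ := by
    rw [hτKdef]; exact liftK_comp k _ _
  have hπK : πK.comp (σK k) = σL σ₀ := by
    rw [← RingHom.comp_assoc, h1, RingHom.comp_assoc, map_comp_σR]
  have hτK : τK.comp (σK k) = σL σ₀ := by
    rw [← RingHom.comp_assoc, h2, RingHom.comp_assoc, hτσ]
  obtain ⟨ρ, hρ⟩ := exists_extension X (R := PowerSeries k) (K := LaurentSeries k) (σR k)
    (lift tK (toUnit _ ≫ x₀) ≫ a.act)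
  haveI : IsDominant (abMap (σ := σB σ₀) (σ' := σL σ₀) (ηB A₀) rfl).left :=
    isDominant_abMap_left _ _ hinj
  haveI : AlgebraicGeometry.IsReduced (ABh (σB σ₀)).left := by
    show AlgebraicGeometry.IsReduced (Spec (CommRingCat.of (PowerSeries A₀)))
    infer_instance
  refine ⟨cpt (σR k) (εR k) (εR_σR k) ≫ ρ, ?_⟩
  refine fixed_of_degeneration a x₀
    (abMap (σ := σR k) (σ' := σK k) (jR k) rfl) tK ρ hρ (cpt (σR k) (εR k) (εR_σR k))
    (abMap (PowerSeries.map σ₀) (map_comp_σR σ₀)) (abMap τ hτσ)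
    (abMap (σ := σB σ₀) (σ' := σL σ₀) (ηB A₀) rfl)
    (abMap πK hπK) (abMap τK hτK) ?_ ?_ gW (hkey πK τK hπK hτK h1 h2)
    (abMap (PowerSeries.constantCoeff (R := A₀)) (cc_comp σ₀)) ?_ ?_ hepi
  · rw [abMap_comp, abMap_comp]
    exact abMap_congr h1.symm _ _
  · rw [abMap_comp, abMap_comp]
    exact abMap_congr h2.symm _ _
  · rw [abMap_comp, toUnit_cpt]
    refine abMap_congr ?_ _ _
    refine RingHom.ext fun f => ?_
    rw [RingHom.comp_apply, RingHom.comp_apply, ← PowerSeries.coeff_zero_eq_constantCoeff_apply,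
      PowerSeries.coeff_map, PowerSeries.coeff_zero_eq_constantCoeff_apply]
  · rw [abMap_comp, toUnit_cpt]
    exact abMap_congr hτε _ _

end Datum

section Gm

variable (k : Type u) [Field k]

noncomputable def gU : (LaurentPolynomial k)ˣ := (LaurentPolynomial.isUnit_T 1).unit

theorem gU_val : ((gU k : (LaurentPolynomial k)ˣ) : LaurentPolynomial k) = LaurentPolynomial.T 1 :=
  rfl

noncomputable def gUB : (PowerSeries (LaurentPolynomial k))ˣ :=
  Units.map ((PowerSeries.C : LaurentPolynomial k →+* PowerSeries (LaurentPolynomial k)) :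
    LaurentPolynomial k →* PowerSeries (LaurentPolynomial k)) (gU k)

theorem gUB_val : ((gUB k : (PowerSeries (LaurentPolynomial k))ˣ) :
    PowerSeries (LaurentPolynomial k)) = PowerSeries.C (LaurentPolynomial.T 1) := rfl

noncomputable def τm : PowerSeries k →+* PowerSeries (LaurentPolynomial k) :=
  (PowerSeries.rescale (LaurentPolynomial.T 1 : LaurentPolynomial k)).comp
    (PowerSeries.map (algebraMap k (LaurentPolynomial k)))

theorem rescale_C' {R : Type*} [CommSemiring R] (a r : R) :
    PowerSeries.rescale a (PowerSeries.C r) = PowerSeries.C r := by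
  ext n
  rw [PowerSeries.coeff_rescale, PowerSeries.coeff_C]
  split_ifs with h
  · subst h; simp
  · simp

theorem τm_σR : (τm k).comp (σR k) = σB (algebraMap k (LaurentPolynomial k)) := by
  refine RingHom.ext fun c => ?_
  simp [τm, rescale_C']

theorem τm_ε : (PowerSeries.constantCoeff (R := LaurentPolynomial k)).comp (τm k) =
    (algebraMap k (LaurentPolynomial k)).comp (εR k) := by
  refine RingHom.ext fun f => ?_
  simp only [τm, RingHom.comp_apply]
  rw [← PowerSeries.coeff_zero_eq_constantCoeff_apply, PowerSeries.coeff_rescale, _root_.pow_zero,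
    _root_.one_mul, PowerSeries.coeff_map, PowerSeries.coeff_zero_eq_constantCoeff_apply]

theorem τm_X : τm k PowerSeries.X =
    PowerSeries.C (LaurentPolynomial.T 1 : LaurentPolynomial k) * PowerSeries.X := by
  simp only [τm, RingHom.comp_apply, PowerSeries.map_X, PowerSeries.rescale_X]

theorem τm_X_ne : τm k PowerSeries.X ≠ 0 := by
  rw [τm_X]
  intro h
  have hu : IsUnit (PowerSeries.C (LaurentPolynomial.T 1 : LaurentPolynomial k)) :=
    (LaurentPolynomial.isUnit_T 1).map PowerSeries.C
  exact PowerSeries.X_ne_zero ((hu.mul_right_eq_zero).mp h)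

theorem fixed_Gm {X : Over (Spec (CommRingCat.of k))} [IsProper X.hom]
    (a : AlgGrp.Action (Red.Gm (Spec (CommRingCat.of k))) X)
    (x₀ : 𝟙_ (Over (Spec (CommRingCat.of k))) ⟶ X) :
    ∃ x : 𝟙_ (Over (Spec (CommRingCat.of k))) ⟶ X, a.IsFixedPt x := by
  refine exists_fixed_of_datum a x₀ (algebraMap k (LaurentPolynomial k)) (τm k) (τm_σR k) (τm_ε k)
    (τm_X_ne k) (gmP (σK k) (Units.mk0 (sK k) (sK_ne_zero k)))
    (gmP (σB (algebraMap k (LaurentPolynomial k))) (gUB k)) ?_ ?_
  · intro πK τK hπK hτK h1 h2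
    rw [abMap_gmP, abMap_gmP, abMap_gmP, gmP_mul]
    congr 1
    apply Units.ext
    simp only [Units.val_mul, Units.coe_map, MonoidHom.coe_coe, Units.val_mk0, gUB_val]
    have e1 : πK (sK k) = ηB _ PowerSeries.X := by
      have := RingHom.congr_fun h1 PowerSeries.X
      rw [RingHom.comp_apply, RingHom.comp_apply, PowerSeries.map_X] at this
      exact this
    have e2 : τK (sK k) = ηB _ (τm k PowerSeries.X) := RingHom.congr_fun h2 PowerSeries.X
    rw [e1, e2, τm_X, map_mul]
  · have h : abMap (PowerSeries.constantCoeff (R := LaurentPolynomial k)) (cc_comp _) ≫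
        gmP (σB (algebraMap k (LaurentPolynomial k))) (gUB k) = (θm (K := k)).inv := by
      rw [abMap_gmP, ← gmP_T]
      congr 1
    rw [h]; infer_instance

end Gm

section Ga

variable (k : Type u) [Field k]

noncomputable def uS : PowerSeries (Polynomial k) :=
  1 + PowerSeries.C (Polynomial.X : Polynomial k) * PowerSeries.X

theorem isUnit_uS : IsUnit (uS k) := by
  rw [PowerSeries.isUnit_iff_constantCoeff]
  simp [uS]

noncomputable def aS : PowerSeries (Polynomial k) :=
  (PowerSeries.X : PowerSeries (Polynomial k)) *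
    (((isUnit_uS k).unit⁻¹ : (PowerSeries (Polynomial k))ˣ) : PowerSeries (Polynomial k))

theorem cc_aS : PowerSeries.constantCoeff (aS k) = 0 := by simp [aS]

theorem hasSubst_aS : PowerSeries.HasSubst (aS k) :=
  PowerSeries.HasSubst.of_constantCoeff_zero' (cc_aS k)

noncomputable def τa : PowerSeries k →+* PowerSeries (Polynomial k) :=
  (PowerSeries.substAlgHom (R := k) (hasSubst_aS k)).toRingHom

theorem τa_apply (f : PowerSeries k) : τa k f = PowerSeries.subst (aS k) f := by
  show (PowerSeries.substAlgHom (R := k) (hasSubst_aS k)) f = _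
  rw [PowerSeries.coe_substAlgHom]

theorem τa_σR : (τa k).comp (σR k) = σB (algebraMap k (Polynomial k)) := by
  refine RingHom.ext fun c => ?_
  show (PowerSeries.substAlgHom (R := k) (hasSubst_aS k)) (PowerSeries.C c) =
    PowerSeries.C (algebraMap k (Polynomial k) c)
  rw [PowerSeries.C_eq_algebraMap, AlgHom.commutes, PowerSeries.algebraMap_apply]

theorem τa_X : τa k PowerSeries.X = aS k :=
  PowerSeries.substAlgHom_X (hasSubst_aS k)

theorem τa_ε : (PowerSeries.constantCoeff (R := Polynomial k)).comp (τa k) =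
    (algebraMap k (Polynomial k)).comp (εR k) := by
  refine RingHom.ext fun f => ?_
  rw [RingHom.comp_apply, RingHom.comp_apply]
  have h1 : PowerSeries.constantCoeff
      (τa k (f - PowerSeries.C (PowerSeries.constantCoeff f))) = 0 := by
    rw [τa_apply]
    exact PowerSeries.constantCoeff_subst_eq_zero (cc_aS k) _ (by simp)
  have h2 : τa k (PowerSeries.C (PowerSeries.constantCoeff f)) =
      PowerSeries.C (algebraMap k (Polynomial k) (PowerSeries.constantCoeff f)) :=
    RingHom.congr_fun (τa_σR k) _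
  calc PowerSeries.constantCoeff (τa k f)
      = PowerSeries.constantCoeff (τa k (PowerSeries.C (PowerSeries.constantCoeff f)) +
          τa k (f - PowerSeries.C (PowerSeries.constantCoeff f))) := by
        rw [← map_add]; congr 2; ring
    _ = PowerSeries.constantCoeff (τa k (PowerSeries.C (PowerSeries.constantCoeff f))) +
          PowerSeries.constantCoeff (τa k (f - PowerSeries.C (PowerSeries.constantCoeff f))) :=
        map_add _ _ _
    _ = algebraMap k (Polynomial k) (PowerSeries.constantCoeff f) := by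
        rw [h1, add_zero, h2, PowerSeries.constantCoeff_C]

theorem τa_X_ne : τa k PowerSeries.X ≠ 0 := by
  rw [τa_X, aS]
  intro h
  have hu : IsUnit ((↑((isUnit_uS k).unit⁻¹) : PowerSeries (Polynomial k))) := Units.isUnit _
  exact PowerSeries.X_ne_zero ((hu.mul_left_eq_zero).mp h)

theorem fixed_Ga {X : Over (Spec (CommRingCat.of k))} [IsProper X.hom]
    (a : AlgGrp.Action (Red.Ga (Spec (CommRingCat.of k))) X)
    (x₀ : 𝟙_ (Over (Spec (CommRingCat.of k))) ⟶ X) :
    ∃ x : 𝟙_ (Over (Spec (CommRingCat.of k))) ⟶ X, a.IsFixedPt x := by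
  refine exists_fixed_of_datum a x₀ (algebraMap k (Polynomial k)) (τa k) (τa_σR k) (τa_ε k)
    (τa_X_ne k) (gaP (σK k) (sK k)⁻¹)
    (gaP (σB (algebraMap k (Polynomial k))) (PowerSeries.C (Polynomial.X : Polynomial k))) ?_ ?_
  · intro πK τK hπK hτK h1 h2
    rw [abMap_gaP, abMap_gaP, abMap_gaP, gaP_mul]
    congr 1
    have e1 : πK (sK k) = ηB _ PowerSeries.X := by
      have := RingHom.congr_fun h1 PowerSeries.X
      rw [RingHom.comp_apply, RingHom.comp_apply, PowerSeries.map_X] at this
      exact this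
    have e2 : τK (sK k) = ηB _ (aS k) := by
      have := RingHom.congr_fun h2 PowerSeries.X
      rw [RingHom.comp_apply, RingHom.comp_apply, τa_X] at this
      exact this
    have hx : ηB (Polynomial k) PowerSeries.X ≠ 0 := by
      intro h
      exact PowerSeries.X_ne_zero ((IsFractionRing.injective _ _) (h.trans (map_zero _).symm))
    have e3 : ηB (Polynomial k) (aS k) = ηB _ PowerSeries.X *
        (1 + ηB _ (PowerSeries.C (Polynomial.X : Polynomial k)) * ηB _ PowerSeries.X)⁻¹ := by
      rw [aS, map_mul, map_units_inv, IsUnit.unit_spec, uS, map_add, map_one, map_mul]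
    rw [map_inv₀, map_inv₀, e1, e2, e3, _root_.mul_inv, _root_.inv_inv]
    first
      | (field_simp; done)
      | (field_simp; ring)
  · have h : abMap (PowerSeries.constantCoeff (R := Polynomial k)) (cc_comp _) ≫
        gaP (σB (algebraMap k (Polynomial k))) (PowerSeries.C (Polynomial.X : Polynomial k)) =
        (θ (K := k)).inv := by
      rw [abMap_gaP, PowerSeries.constantCoeff_C, gaP_X]
    rw [h]; infer_instance

end Ga

theorem main (k : Type u) [Field k] (G X : Over (Spec (CommRingCat.of k))) [GrpObj G]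
    (hG : Nonempty (Grp.mk G ≅ Grp.mk (Red.Ga (Spec (CommRingCat.of k)))) ∨
      Nonempty (Grp.mk G ≅ Grp.mk (Red.Gm (Spec (CommRingCat.of k)))))
    [IsProper X.hom] (x₀ : 𝟙_ (Over (Spec (CommRingCat.of k))) ⟶ X) (a : AlgGrp.Action G X) :
    ∃ x : 𝟙_ (Over (Spec (CommRingCat.of k))) ⟶ X, a.IsFixedPt x := by
  rcases hG with ⟨⟨e⟩⟩ | ⟨⟨e⟩⟩
  · haveI : IsMonHom e.inv.hom.hom := inferInstanceAs (IsMonHom e.inv.hom.hom)
    obtain ⟨x, hx⟩ := fixed_Ga k (a.restrict e.inv.hom.hom) x₀
    refine ⟨x, fun T g => ?_⟩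
    have h := hx T (g ≫ e.hom.hom.hom)
    rw [AlgGrp.Action.lift_restrict_act, Category.assoc] at h
    have h2 : e.hom.hom.hom ≫ e.inv.hom.hom = 𝟙 G := congrArg (fun f => f.hom.hom) e.hom_inv_id
    rw [h2, Category.comp_id] at h
    exact h
  · haveI : IsMonHom e.inv.hom.hom := inferInstanceAs (IsMonHom e.inv.hom.hom)
    obtain ⟨x, hx⟩ := fixed_Gm k (a.restrict e.inv.hom.hom) x₀
    refine ⟨x, fun T g => ?_⟩
    have h := hx T (g ≫ e.hom.hom.hom)
    rw [AlgGrp.Action.lift_restrict_act, Category.assoc] at h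
    have h2 : e.hom.hom.hom ≫ e.inv.hom.hom = 𝟙 G := congrArg (fun f => f.hom.hom) e.hom_inv_id
    rw [h2, Category.comp_id] at h
    exact h

end Groth.Agent.H1.FixDeg
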