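import Mathlib
import Groth.Agent.Lib.Helper1.ValDim
import Groth.Agent.Lib.Helper1.CMBaseChange

set_option autoImplicit false
set_option linter.style.haveILetI false
universe u
open AlgebraicGeometry CategoryTheory CategoryTheory.Limits IsLocalRing

namespace Groth.Agent.H1.FlatGenPt

set_option backward.isDefEq.respectTransparency false in
/-- going down at a point where the morphism is flat. -/
theorem exists_generization_of_flat_stalkMap {P T : Scheme.{u}} (h : P ⟶ T) (p₀ : P)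
    (hfl : (h.stalkMap p₀).hom.Flat) (z : P) (hz : z ⤳ p₀) (η : T) (hη : η ⤳ h z) :
    ∃ ξ : P, ξ ⤳ z ∧ h ξ = η := by
  obtain ⟨𝔷, h𝔷⟩ : z ∈ Set.range (P.fromSpecStalk p₀) := by
    rw [Scheme.range_fromSpecStalk]; exact hz
  have hη₀ : η ⤳ h p₀ := hη.trans (hz.map h.continuous)
  obtain ⟨𝔫, h𝔫⟩ : η ∈ Set.range (T.fromSpecStalk (h p₀)) := by
    rw [Scheme.range_fromSpecStalk]; exact hη₀
  have hsq : Spec.map (h.stalkMap p₀) ≫ T.fromSpecStalk (h p₀) = P.fromSpecStalk p₀ ≫ h :=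
    Scheme.SpecMap_stalkMap_fromSpecStalk h
  have h1 : T.fromSpecStalk (h p₀) (Spec.map (h.stalkMap p₀) 𝔷) = h z := by
    rw [← Scheme.Hom.comp_apply, hsq, Scheme.Hom.comp_apply, h𝔷]
  have hsp : 𝔫 ⤳ Spec.map (h.stalkMap p₀) 𝔷 := by
    rw [← (T.fromSpecStalk (h p₀)).isEmbedding.isInducing.specializes_iff, h𝔫, h1]; exact hη
  have hle : (𝔫 : PrimeSpectrum _).asIdeal ≤
      ((𝔷 : PrimeSpectrum _).asIdeal).comap (h.stalkMap p₀).hom :=
    (PrimeSpectrum.le_iff_specializes (𝔫 : PrimeSpectrum _)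
      (Spec.map (h.stalkMap p₀) 𝔷 : PrimeSpectrum _)).mpr hsp
  letI alg : Algebra (T.presheaf.stalk (h p₀)) (P.presheaf.stalk p₀) :=
    (h.stalkMap p₀).hom.toAlgebra
  haveI : Module.Flat (T.presheaf.stalk (h p₀)) (P.presheaf.stalk p₀) := hfl
  haveI : (𝔷 : PrimeSpectrum _).asIdeal.LiesOver
      (((𝔷 : PrimeSpectrum _).asIdeal).comap (h.stalkMap p₀).hom) := ⟨rfl⟩
  haveI : (((𝔷 : PrimeSpectrum _).asIdeal).comap (h.stalkMap p₀).hom).IsPrime :=
    Ideal.IsPrime.comap _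
  obtain ⟨Q, hQle, hQp, hQo⟩ := Ideal.exists_ideal_le_liesOver_of_le
    (𝔷 : PrimeSpectrum _).asIdeal (p := (𝔫 : PrimeSpectrum _).asIdeal) hle
  refine ⟨P.fromSpecStalk p₀ (⟨Q, hQp⟩ : PrimeSpectrum _), ?_, ?_⟩
  · rw [← h𝔷]
    exact ((PrimeSpectrum.le_iff_specializes (⟨Q, hQp⟩ : PrimeSpectrum _)
      (𝔷 : PrimeSpectrum _)).mp hQle).map (P.fromSpecStalk p₀).continuous
  · rw [← Scheme.Hom.comp_apply, ← hsq, Scheme.Hom.comp_apply, ← h𝔫]
    congr 1
    apply PrimeSpectrum.ext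
    exact (hQo.over).symm

open Groth.Agent.H1.DimFormula Groth.Agent.H1.FibGen Groth.Agent.H1.FibDimBC
  Groth.Agent.H1.ValDim

theorem flat_stalkMap_of_eq {X S : Scheme.{u}} (f : X ⟶ S) {x x' : X} (e : x' = x)
    (h : (f.stalkMap x).hom.Flat) : (f.stalkMap x').hom.Flat := by
  subst e; exact h

set_option backward.isDefEq.respectTransparency false in
/-- Stacks 0D4H at a point: if `f` is locally of finite type and flat at `x`, the local fibre
dimension at `x` is attained at a generization of `x` over any prescribed generization of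
`f x`. -/
theorem exists_generization_fibreDimAt_ge' {X S : Scheme.{u}} (f : X ⟶ S)
    [LocallyOfFiniteType f] (x : X) (hfl : (f.stalkMap x).hom.Flat) (y' : S) (h : y' ⤳ f x) :
    ∃ x' : X, f x' = y' ∧ x' ⤳ x ∧ FlatMor.fibreDimAt f x ≤ FlatMor.fibreDimAt f x' := by
  obtain ⟨A, _, _, _, g, η, hg1, hg2, hη⟩ := exists_valuationRing_of_specializes h
  let fst := pullback.fst f g
  let snd := pullback.snd f g
  have hsq : IsPullback fst snd f g := IsPullback.of_hasPullback f g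
  obtain ⟨p₀, hp1, hp2⟩ := Scheme.Pullback.exists_preimage_pullback (f := f) (g := g) x
    (closedPoint A : Spec (CommRingCat.of A)) hg1.symm
  obtain ⟨z, hz1, hz2, hz3, hz4⟩ := exists_fibre_generic_fibreDimAt_eq snd p₀
  obtain ⟨t, ht1, ht2⟩ := fibreDimAt_eq_trdeg_of_generic snd z
    (fun z' hz' => hz3 z' (hz'.trans hz1))
  have hηz : η ⤳ snd z := by
    rw [hz1]
    change η ⤳ pullback.snd f g p₀
    rw [hp2]
    exact specializes_closedPoint η
  have hflp : (snd.stalkMap p₀).hom.Flat :=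
    Groth.Agent.H1.CMBC.flat_stalkMap_of_isPullback hsq p₀ (flat_stalkMap_of_eq f hp1 hfl)
  obtain ⟨ξ, hξ1, hξ2⟩ := exists_generization_of_flat_stalkMap snd p₀ hflp z hz2 η hηz
  have hV := trdeg_le_of_specializes snd z ξ hξ1 (by rw [hξ2]; exact hη)
  obtain ⟨t', ht'1, ht'2⟩ := exists_fibreDimAt_eq_stalk_add_trdeg snd ξ
  rw [ht1, ht'1] at hV
  have htt' : t ≤ t' := by exact_mod_cast hV
  refine ⟨fst ξ, ?_, ?_, ?_⟩
  · rw [← Scheme.Hom.comp_apply, hsq.w, Scheme.Hom.comp_apply, hξ2, hg2]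
  · rw [← hp1]
    exact (hξ1.trans hz2).map fst.continuous
  · rw [← fibreDimAt_eq_of_isPullback f g fst snd hsq ξ, ← hp1,
      ← fibreDimAt_eq_of_isPullback f g fst snd hsq p₀, ← hz4, ht2, ht'2]
    have h0 : (0 : WithBot ℕ∞) ≤
        ringKrullDim ((snd.fiber (snd ξ)).presheaf.stalk (snd.asFiber ξ)) :=
      ringKrullDim_nonneg_of_nontrivial
    calc ((t : ℕ) : WithBot ℕ∞) ≤ (t' : WithBot ℕ∞) := by exact_mod_cast htt'
      _ = 0 + (t' : WithBot ℕ∞) := (zero_add _).symm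
      _ ≤ _ := add_le_add_left h0 _

end Groth.Agent.H1.FlatGenPt
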