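import Mathlib
import Groth.Agent.Lib.Helper1.FlatGenPt
import Groth.Agent.Lib.Helper1.EquidimLocC
import Groth.Agent.Lib.Helper1.FibreStalk
import Groth.Agent.Lib.Helper1.DimIneqD

set_option autoImplicit false
set_option linter.style.haveILetI false
universe u
open AlgebraicGeometry CategoryTheory CategoryTheory.Limits IsLocalRing

namespace Groth.Agent.H1.FlatDomDim

section Alg

theorem map_maximalIdeal_ringEquiv {R R' : Type*} [CommRing R] [CommRing R'] [IsLocalRing R]
    [IsLocalRing R'] (a : R ≃+* R') :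
    (maximalIdeal R).map (a : R →+* R') = maximalIdeal R' := by
  apply le_antisymm
  · rw [Ideal.map_le_iff_le_comap]
    intro r hr
    rw [Ideal.mem_comap, mem_maximalIdeal, mem_nonunits_iff]
    rw [mem_maximalIdeal, mem_nonunits_iff] at hr
    intro hu
    apply hr
    have := hu.map a.symm
    simpa using this
  · intro y hy
    have e : y = (a : R →+* R') (a.symm y) := by simp
    rw [e]
    apply Ideal.mem_map_of_mem
    rw [mem_maximalIdeal, mem_nonunits_iff]
    rw [mem_maximalIdeal, mem_nonunits_iff] at hy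
    intro hu
    apply hy
    have := hu.map a
    simpa using this

theorem dim_quot_transfer {R₁ R₂ R₁' R₂' : Type u} [CommRing R₁] [CommRing R₂] [CommRing R₁']
    [CommRing R₂'] [IsLocalRing R₁] [IsLocalRing R₁'] (ψ : R₁ →+* R₂) (ψ' : R₁' →+* R₂')
    (a : R₁ ≃+* R₁') (b : R₂ ≃+* R₂') (h : ∀ r, b (ψ r) = ψ' (a r)) :
    ringKrullDim (R₂ ⧸ (maximalIdeal R₁).map ψ) =
      ringKrullDim (R₂' ⧸ (maximalIdeal R₁').map ψ') := by
  have hIJ : (maximalIdeal R₁').map ψ' = ((maximalIdeal R₁).map ψ).map (b : R₂ →+* R₂') := by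
    rw [Ideal.map_map, ← map_maximalIdeal_ringEquiv a, Ideal.map_map]
    congr 1
    ext r
    simp [h]
  exact ringKrullDim_eq_of_ringEquiv (Ideal.quotientEquiv _ _ b hIJ)

theorem trdeg_residue_transfer {R₁ R₂ R₁' R₂' : Type u} [CommRing R₁] [CommRing R₂]
    [CommRing R₁'] [CommRing R₂'] [IsLocalRing R₁] [IsLocalRing R₂] [IsLocalRing R₁']
    [IsLocalRing R₂'] (ψ : R₁ →+* R₂) [IsLocalHom ψ] (ψ' : R₁' →+* R₂') [IsLocalHom ψ']
    (a : R₁ ≃+* R₁') (b : R₂ ≃+* R₂') (h : ∀ r, b (ψ r) = ψ' (a r)) :
    @Algebra.trdeg (ResidueField R₁) (ResidueField R₂) _ _ (ResidueField.map ψ).toAlgebra =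
    @Algebra.trdeg (ResidueField R₁') (ResidueField R₂') _ _ (ResidueField.map ψ').toAlgebra := by
  letI := (ResidueField.map ψ).toAlgebra
  letI := (ResidueField.map ψ').toAlgebra
  refine Groth.Agent.H1.DimIneq.trdeg_eq_of_ringEquiv (ResidueField.mapEquiv a)
    (ResidueField.mapEquiv b) ?_
  intro r'
  obtain ⟨r, rfl⟩ := residue_surjective r'
  change ResidueField.mapEquiv b (ResidueField.map ψ (residue R₁ r)) =
    ResidueField.map ψ' (ResidueField.mapEquiv a (residue R₁ r))
  simp only [ResidueField.mapEquiv_apply, ResidueField.map_residue, RingEquiv.coe_toRingHom, h]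

theorem flat_transfer {R₁ R₂ R₁' R₂' : Type u} [CommRing R₁] [CommRing R₂] [CommRing R₁']
    [CommRing R₂'] (ψ : R₁ →+* R₂) (ψ' : R₁' →+* R₂')
    (a : R₁ ≃+* R₁') (b : R₂ ≃+* R₂') (h : ∀ r, b (ψ r) = ψ' (a r)) (hψ' : ψ'.Flat) :
    ψ.Flat := by
  have e : ψ = (b.symm.toRingHom.comp ψ').comp a.toRingHom := by
    ext r
    simp [← h]
  rw [e]
  exact ((RingHom.Flat.of_bijective (f := a.toRingHom) a.bijective).comp hψ').comp
    (RingHom.Flat.of_bijective (f := b.symm.toRingHom) b.symm.bijective)

theorem trdeg_eq_of_isAlgebraic (R S T : Type u) [CommRing R] [CommRing S] [CommRing T]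
    [IsDomain T] [Nontrivial R] [Algebra R S] [Algebra S T] [Algebra R T] [IsScalarTower R S T]
    [FaithfulSMul R S] [FaithfulSMul S T] [Algebra.IsAlgebraic S T] :
    Algebra.trdeg R T = Algebra.trdeg R S := by
  have := trdeg_add_eq R S (A := T)
  rw [trdeg_eq_zero (R := S) (A := T), add_zero] at this
  exact this.symm

theorem exists_nat_of_add_eq {D : WithBot ℕ∞} {e t : ℕ}
    (h : D + (e : WithBot ℕ∞) = (t : WithBot ℕ∞)) : ∃ d : ℕ, D = (d : WithBot ℕ∞) ∧ d + e = t := by
  induction D with
  | bot => simp at h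
  | coe D =>
    cases D using ENat.recTopCoe with
    | top =>
      exfalso
      have h1 : ((⊤ : ℕ∞) : WithBot ℕ∞) + (e : WithBot ℕ∞) = ((⊤ : ℕ∞) : WithBot ℕ∞) := by
        have : ((e : ℕ) : WithBot ℕ∞) = (((e : ℕ) : ℕ∞) : WithBot ℕ∞) := rfl
        rw [this, ← WithBot.coe_add, top_add]
      rw [h1] at h
      have : ((t : ℕ) : WithBot ℕ∞) = (((t : ℕ) : ℕ∞) : WithBot ℕ∞) := rfl
      rw [this] at h
      have := WithBot.coe_injective h
      exact ENat.top_ne_natCast t this
    | coe d =>
      refine ⟨d, rfl, ?_⟩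
      exact_mod_cast h

end Alg

section Spec

variable {R S : CommRingCat.{u}} (φ : R ⟶ S) (x : PrimeSpectrum S)

set_option backward.isDefEq.respectTransparency false in
/-- the comparison isomorphisms between the stalk map of `Spec.map φ` and the localised map. -/
theorem stalkMap_square :
    ∃ (a : (Spec R).presheaf.stalk ((Spec.map φ) x) ≃+*
        Localization.AtPrime (x.comap φ.hom).asIdeal)
      (b : (Spec S).presheaf.stalk x ≃+* Localization.AtPrime x.asIdeal),
      ∀ r, b (((Spec.map φ).stalkMap x).hom r) =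
        Localization.localRingHom (x.comap φ.hom).asIdeal x.asIdeal φ.hom rfl (a r) := by
  refine ⟨(Spec.stalkIso R (x.comap φ.hom)).commRingCatIsoToRingEquiv,
    (Spec.stalkIso S x).commRingCatIsoToRingEquiv, ?_⟩
  intro r
  have key := Scheme.localRingHom_comp_stalkIso φ x
  have key2 : (Spec.map φ).stalkMap x ≫ (Spec.stalkIso S x).hom =
      (Spec.stalkIso R (x.comap φ.hom)).hom ≫
        (CommRingCat.ofHom <| Localization.localRingHom
          (PrimeSpectrum.comap φ.hom x).asIdeal x.asIdeal φ.hom rfl) := by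
    rw [← key]
    simp only [Category.assoc, Iso.inv_hom_id, Category.comp_id]
  exact congr($(key2).hom r)

end Spec

section Main

open Groth.Agent.H1

set_option backward.isDefEq.respectTransparency false in
/-- naturality of the evaluation maps `ValDim.ev`. -/
theorem ev_naturality (A C : Type u) [CommRing A] [CommRing C] [Algebra A C]
    (x : Spec (CommRingCat.of C)) :
    (ValDim.ev C x).comp (algebraMap A C) =
      ((Spec.map (CommRingCat.ofHom (algebraMap A C))).residueFieldMap x).hom.comp
        (ValDim.ev A ((Spec.map (CommRingCat.ofHom (algebraMap A C))) x)) := by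
  have cat : CommRingCat.ofHom (algebraMap A C) ≫
      ((Scheme.ΓSpecIso (CommRingCat.of C)).inv ≫
        (Spec (CommRingCat.of C)).presheaf.germ ⊤ x trivial ≫
          (Spec (CommRingCat.of C)).residue x) =
      ((Scheme.ΓSpecIso (CommRingCat.of A)).inv ≫
        (Spec (CommRingCat.of A)).presheaf.germ ⊤
          ((Spec.map (CommRingCat.ofHom (algebraMap A C))) x) trivial ≫
          (Spec (CommRingCat.of A)).residue _) ≫
        (Spec.map (CommRingCat.ofHom (algebraMap A C))).residueFieldMap x := by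
    simp only [Category.assoc, Scheme.residue_residueFieldMap]
    rw [Scheme.Hom.germ_stalkMap_assoc, ← Category.assoc (CommRingCat.ofHom (algebraMap A C)),
      Scheme.ΓSpecIso_inv_naturality]
    rfl
  exact congrArg CommRingCat.Hom.hom cat

set_option backward.isDefEq.respectTransparency false in
theorem main (A B : Type u) [CommRing A] [CommRing B] [IsDomain A] [IsDomain B] [IsLocalRing A]
    [IsLocalRing B] [Algebra A B] [IsLocalHom (algebraMap A B)] [FaithfulSMul A B]
    [Algebra.EssFiniteType A B] [Module.Flat A B] :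
    ∃ d e : ℕ, ringKrullDim (B ⧸ Ideal.map (algebraMap A B) (maximalIdeal A)) = d ∧
      Algebra.trdeg (ResidueField A) (ResidueField B) = e ∧
      Algebra.trdeg A B = (d + e : ℕ) := by
  classical
  let C := Algebra.EssFiniteType.subalgebra A B
  set q : Ideal C := (maximalIdeal B).comap (algebraMap C B) with hq
  haveI hqp : q.IsPrime := Ideal.comap_isPrime (algebraMap C B) (maximalIdeal B)
  have hM : Algebra.EssFiniteType.submonoid A B = q.primeCompl := by
    ext c
    rw [Algebra.EssFiniteType.submonoid, Submonoid.mem_comap, IsUnit.mem_submonoid_iff,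
      Ideal.mem_primeCompl_iff, hq, Ideal.mem_comap, mem_maximalIdeal, mem_nonunits_iff, not_not]
  haveI hloc : IsLocalization q.primeCompl B := by rw [← hM]; infer_instance
  have hinjAB : Function.Injective (algebraMap A B) := FaithfulSMul.algebraMap_injective A B
  have hinjCB : Function.Injective (algebraMap C B) := Subtype.val_injective
  have hinjAC : Function.Injective (algebraMap A C) := by
    intro a a' h
    apply hinjAB
    have := congrArg (algebraMap C B) h
    rwa [← IsScalarTower.algebraMap_apply, ← IsScalarTower.algebraMap_apply] at this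
  haveI : FaithfulSMul A C := (faithfulSMul_iff_algebraMap_injective A C).mpr hinjAC
  haveI : FaithfulSMul C B := (faithfulSMul_iff_algebraMap_injective C B).mpr hinjCB
  have hp : q.comap (algebraMap A C) = maximalIdeal A := by
    rw [hq, Ideal.comap_comap, ← IsScalarTower.algebraMap_eq]
    have hloc' : IsLocalHom (algebraMap A B) := inferInstance
    exact ((local_hom_TFAE (algebraMap A B)).out 0 4).mp hloc'
  -- the scheme
  let φ : CommRingCat.of A ⟶ CommRingCat.of C := CommRingCat.ofHom (algebraMap A C)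
  let f : Spec (CommRingCat.of C) ⟶ Spec (CommRingCat.of A) := Spec.map φ
  haveI : LocallyOfFiniteType f := by
    rw [HasRingHomProperty.Spec_iff (P := @LocallyOfFiniteType)]
    exact RingHom.finiteType_algebraMap.mpr inferInstance
  let x : Spec (CommRingCat.of C) := (⟨q, hqp⟩ : PrimeSpectrum C)
  let ξ : Spec (CommRingCat.of C) := (⟨⊥, Ideal.isPrime_bot⟩ : PrimeSpectrum C)
  -- the squares of local rings
  obtain ⟨a, b, hab⟩ := stalkMap_square φ (⟨q, hqp⟩ : PrimeSpectrum C)
  have hp' : (PrimeSpectrum.comap φ.hom (⟨q, hqp⟩ : PrimeSpectrum C)).asIdeal = maximalIdeal A := hp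
  have hunits : (PrimeSpectrum.comap φ.hom (⟨q, hqp⟩ : PrimeSpectrum C)).asIdeal.primeCompl ≤
      IsUnit.submonoid A := by
    intro y hy
    rw [IsUnit.mem_submonoid_iff]
    rw [Ideal.mem_primeCompl_iff, hp', mem_maximalIdeal, mem_nonunits_iff, not_not] at hy
    exact hy
  let e₀ := IsLocalization.atUnits A
    (PrimeSpectrum.comap φ.hom (⟨q, hqp⟩ : PrimeSpectrum C)).asIdeal.primeCompl
    (S := Localization.AtPrime (PrimeSpectrum.comap φ.hom (⟨q, hqp⟩ : PrimeSpectrum C)).asIdeal)
    hunits
  let a₂ : Localization.AtPrime (PrimeSpectrum.comap φ.hom (⟨q, hqp⟩ : PrimeSpectrum C)).asIdeal ≃+*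
    A := e₀.symm.toRingEquiv
  let b₂ : Localization.AtPrime q ≃+* B :=
    (IsLocalization.algEquiv q.primeCompl (Localization.AtPrime q) B).toRingEquiv
  let lrh := Localization.localRingHom
    (PrimeSpectrum.comap φ.hom (⟨q, hqp⟩ : PrimeSpectrum C)).asIdeal q φ.hom rfl
  have h₂ : ∀ r, b₂ (lrh r) = algebraMap A B (a₂ r) := by
    intro r
    have h1 : e₀ (e₀.symm r) = r := e₀.apply_symm_apply r
    have h2 : e₀ (e₀.symm r) = algebraMap A _ (e₀.symm r) := e₀.commutes (e₀.symm r)
    have hr : algebraMap A _ (a₂ r) = r := h2.symm.trans h1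
    conv_lhs => rw [← hr]
    rw [Localization.localRingHom_to_map]
    change (IsLocalization.algEquiv q.primeCompl (Localization.AtPrime q) B)
      (algebraMap C (Localization.AtPrime q) (algebraMap A C (a₂ r))) = _
    rw [AlgEquiv.commutes, ← IsScalarTower.algebraMap_apply]
  haveI : IsLocalHom lrh := Localization.isLocalHom_localRingHom _ _ _ rfl
  have hflat_lrh : lrh.Flat :=
    flat_transfer lrh (algebraMap A B) a₂ b₂ h₂ (RingHom.flat_algebraMap_iff.mpr inferInstance)
  have hfl : (f.stalkMap x).hom.Flat := flat_transfer _ lrh a b hab hflat_lrh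
  have hdim : ringKrullDim ((f.fiber (f x)).presheaf.stalk (f.asFiber x)) =
      ringKrullDim (B ⧸ (maximalIdeal A).map (algebraMap A B)) := by
    rw [← ringKrullDim_eq_of_ringEquiv (FibreStalk.fiberStalkEquiv f x)]
    exact (dim_quot_transfer _ lrh a b hab).trans
      (dim_quot_transfer lrh (algebraMap A B) a₂ b₂ h₂)
  have htr : @Algebra.trdeg ((Spec (CommRingCat.of A)).residueField (f x))
      ((Spec (CommRingCat.of C)).residueField x) _ _ (f.residueFieldMap x).hom.toAlgebra =
      Algebra.trdeg (ResidueField A) (ResidueField B) :=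
    (trdeg_residue_transfer (f.stalkMap x).hom lrh a b hab).trans
      (trdeg_residue_transfer lrh (algebraMap A B) a₂ b₂ h₂)
  -- the generic point
  have hfξ : ((f ξ : Spec (CommRingCat.of A)) : PrimeSpectrum A).asIdeal = ⊥ := by
    change (⊥ : Ideal C).comap (algebraMap A C) = ⊥
    exact Ideal.comap_bot_of_injective _ hinjAC
  have hξx : ξ ⤳ x := (PrimeSpectrum.le_iff_specializes (ξ : PrimeSpectrum C) x).mp bot_le
  have hξgen : ∀ x' : Spec (CommRingCat.of C), f x' = f ξ → x' ⤳ ξ → x' = ξ := by
    intro x' _ hsp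
    have hle : (x' : PrimeSpectrum C).asIdeal ≤ (ξ : PrimeSpectrum C).asIdeal :=
      (PrimeSpectrum.le_iff_specializes (x' : PrimeSpectrum C) ξ).mpr hsp
    exact PrimeSpectrum.ext (le_bot_iff.mp hle)
  obtain ⟨tξ, htξ1, htξ2⟩ := DimFormula.fibreDimAt_eq_trdeg_of_generic f ξ hξgen
  have htAB : Algebra.trdeg A B = tξ := by
    rw [← htξ1]
    letI algKL : Algebra ((Spec (CommRingCat.of A)).residueField (f ξ))
        ((Spec (CommRingCat.of C)).residueField ξ) := (f.residueFieldMap ξ).hom.toAlgebra
    letI algAK : Algebra A ((Spec (CommRingCat.of A)).residueField (f ξ)) :=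
      (ValDim.ev A (f ξ)).toAlgebra
    letI algCL : Algebra C ((Spec (CommRingCat.of C)).residueField ξ) := (ValDim.ev C ξ).toAlgebra
    letI algAL : Algebra A ((Spec (CommRingCat.of C)).residueField ξ) :=
      ((ValDim.ev C ξ).comp (algebraMap A C)).toAlgebra
    haveI : IsScalarTower A C ((Spec (CommRingCat.of C)).residueField ξ) :=
      .of_algebraMap_eq (fun _ => rfl)
    haveI : IsScalarTower A ((Spec (CommRingCat.of A)).residueField (f ξ))
        ((Spec (CommRingCat.of C)).residueField ξ) :=
      .of_algebraMap_eq (fun r => congrArg (fun g : A →+* _ => g r) (ev_naturality A C ξ))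
    haveI hAK : Algebra.IsAlgebraic A ((Spec (CommRingCat.of A)).residueField (f ξ)) :=
      ValDim.isAlgebraic_ev A (f ξ) hfξ
    haveI hCL : Algebra.IsAlgebraic C ((Spec (CommRingCat.of C)).residueField ξ) :=
      ValDim.isAlgebraic_ev C ξ rfl
    haveI : FaithfulSMul A ((Spec (CommRingCat.of A)).residueField (f ξ)) :=
      (faithfulSMul_iff_algebraMap_injective _ _).mpr (by
        rw [RingHom.injective_iff_ker_eq_bot]
        exact (ValDim.ker_ev A (f ξ)).trans hfξ)
    haveI : FaithfulSMul C ((Spec (CommRingCat.of C)).residueField ξ) :=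
      (faithfulSMul_iff_algebraMap_injective _ _).mpr (by
        rw [RingHom.injective_iff_ker_eq_bot]
        exact (ValDim.ker_ev C ξ))
    haveI : FaithfulSMul ((Spec (CommRingCat.of A)).residueField (f ξ))
        ((Spec (CommRingCat.of C)).residueField ξ) :=
      (faithfulSMul_iff_algebraMap_injective _ _).mpr (RingHom.injective _)
    have e1 : Algebra.trdeg ((Spec (CommRingCat.of A)).residueField (f ξ))
        ((Spec (CommRingCat.of C)).residueField ξ) =
        Algebra.trdeg A ((Spec (CommRingCat.of C)).residueField ξ) := by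
      have := trdeg_add_eq A ((Spec (CommRingCat.of A)).residueField (f ξ))
        (A := (Spec (CommRingCat.of C)).residueField ξ)
      rw [trdeg_eq_zero (R := A) (A := (Spec (CommRingCat.of A)).residueField (f ξ)),
        zero_add] at this
      exact this
    have e2 : Algebra.trdeg A ((Spec (CommRingCat.of C)).residueField ξ) = Algebra.trdeg A C :=
      trdeg_eq_of_isAlgebraic A C ((Spec (CommRingCat.of C)).residueField ξ)
    haveI : Algebra.IsAlgebraic C B := IsLocalization.isAlgebraic B q.primeCompl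
    have e3 : Algebra.trdeg A B = Algebra.trdeg A C := trdeg_eq_of_isAlgebraic A C B
    rw [e3, ← e2, ← e1]
  -- assembly
  obtain ⟨e', he'1, he'2⟩ := DimFormula.exists_fibreDimAt_eq_stalk_add_trdeg f x
  have hfx : f ξ ⤳ f x := hξx.map f.continuous
  obtain ⟨x', hx'1, hx'2, hx'3⟩ :=
    FlatGenPt.exists_generization_fibreDimAt_ge' f x hfl (f ξ) hfx
  obtain ⟨z, hz1, hz2, hz3, hz4⟩ := FibGen.exists_fibre_generic_fibreDimAt_eq f x'
  have hξz : ξ ⤳ z := (PrimeSpectrum.le_iff_specializes (ξ : PrimeSpectrum C) z).mp bot_le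
  have hzξ : ξ = z := hz3 ξ hx'1.symm hξz
  have hle1 : FlatMor.fibreDimAt f x ≤ FlatMor.fibreDimAt f ξ := by
    have h := hx'3
    rw [← hz4, ← hzξ] at h
    exact h
  have hle2 : FlatMor.fibreDimAt f ξ ≤ FlatMor.fibreDimAt f x :=
    EquidimLoc.fibreDimAt_le_of_specializes f hξx
  have heq : FlatMor.fibreDimAt f x = (tξ : WithBot ℕ∞) := (le_antisymm hle1 hle2).trans htξ2
  rw [he'2, hdim] at heq
  obtain ⟨d, hd1, hd2⟩ := exists_nat_of_add_eq heq
  refine ⟨d, e', hd1, ?_, ?_⟩
  · rw [← htr, he'1]
  · rw [htAB, ← hd2]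

end Main

end Groth.Agent.H1.FlatDomDim
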