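import Mathlib
import Groth.Agent.Lib.Helper5.EtSrc.OfComp
import Groth.Agent.Lib.Helper9.FF.Shear

set_option autoImplicit false
universe u
open CategoryTheory CategoryTheory.Limits AlgebraicGeometry

namespace Groth.Agent.H1.FlatLocalUnram

/-- Pointwise flat descent: if `h` and `h ≫ φ` are flat, then `φ` is flat at every point of the
image of `h`. -/
theorem flat_stalkMap_of_flat_comp {W X Z : Scheme.{u}} (h : W ⟶ X) (φ : X ⟶ Z) [Flat h]
    [Flat (h ≫ φ)] (w : W) : (φ.stalkMap (h w)).hom.Flat := by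
  have h1 : ((h ≫ φ).stalkMap w).hom.Flat := Flat.stalkMap (h ≫ φ) w
  have h2 : (h.stalkMap w).hom.Flat := Flat.stalkMap h w
  have h3 : (h.stalkMap w).hom.FaithfullyFlat := by
    algebraize [(h.stalkMap w).hom]
    have : Module.Flat (X.presheaf.stalk (h w)) (W.presheaf.stalk w) := h2
    have : IsLocalHom (algebraMap (X.presheaf.stalk (h w)) (W.presheaf.stalk w)) :=
      inferInstanceAs (IsLocalHom (h.stalkMap w).hom)
    exact Module.FaithfullyFlat.of_flat_of_isLocalHom
  refine Groth.Agent.H9.FF.flat_of_flat_comp (φ.stalkMap (h w)).hom (h.stalkMap w).hom h3 ?_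
  rw [Scheme.Hom.stalkMap_comp] at h1
  exact h1

theorem flat_of_flat_comp_of_forall_mem_range {X Z : Scheme.{u}} (φ : X ⟶ Z)
    (H : ∀ x : X, ∃ (W : Scheme.{u}) (h : W ⟶ X), Flat h ∧ Flat (h ≫ φ) ∧ x ∈ Set.range h) :
    Flat φ := by
  rw [Flat.iff_flat_stalkMap]
  intro x
  obtain ⟨W, h, h1, h2, w, rfl⟩ := H x
  exact flat_stalkMap_of_flat_comp h φ w

section
variable {X Y Y' : Scheme.{u}} (f : X ⟶ Y) (g : Y' ⟶ Y)

/-- `(X ×_Y X) ×_Y Y'`. -/
noncomputable abbrev P : Scheme.{u} := pullback (pullback.fst f f ≫ f) g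

noncomputable abbrev π₁ : P f g ⟶ pullback f f := pullback.fst _ _
noncomputable abbrev π₂ : P f g ⟶ Y' := pullback.snd _ _

noncomputable def α : P f g ⟶ pullback f g :=
  pullback.lift (π₁ f g ≫ pullback.fst f f) (π₂ f g) (by
    rw [Category.assoc]; exact pullback.condition)

noncomputable def β : P f g ⟶ pullback f g :=
  pullback.lift (π₁ f g ≫ pullback.snd f f) (π₂ f g) (by
    rw [Category.assoc, ← pullback.condition (f := f) (g := f)]; exact pullback.condition)

@[reassoc (attr := simp)]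
lemma α_fst : α f g ≫ pullback.fst f g = π₁ f g ≫ pullback.fst f f := pullback.lift_fst _ _ _
@[reassoc (attr := simp)]
lemma α_snd : α f g ≫ pullback.snd f g = π₂ f g := pullback.lift_snd _ _ _
@[reassoc (attr := simp)]
lemma β_fst : β f g ≫ pullback.fst f g = π₁ f g ≫ pullback.snd f f := pullback.lift_fst _ _ _
@[reassoc (attr := simp)]
lemma β_snd : β f g ≫ pullback.snd f g = π₂ f g := pullback.lift_snd _ _ _

lemma P_hom_ext {T : Scheme.{u}} {a b : T ⟶ P f g} (h1 : a ≫ α f g = b ≫ α f g)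
    (h2 : a ≫ β f g = b ≫ β f g) : a = b := by
  apply pullback.hom_ext
  · apply pullback.hom_ext
    · have := congr($h1 ≫ pullback.fst f g)
      simpa only [Category.assoc, α_fst] using this
    · have := congr($h2 ≫ pullback.fst f g)
      simpa only [Category.assoc, β_fst] using this
  · have := congr($h1 ≫ pullback.snd f g)
    simpa only [Category.assoc, α_snd] using this

variable (U : (pullback f g).Opens)

noncomputable def σ : (U : Scheme.{u}) ⟶ P f g :=
  pullback.lift ((U.ι ≫ pullback.fst f g) ≫ pullback.diagonal f) (U.ι ≫ pullback.snd f g) (by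
    simp only [Category.assoc, pullback.diagonal_fst_assoc]
    rw [pullback.condition])

@[reassoc (attr := simp)]
lemma σ_π₁ : σ f g U ≫ π₁ f g = (U.ι ≫ pullback.fst f g) ≫ pullback.diagonal f :=
  pullback.lift_fst _ _ _
@[reassoc (attr := simp)]
lemma σ_π₂ : σ f g U ≫ π₂ f g = U.ι ≫ pullback.snd f g := pullback.lift_snd _ _ _

@[reassoc (attr := simp)]
lemma σ_α : σ f g U ≫ α f g = U.ι := by
  apply pullback.hom_ext
  · simp
  · simp

@[reassoc (attr := simp)]
lemma σ_β : σ f g U ≫ β f g = U.ι := by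
  apply pullback.hom_ext
  · simp
  · simp

theorem isOpenImmersion_σ [Mono (U.ι ≫ pullback.snd f g)] : IsOpenImmersion (σ f g U) := by
  let Q : (P f g).Opens := α f g ⁻¹ᵁ U ⊓ β f g ⁻¹ᵁ U
  have hQα : Set.range (Q.ι ≫ α f g) ⊆ Set.range U.ι := by
    rintro _ ⟨q, rfl⟩
    rw [Scheme.Opens.range_ι]
    exact q.2.1
  have hQβ : Set.range (Q.ι ≫ β f g) ⊆ Set.range U.ι := by
    rintro _ ⟨q, rfl⟩
    rw [Scheme.Opens.range_ι]
    exact q.2.2
  let ρ : (Q : Scheme.{u}) ⟶ U := IsOpenImmersion.lift U.ι (Q.ι ≫ α f g) hQα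
  let ρ' : (Q : Scheme.{u}) ⟶ U := IsOpenImmersion.lift U.ι (Q.ι ≫ β f g) hQβ
  have hρ : ρ ≫ U.ι = Q.ι ≫ α f g := IsOpenImmersion.lift_fac _ _ _
  have hρ' : ρ' ≫ U.ι = Q.ι ≫ β f g := IsOpenImmersion.lift_fac _ _ _
  have hσQ : Set.range (σ f g U) ⊆ Set.range Q.ι := by
    rintro _ ⟨w, rfl⟩
    rw [Scheme.Opens.range_ι]
    refine ⟨?_, ?_⟩
    · change α f g (σ f g U w) ∈ U
      rw [← Scheme.Hom.comp_apply, σ_α]; exact w.2
    · change β f g (σ f g U w) ∈ U
      rw [← Scheme.Hom.comp_apply, σ_β]; exact w.2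
  let σ' : (U : Scheme.{u}) ⟶ Q := IsOpenImmersion.lift Q.ι (σ f g U) hσQ
  have hσ' : σ' ≫ Q.ι = σ f g U := IsOpenImmersion.lift_fac _ _ _
  have hρρ' : ρ' = ρ := by
    rw [← cancel_mono (U.ι ≫ pullback.snd f g)]
    rw [← Category.assoc, ← Category.assoc, hρ, hρ', Category.assoc, Category.assoc, α_snd, β_snd]
  have hmono : Mono ρ := by
    constructor
    intro T t₁ t₂ ht
    rw [← cancel_mono Q.ι]
    apply P_hom_ext
    · rw [Category.assoc, Category.assoc, ← hρ, ← Category.assoc, ← Category.assoc, ht]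
    · rw [Category.assoc, Category.assoc, ← hρ', hρρ', ← Category.assoc, ← Category.assoc, ht]
  have hsec : σ' ≫ ρ = 𝟙 _ := by
    rw [← cancel_mono U.ι, Category.assoc, hρ, ← Category.assoc, hσ', σ_α, Category.id_comp]
  have : IsSplitEpi ρ := ⟨⟨⟨σ', hsec⟩⟩⟩
  have hiso : IsIso ρ := isIso_of_mono_of_isSplitEpi ρ
  have hσ'iso : IsIso σ' := by
    have : σ' = inv ρ := by
      rw [← cancel_mono ρ, hsec, IsIso.inv_hom_id]
    rw [this]; infer_instance
  rw [← hσ']
  infer_instance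

theorem flat_comp_diagonal [Flat g] [Mono (U.ι ≫ pullback.snd f g)] :
    Flat ((U.ι ≫ pullback.fst f g) ≫ pullback.diagonal f) := by
  have := isOpenImmersion_σ f g U
  rw [← σ_π₁]
  infer_instance

end


theorem isOpenImmersion_diagonal_of_flat_local {X Y : Scheme.{u}} (f : X ⟶ Y)
    [LocallyOfFiniteType f]
    (H : ∀ x : X, ∃ (Y' : Scheme.{u}) (g : Y' ⟶ Y) (U : (pullback f g).Opens), Flat g ∧
      Mono (U.ι ≫ pullback.snd f g) ∧ x ∈ (pullback.fst f g).base '' (U : Set ↥(pullback f g))) :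
    IsOpenImmersion (pullback.diagonal f) := by
  have hflat : Flat (pullback.diagonal f) := by
    refine flat_of_flat_comp_of_forall_mem_range _ fun x => ?_
    obtain ⟨Y', g, U, hg, hmono, u, hu, rfl⟩ := H x
    refine ⟨U, U.ι ≫ pullback.fst f g, inferInstance, flat_comp_diagonal f g U, ⟨⟨u, hu⟩, rfl⟩⟩
  have hlfp : LocallyOfFinitePresentation (pullback.diagonal f) :=
    Groth.Agent.H5.EtSrc.locallyOfFinitePresentation_of_comp (pullback.diagonal f)
      (pullback.fst f f) (by rw [pullback.diagonal_fst]; infer_instance) inferInstance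
  exact IsOpenImmersion.of_flat_of_mono _

theorem formallyUnramified_of_flat_local {X Y : Scheme.{u}} (f : X ⟶ Y)
    [LocallyOfFiniteType f]
    (H : ∀ x : X, ∃ (Y' : Scheme.{u}) (g : Y' ⟶ Y) (U : (pullback f g).Opens), Flat g ∧
      Mono (U.ι ≫ pullback.snd f g) ∧ x ∈ (pullback.fst f g).base '' (U : Set ↥(pullback f g))) :
    FormallyUnramified f := by
  have := isOpenImmersion_diagonal_of_flat_local f H
  infer_instance

end Groth.Agent.H1.FlatLocalUnram
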