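import Mathlib

/-! Helper1: flatness descends along a flat surjective morphism that factors through the source. -/
open TensorProduct
universe u

namespace Groth.Agent.H1

/-- If `B → D` is faithfully flat and factors (linearly) through `B → C` with `C` flat over `A`,
then `B` is flat over `A`. -/
theorem flat_of_flat_of_faithfullyFlat_factor (A B C D : Type*) [CommRing A] [CommRing B]
    [CommRing C] [CommRing D] [Algebra A B] [Algebra A C] [Algebra B C] [IsScalarTower A B C]
    [Algebra B D] [Algebra A D] [IsScalarTower A B D] [Module.FaithfullyFlat B D] [Module.Flat A C]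
    (ψ : C →ₗ[A] D) (hψ : ∀ b : B, ψ (algebraMap B C b) = algebraMap B D b) : Module.Flat A B := by
  rw [Module.Flat.iff_lTensor_preserves_injective_linearMap]
  intro N P _ _ _ _ f hf
  let φ : B →ₗ[A] C := (IsScalarTower.toAlgHom A B C).toLinearMap
  let θ : B →ₗ[A] D := (IsScalarTower.toAlgHom A B D).toLinearMap
  have hθ : θ = ψ ∘ₗ φ := by
    ext b
    simp [θ, φ, hψ]
  -- purity
  have hpure : ∀ (N : Type _) [AddCommGroup N] [Module A N], Function.Injective (φ.rTensor N) := by
    intro N _ _
    have key : ∀ y : B ⊗[A] N,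
        AlgebraTensorModule.cancelBaseChange A B D D N (TensorProduct.mk B D (B ⊗[A] N) 1 y) =
          θ.rTensor N y := by
      intro y
      induction y using TensorProduct.induction_on with
      | zero => simp
      | add y z hy hz => simp only [map_add, hy, hz]
      | tmul b n => simp [θ, Algebra.smul_def]
    have hinj : Function.Injective (θ.rTensor N) := by
      intro y z hyz
      rw [← key, ← key] at hyz
      exact Module.FaithfullyFlat.tensorProduct_mk_injective (A := B) (B := D) _
        ((AlgebraTensorModule.cancelBaseChange A B D D N).injective hyz)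
    rw [hθ, LinearMap.rTensor_comp] at hinj
    exact Function.Injective.of_comp hinj
  have h1 : Function.Injective (f.lTensor C) :=
    Module.Flat.lTensor_preserves_injective_linearMap f hf
  have h2 : (φ.rTensor P) ∘ₗ (f.lTensor B) = (f.lTensor C) ∘ₗ (φ.rTensor N) := by
    rw [LinearMap.rTensor_comp_lTensor, LinearMap.lTensor_comp_rTensor]
  have h3 : Function.Injective ((φ.rTensor P) ∘ₗ (f.lTensor B)) := by
    rw [h2]
    exact h1.comp (hpure N)
  exact Function.Injective.of_comp h3

end Groth.Agent.H1

namespace Groth.Agent.H1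
open AlgebraicGeometry CategoryTheory

theorem flat_of_flat_comp_refined {X Y Z Y' : Scheme.{u}} (f : X ⟶ Y) (q : Y ⟶ Z) (g : Y' ⟶ Y)
    [Flat g] [Surjective g] (l : Y' ⟶ X) (hl : l ≫ f = g) [Flat (f ≫ q)] : Flat q := by
  subst hl
  apply Flat.of_stalkMap
  intro y
  obtain ⟨y', rfl⟩ := (l ≫ f).surjective y
  have h1 := Flat.stalkMap (l ≫ f) y'
  have h2 := Flat.stalkMap (f ≫ q) (l y')
  rw [Scheme.Hom.stalkMap_comp] at h1 h2
  let α : Z.presheaf.stalk (q (f (l y'))) →+* Y.presheaf.stalk (f (l y')) := (q.stalkMap (f (l y'))).hom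
  let β : Y.presheaf.stalk (f (l y')) →+* X.presheaf.stalk (l y') := (f.stalkMap (l y')).hom
  let γ : X.presheaf.stalk (l y') →+* Y'.presheaf.stalk y' := (l.stalkMap y').hom
  have h1' : (γ.comp β).Flat := h1
  have h2' : (β.comp α).Flat := h2
  algebraize [α, β, γ.comp β, β.comp α, (γ.comp β).comp α]
  have : IsScalarTower (Z.presheaf.stalk (q (f (l y')))) (Y.presheaf.stalk (f (l y')))
      (X.presheaf.stalk (l y')) := IsScalarTower.of_algebraMap_eq' rfl
  have : IsScalarTower (Z.presheaf.stalk (q (f (l y')))) (Y.presheaf.stalk (f (l y')))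
      (Y'.presheaf.stalk y') := IsScalarTower.of_algebraMap_eq' rfl
  have : IsLocalHom (algebraMap (Y.presheaf.stalk (f (l y'))) (Y'.presheaf.stalk y')) := by
    change IsLocalHom (γ.comp β)
    infer_instance
  have : Module.FaithfullyFlat (Y.presheaf.stalk (f (l y'))) (Y'.presheaf.stalk y') :=
    Module.FaithfullyFlat.of_flat_of_isLocalHom
  let ψ : X.presheaf.stalk (l y') →ₗ[Z.presheaf.stalk (q (f (l y')))] Y'.presheaf.stalk y' :=
    { toFun := γ
      map_add' := map_add γ
      map_smul' := fun a c => by
        simp only [Algebra.smul_def, map_mul, RingHom.id_apply]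
        rfl }
  exact flat_of_flat_of_faithfullyFlat_factor (Z.presheaf.stalk (q (f (l y'))))
    (Y.presheaf.stalk (f (l y'))) (X.presheaf.stalk (l y')) (Y'.presheaf.stalk y') ψ (fun b => rfl)

end Groth.Agent.H1
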