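import Mathlib
import Groth.Agent.Lib.Helper1.LocalCriterion

/-! Helper1: flatness lifts from `M/fM` to `M` for an `M`-regular `f` in the radical
(EGA 0_IV 15.1.14 / Matsumura 22.?). -/

set_option autoImplicit false

universe u v w

open TensorProduct Function

namespace Groth.Agent.H1.FlatRegQuot

section

variable {A : Type u} {B : Type v} {M : Type w} [CommRing A] [CommRing B] [Algebra A B]
  [AddCommGroup M] [Module A M] [Module B M] [IsScalarTower A B M]

/-- The multiplication map `M ⊗ I → M`, as a `B`-linear map. -/
noncomputable def mulB (I : Ideal A) : M ⊗[A] I →ₗ[B] M :=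
  (AlgebraTensorModule.rid A B M).toLinearMap ∘ₗ (AlgebraTensorModule.lTensor B M I.subtype)

omit [IsScalarTower A B M] in
@[simp]
theorem mulB_tmul [IsScalarTower A B M] (I : Ideal A) (x : M) (j : I) :
    mulB (B := B) I (x ⊗ₜ[A] j) = (j : A) • x := by
  simp [mulB]

theorem mulB_injective_iff (I : Ideal A) :
    Injective (mulB (B := B) (M := M) I) ↔ Injective (I.subtype.lTensor M) := by
  have h : ⇑(mulB (B := B) (M := M) I) = ⇑(TensorProduct.rid A M) ∘ ⇑(I.subtype.lTensor M) := by
    ext z
    induction z using TensorProduct.induction_on with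
    | zero => simp
    | tmul x j => simp
    | add x y hx hy =>
      simp only [map_add, Function.comp_apply] at hx hy ⊢
      rw [hx, hy]
  rw [h]
  exact (TensorProduct.rid A M).injective.of_comp_iff _

end

/-- **Lifting flatness along a regular element**: for a local homomorphism `A → B` of Noetherian
local rings, a finite `B`-module `M`, and `f ∈ 𝔪_B` which is `M`-regular, if `M/fM` is flat over
`A` then so is `M`. The quotient is given abstractly by a surjection `π : M → Q` with kernel
`fM`. -/
theorem flat_of_regular_of_flat_quotient {A B : Type u} [CommRing A] [CommRing B] [IsLocalRing A]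
    [IsLocalRing B] [IsNoetherianRing A] [IsNoetherianRing B] [Algebra A B]
    [IsLocalHom (algebraMap A B)] {M : Type u} [AddCommGroup M] [Module A M] [Module B M]
    [IsScalarTower A B M] [Module.Finite B M] {Q : Type u} [AddCommGroup Q] [Module A Q]
    [Module B Q] [IsScalarTower A B Q] (f : B) (hf : f ∈ IsLocalRing.maximalIdeal B)
    (hreg : IsSMulRegular M f) (π : M →ₗ[B] Q) (hπ : Surjective π)
    (hker : ∀ x, π x = 0 ↔ ∃ y, x = f • y) [Module.Flat A Q] : Module.Flat A M := by
  set m := IsLocalRing.maximalIdeal A with hm
  -- the kernel of multiplication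
  set K : Submodule B (M ⊗[A] m) := LinearMap.ker (mulB (B := B) (M := M) m) with hK
  haveI : Module.Finite B (M ⊗[A] m) := Groth.Agent.H1.finite_tensor_of_finite m
  haveI : IsNoetherian B (M ⊗[A] m) := isNoetherian_of_isNoetherianRing_of_finite B _
  have hKfg : K.FG := IsNoetherian.noetherian K
  -- `A`-linear versions
  let πA : M →ₗ[A] Q := π.restrictScalars A
  let φ : M →ₗ[A] M := (LinearMap.lsmul B M f).restrictScalars A
  have hex : Exact φ πA := by
    intro x
    constructor
    · intro hx
      obtain ⟨y, rfl⟩ := (hker x).mp hx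
      exact ⟨y, rfl⟩
    · rintro ⟨y, rfl⟩
      exact (hker _).mpr ⟨y, rfl⟩
  have hexT : Exact (φ.rTensor m) (πA.rTensor m) := rTensor_exact m hex hπ
  have hφ : ∀ z : M ⊗[A] m, φ.rTensor m z = f • z := by
    intro z
    induction z using TensorProduct.induction_on with
    | zero => simp
    | tmul x j =>
      rw [LinearMap.rTensor_tmul, TensorProduct.smul_tmul']
      rfl
    | add x y hx hy => rw [map_add, hx, hy, smul_add]
  have hnat : ∀ z : M ⊗[A] m, mulB (B := B) (M := Q) m (πA.rTensor m z) =
      π (mulB (B := B) (M := M) m z) := by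
    intro z
    induction z using TensorProduct.induction_on with
    | zero => simp
    | tmul x j =>
      rw [LinearMap.rTensor_tmul, mulB_tmul, mulB_tmul]
      change (j : A) • π x = π ((j : A) • x)
      rw [← algebraMap_smul B (j : A) x, map_smul, algebraMap_smul]
    | add x y hx hy => simp only [map_add, hx, hy]
  have hQinj : Injective (mulB (B := B) (M := Q) m) := by
    rw [mulB_injective_iff]
    exact Module.Flat.lTensor_preserves_injective_linearMap _ Subtype.val_injective
  have hle : K ≤ Ideal.span {f} • K := by
    intro z hz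
    have hz0 : mulB (B := B) (M := M) m z = 0 := hz
    have h1 : πA.rTensor m z = 0 := by
      apply hQinj
      rw [hnat, hz0, map_zero, map_zero]
    obtain ⟨z', rfl⟩ := (hexT z).mp h1
    rw [hφ] at hz0 ⊢
    rw [map_smul] at hz0
    have hz' : z' ∈ K := by
      change mulB (B := B) (M := M) m z' = 0
      exact hreg (by simp only [hz0, smul_zero])
    exact Submodule.smul_mem_smul (Ideal.mem_span_singleton_self f) hz'
  have hjac : Ideal.span {f} ≤ Ideal.jacobson (⊥ : Ideal B) := by
    rw [Ideal.span_singleton_le_iff_mem]
    exact IsLocalRing.maximalIdeal_le_jacobson ⊥ hf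
  have hKbot : K = ⊥ := Submodule.eq_bot_of_le_smul_of_le_jacobson_bot _ K hKfg hle hjac
  have hinj : Injective (m.subtype.rTensor M) := by
    rw [← LinearMap.lTensor_inj_iff_rTensor_inj, ← mulB_injective_iff (B := B)]
    exact LinearMap.ker_eq_bot.mp hKbot
  letI : Field (A ⧸ m) := Ideal.Quotient.field m
  haveI : Module.Flat (A ⧸ m) ((A ⧸ m) ⊗[A] M) := inferInstance
  exact Groth.Agent.H1.flat_of_isLocalHom_of_rTensor_injective (S := B) m
    (IsLocalRing.maximalIdeal.isMaximal A).ne_top hinj

end Groth.Agent.H1.FlatRegQuot
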