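import Mathlib
import Groth.Agent.Lib.Helper1.ValDim
import Groth.Agent.Lib.Helper1.ValDimB
import Groth.Agent.Lib.Helper1.Chev3
import Groth.Agent.Lib.Helper1.RelDim
import Groth.Agent.Lib.Lead.QC.SuppPullback
import Groth.Agent.Lib.Lead.QC.Pullback
import Groth.Agent.Lib.Lead.QC.Devissage
import Groth.Agent.Lib.Lead.QC.FlatBC
import Groth.Agent.Lib.Helper3.GenLift.Sch

set_option autoImplicit false
set_option linter.style.haveILetI false
universe u
open AlgebraicGeometry CategoryTheory CategoryTheory.Limits TopologicalSpace IsLocalRing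

namespace Groth.Agent.H1.FlatSuppDim

open Groth.Agent.H1.DimFormula Groth.Agent.H1.FibGen Groth.Agent.H1.FibDimBC Groth.Agent.LD.QC

set_option backward.isDefEq.respectTransparency false in
/-- module version of Stacks 0D4H: for a closed subscheme `T` with underlying set `Supp F`, `F` of
finite type and flat over `S`, the local fibre dimension of `T → S` at any point is attained over
any prescribed generization of its image. -/
theorem exists_fibreDimAt_ge {X S T : Scheme.{u}} (f : X ⟶ S) [LocallyOfFiniteType f]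
    (F : X.Modules) [F.IsQuasicoherent] (hFt : F.IsFiniteType) (hfl : FlatMod.IsFlatOver f F)
    (i : T ⟶ X) [IsClosedImmersion i] (hr : Set.range i = CohB1.support F)
    (z : T) (y' : S) (h : y' ⤳ (i ≫ f) z) :
    ∃ t' : T, (i ≫ f) t' = y' ∧
      FlatMor.fibreDimAt (i ≫ f) z ≤ FlatMor.fibreDimAt (i ≫ f) t' := by
  obtain ⟨A, _, _, _, g, ηW, hg1, hg2, hη⟩ := ValDim.exists_valuationRing_of_specializes h
  let fstX := pullback.fst f g
  let sndX := pullback.snd f g
  have hsqX : IsPullback fstX sndX f g := IsPullback.of_hasPullback f g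
  let fstT := pullback.fst (i ≫ f) g
  let sndT := pullback.snd (i ≫ f) g
  have hsqT : IsPullback fstT sndT (i ≫ f) g := IsPullback.of_hasPullback (i ≫ f) g
  let iW : pullback (i ≫ f) g ⟶ pullback f g :=
    pullback.lift (fstT ≫ i) sndT (by rw [Category.assoc]; exact pullback.condition)
  have hiW1 : iW ≫ fstX = fstT ≫ i := pullback.lift_fst _ _ _
  have hiW2 : iW ≫ sndX = sndT := pullback.lift_snd _ _ _
  have hsqL : IsPullback iW fstT fstX i := by
    refine IsPullback.of_right ?_ hiW1 hsqX.flip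
    rw [hiW2]; exact hsqT.flip
  haveI : IsClosedImmersion iW :=
    MorphismProperty.of_isPullback (P := @IsClosedImmersion) hsqL.flip inferInstance
  obtain ⟨p₀, hp1, hp2⟩ := Scheme.Pullback.exists_preimage_pullback (f := i ≫ f) (g := g) z
    (closedPoint A : Spec (CommRingCat.of A)) hg1.symm
  obtain ⟨zW, hz1, hz2, hz3, hz4⟩ := exists_fibre_generic_fibreDimAt_eq sndT p₀
  obtain ⟨t, ht1, ht2⟩ := fibreDimAt_eq_trdeg_of_generic sndT zW
    (fun z' hz' => hz3 z' (hz'.trans hz1))
  haveI := qc_pullback fstX F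
  have hFWft := isFiniteType_pullback fstX F hFt
  have hfstxW : fstX (iW zW) = i (fstT zW) := by
    rw [← Scheme.Hom.comp_apply, hiW1, Scheme.Hom.comp_apply]
  have hxWF : ¬ Subsingleton (((Scheme.Modules.pullback fstX).obj F).presheaf.stalk (iW zW)) := by
    rw [support_pullback fstX F hFt (iW zW), hfstxW]
    have h1 : i (fstT zW) ∈ CohB1.support F := hr ▸ Set.mem_range_self _
    exact h1
  have hflW : FlatMod.IsFlatOverAt sndX ((Scheme.Modules.pullback fstX).obj F) (iW zW) :=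
    isFlatOverAt_pullback_of_isPullback hsqX F (iW zW) (hfl _)
  have hsndxW : sndX (iW zW) = closedPoint A := by
    rw [← Scheme.Hom.comp_apply, hiW2, hz1]
    exact hp2
  have hηspec : ηW ⤳ sndX (iW zW) := by rw [hsndxW]; exact specializes_closedPoint ηW
  obtain ⟨x', hx'1, hx'2, hx'3⟩ := Groth.Agent.H3.GenLift.exists_generization_of_flat sndX _ hFWft
    (iW zW) hflW hxWF ηW hηspec
  have hx'F : fstX x' ∈ CohB1.support F := (support_pullback fstX F hFt x').mp hx'2
  rw [← hr] at hx'F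
  obtain ⟨t₀, ht₀⟩ := hx'F
  obtain ⟨ξ₀, hξ₀1, hξ₀2⟩ := Scheme.Pullback.exists_preimage_pullback (f := i) (g := fstX) t₀ x' ht₀
  obtain ⟨ξ, hξdef⟩ : ∃ ξ, ξ = hsqL.flip.isoPullback.inv ξ₀ := ⟨_, rfl⟩
  have hξ1 : iW ξ = x' := by
    rw [hξdef, ← Scheme.Hom.comp_apply, hsqL.flip.isoPullback_inv_snd]; exact hξ₀2
  have hξsp : ξ ⤳ zW := by
    have h1 : iW ξ ⤳ iW zW := by rw [hξ1]; exact hx'1
    exact (iW.isClosedEmbedding.isInducing.specializes_iff).mp h1
  have hsndξ : sndT ξ = ηW := by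
    rw [← hiW2, Scheme.Hom.comp_apply, hξ1, hx'3]
  have hV := ValDim.trdeg_le_of_specializes sndT zW ξ hξsp (by rw [hsndξ]; exact hη)
  obtain ⟨t', ht'1, ht'2⟩ := exists_fibreDimAt_eq_stalk_add_trdeg sndT ξ
  rw [ht1, ht'1] at hV
  have htt' : t ≤ t' := by exact_mod_cast hV
  refine ⟨fstT ξ, ?_, ?_⟩
  · rw [← Scheme.Hom.comp_apply, hsqT.w, Scheme.Hom.comp_apply, hsndξ, hg2]
  · rw [← fibreDimAt_eq_of_isPullback (i ≫ f) g fstT sndT hsqT ξ, ← hp1,
      ← fibreDimAt_eq_of_isPullback (i ≫ f) g fstT sndT hsqT p₀, ← hz4, ht2, ht'2]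
    have h0 : (0 : WithBot ℕ∞) ≤
        ringKrullDim ((sndT.fiber (sndT ξ)).presheaf.stalk (sndT.asFiber ξ)) :=
      ringKrullDim_nonneg_of_nontrivial
    calc ((t : ℕ) : WithBot ℕ∞) ≤ (t' : WithBot ℕ∞) := by exact_mod_cast htt'
      _ = 0 + (t' : WithBot ℕ∞) := (zero_add _).symm
      _ ≤ _ := add_le_add_left h0 _

set_option backward.isDefEq.respectTransparency false in
theorem dim_le_of_closedImmersion {X S T : Scheme.{u}} (f : X ⟶ S) [LocallyOfFiniteType f]
    [IrreducibleSpace ↑S] (F : X.Modules) [F.IsQuasicoherent] (hFt : F.IsFiniteType)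
    (hfl : FlatMod.IsFlatOver f F) (i : T ⟶ X) [IsClosedImmersion i]
    (hr : Set.range i = CohB1.support F) (r : WithBot ℕ∞)
    (h : topologicalKrullDim ↑(f ⁻¹' {genericPoint ↑S} ∩ CohB1.support F) ≤ r) (s : S) :
    topologicalKrullDim ↑(f ⁻¹' {s} ∩ CohB1.support F) ≤ r := by
  have key : ∀ y : S, topologicalKrullDim ↑(f ⁻¹' {y} ∩ CohB1.support F) =
      topologicalKrullDim ((i ≫ f).fiber y) := by
    intro y
    rw [ValDim.dim_fiber_eq_dim_preimage (i ≫ f) y, ← hr,
      ← RelDim.dim_preimage_eq_of_isEmbedding i.isClosedEmbedding.isEmbedding (f ⁻¹' {y})]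
    rfl
  rw [key] at h ⊢
  rw [Chev.fiber_dim_le_iff] at h ⊢
  intro z hz
  have hspec : genericPoint S ⤳ (i ≫ f) z := (genericPoint_spec S).specializes (Set.mem_univ _)
  obtain ⟨t', ht'1, ht'2⟩ := exists_fibreDimAt_ge f F hFt hfl i hr z (genericPoint S) hspec
  exact ht'2.trans (h t' ht'1)

set_option backward.isDefEq.respectTransparency false in
theorem main_S1416 {X S : Scheme.{u}} (f : X ⟶ S) [LocallyOfFiniteType f] [IrreducibleSpace ↑S]
    (F : X.Modules) (hF : Coh.IsCoh F) (hfl : FlatMod.IsFlatOver f F) (r : WithBot ℕ∞)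
    (h : topologicalKrullDim ↑(f ⁻¹' {genericPoint ↑S} ∩ CohB1.support F) ≤ r) (s : S) :
    topologicalKrullDim ↑(f ⁻¹' {s} ∩ CohB1.support F) ≤ r := by
  haveI : F.IsQuasicoherent := hF.1
  have hcl : IsClosed (CohB1.support F) := isClosed_support_of_isCoh hF
  have hr : Set.range (Scheme.IdealSheafData.vanishingIdeal ⟨CohB1.support F, hcl⟩).subschemeι =
      CohB1.support F := by
    rw [Scheme.IdealSheafData.range_subschemeι, Scheme.IdealSheafData.coe_support_vanishingIdeal]
    rfl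
  exact dim_le_of_closedImmersion f F hF.2 hfl _ hr r h s

end Groth.Agent.H1.FlatSuppDim
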