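import Mathlib
import Groth.Prelude
import Groth.Agent.Lib.Helper6.FlatLoc
import Groth.Agent.Lib.Helper6.FlatGD
import Groth.Agent.Lib.Helper6.CMKit
import Groth.Agent.Lib.Helper1.ComplQuot
import Groth.Agent.Lib.Lead.QC.SuppPullback
import Groth.Agent.Lib.Helper1.ComplDepth
import Groth.Agent.S19474

/-! Helper1: associated primes of `B/pB` for a flat local homomorphism `A → B` such that `B ⊗ M` is
Cohen–Macaulay: the dimension formula `dim B/Q = dim A/p + dim B/𝔪_A B`. -/

set_option autoImplicit false

universe u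

open IsLocalRing TensorProduct

namespace Groth.Agent.H1.FormalEquidim

open Groth.Agent.H6

/-- depth zero from the maximal ideal being associated -/
theorem depth_eq_zero_of_mem_ass {S : Type u} [CommRing S] [IsLocalRing S] [IsNoetherianRing S]
    (X : Type u) [AddCommGroup X] [Module S X] [Module.Finite S X]
    (h : maximalIdeal S ∈ associatedPrimes S X) : LocCoh.depth S X = 0 := by
  rw [FlatDepth.depth_eq_zero_iff]
  obtain ⟨-, x, hx⟩ := (isAssociatedPrime_iff).mp h
  have hx0 : x ≠ 0 := by
    rintro rfl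
    have : (1 : S) ∈ maximalIdeal S := by
      rw [hx, Submodule.mem_colon_singleton]; simp
    exact (Ideal.ne_top_iff_one _).mp (maximalIdeal.isMaximal S).ne_top this
  intro hbot
  have : x ∈ DRing.torsionSub (maximalIdeal S) X := by
    refine ⟨1, fun a ha => ?_⟩
    rw [pow_one, hx, Submodule.mem_colon_singleton] at ha
    simpa using ha
  rw [hbot] at this
  exact hx0 ((Submodule.mem_bot S).mp this)

section Core

variable {A B : Type u} [CommRing A] [CommRing B] [Algebra A B] [IsNoetherianRing A]
  [IsNoetherianRing B] [Module.Flat A B]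

/-- an associated prime of `B/pB` contracts to `p` when `B` is flat. -/
theorem comap_eq_of_mem_ass (p : Ideal A) [p.IsPrime] (Q : Ideal B)
    (hQ : Q ∈ associatedPrimes B (B ⧸ p.map (algebraMap A B))) :
    Q.comap (algebraMap A B) = p := by
  obtain ⟨hQp, x, hx⟩ := (isAssociatedPrime_iff).mp hQ
  obtain ⟨x, rfl⟩ := Ideal.Quotient.mk_surjective x
  have hmem : ∀ b : B, b ∈ Q ↔ b * x ∈ p.map (algebraMap A B) := by
    intro b
    rw [hx, Submodule.mem_colon_singleton, Submodule.mem_bot, Algebra.smul_def,
      Ideal.Quotient.algebraMap_eq, ← map_mul, Ideal.Quotient.eq_zero_iff_mem]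
  have hxn : x ∉ p.map (algebraMap A B) := by
    intro hxm
    apply hQp.ne_top
    rw [Ideal.eq_top_iff_one, hmem, one_mul]
    exact hxm
  apply le_antisymm
  · intro a ha
    by_contra hap
    rw [Ideal.mem_comap, hmem] at ha
    apply hxn
    have h1 : a • x ∈ p • (⊤ : Submodule A B) := by
      rw [Ideal.smul_top_eq_map, Submodule.restrictScalars_mem, Algebra.smul_def]
      exact ha
    have h2 := FlatGD.mem_of_smul_mem B p a hap x h1
    rw [Ideal.smul_top_eq_map, Submodule.restrictScalars_mem] at h2
    exact h2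
  · intro a ha
    rw [Ideal.mem_comap, hmem]
    exact Ideal.mul_mem_right _ _ (Ideal.mem_map_of_mem _ ha)

end Core

section Core2

variable {A B : Type u} [CommRing A] [CommRing B] [Algebra A B] [IsNoetherianRing A]
  [IsNoetherianRing B] [IsLocalRing A] [IsLocalRing B] [IsLocalHom (algebraMap A B)]
  [Module.Flat A B]

theorem core_aux (M : Type u) [AddCommGroup M] [Module A M] [Module.Finite A M]
    (hN : LocCoh.IsCohenMacaulayModule B (B ⊗[A] M))
    (Q : Ideal B) [hQp : Q.IsPrime]
    (hQ : Q ∈ associatedPrimes B (B ⧸ (Q.comap (algebraMap A B)).map (algebraMap A B)))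
    (hp : (⟨Q.comap (algebraMap A B), inferInstance⟩ : PrimeSpectrum A) ∈ Module.support A M) :
    ringKrullDim (B ⧸ Q) = ringKrullDim (A ⧸ Q.comap (algebraMap A B)) +
      ringKrullDim (B ⧸ (maximalIdeal A).map (algebraMap A B)) := by
  set P := Q.comap (algebraMap A B) with hP
  haveI : Nontrivial M := by
    by_contra h
    rw [not_nontrivial_iff_subsingleton] at h
    rw [Module.support_eq_empty] at hp
    exact hp
  haveI : Nontrivial (B ⊗[A] M) := CM.nontrivial_of_cm hN
  -- `Q` is in the support of `B ⊗ M`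
  have hQsupp : (⟨Q, hQp⟩ : PrimeSpectrum B) ∈ Module.support B (B ⊗[A] M) := by
    rw [Groth.Agent.LD.QC.support_baseChange M]
    exact hp
  -- step a: the fibre has depth zero
  have hQ' : Q ∈ associatedPrimes B (B ⊗[A] (A ⧸ P)) := by
    rw [← LinearEquiv.AssociatedPrimes.eq
      (Algebra.TensorProduct.quotIdealMapEquivTensorQuot B P).toLinearEquiv]
    exact hQ
  have hass := Module.associatedPrimes.mem_associatedPrimes_atPrime_of_mem_associatedPrimes hQ'
  have hdep0 : LocCoh.depth (Localization.AtPrime Q)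
      (LocalizedModule Q.primeCompl (B ⊗[A] (A ⧸ P))) = 0 :=
    depth_eq_zero_of_mem_ass _ hass
  have h1 := (FlatLoc.depth_and_dim_localized_tensor (A := A) (B := B) (A ⧸ P) B Q).1
  rw [hdep0] at h1
  have hfib0 : LocCoh.depth (Localization.AtPrime Q) (EGA4.FibLocMod A B Q B) = 0 :=
    (add_eq_zero.mp h1.symm).2
  -- step b: dimensions of the localizations agree
  have h2 := FlatLoc.depth_and_dim_localized_tensor (A := A) (B := B) M B Q
  rw [hfib0, add_zero] at h2
  haveI : IsNoetherianRing (Localization.AtPrime P) :=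
    IsLocalization.isNoetherianRing P.primeCompl _ inferInstance
  haveI : IsNoetherianRing (Localization.AtPrime Q) :=
    IsLocalization.isNoetherianRing Q.primeCompl _ inferInstance
  haveI : Nontrivial (LocalizedModule P.primeCompl M) := Module.mem_support_iff.mp hp
  haveI : Module.Finite (Localization.AtPrime P) (LocalizedModule P.primeCompl M) :=
    Module.Finite.of_isLocalizedModule P.primeCompl (LocalizedModule.mkLinearMap P.primeCompl M)
  haveI : Nontrivial (LocalizedModule Q.primeCompl B) := by
    have : (⟨Q, hQp⟩ : PrimeSpectrum B) ∈ Module.support B B := by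
      rw [Module.support_of_algebra, PrimeSpectrum.mem_zeroLocus]
      intro b hb
      have : b = 0 := by simpa using hb
      rw [this]; exact Q.zero_mem
    exact Module.mem_support_iff.mp this
  haveI hnt : Nontrivial (EGA4.FibLocMod A B Q B) := by
    rw [Submodule.Quotient.nontrivial_iff]
    intro htop
    have h1 : (⊤ : Submodule (Localization.AtPrime Q) (LocalizedModule Q.primeCompl B)) = ⊥ :=
      Submodule.eq_bot_of_le_smul_of_le_jacobson_bot _ _ Module.Finite.fg_top htop.ge
        ((FibLoc.fibIdeal_le A B Q).trans (IsLocalRing.maximalIdeal_le_jacobson _))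
    exact top_ne_bot h1
  obtain ⟨dM, hdM, hdMle⟩ := Depth.exists_depth_eq (R := Localization.AtPrime P)
    (LocalizedModule P.primeCompl M)
  obtain ⟨a, ha⟩ := LC.exists_supportDim_eq (R := Localization.AtPrime P)
    (LocalizedModule P.primeCompl M)
  obtain ⟨e, he⟩ := LC.exists_supportDim_eq (R := Localization.AtPrime Q)
    (EGA4.FibLocMod A B Q B)
  have hNQ := (CM.cm_localization_aux (B ⊗[A] M) hN ⟨Q, hQp⟩ hQsupp)
  have hcmQ := hNQ.1
  unfold LocCoh.IsCohenMacaulayModule at hcmQ
  rw [h2.2, h2.1, ha, he, hdM] at hcmQ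
  rw [ha] at hdMle
  have hle : dM ≤ a := by exact_mod_cast hdMle
  have heq : a + e = dM := by exact_mod_cast hcmQ
  have he0 : e = 0 := by omega
  have hdimNQ : Module.supportDim (Localization.AtPrime Q)
      (LocalizedModule Q.primeCompl (B ⊗[A] M)) = (a : WithBot ℕ∞) := by
    rw [h2.2, ha, he, he0]; simp
  -- step c: the global dimension formulas
  obtain ⟨hM, -⟩ := (FlatDim.cm_tensor_iff (R := A) (S := B) B M).mp hN
  have hMP := (CM.cm_localization_aux M hM ⟨P, inferInstance⟩ hp).2
  have hNQ2 := hNQ.2
  have hten := FlatDim.supportDim_tensor (R := A) (S := B) B M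
  have hfibdim : Module.supportDim B (FlatDepth.Fib A B B) =
      ringKrullDim (B ⧸ (maximalIdeal A).map (algebraMap A B)) := by
    have h : (FlatDepth.mS A B • (⊤ : Submodule B B) : Submodule B B) =
        (maximalIdeal A).map (algebraMap A B) := by
      rw [smul_eq_mul, Ideal.mul_top]
    unfold FlatDepth.Fib
    rw [h]
    exact Module.supportDim_quotient_eq_ringKrullDim _
  rw [hfibdim] at hten
  rw [hMP.2, ha] at hMP
  rw [hNQ2.2, hdimNQ] at hNQ2
  obtain ⟨x, hx⟩ := CM.exists_ringKrullDim_quotient_eq Q
  obtain ⟨y, hy⟩ := CM.exists_ringKrullDim_quotient_eq P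
  haveI : Nontrivial (B ⧸ (maximalIdeal A).map (algebraMap A B)) :=
    Ideal.Quotient.nontrivial_iff.mpr (FlatDim.map_maximalIdeal_ne_top A B)
  obtain ⟨f, hf⟩ := LC.exists_supportDim_eq (R := B) (B ⧸ (maximalIdeal A).map (algebraMap A B))
  rw [Module.supportDim_quotient_eq_ringKrullDim] at hf
  rw [hx, hy, hf]
  rw [hx] at hNQ2
  rw [hy] at hMP
  rw [hNQ2.1, hMP.1, hf] at hten
  have : x + a = y + a + f := by exact_mod_cast hten
  have : x = y + f := by omega
  exact_mod_cast this

/-- the dimension of `B/Q` for an associated prime `Q` of `B/pB`. -/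
theorem core (M : Type u) [AddCommGroup M] [Module A M] [Module.Finite A M]
    (hN : LocCoh.IsCohenMacaulayModule B (B ⊗[A] M))
    (p : Ideal A) [hpp : p.IsPrime]
    (hp : (⟨p, hpp⟩ : PrimeSpectrum A) ∈ Module.support A M) (Q : Ideal B)
    (hQ : Q ∈ associatedPrimes B (B ⧸ p.map (algebraMap A B))) :
    ringKrullDim (B ⧸ Q) = ringKrullDim (A ⧸ p) +
      ringKrullDim (B ⧸ (maximalIdeal A).map (algebraMap A B)) := by
  have h := comap_eq_of_mem_ass p Q hQ
  haveI : Q.IsPrime := hQ.isPrime
  subst h
  exact core_aux M hN Q hQ hp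

/-- base change of a Cohen–Macaulay module along a flat local homomorphism with zero-dimensional
closed fibre is Cohen–Macaulay. -/
theorem cm_tensor_of_fiber_dim_zero
    (h0 : ringKrullDim (B ⧸ (maximalIdeal A).map (algebraMap A B)) = 0)
    (M : Type u) [AddCommGroup M] [Module A M] [Module.Finite A M]
    (hM : LocCoh.IsCohenMacaulayModule A M) :
    LocCoh.IsCohenMacaulayModule B (B ⊗[A] M) := by
  haveI : Nontrivial M := CM.nontrivial_of_cm hM
  refine (FlatDim.cm_tensor_iff (R := A) (S := B) B M).mpr ⟨hM, ?_⟩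
  unfold LocCoh.IsCohenMacaulayModule
  have h : (FlatDepth.mS A B • (⊤ : Submodule B B) : Submodule B B) =
      (maximalIdeal A).map (algebraMap A B) := by
    rw [smul_eq_mul, Ideal.mul_top]
  have h1 := Groth.Agent.H1.ComplDepth.depth_fiber_eq_zero
    ((maximalIdeal A).map (algebraMap A B)) (FlatDim.map_maximalIdeal_ne_top A B) h0
  unfold FlatDepth.Fib FlatDepth.mS
  rw [h1]
  have h2 : Module.supportDim B (B ⧸ ((maximalIdeal A).map (algebraMap A B) • (⊤ : Submodule B B))) =
      ringKrullDim (B ⧸ (maximalIdeal A).map (algebraMap A B)) := by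
    rw [h]
    exact Module.supportDim_quotient_eq_ringKrullDim _
  rw [h2, h0]
  rfl

end Core2

section Transfer

variable {R C : Type u} [CommRing R] [CommRing C] [IsNoetherianRing R] [IsNoetherianRing C]

/-- associated primes of a quotient ring `C = R/J`, seen over `R`. -/
theorem ass_comap_of_surjective (g : R →+* C) (hg : Function.Surjective g) (J : Ideal R)
    (hJ : RingHom.ker g = J) (𝔓 : Ideal C) (h : 𝔓 ∈ associatedPrimes C C) :
    𝔓.comap g ∈ associatedPrimes R (R ⧸ J) := by
  obtain ⟨h𝔓, c, hc⟩ := (isAssociatedPrime_iff).mp h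
  obtain ⟨r, rfl⟩ := hg c
  refine (isAssociatedPrime_iff).mpr ⟨Ideal.comap_isPrime g 𝔓, Ideal.Quotient.mk J r, ?_⟩
  ext b
  rw [Ideal.mem_comap, hc, Submodule.mem_colon_singleton, Submodule.mem_colon_singleton,
    Submodule.mem_bot, Submodule.mem_bot, smul_eq_mul, Algebra.smul_def,
    Ideal.Quotient.algebraMap_eq, ← map_mul, ← map_mul, Ideal.Quotient.eq_zero_iff_mem, ← hJ,
    RingHom.mem_ker]

theorem ringKrullDim_quotient_comap (g : R →+* C) (hg : Function.Surjective g) (𝔓 : Ideal C) :
    ringKrullDim (R ⧸ 𝔓.comap g) = ringKrullDim (C ⧸ 𝔓) := by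
  have hs : Function.Surjective ((Ideal.Quotient.mk 𝔓).comp g) :=
    Ideal.Quotient.mk_surjective.comp hg
  have hk : RingHom.ker ((Ideal.Quotient.mk 𝔓).comp g) = 𝔓.comap g := by
    rw [← RingHom.comap_ker, Ideal.mk_ker]
  exact ringKrullDim_eq_of_ringEquiv
    ((Ideal.quotEquivOfEq hk.symm).trans (RingHom.quotientKerEquivOfSurjective hs))

end Transfer

section Completion

variable {A : Type u} [CommRing A] [IsNoetherianRing A] [IsLocalRing A]

/-- **key theorem**: if `A` has a finite Cohen–Macaulay module `M` and `D = A/q` is a quotient by a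
prime in the support of `M`, then the completion of `D` is strictly equidimensional. -/
theorem isStrictlyEquidim_completion (M : Type u) [AddCommGroup M] [Module A M] [Module.Finite A M]
    (hM : LocCoh.IsCohenMacaulayModule A M)
    {D : Type u} [CommRing D] [IsLocalRing D] (f : A →+* D) (hf : Function.Surjective f)
    [hq : (RingHom.ker f).IsPrime]
    (hsupp : (⟨RingHom.ker f, hq⟩ : PrimeSpectrum A) ∈ Module.support A M) :
    EGA4.IsStrictlyEquidim (AdicCompletion (maximalIdeal D) D) := by
  haveI : IsNoetherianRing D := isNoetherianRing_of_surjective A D f hf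
  set B := AdicCompletion (maximalIdeal A) A with hB
  set C := AdicCompletion (maximalIdeal D) D with hC
  haveI : IsNoetherianRing B := Groth.Agent.S0543.result A _
  haveI : IsNoetherianRing C := Groth.Agent.S0543.result D _
  have h0 : ringKrullDim (B ⧸ (maximalIdeal A).map (algebraMap A B)) = 0 :=
    Groth.Agent.H1.ComplDepth.ringKrullDim_fiber_eq_zero A _
  have hN := cm_tensor_of_fiber_dim_zero (A := A) (B := B) h0 M hM
  have h𝔫 : maximalIdeal D = (maximalIdeal A).map f :=
    (IsLocalRing.map_maximalIdeal_of_surjective f hf).symm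
  let g : B →+* C := ComplQuot.compMap f (maximalIdeal A) (maximalIdeal D) h𝔫
  have hg : Function.Surjective g := ComplQuot.compMap_surjective f _ _ hf h𝔫
  have hker : RingHom.ker g = (RingHom.ker f).map (algebraMap A B) :=
    ComplQuot.ker_compMap f _ _ hf h𝔫
  intro 𝔓 h𝔓
  have hQ := ass_comap_of_surjective g hg _ hker 𝔓 h𝔓
  have h1 := core (A := A) (B := B) M hN (RingHom.ker f) hsupp (𝔓.comap g) hQ
  rw [h0, add_zero, ringKrullDim_quotient_comap g hg 𝔓] at h1
  rw [h1]
  have h2 : ringKrullDim C = ringKrullDim D :=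
    (Groth.Agent.S19474.result D (maximalIdeal D) (Ideal.IsPrime.ne_top inferInstance)).1
  rw [h2]
  exact ringKrullDim_eq_of_ringEquiv (RingHom.quotientKerEquivOfSurjective hf)

end Completion

section Equidim

/-- strictly equidimensional Noetherian rings are equidimensional. -/
theorem isEquidim_of_isStrictlyEquidim {R : Type u} [CommRing R] [IsNoetherianRing R]
    (h : EGA4.IsStrictlyEquidim R) : EGA4.IsEquidim R := by
  intro p hp
  apply h
  have h1 : Module.annihilator R R = ⊥ := by
    rw [Module.annihilator_eq_bot]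
    exact (faithfulSMul_iff_algebraMap_injective R R).mpr fun {a₁ a₂} a ↦ a
  apply Module.associatedPrimes.minimalPrimes_annihilator_subset_associatedPrimes
  rw [h1]
  exact hp

open TensorProduct in
/-- a Noetherian local ring with a finite Cohen–Macaulay module of full support is
equidimensional. -/
theorem isEquidim_of_cm_full_support (R : Type u) [CommRing R] [IsNoetherianRing R] [IsLocalRing R]
    (N : Type u) [AddCommGroup N] [Module R N] [Module.Finite R N]
    (hN : LocCoh.IsCohenMacaulayModule R N) (hsupp : Module.support R N = Set.univ) :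
    EGA4.IsEquidim R := by
  intro Q hQ
  have hann : ∀ P : Ideal R, P.IsPrime → Module.annihilator R N ≤ P := by
    intro P hP
    have : (⟨P, hP⟩ : PrimeSpectrum R) ∈ Module.support R N := by rw [hsupp]; trivial
    rw [Module.support_eq_zeroLocus, PrimeSpectrum.mem_zeroLocus] at this
    exact this
  have hQass : Q ∈ associatedPrimes R N := by
    apply Module.associatedPrimes.minimalPrimes_annihilator_subset_associatedPrimes
    refine ⟨⟨hQ.1.1, hann Q hQ.1.1⟩, fun P hP hPQ => ?_⟩
    exact hQ.2 ⟨hP.1, bot_le⟩ hPQ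
  rw [Groth.Agent.H6.CM.ringKrullDim_quotient_eq_of_cm N hN Q hQass,
    ← Module.supportDim_self_eq_ringKrullDim]
  apply Groth.Agent.H6.CM.supportDim_eq_of_support_eq
  rw [hsupp, Module.support_of_algebra]
  ext P
  simp only [Set.mem_univ, PrimeSpectrum.mem_zeroLocus, true_iff]
  intro a ha
  have : a = 0 := by simpa using ha
  rw [this]
  exact Ideal.zero_mem _

end Equidim

end Groth.Agent.H1.FormalEquidim
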