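import Groth.Agent.Lib.Helper1.FpqcDescent
import Mathlib.AlgebraicGeometry.Morphisms.QuasiFinite

/-! Descent of (locally quasi-finite and locally of finite type) and finiteness along fpqc
morphisms. -/

set_option autoImplicit false
universe u

open CategoryTheory CategoryTheory.Limits AlgebraicGeometry MorphismProperty

namespace Groth.Agent.H1

/-- If the base change of a quasi-compact, locally of finite type morphism `h` along a surjective
morphism `f` is locally quasi-finite, then `h` is locally quasi-finite. -/
theorem locallyQuasiFinite_of_pullback_fst_of_surjective {X V Z : Scheme.{u}} (f : X ⟶ Z)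
    (h : V ⟶ Z) [Surjective f] [QuasiCompact h] [LocallyOfFiniteType h]
    [LocallyQuasiFinite (pullback.fst f h)] : LocallyQuasiFinite h := by
  refine LocallyQuasiFinite.of_finite_preimage_singleton h fun z => ?_
  obtain ⟨x, rfl⟩ := f.surjective z
  have hfin : ((pullback.fst f h) ⁻¹' {x}).Finite :=
    (pullback.fst f h).finite_preimage_singleton x
  refine (hfin.image (pullback.snd f h)).subset ?_
  intro v hv
  obtain ⟨w, hw1, hw2⟩ := Scheme.Pullback.exists_preimage_pullback (f := f) (g := h) x v hv.symm
  exact ⟨w, hw1, hw2⟩

set_option backward.isDefEq.respectTransparency.types false in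
/-- Being locally quasi-finite and locally of finite type descends along fpqc morphisms. -/
theorem descendsAlong_locallyQuasiFinite_inf_locallyOfFiniteType :
    DescendsAlong (@LocallyQuasiFinite ⊓ @LocallyOfFiniteType : MorphismProperty Scheme.{u})
      (@Surjective ⊓ @Flat ⊓ @QuasiCompact : MorphismProperty Scheme.{u}) := by
  refine IsZariskiLocalAtTarget.descendsAlong_inf_quasiCompact _ _ localIso_inf_surjective_le ?_
  intro R S Y φ g ⟨hs, hfl⟩ ⟨hqf, hft⟩
  have : Surjective (Spec.map φ) := hs
  have : Flat (Spec.map φ) := hfl
  have : LocallyQuasiFinite (pullback.fst (Spec.map φ) g) := hqf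
  have : LocallyOfFiniteType (pullback.fst (Spec.map φ) g) := hft
  have hg : LocallyOfFiniteType g :=
    MorphismProperty.of_pullback_fst_of_descendsAlong (P := @LocallyOfFiniteType)
      (Q := @Surjective ⊓ @Flat ⊓ @QuasiCompact) (f := Spec.map φ)
      ⟨⟨hs, hfl⟩, inferInstance⟩ hft
  refine ⟨?_, hg⟩
  rw [IsZariskiLocalAtSource.iff_of_openCover (P := @LocallyQuasiFinite) Y.affineCover]
  intro i
  have : QuasiCompact (Y.affineCover.f i ≫ g) := inferInstance
  have heq : pullback.fst (Spec.map φ) (Y.affineCover.f i ≫ g) =
      pullback.map _ _ _ _ (𝟙 _) (Y.affineCover.f i) (𝟙 _) (by simp) (by simp) ≫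
        pullback.fst (Spec.map φ) g := (pullback.lift_fst _ _ _).symm
  have : LocallyQuasiFinite (pullback.fst (Spec.map φ) (Y.affineCover.f i ≫ g)) := by
    rw [heq]
    infer_instance
  exact locallyQuasiFinite_of_pullback_fst_of_surjective (Spec.map φ) (Y.affineCover.f i ≫ g)

set_option backward.isDefEq.respectTransparency.types false in
/-- Finiteness descends along fpqc morphisms. -/
theorem descendsAlong_isFinite :
    DescendsAlong @IsFinite
      (@Surjective ⊓ @Flat ⊓ @QuasiCompact : MorphismProperty Scheme.{u}) := by
  have h1 := descendsAlong_isProper.{u}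
  have h2 := descendsAlong_locallyQuasiFinite_inf_locallyOfFiniteType.{u}
  have heq : @IsFinite = (@IsProper ⊓ (@LocallyQuasiFinite ⊓ @LocallyOfFiniteType) :
      MorphismProperty Scheme.{u}) := by
    ext X Y f
    constructor
    · intro (h : IsFinite f)
      exact ⟨inferInstanceAs (IsProper f), inferInstanceAs (LocallyQuasiFinite f),
        inferInstanceAs (LocallyOfFiniteType f)⟩
    · rintro ⟨h1, h2, -⟩
      exact (IsFinite.iff_isProper_and_locallyQuasiFinite f).mpr ⟨h1, h2⟩
  rw [heq]
  infer_instance

end Groth.Agent.H1
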