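import Groth.Prelude.Def_MoreMor
import Mathlib.AlgebraicGeometry.QuasiAffine

/-!
# Ind-quasi-affine morphisms (helper1)

Workhorse reformulation `isIndQuasiAffineHom_iff`: `f : X ⟶ Y` is ind-quasi-affine iff every
quasi-compact scheme `W` with an open immersion `j : W ⟶ X` such that `j ≫ f` lands in an affine open
of `Y` is quasi-affine.  Key lemma `isQuasiAffine_of_forall_exists_basicOpen`: a quasi-compact scheme
covered by quasi-affine basic opens of global sections is quasi-affine.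
-/

namespace Groth.Agent.H1
open AlgebraicGeometry CategoryTheory Limits TopologicalSpace

universe u

set_option backward.isDefEq.respectTransparency.types false in
/-- A quasi-compact scheme covered by quasi-affine basic opens of global sections is quasi-affine. -/
theorem isQuasiAffine_of_forall_exists_basicOpen (X : Scheme.{u}) [CompactSpace X]
    (H : ∀ x : X, ∃ r : Γ(X, ⊤), Scheme.IsQuasiAffine (X.basicOpen r : Scheme.{u}) ∧
      x ∈ X.basicOpen r) :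
    X.IsQuasiAffine := by
  suffices IsOpenImmersion X.toSpecΓ by constructor
  have : QuasiSeparatedSpace X := by
    choose r hr hxr using H
    refine .of_isOpenCover (U := (X.basicOpen <| r ·))
      (eq_top_iff.mpr fun _ _ ↦ Opens.mem_iSup.mpr ⟨_, hxr _⟩)
      (fun _ ↦ isRetrocompact_basicOpen _) (fun x ↦ ?_)
    have := hr x
    have : QuasiSeparatedSpace (X.basicOpen (r x) : Scheme.{u}) := inferInstance
    exact (isQuasiSeparated_iff_quasiSeparatedSpace _ (X.basicOpen (r x)).2).mpr this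
  refine IsZariskiLocalAtTarget.of_forall_source_exists_preimage _ fun x ↦ ?_
  obtain ⟨r, hr, hxr⟩ := H x
  refine ⟨PrimeSpectrum.basicOpen r, (X.toSpecΓ_preimage_basicOpen r).ge hxr, ?_⟩
  suffices IsOpenImmersion ((X.basicOpen r).ι ≫ X.toSpecΓ) by
    convert! this <;> rw [Scheme.toSpecΓ_preimage_basicOpen]
  rw [← Scheme.Opens.toSpecΓ_SpecMap_presheaf_map_top]
  have := isLocalization_basicOpen_of_qcqs isCompact_univ isQuasiSeparated_univ r
  have h1 : IsOpenImmersion (X.basicOpen r).toSpecΓ := by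
    delta Scheme.Opens.toSpecΓ
    infer_instance
  exact MorphismProperty.comp_mem _ _ _ h1 (.of_isLocalization r)

theorem isQuasiAffine_of_iso {X Y : Scheme.{u}} (e : X ≅ Y) [Y.IsQuasiAffine] : X.IsQuasiAffine :=
  Scheme.IsQuasiAffine.of_isAffineHom e.hom

theorem isIndQuasiAffineHom_iff {X Y : Scheme.{u}} (f : X ⟶ Y) :
    MoreMor.IsIndQuasiAffineHom f ↔
      ∀ (W : Scheme.{u}) (j : W ⟶ X) [IsOpenImmersion j] [CompactSpace W] (V : Y.Opens),
        IsAffineOpen V → Set.range (j ≫ f) ⊆ V → W.IsQuasiAffine := by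
  constructor
  · intro H W j _ _ V hV hr
    have hj : Set.range j ⊆ Set.range (f ⁻¹ᵁ V).ι := by
      rintro _ ⟨w, rfl⟩
      rw [Scheme.Opens.range_ι]
      exact hr ⟨w, rfl⟩
    let ψ : W ⟶ (f ⁻¹ᵁ V : Scheme.{u}) := IsOpenImmersion.lift (f ⁻¹ᵁ V).ι j hj
    have hψ : ψ ≫ (f ⁻¹ᵁ V).ι = j := IsOpenImmersion.lift_fac _ _ _
    have : IsOpenImmersion ψ := by
      have : IsOpenImmersion (ψ ≫ (f ⁻¹ᵁ V).ι) := by rw [hψ]; infer_instance
      exact IsOpenImmersion.of_comp ψ (f ⁻¹ᵁ V).ι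
    have hc : IsCompact (ψ.opensRange : Set (f ⁻¹ᵁ V : Scheme.{u})) := by
      simpa using isCompact_range ψ.continuous
    have := H V hV ψ.opensRange hc
    exact isQuasiAffine_of_iso ψ.isoOpensRange
  · intro H V hV U' hU'
    have : CompactSpace (U' : Scheme.{u}) := isCompact_iff_compactSpace.mp hU'
    refine H U' (U'.ι ≫ (f ⁻¹ᵁ V).ι) V hV ?_
    rintro _ ⟨w, rfl⟩
    exact ((U'.ι w).2 : _)

theorem compactSpace_basicOpen {W : Scheme.{u}} [CompactSpace W] (r : Γ(W, ⊤)) :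
    CompactSpace (W.basicOpen r : Scheme.{u}) := by
  have h : IsCompact (W.basicOpen r : Set W) := by
    simpa using isRetrocompact_basicOpen r isCompact_univ isOpen_univ
  exact isCompact_iff_compactSpace.mp h

theorem isQuasiAffine_of_hom {W Q : Scheme.{u}} (φ : W ⟶ Q) [CompactSpace W] [Q.IsQuasiAffine]
    (H : ∀ x : W, ∃ O : Q.Opens, φ x ∈ O ∧ ∀ r : Γ(Q, ⊤), IsAffineOpen (Q.basicOpen r) →
      Q.basicOpen r ≤ O → Scheme.IsQuasiAffine (W.basicOpen (φ.appTop r) : Scheme.{u})) :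
    W.IsQuasiAffine := by
  refine isQuasiAffine_of_forall_exists_basicOpen W fun x ↦ ?_
  obtain ⟨O, hxO, HO⟩ := H x
  obtain ⟨_, ⟨_, ⟨r, hr, rfl⟩, rfl⟩, hxr, hrO⟩ := (Scheme.IsQuasiAffine.isBasis_basicOpen
    Q).exists_subset_of_mem_open hxO O.2
  refine ⟨φ.appTop r, HO r hr hrO, ?_⟩
  rw [← Scheme.preimage_basicOpen_top]
  exact hxr

theorem mem_basicOpen_appTop {W Q : Scheme.{u}} (φ : W ⟶ Q) (r : Γ(Q, ⊤))
    (w : (W.basicOpen (φ.appTop r) : Scheme.{u})) :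
    φ ((W.basicOpen (φ.appTop r)).ι w) ∈ Q.basicOpen r := by
  have h : (W.basicOpen (φ.appTop r)).ι w ∈ φ ⁻¹ᵁ Q.basicOpen r := by
    rw [Scheme.preimage_basicOpen_top]
    exact w.2
  exact h

theorem isQuasiAffine_of_isAffine (X : Scheme.{u}) [IsAffine X] : X.IsQuasiAffine where

theorem isQuasiAffine_of_isAffineOpen {X : Scheme.{u}} {V : X.Opens} (hV : IsAffineOpen V) :
    Scheme.IsQuasiAffine (V : Scheme.{u}) :=
  have : IsAffine (V : Scheme.{u}) := hV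
  isQuasiAffine_of_isAffine _

theorem isIndQuasiAffineHom_of_comp {X Y Z : Scheme.{u}} (f : X ⟶ Y) (g : Y ⟶ Z)
    (h : MoreMor.IsIndQuasiAffineHom (f ≫ g)) : MoreMor.IsIndQuasiAffineHom f := by
  rw [isIndQuasiAffineHom_iff] at h ⊢
  intro W j _ _ V hV hr
  have hr' : Set.range (j ≫ f) ⊆ Set.range V.ι := by
    rw [Scheme.Opens.range_ι]; exact hr
  let φ : W ⟶ (V : Scheme.{u}) := IsOpenImmersion.lift V.ι (j ≫ f) hr'
  have hφ : φ ≫ V.ι = j ≫ f := IsOpenImmersion.lift_fac _ _ _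
  have hφ' : ∀ w, V.ι (φ w) = f (j w) := fun w ↦ by
    rw [← Scheme.Hom.comp_apply, hφ, Scheme.Hom.comp_apply]
  have := isQuasiAffine_of_isAffineOpen hV
  refine isQuasiAffine_of_hom φ fun x ↦ ?_
  obtain ⟨_, ⟨WZ, hWZ, rfl⟩, hxWZ, -⟩ := Z.isBasis_affineOpens.exists_subset_of_mem_open
    (Set.mem_univ (g (f (j x)))) isOpen_univ
  refine ⟨V.ι ⁻¹ᵁ (g ⁻¹ᵁ WZ), ?_, fun r hra hrO ↦ ?_⟩
  · change g (V.ι (φ x)) ∈ WZ
    rw [hφ']
    exact hxWZ
  · have := compactSpace_basicOpen (φ.appTop r)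
    refine h _ ((W.basicOpen (φ.appTop r)).ι ≫ j) WZ hWZ ?_
    rintro _ ⟨w, rfl⟩
    have h1 := hrO (mem_basicOpen_appTop φ r w)
    change g (V.ι (φ _)) ∈ WZ at h1
    rw [hφ'] at h1
    simpa using h1

theorem isIndQuasiAffineHom_of_isImmersion {X Y : Scheme.{u}} (f : X ⟶ Y) [IsImmersion f] :
    MoreMor.IsIndQuasiAffineHom f := by
  rw [isIndQuasiAffineHom_iff]
  intro W j _ _ V hV hr
  have hr' : Set.range (j ≫ f) ⊆ Set.range V.ι := by
    rw [Scheme.Opens.range_ι]; exact hr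
  let φ : W ⟶ (V : Scheme.{u}) := IsOpenImmersion.lift V.ι (j ≫ f) hr'
  have hφ : φ ≫ V.ι = j ≫ f := IsOpenImmersion.lift_fac _ _ _
  have := isQuasiAffine_of_isAffineOpen hV
  have : IsImmersion (φ ≫ V.ι) := by rw [hφ]; infer_instance
  have : IsImmersion φ := IsImmersion.of_comp φ V.ι
  exact Scheme.IsQuasiAffine.of_isImmersion φ

theorem isIndQuasiAffineHom_of_isQuasiAffineHom {X Y : Scheme.{u}} (f : X ⟶ Y)
    (H : MoreMor.IsQuasiAffineHom f) :
    MoreMor.IsIndQuasiAffineHom f := by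
  rw [isIndQuasiAffineHom_iff]
  intro W j _ _ V hV hr
  have hj : Set.range j ⊆ Set.range (f ⁻¹ᵁ V).ι := by
    rintro _ ⟨w, rfl⟩
    rw [Scheme.Opens.range_ι]
    exact hr ⟨w, rfl⟩
  let ψ : W ⟶ (f ⁻¹ᵁ V : Scheme.{u}) := IsOpenImmersion.lift (f ⁻¹ᵁ V).ι j hj
  have hψ : ψ ≫ (f ⁻¹ᵁ V).ι = j := IsOpenImmersion.lift_fac _ _ _
  have : IsOpenImmersion ψ := by
    have : IsOpenImmersion (ψ ≫ (f ⁻¹ᵁ V).ι) := by rw [hψ]; infer_instance
    exact IsOpenImmersion.of_comp ψ (f ⁻¹ᵁ V).ι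
  have := H.2 V hV
  exact Scheme.IsQuasiAffine.of_isImmersion ψ

/-- A compact subset of an open subset of a scheme is contained in a compact open subset of it. -/
theorem exists_compact_opens_between {Y : Scheme.{u}} {K : Set Y} (hK : IsCompact K) (O : Y.Opens)
    (hKO : K ⊆ O) : ∃ V' : Y.Opens, IsCompact (V' : Set Y) ∧ K ⊆ V' ∧ V' ≤ O := by
  have H : ∀ y ∈ K, ∃ A : Y.Opens, IsAffineOpen A ∧ y ∈ A ∧ A ≤ O := by
    intro y hy
    obtain ⟨_, ⟨A, hA, rfl⟩, hyA, hAO⟩ := Y.isBasis_affineOpens.exists_subset_of_mem_open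
      (hKO hy) O.2
    exact ⟨A, hA, hyA, hAO⟩
  choose! A hA hyA hAO using H
  obtain ⟨t, htK, hKt⟩ := hK.elim_nhds_subcover (fun y ↦ (A y : Set Y))
    (fun y hy ↦ (A y).2.mem_nhds (hyA y hy))
  refine ⟨⨆ y ∈ t, A y, ?_, ?_, ?_⟩
  · simp only [Opens.iSup_mk, Opens.carrier_eq_coe, Opens.coe_mk]
    exact t.finite_toSet.isCompact_biUnion fun y hy ↦ (hA y (htK y hy)).isCompact
  · simpa using hKt
  · exact iSup₂_le fun y hy ↦ hAO y (htK y hy)

theorem isIndQuasiAffineHom_comp {X Y Z : Scheme.{u}} (f : X ⟶ Y) (g : Y ⟶ Z)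
    (hf : MoreMor.IsIndQuasiAffineHom f) (hg : MoreMor.IsIndQuasiAffineHom g) :
    MoreMor.IsIndQuasiAffineHom (f ≫ g) := by
  rw [isIndQuasiAffineHom_iff] at hf hg ⊢
  intro W j _ _ WZ hWZ hr
  obtain ⟨V', hV'c, hKV', hV'O⟩ := exists_compact_opens_between
    (isCompact_range (j ≫ f).continuous) (g ⁻¹ᵁ WZ) (by
      rintro _ ⟨w, rfl⟩
      have := hr ⟨w, rfl⟩
      simpa using this)
  have : CompactSpace (V' : Scheme.{u}) := isCompact_iff_compactSpace.mp hV'c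
  have : Scheme.IsQuasiAffine (V' : Scheme.{u}) := by
    refine hg V' V'.ι WZ hWZ ?_
    rintro _ ⟨w, rfl⟩
    exact hV'O w.2
  have hr' : Set.range (j ≫ f) ⊆ Set.range V'.ι := by
    rw [Scheme.Opens.range_ι]; exact hKV'
  let φ : W ⟶ (V' : Scheme.{u}) := IsOpenImmersion.lift V'.ι (j ≫ f) hr'
  have hφ : φ ≫ V'.ι = j ≫ f := IsOpenImmersion.lift_fac _ _ _
  have hφ' : ∀ w, V'.ι (φ w) = f (j w) := fun w ↦ by
    rw [← Scheme.Hom.comp_apply, hφ, Scheme.Hom.comp_apply]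
  refine isQuasiAffine_of_hom φ fun x ↦ ⟨⊤, trivial, fun r hra _ ↦ ?_⟩
  have := compactSpace_basicOpen (φ.appTop r)
  refine hf _ ((W.basicOpen (φ.appTop r)).ι ≫ j) (V'.ι ''ᵁ (V' : Scheme.{u}).basicOpen r)
    (hra.image_of_isOpenImmersion V'.ι) ?_
  rintro _ ⟨w, rfl⟩
  refine ⟨φ ((W.basicOpen (φ.appTop r)).ι w), mem_basicOpen_appTop φ r w, ?_⟩
  exact (hφ' _).trans (by simp)

set_option backward.isDefEq.respectTransparency.types false in
theorem isQuasiAffine_of_isPullback_aux {X S X' S' : Scheme.{u}} (f : X ⟶ S) (f' : X' ⟶ S')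
    (g' : X' ⟶ X) (g : S' ⟶ S) (hc : IsPullback g' f' f g)
    (hf : ∀ (W : Scheme.{u}) (j : W ⟶ X) [IsOpenImmersion j] [CompactSpace W] (V : S.Opens),
        IsAffineOpen V → Set.range (j ≫ f) ⊆ V → W.IsQuasiAffine)
    (W₁ : Scheme.{u}) (j₁ : W₁ ⟶ X') [IsOpenImmersion j₁] [CompactSpace W₁]
    (V'' : S'.Opens) (hV'' : IsAffineOpen V'') (V : S.Opens) (hV : IsAffineOpen V)
    (hle : V'' ≤ g ⁻¹ᵁ V) (hr : Set.range (j₁ ≫ f') ⊆ V'') : W₁.IsQuasiAffine := by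
  have hfg : ∀ w, f (g' (j₁ w)) = g (f' (j₁ w)) := fun w ↦ by
    have := congrArg (fun φ : X' ⟶ S => φ (j₁ w)) hc.w
    simpa using this
  obtain ⟨U, hUc, hKU, hUO⟩ := exists_compact_opens_between
    (isCompact_range (j₁ ≫ g').continuous) (f ⁻¹ᵁ V) (by
      rintro _ ⟨w, rfl⟩
      change f (g' (j₁ w)) ∈ V
      rw [hfg]
      exact hle (hr ⟨w, rfl⟩))
  have : CompactSpace (U : Scheme.{u}) := isCompact_iff_compactSpace.mp hUc
  have : Scheme.IsQuasiAffine (U : Scheme.{u}) := by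
    refine hf U U.ι V hV ?_
    rintro _ ⟨w, rfl⟩
    exact hUO w.2
  have : IsAffine (V : Scheme.{u}) := hV
  have : IsAffine (V'' : Scheme.{u}) := hV''
  let a : (U : Scheme.{u}) ⟶ (V : Scheme.{u}) := f.resLE V U hUO
  let b : (V'' : Scheme.{u}) ⟶ (V : Scheme.{u}) := g.resLE V V'' hle
  have ha : a ≫ V.ι = U.ι ≫ f := Scheme.Hom.resLE_comp_ι _ _
  have hb : b ≫ V.ι = V''.ι ≫ g := Scheme.Hom.resLE_comp_ι _ _
  have : IsAffineHom b := inferInstance
  have : IsAffineHom (pullback.fst a b) := MorphismProperty.pullback_fst _ _ ‹_›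
  have : Scheme.IsQuasiAffine (pullback a b) := Scheme.IsQuasiAffine.of_isAffineHom (pullback.fst a b)
  have hc1 : Set.range (j₁ ≫ g') ⊆ Set.range U.ι := by
    rw [Scheme.Opens.range_ι]; exact hKU
  have hd1 : Set.range (j₁ ≫ f') ⊆ Set.range V''.ι := by
    rw [Scheme.Opens.range_ι]; exact hr
  let c : W₁ ⟶ (U : Scheme.{u}) := IsOpenImmersion.lift U.ι (j₁ ≫ g') hc1
  let d : W₁ ⟶ (V'' : Scheme.{u}) := IsOpenImmersion.lift V''.ι (j₁ ≫ f') hd1
  have hcU : c ≫ U.ι = j₁ ≫ g' := IsOpenImmersion.lift_fac _ _ _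
  have hdV : d ≫ V''.ι = j₁ ≫ f' := IsOpenImmersion.lift_fac _ _ _
  have hcd : c ≫ a = d ≫ b := by
    rw [← cancel_mono V.ι, Category.assoc, Category.assoc, ha, hb, reassoc_of% hcU,
      reassoc_of% hdV, hc.w]
  let e : W₁ ⟶ pullback a b := pullback.lift c d hcd
  let q : pullback a b ⟶ X' := hc.lift (pullback.fst a b ≫ U.ι) (pullback.snd a b ≫ V''.ι) (by
    rw [Category.assoc, Category.assoc, ← ha, ← hb, pullback.condition_assoc])
  have heq : e ≫ q = j₁ := by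
    apply hc.hom_ext
    · simp only [e, q, Category.assoc, IsPullback.lift_fst]
      rw [pullback.lift_fst_assoc, hcU]
    · simp only [e, q, Category.assoc, IsPullback.lift_snd]
      rw [pullback.lift_snd_assoc, hdV]
  have : IsImmersion (e ≫ q) := by rw [heq]; infer_instance
  have : IsImmersion e := IsImmersion.of_comp e q
  exact Scheme.IsQuasiAffine.of_isImmersion e

theorem isIndQuasiAffineHom_of_isPullback {X S X' S' : Scheme.{u}} (f : X ⟶ S) (f' : X' ⟶ S')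
    (g' : X' ⟶ X) (g : S' ⟶ S) (hc : IsPullback g' f' f g)
    (hf : MoreMor.IsIndQuasiAffineHom f) : MoreMor.IsIndQuasiAffineHom f' := by
  rw [isIndQuasiAffineHom_iff] at hf ⊢
  intro W j _ _ V' hV' hr
  have hr' : Set.range (j ≫ f') ⊆ Set.range V'.ι := by
    rw [Scheme.Opens.range_ι]; exact hr
  let φ : W ⟶ (V' : Scheme.{u}) := IsOpenImmersion.lift V'.ι (j ≫ f') hr'
  have hφ : φ ≫ V'.ι = j ≫ f' := IsOpenImmersion.lift_fac _ _ _
  have hφ' : ∀ w, V'.ι (φ w) = f' (j w) := fun w ↦ by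
    rw [← Scheme.Hom.comp_apply, hφ, Scheme.Hom.comp_apply]
  have := isQuasiAffine_of_isAffineOpen hV'
  refine isQuasiAffine_of_hom φ fun x ↦ ?_
  obtain ⟨_, ⟨V, hV, rfl⟩, hxV, -⟩ := S.isBasis_affineOpens.exists_subset_of_mem_open
    (Set.mem_univ (g (f' (j x)))) isOpen_univ
  refine ⟨V'.ι ⁻¹ᵁ (g ⁻¹ᵁ V), ?_, fun r hra hrO ↦ ?_⟩
  · change g (V'.ι (φ x)) ∈ V
    rw [hφ']
    exact hxV
  · have := compactSpace_basicOpen (φ.appTop r)
    refine isQuasiAffine_of_isPullback_aux f f' g' g hc hf _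
      ((W.basicOpen (φ.appTop r)).ι ≫ j) (V'.ι ''ᵁ (V' : Scheme.{u}).basicOpen r)
      (hra.image_of_isOpenImmersion V'.ι) V hV ?_ ?_
    · rintro _ ⟨y, hy, rfl⟩
      exact hrO hy
    · rintro _ ⟨w, rfl⟩
      refine ⟨φ ((W.basicOpen (φ.appTop r)).ι w), mem_basicOpen_appTop φ r w, ?_⟩
      exact (hφ' _).trans (by simp)

theorem isIndQuasiAffineHom_iff_resLE {X Y : Scheme.{u}} (f : X ⟶ Y) :
    MoreMor.IsIndQuasiAffineHom f ↔ ∀ (V : Y.Opens), IsCompact (V : Set ↑Y) →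
      IsQuasiSeparated (V : Set ↑Y) → ∀ (U : X.Opens) (hUV : U ≤ f ⁻¹ᵁ V),
        IsCompact (U : Set ↑X) → MoreMor.IsQuasiAffineHom (f.resLE V U hUV) := by
  constructor
  · intro H V hVc hVqs U hUV hUc
    rw [isIndQuasiAffineHom_iff] at H
    have : CompactSpace (U : Scheme.{u}) := isCompact_iff_compactSpace.mp hUc
    have : QuasiSeparatedSpace (V : Scheme.{u}) :=
      (isQuasiSeparated_iff_quasiSeparatedSpace _ V.2).mp hVqs
    have hqc : QuasiCompact (f.resLE V U hUV) := inferInstance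
    refine ⟨hqc, fun V₀ hV₀ ↦ ?_⟩
    have hPc : IsCompact ((f.resLE V U hUV ⁻¹ᵁ V₀ : (U : Scheme.{u}).Opens) : Set (U : Scheme.{u})) :=
      hqc.isCompact_preimage _ V₀.2 hV₀.isCompact
    have : CompactSpace (f.resLE V U hUV ⁻¹ᵁ V₀ : Scheme.{u}) := isCompact_iff_compactSpace.mp hPc
    refine H _ ((f.resLE V U hUV ⁻¹ᵁ V₀).ι ≫ U.ι) (V.ι ''ᵁ V₀) (hV₀.image_of_isOpenImmersion V.ι) ?_
    rintro _ ⟨w, rfl⟩
    refine ⟨f.resLE V U hUV ((f.resLE V U hUV ⁻¹ᵁ V₀).ι w), w.2, ?_⟩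
    have := congrArg (fun φ : (U : Scheme.{u}) ⟶ Y => φ ((f.resLE V U hUV ⁻¹ᵁ V₀).ι w))
      (Scheme.Hom.resLE_comp_ι f hUV)
    exact this
  · intro H
    rw [isIndQuasiAffineHom_iff]
    intro W j _ _ V hV hr
    have hUV : j.opensRange ≤ f ⁻¹ᵁ V := by
      rintro _ ⟨w, rfl⟩
      exact hr ⟨w, rfl⟩
    have hUc : IsCompact (j.opensRange : Set X) := by
      simpa using isCompact_range j.continuous
    have := (H V hV.isCompact hV.isQuasiSeparated j.opensRange hUV hUc).2 ⊤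
      (by have : IsAffine (V : Scheme.{u}) := hV; exact isAffineOpen_top _)
    have h2 : (f.resLE V j.opensRange hUV ⁻¹ᵁ ⊤ : (j.opensRange : Scheme.{u}).Opens) = ⊤ := rfl
    rw [h2] at this
    exact isQuasiAffine_of_iso (j.isoOpensRange ≪≫ (Scheme.topIso _).symm)

end Groth.Agent.H1
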