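import Mathlib
import Groth.Prelude.Def_Mor2
import Groth.Prelude.Def_MoreMor
import Groth.Agent.Lib.Helper1.FpqcDescent
import Groth.Agent.Lib.Helper1.IndQuasiAffine
import Groth.Agent.Lib.Helper5.Descent.FlatBaseChangeGamma
import Groth.Agent.Lib.Helper5.Lim.QuasiAffineLocal

set_option autoImplicit false
set_option linter.style.haveILetI false
universe u
open CategoryTheory CategoryTheory.Limits AlgebraicGeometry MorphismProperty

namespace Groth.Agent.H1.FpqcQAffine

set_option backward.isDefEq.respectTransparency.types false in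
/-- affine case of fpqc descent of quasi-affineness. -/
theorem isQuasiAffine_of_isPullback {T₀ T₁ Y P : Scheme.{u}} [IsAffine T₀] [IsAffine T₁]
    (q : T₁ ⟶ T₀) [Surjective q] [Flat q] (g : Y ⟶ T₀) (p₁ : P ⟶ T₁) (p₂ : P ⟶ Y)
    (H : IsPullback p₂ p₁ g q) [P.IsQuasiAffine] : Y.IsQuasiAffine := by
  have hQ : (@Surjective ⊓ @Flat ⊓ @QuasiCompact : MorphismProperty Scheme.{u}) q :=
    ⟨⟨inferInstance, inferInstance⟩, inferInstance⟩
  -- Y is qcqs
  have hqc : QuasiCompact g := by
    have := Groth.Agent.H1.descendsAlong_quasiCompact.{u}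
    exact MorphismProperty.of_isPullback_of_descendsAlong (P := @QuasiCompact)
      (Q := @Surjective ⊓ @Flat ⊓ @QuasiCompact) H.flip hQ inferInstance
  have hqs : QuasiSeparated g := by
    have := Groth.Agent.H1.descendsAlong_quasiSeparated.{u}
    exact MorphismProperty.of_isPullback_of_descendsAlong (P := @QuasiSeparated)
      (Q := @Surjective ⊓ @Flat ⊓ @QuasiCompact) H.flip hQ inferInstance
  haveI : CompactSpace Y := (quasiCompact_iff_compactSpace g).mp hqc
  haveI : QuasiSeparatedSpace Y := (quasiSeparated_iff_quasiSeparatedSpace g).mp hqs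
  have hpo := Groth.Agent.H5.Descent.isPushout_appTop H
  have hbot := isPullback_SpecMap_of_isPushout _ _ _ _ hpo
  haveI hS : IsIso T₁.toSpecΓ := (inferInstance : IsAffine T₁).affine
  haveI hR : IsIso T₀.toSpecΓ := (inferInstance : IsAffine T₀).affine
  have hiso : IsPullback q T₁.toSpecΓ T₀.toSpecΓ (Spec.map q.appTop) :=
    IsPullback.of_vert_isIso ⟨Scheme.toSpecΓ_naturality _⟩
  have houter := H.paste_vert hiso
  rw [Scheme.toSpecΓ_naturality, Scheme.toSpecΓ_naturality] at houter
  have htop : IsPullback p₂ P.toSpecΓ Y.toSpecΓ (Spec.map p₂.appTop) :=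
    IsPullback.of_bot houter (Scheme.toSpecΓ_naturality _) hbot
  have hQ' : (@Surjective ⊓ @Flat ⊓ @QuasiCompact : MorphismProperty Scheme.{u})
      (Spec.map q.appTop) := by
    have e : CategoryTheory.Arrow.mk q ≅ CategoryTheory.Arrow.mk (Spec.map q.appTop) :=
      CategoryTheory.Arrow.isoMk (asIso T₁.toSpecΓ) (asIso T₀.toSpecΓ)
        (Scheme.toSpecΓ_naturality _).symm
    exact ((@Surjective ⊓ @Flat ⊓ @QuasiCompact : MorphismProperty Scheme.{u}).arrow_mk_iso_iff
      e).mp hQ
  have hQ'' : (@Surjective ⊓ @Flat ⊓ @QuasiCompact : MorphismProperty Scheme.{u})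
      (Spec.map p₂.appTop) :=
    MorphismProperty.of_isPullback hbot.flip hQ'
  have hoi : IsOpenImmersion Y.toSpecΓ :=
    MorphismProperty.of_isPullback_of_descendsAlong (P := @IsOpenImmersion)
      (Q := @Surjective ⊓ @Flat ⊓ @QuasiCompact) htop.flip hQ''
      (inferInstanceAs (IsOpenImmersion P.toSpecΓ))
  exact { }



set_option backward.isDefEq.respectTransparency.types false in
/-- quasi-affineness of morphisms descends along fpqc morphisms. -/
theorem descendsAlong_isQuasiAffine :
    DescendsAlong (fun _ _ f => Mor2.IsQuasiAffine f : MorphismProperty Scheme.{u})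
      (@Surjective ⊓ @Flat ⊓ @QuasiCompact : MorphismProperty Scheme.{u}) := by
  constructor
  intro A X Y Z fst snd f g h hQ hfst
  obtain ⟨⟨hs, hfl⟩, hqcf⟩ := hQ
  haveI : Surjective f := hs
  haveI : Flat f := hfl
  haveI : QuasiCompact f := hqcf
  have hfst' : Mor2.IsQuasiAffine fst := hfst
  haveI : QuasiCompact fst := hfst'.1
  have hqc : QuasiCompact g := by
    have := Groth.Agent.H1.descendsAlong_quasiCompact.{u}
    exact MorphismProperty.of_isPullback_of_descendsAlong (P := @QuasiCompact)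
      (Q := @Surjective ⊓ @Flat ⊓ @QuasiCompact) h ⟨⟨hs, hfl⟩, hqcf⟩ inferInstance
  show Mor2.IsQuasiAffine g
  apply Groth.Agent.H5.QA.isQuasiAffine_of_cover g
  intro z
  obtain ⟨_, ⟨V, hV, rfl⟩, hzV, -⟩ := Z.isBasis_affineOpens.exists_subset_of_mem_open
    (Set.mem_univ z) isOpen_univ
  refine ⟨V, hV, hzV, ?_⟩
  haveI : IsAffine (V : Scheme.{u}) := hV
  -- an affine cover of f⁻¹V
  haveI : CompactSpace (f ⁻¹ᵁ V : Scheme.{u}) :=
    isCompact_iff_compactSpace.mp (QuasiCompact.isCompact_preimage (f := f) _ V.2 hV.isCompact)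
  obtain ⟨T, p, hsurj, hloc, hTaff⟩ :=
    (f ⁻¹ᵁ V : Scheme.{u}).exists_hom_isAffine_of_isZariskiLocalAtSource @IsLocalIso
  haveI : IsLocalIso p := hloc
  haveI : Flat p := IsLocalIso.le_of_isZariskiLocalAtSource @Flat _ _ _ hloc
  haveI : Surjective (f ∣_ V) :=
    MorphismProperty.of_isPullback (P := @Surjective) (isPullback_morphismRestrict f V).flip hs
  let q : T ⟶ (V : Scheme.{u}) := p ≫ (f ∣_ V)
  haveI : Surjective q := inferInstanceAs (Surjective (p ≫ (f ∣_ V)))
  haveI : Flat q := inferInstanceAs (Flat (p ≫ (f ∣_ V)))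
  let t : T ⟶ X := p ≫ (f ⁻¹ᵁ V).ι
  have htq : t ≫ f = q ≫ Scheme.Opens.ι V := by
    simp only [t, q, Category.assoc, morphismRestrict_ι]
  -- the base change of `fst` to `T`
  have hind : MoreMor.IsIndQuasiAffineHom (pullback.fst t fst) :=
    Groth.Agent.H1.isIndQuasiAffineHom_of_isPullback fst
      (pullback.fst t fst) (pullback.snd t fst) t
      (IsPullback.of_hasPullback t fst).flip
      (Groth.Agent.H1.isIndQuasiAffineHom_of_isQuasiAffineHom _ hfst')
  haveI : CompactSpace ↥(pullback t fst) :=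
    QuasiCompact.compactSpace_of_compactSpace (pullback.fst t fst)
  haveI hPq : (pullback t fst).IsQuasiAffine := by
    rw [Groth.Agent.H1.isIndQuasiAffineHom_iff] at hind
    exact hind _ (𝟙 _) ⊤ (isAffineOpen_top T) (fun _ _ => trivial)
  -- the pullback square over `V`
  have houter : IsPullback (pullback.snd t fst ≫ snd)
      (pullback.fst t fst) g (t ≫ f) :=
    ((IsPullback.of_hasPullback t fst).flip.paste_horiz
      h.flip)
  rw [htq] at houter
  have hcomm : (pullback.snd t fst ≫ snd) ≫ g =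
      (pullback.fst t fst ≫ q) ≫ Scheme.Opens.ι V := by
    exact houter.w.trans (Category.assoc _ _ _).symm
  let p₂ : pullback t fst ⟶ (g ⁻¹ᵁ V : Scheme.{u}) :=
    (isPullback_morphismRestrict g V).flip.lift
      (pullback.snd t fst ≫ snd)
      (pullback.fst t fst ≫ q) hcomm
  have hp₂ι : p₂ ≫ (g ⁻¹ᵁ V).ι = pullback.snd t fst ≫ snd :=
    (isPullback_morphismRestrict g V).flip.lift_fst _ _ _
  have hp₂q : p₂ ≫ (g ∣_ V) = pullback.fst t fst ≫ q :=
    (isPullback_morphismRestrict g V).flip.lift_snd _ _ _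
  have hsq : IsPullback p₂ (pullback.fst t fst) (g ∣_ V) q :=
    IsPullback.of_right (hp₂ι ▸ houter) hp₂q (isPullback_morphismRestrict g V).flip
  exact isQuasiAffine_of_isPullback q (g ∣_ V) _ p₂ hsq

end Groth.Agent.H1.FpqcQAffine
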