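import Mathlib
import Groth.Agent.Lib.Helper1.FpqcQAffine

set_option autoImplicit false
set_option linter.style.haveILetI false
universe u
open CategoryTheory CategoryTheory.Limits AlgebraicGeometry MorphismProperty

namespace Groth.Agent.H1.FpqcQAffine

set_option backward.isDefEq.respectTransparency.types false in
/-- ind-quasi-affineness descends along fpqc morphisms. -/
theorem s1401 {X S X' S' : Scheme.{u}} (f : X ⟶ S) (f' : X' ⟶ S') (g' : X' ⟶ X) (g : S' ⟶ S)
    [Flat g] [Surjective g] [QuasiCompact g] (hc : IsPullback g' f' f g)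
    (hf' : MoreMor.IsIndQuasiAffineHom f') : MoreMor.IsIndQuasiAffineHom f := by
  rw [Groth.Agent.H1.isIndQuasiAffineHom_iff]
  intro W j _ _ V hV hr
  haveI : IsAffine (V : Scheme.{u}) := hV
  have hr' : Set.range (j ≫ f) ⊆ Set.range (Scheme.Opens.ι V) := by
    rw [Scheme.Opens.range_ι]; exact hr
  let a : W ⟶ (V : Scheme.{u}) := IsOpenImmersion.lift (Scheme.Opens.ι V) (j ≫ f) hr'
  have ha : a ≫ Scheme.Opens.ι V = j ≫ f := IsOpenImmersion.lift_fac _ _ _
  -- an affine cover of g⁻¹V
  haveI : CompactSpace (g ⁻¹ᵁ V : Scheme.{u}) :=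
    isCompact_iff_compactSpace.mp (QuasiCompact.isCompact_preimage (f := g) _ V.2 hV.isCompact)
  obtain ⟨T, p, hsurj, hloc, hTaff⟩ :=
    (g ⁻¹ᵁ V : Scheme.{u}).exists_hom_isAffine_of_isZariskiLocalAtSource @IsLocalIso
  haveI : IsLocalIso p := hloc
  haveI : Flat p := IsLocalIso.le_of_isZariskiLocalAtSource @Flat _ _ _ hloc
  haveI : Surjective (g ∣_ V) :=
    MorphismProperty.of_isPullback (P := @Surjective) (isPullback_morphismRestrict g V).flip
      inferInstance
  let q : T ⟶ (V : Scheme.{u}) := p ≫ (g ∣_ V)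
  haveI : Surjective q := inferInstanceAs (Surjective (p ≫ (g ∣_ V)))
  haveI : Flat q := inferInstanceAs (Flat (p ≫ (g ∣_ V)))
  let t : T ⟶ S' := p ≫ (g ⁻¹ᵁ V).ι
  have htq : t ≫ g = q ≫ Scheme.Opens.ι V := by
    simp only [t, q, Category.assoc, morphismRestrict_ι]
  -- base change of `f'` to `T`
  have hind : MoreMor.IsIndQuasiAffineHom (pullback.snd f' t) :=
    Groth.Agent.H1.isIndQuasiAffineHom_of_isPullback f' (pullback.snd f' t) (pullback.fst f' t) t
      (IsPullback.of_hasPullback f' t) hf'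
  -- `X'_T → X` and `T → S`
  have hbig : IsPullback (pullback.fst f' t ≫ g') (pullback.snd f' t) f (t ≫ g) :=
    (IsPullback.of_hasPullback f' t).paste_horiz hc
  -- `P = W ×_X X'_T`
  have hP : IsPullback (pullback.snd j (pullback.fst f' t ≫ g') ≫ pullback.snd f' t)
      (pullback.fst j (pullback.fst f' t ≫ g')) (t ≫ g) (j ≫ f) :=
    (IsPullback.of_hasPullback j (pullback.fst f' t ≫ g')).flip.paste_horiz hbig.flip
  rw [htq, ← ha] at hP
  have hbot : IsPullback a (𝟙 W) (Scheme.Opens.ι V) (a ≫ Scheme.Opens.ι V) :=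
    IsPullback.of_vert_isIso_mono ⟨by simp⟩
  have hP' : IsPullback (pullback.snd j (pullback.fst f' t ≫ g') ≫ pullback.snd f' t)
      (pullback.fst j (pullback.fst f' t ≫ g')) q a := by
    refine IsPullback.of_bot (v₂₁ := 𝟙 W) (by rw [Category.comp_id]; exact hP) ?_ hbot
    rw [← cancel_mono (Scheme.Opens.ι V), Category.assoc, Category.assoc]
    exact hP.w
  -- `P` is quasi-affine
  haveI : IsAffineHom q := inferInstance
  haveI : IsAffineHom (pullback.fst j (pullback.fst f' t ≫ g')) :=
    MorphismProperty.of_isPullback (P := @IsAffineHom) hP' (inferInstance : IsAffineHom q)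
  haveI : CompactSpace ↥(pullback j (pullback.fst f' t ≫ g')) :=
    QuasiCompact.compactSpace_of_compactSpace (pullback.fst j (pullback.fst f' t ≫ g'))
  haveI : (pullback j (pullback.fst f' t ≫ g')).IsQuasiAffine := by
    rw [Groth.Agent.H1.isIndQuasiAffineHom_iff] at hind
    exact hind _ (pullback.snd j (pullback.fst f' t ≫ g')) ⊤ (isAffineOpen_top T)
      (fun _ _ => trivial)
  exact isQuasiAffine_of_isPullback q a _ _ hP'.flip

end Groth.Agent.H1.FpqcQAffine
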