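import Mathlib
import Groth.Prelude.Def_CurvBase
import Groth.Agent.Lib.Helper8.LocalIso
import Groth.Agent.Lib.Helper1.BCStalk

/-! helper1: varieties with isomorphic function fields have isomorphic nonempty opens (S7629). -/

set_option linter.style.haveILetI false
set_option linter.unusedSectionVars false
set_option linter.unusedVariables false

universe u
open AlgebraicGeometry CategoryTheory IsLocalRing

namespace Groth.Agent.H1.FunFieldIso

/-- the ring map at the closed point attached to `Spec φ ≫ fromSpecStalk x` is an iso if `φ` is. -/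
theorem isIso_stalkClosedPointTo {X : Scheme.{u}} {R : CommRingCat.{u}} [IsLocalRing R] (x : X)
    (φ : X.presheaf.stalk x ⟶ R) [IsIso φ] :
    IsIso (Scheme.stalkClosedPointTo (Spec.map φ ≫ X.fromSpecStalk x)) := by
  haveI : IsLocalHom φ.hom := isLocalHom_of_isIso φ
  have h := (SpecToEquivOfLocalRing X R).right_inv ⟨x, φ, inferInstance⟩
  obtain ⟨h₁, h₂⟩ := SpecToEquivOfLocalRing_eq_iff.mp h
  have h₂' : Scheme.stalkClosedPointTo (Spec.map φ ≫ X.fromSpecStalk x) = _ := h₂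
  rw [h₂']
  show IsIso ((X.presheaf.stalkCongr _).hom ≫ φ)
  infer_instance

/-- if `Spec φ ≫ fromSpecStalk x = fromSpecStalkOfMem ≫ g` with `φ` an iso, then the stalk map of
`g` at the point is an iso. -/
theorem isIso_stalkMap_of_eq {X Y : Scheme.{u}} (V : Y.Opens) (y : Y) (hy : y ∈ V)
    (g : V.toScheme ⟶ X) (x : X) (φ : X.presheaf.stalk x ⟶ Y.presheaf.stalk y) [IsIso φ]
    (E : Spec.map φ ≫ X.fromSpecStalk x = V.fromSpecStalkOfMem y hy ≫ g) :
    IsIso (g.stalkMap ⟨y, hy⟩) := by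
  have h1 : IsIso (Scheme.stalkClosedPointTo (Spec.map φ ≫ X.fromSpecStalk x)) :=
    isIso_stalkClosedPointTo x φ
  have h2 : IsIso (Scheme.stalkClosedPointTo (V.fromSpecStalkOfMem y hy ≫ g)) := E ▸ h1
  rw [Scheme.stalkClosedPointTo_comp] at h2
  have h3 : IsIso (Scheme.stalkClosedPointTo (V.fromSpecStalkOfMem y hy)) := by
    unfold Scheme.Opens.fromSpecStalkOfMem
    exact isIso_stalkClosedPointTo (X := V.toScheme) ⟨y, hy⟩ (inv (V.ι.stalkMap ⟨y, hy⟩))
  have h4 : IsIso (g.stalkMap ((V.fromSpecStalkOfMem y hy).base (closedPoint _))) :=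
    @IsIso.of_isIso_comp_right _ _ _ _ _ _ _ h3 h2
  have hjc : (V.fromSpecStalkOfMem y hy).base (closedPoint _) = ⟨y, hy⟩ := by
    apply Subtype.ext
    have := congrArg (fun ψ => ψ.base (closedPoint (Y.presheaf.stalk y)))
      (Scheme.Opens.fromSpecStalkOfMem_ι V y hy)
    simp only [Scheme.Hom.comp_base, TopCat.comp_app] at this
    rw [Scheme.fromSpecStalk_closedPoint] at this
    exact this
  exact hjc ▸ h4

theorem main (k : Type u) [Field k] (X : Scheme.{u}) [X.Over (Spec (CommRingCat.of k))]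
    [IsIntegral X] [LocallyOfFiniteType (X ↘ (Spec (CommRingCat.of k)))]
    (Y : Scheme.{u}) [Y.Over (Spec (CommRingCat.of k))] [IsIntegral Y]
    [LocallyOfFiniteType (Y ↘ (Spec (CommRingCat.of k)))]
    (e : X.functionField ≅ Y.functionField)
    (he : e.hom.hom.comp (Curv2.stalkMap k X (genericPoint X)) =
      Curv2.stalkMap k Y (genericPoint Y)) :
    ∃ (U : X.Opens) (V : Y.Opens), (U : Set ↥X).Nonempty ∧
      ∃ φ : (U : Scheme.{u}) ≅ (V : Scheme.{u}),
        φ.hom ≫ V.ι ≫ (Y ↘ (Spec (CommRingCat.of k))) =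
          U.ι ≫ (X ↘ (Spec (CommRingCat.of k))) := by
  have hcomp : (Spec.map e.hom ≫ X.fromSpecStalk (genericPoint X)) ≫
      (X ↘ (Spec (CommRingCat.of k))) =
      Y.fromSpecStalk (genericPoint Y) ≫ (Y ↘ (Spec (CommRingCat.of k))) := by
    rw [Category.assoc, Groth.Agent.H1.BCStalk.fromSpecStalk_comp,
      Groth.Agent.H1.BCStalk.fromSpecStalk_comp, ← Spec.map_comp, ← he]
    rfl
  obtain ⟨V₁, hηV, g, hg1, hg2⟩ := spread_out_of_isGermInjective'
    (Y ↘ (Spec (CommRingCat.of k))) (X ↘ (Spec (CommRingCat.of k)))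
    (Spec.map e.hom ≫ X.fromSpecStalk (genericPoint X)) hcomp
  haveI : IsIso e.hom := inferInstance
  haveI : IsIso (g.stalkMap ⟨genericPoint Y, hηV⟩) :=
    isIso_stalkMap_of_eq V₁ (genericPoint Y) hηV g (genericPoint X) e.hom hg1
  haveI : LocallyOfFiniteType (g ≫ (X ↘ (Spec (CommRingCat.of k)))) := by
    rw [hg2]; infer_instance
  haveI : LocallyOfFiniteType g :=
    locallyOfFiniteType_of_comp g (X ↘ (Spec (CommRingCat.of k)))
  haveI : Nonempty V₁.toScheme := ⟨⟨genericPoint Y, hηV⟩⟩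
  obtain ⟨W, hyW, hW⟩ :=
    Groth.Agent.H8.LocalIso.exists_isOpenImmersion_of_isIso_stalkMap g ⟨genericPoint Y, hηV⟩
  haveI := hW
  refine ⟨(W.ι ≫ g).opensRange, V₁.ι ''ᵁ W, ⟨_, ⟨⟨_, hyW⟩, rfl⟩⟩, ?_⟩
  refine ⟨(W.ι ≫ g).isoOpensRange.symm ≪≫ V₁.ι.isoImage W, ?_⟩
  simp only [Iso.trans_hom, Iso.symm_hom, Category.assoc]
  rw [Scheme.Hom.isoImage_hom_ι_assoc, ← hg2, Iso.inv_comp_eq]
  rw [← Category.assoc (W.ι ≫ g).isoOpensRange.hom, Scheme.Hom.isoOpensRange_hom_ι]
  simp only [Category.assoc]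

end Groth.Agent.H1.FunFieldIso
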