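import Mathlib

/-! Helper1: functorial injective embeddings in Grothendieck abelian categories;
presheaf categories (of abelian groups / of modules) are Grothendieck abelian. -/
open CategoryTheory Limits MorphismProperty ZeroObject
universe u

namespace Groth.Agent.H1

theorem presheafAb_isGrothendieckAbelian {C : Type u} [SmallCategory C] :
    IsGrothendieckAbelian.{u} (Cᵒᵖ ⥤ AddCommGrpCat.{u}) where
  ab5OfSize := ⟨fun K _ _ => inferInstance⟩

lemma presheafOfModules_hasExactColimitsOfShape' {C : Type u} [SmallCategory C]
    (R₀ : Cᵒᵖ ⥤ RingCat.{u}) (K : Type u) [SmallCategory K] [IsFiltered K] :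
    HasExactColimitsOfShape K (PresheafOfModules.{u} R₀) :=
  HasExactColimitsOfShape.domain_of_functor K (PresheafOfModules.toPresheaf.{u} R₀)

theorem presheafOfModules_isGrothendieckAbelian {C : Type u} [SmallCategory C]
    (O : Cᵒᵖ ⥤ RingCat.{u}) : IsGrothendieckAbelian.{u} (PresheafOfModules.{u} O) where
  ab5OfSize := ⟨fun K _ _ => presheafOfModules_hasExactColimitsOfShape' O K⟩
  hasSeparator := ⟨_, (PresheafOfModules.freeYoneda.isSeparating O).isSeparator_coproduct⟩

/-- functorial injective embedding in a Grothendieck abelian category -/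
theorem exists_functorial_injective_embedding {A : Type*} [Category A] [Abelian A]
    [IsGrothendieckAbelian.{u} A] :
    ∃ (J : A ⥤ A) (j : 𝟭 _ ⟶ J), ∀ F : A, Injective (J.obj F) ∧ Mono (j.app F) := by
  let data := functorialFactorizationData (monomorphisms A) (monomorphisms A).rlp
  let G : A ⥤ Arrow A :=
    { obj := fun X => Arrow.mk (0 : X ⟶ (0 : A))
      map := fun {X Y} f => Arrow.homMk f (𝟙 (0 : A)) (by simp)
      map_id := fun X => by ext <;> simp
      map_comp := fun f g => by ext <;> simp }
  refine ⟨G ⋙ data.Z, { app := fun X => data.i.app (G.obj X), naturality := ?_ }, ?_⟩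
  · intro X Y f
    exact data.i.naturality (G.map f)
  · intro F
    constructor
    · have hp := data.hp (G.obj F)
      have : data.p.app (G.obj F) = 0 := (isZero_zero A).eq_of_tgt _ _
      rw [this] at hp
      change Injective (data.Z.obj (G.obj F))
      rw [injective_iff_rlp_monomorphisms_zero]
      exact hp
    · exact data.hi (G.obj F)

end Groth.Agent.H1
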