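import Mathlib
import Groth.Agent.Lib.Helper1.GIrrE

/-!
# Geometric irreducibility of fibres spreads out from the generic point (helper1)

`main0419`: for a morphism of finite type to an irreducible scheme whose generic fibre is
geometrically irreducible, the fibres over a nonempty open are geometrically irreducible.
-/

set_option autoImplicit false
set_option linter.style.haveILetI false
universe u

open TensorProduct AlgebraicGeometry CategoryTheory CategoryTheory.Limits Topology

namespace Groth.Agent.H1.GIrr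

set_option maxHeartbeats 1000000 in
/-- over the spectrum of an arbitrary domain (pass to the integral closure in an algebraic closure of
the fraction field). -/
theorem exists_basicOpen_of_Spec' (A : Type u) [CommRing A] [IsDomain A] {X : Scheme.{u}}
    (f : X ⟶ Spec (CommRingCat.of A)) [LocallyOfFiniteType f] [QuasiCompact f]
    (h : (⟨⊥, Ideal.isPrime_bot⟩ : PrimeSpectrum A) ∈ giLocus f) :
    ∃ a : A, a ≠ 0 ∧ ∀ p : PrimeSpectrum A, a ∉ p.asIdeal → p ∈ giLocus f := by
  haveI : Algebra.IsAlgebraic A (AlgebraicClosure (FractionRing A)) :=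
    IsFractionRing.comap_isAlgebraic_iff.mpr
      (inferInstance : Algebra.IsAlgebraic (FractionRing A) (AlgebraicClosure (FractionRing A)))
  have hinjL : Function.Injective (algebraMap A (AlgebraicClosure (FractionRing A))) := by
    rw [IsScalarTower.algebraMap_eq A (FractionRing A) (AlgebraicClosure (FractionRing A))]
    exact (algebraMap (FractionRing A) (AlgebraicClosure (FractionRing A))).injective.comp
      (IsFractionRing.injective A _)
  haveI : IsFractionRing (integralClosure A (AlgebraicClosure (FractionRing A)))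
      (AlgebraicClosure (FractionRing A)) :=
    integralClosure.isFractionRing_of_algebraic (A := A) (fun x hx => hinjL (by rw [hx, map_zero]))
  have hinjAbar : Function.Injective
      (algebraMap A (integralClosure A (AlgebraicClosure (FractionRing A)))) := by
    intro x y hxy
    apply hinjL
    have := congrArg (algebraMap (integralClosure A (AlgebraicClosure (FractionRing A)))
      (AlgebraicClosure (FractionRing A))) hxy
    rwa [← IsScalarTower.algebraMap_apply, ← IsScalarTower.algebraMap_apply] at this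
  obtain ⟨g, hg⟩ : ∃ g : Spec (CommRingCat.of (integralClosure A
      (AlgebraicClosure (FractionRing A)))) ⟶ Spec (CommRingCat.of A),
      g = Spec.map (CommRingCat.ofHom (algebraMap A
        (integralClosure A (AlgebraicClosure (FractionRing A))))) := ⟨_, rfl⟩
  have hgpt : ∀ q : PrimeSpectrum (integralClosure A (AlgebraicClosure (FractionRing A))),
      (g q : PrimeSpectrum A).asIdeal = Ideal.comap (algebraMap A
        (integralClosure A (AlgebraicClosure (FractionRing A)))) q.asIdeal := by
    intro q; rw [hg]; rfl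
  have hBC := giLocus_of_isPullback f (pullback.snd f g) (pullback.fst f g) g
    (IsPullback.of_hasPullback f g)
  have hη : (⟨⊥, Ideal.isPrime_bot⟩ : PrimeSpectrum (integralClosure A
      (AlgebraicClosure (FractionRing A)))) ∈ giLocus (pullback.snd f g) := by
    rw [hBC]
    change g _ ∈ giLocus f
    have : g (⟨⊥, Ideal.isPrime_bot⟩ : PrimeSpectrum (integralClosure A
        (AlgebraicClosure (FractionRing A)))) = (⟨⊥, Ideal.isPrime_bot⟩ : PrimeSpectrum A) := by
      apply PrimeSpectrum.ext
      rw [hgpt]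
      change Ideal.comap _ ⊥ = ⊥
      rw [← RingHom.ker_eq_comap_bot]
      exact (RingHom.injective_iff_ker_eq_bot _).mp hinjAbar
    rw [this]
    exact h
  obtain ⟨abar, habar, hD⟩ := exists_basicOpen_of_Spec
    (integralClosure A (AlgebraicClosure (FractionRing A))) (AlgebraicClosure (FractionRing A))
    (pullback.snd f g) hη
  have halg : IsAlgebraic A abar := (Algebra.IsIntegral.isIntegral abar).isAlgebraic
  obtain ⟨a, ha, hdvd⟩ := halg.exists_nonzero_dvd (mem_nonZeroDivisors_of_ne_zero habar)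
  refine ⟨a, ha, fun p hp => ?_⟩
  obtain ⟨Q, -, hQ, hQp⟩ := Ideal.exists_ideal_over_prime_of_isIntegral p.asIdeal
    (⊥ : Ideal (integralClosure A (AlgebraicClosure (FractionRing A)))) (by
      rw [← RingHom.ker_eq_comap_bot, (RingHom.injective_iff_ker_eq_bot _).mp hinjAbar]
      exact bot_le)
  have hq : abar ∉ Q := by
    intro hmem
    apply hp
    rw [← hQp, Ideal.mem_comap]
    obtain ⟨c, hc⟩ := hdvd
    rw [hc]
    exact Q.mul_mem_right _ hmem
  have h3 := hD ⟨Q, hQ⟩ hq
  rw [hBC] at h3
  have hgQ : g (⟨Q, hQ⟩ : PrimeSpectrum (integralClosure A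
      (AlgebraicClosure (FractionRing A)))) = p := by
    apply PrimeSpectrum.ext
    rw [hgpt]
    exact hQp
  rw [← hgQ]
  exact h3

set_option backward.isDefEq.respectTransparency.types false in
/-- over an integral scheme. -/
theorem exists_open_of_isIntegral {X Z : Scheme.{u}} (f : X ⟶ Z) [IsIntegral Z]
    [LocallyOfFiniteType f] [QuasiCompact f] (h : genericPoint Z ∈ giLocus f) :
    ∃ V : Z.Opens, (V : Set Z).Nonempty ∧ (V : Set Z) ⊆ giLocus f := by
  obtain ⟨W, hW, hηW, -⟩ := exists_isAffineOpen_mem_and_subset (x := genericPoint Z)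
    (U := ⊤) trivial
  haveI : IsDomain Γ(Z, W) := @IsIntegral.component_integral Z _ W ⟨⟨_, hηW⟩⟩
  have hBC := giLocus_of_isPullback f (pullback.snd f hW.fromSpec) (pullback.fst f hW.fromSpec)
    hW.fromSpec (IsPullback.of_hasPullback f hW.fromSpec)
  have hj : hW.fromSpec (⟨⊥, Ideal.isPrime_bot⟩ : PrimeSpectrum Γ(Z, W)) = genericPoint Z := by
    have hr : genericPoint Z ∈ Set.range hW.fromSpec := by rw [hW.range_fromSpec]; exact hηW
    obtain ⟨p₀, hp₀⟩ := hr
    have h0 : (⟨⊥, Ideal.isPrime_bot⟩ : PrimeSpectrum Γ(Z, W)) ⤳ p₀ :=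
      (PrimeSpectrum.le_iff_specializes _ _).mp (show (⊥ : Ideal Γ(Z, W)) ≤ p₀.asIdeal from bot_le)
    have h1 : hW.fromSpec (⟨⊥, Ideal.isPrime_bot⟩ : PrimeSpectrum Γ(Z, W)) ⤳ genericPoint Z := by
      rw [← hp₀]
      exact h0.map hW.fromSpec.continuous
    have h2 : genericPoint Z ⤳ hW.fromSpec (⟨⊥, Ideal.isPrime_bot⟩ : PrimeSpectrum Γ(Z, W)) :=
      (genericPoint_spec Z).specializes (Set.mem_univ _)
    exact (h1.antisymm h2).eq
  have hη' : (⟨⊥, Ideal.isPrime_bot⟩ : PrimeSpectrum Γ(Z, W)) ∈
      giLocus (pullback.snd f hW.fromSpec) := by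
    rw [hBC]
    show hW.fromSpec _ ∈ giLocus f
    rw [hj]
    exact h
  obtain ⟨a, ha, hD⟩ := exists_basicOpen_of_Spec' Γ(Z, W) (pullback.snd f hW.fromSpec) hη'
  have hmem : ∀ p : PrimeSpectrum Γ(Z, W), hW.fromSpec p ∈ Z.basicOpen a ↔ a ∉ p.asIdeal := by
    intro p
    have h1 : hW.fromSpec p ∈ Z.basicOpen a ↔ p ∈ hW.fromSpec ⁻¹ᵁ Z.basicOpen a := Iff.rfl
    rw [h1, hW.fromSpec_preimage_basicOpen]
    rfl
  refine ⟨Z.basicOpen a, ⟨hW.fromSpec ⟨⊥, Ideal.isPrime_bot⟩, ?_⟩, ?_⟩
  · exact (hmem _).mpr (fun h0 => ha (by simpa using h0))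
  · intro z hz
    have hzW : z ∈ W := Z.basicOpen_le a hz
    have hr : z ∈ Set.range hW.fromSpec := by rw [hW.range_fromSpec]; exact hzW
    obtain ⟨p, rfl⟩ := hr
    have h3 := hD p ((hmem p).mp hz)
    rw [hBC] at h3
    exact h3

/-- over an irreducible scheme. -/
theorem exists_open_of_irreducible {X Y : Scheme.{u}} (f : X ⟶ Y) [IrreducibleSpace Y]
    [LocallyOfFiniteType f] [QuasiCompact f] (h : genericPoint Y ∈ giLocus f) :
    ∃ V : Y.Opens, (V : Set Y).Nonempty ∧ (V : Set Y) ⊆ giLocus f := by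
  obtain ⟨Z, i, hi, hr, hZ⟩ := Groth.Agent.H1.ConsFib.exists_integral_closedImmersion Y Set.univ
    isClosed_univ (IrreducibleSpace.isIrreducible_univ Y)
  have hsurj : Function.Surjective i := Set.range_eq_univ.mp hr
  have hBC := giLocus_of_isPullback f (pullback.snd f i) (pullback.fst f i) i
    (IsPullback.of_hasPullback f i)
  have hiη : i (genericPoint Z) = genericPoint Y := by
    have h1 : genericPoint Y ⤳ i (genericPoint Z) :=
      (genericPoint_spec Y).specializes (Set.mem_univ _)
    obtain ⟨z₀, hz₀⟩ := hsurj (genericPoint Y)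
    have h2 : i (genericPoint Z) ⤳ genericPoint Y := by
      rw [← hz₀]
      exact ((genericPoint_spec Z).specializes (Set.mem_univ z₀)).map i.continuous
    exact (h2.antisymm h1).eq
  have hηZ : genericPoint Z ∈ giLocus (pullback.snd f i) := by
    rw [hBC]
    show i _ ∈ giLocus f
    rw [hiη]
    exact h
  obtain ⟨V, hVne, hV⟩ := exists_open_of_isIntegral (pullback.snd f i) hηZ
  let e := i.isEmbedding.toHomeomorphOfSurjective hsurj
  refine ⟨⟨i '' (V : Set Z), e.isOpenMap _ V.isOpen⟩, hVne.image _, ?_⟩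
  rintro _ ⟨z, hz, rfl⟩
  have h3 := hV hz
  rw [hBC] at h3
  exact h3

/-- **S0419**. -/
theorem main0419 {X Y : Scheme.{u}} (f : X ⟶ Y) [IrreducibleSpace Y] [LocallyOfFiniteType f]
    [QuasiCompact f] (h : GeometricallyIrreducible (f.fiberToSpecResidueField (genericPoint Y))) :
    ∃ V : Y.Opens, (V : Set Y).Nonempty ∧ GeometricallyIrreducible (f ∣_ V) := by
  obtain ⟨V, hVne, hV⟩ := exists_open_of_irreducible f h
  refine ⟨V, hVne, ?_⟩
  rw [GeometricallyIrreducible.iff_geometricallyIrreducible_fiber]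
  intro v
  have hBC : giLocus (f ∣_ V) = V.ι ⁻¹' giLocus f :=
    giLocus_of_isPullback f (f ∣_ V) (f ⁻¹ᵁ V).ι V.ι (isPullback_morphismRestrict f V).flip
  have h1 : v ∈ giLocus (f ∣_ V) := by rw [hBC]; exact hV v.2
  exact h1

end Groth.Agent.H1.GIrr
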