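import Mathlib
import Groth.Agent.Lib.Helper1.ValDimB

set_option autoImplicit false
set_option linter.style.haveILetI false

universe u

namespace Groth.Agent.H1.ValRingDim

open AlgebraicGeometry CategoryTheory TensorProduct

section
variable {R S : Type u} [CommRing R] [CommRing S] [Algebra R S]

/-- The dimension of the fibre of `Spec S ⟶ Spec R` over `p` is the Krull dimension of
`κ(p) ⊗ S`. -/
theorem dim_fiber_Spec (p : PrimeSpectrum R) (p' : ↥(Spec (CommRingCat.of R))) (h : p' = p) :
    topologicalKrullDim ↥((Spec.map (CommRingCat.ofHom (algebraMap R S))).fiber p') =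
      ringKrullDim (p.asIdeal.Fiber S) := by
  rw [Groth.Agent.H1.ValDim.dim_fiber_eq_dim_preimage,
    ← PrimeSpectrum.topologicalKrullDim_eq_ringKrullDim]
  subst h
  exact IsHomeomorph.topologicalKrullDim_eq _
    (PrimeSpectrum.preimageHomeomorphFiber R S p').isHomeomorph

end

theorem s0444 {R S : Type u} [CommRing R] [IsDomain R] [ValuationRing R] [CommRing S] [IsDomain S]
    [Algebra R S] (hinj : Function.Injective (algebraMap R S)) [Algebra.FiniteType R S]
    [Nontrivial (IsLocalRing.ResidueField R ⊗[R] S)] :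
    ringKrullDim (IsLocalRing.ResidueField R ⊗[R] S) = ringKrullDim (FractionRing R ⊗[R] S) := by
  haveI hmax : (IsLocalRing.closedPoint R).asIdeal.IsMaximal := IsLocalRing.maximalIdeal.isMaximal R
  let e1 : IsLocalRing.ResidueField R ≃ₐ[R] (IsLocalRing.closedPoint R).asIdeal.ResidueField :=
    AlgEquiv.ofBijective (IsScalarTower.toAlgHom R (R ⧸ (IsLocalRing.closedPoint R).asIdeal)
      (IsLocalRing.closedPoint R).asIdeal.ResidueField)
      (IsLocalRing.closedPoint R).asIdeal.bijective_algebraMap_quotient_residueField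
  let e2 : FractionRing R ≃ₐ[R] (⊥ : PrimeSpectrum R).asIdeal.ResidueField :=
    FractionRing.algEquiv R (⊥ : Ideal R).ResidueField
  let E1 : IsLocalRing.ResidueField R ⊗[R] S ≃ₐ[R] (IsLocalRing.closedPoint R).asIdeal.Fiber S :=
    Algebra.TensorProduct.congr e1 AlgEquiv.refl
  let E2 : FractionRing R ⊗[R] S ≃ₐ[R] (⊥ : PrimeSpectrum R).asIdeal.Fiber S :=
    Algebra.TensorProduct.congr e2 AlgEquiv.refl
  haveI : IrreducibleSpace ↥(Spec (CommRingCat.of S)) :=
    (inferInstance : IrreducibleSpace (PrimeSpectrum S))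
  haveI : LocallyOfFiniteType (Spec.map (CommRingCat.ofHom (algebraMap R S))) := by
    rw [HasRingHomProperty.Spec_iff (P := @LocallyOfFiniteType)]
    exact RingHom.finiteType_algebraMap.mpr inferInstance
  haveI : IsDominant (Spec.map (CommRingCat.ofHom (algebraMap R S))) := ⟨by
    show DenseRange (PrimeSpectrum.comap (algebraMap R S))
    rw [PrimeSpectrum.denseRange_comap_iff_ker_le_nilRadical,
      (RingHom.injective_iff_ker_eq_bot _).mp hinj]
    exact bot_le⟩
  have h0 : Nonempty ↥((Spec.map (CommRingCat.ofHom (algebraMap R S))).fiber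
      (IsLocalRing.closedPoint R)) := by
    haveI : Nontrivial ((IsLocalRing.closedPoint R).asIdeal.Fiber S) := E1.injective.nontrivial
    obtain ⟨Q⟩ : Nonempty (PrimeSpectrum ((IsLocalRing.closedPoint R).asIdeal.Fiber S)) :=
      inferInstance
    let q := (PrimeSpectrum.preimageHomeomorphFiber R S (IsLocalRing.closedPoint R)).symm Q
    have hr := Scheme.Hom.range_fiberι (Spec.map (CommRingCat.ofHom (algebraMap R S)))
      (IsLocalRing.closedPoint R)
    obtain ⟨q', hq'⟩ : ∃ q' : ↥(Spec (CommRingCat.of S)), q' = q.1 := ⟨_, rfl⟩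
    have hq : q' ∈ Set.range
        ((Spec.map (CommRingCat.ofHom (algebraMap R S))).fiberι (IsLocalRing.closedPoint R)) := by
      rw [hr]
      have h2 := q.2
      rw [← hq'] at h2
      exact h2
    obtain ⟨p, _⟩ := hq
    exact ⟨p⟩
  have key := Groth.Agent.H1.ValDim.s4932 (Spec.map (CommRingCat.ofHom (algebraMap R S))) h0
  obtain ⟨b, hb⟩ : ∃ b : ↥(Spec (CommRingCat.of R)), b = (⊥ : PrimeSpectrum R) := ⟨_, rfl⟩
  have hgen : genericPoint ↥(Spec (CommRingCat.of R)) = b :=
    (genericPoint_eq_bot_of_affine (CommRingCat.of R)).trans hb.symm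
  rw [hgen, dim_fiber_Spec (S := S) (IsLocalRing.closedPoint R) _ rfl,
    dim_fiber_Spec (S := S) ⊥ b hb] at key
  calc ringKrullDim (IsLocalRing.ResidueField R ⊗[R] S)
      = ringKrullDim ((IsLocalRing.closedPoint R).asIdeal.Fiber S) :=
        ringKrullDim_eq_of_ringEquiv E1.toRingEquiv
    _ = ringKrullDim ((⊥ : PrimeSpectrum R).asIdeal.Fiber S) := key
    _ = ringKrullDim (FractionRing R ⊗[R] S) :=
        (ringKrullDim_eq_of_ringEquiv E2.toRingEquiv).symm

end Groth.Agent.H1.ValRingDim
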