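import Mathlib
import Groth.Agent.Lib.Helper5.Lim.RingModel
import Groth.Agent.Lib.Helper1.FibDimCons
import Groth.Agent.Lib.Helper1.FibDimBC
import Groth.Agent.Lib.Helper1.ValRingDim
import Groth.Agent.Lib.Helper3.FBaseDim

/-!
# Noetherian approximation of morphisms with a constructible fibre property — helper1

If `E f ⊆ S` is a base-change compatible invariant of morphisms `f : X ⟶ S` which is constructible
over Noetherian affine bases, and `f` is a finitely presented morphism of affine schemes with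
`E f = univ`, then `f` is the base change of a morphism of finite type `f₀` over a base of finite
type over `ℤ` with `E f₀ = univ`.
-/

set_option autoImplicit false
set_option linter.style.haveILetI false

universe u

namespace Groth.Agent.H1.NoethApprox

open AlgebraicGeometry CategoryTheory CategoryTheory.Limits Topology TensorProduct PrimeSpectrum

/-! ### the limit lemma -/

section Limit

variable {A : Type u} [CommRing A]

theorem exists_finset_basic (A₁ : Subalgebra ℤ A) (D : BasicConstructibleSetData A₁)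
    (h : ∀ P : PrimeSpectrum A, PrimeSpectrum.comap (algebraMap A₁ A) P ∉ D.toSet) :
    ∃ t : Finset A, ∀ (A₀ : Subalgebra ℤ A) (h₁ : A₁ ≤ A₀), (↑t ⊆ (A₀ : Set A)) →
      ∀ Q : PrimeSpectrum A₀,
        PrimeSpectrum.comap (Subalgebra.inclusion h₁).toRingHom Q ∉ D.toSet := by
  classical
  have hrad : ((D.f : A₁) : A) ∈
      (Ideal.span (Set.range (fun i => ((D.g i : A₁) : A)))).radical := by
    rw [Ideal.radical_eq_sInf, Ideal.mem_sInf]
    rintro J ⟨hIJ, hJ⟩
    by_contra hf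
    apply h ⟨J, hJ⟩
    rw [BasicConstructibleSetData.toSet, Set.mem_sdiff]
    refine ⟨?_, ?_⟩
    · rw [PrimeSpectrum.mem_zeroLocus]
      rintro _ ⟨i, rfl⟩
      show ((D.g i : A₁) : A) ∈ J
      exact hIJ (Ideal.subset_span ⟨i, rfl⟩)
    · intro hf'
      rw [PrimeSpectrum.mem_zeroLocus, Set.singleton_subset_iff] at hf'
      exact hf hf'
  obtain ⟨N, hN⟩ := hrad
  obtain ⟨c, hc⟩ := (Ideal.mem_span_range_iff_exists_fun).mp hN
  refine ⟨Finset.univ.image c, ?_⟩
  intro A₀ h₁ ht Q hQ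
  rw [BasicConstructibleSetData.toSet, Set.mem_sdiff] at hQ
  obtain ⟨hQ1, hQ2⟩ := hQ
  have hcm : ∀ i, c i ∈ A₀ := fun i =>
    ht (Finset.mem_coe.mpr (Finset.mem_image_of_mem c (Finset.mem_univ i)))
  have key : (Subalgebra.inclusion h₁ D.f) ^ N =
      ∑ i, (⟨c i, hcm i⟩ : A₀) * Subalgebra.inclusion h₁ (D.g i) := by
    apply Subtype.ext
    simp only [Subalgebra.coe_pow, Subalgebra.coe_inclusion, AddSubmonoidClass.coe_finsetSum,
      Subalgebra.coe_mul]
    exact hc.symm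
  apply hQ2
  rw [PrimeSpectrum.mem_zeroLocus, Set.singleton_subset_iff]
  show Subalgebra.inclusion h₁ D.f ∈ Q.asIdeal
  apply Q.2.mem_of_pow_mem N
  rw [key]
  apply Ideal.sum_mem
  intro i _
  apply Ideal.mul_mem_left
  exact (PrimeSpectrum.mem_zeroLocus _ _).mp hQ1 ⟨i, rfl⟩

theorem exists_finset_of_isConstructible (A₁ : Subalgebra ℤ A) (C : Set (PrimeSpectrum A₁))
    (hC : IsConstructible C)
    (h : ∀ P : PrimeSpectrum A, PrimeSpectrum.comap (algebraMap A₁ A) P ∉ C) :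
    ∃ t : Finset A, ∀ (A₀ : Subalgebra ℤ A) (h₁ : A₁ ≤ A₀), (↑t ⊆ (A₀ : Set A)) →
      ∀ Q : PrimeSpectrum A₀,
        PrimeSpectrum.comap (Subalgebra.inclusion h₁).toRingHom Q ∉ C := by
  classical
  obtain ⟨S, rfl⟩ := PrimeSpectrum.exists_constructibleSetData_iff.mpr hC
  have hD : ∀ D : BasicConstructibleSetData A₁, D ∈ S → ∃ t : Finset A,
      ∀ (A₀ : Subalgebra ℤ A) (h₁ : A₁ ≤ A₀), (↑t ⊆ (A₀ : Set A)) →
        ∀ Q : PrimeSpectrum A₀,
          PrimeSpectrum.comap (Subalgebra.inclusion h₁).toRingHom Q ∉ D.toSet := by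
    intro D hDS
    apply exists_finset_basic A₁ D
    intro P hP
    exact h P (Set.mem_iUnion₂.mpr ⟨D, hDS, hP⟩)
  choose! t ht using hD
  refine ⟨S.biUnion t, ?_⟩
  intro A₀ h₁ hsub Q hQ
  rw [ConstructibleSetData.toSet, Set.mem_iUnion₂] at hQ
  obtain ⟨D, hDS, hQD⟩ := hQ
  exact ht D hDS A₀ h₁
    (fun x hx => hsub (Finset.mem_coe.mpr (Finset.mem_biUnion.mpr ⟨D, hDS, hx⟩))) Q hQD

end Limit

/-! ### the approximation theorem -/

/-- a base-change compatible subset of the base, constructible over Noetherian affine bases. -/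
structure FibLocus (E : ∀ {X S : Scheme.{u}}, (X ⟶ S) → Set S) : Prop where
  of_isPullback : ∀ {X S X' S' : Scheme.{u}} (f : X ⟶ S) [LocallyOfFiniteType f]
    (f' : X' ⟶ S') (g' : X' ⟶ X) (g : S' ⟶ S), IsPullback g' f' f g → E f' = g ⁻¹' E f
  isConstructible : ∀ (A B : Type u) [CommRing A] [CommRing B] [Algebra A B]
    [IsNoetherianRing A] [Algebra.FiniteType A B],
    IsConstructible (E (Spec.map (CommRingCat.ofHom (algebraMap A B))))

variable {E : ∀ {X S : Scheme.{u}}, (X ⟶ S) → Set S}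

set_option backward.isDefEq.respectTransparency false in
theorem exists_ring_approx (hE : FibLocus @E) (A B : Type u) [CommRing A] [CommRing B]
    [Algebra A B] [Algebra.FinitePresentation A B]
    (h : E (Spec.map (CommRingCat.ofHom (algebraMap A B))) = Set.univ) :
    ∃ (A₀ B₀ : Type u) (_ : CommRing A₀) (_ : CommRing B₀) (φ₀ : A₀ →+* B₀)
      (g : Spec (CommRingCat.of A) ⟶ Spec (CommRingCat.of A₀))
      (g' : Spec (CommRingCat.of B) ⟶ Spec (CommRingCat.of B₀)),
      Algebra.FiniteType ℤ A₀ ∧ LocallyOfFiniteType (Spec.map (CommRingCat.ofHom φ₀)) ∧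
      IsPullback g' (Spec.map (CommRingCat.ofHom (algebraMap A B)))
        (Spec.map (CommRingCat.ofHom φ₀)) g ∧
      E (Spec.map (CommRingCat.ofHom φ₀)) = Set.univ := by
  classical
  obtain ⟨s, hs⟩ := Groth.Agent.H5.Lim.exists_model_of_finitePresentation A B
  let A₁ : Subalgebra ℤ A := Algebra.adjoin ℤ (s : Set A)
  obtain ⟨B₁, _, _, hfp, ⟨e⟩⟩ := hs A₁ (by
    intro x hx
    exact ⟨⟨x, Algebra.subset_adjoin hx⟩, rfl⟩)
  haveI : Algebra.FiniteType ℤ A₁ := .adjoin_of_finite s.finite_toSet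
  haveI : IsNoetherianRing A₁ := Algebra.FiniteType.isNoetherianRing ℤ A₁
  haveI : Algebra.FiniteType A₁ B₁ := inferInstance
  set f₁ := Spec.map (CommRingCat.ofHom (algebraMap A₁ B₁)) with hf₁
  haveI hlft₁ : LocallyOfFiniteType f₁ := by
    rw [hf₁, HasRingHomProperty.Spec_iff (P := @LocallyOfFiniteType),
      CommRingCat.hom_ofHom, RingHom.finiteType_algebraMap]
    infer_instance
  have sq := isPullback_SpecMap_of_isPushout _ _ _ _
    (CommRingCat.isPushout_tensorProduct A₁ A B₁)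
  set ψ := Spec.map (CommRingCat.ofHom (Algebra.TensorProduct.includeLeftRingHom :
    A →+* A ⊗[A₁] B₁)) with hψ
  set pr := Spec.map (CommRingCat.ofHom ((Algebra.TensorProduct.includeRight :
    B₁ →ₐ[A₁] A ⊗[A₁] B₁).toRingHom)) with hpr
  set ε := Spec.map (CommRingCat.ofHom e.toRingEquiv.toRingHom) with hε
  have hiso : IsIso ε := by
    rw [hε]
    have : IsIso (CommRingCat.ofHom e.toRingEquiv.toRingHom) :=
      (e.toRingEquiv.toCommRingCatIso).isIso_hom
    infer_instance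
  have hεψ : ε ≫ ψ = Spec.map (CommRingCat.ofHom (algebraMap A B)) := by
    rw [hε, hψ, ← Spec.map_comp]
    congr 1
    ext a
    change e (a ⊗ₜ[A₁] (1 : B₁)) = algebraMap A B a
    have h1 : a ⊗ₜ[A₁] (1 : B₁) = algebraMap A (A ⊗[A₁] B₁) a :=
      (Algebra.TensorProduct.algebraMap_apply a).symm
    rw [h1, e.commutes]
  set a₁ := Spec.map (CommRingCat.ofHom (algebraMap A₁ A)) with ha₁
  have P₁ : IsPullback (ε ≫ pr) (Spec.map (CommRingCat.ofHom (algebraMap A B))) f₁ a₁ := by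
    refine IsPullback.of_iso' sq.flip (asIso ε) (Iso.refl _) (Iso.refl _) (Iso.refl _) ?_ ?_ ?_ ?_
    · simp
    · simp [hεψ]
    · simp [hf₁]
    · simp
  have hEf : E (Spec.map (CommRingCat.ofHom (algebraMap A B))) = a₁ ⁻¹' E f₁ :=
    hE.of_isPullback f₁ _ (ε ≫ pr) a₁ P₁
  have hall : ∀ P : PrimeSpectrum A, PrimeSpectrum.comap (algebraMap A₁ A) P ∉ (E f₁)ᶜ := by
    intro P hP
    apply hP
    have h2 : P ∈ E (Spec.map (CommRingCat.ofHom (algebraMap A B))) := by rw [h]; trivial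
    rw [hEf] at h2
    exact h2
  have hcons : IsConstructible (E f₁)ᶜ := (hE.isConstructible A₁ B₁).compl
  obtain ⟨t, ht⟩ := exists_finset_of_isConstructible A₁ _ hcons hall
  let A₀ : Subalgebra ℤ A := Algebra.adjoin ℤ ((s : Set A) ∪ (t : Set A))
  have h₁ : A₁ ≤ A₀ := Algebra.adjoin_mono Set.subset_union_left
  have htA₀ : (↑t : Set A) ⊆ (A₀ : Set A) := fun x hx => Algebra.subset_adjoin (Or.inr hx)
  have hQ := ht A₀ h₁ htA₀
  letI algι : Algebra A₁ A₀ := (Subalgebra.inclusion h₁).toRingHom.toAlgebra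
  haveI : Algebra.FiniteType ℤ A₀ :=
    .adjoin_of_finite (s.finite_toSet.union t.finite_toSet)
  have sq₀ := isPullback_SpecMap_of_isPushout _ _ _ _
    (CommRingCat.isPushout_tensorProduct A₁ A₀ B₁)
  set φ₀ : A₀ →+* A₀ ⊗[A₁] B₁ := Algebra.TensorProduct.includeLeftRingHom with hφ₀
  set f₀ := Spec.map (CommRingCat.ofHom φ₀) with hf₀
  set pr₀ := Spec.map (CommRingCat.ofHom ((Algebra.TensorProduct.includeRight :
    B₁ →ₐ[A₁] A₀ ⊗[A₁] B₁).toRingHom)) with hpr₀
  set ι₀ := Spec.map (CommRingCat.ofHom (algebraMap A₁ A₀)) with hι₀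
  have P₀ : IsPullback pr₀ f₀ f₁ ι₀ := sq₀.flip
  haveI hlft₀ : LocallyOfFiniteType f₀ :=
    MorphismProperty.of_isPullback (P := @LocallyOfFiniteType) P₀ hlft₁
  have hE₀ : E f₀ = Set.univ := by
    rw [hE.of_isPullback f₁ f₀ pr₀ ι₀ P₀]
    ext Q
    simp only [Set.mem_preimage, Set.mem_univ, iff_true]
    by_contra hcon
    exact hQ Q hcon
  set a₀ := Spec.map (CommRingCat.ofHom (algebraMap A₀ A)) with ha₀
  have hcomp : a₀ ≫ ι₀ = a₁ := by
    rw [ha₀, hι₀, ha₁, ← Spec.map_comp]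
    rfl
  have P₁' : IsPullback (ε ≫ pr) (Spec.map (CommRingCat.ofHom (algebraMap A B))) f₁
      (a₀ ≫ ι₀) := by
    rw [hcomp]
    exact P₁
  exact ⟨A₀, A₀ ⊗[A₁] B₁, inferInstance, inferInstance, φ₀, a₀, _, inferInstance, hlft₀,
    IsPullback.of_right' P₁' P₀, hE₀⟩

theorem exists_approx (hE : FibLocus @E) {X S : Scheme.{u}} (f : X ⟶ S) [IsAffine X] [IsAffine S]
    [LocallyOfFinitePresentation f] (h : E f = Set.univ) :
    ∃ (X₀ S₀ : Scheme.{u}) (f₀ : X₀ ⟶ S₀) (g : S ⟶ S₀) (g' : X ⟶ X₀), IsAffine X₀ ∧ IsAffine S₀ ∧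
      IsPullback g' f f₀ g ∧ Algebra.FiniteType ℤ Γ(S₀, ⊤) ∧ LocallyOfFiniteType f₀ ∧
      E f₀ = Set.univ := by
  letI : Algebra Γ(S, ⊤) Γ(X, ⊤) := f.appTop.hom.toAlgebra
  haveI : Algebra.FinitePresentation Γ(S, ⊤) Γ(X, ⊤) :=
    (HasRingHomProperty.iff_of_isAffine (P := @LocallyOfFinitePresentation) (f := f)).mp
      inferInstance
  have hnat : X.isoSpec.hom ≫ Spec.map (CommRingCat.ofHom (algebraMap Γ(S, ⊤) Γ(X, ⊤))) =
      f ≫ S.isoSpec.hom := Scheme.isoSpec_hom_naturality f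
  have sqiso : IsPullback X.isoSpec.hom f
      (Spec.map (CommRingCat.ofHom (algebraMap Γ(S, ⊤) Γ(X, ⊤)))) S.isoSpec.hom :=
    IsPullback.of_horiz_isIso ⟨hnat⟩
  haveI : LocallyOfFiniteType
      (Spec.map (CommRingCat.ofHom (algebraMap Γ(S, ⊤) Γ(X, ⊤)))) := by
    rw [HasRingHomProperty.Spec_iff (P := @LocallyOfFiniteType), CommRingCat.hom_ofHom,
      RingHom.finiteType_algebraMap]
    infer_instance
  have hE' : E (Spec.map (CommRingCat.ofHom (algebraMap Γ(S, ⊤) Γ(X, ⊤)))) = Set.univ := by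
    have h1 := hE.of_isPullback _ f X.isoSpec.hom S.isoSpec.hom sqiso
    rw [h] at h1
    ext p
    simp only [Set.mem_univ, iff_true]
    obtain ⟨q, rfl⟩ := S.isoSpec.hom.homeomorph.surjective p
    have h2 : q ∈ (Set.univ : Set S) := trivial
    rw [h1] at h2
    exact h2
  obtain ⟨A₀, B₀, _, _, φ₀, g, g', hft, hlft, hpb, hE₀⟩ :=
    exists_ring_approx hE Γ(S, ⊤) Γ(X, ⊤) hE'
  refine ⟨Spec (CommRingCat.of B₀), Spec (CommRingCat.of A₀), Spec.map (CommRingCat.ofHom φ₀),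
    S.isoSpec.hom ≫ g, X.isoSpec.hom ≫ g', inferInstance, inferInstance,
    sqiso.paste_horiz hpb, ?_, hlft, hE₀⟩
  exact Algebra.FiniteType.equiv hft
    ((Scheme.ΓSpecIso (CommRingCat.of A₀)).symm.commRingCatIsoToRingEquiv.toIntAlgEquiv)

/-! ### application: fibre dimension -/

/-- the locus where the fibre has dimension `d`. -/
def dimLocus (d : WithBot ℕ∞) {X S : Scheme.{u}} (f : X ⟶ S) : Set S :=
  {s | topologicalKrullDim ↥(f.fiber s) = d}

set_option backward.isDefEq.respectTransparency false in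
theorem fibLocus_dimLocus (d : WithBot ℕ∞) : FibLocus (@dimLocus d) where
  of_isPullback := by
    intro X S X' S' f _ f' g' g hc
    ext y'
    show topologicalKrullDim ↥(f'.fiber y') = d ↔ topologicalKrullDim ↥(f.fiber (g y')) = d
    obtain ⟨r, hr, -⟩ := Groth.Agent.H1.FibDimBC.fiber_isPullback' f g f' g' hc y'
    haveI : LocallyOfFiniteType (f.fiberToSpecResidueField (g y')) := by
      show LocallyOfFiniteType (pullback.snd f (S.fromSpecResidueField (g y')))
      infer_instance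
    rw [@Groth.Agent.H3.FBaseDim.dim_of_isPullback_field (S.residueField (g y'))
      (S'.residueField y') _ _ (g.residueFieldMap y') _ _ (f.fiberToSpecResidueField (g y'))
      (f'.fiberToSpecResidueField y') r hr _]
  isConstructible := by
    intro A B _ _ _ _ _
    have h := (Groth.Agent.H1.FibDim.isConstructible_fibDim_of_isNoetherianRing A B).1 d
    have heq : dimLocus d (Spec.map (CommRingCat.ofHom (algebraMap A B))) =
        (Groth.Agent.H1.FibDim.fibDim A B ⁻¹' {d} : Set (PrimeSpectrum A)) := by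
      ext p
      show topologicalKrullDim _ = d ↔ Groth.Agent.H1.FibDim.fibDim A B p = d
      rw [Groth.Agent.H1.ValRingDim.dim_fiber_Spec p p rfl]
      rfl
    rw [heq]
    exact h

theorem main1464 {X S : Scheme.{u}} (f : X ⟶ S) [IsAffine X] [IsAffine S]
    [LocallyOfFinitePresentation f] (d : ℕ)
    (hd : ∀ s : S, topologicalKrullDim ↑(f.fiber s) = d) :
    ∃ (X₀ S₀ : Scheme.{u}) (f₀ : X₀ ⟶ S₀) (g : S ⟶ S₀) (g' : X ⟶ X₀), IsAffine X₀ ∧ IsAffine S₀ ∧
      IsPullback g' f f₀ g ∧ Algebra.FiniteType ℤ Γ(S₀, ⊤) ∧ LocallyOfFiniteType f₀ ∧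
      ∀ s₀ : S₀, topologicalKrullDim ↑(f₀.fiber s₀) = d := by
  obtain ⟨X₀, S₀, f₀, g, g', h1, h2, h3, h4, h5, h6⟩ :=
    exists_approx (fibLocus_dimLocus (d : WithBot ℕ∞)) f (by
      ext s
      simp only [Set.mem_univ, iff_true]
      exact hd s)
  refine ⟨X₀, S₀, f₀, g, g', h1, h2, h3, h4, h5, fun s₀ => ?_⟩
  have h7 : s₀ ∈ dimLocus (d : WithBot ℕ∞) f₀ := by rw [h6]; trivial
  exact h7

end Groth.Agent.H1.NoethApprox
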