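import Mathlib
import Groth.Agent.Lib.Helper1.GIrrJ
import Groth.Agent.Lib.Helper1.NoethApprox
import Groth.Agent.Lib.Helper5.Lim.FGSub2
import Groth.Agent.Lib.Helper5.Lim.Model11

/-!
# Constructibility of the level sets of the geometric component counts; approximation (helper1)
-/

set_option autoImplicit false
set_option linter.style.haveILetI false
universe u

open TensorProduct AlgebraicGeometry CategoryTheory CategoryTheory.Limits Topology

namespace Groth.Agent.H1.GIrr

/-! ### the Noetherian case -/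

theorem isConstructible_preimage_of_noetherian {X S : Scheme.{u}} [IsNoetherian S] (f : X ⟶ S)
    [LocallyOfFiniteType f] [QuasiCompact f] {T : Type*} (φ : ℕ∞ × ℕ∞ → T) (t : T) :
    IsConstructible ((fun y : S => φ (cnt f y)) ⁻¹' {t}) := by
  have key : (∀ t, IsConstructible ((fun y : S => φ (cnt f y)) ⁻¹' {t})) ∧
      (Set.range (fun y : S => φ (cnt f y))).Finite := by
    rw [Groth.Agent.H8.CNoeth.constructible_map_iff]
    intro Y hYc hYi
    obtain ⟨y, hy⟩ := QuasiSober.sober hYi hYc
    have hy' : closure {y} = Y := hy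
    subst hy'
    obtain ⟨V, hVsub, hyV, hVo, hV⟩ := cnt_main f y
    obtain ⟨U, hU, hUV⟩ := isOpen_induced_iff.mp hVo
    have hUY : U ∩ closure {y} = V := by
      ext x
      constructor
      · rintro ⟨hxU, hxY⟩
        have h1 : (⟨x, hxY⟩ : ↥(closure ({y} : Set S))) ∈ Subtype.val ⁻¹' U := hxU
        rw [hUV] at h1
        exact h1
      · intro hxV
        have hxY := hVsub hxV
        have h1 : (⟨x, hxY⟩ : ↥(closure ({y} : Set S))) ∈ Subtype.val ⁻¹' V := hxV
        rw [← hUV] at h1
        exact ⟨h1, hxY⟩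
    refine ⟨U, hU, ⟨y, by rw [hUY]; exact hyV⟩, fun a ha b hb => ?_⟩
    rw [hUY] at ha hb
    show φ (cnt f a) = φ (cnt f b)
    rw [hV a ha, hV b hb]
  exact key.1 t

/-! ### reduction to the Noetherian case -/

section LC

variable (L : ∀ {X S : Scheme.{u}}, (X ⟶ S) → Set S)
  (hBC : ∀ {X S X' S' : Scheme.{u}} (f : X ⟶ S) (f' : X' ⟶ S') (g' : X' ⟶ X) (g : S' ⟶ S),
    IsPullback g' f' f g → L f' = g ⁻¹' L f)
  (hN : ∀ {X S : Scheme.{u}} [IsNoetherian S] (f : X ⟶ S) [LocallyOfFiniteType f]
    [QuasiCompact f], IsConstructible (L f))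

include hBC hN

open Groth.Agent.H5.Lim in
theorem isConstructible_of_spec (A : Type u) [CommRing A] {X : Scheme.{u}}
    (f : X ⟶ Spec (CommRingCat.of A)) [LocallyOfFinitePresentation f] [QuasiCompact f]
    [QuasiSeparated f] : IsConstructible (L f) := by
  let f' : X ⟶ (fgzCone A).pt := f
  haveI : LocallyOfFinitePresentation f' := ‹LocallyOfFinitePresentation f›
  haveI : QuasiCompact f' := ‹QuasiCompact f›
  haveI : QuasiSeparated f' := ‹QuasiSeparated f›
  obtain ⟨j, ⟨M⟩⟩ := exists_model (fgzDiagram A) (fgzCone A) (isLimitFgzCone A) f'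
  haveI : IsNoetherianRing ↥(j.unop.1) := by
    haveI : Algebra.FiniteType ℤ ↥(j.unop.1) :=
      (Subalgebra.fg_iff_finiteType _).mp j.unop.2
    exact Algebra.FiniteType.isNoetherianRing ℤ _
  haveI : IsNoetherian ((fgzDiagram A).obj j) :=
    inferInstanceAs (IsNoetherian (Spec (CommRingCat.of ↥(j.unop.1))))
  have hcons : IsConstructible (L M.p) := hN M.p
  have hbc := hBC M.p f' M.g ((fgzCone A).π.app j) M.pb
  show IsConstructible (L f')
  rw [hbc]
  exact ((fgzCone A).π.app j).isConstructible_preimage hcons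

theorem isConstructible_of_isAffine {X S : Scheme.{u}} [IsAffine S] (f : X ⟶ S)
    [LocallyOfFinitePresentation f] [QuasiCompact f] [QuasiSeparated f] :
    IsConstructible (L f) := by
  have sq : IsPullback (𝟙 X) (f ≫ S.isoSpec.hom) f S.isoSpec.inv :=
    IsPullback.of_horiz_isIso ⟨by simp⟩
  have hbc := hBC f (f ≫ S.isoSpec.hom) (𝟙 X) S.isoSpec.inv sq
  let f'' : X ⟶ Spec (CommRingCat.of ↑Γ(S, ⊤)) := f ≫ S.isoSpec.hom
  haveI : LocallyOfFinitePresentation f'' :=
    inferInstanceAs (LocallyOfFinitePresentation (f ≫ S.isoSpec.hom))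
  haveI : QuasiCompact f'' := inferInstanceAs (QuasiCompact (f ≫ S.isoSpec.hom))
  haveI : QuasiSeparated f'' := inferInstanceAs (QuasiSeparated (f ≫ S.isoSpec.hom))
  have h1 : IsConstructible (L (f ≫ S.isoSpec.hom)) :=
    isConstructible_of_spec L hBC hN ↑Γ(S, ⊤) f''
  have h2 : L f = S.isoSpec.hom ⁻¹' (S.isoSpec.inv ⁻¹' L f) := by
    ext s
    simp only [Set.mem_preimage]
    have : S.isoSpec.inv (S.isoSpec.hom s) = s := by
      rw [← Scheme.Hom.comp_apply, Iso.hom_inv_id]
      rfl
    rw [this]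
  rw [h2, ← hbc]
  exact S.isoSpec.hom.isConstructible_preimage h1

theorem isLocallyConstructible_of_fp {X S : Scheme.{u}} (f : X ⟶ S)
    [LocallyOfFinitePresentation f] [QuasiCompact f] [QuasiSeparated f] :
    IsLocallyConstructible (L f) := by
  intro s₀
  obtain ⟨V, hV, hsV⟩ : ∃ V : S.Opens, IsAffineOpen V ∧ s₀ ∈ V := by
    obtain ⟨_, ⟨V, hV, rfl⟩, hsV, -⟩ :=
      S.isBasis_affineOpens.exists_subset_of_mem_open (Set.mem_univ s₀) isOpen_univ
    exact ⟨V, hV, hsV⟩
  refine ⟨V, V.isOpen.mem_nhds hsV, V.isOpen, ?_⟩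
  have sq := (isPullback_morphismRestrict f V).flip
  have hbc := hBC f (f ∣_ V) (f ⁻¹ᵁ V).ι V.ι sq
  have hV' : IsAffine V.toScheme := hV
  have h1 := isConstructible_of_isAffine L hBC hN (f ∣_ V)
  rw [hbc] at h1
  exact h1

end LC

/-! ### S1338, S1339 -/

theorem main1338 {X Y : Scheme.{u}} (f : X ⟶ Y) [LocallyOfFinitePresentation f]
    [QuasiCompact f] [QuasiSeparated f] (n : ℕ∞) :
    IsLocallyConstructible {y : Y | MoreMor.nGeomIrredComp f y = n} := by
  refine isLocallyConstructible_of_fp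
    (fun {X S : Scheme.{u}} (f : X ⟶ S) => {y : S | MoreMor.nGeomIrredComp f y = n}) ?_ ?_ f
  · intro X S X' S' f f' g' g hc
    ext y'
    exact Eq.congr_left (Groth.Agent.H3.GeomFibBC.nGeomIrredComp_baseChange f f' g' g hc y')
  · intro X S _ f _ _
    exact isConstructible_preimage_of_noetherian f Prod.fst n

theorem main1339 {X Y : Scheme.{u}} (f : X ⟶ Y) [LocallyOfFinitePresentation f]
    [QuasiCompact f] [QuasiSeparated f] (n : ℕ∞) :
    IsLocallyConstructible {y : Y | MoreMor.nGeomConnComp f y = n} := by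
  refine isLocallyConstructible_of_fp
    (fun {X S : Scheme.{u}} (f : X ⟶ S) => {y : S | MoreMor.nGeomConnComp f y = n}) ?_ ?_ f
  · intro X S X' S' f f' g' g hc
    ext y'
    exact Eq.congr_left (Groth.Agent.H3.GeomFibBC.nGeomConnComp_baseChange f f' g' g hc y')
  · intro X S _ f _ _
    exact isConstructible_preimage_of_noetherian f Prod.snd n

/-! ### geometric irreducibility and the count -/

theorem irreducibleSpace_of_encard_eq_one {Z : Type*} [TopologicalSpace Z]
    (h : (irreducibleComponents Z).encard = 1) : IrreducibleSpace Z := by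
  obtain ⟨c, hc⟩ := Set.encard_eq_one.mp h
  have hcu : c = Set.univ := by
    rw [← sUnion_irreducibleComponents, hc, Set.sUnion_singleton]
  have hmem : c ∈ irreducibleComponents Z := by rw [hc]; rfl
  have hirr : IsIrreducible c := hmem.1
  rw [hcu] at hirr
  exact (irreducibleSpace_def Z).mpr hirr

theorem nGeomIrredComp_eq_one_of_geometricallyIrreducible {X Y : Scheme.{u}} (f : X ⟶ Y)
    (y : Y) (h : GeometricallyIrreducible (f.fiberToSpecResidueField y)) :
    MoreMor.nGeomIrredComp f y = 1 := by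
  rw [geometricallyIrreducible_iff] at h
  haveI : IrreducibleSpace ↥(MoreMor.geomFiber f y) :=
    h (Spec.map (CommRingCat.ofHom
      (algebraMap (Y.residueField y) (SeparableClosure (Y.residueField y)))))
      (pullback.fst _ _) (pullback.snd _ _) (IsPullback.of_hasPullback _ _)
  unfold MoreMor.nGeomIrredComp
  rw [irreducibleComponents_eq_singleton, Set.encard_singleton]

theorem geometricallyIrreducible_of_nGeomIrredComp_eq_one {X Y : Scheme.{u}} (f : X ⟶ Y)
    (y : Y) (h : MoreMor.nGeomIrredComp f y = 1) :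
    GeometricallyIrreducible (f.fiberToSpecResidueField y) := by
  rw [geometricallyIrreducible_iff, geom_fiber_iff]
  intro K _ g hg Z fst snd hZ
  have hsq := IsPullback.of_hasPullback snd
    (Spec.map (CommRingCat.ofHom (algebraMap K (AlgebraicClosure K))))
  have big := hsq.paste_horiz hZ
  have hN := (nGeom_eq_of_isPullback f (AlgebraicClosure K) _ _ _ big y
    (fun w => hg _)).1
  rw [h] at hN
  haveI : IrreducibleSpace ↥(pullback snd
      (Spec.map (CommRingCat.ofHom (algebraMap K (AlgebraicClosure K))))) :=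
    irreducibleSpace_of_encard_eq_one hN.symm
  haveI : Surjective (Spec.map (CommRingCat.ofHom (algebraMap K (AlgebraicClosure K)))) :=
    Groth.Agent.H1.GeomFiber.surjective_SpecMap_field _
  haveI : Surjective (pullback.fst snd
      (Spec.map (CommRingCat.ofHom (algebraMap K (AlgebraicClosure K))))) :=
    MorphismProperty.pullback_fst (P := @Surjective) _ _ inferInstance
  have hirr := (IrreducibleSpace.isIrreducible_univ ↥(pullback snd
      (Spec.map (CommRingCat.ofHom (algebraMap K (AlgebraicClosure K)))))).image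
    (pullback.fst snd (Spec.map (CommRingCat.ofHom (algebraMap K (AlgebraicClosure K)))))
    (pullback.fst snd _).continuous.continuousOn
  rw [Set.image_univ, Set.range_eq_univ.mpr (pullback.fst snd
    (Spec.map (CommRingCat.ofHom (algebraMap K (AlgebraicClosure K))))).surjective] at hirr
  exact (irreducibleSpace_def Z).mpr hirr

theorem giLocus_eq {X S : Scheme.{u}} (f : X ⟶ S) :
    giLocus f = {y : S | MoreMor.nGeomIrredComp f y = 1} := by
  ext y
  exact ⟨nGeomIrredComp_eq_one_of_geometricallyIrreducible f y,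
    geometricallyIrreducible_of_nGeomIrredComp_eq_one f y⟩

/-- the locus of points with geometrically connected fibre. -/
def gcLocus {X S : Scheme.{u}} (f : X ⟶ S) : Set S :=
  {s | GeometricallyConnected (f.fiberToSpecResidueField s)}

theorem gcLocus_eq {X S : Scheme.{u}} (f : X ⟶ S) :
    gcLocus f = {y : S | MoreMor.nGeomConnComp f y = 1} := by
  ext y
  exact ⟨nGeomConnComp_eq_one_of_geometricallyConnected f y,
    geometricallyConnected_of_nGeomConnComp_eq_one f y⟩

theorem gcLocus_of_isPullback {X S X' S' : Scheme.{u}} (f : X ⟶ S) (f' : X' ⟶ S') (g' : X' ⟶ X)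
    (g : S' ⟶ S) (hc : IsPullback g' f' f g) : gcLocus f' = g ⁻¹' gcLocus f := by
  rw [gcLocus_eq, gcLocus_eq]
  ext y'
  exact Eq.congr_left (Groth.Agent.H3.GeomFibBC.nGeomConnComp_baseChange f f' g' g hc y')

theorem isConstructible_SpecMap_aux (A B : Type u) [CommRing A] [CommRing B] [Algebra A B]
    [IsNoetherianRing A] [Algebra.FiniteType A B] {T : Type*} (φ : ℕ∞ × ℕ∞ → T) (t : T) :
    IsConstructible ((fun y : Spec (CommRingCat.of A) =>
      φ (cnt (Spec.map (CommRingCat.ofHom (algebraMap A B))) y)) ⁻¹' {t}) := by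
  haveI : LocallyOfFiniteType (Spec.map (CommRingCat.ofHom (algebraMap A B))) := by
    rw [HasRingHomProperty.Spec_iff (P := @LocallyOfFiniteType), CommRingCat.hom_ofHom,
      RingHom.finiteType_algebraMap]
    infer_instance
  exact isConstructible_preimage_of_noetherian _ φ t

theorem fibLocus_giLocus : Groth.Agent.H1.NoethApprox.FibLocus.{u} (@giLocus) where
  of_isPullback := fun f _ f' g' g hc => giLocus_of_isPullback f f' g' g hc
  isConstructible := fun A B _ _ _ _ _ => by
    rw [giLocus_eq]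
    exact isConstructible_SpecMap_aux A B Prod.fst 1

theorem fibLocus_gcLocus : Groth.Agent.H1.NoethApprox.FibLocus.{u} (@gcLocus) where
  of_isPullback := fun f _ f' g' g hc => gcLocus_of_isPullback f f' g' g hc
  isConstructible := fun A B _ _ _ _ _ => by
    rw [gcLocus_eq]
    exact isConstructible_SpecMap_aux A B Prod.snd 1

/-- **S1462**. -/
theorem main1462 {X S : Scheme.{u}} (f : X ⟶ S) [IsAffine X] [IsAffine S]
    [LocallyOfFinitePresentation f] [GeometricallyIrreducible f] :
    ∃ (X₀ S₀ : Scheme.{u}) (f₀ : X₀ ⟶ S₀) (g : S ⟶ S₀) (g' : X ⟶ X₀), IsAffine X₀ ∧ IsAffine S₀ ∧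
      IsPullback g' f f₀ g ∧ Algebra.FiniteType ℤ Γ(S₀, ⊤) ∧ LocallyOfFiniteType f₀ ∧
      GeometricallyIrreducible f₀ := by
  obtain ⟨X₀, S₀, f₀, g, g', h1, h2, h3, h4, h5, h6⟩ :=
    Groth.Agent.H1.NoethApprox.exists_approx fibLocus_giLocus f (by
      ext s
      simp only [Set.mem_univ, iff_true]
      exact (GeometricallyIrreducible.iff_geometricallyIrreducible_fiber (f := f)).mp inferInstance s)
  refine ⟨X₀, S₀, f₀, g, g', h1, h2, h3, h4, h5, ?_⟩
  rw [GeometricallyIrreducible.iff_geometricallyIrreducible_fiber]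
  intro s₀
  have h7 : s₀ ∈ giLocus f₀ := by rw [h6]; trivial
  exact h7

/-- **S1463**. -/
theorem main1463 {X S : Scheme.{u}} (f : X ⟶ S) [IsAffine X] [IsAffine S]
    [LocallyOfFinitePresentation f] [GeometricallyConnected f] :
    ∃ (X₀ S₀ : Scheme.{u}) (f₀ : X₀ ⟶ S₀) (g : S ⟶ S₀) (g' : X ⟶ X₀), IsAffine X₀ ∧ IsAffine S₀ ∧
      IsPullback g' f f₀ g ∧ Algebra.FiniteType ℤ Γ(S₀, ⊤) ∧ LocallyOfFiniteType f₀ ∧
      GeometricallyConnected f₀ := by
  obtain ⟨X₀, S₀, f₀, g, g', h1, h2, h3, h4, h5, h6⟩ :=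
    Groth.Agent.H1.NoethApprox.exists_approx fibLocus_gcLocus f (by
      ext s
      simp only [Set.mem_univ, iff_true]
      exact (GeometricallyConnected.iff_geometricallyConnected_fiber (f := f)).mp inferInstance s)
  refine ⟨X₀, S₀, f₀, g, g', h1, h2, h3, h4, h5, ?_⟩
  rw [GeometricallyConnected.iff_geometricallyConnected_fiber]
  intro s₀
  have h7 : s₀ ∈ gcLocus f₀ := by rw [h6]; trivial
  exact h7

end Groth.Agent.H1.GIrr
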