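import Mathlib
import Groth.Agent.Lib.Helper1.GRedCore
import Groth.Agent.Lib.Helper1.GeomFiber
import Groth.Agent.Lib.Helper1.NoethApprox
import Groth.Agent.Lib.Helper8.ConstructibleNoeth

/-!
# The locus of geometrically reduced fibres (helper1)

* `geomRed_fiber_iff`: test-pullback characterisation of geometric reducedness of one fibre;
* `GRat`, `bridge`: the ring-level form for `Spec B ⟶ Spec A`;
* `grLocus`, `grLocus_of_isPullback`: the locus and its compatibility with base change;
* `dichotomy_domain`, `isConstructible_grLocus_of_noeth`, `fibLocus_grLocus`;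
* `grLocus_eq_iInter_of_openCover`: locality on the source.
-/

set_option autoImplicit false
set_option linter.style.haveILetI false
universe u

open TensorProduct AlgebraicGeometry CategoryTheory CategoryTheory.Limits Topology

namespace Groth.Agent.H1.GRedLocus

open Groth.Agent.H1.GRedCore

set_option backward.isDefEq.respectTransparency false in
/-- test-pullback characterisation of geometric reducedness of the fibre over `y`. -/
theorem geomRed_fiber_iff {X Y : Scheme.{u}} (f : X ⟶ Y) (y : Y) :
    GeometricallyReduced (f.fiberToSpecResidueField y) ↔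
      ∀ (K : Type u) [Field K] (g : Spec (CommRingCat.of K) ⟶ Y), (∀ z, g z = y) →
        ∀ ⦃Z : Scheme.{u}⦄ (fst : Z ⟶ X) (snd : Z ⟶ Spec (CommRingCat.of K)),
          IsPullback fst snd f g → IsReduced Z := by
  rw [geometricallyReduced_iff]
  constructor
  · intro H K _ g hg Z fst snd h
    obtain ⟨⟨y', φ⟩, rfl⟩ := (Scheme.SpecToEquivOfField _ _).symm.surjective g
    have hy' : y' = y := by
      have := hg (IsLocalRing.closedPoint K)
      simpa [Scheme.SpecToEquivOfField] using this
    subst hy'
    let p : Z ⟶ f.fiber y' :=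
      pullback.lift fst (snd ≫ Spec.map φ) (by simp [h.w, Scheme.SpecToEquivOfField])
    apply H (Spec.map φ) p snd
    simp only [Scheme.SpecToEquivOfField, Equiv.coe_fn_symm_mk] at h
    refine .flip (.of_bot (.flip ?_) ?_ (IsPullback.of_hasPullback f (Y.fromSpecResidueField y')).flip)
    · convert! h
      simp [p]
    · simp [p, Scheme.Hom.fiberToSpecResidueField]
  · intro H K _ g₀ Z fst₀ snd h
    refine H K (g₀ ≫ Y.fromSpecResidueField y) (fun z => ?_) (fst₀ ≫ f.fiberι y) snd ?_
    · simp
    · exact h.paste_horiz (IsPullback.of_hasPullback f (Y.fromSpecResidueField y))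

/-- ring-level geometric reducedness of the fibre of `A → B` at the prime `p`. -/
def GRat (A B : Type u) [CommRing A] [CommRing B] [Algebra A B] (p : PrimeSpectrum A) : Prop :=
  ∀ (L : Type u) [Field L] [Algebra A L], RingHom.ker (algebraMap A L) = p.asIdeal →
    IsReduced (L ⊗[A] B)

set_option backward.isDefEq.respectTransparency.types false in
theorem bridge (A B : Type u) [CommRing A] [CommRing B] [Algebra A B] (p : PrimeSpectrum A) :
    GeometricallyReduced
      ((Spec.map (CommRingCat.ofHom (algebraMap A B))).fiberToSpecResidueField p) ↔ GRat A B p := by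
  rw [geomRed_fiber_iff]
  constructor
  · intro H L _ _ hker
    have sq := isPullback_SpecMap_of_isPushout _ _ _ _ (CommRingCat.isPushout_tensorProduct A L B)
    have h1 := H L (Spec.map (CommRingCat.ofHom (algebraMap A L))) (fun z => by
      apply PrimeSpectrum.ext
      change Ideal.comap (algebraMap A L) z.asIdeal = p.asIdeal
      rw [← hker, Ideal.eq_bot_of_prime z.asIdeal, RingHom.ker_eq_comap_bot]) _ _ sq.flip
    exact (affine_isReduced_iff _).mp h1
  · intro H K _ g hg Z fst snd sq
    obtain ⟨φ, rfl⟩ := Spec.map_surjective g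
    letI : Algebra A K := φ.hom.toAlgebra
    have hker : RingHom.ker (algebraMap A K) = p.asIdeal := by
      have := hg (⟨⊥, Ideal.isPrime_bot⟩ : PrimeSpectrum K)
      rw [← this]
      exact RingHom.ker_eq_comap_bot _
    have hred := H K hker
    have sq' := (isPullback_SpecMap_of_isPushout _ _ _ _
      (CommRingCat.isPushout_tensorProduct A K B)).flip
    haveI : IsReduced (Spec (CommRingCat.of (K ⊗[A] B))) := (affine_isReduced_iff _).mpr hred
    exact isReduced_of_isOpenImmersion (sq.isoIsPullback _ _ sq').hom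

/-- the locus of points with geometrically reduced fibre. -/
def grLocus {X S : Scheme.{u}} (f : X ⟶ S) : Set S :=
  {s | GeometricallyReduced (f.fiberToSpecResidueField s)}

theorem grLocus_of_isPullback {X S X' S' : Scheme.{u}} (f : X ⟶ S) (f' : X' ⟶ S') (g' : X' ⟶ X)
    (g : S' ⟶ S) (hc : IsPullback g' f' f g) : grLocus f' = g ⁻¹' grLocus f := by
  ext y'
  simp only [grLocus, Set.mem_ofPred_eq, Set.mem_preimage, geometricallyReduced_iff]
  exact Groth.Agent.H1.GeomFiber.fiber_iff _ Groth.Agent.H1.GeomFiber.descFlatSurj_isReduced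
    f g f' g' hc y'

theorem mem_grLocus_Spec_iff (A B : Type u) [CommRing A] [CommRing B] [Algebra A B]
    (p : PrimeSpectrum A) :
    p ∈ grLocus (Spec.map (CommRingCat.ofHom (algebraMap A B))) ↔ GRat A B p :=
  bridge A B p


/-! ### the dichotomy over a Noetherian domain -/

theorem dichotomy_domain (A B : Type u) [CommRing A] [IsDomain A] [IsNoetherianRing A]
    [CommRing B] [Algebra A B] [Algebra.FiniteType A B] :
    ∃ a : A, a ≠ 0 ∧ ((∀ p : PrimeSpectrum A, a ∉ p.asIdeal → GRat A B p) ∨
      (∀ p : PrimeSpectrum A, a ∉ p.asIdeal → ¬ GRat A B p)) := by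
  by_cases hη : GRat A B ⟨⊥, Ideal.isPrime_bot⟩
  · have hK : IsReduced (FractionRing A ⊗[A] B) := hη (FractionRing A)
      ((RingHom.injective_iff_ker_eq_bot _).mp (IsFractionRing.injective A (FractionRing A)))
    obtain ⟨a, ha, h⟩ := core1 A B ((bridge A B _).mpr hη) hK
    refine ⟨a, ha, Or.inl fun p hp L _ _ hker => h L ?_⟩
    intro h0
    exact hp (by rw [← hker]; exact h0)
  · unfold GRat at hη
    push Not at hη
    obtain ⟨L₀, _, _, hker, hnr⟩ := hη
    obtain ⟨A', hfg, z', hz'nil, hz't⟩ := exists_model_nilpotent A B L₀ hnr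
    haveI : Algebra.FiniteType A A' := (Subalgebra.fg_iff_finiteType A').mp hfg
    obtain ⟨a', ha', h'⟩ := core2 A' (A' ⊗[A] B) z' hz'nil hz't
    have hinjA' : Function.Injective (algebraMap A A') := by
      intro x y hxy
      have h1 : algebraMap A L₀ x = algebraMap A L₀ y := congrArg Subtype.val hxy
      exact (RingHom.injective_iff_ker_eq_bot _).mpr hker h1
    obtain ⟨a, ha, hchev⟩ := chev A A' hinjA' a' ha'
    refine ⟨a, ha, Or.inr fun p hp hGR => ?_⟩
    obtain ⟨p', hp'p, hp'a'⟩ := hchev p hp
    have hnr' : ¬ IsReduced (p'.asIdeal.ResidueField ⊗[A'] (A' ⊗[A] B)) :=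
      h' p'.asIdeal.ResidueField (by
        rw [Ne, Ideal.algebraMap_residueField_eq_zero]; exact hp'a')
    apply hnr'
    have hred : IsReduced (p'.asIdeal.ResidueField ⊗[A] B) := hGR p'.asIdeal.ResidueField (by
      ext x
      rw [RingHom.mem_ker, IsScalarTower.algebraMap_apply A A' p'.asIdeal.ResidueField,
        Ideal.algebraMap_residueField_eq_zero, ← hp'p]
      rfl)
    exact isReduced_of_injective
      (Algebra.TensorProduct.cancelBaseChange A A' p'.asIdeal.ResidueField
        p'.asIdeal.ResidueField B)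
      (Algebra.TensorProduct.cancelBaseChange A A' p'.asIdeal.ResidueField
        p'.asIdeal.ResidueField B).injective

/-! ### constructibility over a Noetherian ring -/

set_option backward.isDefEq.respectTransparency.types false in
theorem exists_open_const (A B : Type u) [CommRing A] [CommRing B] [Algebra A B]
    [IsNoetherianRing A] [Algebra.FiniteType A B] (Y : Set (PrimeSpectrum A)) (hYc : IsClosed Y)
    (hYi : IsIrreducible Y) :
    ∃ U : Set (PrimeSpectrum A), IsOpen U ∧ (U ∩ Y).Nonempty ∧ ∀ a ∈ U ∩ Y, ∀ b ∈ U ∩ Y,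
      (a ∈ grLocus (Spec.map (CommRingCat.ofHom (algebraMap A B)))) =
        (b ∈ grLocus (Spec.map (CommRingCat.ofHom (algebraMap A B)))) := by
  classical
  have hq : (PrimeSpectrum.vanishingIdeal Y).IsPrime :=
    (PrimeSpectrum.isIrreducible_iff_vanishingIdeal_isPrime).mp hYi
  obtain ⟨q, hqdef⟩ : ∃ q : Ideal A, q = PrimeSpectrum.vanishingIdeal Y := ⟨_, rfl⟩
  haveI hqp : q.IsPrime := hqdef ▸ hq
  have hY : Y = PrimeSpectrum.zeroLocus (q : Set A) := by
    rw [hqdef, PrimeSpectrum.zeroLocus_vanishingIdeal_eq_closure, hYc.closure_eq]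
  have sq := isPullback_SpecMap_of_isPushout _ _ _ _
    (CommRingCat.isPushout_tensorProduct A (A ⧸ q) B)
  have hBC := grLocus_of_isPullback (Spec.map (CommRingCat.ofHom (algebraMap A B))) _ _ _ sq.flip
  have hinl : (CommRingCat.ofHom (Algebra.TensorProduct.includeLeftRingHom :
      (A ⧸ q) →+* (A ⧸ q) ⊗[A] B)) = CommRingCat.ofHom (algebraMap (A ⧸ q) ((A ⧸ q) ⊗[A] B)) := rfl
  rw [hinl] at hBC
  obtain ⟨ā, hā, hdich⟩ := dichotomy_domain (A ⧸ q) ((A ⧸ q) ⊗[A] B)
  obtain ⟨a, rfl⟩ := Ideal.Quotient.mk_surjective ā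
  have haq : a ∉ q := fun h => hā (Ideal.Quotient.eq_zero_iff_mem.mpr h)
  refine ⟨PrimeSpectrum.basicOpen a, (PrimeSpectrum.basicOpen a).isOpen,
    ⟨⟨q, hqp⟩, haq, by rw [hY]; exact (PrimeSpectrum.mem_zeroLocus _ _).mpr le_rfl⟩, ?_⟩
  have key : ∀ x ∈ (PrimeSpectrum.basicOpen a : Set (PrimeSpectrum A)) ∩ Y,
      ∃ x' : PrimeSpectrum (A ⧸ q), Ideal.Quotient.mk q a ∉ x'.asIdeal ∧
        ((x ∈ grLocus (Spec.map (CommRingCat.ofHom (algebraMap A B)))) ↔
          GRat (A ⧸ q) ((A ⧸ q) ⊗[A] B) x') := by
    rintro x ⟨hxa, hxY⟩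
    have hxr : x ∈ Set.range (PrimeSpectrum.comap (Ideal.Quotient.mk q)) := by
      rw [_root_.range_comap_of_surjective _ _ Ideal.Quotient.mk_surjective, Ideal.mk_ker,
        ← hY]
      exact hxY
    obtain ⟨x', rfl⟩ := hxr
    refine ⟨x', fun h => hxa h, ?_⟩
    rw [← mem_grLocus_Spec_iff, hBC]
    rfl
  rcases hdich with hd | hd
  · intro x hx y hy
    obtain ⟨x', hx'a, hx'⟩ := key x hx
    obtain ⟨y', hy'a, hy'⟩ := key y hy
    exact propext ⟨fun _ => hy'.mpr (hd y' hy'a), fun _ => hx'.mpr (hd x' hx'a)⟩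
  · intro x hx y hy
    obtain ⟨x', hx'a, hx'⟩ := key x hx
    obtain ⟨y', hy'a, hy'⟩ := key y hy
    exact propext ⟨fun h => absurd (hx'.mp h) (hd x' hx'a), fun h => absurd (hy'.mp h) (hd y' hy'a)⟩

theorem isConstructible_grLocus_of_noeth (A B : Type u) [CommRing A] [CommRing B] [Algebra A B]
    [IsNoetherianRing A] [Algebra.FiniteType A B] :
    IsConstructible (grLocus (Spec.map (CommRingCat.ofHom (algebraMap A B)))) := by
  classical
  have key : (∀ t, IsConstructible ((fun x : PrimeSpectrum A =>
      (x ∈ grLocus (Spec.map (CommRingCat.ofHom (algebraMap A B))))) ⁻¹' {t})) ∧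
      (Set.range (fun x : PrimeSpectrum A =>
        (x ∈ grLocus (Spec.map (CommRingCat.ofHom (algebraMap A B)))))).Finite := by
    rw [Groth.Agent.H8.CNoeth.constructible_map_iff]
    intro Y hYc hYi
    exact exists_open_const A B Y hYc hYi
  have h2 : grLocus (Spec.map (CommRingCat.ofHom (algebraMap A B))) =
      (fun x : PrimeSpectrum A =>
        (x ∈ grLocus (Spec.map (CommRingCat.ofHom (algebraMap A B))))) ⁻¹' {True} := by
    ext x
    exact ⟨fun h => eq_true h, fun h => of_eq_true h⟩
  rw [h2]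
  exact key.1 True

theorem fibLocus_grLocus : Groth.Agent.H1.NoethApprox.FibLocus.{u} (@grLocus) where
  of_isPullback := fun f _ f' g' g hc => grLocus_of_isPullback f f' g' g hc
  isConstructible := fun A B _ _ _ _ _ => isConstructible_grLocus_of_noeth A B

/-! ### locality on the source -/

theorem grLocus_eq_iInter_of_openCover {X S : Scheme.{u}} (f : X ⟶ S) (𝒰 : X.OpenCover) :
    grLocus f = ⋂ i, grLocus (𝒰.f i ≫ f) := by
  ext s
  simp only [grLocus, Set.mem_ofPred_eq, Set.mem_iInter]
  constructor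
  · intro H i
    rw [geomRed_fiber_iff] at H ⊢
    intro K _ g hg Z fst snd sq
    haveI hZ' : IsReduced (pullback f g) :=
      H K g hg (pullback.fst f g) (pullback.snd f g) (IsPullback.of_hasPullback f g)
    let q : Z ⟶ pullback f g := pullback.lift (fst ≫ 𝒰.f i) snd (by rw [Category.assoc, sq.w])
    have hq1 : q ≫ pullback.fst f g = fst ≫ 𝒰.f i := pullback.lift_fst _ _ _
    have hq2 : q ≫ pullback.snd f g = snd := pullback.lift_snd _ _ _
    have hq : IsPullback fst q (𝒰.f i) (pullback.fst f g) := by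
      refine IsPullback.of_bot ?_ hq1.symm (IsPullback.of_hasPullback f g)
      rw [hq2]
      exact sq
    haveI : IsOpenImmersion q := MorphismProperty.of_isPullback hq inferInstance
    exact isReduced_of_isOpenImmersion q
  · intro H
    rw [geomRed_fiber_iff]
    intro K _ g hg Z fst snd sq
    haveI : ∀ i, IsReduced ((𝒰.pullback₁ fst).X i) := by
      intro i
      have Hi := (geomRed_fiber_iff (𝒰.f i ≫ f) s).mp (H i)
      exact Hi K g hg _ _
        ((IsPullback.of_hasPullback fst (𝒰.f i)).flip.paste_vert sq)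
    exact IsReduced.of_openCover Z (𝒰.pullback₁ fst)

end Groth.Agent.H1.GRedLocus
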