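import Mathlib
import Groth.Agent.Lib.Helper1.GRedLocus
import Groth.Agent.Lib.Helper1.ConsFibP1
import Groth.Agent.Lib.Helper5.Lim.RingModel

/-!
# Geometrically reduced fibres: local constructibility and generic behaviour (helper1)
-/

set_option autoImplicit false
set_option linter.style.haveILetI false
universe u

open TensorProduct AlgebraicGeometry CategoryTheory CategoryTheory.Limits Topology

namespace Groth.Agent.H1.GRedGlobal

open Groth.Agent.H1.GRedLocus

/-- precomposition with an isomorphism does not change the locus. -/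
theorem grLocus_iso_comp {X' X S : Scheme.{u}} (e : X' ⟶ X) [IsIso e] (f : X ⟶ S) :
    grLocus (e ≫ f) = grLocus f := by
  have sq : IsPullback e (e ≫ f) f (𝟙 S) := IsPullback.of_horiz_isIso ⟨by simp⟩
  rw [grLocus_of_isPullback f (e ≫ f) e (𝟙 S) sq]
  ext s
  simp

set_option backward.isDefEq.respectTransparency.types false in
/-- the finitely presented affine case, by descent to a Noetherian model. -/
theorem isConstructible_grLocus_of_fp (A B : Type u) [CommRing A] [CommRing B] [Algebra A B]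
    [Algebra.FinitePresentation A B] :
    IsConstructible (grLocus (Spec.map (CommRingCat.ofHom (algebraMap A B)))) := by
  classical
  obtain ⟨s, hs⟩ := Groth.Agent.H5.Lim.exists_model_of_finitePresentation A B
  let A₀ : Subalgebra ℤ A := Algebra.adjoin ℤ (s : Set A)
  obtain ⟨B₀, _, _, hfp, ⟨e⟩⟩ := hs A₀ (by
    intro x hx
    exact ⟨⟨x, Algebra.subset_adjoin hx⟩, rfl⟩)
  haveI : Algebra.FiniteType ℤ A₀ := .adjoin_of_finite s.finite_toSet
  haveI : IsNoetherianRing A₀ := Algebra.FiniteType.isNoetherianRing ℤ A₀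
  have sq := isPullback_SpecMap_of_isPushout _ _ _ _
    (CommRingCat.isPushout_tensorProduct A₀ A B₀)
  have h1 := grLocus_of_isPullback (Spec.map (CommRingCat.ofHom (algebraMap A₀ B₀))) _ _ _ sq.flip
  set ψ := Spec.map (CommRingCat.ofHom (Algebra.TensorProduct.includeLeftRingHom :
    A →+* A ⊗[A₀] B₀)) with hψ
  set ε := Spec.map (CommRingCat.ofHom e.toRingEquiv.toRingHom) with hε
  have : IsIso ε := by
    rw [hε]
    have : IsIso (CommRingCat.ofHom e.toRingEquiv.toRingHom) :=
      (e.toRingEquiv.toCommRingCatIso).isIso_hom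
    infer_instance
  have hεψ : ε ≫ ψ = Spec.map (CommRingCat.ofHom (algebraMap A B)) := by
    rw [hε, hψ, ← Spec.map_comp]
    congr 1
    ext a
    change e (a ⊗ₜ[A₀] (1 : B₀)) = algebraMap A B a
    have h1 : a ⊗ₜ[A₀] (1 : B₀) = algebraMap A (A ⊗[A₀] B₀) a :=
      (Algebra.TensorProduct.algebraMap_apply a).symm
    rw [h1, e.commutes]
  rw [← hεψ, grLocus_iso_comp, h1]
  exact Scheme.Hom.isConstructible_preimage _
    (isConstructible_grLocus_of_noeth A₀ B₀)

/-- a morphism locally of finite presentation between affine schemes. -/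
theorem isConstructible_grLocus_of_isAffine {X S : Scheme.{u}} (f : X ⟶ S) [IsAffine X] [IsAffine S]
    [LocallyOfFinitePresentation f] : IsConstructible (grLocus f) := by
  letI : Algebra Γ(S, ⊤) Γ(X, ⊤) := f.appTop.hom.toAlgebra
  haveI : Algebra.FinitePresentation Γ(S, ⊤) Γ(X, ⊤) :=
    (HasRingHomProperty.iff_of_isAffine (P := @LocallyOfFinitePresentation) (f := f)).mp
      inferInstance
  have hnat : X.isoSpec.hom ≫ Spec.map (CommRingCat.ofHom (algebraMap Γ(S, ⊤) Γ(X, ⊤))) =
      f ≫ S.isoSpec.hom := Scheme.isoSpec_hom_naturality f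
  have sqiso : IsPullback X.isoSpec.hom f
      (Spec.map (CommRingCat.ofHom (algebraMap Γ(S, ⊤) Γ(X, ⊤)))) S.isoSpec.hom :=
    IsPullback.of_horiz_isIso ⟨hnat⟩
  rw [grLocus_of_isPullback _ f X.isoSpec.hom S.isoSpec.hom sqiso]
  exact Scheme.Hom.isConstructible_preimage _ (isConstructible_grLocus_of_fp _ _)

/-- a constructible subset of the spectrum of a domain containing the generic point contains a
nonempty basic open. -/
theorem exists_basicOpen_subset_of_isConstructible (R : Type u) [CommRing R] [IsDomain R]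
    (E : Set (PrimeSpectrum R)) (hE : IsConstructible E)
    (hη : (⟨⊥, Ideal.isPrime_bot⟩ : PrimeSpectrum R) ∈ E) :
    ∃ a : R, a ≠ 0 ∧ ∀ p : PrimeSpectrum R, a ∉ p.asIdeal → p ∈ E := by
  have hirr : IsIrreducible (Set.univ : Set (PrimeSpectrum R)) :=
    IrreducibleSpace.isIrreducible_univ _
  have hgen : ∀ U : Set (PrimeSpectrum R), IsOpen U → (U ∩ Set.univ).Nonempty →
      (⟨⊥, Ideal.isPrime_bot⟩ : PrimeSpectrum R) ∈ U := by
    rintro U hU ⟨x, hxU, -⟩
    have hsp : (⟨⊥, Ideal.isPrime_bot⟩ : PrimeSpectrum R) ⤳ x :=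
      (PrimeSpectrum.le_iff_specializes _ _).mp (show (⊥ : Ideal R) ≤ x.asIdeal from bot_le)
    exact hsp.mem_open hU hxU
  rcases Groth.Agent.H8.CNoeth.dichotomy hirr hE with ⟨U, hU, hne, hsub⟩ | ⟨U, hU, hne, hsub⟩
  · have hbotU := hgen U hU hne
    obtain ⟨_, ⟨a, rfl⟩, hba, haU⟩ :=
      PrimeSpectrum.isTopologicalBasis_basic_opens.exists_subset_of_mem_open hbotU hU
    exact ⟨a, fun h0 => hba (by rw [h0]; exact zero_mem _), fun p hp => hsub ⟨haU hp, trivial⟩⟩
  · exact absurd hη (hsub ⟨hgen U hU hne, trivial⟩)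

set_option backward.isDefEq.respectTransparency.types false in
/-- on an affine open of the target, the locus is constructible. -/
theorem isConstructible_grLocus_affineOpen {X Y : Scheme.{u}} (f : X ⟶ Y) [QuasiCompact f]
    [LocallyOfFinitePresentation f] {W : Y.Opens} (hW : IsAffineOpen W) :
    IsConstructible (Subtype.val ⁻¹' grLocus f : Set W) := by
  haveI : IsAffine ↑W := hW
  have hBC : grLocus (f ∣_ W) = W.ι ⁻¹' grLocus f :=
    grLocus_of_isPullback f (f ∣_ W) (f ⁻¹ᵁ W).ι W.ι (isPullback_morphismRestrict f W).flip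
  haveI : CompactSpace ↑(f ⁻¹ᵁ W) := QuasiCompact.compactSpace_of_compactSpace (f ∣_ W)
  let 𝒰 := (↑(f ⁻¹ᵁ W) : Scheme.{u}).affineCover.finiteSubcover
  haveI : ∀ i, IsAffine (𝒰.X i) := fun i => by dsimp [𝒰]; infer_instance
  have hLS := grLocus_eq_iInter_of_openCover (f ∣_ W) 𝒰
  have hcons : IsConstructible (grLocus (f ∣_ W)) := by
    rw [hLS]
    exact IsConstructible.iInter (fun i => isConstructible_grLocus_of_isAffine (𝒰.f i ≫ f ∣_ W))
  rw [hBC] at hcons
  exact hcons

/-- **S1301**: local constructibility of the locus of geometrically reduced fibres. -/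
theorem isLocallyConstructible_grLocus {X Y : Scheme.{u}} (f : X ⟶ Y) [QuasiCompact f]
    [LocallyOfFinitePresentation f] : IsLocallyConstructible (grLocus f) := by
  intro y₀
  obtain ⟨_, ⟨W, hW, rfl⟩, hyW, -⟩ :=
    Y.isBasis_affineOpens.exists_subset_of_mem_open (Set.mem_univ y₀) isOpen_univ
  exact ⟨W, W.isOpen.mem_nhds hyW, W.isOpen, isConstructible_grLocus_affineOpen f hW⟩

end Groth.Agent.H1.GRedGlobal
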