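import Mathlib
import Groth.Agent.Lib.Helper1.GRedGlobal

/-!
# Geometrically reduced generic fibre spreads out (helper1)

For a morphism of finite type to an irreducible scheme whose generic fibre is geometrically reduced,
the fibres over a nonempty open are geometrically reduced (no Noetherian hypothesis).
-/

set_option autoImplicit false
set_option linter.style.haveILetI false
universe u

open TensorProduct AlgebraicGeometry CategoryTheory CategoryTheory.Limits Topology

namespace Groth.Agent.H1.GRedGeneric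

open Groth.Agent.H1.GRedLocus Groth.Agent.H1.GRedGlobal

set_option backward.isDefEq.respectTransparency.types false in
/-- ring level: over a domain, for a finite type algebra. -/
theorem exists_basicOpen_subset_grLocus (A C : Type u) [CommRing A] [IsDomain A] [CommRing C]
    [Algebra A C] [Algebra.FiniteType A C]
    (hη : (⟨⊥, Ideal.isPrime_bot⟩ : PrimeSpectrum A) ∈
      grLocus (Spec.map (CommRingCat.ofHom (algebraMap A C)))) :
    ∃ a : A, a ≠ 0 ∧ ∀ p : PrimeSpectrum A, a ∉ p.asIdeal →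
      p ∈ grLocus (Spec.map (CommRingCat.ofHom (algebraMap A C))) := by
  obtain ⟨f₁, h1, good⟩ := Groth.Agent.H1.GenFree.exists_good (R := A) (S := C) (M := C) 1
    one_ne_zero
  obtain ⟨a₀, ha₀⟩ : ∃ a₀ : A, a₀ = 1 * f₁ := ⟨_, rfl⟩
  rw [← ha₀] at h1 good
  haveI : Algebra.FinitePresentation (Localization.Away a₀) (Localization.Away a₀ ⊗[A] C) :=
    good.finitePresentation_tensor
  haveI : IsDomain (Localization.Away a₀) :=
    IsLocalization.isDomain_localization (M := Submonoid.powers a₀)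
      (powers_le_nonZeroDivisors_of_noZeroDivisors h1)
  have sq := isPullback_SpecMap_of_isPushout _ _ _ _
    (CommRingCat.isPushout_tensorProduct A (Localization.Away a₀) C)
  have hBC := grLocus_of_isPullback (Spec.map (CommRingCat.ofHom (algebraMap A C))) _ _ _ sq.flip
  have hinl : (CommRingCat.ofHom (Algebra.TensorProduct.includeLeftRingHom :
      (Localization.Away a₀) →+* (Localization.Away a₀) ⊗[A] C)) =
      CommRingCat.ofHom (algebraMap (Localization.Away a₀) ((Localization.Away a₀) ⊗[A] C)) := rfl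
  rw [hinl] at hBC
  have hcons := isConstructible_grLocus_of_fp (Localization.Away a₀) (Localization.Away a₀ ⊗[A] C)
  have hη₁ : (⟨⊥, Ideal.isPrime_bot⟩ : PrimeSpectrum (Localization.Away a₀)) ∈
      grLocus (Spec.map (CommRingCat.ofHom
        (algebraMap (Localization.Away a₀) ((Localization.Away a₀) ⊗[A] C)))) := by
    rw [hBC]
    have h2 : Spec.map (CommRingCat.ofHom (algebraMap A (Localization.Away a₀)))
        (⟨⊥, Ideal.isPrime_bot⟩ : PrimeSpectrum (Localization.Away a₀)) =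
        (⟨⊥, Ideal.isPrime_bot⟩ : PrimeSpectrum A) := by
      apply PrimeSpectrum.ext
      change Ideal.comap (algebraMap A (Localization.Away a₀)) ⊥ = ⊥
      rw [← RingHom.ker_eq_comap_bot]
      exact (RingHom.injective_iff_ker_eq_bot _).mp
        (IsLocalization.injective (Localization.Away a₀)
          (powers_le_nonZeroDivisors_of_noZeroDivisors h1))
    show Spec.map (CommRingCat.ofHom (algebraMap A (Localization.Away a₀)))
        (⟨⊥, Ideal.isPrime_bot⟩ : PrimeSpectrum (Localization.Away a₀)) ∈ grLocus _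
    rw [h2]
    exact hη
  obtain ⟨a₁, ha₁, hD⟩ := exists_basicOpen_subset_of_isConstructible (Localization.Away a₀) _
    hcons hη₁
  obtain ⟨⟨c, ⟨_, n, rfl⟩⟩, hc⟩ := IsLocalization.surj (Submonoid.powers a₀) a₁
  have hc0 : c ≠ 0 := by
    intro h
    rw [h, map_zero] at hc
    have hu : IsUnit (algebraMap A (Localization.Away a₀) (a₀ ^ n)) := by
      rw [map_pow]
      exact (IsLocalization.Away.algebraMap_isUnit a₀).pow n
    exact ha₁ (hu.mul_left_eq_zero.mp hc)
  refine ⟨a₀ * c, mul_ne_zero h1 hc0, fun p hp => ?_⟩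
  have hpa₀ : a₀ ∉ p.asIdeal := fun h => hp (p.asIdeal.mul_mem_right _ h)
  have hpc : c ∉ p.asIdeal := fun h => hp (p.asIdeal.mul_mem_left _ h)
  have hpr : p ∈ Set.range (PrimeSpectrum.comap (algebraMap A (Localization.Away a₀))) := by
    rw [PrimeSpectrum.localization_away_comap_range (Localization.Away a₀) a₀]
    exact hpa₀
  obtain ⟨p₁, rfl⟩ := hpr
  have hp₁ : a₁ ∉ p₁.asIdeal := by
    intro h
    apply hpc
    show algebraMap A (Localization.Away a₀) c ∈ p₁.asIdeal
    rw [← hc]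
    exact p₁.asIdeal.mul_mem_right _ h
  have h3 := hD p₁ hp₁
  rw [hBC] at h3
  exact h3

set_option backward.isDefEq.respectTransparency.types false in
/-- over the spectrum of a domain. -/
theorem exists_basicOpen_of_Spec (A : Type u) [CommRing A] [IsDomain A] {X : Scheme.{u}}
    (f : X ⟶ Spec (CommRingCat.of A)) [LocallyOfFiniteType f] [QuasiCompact f]
    (h : (⟨⊥, Ideal.isPrime_bot⟩ : PrimeSpectrum A) ∈ grLocus f) :
    ∃ a : A, a ≠ 0 ∧ ∀ p : PrimeSpectrum A, a ∉ p.asIdeal → p ∈ grLocus f := by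
  classical
  haveI : CompactSpace X := QuasiCompact.compactSpace_of_compactSpace f
  let 𝒰 := X.affineCover.finiteSubcover
  haveI : ∀ i, IsAffine (𝒰.X i) := fun i => by dsimp [𝒰]; infer_instance
  have hLS := grLocus_eq_iInter_of_openCover f 𝒰
  have key : ∀ i, ∃ a : A, a ≠ 0 ∧ ∀ p : PrimeSpectrum A, a ∉ p.asIdeal →
      p ∈ grLocus (𝒰.f i ≫ f) := by
    intro i
    obtain ⟨g, hg⟩ : ∃ g : 𝒰.X i ⟶ Spec (CommRingCat.of A), g = 𝒰.f i ≫ f := ⟨_, rfl⟩
    haveI : LocallyOfFiniteType g := by rw [hg]; infer_instance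
    rw [← hg]
    obtain ⟨φ, hφ⟩ : ∃ φ : CommRingCat.of A ⟶ Γ(𝒰.X i, ⊤),
        φ = (Scheme.ΓSpecIso (CommRingCat.of A)).inv ≫ g.appTop := ⟨_, rfl⟩
    have hgφ : g = (𝒰.X i).isoSpec.hom ≫ Spec.map φ := by
      rw [hφ, Spec.map_comp, ← Category.assoc, Scheme.isoSpec_hom_naturality g,
        Scheme.isoSpec_Spec_hom, Category.assoc, ← Spec.map_comp, Iso.inv_hom_id, Spec.map_id,
        Category.comp_id]
    letI : Algebra A Γ(𝒰.X i, ⊤) := φ.hom.toAlgebra
    haveI : Algebra.FiniteType A Γ(𝒰.X i, ⊤) := by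
      have h1 : LocallyOfFiniteType (Spec.map φ) := by
        have h2 : Spec.map φ = (𝒰.X i).isoSpec.inv ≫ g := by rw [hgφ, Iso.inv_hom_id_assoc]
        rw [h2]; infer_instance
      rw [HasRingHomProperty.Spec_iff (P := @LocallyOfFiniteType)] at h1
      exact h1
    have hloc : grLocus g =
        grLocus (Spec.map (CommRingCat.ofHom (algebraMap A Γ(𝒰.X i, ⊤)))) := by
      rw [hgφ]
      exact grLocus_iso_comp _ _
    rw [hloc]
    apply exists_basicOpen_subset_grLocus
    rw [← hloc, hg]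
    have h3 := h
    rw [hLS] at h3
    exact Set.mem_iInter.mp h3 i
  choose a ha0 ha using key
  refine ⟨∏ i, a i, Finset.prod_ne_zero_iff.mpr (fun i _ => ha0 i), fun p hp => ?_⟩
  rw [hLS]
  refine Set.mem_iInter.mpr (fun i => ha i p (fun hi => hp ?_))
  obtain ⟨d, hd⟩ := Finset.dvd_prod_of_mem a (Finset.mem_univ i)
  rw [hd]
  exact p.asIdeal.mul_mem_right _ hi

set_option backward.isDefEq.respectTransparency.types false in
/-- over an integral scheme. -/
theorem exists_open_of_isIntegral {X Z : Scheme.{u}} (f : X ⟶ Z) [IsIntegral Z]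
    [LocallyOfFiniteType f] [QuasiCompact f] (h : genericPoint Z ∈ grLocus f) :
    ∃ V : Z.Opens, (V : Set Z).Nonempty ∧ (V : Set Z) ⊆ grLocus f := by
  obtain ⟨W, hW, hηW, -⟩ := exists_isAffineOpen_mem_and_subset (x := genericPoint Z)
    (U := ⊤) trivial
  haveI : IsDomain Γ(Z, W) := @IsIntegral.component_integral Z _ W ⟨⟨_, hηW⟩⟩
  have hBC := grLocus_of_isPullback f (pullback.snd f hW.fromSpec) (pullback.fst f hW.fromSpec)
    hW.fromSpec (IsPullback.of_hasPullback f hW.fromSpec)
  have hj : hW.fromSpec (⟨⊥, Ideal.isPrime_bot⟩ : PrimeSpectrum Γ(Z, W)) = genericPoint Z := by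
    have hr : genericPoint Z ∈ Set.range hW.fromSpec := by rw [hW.range_fromSpec]; exact hηW
    obtain ⟨p₀, hp₀⟩ := hr
    have h0 : (⟨⊥, Ideal.isPrime_bot⟩ : PrimeSpectrum Γ(Z, W)) ⤳ p₀ :=
      (PrimeSpectrum.le_iff_specializes _ _).mp (show (⊥ : Ideal Γ(Z, W)) ≤ p₀.asIdeal from bot_le)
    have h1 : hW.fromSpec (⟨⊥, Ideal.isPrime_bot⟩ : PrimeSpectrum Γ(Z, W)) ⤳ genericPoint Z := by
      rw [← hp₀]
      exact h0.map hW.fromSpec.continuous
    have h2 : genericPoint Z ⤳ hW.fromSpec (⟨⊥, Ideal.isPrime_bot⟩ : PrimeSpectrum Γ(Z, W)) :=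
      (genericPoint_spec Z).specializes (Set.mem_univ _)
    exact (h1.antisymm h2).eq
  have hη' : (⟨⊥, Ideal.isPrime_bot⟩ : PrimeSpectrum Γ(Z, W)) ∈
      grLocus (pullback.snd f hW.fromSpec) := by
    rw [hBC]
    show hW.fromSpec _ ∈ grLocus f
    rw [hj]
    exact h
  obtain ⟨a, ha, hD⟩ := exists_basicOpen_of_Spec Γ(Z, W) (pullback.snd f hW.fromSpec) hη'
  have hmem : ∀ p : PrimeSpectrum Γ(Z, W), hW.fromSpec p ∈ Z.basicOpen a ↔ a ∉ p.asIdeal := by
    intro p
    have h1 : hW.fromSpec p ∈ Z.basicOpen a ↔ p ∈ hW.fromSpec ⁻¹ᵁ Z.basicOpen a := Iff.rfl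
    rw [h1, hW.fromSpec_preimage_basicOpen]
    rfl
  refine ⟨Z.basicOpen a, ⟨hW.fromSpec ⟨⊥, Ideal.isPrime_bot⟩, ?_⟩, ?_⟩
  · exact (hmem _).mpr (fun h0 => ha (by simpa using h0))
  · intro z hz
    have hzW : z ∈ W := Z.basicOpen_le a hz
    have hr : z ∈ Set.range hW.fromSpec := by rw [hW.range_fromSpec]; exact hzW
    obtain ⟨p, rfl⟩ := hr
    have h3 := hD p ((hmem p).mp hz)
    rw [hBC] at h3
    exact h3

/-- over an irreducible scheme. -/
theorem exists_open_of_irreducible {X Y : Scheme.{u}} (f : X ⟶ Y) [IrreducibleSpace Y]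
    [LocallyOfFiniteType f] [QuasiCompact f] (h : genericPoint Y ∈ grLocus f) :
    ∃ V : Y.Opens, (V : Set Y).Nonempty ∧ (V : Set Y) ⊆ grLocus f := by
  obtain ⟨Z, i, hi, hr, hZ⟩ := Groth.Agent.H1.ConsFib.exists_integral_closedImmersion Y Set.univ
    isClosed_univ (IrreducibleSpace.isIrreducible_univ Y)
  have hsurj : Function.Surjective i := Set.range_eq_univ.mp hr
  have hBC := grLocus_of_isPullback f (pullback.snd f i) (pullback.fst f i) i
    (IsPullback.of_hasPullback f i)
  have hiη : i (genericPoint Z) = genericPoint Y := by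
    have h1 : genericPoint Y ⤳ i (genericPoint Z) :=
      (genericPoint_spec Y).specializes (Set.mem_univ _)
    obtain ⟨z₀, hz₀⟩ := hsurj (genericPoint Y)
    have h2 : i (genericPoint Z) ⤳ genericPoint Y := by
      rw [← hz₀]
      exact ((genericPoint_spec Z).specializes (Set.mem_univ z₀)).map i.continuous
    exact (h2.antisymm h1).eq
  have hηZ : genericPoint Z ∈ grLocus (pullback.snd f i) := by
    rw [hBC]
    show i _ ∈ grLocus f
    rw [hiη]
    exact h
  obtain ⟨V, hVne, hV⟩ := exists_open_of_isIntegral (pullback.snd f i) hηZ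
  let e := i.isEmbedding.toHomeomorphOfSurjective hsurj
  refine ⟨⟨i '' (V : Set Z), e.isOpenMap _ V.isOpen⟩, hVne.image _, ?_⟩
  rintro _ ⟨z, hz, rfl⟩
  have h3 := hV hz
  rw [hBC] at h3
  exact h3

/-- **S0434**. -/
theorem main0434 {X Y : Scheme.{u}} (f : X ⟶ Y) [IrreducibleSpace Y] [LocallyOfFiniteType f]
    [QuasiCompact f] (h : GeometricallyReduced (f.fiberToSpecResidueField (genericPoint Y))) :
    ∃ V : Y.Opens, (V : Set Y).Nonempty ∧ GeometricallyReduced (f ∣_ V) := by
  obtain ⟨V, hVne, hV⟩ := exists_open_of_irreducible f h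
  refine ⟨V, hVne, ?_⟩
  rw [geometricallyReduced_iff, geometrically_iff_forall_fiberToSpecResidueField]
  intro v
  have hBC : grLocus (f ∣_ V) = V.ι ⁻¹' grLocus f :=
    grLocus_of_isPullback f (f ∣_ V) (f ⁻¹ᵁ V).ι V.ι (isPullback_morphismRestrict f V).flip
  have h1 : v ∈ grLocus (f ∣_ V) := by rw [hBC]; exact hV v.2
  exact (geometricallyReduced_iff _).mp h1

end Groth.Agent.H1.GRedGeneric
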