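import Mathlib
import Groth.Agent.Lib.Helper1.GRedLocus
import Groth.Agent.Lib.Helper1.BCStalkApp
import Groth.Agent.Lib.Helper1.BCStalkRed
import Groth.Agent.Lib.Helper5.DF.DF11

/-!
# Pointwise geometric reducedness of fibres (helper1)

* `grAt f`: the set of points `x` of `X` such that the fibre of `f` through `x` is geometrically
  reduced at `x`;
* `mem_grAt_iff_test`: test-pullback characterisation;
* `grAt_of_isPullback`: compatibility with arbitrary base change;
* `grAt_comp_of_isOpenImmersion`: locality on the source;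
* `grAt_of_specializes`, `geometricallyReduced_fiber_iff`, `mem_smoothLocus_of_flat_maxPt`.
-/

set_option autoImplicit false
set_option linter.style.haveILetI false
universe u

open TensorProduct AlgebraicGeometry CategoryTheory CategoryTheory.Limits Topology

namespace Groth.Agent.H1.GRedPt

/-- the set of points at which the fibre through the point is geometrically reduced. -/
def grAt {X Y : Scheme.{u}} (f : X ⟶ Y) : Set X :=
  {x | FBase.IsGeomReducedAt (f.fiberToSpecResidueField (f x)) (f.asFiber x)}

theorem mem_grAt_iff_fiber {X Y : Scheme.{u}} (f : X ⟶ Y) (x : X) (y : Y) (hy : f x = y)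
    (z : f.fiber y) (hz : f.fiberι y z = x) :
    x ∈ grAt f ↔ FBase.IsGeomReducedAt (f.fiberToSpecResidueField y) z := by
  subst hy
  have h : z = f.asFiber x :=
    (f.fiberι (f x)).isEmbedding.injective (by rw [hz, Scheme.Hom.fiberι_asFiber])
  subst h
  exact Iff.rfl

theorem isReduced_stalk_iff_of_isOpenImmersion {Z W : Scheme.{u}} (u : Z ⟶ W)
    [IsOpenImmersion u] (z : Z) :
    _root_.IsReduced (W.presheaf.stalk (u z)) ↔ _root_.IsReduced (Z.presheaf.stalk z) := by
  have e : W.presheaf.stalk (u z) ≃+* Z.presheaf.stalk z :=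
    (asIso (u.stalkMap z)).commRingCatIsoToRingEquiv
  exact ⟨fun h => by haveI := h; exact isReduced_of_injective e.symm e.symm.injective,
    fun h => by haveI := h; exact isReduced_of_injective e e.injective⟩

set_option backward.isDefEq.respectTransparency false in
/-- test-pullback characterisation of pointwise geometric reducedness of the fibre. -/
theorem mem_grAt_iff_test {X Y : Scheme.{u}} (f : X ⟶ Y) (x : X) :
    x ∈ grAt f ↔ ∀ (K : Type u) [Field K] (g : Spec (CommRingCat.of K) ⟶ Y)
      ⦃Z : Scheme.{u}⦄ (fst : Z ⟶ X) (snd : Z ⟶ Spec (CommRingCat.of K)),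
      IsPullback fst snd f g → ∀ z : Z, fst z = x → _root_.IsReduced (Z.presheaf.stalk z) := by
  constructor
  · intro H K _ g Z fst snd h z hz
    obtain ⟨⟨y', φ⟩, rfl⟩ := (Scheme.SpecToEquivOfField _ _).symm.surjective g
    have hy' : y' = f x := by
      have h1 : f (fst z) = ((Scheme.SpecToEquivOfField _ _).symm ⟨y', φ⟩) (snd z) := by
        rw [← Scheme.Hom.comp_apply, ← Scheme.Hom.comp_apply, h.w]
      rw [hz] at h1
      rw [h1]
      simp [Scheme.SpecToEquivOfField]
    subst hy'
    letI : Algebra (IsLocalRing.ResidueField (Y.presheaf.stalk (f x))) K := φ.hom.toAlgebra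
    let p : Z ⟶ f.fiber (f x) :=
      pullback.lift fst (snd ≫ Spec.map φ) (by simp [h.w, Scheme.SpecToEquivOfField])
    have hp : IsPullback p snd (f.fiberToSpecResidueField (f x)) (Spec.map φ) := by
      simp only [Scheme.SpecToEquivOfField, Equiv.coe_fn_symm_mk] at h
      refine .flip (.of_bot (.flip ?_) ?_
        (IsPullback.of_hasPullback f (Y.fromSpecResidueField (f x))).flip)
      · convert! h
        simp [p]
      · simp [p, Scheme.Hom.fiberToSpecResidueField]
    have hpz : p z = f.asFiber x := by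
      apply (f.fiberι (f x)).isEmbedding.injective
      rw [Scheme.Hom.fiberι_asFiber, ← Scheme.Hom.comp_apply]
      have : p ≫ f.fiberι (f x) = fst := pullback.lift_fst _ _ _
      rw [this, hz]
    have hp' : IsPullback p snd (f.fiberToSpecResidueField (f x))
        (Spec.map (CommRingCat.ofHom
          (algebraMap (IsLocalRing.ResidueField (Y.presheaf.stalk (f x))) K))) := hp
    obtain ⟨e, he⟩ : ∃ e : Z ≅ FBase.bc (f.fiberToSpecResidueField (f x)) K,
        e.hom ≫ FBase.bcπ (f.fiberToSpecResidueField (f x)) K = p :=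
      ⟨hp'.isoPullback, hp'.isoPullback_hom_fst⟩
    have hx' : (FBase.bcπ (f.fiberToSpecResidueField (f x)) K).base (e.hom z) = f.asFiber x := by
      rw [← hpz, ← he]
      rfl
    have hred := H K (e.hom z) hx'
    exact (isReduced_stalk_iff_of_isOpenImmersion e.hom z).mp hred
  · intro H K _ _ x' hx'
    refine H K (Spec.map (CommRingCat.ofHom (algebraMap _ K)) ≫ Y.fromSpecResidueField (f x))
      (FBase.bcπ _ K ≫ f.fiberι (f x)) (FBase.bcStr _ K) ?_ x' ?_
    · exact (IsPullback.of_hasPullback _ _).paste_horiz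
        (IsPullback.of_hasPullback f (Y.fromSpecResidueField (f x)))
    · rw [Scheme.Hom.comp_apply]
      rw [hx', Scheme.Hom.fiberι_asFiber]

/-- compatibility of `grAt` with base change. -/
theorem grAt_of_isPullback {X Y X' Y' : Scheme.{u}} (f : X ⟶ Y) (f' : X' ⟶ Y') (g' : X' ⟶ X)
    (g : Y' ⟶ Y) (hc : IsPullback g' f' f g) : grAt f' = g' ⁻¹' grAt f := by
  ext x'
  rw [Set.mem_preimage]
  constructor
  · intro hx'
    rw [mem_grAt_iff_test] at hx' ⊢
    intro K _ h Z fst snd sq z hz
    obtain ⟨w, hw1, hw2⟩ :=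
      Scheme.Pullback.exists_preimage_pullback (f := g') (g := fst) x' z hz.symm
    -- the residue field at `w`
    obtain ⟨i, hi⟩ : ∃ i : Spec ((pullback g' fst).residueField w) ⟶ pullback g' fst,
        ∀ pt, i pt = w :=
      ⟨(pullback g' fst).fromSpecResidueField w, fun pt =>
        Scheme.fromSpecResidueField_apply w pt⟩
    obtain ⟨h', hh'⟩ : ∃ h' : Spec ((pullback g' fst).residueField w) ⟶ Y',
        h' = i ≫ pullback.fst g' fst ≫ f' := ⟨_, rfl⟩
    obtain ⟨k, hk'⟩ : ∃ k : Spec ((pullback g' fst).residueField w) ⟶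
        Spec (CommRingCat.of K), k = i ≫ pullback.snd g' fst ≫ snd := ⟨_, rfl⟩
    have hk : h' ≫ g = k ≫ h := by
      rw [hh', hk']
      simp only [Category.assoc]
      rw [← hc.w, ← sq.w, pullback.condition_assoc]
    have sq' := IsPullback.of_hasPullback f' h'
    obtain ⟨s, hs1, hs2⟩ : ∃ s : Spec ((pullback g' fst).residueField w) ⟶
        pullback f' h', s ≫ pullback.fst f' h' = i ≫ pullback.fst g' fst ∧
          s ≫ pullback.snd f' h' = 𝟙 _ :=
      ⟨pullback.lift (i ≫ pullback.fst g' fst) (𝟙 _) (by rw [hh']; simp),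
        pullback.lift_fst _ _ _, pullback.lift_snd _ _ _⟩
    obtain ⟨pt⟩ : Nonempty ↥(Spec ((pullback g' fst).residueField w)) :=
      ⟨(⟨⊥, Ideal.isPrime_bot⟩ : PrimeSpectrum ((pullback g' fst).residueField w))⟩
    have hz'1 : (pullback.fst f' h') (s pt) = x' := by
      rw [← Scheme.Hom.comp_apply, hs1, Scheme.Hom.comp_apply, hi, hw1]
    have hred : _root_.IsReduced ((pullback f' h').presheaf.stalk (s pt)) :=
      hx' _ h' (pullback.fst f' h') (pullback.snd f' h') sq' (s pt) hz'1
    -- the comparison map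
    obtain ⟨u, hu1, hu2⟩ : ∃ u : pullback f' h' ⟶ Z, u ≫ fst = pullback.fst f' h' ≫ g' ∧
        u ≫ snd = pullback.snd f' h' ≫ k := by
      have hcomm : (pullback.fst f' h' ≫ g') ≫ f = (pullback.snd f' h' ≫ k) ≫ h := by
        rw [Category.assoc, hc.w, ← Category.assoc, pullback.condition, Category.assoc, hk,
          Category.assoc]
      exact ⟨sq.lift _ _ hcomm, sq.lift_fst _ _ hcomm, sq.lift_snd _ _ hcomm⟩
    have hsu : s ≫ u = i ≫ pullback.snd g' fst := by
      apply sq.hom_ext
      · rw [Category.assoc, hu1, ← Category.assoc, hs1, Category.assoc, Category.assoc,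
          pullback.condition]
      · rw [Category.assoc, hu2, ← Category.assoc, hs2, Category.id_comp, hk', Category.assoc]
    have hz'2 : u (s pt) = z := by
      rw [← Scheme.Hom.comp_apply, hsu, Scheme.Hom.comp_apply, hi, hw2]
    have outer : IsPullback (u ≫ fst) (pullback.snd f' h') f (k ≫ h) := by
      rw [hu1, ← hk]
      exact sq'.paste_horiz hc
    have left : IsPullback u (pullback.snd f' h') snd k := IsPullback.of_right outer hu2 sq
    haveI : Flat k := by
      obtain ⟨φ, rfl⟩ := Spec.map_surjective k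
      rw [HasRingHomProperty.Spec_iff (P := @Flat)]
      exact Groth.Agent.H5.Kunneth.flat_of_field_source (Field.toIsField K) φ.hom
    haveI : Flat u := MorphismProperty.of_isPullback (P := @Flat) left.flip inferInstance
    have hinj := Groth.Agent.H1.GeomFiber.stalkMap_injective u (s pt)
    subst hz'2
    haveI := hred
    exact isReduced_of_injective (u.stalkMap (s pt)).hom hinj
  · intro hx
    rw [mem_grAt_iff_test] at hx ⊢
    intro K _ h Z fst snd sq z hz
    exact hx K (h ≫ g) (fst ≫ g') snd (sq.paste_horiz hc) z (by rw [Scheme.Hom.comp_apply, hz])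

/-- locality of `grAt` on the source. -/
theorem grAt_comp_of_isOpenImmersion {U X Y : Scheme.{u}} (j : U ⟶ X) [IsOpenImmersion j]
    (f : X ⟶ Y) : grAt (j ≫ f) = j ⁻¹' grAt f := by
  ext x
  rw [Set.mem_preimage, mem_grAt_iff_test, mem_grAt_iff_test]
  constructor
  · intro H K _ g Z fst snd sq z hz
    obtain ⟨w, hw1, hw2⟩ :=
      Scheme.Pullback.exists_preimage_pullback (f := j) (g := fst) x z hz.symm
    have sqU : IsPullback (pullback.fst j fst) (pullback.snd j fst ≫ snd) (j ≫ f) g :=
      ((IsPullback.of_hasPullback j fst).flip.paste_horiz sq.flip).flip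
    have hred := H K g (pullback.fst j fst) (pullback.snd j fst ≫ snd) sqU w hw1
    have := (isReduced_stalk_iff_of_isOpenImmersion (pullback.snd j fst) w).mpr hred
    rwa [hw2] at this
  · intro H K _ g ZU fstU sndU sqU z hz
    obtain ⟨u, hu1, hu2⟩ : ∃ u : ZU ⟶ pullback f g, u ≫ pullback.fst f g = fstU ≫ j ∧
        u ≫ pullback.snd f g = sndU := by
      have hcomm : (fstU ≫ j) ≫ f = sndU ≫ g := by rw [Category.assoc]; exact sqU.w
      exact ⟨pullback.lift _ _ hcomm, pullback.lift_fst _ _ hcomm, pullback.lift_snd _ _ hcomm⟩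
    have left : IsPullback u fstU (pullback.fst f g) j := by
      refine IsPullback.of_right (h₁₂ := pullback.snd f g) (v₁₃ := g) (h₂₂ := f) ?_ hu1
        (IsPullback.of_hasPullback f g).flip
      rw [hu2]
      exact sqU.flip
    haveI : IsOpenImmersion u :=
      MorphismProperty.of_isPullback (P := @IsOpenImmersion) left.flip inferInstance
    have hred := H K g (pullback.fst f g) (pullback.snd f g) (IsPullback.of_hasPullback f g) (u z)
      (by rw [← Scheme.Hom.comp_apply, hu1, Scheme.Hom.comp_apply, hz])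
    exact (isReduced_stalk_iff_of_isOpenImmersion u z).mp hred

open Groth.Agent.H1.BCStalk in
/-- `grAt` is stable under generization inside a fibre. -/
theorem grAt_of_specializes {X Y : Scheme.{u}} (f : X ⟶ Y) {x x' : X} (h : x' ⤳ x)
    (hf : f x' = f x) (hx : x ∈ grAt f) : x' ∈ grAt f := by
  obtain ⟨z', hz'⟩ : ∃ z' : f.fiber (f x), f.fiberι (f x) z' = x' := by
    have : x' ∈ Set.range (f.fiberι (f x)) := by rw [Scheme.Hom.range_fiberι]; exact hf
    exact this
  rw [mem_grAt_iff_fiber f x' (f x) hf z' hz']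
  have hsp : z' ⤳ f.asFiber x := by
    rw [← (f.fiberι (f x)).isEmbedding.toIsInducing.specializes_iff, hz',
      Scheme.Hom.fiberι_asFiber]
    exact h
  letI : (f.fiber (f x)).Over (Spec (CommRingCat.of (Y.residueField (f x)))) :=
    ⟨f.fiberToSpecResidueField (f x)⟩
  exact s1542 (Y.residueField (f x)) (f.fiber (f x)) (f.asFiber x) z' hsp hx

open Groth.Agent.H1.BCStalk in
/-- a fibre is geometrically reduced iff it is so at each of its points. -/
theorem geometricallyReduced_fiber_iff {X Y : Scheme.{u}} (f : X ⟶ Y) (y : Y) :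
    GeometricallyReduced (f.fiberToSpecResidueField y) ↔ ∀ x, f x = y → x ∈ grAt f := by
  letI : (f.fiber y).Over (Spec (CommRingCat.of (Y.residueField y))) :=
    ⟨f.fiberToSpecResidueField y⟩
  have h0 := geometricallyReduced_iff_forall (Y.residueField y) (f.fiber y)
  constructor
  · intro h x hx
    obtain ⟨z, hz⟩ : ∃ z : f.fiber y, f.fiberι y z = x := by
      have : x ∈ Set.range (f.fiberι y) := by rw [Scheme.Hom.range_fiberι]; exact hx
      exact this
    rw [mem_grAt_iff_fiber f x y hx z hz]
    exact h0.mp h z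
  · intro h
    refine h0.mpr fun z => ?_
    have hz : f (f.fiberι y z) = y := Groth.Agent.H1.GenFib.fiberι_apply_mem f y z
    exact (mem_grAt_iff_fiber f _ y hz z rfl).mp (h _ hz)

open Groth.Agent.H9.FlatDense Groth.Agent.H1.SmoothReg Groth.Agent.H1.BCStalk in
set_option backward.isDefEq.respectTransparency.types false in
/-- a flat point which is maximal in its fibre and at which the fibre is geometrically reduced is
a smooth point. -/
theorem mem_smoothLocus_of_flat_maxPt {X Y : Scheme.{u}} (f : X ⟶ Y)
    [LocallyOfFinitePresentation f] (x : X) (hflat : (f.stalkMap x).hom.Flat)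
    (hmax : ∀ x' : X, f x' = f x → x' ⤳ x → x' = x)
    (hgr : x ∈ grAt f) : x ∈ f.smoothLocus := by
  haveI : LocallyOfFinitePresentation (f.fiberToSpecResidueField (f x)) :=
    MorphismProperty.pullback_snd (P := @LocallyOfFinitePresentation) _ _ ‹_›
  have hz : f.fiberι (f x) (f.asFiber x) = x := Scheme.Hom.fiberι_asFiber f x
  rw [H5.DF.mem_smoothLocus_iff_fiber f x (f x) rfl (f.asFiber x) hz]
  refine ⟨hflat, ?_⟩
  have hzmax : IsMaxPt (f.asFiber x) := by
    intro z' hz'
    have h1 : f.fiberι (f x) z' ⤳ f.fiberι (f x) (f.asFiber x) :=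
      hz'.map (f.fiberι (f x)).continuous
    rw [hz] at h1
    have h2 : f (f.fiberι (f x) z') = f x := Groth.Agent.H1.GenFib.fiberι_apply_mem f (f x) z'
    have h3 := hmax _ h2 h1
    have h4 : z' = f.asFiber x :=
      (f.fiberι (f x)).isEmbedding.injective (by rw [h3, hz])
    rw [h4]
  letI : (f.fiber (f x)).Over (Spec (CommRingCat.of (Y.residueField (f x)))) :=
    ⟨f.fiberToSpecResidueField (f x)⟩
  exact Groth.Agent.H6.GenSmooth.mem_smoothLocus_of_isMaxPt (Y.residueField (f x))
    (f.fiberToSpecResidueField (f x)) (f.asFiber x) hzmax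
    ((s1541 _ _ (f.asFiber x)).mp hgr)

end Groth.Agent.H1.GRedPt
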