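import Mathlib
import Groth.Agent.Lib.Helper1.GRedPt
import Groth.Agent.Lib.Helper1.RegCut
import Groth.Agent.Lib.Helper1.LimFlat5

/-!
# Openness of the pointwise geometrically reduced locus: the affine case (helper1)

For a flat finitely presented ring map `A → B` and a prime `q` of `B` at which the fibre is
geometrically reduced, there is `t ∉ q` such that `L ⊗[A] B_t` is reduced for all fields `L`
over `A` (`exists_away_reduced`).  Consequently `grAt (Spec B ⟶ Spec A)` is open
(`isOpen_grAt_Spec`).
-/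

set_option autoImplicit false
set_option linter.style.haveILetI false
universe u

open TensorProduct AlgebraicGeometry CategoryTheory CategoryTheory.Limits Topology

namespace Groth.Agent.H1.GRedPtAff

open Groth.Agent.H1.GRedPt Groth.Agent.H1.GRedCore Groth.Agent.H1.GRedLocus

variable (A B : Type u) [CommRing A] [CommRing B] [Algebra A B]

set_option backward.isDefEq.respectTransparency.types false in
/-- the local rings of `L ⊗ B` above a point of `grAt` are reduced. -/
theorem isReduced_localization_of_mem_grAt (q : PrimeSpectrum B)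
    (hq : q ∈ grAt (Spec.map (CommRingCat.ofHom (algebraMap A B))))
    (L : Type u) [Field L] [Algebra A L] (Q : PrimeSpectrum (L ⊗[A] B))
    (hQ : Q.asIdeal.comap (Algebra.TensorProduct.includeRight : B →ₐ[A] L ⊗[A] B) = q.asIdeal) :
    _root_.IsReduced (Localization.AtPrime Q.asIdeal) := by
  have hq' := (mem_grAt_iff_test _ _).mp hq
  have sq := (isPullback_SpecMap_of_isPushout _ _ _ _
    (CommRingCat.isPushout_tensorProduct A L B)).flip
  have h1 := hq' L (Spec.map (CommRingCat.ofHom (algebraMap A L))) _ _ sq Q (by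
    apply PrimeSpectrum.ext
    exact hQ)
  have e := (Spec.stalkIso (CommRingCat.of (L ⊗[A] B)) Q).commRingCatIsoToRingEquiv
  haveI := h1
  exact isReduced_of_injective e.symm e.symm.injective

set_option backward.isDefEq.respectTransparency.types false in
/-- smoothness of `(B_t)_g` when `D(g)` lies in the smooth locus. -/
theorem smooth_away_away [Algebra.FinitePresentation A B] (g t : B)
    [LocallyOfFinitePresentation (Spec.map (CommRingCat.ofHom (algebraMap A B)))]
    (hDg : ∀ x : PrimeSpectrum B, g ∉ x.asIdeal →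
      x ∈ (Spec.map (CommRingCat.ofHom (algebraMap A B))).smoothLocus) :
    Algebra.Smooth A (Localization.Away (algebraMap B (Localization.Away t) g)) := by
  haveI : LocallyOfFinitePresentation
      (Spec.map (CommRingCat.ofHom (algebraMap A (Localization.Away t)))) := by
    rw [HasRingHomProperty.Spec_iff (P := @LocallyOfFinitePresentation), CommRingCat.hom_ofHom,
      RingHom.finitePresentation_algebraMap]
    infer_instance
  apply smooth_away A (Localization.Away t)
  intro x hx
  set f := Spec.map (CommRingCat.ofHom (algebraMap A B)) with hf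
  set j := Spec.map (CommRingCat.ofHom (algebraMap B (Localization.Away t))) with hj
  have hjf : Spec.map (CommRingCat.ofHom (algebraMap A (Localization.Away t))) = j ≫ f := by
    rw [hj, hf, ← Spec.map_comp, ← CommRingCat.ofHom_comp, ← IsScalarTower.algebraMap_eq]
  have h1 : j x ∈ f.smoothLocus := hDg _ (fun h => hx h)
  have h2 : x ∈ j ⁻¹ᵁ f.smoothLocus := h1
  rw [Scheme.Hom.preimage_smoothLocus_eq] at h2
  have key : ∀ (φ : Spec (CommRingCat.of (Localization.Away t)) ⟶ Spec (CommRingCat.of A))
      [LocallyOfFinitePresentation φ], φ = j ≫ f → x ∈ φ.smoothLocus := by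
    intro φ _ h
    subst h
    exact h2
  exact key _ hjf

set_option backward.isDefEq.respectTransparency.types false in
/-- **the affine core**: spreading out pointwise geometric reducedness. -/
theorem exists_away_reduced [Algebra.FinitePresentation A B] [Module.Flat A B]
    (q : PrimeSpectrum B) (hq : q ∈ grAt (Spec.map (CommRingCat.ofHom (algebraMap A B)))) :
    ∃ t : B, t ∉ q.asIdeal ∧ ∀ (L : Type u) [Field L] [Algebra A L],
      _root_.IsReduced (L ⊗[A] Localization.Away t) := by
  classical
  set f := Spec.map (CommRingCat.ofHom (algebraMap A B)) with hf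
  haveI hlfp : LocallyOfFinitePresentation f := by
    rw [hf, HasRingHomProperty.Spec_iff (P := @LocallyOfFinitePresentation), CommRingCat.hom_ofHom,
      RingHom.finitePresentation_algebraMap]
    infer_instance
  haveI hfl : Flat f := by
    rw [hf, HasRingHomProperty.Spec_iff (P := @Flat), CommRingCat.hom_ofHom,
      RingHom.flat_algebraMap_iff]
    infer_instance
  obtain ⟨p, hp⟩ : ∃ p : Ideal A, p = q.asIdeal.comap (algebraMap A B) := ⟨_, rfl⟩
  haveI hpp : p.IsPrime := by rw [hp]; infer_instance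
  haveI hqp : q.asIdeal.LiesOver p := ⟨hp⟩
  obtain ⟨ι, hι⟩ : ∃ ι : B →ₐ[A] p.Fiber B, ι = Algebra.TensorProduct.includeRight := ⟨_, rfl⟩
  obtain ⟨e, he⟩ : ∃ e : p.primesOver B ≃o PrimeSpectrum (p.Fiber B),
      ∀ Q, ((e.symm Q : p.primesOver B) : Ideal B) = Q.asIdeal.comap ι :=
    ⟨PrimeSpectrum.primesOverOrderIsoFiber A B p, fun Q => by rw [hι]; rfl⟩
  obtain ⟨Q, hQ⟩ : ∃ Q : PrimeSpectrum (p.Fiber B), Q = e ⟨q.asIdeal, q.isPrime, hqp⟩ := ⟨_, rfl⟩
  have hQq : Q.asIdeal.comap ι = q.asIdeal := by
    rw [← he Q, hQ, e.symm_apply_apply]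
  -- the fibre ring is Noetherian
  haveI : IsNoetherianRing (p.Fiber B) :=
    Algebra.FiniteType.isNoetherianRing p.ResidueField (p.Fiber B)
  have hfin : (minimalPrimes (p.Fiber B)).Finite := minimalPrimes.finite_of_isNoetherianRing _
  obtain ⟨T, hT⟩ : ∃ T : Finset (Ideal B), ∀ P, P ∈ T ↔
      ∃ P' ∈ minimalPrimes (p.Fiber B), P' ≤ Q.asIdeal ∧ P'.comap ι = P := by
    have hS : ((fun P' : Ideal (p.Fiber B) => P'.comap ι) ''
        {P' | P' ∈ minimalPrimes (p.Fiber B) ∧ P' ≤ Q.asIdeal}).Finite :=
      (hfin.subset (fun _ h => h.1)).image _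
    refine ⟨hS.toFinset, fun P => ?_⟩
    rw [Set.Finite.mem_toFinset]
    constructor
    · rintro ⟨P', ⟨h1, h2⟩, rfl⟩
      exact ⟨P', h1, h2, rfl⟩
    · rintro ⟨P', h1, h2, rfl⟩
      exact ⟨P', ⟨h1, h2⟩, rfl⟩
  -- the maximal points of the fibre through `q` are smooth points
  have hkey : ∀ P' ∈ minimalPrimes (p.Fiber B), P' ≤ Q.asIdeal →
      ∃ x : PrimeSpectrum B, x.asIdeal = P'.comap ι ∧ x.asIdeal ≤ q.asIdeal ∧
        x.asIdeal.comap (algebraMap A B) = p ∧ x ∈ f.smoothLocus := by
    intro P' hP' hle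
    haveI hP'p : P'.IsPrime := hP'.1.1
    obtain ⟨P0, hP0⟩ : ∃ P0 : p.primesOver B, P0 = e.symm ⟨P', hP'p⟩ := ⟨_, rfl⟩
    have hP0c : (P0 : Ideal B) = P'.comap ι := by rw [hP0, he]
    have hP0prime : (P0 : Ideal B).IsPrime := P0.2.1
    have hP0over : (P0 : Ideal B).comap (algebraMap A B) = p := (P0.2.2.over).symm
    have hP0le : (P0 : Ideal B) ≤ q.asIdeal := by
      rw [hP0c, ← hQq]
      exact Ideal.comap_mono hle
    have hfP0 : f (⟨P0, hP0prime⟩ : PrimeSpectrum B) = f q := by
      apply PrimeSpectrum.ext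
      change Ideal.comap (algebraMap A B) (P0 : Ideal B) = Ideal.comap (algebraMap A B) q.asIdeal
      rw [hP0over, hp]
    refine ⟨⟨P0, hP0prime⟩, hP0c, hP0le, hP0over, ?_⟩
    apply mem_smoothLocus_of_flat_maxPt f
    · exact Flat.stalkMap f _
    · intro x' hx'f hx'sp
      have hle' : (x' : PrimeSpectrum B).asIdeal ≤ (P0 : Ideal B) :=
        (PrimeSpectrum.le_iff_specializes (R := B) x' ⟨P0, hP0prime⟩).mpr hx'sp
      have hov : (x' : PrimeSpectrum B).asIdeal.comap (algebraMap A B) = p := by
        have h1 := congrArg PrimeSpectrum.asIdeal hx'f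
        rw [← hP0over]
        exact h1
      obtain ⟨x0, hx0⟩ : ∃ x0 : p.primesOver B,
          (x0 : Ideal B) = (x' : PrimeSpectrum B).asIdeal :=
        ⟨⟨_, (x' : PrimeSpectrum B).isPrime, ⟨hov.symm⟩⟩, rfl⟩
      have h1 : x0 ≤ P0 := by
        change (x0 : Ideal B) ≤ (P0 : Ideal B)
        rw [hx0]
        exact hle'
      have h2 : e x0 ≤ e P0 := e.monotone h1
      have h3 : e P0 = ⟨P', hP'p⟩ := by rw [hP0, e.apply_symm_apply]
      rw [h3] at h2
      have h4 : P' ≤ (e x0).asIdeal := hP'.2 ⟨(e x0).isPrime, bot_le⟩ h2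
      have h5 : e x0 = ⟨P', hP'p⟩ := le_antisymm h2 h4
      have h6 : x0 = P0 := by rw [hP0, ← h5, e.symm_apply_apply]
      apply PrimeSpectrum.ext
      change (x' : PrimeSpectrum B).asIdeal = (P0 : Ideal B)
      rw [← hx0, h6]
    · exact grAt_of_specializes f
        ((PrimeSpectrum.le_iff_specializes (R := B) ⟨P0, hP0prime⟩ q).mp hP0le) hfP0 hq
  -- the ideal of the non-smooth locus and prime avoidance
  obtain ⟨C, hC⟩ : ∃ C : Set (PrimeSpectrum B), ∀ x, x ∈ C ↔ x ∉ f.smoothLocus :=
    ⟨{x | x ∉ f.smoothLocus}, fun _ => Iff.rfl⟩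
  have hCclosed : IsClosed C := by
    have h1 : C = ((f.smoothLocus : Set (Spec (CommRingCat.of B))))ᶜ := by
      ext x; rw [hC]; rfl
    rw [h1]
    exact f.smoothLocus.isOpen.isClosed_compl
  have hnotle : ∀ P ∈ T, ¬ (PrimeSpectrum.vanishingIdeal C ≤ P) := by
    intro P hP hle
    obtain ⟨P', hP'min, hP'le, rfl⟩ := (hT P).mp hP
    obtain ⟨x, hx1, -, -, hxs⟩ := hkey P' hP'min hP'le
    have h1 : x ∈ PrimeSpectrum.zeroLocus (PrimeSpectrum.vanishingIdeal C : Set B) := by
      rw [PrimeSpectrum.mem_zeroLocus, hx1]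
      exact hle
    rw [PrimeSpectrum.zeroLocus_vanishingIdeal_eq_closure, hCclosed.closure_eq, hC] at h1
    exact h1 hxs
  have hTprime : ∀ P ∈ T, P.IsPrime := by
    intro P hP
    obtain ⟨P', hP'min, -, rfl⟩ := (hT P).mp hP
    haveI := hP'min.1.1
    exact Ideal.comap_isPrime _ _
  obtain ⟨g, hgI, hgT⟩ : ∃ g ∈ PrimeSpectrum.vanishingIdeal C, ∀ P ∈ T, g ∉ P := by
    by_contra hcon
    push Not at hcon
    have hsub : (PrimeSpectrum.vanishingIdeal C : Set B) ⊆
        ⋃ P ∈ (T : Set (Ideal B)), (P : Set B) := by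
      intro g hg
      obtain ⟨P, hP, hgP⟩ := hcon g hg
      exact Set.mem_biUnion (Finset.mem_coe.mpr hP) hgP
    rw [Ideal.subset_union_prime (f := fun P => P) ⊥ ⊥ (fun P hP _ _ => hTprime P hP)] at hsub
    obtain ⟨P, hP, hle⟩ := hsub
    exact hnotle P hP hle
  have hDg : ∀ x : PrimeSpectrum B, g ∉ x.asIdeal → x ∈ f.smoothLocus := by
    intro x hx
    by_contra hxs
    have : x ∈ C := (hC x).mpr hxs
    exact hx ((PrimeSpectrum.mem_vanishingIdeal C g).mp hgI x this)
  -- the local ring of the fibre at `q` is reduced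
  haveI hFQ : _root_.IsReduced (Localization.AtPrime Q.asIdeal) :=
    isReduced_localization_of_mem_grAt A B q hq p.ResidueField Q (by rw [← hι]; exact hQq)
  -- `g` is regular on the fibre at `q`
  have hJ : ((q.asIdeal.comap (algebraMap A B)).map (algebraMap A B) ⊔
      Ideal.ofList ([g].take 0)) • (⊤ : Submodule B B) = p.map (algebraMap A B) := by
    rw [List.take_zero, Ideal.ofList_nil, sup_bot_eq, smul_eq_mul, Ideal.mul_top, ← hp]
  have hwr : RegFib.WRcond A B q.asIdeal [g] := by
    intro i hi m hm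
    have hi0 : i = 0 := by
      have : i < 1 := by simpa using hi
      omega
    subst hi0
    rw [hJ] at hm ⊢
    obtain ⟨σ, hσ, hm⟩ := hm
    simp only [List.getElem_cons_zero, smul_eq_mul] at hm
    have hx : ∀ P' ∈ minimalPrimes (p.Fiber B), P' ≤ Q.asIdeal → ι m ∈ P' := by
      intro P' hP'min hP'le
      obtain ⟨x, hx1, hx2, hx3, -⟩ := hkey P' hP'min hP'le
      have hPT : P'.comap ι ∈ T := (hT _).mpr ⟨P', hP'min, hP'le, rfl⟩
      have hg' : g ∉ P'.comap ι := hgT _ hPT
      have hσ' : σ ∉ P'.comap ι := fun h => hσ (by rw [← hx1] at h; exact hx2 h)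
      have hpB : p.map (algebraMap A B) ≤ P'.comap ι := by
        rw [Ideal.map_le_iff_le_comap, ← hx1, hx3]
      have h1 : σ * (g * m) ∈ P'.comap ι := hpB hm
      haveI hPp : (P'.comap ι).IsPrime := by
        haveI := hP'min.1.1
        exact Ideal.comap_isPrime _ _
      have h2 := (hPp.mem_or_mem h1).resolve_left hσ'
      exact (hPp.mem_or_mem h2).resolve_left hg'
    have hzero : algebraMap (p.Fiber B) (Localization.AtPrime Q.asIdeal) (ι m) = 0 := by
      apply IsNilpotent.eq_zero
      rw [nilpotent_iff_mem_prime]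
      intro J hJ
      haveI := hJ
      have hQ'le : J.comap (algebraMap (p.Fiber B) (Localization.AtPrime Q.asIdeal)) ≤
          Q.asIdeal := by
        intro y hy
        by_contra hyQ
        have hu : IsUnit (algebraMap (p.Fiber B) (Localization.AtPrime Q.asIdeal) y) :=
          IsLocalization.map_units _ (⟨y, hyQ⟩ : Q.asIdeal.primeCompl)
        exact hJ.ne_top (Ideal.eq_top_of_isUnit_mem _ hy hu)
      obtain ⟨P', hP'min, hP'le⟩ := Ideal.exists_minimalPrimes_le
        (bot_le : (⊥ : Ideal (p.Fiber B)) ≤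
          J.comap (algebraMap (p.Fiber B) (Localization.AtPrime Q.asIdeal)))
      exact hP'le (hx P' hP'min (hP'le.trans hQ'le))
    obtain ⟨⟨s, hs⟩, hsx⟩ := (IsLocalization.map_eq_zero_iff Q.asIdeal.primeCompl
      (Localization.AtPrime Q.asIdeal) (ι m)).mp hzero
    obtain ⟨r, hr, b, hrb⟩ := Ideal.Fiber.exists_smul_eq_one_tmul p s
    have hιb : ι b = r • s := by rw [hrb, hι]; rfl
    have hbq : b ∉ q.asIdeal := by
      intro hb
      have h1 : ι b ∈ Q.asIdeal := by rw [← hQq] at hb; exact hb
      rw [hιb, Algebra.smul_def] at h1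
      rcases Q.isPrime.mem_or_mem h1 with h3 | h3
      · apply hr
        have h4 : r ∈ Q.asIdeal.under A := h3
        rwa [← Ideal.over_def Q.asIdeal p] at h4
      · exact hs h3
    have hbm : ι (b * m) = 0 := by
      rw [map_mul, hιb, smul_mul_assoc]
      have : s * ι m = 0 := hsx
      rw [this, smul_zero]
    have hbm' : (b * m) ⊗ₜ[A] (1 : p.ResidueField) = 0 := by
      have h1 := congrArg (Algebra.TensorProduct.comm A p.ResidueField B) hbm
      rw [hι] at h1
      simpa using h1
    obtain ⟨a, ha, hab⟩ := RegFib.exists_smul_mem_of_tmul_one_eq_zero p B (b * m) hbm'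
    refine ⟨algebraMap A B a * b, ?_, ?_⟩
    · intro hmem
      rcases q.isPrime.mem_or_mem hmem with h | h
      · exact ha (by rw [hp]; exact h)
      · exact hbq h
    · rw [smul_eq_mul, mul_assoc, ← Algebra.smul_def]
      have h1 := (FibInj.mem_map_smul_top_iff (A := A) (B := B) (F := B) p (a • (b * m))).mpr hab
      rwa [smul_eq_mul, Ideal.mul_top] at h1
  -- spreading out
  have hflatq : ∀ (q' : Ideal B) [q'.IsPrime], Module.Flat A (LocalizedModule q'.primeCompl B) :=
    fun q' _ => LimFlat.flat_localizedModule_of_flat q'.primeCompl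
  obtain ⟨t, htq, Ht⟩ := RegFib.exists_nhd_wrcond (A := A) (M := B) [g] q.asIdeal
    (hflatq q.asIdeal) hwr
  refine ⟨t, htq, ?_⟩
  have hE : ∀ (q' : Ideal B) [q'.IsPrime], t ∉ q' → ∀ (i : ℕ) (h : i < [g].length),
      RegFib.Econd A B q' [g] i h :=
    fun q' _ hq' => (RegFib.wrcond_iff q' [g] (hflatq q')).mp (Ht q' hq')
  obtain ⟨hreg, hflatR⟩ := RegCut.away_of_econd (A := A) t [g] (fun q' _ _ => hflatq q') hE
    (Localization.Away t)
  obtain ⟨g', hg'⟩ : ∃ g' : Localization.Away t, g' = algebraMap B (Localization.Away t) g :=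
    ⟨_, rfl⟩
  have hreg' : IsSMulRegular (Localization.Away t) g' := by
    have h1 := hreg
    simp only [List.map_cons, List.map_nil] at h1
    rw [← hg'] at h1
    exact ((RingTheory.Sequence.isWeaklyRegular_cons_iff (Localization.Away t) g' []).mp h1).1
  haveI hflatR' : Module.Flat A (Localization.Away t ⧸ Ideal.span {g'}) := by
    have hI : Ideal.ofList (List.map (algebraMap B (Localization.Away t)) [g]) =
        Ideal.span {g'} := by
      rw [hg', List.map_cons, List.map_nil, Ideal.ofList_singleton]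
    have h1 := hflatR
    rw [hI] at h1
    exact h1
  haveI hsm : Algebra.Smooth A (Localization.Away g') := by
    rw [hg']
    exact smooth_away_away A B g t hDg
  intro L _ _
  have hnzd := nzd_tensor A (Localization.Away t) g' (1 : A)
    (fun b hb => by
      rw [one_smul]
      exact hreg' (by simp only [smul_eq_mul, mul_zero]; exact hb)) L
    (by rw [map_one]; exact one_ne_zero)
  exact isReduced_tensor_of_smooth_away A (Localization.Away t) g' L hnzd

set_option backward.isDefEq.respectTransparency.types false in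
/-- openness of `grAt` for a flat finitely presented morphism of affine schemes. -/
theorem isOpen_grAt_Spec [Algebra.FinitePresentation A B] [Module.Flat A B] :
    IsOpen (grAt (Spec.map (CommRingCat.ofHom (algebraMap A B)))) := by
  rw [isOpen_iff_forall_mem_open]
  intro q hq
  obtain ⟨t, htq, Ht⟩ := exists_away_reduced A B q hq
  refine ⟨(PrimeSpectrum.basicOpen t : Set (PrimeSpectrum B)), ?_,
    (PrimeSpectrum.basicOpen t).isOpen, htq⟩
  intro q' hq'
  set f := Spec.map (CommRingCat.ofHom (algebraMap A B)) with hf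
  set j := Spec.map (CommRingCat.ofHom (algebraMap B (Localization.Away t))) with hj
  have hjf : j ≫ f = Spec.map (CommRingCat.ofHom (algebraMap A (Localization.Away t))) := by
    rw [hj, hf, ← Spec.map_comp, ← CommRingCat.ofHom_comp, ← IsScalarTower.algebraMap_eq]
  obtain ⟨x, hx⟩ : ∃ x, j x = q' := by
    have h1 : q' ∈ Set.range (PrimeSpectrum.comap (algebraMap B (Localization.Away t))) := by
      rw [PrimeSpectrum.localization_away_comap_range (Localization.Away t) t]
      exact hq'
    exact h1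
  have h1 : x ∈ grAt (j ≫ f) := by
    rw [hjf]
    refine (geometricallyReduced_fiber_iff _ _).mp ?_ x rfl
    refine (bridge A (Localization.Away t) _).mpr ?_
    intro L _ _ _
    exact Ht L
  rw [grAt_comp_of_isOpenImmersion] at h1
  rw [← hx]
  exact h1

end Groth.Agent.H1.GRedPtAff
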