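import Mathlib
import Groth.Agent.Lib.Helper1.GRedPtAff
import Groth.Agent.S0386

/-!
# Openness of the pointwise geometrically reduced locus (helper1)

* `isOpen_grAt`: for a flat morphism locally of finite presentation, the set of points at which the
  fibre is geometrically reduced is open (EGA IV 12.1.1 (vii));
* `isOpen_flat_grAt`: the locus "flat and fibre geometrically reduced" is open for a morphism locally
  of finite presentation (EGA IV 12.1.6);
* `isOpen_geomRed_locus`: for flat proper finitely presented morphisms the locus of geometrically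
  reduced fibres is open in the base (EGA IV 12.2.4).
-/

set_option autoImplicit false
set_option linter.style.haveILetI false
universe u

open TensorProduct AlgebraicGeometry CategoryTheory CategoryTheory.Limits Topology

namespace Groth.Agent.H1.GRedPtOpen

open Groth.Agent.H1.GRedPt Groth.Agent.H1.GRedPtAff

/-- composing with a monomorphism on the target does not change `grAt`. -/
theorem grAt_comp_of_mono_target {X V Y : Scheme.{u}} (ψ : X ⟶ V) (i : V ⟶ Y) [Mono i] :
    grAt (ψ ≫ i) = grAt ψ := by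
  have hpb : IsPullback (𝟙 X) ψ (ψ ≫ i) i := by
    have h1 : IsPullback ψ (𝟙 X) (𝟙 V) ψ := IsPullback.id_vert ψ
    have h2 : IsPullback (𝟙 V) (𝟙 V) i i := IsKernelPair.id_of_mono i
    have h3 := (h1.paste_horiz h2).flip
    rwa [Category.comp_id] at h3
  have h := grAt_of_isPullback (ψ ≫ i) ψ (𝟙 X) i hpb
  rw [h]
  ext x
  rfl

set_option backward.isDefEq.respectTransparency.types false in
/-- the affine case. -/
theorem isOpen_grAt_of_isAffine {X Y : Scheme.{u}} [IsAffine X] [IsAffine Y] (ψ : X ⟶ Y) [Flat ψ]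
    [LocallyOfFinitePresentation ψ] : IsOpen (grAt ψ) := by
  have sq : IsPullback X.isoSpec.hom ψ (Spec.map ψ.appTop) Y.isoSpec.hom :=
    IsPullback.of_horiz_isIso ⟨Scheme.isoSpec_hom_naturality ψ⟩
  rw [grAt_of_isPullback (Spec.map ψ.appTop) ψ X.isoSpec.hom Y.isoSpec.hom sq]
  apply IsOpen.preimage X.isoSpec.hom.continuous
  letI : Algebra Γ(Y, ⊤) Γ(X, ⊤) := ψ.appTop.hom.toAlgebra
  haveI hfp : Algebra.FinitePresentation Γ(Y, ⊤) Γ(X, ⊤) :=
    (HasRingHomProperty.iff_of_isAffine (P := @LocallyOfFinitePresentation)).mp ‹_›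
  haveI hflat : Module.Flat Γ(Y, ⊤) Γ(X, ⊤) :=
    (HasRingHomProperty.iff_of_isAffine (P := @Flat)).mp ‹_›
  exact isOpen_grAt_Spec Γ(Y, ⊤) Γ(X, ⊤)

/-- **EGA IV 12.1.1 (vii)**: for `f` flat and locally of finite presentation the set of points at
which the fibre is geometrically reduced is open. -/
theorem isOpen_grAt {X Y : Scheme.{u}} (f : X ⟶ Y) [Flat f] [LocallyOfFinitePresentation f] :
    IsOpen (grAt f) := by
  rw [isOpen_iff_forall_mem_open]
  intro x hx
  obtain ⟨V, hV, hxV⟩ : ∃ V : Y.Opens, IsAffineOpen V ∧ f x ∈ V := by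
    obtain ⟨_, ⟨V, hV, rfl⟩, h, -⟩ := Y.isBasis_affineOpens.exists_subset_of_mem_open
      (Set.mem_univ (f x)) isOpen_univ
    exact ⟨V, hV, h⟩
  obtain ⟨U, hU, hxU, hUV⟩ : ∃ U : X.Opens, IsAffineOpen U ∧ x ∈ U ∧ U ≤ f ⁻¹ᵁ V := by
    have h0 : x ∈ f ⁻¹ᵁ V := hxV
    obtain ⟨_, ⟨U, hU, rfl⟩, h, h'⟩ := X.isBasis_affineOpens.exists_subset_of_mem_open
      h0 (f ⁻¹ᵁ V).2
    exact ⟨U, hU, h, h'⟩
  haveI : IsAffine (U : Scheme) := hU
  haveI : IsAffine (V : Scheme) := hV
  have hψ : f.resLE V U hUV ≫ V.ι = U.ι ≫ f := Scheme.Hom.resLE_comp_ι f hUV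
  have hgr : grAt (f.resLE V U hUV) = U.ι ⁻¹' grAt f := by
    rw [← grAt_comp_of_mono_target (f.resLE V U hUV) V.ι, hψ, grAt_comp_of_isOpenImmersion]
  have hopen : IsOpen (grAt (f.resLE V U hUV)) := isOpen_grAt_of_isAffine _
  refine ⟨U.ι '' grAt (f.resLE V U hUV), ?_, U.ι.isOpenEmbedding.isOpenMap _ hopen,
    ⟨⟨x, hxU⟩, ?_, rfl⟩⟩
  · rintro _ ⟨u, hu, rfl⟩
    rw [hgr] at hu
    exact hu
  · rw [hgr]
    exact hx

/-- **EGA IV 12.1.6**: the locus where `f` is flat with geometrically reduced fibre is open. -/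
theorem isOpen_flat_grAt {X Y : Scheme.{u}} (f : X ⟶ Y) [LocallyOfFinitePresentation f] :
    IsOpen {x : X | (f.stalkMap x).hom.Flat ∧ x ∈ grAt f} := by
  have hU : IsOpen {x : X | (f.stalkMap x).hom.Flat} := Groth.Agent.S0386.result f
  obtain ⟨U, hUdef⟩ : ∃ U : X.Opens, (U : Set X) = {x : X | (f.stalkMap x).hom.Flat} :=
    ⟨⟨_, hU⟩, rfl⟩
  haveI : Flat (U.ι ≫ f) := by
    rw [Flat.iff_flat_stalkMap]
    intro u
    rw [Groth.Agent.S0386.flat_stalkMap_comp_iff_right]
    have : (U.ι u) ∈ (U : Set X) := u.2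
    rw [hUdef] at this
    exact this
  have h1 : IsOpen (grAt (U.ι ≫ f)) := isOpen_grAt _
  rw [grAt_comp_of_isOpenImmersion] at h1
  have h2 := U.ι.isOpenEmbedding.isOpenMap _ h1
  convert h2 using 1
  ext x
  constructor
  · rintro ⟨hx1, hx2⟩
    have hxU : x ∈ (U : Set X) := by rw [hUdef]; exact hx1
    exact ⟨⟨x, hxU⟩, hx2, rfl⟩
  · rintro ⟨u, hu, rfl⟩
    refine ⟨?_, hu⟩
    have : (U.ι u) ∈ (U : Set X) := u.2
    rw [hUdef] at this
    exact this

/-- **EGA IV 12.2.4 (v)**: for flat proper finitely presented morphisms the locus of geometrically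
reduced fibres is open. -/
theorem isOpen_geomRed_locus {X Y : Scheme.{u}} (f : X ⟶ Y) [Flat f] [IsProper f]
    [LocallyOfFinitePresentation f] :
    IsOpen {y : Y | GeometricallyReduced (f.fiberToSpecResidueField y)} := by
  have h1 : IsOpen (grAt f) := isOpen_grAt f
  have h2 : IsClosed (f '' (grAt f)ᶜ) := f.isClosedMap _ h1.isClosed_compl
  convert h2.isOpen_compl using 1
  ext y
  rw [Set.mem_ofPred_eq, geometricallyReduced_fiber_iff]
  simp only [Set.mem_compl_iff, Set.mem_image, not_exists, not_and]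
  constructor
  · intro h x hx hxy
    exact hx (h x hxy)
  · intro h x hxy
    by_contra hx
    exact h x hx hxy

end Groth.Agent.H1.GRedPtOpen

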