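import Mathlib
import Groth.Agent.Lib.Helper1.GRedPtOpen
import Groth.Agent.Lib.Helper3.SmStalk

/-!
# Reducedness of the total space from reduced base and geometrically reduced fibre (helper1)

* `exists_away_data`: data form of the affine core of `GRedPtAff`;
* `isReduced_localization_of_data`: `g` regular on `R`, `R_g` smooth over `A`, `A_p` reduced ⇒ `R_q`
  reduced;
* `isReduced_stalk`: `f` flat lfp, `O_{Y,f x}` reduced, fibre geometrically reduced at `x` ⇒ `O_{X,x}`
  reduced (EGA IV 6.5.? / 11.3.?), non-Noetherian.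
-/

set_option autoImplicit false
set_option linter.style.haveILetI false
universe u

open TensorProduct AlgebraicGeometry CategoryTheory CategoryTheory.Limits Topology

namespace Groth.Agent.H1.GRedPtData

open Groth.Agent.H1.GRedPt Groth.Agent.H1.GRedCore Groth.Agent.H1.GRedLocus
  Groth.Agent.H1.GRedPtAff Groth.Agent.H1.GRedPtOpen

section ring

variable (A B : Type u) [CommRing A] [CommRing B] [Algebra A B]

set_option backward.isDefEq.respectTransparency.types false in
/-- **the affine core, data form**: near a point of `grAt` there is a principal open `D(t)` and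
`g' ∈ B_t` regular with `B_t / g'` flat over `A` and `(B_t)_{g'}` smooth over `A`. -/
theorem exists_away_data [Algebra.FinitePresentation A B] [Module.Flat A B]
    (q : PrimeSpectrum B) (hq : q ∈ grAt (Spec.map (CommRingCat.ofHom (algebraMap A B)))) :
    ∃ (t : B) (g' : Localization.Away t), t ∉ q.asIdeal ∧
      IsSMulRegular (Localization.Away t) g' ∧
      Module.Flat A (Localization.Away t ⧸ Ideal.span {g'}) ∧
      Algebra.Smooth A (Localization.Away g') := by
  classical
  set f := Spec.map (CommRingCat.ofHom (algebraMap A B)) with hf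
  haveI hlfp : LocallyOfFinitePresentation f := by
    rw [hf, HasRingHomProperty.Spec_iff (P := @LocallyOfFinitePresentation), CommRingCat.hom_ofHom,
      RingHom.finitePresentation_algebraMap]
    infer_instance
  haveI hfl : Flat f := by
    rw [hf, HasRingHomProperty.Spec_iff (P := @Flat), CommRingCat.hom_ofHom,
      RingHom.flat_algebraMap_iff]
    infer_instance
  obtain ⟨p, hp⟩ : ∃ p : Ideal A, p = q.asIdeal.comap (algebraMap A B) := ⟨_, rfl⟩
  haveI hpp : p.IsPrime := by rw [hp]; infer_instance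
  haveI hqp : q.asIdeal.LiesOver p := ⟨hp⟩
  obtain ⟨ι, hι⟩ : ∃ ι : B →ₐ[A] p.Fiber B, ι = Algebra.TensorProduct.includeRight := ⟨_, rfl⟩
  obtain ⟨e, he⟩ : ∃ e : p.primesOver B ≃o PrimeSpectrum (p.Fiber B),
      ∀ Q, ((e.symm Q : p.primesOver B) : Ideal B) = Q.asIdeal.comap ι :=
    ⟨PrimeSpectrum.primesOverOrderIsoFiber A B p, fun Q => by rw [hι]; rfl⟩
  obtain ⟨Q, hQ⟩ : ∃ Q : PrimeSpectrum (p.Fiber B), Q = e ⟨q.asIdeal, q.isPrime, hqp⟩ := ⟨_, rfl⟩
  have hQq : Q.asIdeal.comap ι = q.asIdeal := by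
    rw [← he Q, hQ, e.symm_apply_apply]
  -- the fibre ring is Noetherian
  haveI : IsNoetherianRing (p.Fiber B) :=
    Algebra.FiniteType.isNoetherianRing p.ResidueField (p.Fiber B)
  have hfin : (minimalPrimes (p.Fiber B)).Finite := minimalPrimes.finite_of_isNoetherianRing _
  obtain ⟨T, hT⟩ : ∃ T : Finset (Ideal B), ∀ P, P ∈ T ↔
      ∃ P' ∈ minimalPrimes (p.Fiber B), P' ≤ Q.asIdeal ∧ P'.comap ι = P := by
    have hS : ((fun P' : Ideal (p.Fiber B) => P'.comap ι) ''
        {P' | P' ∈ minimalPrimes (p.Fiber B) ∧ P' ≤ Q.asIdeal}).Finite :=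
      (hfin.subset (fun _ h => h.1)).image _
    refine ⟨hS.toFinset, fun P => ?_⟩
    rw [Set.Finite.mem_toFinset]
    constructor
    · rintro ⟨P', ⟨h1, h2⟩, rfl⟩
      exact ⟨P', h1, h2, rfl⟩
    · rintro ⟨P', h1, h2, rfl⟩
      exact ⟨P', ⟨h1, h2⟩, rfl⟩
  -- the maximal points of the fibre through `q` are smooth points
  have hkey : ∀ P' ∈ minimalPrimes (p.Fiber B), P' ≤ Q.asIdeal →
      ∃ x : PrimeSpectrum B, x.asIdeal = P'.comap ι ∧ x.asIdeal ≤ q.asIdeal ∧
        x.asIdeal.comap (algebraMap A B) = p ∧ x ∈ f.smoothLocus := by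
    intro P' hP' hle
    haveI hP'p : P'.IsPrime := hP'.1.1
    obtain ⟨P0, hP0⟩ : ∃ P0 : p.primesOver B, P0 = e.symm ⟨P', hP'p⟩ := ⟨_, rfl⟩
    have hP0c : (P0 : Ideal B) = P'.comap ι := by rw [hP0, he]
    have hP0prime : (P0 : Ideal B).IsPrime := P0.2.1
    have hP0over : (P0 : Ideal B).comap (algebraMap A B) = p := (P0.2.2.over).symm
    have hP0le : (P0 : Ideal B) ≤ q.asIdeal := by
      rw [hP0c, ← hQq]
      exact Ideal.comap_mono hle
    have hfP0 : f (⟨P0, hP0prime⟩ : PrimeSpectrum B) = f q := by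
      apply PrimeSpectrum.ext
      change Ideal.comap (algebraMap A B) (P0 : Ideal B) = Ideal.comap (algebraMap A B) q.asIdeal
      rw [hP0over, hp]
    refine ⟨⟨P0, hP0prime⟩, hP0c, hP0le, hP0over, ?_⟩
    apply mem_smoothLocus_of_flat_maxPt f
    · exact Flat.stalkMap f _
    · intro x' hx'f hx'sp
      have hle' : (x' : PrimeSpectrum B).asIdeal ≤ (P0 : Ideal B) :=
        (PrimeSpectrum.le_iff_specializes (R := B) x' ⟨P0, hP0prime⟩).mpr hx'sp
      have hov : (x' : PrimeSpectrum B).asIdeal.comap (algebraMap A B) = p := by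
        have h1 := congrArg PrimeSpectrum.asIdeal hx'f
        rw [← hP0over]
        exact h1
      obtain ⟨x0, hx0⟩ : ∃ x0 : p.primesOver B,
          (x0 : Ideal B) = (x' : PrimeSpectrum B).asIdeal :=
        ⟨⟨_, (x' : PrimeSpectrum B).isPrime, ⟨hov.symm⟩⟩, rfl⟩
      have h1 : x0 ≤ P0 := by
        change (x0 : Ideal B) ≤ (P0 : Ideal B)
        rw [hx0]
        exact hle'
      have h2 : e x0 ≤ e P0 := e.monotone h1
      have h3 : e P0 = ⟨P', hP'p⟩ := by rw [hP0, e.apply_symm_apply]
      rw [h3] at h2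
      have h4 : P' ≤ (e x0).asIdeal := hP'.2 ⟨(e x0).isPrime, bot_le⟩ h2
      have h5 : e x0 = ⟨P', hP'p⟩ := le_antisymm h2 h4
      have h6 : x0 = P0 := by rw [hP0, ← h5, e.symm_apply_apply]
      apply PrimeSpectrum.ext
      change (x' : PrimeSpectrum B).asIdeal = (P0 : Ideal B)
      rw [← hx0, h6]
    · exact grAt_of_specializes f
        ((PrimeSpectrum.le_iff_specializes (R := B) ⟨P0, hP0prime⟩ q).mp hP0le) hfP0 hq
  -- the ideal of the non-smooth locus and prime avoidance
  obtain ⟨C, hC⟩ : ∃ C : Set (PrimeSpectrum B), ∀ x, x ∈ C ↔ x ∉ f.smoothLocus :=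
    ⟨{x | x ∉ f.smoothLocus}, fun _ => Iff.rfl⟩
  have hCclosed : IsClosed C := by
    have h1 : C = ((f.smoothLocus : Set (Spec (CommRingCat.of B))))ᶜ := by
      ext x; rw [hC]; rfl
    rw [h1]
    exact f.smoothLocus.isOpen.isClosed_compl
  have hnotle : ∀ P ∈ T, ¬ (PrimeSpectrum.vanishingIdeal C ≤ P) := by
    intro P hP hle
    obtain ⟨P', hP'min, hP'le, rfl⟩ := (hT P).mp hP
    obtain ⟨x, hx1, -, -, hxs⟩ := hkey P' hP'min hP'le
    have h1 : x ∈ PrimeSpectrum.zeroLocus (PrimeSpectrum.vanishingIdeal C : Set B) := by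
      rw [PrimeSpectrum.mem_zeroLocus, hx1]
      exact hle
    rw [PrimeSpectrum.zeroLocus_vanishingIdeal_eq_closure, hCclosed.closure_eq, hC] at h1
    exact h1 hxs
  have hTprime : ∀ P ∈ T, P.IsPrime := by
    intro P hP
    obtain ⟨P', hP'min, -, rfl⟩ := (hT P).mp hP
    haveI := hP'min.1.1
    exact Ideal.comap_isPrime _ _
  obtain ⟨g, hgI, hgT⟩ : ∃ g ∈ PrimeSpectrum.vanishingIdeal C, ∀ P ∈ T, g ∉ P := by
    by_contra hcon
    push Not at hcon
    have hsub : (PrimeSpectrum.vanishingIdeal C : Set B) ⊆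
        ⋃ P ∈ (T : Set (Ideal B)), (P : Set B) := by
      intro g hg
      obtain ⟨P, hP, hgP⟩ := hcon g hg
      exact Set.mem_biUnion (Finset.mem_coe.mpr hP) hgP
    rw [Ideal.subset_union_prime (f := fun P => P) ⊥ ⊥ (fun P hP _ _ => hTprime P hP)] at hsub
    obtain ⟨P, hP, hle⟩ := hsub
    exact hnotle P hP hle
  have hDg : ∀ x : PrimeSpectrum B, g ∉ x.asIdeal → x ∈ f.smoothLocus := by
    intro x hx
    by_contra hxs
    have : x ∈ C := (hC x).mpr hxs
    exact hx ((PrimeSpectrum.mem_vanishingIdeal C g).mp hgI x this)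
  -- the local ring of the fibre at `q` is reduced
  haveI hFQ : _root_.IsReduced (Localization.AtPrime Q.asIdeal) :=
    isReduced_localization_of_mem_grAt A B q hq p.ResidueField Q (by rw [← hι]; exact hQq)
  -- `g` is regular on the fibre at `q`
  have hJ : ((q.asIdeal.comap (algebraMap A B)).map (algebraMap A B) ⊔
      Ideal.ofList ([g].take 0)) • (⊤ : Submodule B B) = p.map (algebraMap A B) := by
    rw [List.take_zero, Ideal.ofList_nil, sup_bot_eq, smul_eq_mul, Ideal.mul_top, ← hp]
  have hwr : RegFib.WRcond A B q.asIdeal [g] := by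
    intro i hi m hm
    have hi0 : i = 0 := by
      have : i < 1 := by simpa using hi
      omega
    subst hi0
    rw [hJ] at hm ⊢
    obtain ⟨σ, hσ, hm⟩ := hm
    simp only [List.getElem_cons_zero, smul_eq_mul] at hm
    have hx : ∀ P' ∈ minimalPrimes (p.Fiber B), P' ≤ Q.asIdeal → ι m ∈ P' := by
      intro P' hP'min hP'le
      obtain ⟨x, hx1, hx2, hx3, -⟩ := hkey P' hP'min hP'le
      have hPT : P'.comap ι ∈ T := (hT _).mpr ⟨P', hP'min, hP'le, rfl⟩
      have hg' : g ∉ P'.comap ι := hgT _ hPT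
      have hσ' : σ ∉ P'.comap ι := fun h => hσ (by rw [← hx1] at h; exact hx2 h)
      have hpB : p.map (algebraMap A B) ≤ P'.comap ι := by
        rw [Ideal.map_le_iff_le_comap, ← hx1, hx3]
      have h1 : σ * (g * m) ∈ P'.comap ι := hpB hm
      haveI hPp : (P'.comap ι).IsPrime := by
        haveI := hP'min.1.1
        exact Ideal.comap_isPrime _ _
      have h2 := (hPp.mem_or_mem h1).resolve_left hσ'
      exact (hPp.mem_or_mem h2).resolve_left hg'
    have hzero : algebraMap (p.Fiber B) (Localization.AtPrime Q.asIdeal) (ι m) = 0 := by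
      apply IsNilpotent.eq_zero
      rw [nilpotent_iff_mem_prime]
      intro J hJ
      haveI := hJ
      have hQ'le : J.comap (algebraMap (p.Fiber B) (Localization.AtPrime Q.asIdeal)) ≤
          Q.asIdeal := by
        intro y hy
        by_contra hyQ
        have hu : IsUnit (algebraMap (p.Fiber B) (Localization.AtPrime Q.asIdeal) y) :=
          IsLocalization.map_units _ (⟨y, hyQ⟩ : Q.asIdeal.primeCompl)
        exact hJ.ne_top (Ideal.eq_top_of_isUnit_mem _ hy hu)
      obtain ⟨P', hP'min, hP'le⟩ := Ideal.exists_minimalPrimes_le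
        (bot_le : (⊥ : Ideal (p.Fiber B)) ≤
          J.comap (algebraMap (p.Fiber B) (Localization.AtPrime Q.asIdeal)))
      exact hP'le (hx P' hP'min (hP'le.trans hQ'le))
    obtain ⟨⟨s, hs⟩, hsx⟩ := (IsLocalization.map_eq_zero_iff Q.asIdeal.primeCompl
      (Localization.AtPrime Q.asIdeal) (ι m)).mp hzero
    obtain ⟨r, hr, b, hrb⟩ := Ideal.Fiber.exists_smul_eq_one_tmul p s
    have hιb : ι b = r • s := by rw [hrb, hι]; rfl
    have hbq : b ∉ q.asIdeal := by
      intro hb
      have h1 : ι b ∈ Q.asIdeal := by rw [← hQq] at hb; exact hb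
      rw [hιb, Algebra.smul_def] at h1
      rcases Q.isPrime.mem_or_mem h1 with h3 | h3
      · apply hr
        have h4 : r ∈ Q.asIdeal.under A := h3
        rwa [← Ideal.over_def Q.asIdeal p] at h4
      · exact hs h3
    have hbm : ι (b * m) = 0 := by
      rw [map_mul, hιb, smul_mul_assoc]
      have : s * ι m = 0 := hsx
      rw [this, smul_zero]
    have hbm' : (b * m) ⊗ₜ[A] (1 : p.ResidueField) = 0 := by
      have h1 := congrArg (Algebra.TensorProduct.comm A p.ResidueField B) hbm
      rw [hι] at h1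
      simpa using h1
    obtain ⟨a, ha, hab⟩ := RegFib.exists_smul_mem_of_tmul_one_eq_zero p B (b * m) hbm'
    refine ⟨algebraMap A B a * b, ?_, ?_⟩
    · intro hmem
      rcases q.isPrime.mem_or_mem hmem with h | h
      · exact ha (by rw [hp]; exact h)
      · exact hbq h
    · rw [smul_eq_mul, mul_assoc, ← Algebra.smul_def]
      have h1 := (FibInj.mem_map_smul_top_iff (A := A) (B := B) (F := B) p (a • (b * m))).mpr hab
      rwa [smul_eq_mul, Ideal.mul_top] at h1
  -- spreading out
  have hflatq : ∀ (q' : Ideal B) [q'.IsPrime], Module.Flat A (LocalizedModule q'.primeCompl B) :=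
    fun q' _ => LimFlat.flat_localizedModule_of_flat q'.primeCompl
  obtain ⟨t, htq, Ht⟩ := RegFib.exists_nhd_wrcond (A := A) (M := B) [g] q.asIdeal
    (hflatq q.asIdeal) hwr
  have hE : ∀ (q' : Ideal B) [q'.IsPrime], t ∉ q' → ∀ (i : ℕ) (h : i < [g].length),
      RegFib.Econd A B q' [g] i h :=
    fun q' _ hq' => (RegFib.wrcond_iff q' [g] (hflatq q')).mp (Ht q' hq')
  obtain ⟨hreg, hflatR⟩ := RegCut.away_of_econd (A := A) t [g] (fun q' _ _ => hflatq q') hE
    (Localization.Away t)
  obtain ⟨g', hg'⟩ : ∃ g' : Localization.Away t, g' = algebraMap B (Localization.Away t) g :=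
    ⟨_, rfl⟩
  have hreg' : IsSMulRegular (Localization.Away t) g' := by
    have h1 := hreg
    simp only [List.map_cons, List.map_nil] at h1
    rw [← hg'] at h1
    exact ((RingTheory.Sequence.isWeaklyRegular_cons_iff (Localization.Away t) g' []).mp h1).1
  haveI hflatR' : Module.Flat A (Localization.Away t ⧸ Ideal.span {g'}) := by
    have hI : Ideal.ofList (List.map (algebraMap B (Localization.Away t)) [g]) =
        Ideal.span {g'} := by
      rw [hg', List.map_cons, List.map_nil, Ideal.ofList_singleton]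
    have h1 := hflatR
    rw [hI] at h1
    exact h1
  haveI hsm : Algebra.Smooth A (Localization.Away g') := by
    rw [hg']
    exact smooth_away_away A B g t hDg
  exact ⟨t, g', htq, hreg', hflatR', hsm⟩


end ring

/-- a localization of a reduced local ring at a smaller prime is reduced. -/
theorem isReduced_atPrime_of_le {A : Type*} [CommRing A] (p p' : Ideal A) [p.IsPrime]
    [p'.IsPrime] (hle : p' ≤ p) [_root_.IsReduced (Localization.AtPrime p)] :
    _root_.IsReduced (Localization.AtPrime p') := by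
  constructor
  intro z hz
  obtain ⟨a, s, rfl⟩ := IsLocalization.exists_mk'_eq p'.primeCompl z
  have h1 : IsNilpotent (algebraMap A (Localization.AtPrime p') a) := by
    have h0 : algebraMap A (Localization.AtPrime p') a =
        algebraMap A (Localization.AtPrime p') (s : A) *
          IsLocalization.mk' (Localization.AtPrime p') a s := by
      rw [IsLocalization.mk'_spec']
    rw [h0]
    exact (Commute.all _ _).isNilpotent_mul_left hz
  obtain ⟨n, hn⟩ := h1
  rw [← map_pow, IsLocalization.map_eq_zero_iff p'.primeCompl] at hn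
  obtain ⟨⟨v, hv⟩, hva⟩ := hn
  have h2 : algebraMap A (Localization.AtPrime p) (v * a) = 0 := by
    apply IsNilpotent.eq_zero
    refine ⟨n + 1, ?_⟩
    rw [← map_pow]
    have h3 : (v * a) ^ (n + 1) = v ^ n * a * (v * a ^ n) := by ring
    rw [h3]
    have h4 : v * a ^ n = 0 := hva
    rw [h4, mul_zero, map_zero]
  rw [IsLocalization.map_eq_zero_iff p.primeCompl] at h2
  obtain ⟨⟨w, hw⟩, hwa⟩ := h2
  rw [IsLocalization.mk'_eq_zero_iff]
  refine ⟨⟨w * v, ?_⟩, ?_⟩
  · intro hmem
    rcases (‹p'.IsPrime›).mem_or_mem hmem with h | h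
    · exact hw (hle h)
    · exact hv h
  · change w * v * a = 0
    have h5 : w * (v * a) = 0 := hwa
    rw [mul_assoc]
    exact h5

/-- `g` regular on `R`, `R_g` smooth over `A`, `A_p` reduced, `q` over `p` ⇒ `R_q` reduced. -/
theorem isReduced_localization_of_data (A R : Type u) [CommRing A] [CommRing R] [Algebra A R]
    (g : R) (hg : IsSMulRegular R g) [Algebra.Smooth A (Localization.Away g)]
    (q : Ideal R) [q.IsPrime] (p : Ideal A) [p.IsPrime] (hpq : q.comap (algebraMap A R) = p)
    [_root_.IsReduced (Localization.AtPrime p)] :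
    _root_.IsReduced (Localization.AtPrime q) := by
  constructor
  intro z hz
  obtain ⟨x, s, rfl⟩ := IsLocalization.exists_mk'_eq q.primeCompl z
  have h1 : IsNilpotent (algebraMap R (Localization.AtPrime q) x) := by
    have h0 : algebraMap R (Localization.AtPrime q) x =
        algebraMap R (Localization.AtPrime q) (s : R) *
          IsLocalization.mk' (Localization.AtPrime q) x s := by
      rw [IsLocalization.mk'_spec']
    rw [h0]
    exact (Commute.all _ _).isNilpotent_mul_left hz
  obtain ⟨n, hn⟩ := h1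
  rw [← map_pow, IsLocalization.map_eq_zero_iff q.primeCompl] at hn
  obtain ⟨⟨s₁, hs₁⟩, hs₁x⟩ := hn
  have hs₁x' : s₁ * x ^ n = 0 := hs₁x
  rw [IsLocalization.mk'_eq_zero_iff]
  by_contra hcon
  -- the annihilator of `x`
  obtain ⟨𝔞, h𝔞⟩ : ∃ 𝔞 : Ideal R, ∀ r, r ∈ 𝔞 ↔ r * x = 0 :=
    ⟨LinearMap.ker (LinearMap.toSpanSingleton R R x), fun r => by
      rw [LinearMap.mem_ker, LinearMap.toSpanSingleton_apply, smul_eq_mul]⟩
  have hgpow : ∀ (m : ℕ) (y : R), g ^ m * y = 0 → y = 0 := by
    intro m y hy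
    exact (hg.pow m) (by simp only [smul_eq_mul, mul_zero]; exact hy)
  have hdisj : Disjoint (𝔞 : Set R) ((q.primeCompl ⊔ Submonoid.powers g : Submonoid R) : Set R) := by
    rw [Set.disjoint_left]
    intro r hr hrM
    obtain ⟨s', hs', _, ⟨m, rfl⟩, rfl⟩ := Submonoid.mem_sup.mp hrM
    have h2 : s' * g ^ m * x = 0 := (h𝔞 _).mp hr
    have h3 : s' * x = 0 := hgpow m _ (by rw [← h2]; ring)
    exact hcon ⟨⟨s', hs'⟩, h3⟩
  obtain ⟨q'', hq''prime, h𝔞q'', hq''disj⟩ := Ideal.exists_le_prime_disjoint 𝔞 _ hdisj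
  haveI := hq''prime
  have hq''le : q'' ≤ q := by
    intro r hr
    by_contra hrq
    exact (Set.disjoint_left.mp hq''disj) hr
      ((le_sup_left : q.primeCompl ≤ q.primeCompl ⊔ Submonoid.powers g) hrq)
  have hgq'' : ∀ m : ℕ, g ^ m ∉ q'' := by
    intro m hm
    exact (Set.disjoint_left.mp hq''disj) hm
      ((le_sup_right : Submonoid.powers g ≤ q.primeCompl ⊔ Submonoid.powers g) ⟨m, rfl⟩)
  have hdisjg : Disjoint ((Submonoid.powers g : Submonoid R) : Set R) (q'' : Set R) := by
    rw [Set.disjoint_left]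
    rintro _ ⟨m, rfl⟩ hm
    exact hgq'' m hm
  obtain ⟨Q'', hQ''⟩ : ∃ Q'' : Ideal (Localization.Away g),
      Q'' = q''.map (algebraMap R (Localization.Away g)) := ⟨_, rfl⟩
  haveI hQ''prime : Q''.IsPrime := by
    rw [hQ'']
    exact IsLocalization.isPrime_of_isPrime_disjoint (Submonoid.powers g) _ _ hq''prime hdisjg
  have hQ''c : Q''.comap (algebraMap R (Localization.Away g)) = q'' := by
    rw [hQ'']
    exact IsLocalization.under_map_of_isPrime_disjoint (Submonoid.powers g) _ hq''prime hdisjg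
  have hp''le : Q''.comap (algebraMap A (Localization.Away g)) ≤ p := by
    intro a ha
    rw [← hpq, Ideal.mem_comap]
    apply hq''le
    rw [← hQ''c, Ideal.mem_comap, ← IsScalarTower.algebraMap_apply]
    exact ha
  haveI : _root_.IsReduced (Localization.AtPrime (Q''.comap (algebraMap A (Localization.Away g)))) :=
    isReduced_atPrime_of_le p _ hp''le
  haveI hred : _root_.IsReduced (Localization.AtPrime Q'') :=
    Groth.Agent.H3.SmStalk.reduced_localization_of_smooth A (Localization.Away g) Q''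
      (Q''.comap (algebraMap A (Localization.Away g))) rfl
  have hs₁Q : algebraMap R (Localization.Away g) s₁ ∉ Q'' := by
    intro h
    have : s₁ ∈ Q''.comap (algebraMap R (Localization.Away g)) := h
    rw [hQ''c] at this
    exact hs₁ (hq''le this)
  have hz0 : algebraMap (Localization.Away g) (Localization.AtPrime Q'')
      (algebraMap R (Localization.Away g) x) = 0 := by
    apply IsNilpotent.eq_zero
    refine ⟨n, ?_⟩
    rw [← map_pow, IsLocalization.map_eq_zero_iff Q''.primeCompl]
    refine ⟨⟨algebraMap R (Localization.Away g) s₁, hs₁Q⟩, ?_⟩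
    change algebraMap R (Localization.Away g) s₁ * (algebraMap R (Localization.Away g) x) ^ n = 0
    rw [← map_pow, ← map_mul, hs₁x', map_zero]
  rw [IsLocalization.map_eq_zero_iff Q''.primeCompl] at hz0
  obtain ⟨⟨u, hu⟩, hux⟩ := hz0
  have hux' : u * algebraMap R (Localization.Away g) x = 0 := hux
  obtain ⟨r, sg, rfl⟩ := IsLocalization.exists_mk'_eq (Submonoid.powers g) u
  have hrQ : algebraMap R (Localization.Away g) r ∉ Q'' := by
    intro h
    exact hu ((IsLocalization.mk'_mem_iff).mpr h)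
  have hrq'' : r ∉ q'' := by
    intro h
    apply hrQ
    rw [hQ'']
    exact Ideal.mem_map_of_mem _ h
  have h4 : algebraMap R (Localization.Away g) (r * x) = 0 := by
    rw [map_mul, ← IsLocalization.mk'_spec' (Localization.Away g) r sg, mul_assoc, hux', mul_zero]
  rw [IsLocalization.map_eq_zero_iff (Submonoid.powers g)] at h4
  obtain ⟨⟨_, m, rfl⟩, hm⟩ := h4
  have h5 : r * x = 0 := hgpow m _ hm
  exact hrq'' (h𝔞q'' ((h𝔞 r).mpr h5))

set_option backward.isDefEq.respectTransparency.types false in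
/-- the `Spec` case, in terms of localizations. -/
theorem isReduced_localization_Spec (A B : Type u) [CommRing A] [CommRing B] [Algebra A B]
    [Algebra.FinitePresentation A B] [Module.Flat A B]
    (q : PrimeSpectrum B) (hq : q ∈ grAt (Spec.map (CommRingCat.ofHom (algebraMap A B))))
    [hA : _root_.IsReduced (Localization.AtPrime (q.asIdeal.comap (algebraMap A B)))] :
    _root_.IsReduced (Localization.AtPrime q.asIdeal) := by
  obtain ⟨t, g', htq, hreg, -, hsm⟩ := exists_away_data A B q hq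
  haveI := hsm
  set j := Spec.map (CommRingCat.ofHom (algebraMap B (Localization.Away t))) with hj
  obtain ⟨x, hx⟩ : ∃ x, j x = q := by
    have h1 : q ∈ Set.range (PrimeSpectrum.comap (algebraMap B (Localization.Away t))) := by
      rw [PrimeSpectrum.localization_away_comap_range (Localization.Away t) t]
      exact htq
    exact h1
  have hxq : (x : PrimeSpectrum (Localization.Away t)).asIdeal.comap
      (algebraMap B (Localization.Away t)) = q.asIdeal := congrArg PrimeSpectrum.asIdeal hx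
  have hxp : (x : PrimeSpectrum (Localization.Away t)).asIdeal.comap
      (algebraMap A (Localization.Away t)) = q.asIdeal.comap (algebraMap A B) := by
    rw [← hxq, Ideal.comap_comap, ← IsScalarTower.algebraMap_eq]
  haveI : _root_.IsReduced (Localization.AtPrime
      ((x : PrimeSpectrum (Localization.Away t)).asIdeal.comap
        (algebraMap A (Localization.Away t)))) :=
    isReduced_atPrime_of_le _ _ (le_of_eq hxp)
  have h1 : _root_.IsReduced (Localization.AtPrime (x : PrimeSpectrum (Localization.Away t)).asIdeal) :=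
    isReduced_localization_of_data A (Localization.Away t) g' hreg
      (x : PrimeSpectrum (Localization.Away t)).asIdeal _ rfl
  have e1 := (Spec.stalkIso (CommRingCat.of (Localization.Away t)) x).commRingCatIsoToRingEquiv
  have h2 : _root_.IsReduced ((Spec (CommRingCat.of (Localization.Away t))).presheaf.stalk x) :=
    isReduced_of_injective e1 e1.injective
  have h3 := (isReduced_stalk_iff_of_isOpenImmersion j x).mpr h2
  rw [hx] at h3
  have e2 := (Spec.stalkIso (CommRingCat.of B) q).commRingCatIsoToRingEquiv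
  haveI := h3
  exact isReduced_of_injective e2.symm e2.symm.injective

/-- restriction to opens. -/
theorem grAt_resLE {X Y : Scheme.{u}} (f : X ⟶ Y) {U : X.Opens} {V : Y.Opens} (hUV : U ≤ f ⁻¹ᵁ V) :
    grAt (f.resLE V U hUV) = U.ι ⁻¹' grAt f := by
  rw [← grAt_comp_of_mono_target (f.resLE V U hUV) V.ι, Scheme.Hom.resLE_comp_ι f hUV,
    grAt_comp_of_isOpenImmersion]

set_option backward.isDefEq.respectTransparency.types false in
/-- the affine case. -/
theorem isReduced_stalk_of_isAffine {X Y : Scheme.{u}} [IsAffine X] [IsAffine Y] (ψ : X ⟶ Y)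
    [Flat ψ] [LocallyOfFinitePresentation ψ] (x : X)
    (hy : _root_.IsReduced (Y.presheaf.stalk (ψ x))) (hx : x ∈ grAt ψ) :
    _root_.IsReduced (X.presheaf.stalk x) := by
  have sq : IsPullback X.isoSpec.hom ψ (Spec.map ψ.appTop) Y.isoSpec.hom :=
    IsPullback.of_horiz_isIso ⟨Scheme.isoSpec_hom_naturality ψ⟩
  have hx' : X.isoSpec.hom x ∈ grAt (Spec.map ψ.appTop) := by
    have h := grAt_of_isPullback (Spec.map ψ.appTop) ψ X.isoSpec.hom Y.isoSpec.hom sq
    rw [h] at hx
    exact hx
  have hy' : _root_.IsReduced ((Spec Γ(Y, ⊤)).presheaf.stalk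
      ((Spec.map ψ.appTop) (X.isoSpec.hom x))) := by
    have h1 : (Spec.map ψ.appTop) (X.isoSpec.hom x) = Y.isoSpec.hom (ψ x) := by
      rw [← Scheme.Hom.comp_apply, Scheme.isoSpec_hom_naturality, Scheme.Hom.comp_apply]
    rw [h1]
    exact (isReduced_stalk_iff_of_isOpenImmersion Y.isoSpec.hom (ψ x)).mpr hy
  rw [← isReduced_stalk_iff_of_isOpenImmersion X.isoSpec.hom x]
  letI : Algebra Γ(Y, ⊤) Γ(X, ⊤) := ψ.appTop.hom.toAlgebra
  haveI hfp : Algebra.FinitePresentation Γ(Y, ⊤) Γ(X, ⊤) :=
    (HasRingHomProperty.iff_of_isAffine (P := @LocallyOfFinitePresentation)).mp ‹_›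
  haveI hflat : Module.Flat Γ(Y, ⊤) Γ(X, ⊤) :=
    (HasRingHomProperty.iff_of_isAffine (P := @Flat)).mp ‹_›
  have e2 := (Spec.stalkIso Γ(Y, ⊤) ((Spec.map ψ.appTop) (X.isoSpec.hom x))).commRingCatIsoToRingEquiv
  haveI hA : _root_.IsReduced (Localization.AtPrime
      ((X.isoSpec.hom x : PrimeSpectrum Γ(X, ⊤)).asIdeal.comap (algebraMap Γ(Y, ⊤) Γ(X, ⊤)))) := by
    haveI := hy'
    exact isReduced_of_injective e2.symm e2.symm.injective
  have h3 := isReduced_localization_Spec Γ(Y, ⊤) Γ(X, ⊤) (X.isoSpec.hom x) hx'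
  have e1 := (Spec.stalkIso Γ(X, ⊤) (X.isoSpec.hom x)).commRingCatIsoToRingEquiv
  haveI := h3
  exact isReduced_of_injective e1 e1.injective

/-- **reducedness of the total space**: `f` flat and locally of finite presentation, `O_{Y,f x}`
reduced and the fibre geometrically reduced at `x` ⇒ `O_{X,x}` reduced. -/
theorem isReduced_stalk {X Y : Scheme.{u}} (f : X ⟶ Y) [Flat f] [LocallyOfFinitePresentation f]
    (x : X) (hy : _root_.IsReduced (Y.presheaf.stalk (f x))) (hx : x ∈ grAt f) :
    _root_.IsReduced (X.presheaf.stalk x) := by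
  obtain ⟨V, hV, hxV⟩ : ∃ V : Y.Opens, IsAffineOpen V ∧ f x ∈ V := by
    obtain ⟨_, ⟨V, hV, rfl⟩, h, -⟩ := Y.isBasis_affineOpens.exists_subset_of_mem_open
      (Set.mem_univ (f x)) isOpen_univ
    exact ⟨V, hV, h⟩
  obtain ⟨U, hU, hxU, hUV⟩ : ∃ U : X.Opens, IsAffineOpen U ∧ x ∈ U ∧ U ≤ f ⁻¹ᵁ V := by
    have h0 : x ∈ f ⁻¹ᵁ V := hxV
    obtain ⟨_, ⟨U, hU, rfl⟩, h, h'⟩ := X.isBasis_affineOpens.exists_subset_of_mem_open
      h0 (f ⁻¹ᵁ V).2
    exact ⟨U, hU, h, h'⟩
  haveI : IsAffine (U : Scheme) := hU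
  haveI : IsAffine (V : Scheme) := hV
  have hgr := grAt_resLE f hUV
  have h1 : (⟨x, hxU⟩ : (U : Scheme)) ∈ grAt (f.resLE V U hUV) := by
    rw [hgr]
    exact hx
  have hpt : V.ι ((f.resLE V U hUV) (⟨x, hxU⟩ : (U : Scheme))) = f x := by
    rw [← Scheme.Hom.comp_apply, Scheme.Hom.resLE_comp_ι f hUV, Scheme.Hom.comp_apply]
    rfl
  have h2 : _root_.IsReduced ((V : Scheme).presheaf.stalk
      ((f.resLE V U hUV) (⟨x, hxU⟩ : (U : Scheme)))) := by
    refine (isReduced_stalk_iff_of_isOpenImmersion V.ι _).mp ?_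
    rw [hpt]
    exact hy
  have h3 := isReduced_stalk_of_isAffine (f.resLE V U hUV) ⟨x, hxU⟩ h2 h1
  exact (isReduced_stalk_iff_of_isOpenImmersion U.ι (⟨x, hxU⟩ : (U : Scheme))).mpr h3

end Groth.Agent.H1.GRedPtData
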