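import Mathlib
import Groth.Prelude.Def_W4c2lssmoduliGProp
import Groth.Agent.Lib.Helper2.QCClosure
import Groth.Agent.Lib.Helper8.DVRSch2
import Groth.Agent.Lib.Helper2.DVRGen4
import Groth.Agent.Lib.Helper1.GrpMaxRedB

/-! G-universally closed morphisms: the image is closed and proper over the base (S14998)
(helper1). -/

set_option autoImplicit false
set_option linter.style.haveILetI false
universe u

namespace Groth.Agent.H1.GUC

open CategoryTheory CategoryTheory.Limits AlgebraicGeometry MonoidalCategory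
  CartesianMonoidalCategory IsLocalRing

variable {k : Type u} [Field k] {G R S T : Over (Spec (CommRingCat.of k))} [GrpObj G]

theorem exists_lift_dvr (a : AlgGrp.Action G R) (f : R ⟶ S) (q : S ⟶ T)
    (hf : W4c2lssmoduli.IsInvariantMor a f) (hp : W4c2lssmoduli.IsGUnivClosed a (f ≫ q))
    (A : Type u) [CommRing A] [IsDomain A] [IsDiscreteValuationRing A]
    (u₀ : Spec (CommRingCat.of (FractionRing A)) ⟶ R.left) (y : Spec (CommRingCat.of A) ⟶ T.left)
    (h : u₀ ≫ f.left ≫ q.left =
      Spec.map (CommRingCat.ofHom (algebraMap A (FractionRing A))) ≫ y) :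
    ∃ i₀ : Spec (CommRingCat.of A) ⟶ R.left, i₀ ≫ f.left ≫ q.left = y ∧
      Spec.map (CommRingCat.ofHom (algebraMap A (FractionRing A))) ≫ i₀ ≫ f.left =
        u₀ ≫ f.left := by
  obtain ⟨sA, hsA⟩ : ∃ sA : Spec (CommRingCat.of A) ⟶ Spec (CommRingCat.of k),
      sA = y ≫ T.hom := ⟨_, rfl⟩
  have hw : u₀ ≫ R.hom =
      Spec.map (CommRingCat.ofHom (algebraMap A (FractionRing A))) ≫ sA := by
    rw [hsA, ← Category.assoc, ← h]
    simp only [Category.assoc]
    rw [Over.w q, Over.w f]
  obtain ⟨g, hg⟩ : ∃ g : Over.mk (Spec.map (CommRingCat.ofHom (algebraMap A (FractionRing A))) ≫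
      sA) ⟶ R, g.left = u₀ := ⟨Over.homMk u₀ hw, rfl⟩
  obtain ⟨h', hh'⟩ : ∃ h' : Over.mk sA ⟶ T, h'.left = y := ⟨Over.homMk y hsA.symm, rfl⟩
  have hsq : g ≫ (f ≫ q) =
      Over.homMk (Spec.map (CommRingCat.ofHom (algebraMap A (FractionRing A)))) rfl ≫ h' := by
    apply Over.OverMorphism.ext
    simp only [Over.comp_left, Over.homMk_left, hg, hh']
    exact h
  obtain ⟨i, γ, hi1, hi2⟩ := hp.2 A (FractionRing A) sA g h' hsq
  have hf' : a.act ≫ f = snd G R ≫ f := hf
  refine ⟨i.left, ?_, ?_⟩
  · have := congrArg (fun m => m.left) hi1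
    simp only [Over.comp_left, hh'] at this
    exact this
  · have e : (Over.homMk (Spec.map (CommRingCat.ofHom (algebraMap A (FractionRing A)))) rfl ≫ i) ≫
        f = g ≫ f := by
      rw [hi2, Category.assoc, hf', ← Category.assoc, lift_snd]
    have := congrArg (fun m => m.left) e
    simp only [Over.comp_left, Over.homMk_left, hg, Category.assoc] at this
    exact this

set_option maxHeartbeats 1600000 in
theorem main [LocallyOfFiniteType R.hom] [CompactSpace R.left] [LocallyOfFiniteType S.hom]
    [CompactSpace S.left] [LocallyOfFiniteType T.hom] [CompactSpace T.left]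
    (a : AlgGrp.Action G R) (f : R ⟶ S) (q : S ⟶ T) [IsSeparated q.left]
    (hf : W4c2lssmoduli.IsInvariantMor a f) (hp : W4c2lssmoduli.IsGUnivClosed a (f ≫ q)) :
    IsClosed (Set.range f.left.base) ∧
      IsProper ((Scheme.IdealSheafData.vanishingIdeal
          (⟨closure (Set.range f.left.base), isClosed_closure⟩ :
            TopologicalSpace.Closeds ↥S.left)).subschemeι ≫ q.left) := by
  haveI : IsLocallyNoetherian S.left := LocallyOfFiniteType.isLocallyNoetherian S.hom
  haveI : IsLocallyNoetherian T.left := LocallyOfFiniteType.isLocallyNoetherian T.hom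
  haveI : LocallyOfFiniteType f.left := by
    have : LocallyOfFiniteType (f.left ≫ S.hom) := by rw [Over.w]; infer_instance
    exact locallyOfFiniteType_of_comp f.left S.hom
  haveI : LocallyOfFiniteType q.left := by
    have : LocallyOfFiniteType (q.left ≫ T.hom) := by rw [Over.w]; infer_instance
    exact locallyOfFiniteType_of_comp q.left T.hom
  haveI : QuasiCompact f.left := inferInstance
  haveI : QuasiCompact q.left := inferInstance
  have h1 : IsClosed (Set.range f.left.base) := by
    rw [← closure_subset_iff_isClosed]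
    intro z hz
    have hz' : z ∈ closure (f.left '' Set.univ) := by rwa [Set.image_univ]
    obtain ⟨r, -, hrz⟩ :=
      Groth.Agent.H2.exists_specializes_of_mem_closure_image f.left isClosed_univ hz'
    by_cases hne : f.left r = z
    · exact ⟨r, hne⟩
    obtain ⟨B, _, _, _, u', h', hh1, hh2, hh3⟩ :=
      Groth.Agent.H8.DVRSch.exists_dvr_of_specializes_of_locallyOfFiniteType f.left r hrz hne
    obtain ⟨i₀, hi1, hi2⟩ := exists_lift_dvr a f q hf hp B u' (h' ≫ q.left)
      (by rw [← Category.assoc, ← hh1, Category.assoc])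
    have huniq := Groth.Agent.H8.DVRSch.dvrUniqueness_of_isSeparated q.left B (i₀ ≫ f.left) h'
      (by rw [Category.assoc]; exact hi1) (by rw [hi2, hh1])
    refine ⟨i₀ (closedPoint B), ?_⟩
    show f.left (i₀ (closedPoint B)) = z
    rw [← Scheme.Hom.comp_apply, huniq, hh2]
  refine ⟨h1, ?_⟩
  obtain ⟨C, hC⟩ : ∃ C : TopologicalSpace.Closeds S.left,
      C = ⟨closure (Set.range f.left.base), isClosed_closure⟩ := ⟨_, rfl⟩
  rw [← hC]
  obtain ⟨ι, hι⟩ : ∃ ι : (Scheme.IdealSheafData.vanishingIdeal C).subscheme ⟶ S.left,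
      ι = (Scheme.IdealSheafData.vanishingIdeal C).subschemeι := ⟨_, rfl⟩
  rw [← hι]
  haveI : IsClosedImmersion ι := by rw [hι]; infer_instance
  have hrι : Set.range ι = (C : Set S.left) := by
    rw [hι, Scheme.IdealSheafData.range_subschemeι,
      Scheme.IdealSheafData.coe_support_vanishingIdeal]
  have hCcl : (C : Set S.left) = closure (Set.range f.left) := by rw [hC]; rfl
  have hsub : Set.range f.left ⊆ Set.range ι := by
    rw [hrι, hCcl]; exact subset_closure
  haveI : QuasiCompact ι := inferInstance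
  haveI : LocallyOfFiniteType ι := inferInstance
  apply Groth.Agent.H2.DVRGen.isProper_of_dense_dvr (ι ≫ q.left) (pullback.snd f.left ι)
  · intro x
    show x ∈ closure (Set.range (pullback.snd f.left ι))
    rw [Scheme.Pullback.range_snd,
      ι.isClosedEmbedding.isEmbedding.isInducing.closure_eq_preimage_closure_image]
    show ι x ∈ closure (ι '' (ι ⁻¹' Set.range f.left))
    rw [Set.image_preimage_eq_of_subset hsub, ← hCcl, ← hrι]
    exact ⟨x, rfl⟩
  · intro A _ _ _ u y huy
    obtain ⟨i₀, hi1, hi2⟩ := exists_lift_dvr a f q hf hp A (u ≫ pullback.fst f.left ι) y (by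
      rw [← huy]
      simp only [Category.assoc]
      rw [pullback.condition_assoc])
    obtain ⟨l, hl⟩ := Groth.Agent.H1.GrpMaxRedB.exists_lift_of_isReduced_of_range_subset
      (i₀ ≫ f.left) ι (by
        rintro _ ⟨p, rfl⟩
        apply hsub
        exact ⟨i₀ p, by rw [Scheme.Hom.comp_apply]⟩)
    refine ⟨l, ?_, ?_⟩
    · rw [← Category.assoc, hl, Category.assoc]; exact hi1
    · rw [← cancel_mono ι, Category.assoc, hl, hi2]
      simp only [Category.assoc]
      rw [pullback.condition]

end Groth.Agent.H1.GUC
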