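import Mathlib
import Groth.Prelude.Def_W4c2lssmoduliGProp
import Groth.Agent.Lib.Helper1.GUC
import Groth.Agent.Lib.Helper8.Japanese.NagFT19
import Groth.Agent.Lib.Helper6.NZ2

/-! Invariant functions of a G-universally closed morphism to an affine scheme form a finite
module (S14999) (helper1). -/

set_option autoImplicit false
set_option linter.style.haveILetI false
universe u

namespace Groth.Agent.H1.GUCInv

open CategoryTheory CategoryTheory.Limits AlgebraicGeometry MonoidalCategory
  CartesianMonoidalCategory Polynomial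

variable {k : Type u} [Field k]

/-- The affine line over `Spec A`, as a `k`-scheme. -/
noncomputable def SAX (k A : Type u) [Field k] [CommRing A] [Algebra k A] :
    Over (Spec (CommRingCat.of k)) :=
  Over.mk (Spec.map (CommRingCat.ofHom (algebraMap A A[X])) ≫
    Spec.map (CommRingCat.ofHom (algebraMap k A)))

/-- The projection of the affine line to `Spec A`. -/
noncomputable def qAX (k A : Type u) [Field k] [CommRing A] [Algebra k A] :
    SAX k A ⟶ Over.mk (Spec.map (CommRingCat.ofHom (algebraMap k A))) :=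
  Over.homMk (Spec.map (CommRingCat.ofHom (algebraMap A A[X]))) rfl

section inst
variable (k A : Type u) [Field k] [CommRing A] [Algebra k A]

instance : IsAffine (SAX k A).left := inferInstanceAs (IsAffine (Spec (CommRingCat.of A[X])))
instance : CompactSpace (SAX k A).left :=
  inferInstanceAs (CompactSpace (Spec (CommRingCat.of A[X])))
instance : IsAffine (Over.mk (Spec.map (CommRingCat.ofHom (algebraMap k A)))).left :=
  inferInstanceAs (IsAffine (Spec (CommRingCat.of A)))
instance : CompactSpace (Over.mk (Spec.map (CommRingCat.ofHom (algebraMap k A)))).left :=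
  inferInstanceAs (CompactSpace (Spec (CommRingCat.of A)))

instance [Algebra.FiniteType k A] :
    LocallyOfFiniteType (Over.mk (Spec.map (CommRingCat.ofHom (algebraMap k A)))).hom := by
  show LocallyOfFiniteType (Spec.map (CommRingCat.ofHom (algebraMap k A)))
  rw [HasRingHomProperty.Spec_iff (P := @LocallyOfFiniteType)]
  exact RingHom.finiteType_algebraMap.mpr inferInstance

instance [Algebra.FiniteType k A] : LocallyOfFiniteType (SAX k A).hom := by
  show LocallyOfFiniteType (Spec.map (CommRingCat.ofHom (algebraMap A A[X])) ≫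
    Spec.map (CommRingCat.ofHom (algebraMap k A)))
  haveI : LocallyOfFiniteType (Spec.map (CommRingCat.ofHom (algebraMap k A))) := by
    rw [HasRingHomProperty.Spec_iff (P := @LocallyOfFiniteType)]
    exact RingHom.finiteType_algebraMap.mpr inferInstance
  haveI : LocallyOfFiniteType (Spec.map (CommRingCat.ofHom (algebraMap A A[X]))) := by
    rw [HasRingHomProperty.Spec_iff (P := @LocallyOfFiniteType)]
    exact RingHom.finiteType_algebraMap.mpr inferInstance
  infer_instance

end inst

/-- Invariance of pulled-back functions under an invariant morphism. -/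
theorem appTop_invariant {G Y T : Over (Spec (CommRingCat.of k))} [GrpObj G]
    (a : AlgGrp.Action G Y) (p : Y ⟶ T) (hp : W4c2lssmoduli.IsInvariantMor a p)
    (x : Γ(T.left, ⊤)) :
    a.act.left.appTop.hom (p.left.appTop.hom x) =
      (snd G Y).left.appTop.hom (p.left.appTop.hom x) := by
  have h0 : a.act ≫ p = snd G Y ≫ p := hp
  have h := congrArg (fun m => m.left) h0
  simp only [Over.comp_left] at h
  have h2 := congrArg (fun m => m.appTop.hom x) h
  exact h2

/-- Abstract integrality: functions pulled back from an affine `S` along an invariant `f` are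
integral over the functions of the affine `T` when `f ≫ q` is `G`-universally closed. -/
theorem isIntegralElem_appTop {G R S T : Over (Spec (CommRingCat.of k))} [GrpObj G]
    [LocallyOfFiniteType R.hom] [CompactSpace R.left] [IsReduced R.left]
    [LocallyOfFiniteType S.hom] [CompactSpace S.left] [LocallyOfFiniteType T.hom]
    [CompactSpace T.left] [IsAffine S.left] [IsAffine T.left]
    (a : AlgGrp.Action G R) (f : R ⟶ S) (q : S ⟶ T)
    (hf : W4c2lssmoduli.IsInvariantMor a f) (hp : W4c2lssmoduli.IsGUnivClosed a (f ≫ q))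
    (x : Γ(S.left, ⊤)) :
    ((f.left ≫ q.left).appTop).hom.IsIntegralElem (f.left.appTop.hom x) := by
  haveI : IsAffineHom q.left := isAffineHom_of_isAffine _
  haveI : IsSeparated q.left := inferInstance
  obtain ⟨-, hprop⟩ := Groth.Agent.H1.GUC.main a f q hf hp
  obtain ⟨C, hC⟩ : ∃ C : TopologicalSpace.Closeds S.left,
      C = ⟨closure (Set.range f.left.base), isClosed_closure⟩ := ⟨_, rfl⟩
  rw [← hC] at hprop
  obtain ⟨ι, hι⟩ : ∃ ι : (Scheme.IdealSheafData.vanishingIdeal C).subscheme ⟶ S.left,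
      ι = (Scheme.IdealSheafData.vanishingIdeal C).subschemeι := ⟨_, rfl⟩
  rw [← hι] at hprop
  haveI : IsClosedImmersion ι := by rw [hι]; infer_instance
  have hrι : Set.range ι = (C : Set S.left) := by
    rw [hι, Scheme.IdealSheafData.range_subschemeι,
      Scheme.IdealSheafData.coe_support_vanishingIdeal]
  have hCcl : (C : Set S.left) = closure (Set.range f.left) := by rw [hC]; rfl
  have hsub : Set.range f.left ⊆ Set.range ι := by
    rw [hrι, hCcl]; exact subset_closure
  obtain ⟨g', hg'⟩ :=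
    Groth.Agent.H1.GrpMaxRedB.exists_lift_of_isReduced_of_range_subset f.left ι hsub
  haveI : IsFinite (ι ≫ q.left) :=
    IsFinite.iff_isProper_and_isAffineHom.mpr ⟨hprop, inferInstance⟩
  have hfin : (ι ≫ q.left).appTop.hom.Finite := Scheme.Hom.finite_appTop _
  obtain ⟨P, hPm, hP0⟩ := hfin.to_isIntegral (ι.appTop.hom x)
  refine ⟨P, hPm, ?_⟩
  have h3 := congrArg g'.appTop.hom hP0
  rw [Polynomial.hom_eval₂, map_zero] at h3
  have e1 : g'.appTop.hom.comp (ι ≫ q.left).appTop.hom = (f.left ≫ q.left).appTop.hom := by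
    rw [← hg']; rfl
  have e2 : g'.appTop.hom (ι.appTop.hom x) = f.left.appTop.hom x := by
    rw [← hg']; rfl
  rw [e1, e2] at h3
  exact h3

/-- An invariant global function is integral over `A`. -/
theorem isIntegralElem_of_invariant {G Y : Over (Spec (CommRingCat.of k))} [GrpObj G]
    [LocallyOfFiniteType Y.hom] [CompactSpace ↥Y.left] [IsReduced Y.left]
    (A : Type u) [CommRing A] [Algebra k A] [Algebra.FiniteType k A]
    (a : AlgGrp.Action G Y)
    (p : Y ⟶ Over.mk (Spec.map (CommRingCat.ofHom (algebraMap k A))))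
    (hp : W4c2lssmoduli.IsGUnivClosed a p)
    (s : Γ(Y.left, ⊤))
    (hs : a.act.left.appTop.hom s = (snd G Y).left.appTop.hom s) :
    ((Scheme.ΓSpecIso (CommRingCat.of A)).inv ≫ p.left.appTop).hom.IsIntegralElem s := by
  obtain ⟨pl, hpl⟩ : ∃ pl : Y.left ⟶ Spec (CommRingCat.of A), pl = p.left := ⟨p.left, rfl⟩
  obtain ⟨φ, hφ⟩ : ∃ φ : CommRingCat.of A ⟶ Γ(Y.left, ⊤),
      φ = (Scheme.ΓSpecIso (CommRingCat.of A)).inv ≫ pl.appTop := ⟨_, rfl⟩
  have hgoal : (Scheme.ΓSpecIso (CommRingCat.of A)).inv ≫ p.left.appTop = φ := by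
    rw [hφ, hpl]
  rw [hgoal]
  have h1 : pl = Y.left.toSpecΓ ≫ Spec.map φ := by
    rw [hφ, Spec.map_comp, ← Scheme.toSpecΓ_naturality_assoc, toSpecΓ_SpecMap_ΓSpecIso_inv,
      Category.comp_id]
  obtain ⟨ρ, hρ⟩ : ∃ ρ : A[X] →+* Γ(Y.left, ⊤), ρ = Polynomial.eval₂RingHom φ.hom s :=
    ⟨_, rfl⟩
  have hρC' : ∀ c : A, ρ (C c) = φ.hom c := by
    intro c; rw [hρ]; simp
  have hρC : (CommRingCat.ofHom (algebraMap A A[X])) ≫ CommRingCat.ofHom ρ = φ := by
    apply CommRingCat.hom_ext
    apply RingHom.ext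
    intro c
    simp only [CommRingCat.hom_comp, CommRingCat.hom_ofHom, RingHom.comp_apply,
      Polynomial.algebraMap_apply, Algebra.algebraMap_self, RingHom.id_apply]
    exact hρC' c
  have hρX : ρ X = s := by rw [hρ]; simp
  obtain ⟨f₀, hf₀⟩ : ∃ f₀ : Y.left ⟶ Spec (CommRingCat.of A[X]),
      f₀ = Y.left.toSpecΓ ≫ Spec.map (CommRingCat.ofHom ρ) := ⟨_, rfl⟩
  have hf₀q : f₀ ≫ Spec.map (CommRingCat.ofHom (algebraMap A A[X])) = pl := by
    rw [hf₀, Category.assoc, ← Spec.map_comp, hρC, ← h1]
  have hf₀top : f₀.appTop =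
      (Scheme.ΓSpecIso (CommRingCat.of A[X])).hom ≫ CommRingCat.ofHom ρ := by
    rw [hf₀, Scheme.Hom.comp_appTop, Scheme.toSpecΓ_appTop, Scheme.ΓSpecIso_naturality]
  have hw : f₀ ≫ (SAX k A).hom = Y.hom := by
    show f₀ ≫ Spec.map (CommRingCat.ofHom (algebraMap A A[X])) ≫
      Spec.map (CommRingCat.ofHom (algebraMap k A)) = Y.hom
    rw [← Category.assoc, hf₀q, hpl]
    exact Over.w p
  obtain ⟨f, hf⟩ : ∃ f : Y ⟶ SAX k A, f.left = f₀ := ⟨Over.homMk f₀ hw, rfl⟩
  have hfq : f ≫ qAX k A = p := by
    apply Over.OverMorphism.ext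
    rw [Over.comp_left, hf, ← hpl, ← hf₀q]
    rfl
  have hpinv : ∀ c : A, a.act.left.appTop.hom (φ.hom c) =
      (snd G Y).left.appTop.hom (φ.hom c) := by
    intro c
    have := appTop_invariant a p hp.1 ((Scheme.ΓSpecIso (CommRingCat.of A)).inv.hom c)
    rw [hφ, hpl]
    exact this
  have hinv : W4c2lssmoduli.IsInvariantMor a f := by
    show a.act ≫ f = snd G Y ≫ f
    have hρeq : CommRingCat.ofHom ρ ≫ a.act.left.appTop =
        CommRingCat.ofHom ρ ≫ (snd G Y).left.appTop := by
      apply CommRingCat.hom_ext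
      apply Polynomial.ringHom_ext
      · intro c
        simp only [CommRingCat.hom_comp, CommRingCat.hom_ofHom, RingHom.comp_apply]
        rw [hρC' c]
        exact hpinv c
      · simp only [CommRingCat.hom_comp, CommRingCat.hom_ofHom, RingHom.comp_apply]
        rw [hρX]
        exact hs
    have hleft : a.act.left ≫ f₀ = (snd G Y).left ≫ f₀ := by
      rw [hf₀, Scheme.toSpecΓ_naturality_assoc, Scheme.toSpecΓ_naturality_assoc,
        ← Spec.map_comp, ← Spec.map_comp, hρeq]
    apply Over.OverMorphism.ext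
    rw [Over.comp_left, Over.comp_left, hf]
    exact hleft
  have hp' : W4c2lssmoduli.IsGUnivClosed a (f ≫ qAX k A) := by rw [hfq]; exact hp
  obtain ⟨x, hx⟩ : ∃ x : Γ((SAX k A).left, ⊤),
      x = (Scheme.ΓSpecIso (CommRingCat.of A[X])).inv.hom X := ⟨_, rfl⟩
  have hI := isIntegralElem_appTop a f (qAX k A) hinv hp' x
  have e2 : f.left ≫ (qAX k A).left = pl := by
    rw [hf]; exact hf₀q
  have hxx : (Scheme.ΓSpecIso (CommRingCat.of A[X])).hom.hom
      ((Scheme.ΓSpecIso (CommRingCat.of A[X])).inv.hom X) = X := by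
    have := congrArg (fun m => m.hom (X : A[X]))
      (Scheme.ΓSpecIso (CommRingCat.of A[X])).inv_hom_id
    simpa only [CommRingCat.hom_comp, RingHom.comp_apply, CommRingCat.hom_id,
      RingHom.id_apply] using this
  have e1' : f₀.appTop.hom ((Scheme.ΓSpecIso (CommRingCat.of A[X])).inv.hom X) = s := by
    rw [hf₀top]
    simp only [CommRingCat.hom_comp, CommRingCat.hom_ofHom, RingHom.comp_apply]
    rw [hxx, hρX]
  have e1 : f.left.appTop.hom x = s := by
    rw [hf, hx]; exact e1'
  rw [e2, e1] at hI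
  obtain ⟨P, hPm, hP0⟩ := hI
  refine ⟨(P : Polynomial Γ(Spec (CommRingCat.of A), ⊤)).map
    (Scheme.ΓSpecIso (CommRingCat.of A)).hom.hom, hPm.map _, ?_⟩
  rw [Polynomial.eval₂_map]
  have e3 : φ.hom.comp (Scheme.ΓSpecIso (CommRingCat.of A)).hom.hom = pl.appTop.hom := by
    rw [← CommRingCat.hom_comp, hφ, Iso.hom_inv_id_assoc]
  rw [e3]
  exact hP0

set_option maxHeartbeats 1600000 in
/-- S14999: invariant global functions form a finite `A`-module. -/
theorem main (k : Type u) [Field k]
    (G Y : Over (Spec (CommRingCat.of k))) [GrpObj G]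
    [LocallyOfFiniteType Y.hom] [CompactSpace ↥Y.left] [IsIntegral Y.left]
    (A : Type u) [CommRing A] [Algebra k A] [Algebra.FiniteType k A]
    (a : AlgGrp.Action G Y)
    (p : Y ⟶ Over.mk (Spec.map (CommRingCat.ofHom (algebraMap k A))))
    (hp : W4c2lssmoduli.IsGUnivClosed a p) :
    ∃ t : Finset ↑Γ(Y.left, ⊤),
      (∀ s ∈ t, a.act.left.appTop s = (CartesianMonoidalCategory.snd G Y).left.appTop s) ∧
      ∀ s : ↑Γ(Y.left, ⊤),
        a.act.left.appTop s = (CartesianMonoidalCategory.snd G Y).left.appTop s →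
        ∃ c : ↑Γ(Y.left, ⊤) → A,
          s = ∑ x ∈ t, ((Scheme.ΓSpecIso (CommRingCat.of A)).inv ≫ p.left.appTop) (c x) * x := by
  classical
  obtain ⟨φ, hφ⟩ : ∃ φ : A →+* Γ(Y.left, ⊤),
      φ = ((Scheme.ΓSpecIso (CommRingCat.of A)).inv ≫ p.left.appTop).hom := ⟨_, rfl⟩
  have hφapp : ∀ c : A,
      ((Scheme.ΓSpecIso (CommRingCat.of A)).inv ≫ p.left.appTop) c = φ c := by
    intro c; rw [hφ]
  have hint : ∀ s : Γ(Y.left, ⊤),
      a.act.left.appTop s = (snd G Y).left.appTop s → φ.IsIntegralElem s := by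
    intro s hs; rw [hφ]; exact isIntegralElem_of_invariant A a p hp s hs
  have hφinv : ∀ c : A, a.act.left.appTop (φ c) = (snd G Y).left.appTop (φ c) := by
    intro c
    have := appTop_invariant a p hp.1 ((Scheme.ΓSpecIso (CommRingCat.of A)).inv.hom c)
    rw [hφ]
    exact this
  obtain ⟨y₀⟩ : Nonempty Y.left := inferInstance
  obtain ⟨_, ⟨U, hU, rfl⟩, hyU, -⟩ :=
    Y.left.isBasis_affineOpens.exists_subset_of_mem_open (Set.mem_univ y₀) isOpen_univ
  haveI : Nonempty U := ⟨⟨y₀, hyU⟩⟩
  haveI : IsDomain Γ(Y.left, U) := inferInstance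
  obtain ⟨res, hres⟩ : ∃ res : Γ(Y.left, ⊤) →+* Γ(Y.left, U),
      res = (Y.left.presheaf.map (homOfLE le_top).op).hom := ⟨_, rfl⟩
  have hresinj : Function.Injective res := by
    rw [hres]; exact map_injective_of_isIntegral Y.left (homOfLE le_top)
  haveI : LocallyOfFiniteType p.left := by
    have : LocallyOfFiniteType
        (p.left ≫ (Over.mk (Spec.map (CommRingCat.ofHom (algebraMap k A)))).hom) := by
      rw [Over.w]; infer_instance
    exact locallyOfFiniteType_of_comp p.left
      (Over.mk (Spec.map (CommRingCat.ofHom (algebraMap k A)))).hom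
  have hsurj : Function.Surjective (Scheme.ΓSpecIso (CommRingCat.of A)).inv.hom := by
    intro x
    refine ⟨(Scheme.ΓSpecIso (CommRingCat.of A)).hom.hom x, ?_⟩
    have := congrArg (fun m => m.hom x) (Scheme.ΓSpecIso (CommRingCat.of A)).hom_inv_id
    simpa only [CommRingCat.hom_comp, RingHom.comp_apply, CommRingCat.hom_id,
      RingHom.id_apply] using this
  have hft0 : (p.left.appLE ⊤ U (by simp)).hom.FiniteType :=
    p.left.finiteType_appLE (isAffineOpen_top _) hU (by simp)
  have hψft : (res.comp φ).FiniteType := by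
    have h := hft0.comp (RingHom.FiniteType.of_surjective _ hsurj)
    have e : (p.left.appLE ⊤ U (by simp)).hom.comp
        (Scheme.ΓSpecIso (CommRingCat.of A)).inv.hom = res.comp φ := by
      rw [hres, hφ]; rfl
    rw [← e]; exact h
  letI algD : Algebra A Γ(Y.left, U) := (res.comp φ).toAlgebra
  haveI : Algebra.FiniteType A Γ(Y.left, U) := hψft
  have hNag : CAlg.IsNagata A :=
    Groth.Agent.H8.Jap.NagFT.isNagata_of_finiteType k A (Groth.Agent.H6.NZ.isNagata_field k)
  have hfinIC : Module.Finite A (integralClosure A Γ(Y.left, U)) :=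
    Groth.Agent.H8.Jap.NagFT.finite_integralClosure_of_domain A _ hNag
  haveI : IsNoetherianRing A := Algebra.FiniteType.isNoetherianRing k A
  letI algΓ : Algebra A Γ(Y.left, ⊤) := φ.toAlgebra
  obtain ⟨Inv, hInv⟩ : ∃ Inv : Submodule A Γ(Y.left, ⊤),
      ∀ s, s ∈ Inv ↔ a.act.left.appTop s = (snd G Y).left.appTop s :=
    ⟨{ carrier := {s | a.act.left.appTop s = (snd G Y).left.appTop s}
       add_mem' := by
         intro x y hx hy
         simp only [Set.mem_ofPred_eq] at hx hy ⊢
         rw [map_add, map_add, hx, hy]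
       zero_mem' := by simp only [Set.mem_ofPred_eq, map_zero]
       smul_mem' := by
         intro c x hx
         simp only [Set.mem_ofPred_eq] at hx ⊢
         rw [Algebra.smul_def, map_mul, map_mul, hx]
         congr 1
         exact hφinv c }, fun s => Iff.rfl⟩
  obtain ⟨resL, hresL⟩ : ∃ resL : Γ(Y.left, ⊤) →ₗ[A] Γ(Y.left, U), ∀ s, resL s = res s :=
    ⟨{ toFun := res
       map_add' := map_add res
       map_smul' := by
         intro c s
         simp only [Algebra.smul_def, map_mul, RingHom.id_apply]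
         rfl }, fun s => rfl⟩
  have hle : Inv.map resL ≤ Subalgebra.toSubmodule (integralClosure A Γ(Y.left, U)) := by
    rintro _ ⟨s, hs, rfl⟩
    obtain ⟨P, hPm, hP0⟩ := hint s ((hInv s).mp hs)
    show IsIntegral A (resL s)
    refine ⟨P, hPm, ?_⟩
    have h3 := congrArg res hP0
    rw [Polynomial.hom_eval₂, map_zero] at h3
    rw [hresL]
    exact h3
  haveI : IsNoetherian A (Subalgebra.toSubmodule (integralClosure A Γ(Y.left, U))) := by
    haveI : Module.Finite A (Subalgebra.toSubmodule (integralClosure A Γ(Y.left, U))) := hfinIC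
    infer_instance
  have hfg : (Inv.map resL).FG := (isNoetherian_submodule.mp inferInstance) _ hle
  have hInvfg : Inv.FG := Submodule.fg_of_fg_map_injective resL (by
    intro x y h
    rw [hresL, hresL] at h
    exact hresinj h) hfg
  obtain ⟨t, ht⟩ := hInvfg
  refine ⟨t, ?_, ?_⟩
  · intro s hs
    have : s ∈ Inv := by rw [← ht]; exact Submodule.subset_span hs
    exact (hInv s).mp this
  · intro s hs
    have hmem : s ∈ Submodule.span A (t : Set Γ(Y.left, ⊤)) := by
      rw [ht]; exact (hInv s).mpr hs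
    obtain ⟨c, -, hc⟩ := Submodule.mem_span_finset.mp hmem
    refine ⟨c, ?_⟩
    rw [← hc]
    apply Finset.sum_congr rfl
    intro x _
    rw [Algebra.smul_def, hφapp]
    rfl

end Groth.Agent.H1.GUCInv
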