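import Mathlib
import Groth.Agent.Lib.Helper9.Misc.FLH5
import Groth.Agent.Lib.Helper9.Misc.GRD1
import Groth.Agent.Lib.Helper9.Misc.GZD3
import Groth.Agent.Lib.Helper8.RedImm
import Groth.Prelude.Def_Red

/-! SGA3 VI_B 1.2–1.4: for a quasi-compact homomorphism `u : G ⟶ H` of group schemes over a perfect
field, the reduced closure of the image is a closed subgroup scheme `Z` of `H`, and
`G_red ⟶ Z` is faithfully flat (via helper9's S5355).  Consequences over a local artinian base:
a quasi-compact monomorphism of group schemes locally of finite type is a closed immersion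
(S3036) (helper1). -/

set_option autoImplicit false
set_option linter.style.haveILetI false
universe u

namespace Groth.Agent.H1.GrpImg

open CategoryTheory CategoryTheory.Limits MonoidalCategory CartesianMonoidalCategory MonObj GrpObj
  AlgebraicGeometry

/-! ### abstract pullback squares in a cartesian monoidal category -/

section Abstract

universe v₁ u₁
variable {C : Type u₁} [Category.{v₁} C] [CartesianMonoidalCategory C]

theorem isPullback_whiskerRight {F Z : C} (v : F ⟶ Z) (T : C) :
    IsPullback (v ▷ T) (fst F T) (fst Z T) v := by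
  refine ⟨⟨by simp⟩, ⟨PullbackCone.IsLimit.mk _ (fun s => lift s.snd (s.fst ≫ snd Z T)) ?_ ?_ ?_⟩⟩
  · intro s
    apply CartesianMonoidalCategory.hom_ext
    · simp [s.condition]
    · simp
  · intro s; simp
  · intro s m h1 h2
    apply CartesianMonoidalCategory.hom_ext
    · simpa using h2
    · rw [lift_snd, ← h1, Category.assoc, whiskerRight_snd]

theorem isPullback_whiskerLeft (T : C) {F Z : C} (v : F ⟶ Z) :
    IsPullback (T ◁ v) (snd T F) (snd T Z) v := by
  refine ⟨⟨by simp⟩, ⟨PullbackCone.IsLimit.mk _ (fun s => lift (s.fst ≫ fst T Z) s.snd) ?_ ?_ ?_⟩⟩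
  · intro s
    apply CartesianMonoidalCategory.hom_ext
    · simp
    · simp [s.condition]
  · intro s; simp
  · intro s m h1 h2
    apply CartesianMonoidalCategory.hom_ext
    · rw [lift_fst, ← h1, Category.assoc, whiskerLeft_fst]
    · simpa using h2

end Abstract

/-! ### density and base change along open maps -/

theorem denseRange_of_isPullback {P X Y Z : Scheme.{u}} {a : P ⟶ X} {b : P ⟶ Y} {f : X ⟶ Z}
    {g : Y ⟶ Z} (h : IsPullback a b f g) (hf : IsOpenMap f) (hg : DenseRange g) :
    DenseRange a := by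
  rw [DenseRange, dense_iff_inter_open]
  rintro W hW ⟨x, hx⟩
  obtain ⟨_, ⟨x', hx', rfl⟩, ⟨y, hy⟩⟩ :=
    (dense_iff_inter_open.mp hg) _ (hf W hW) ⟨f x, x, hx, rfl⟩
  obtain ⟨p, hp1, hp2⟩ := Scheme.Pullback.exists_preimage_pullback x' y hy.symm
  refine ⟨x', hx', h.isoPullback.inv p, ?_⟩
  rw [← Scheme.Hom.comp_apply, h.isoPullback_inv_fst]
  exact hp1

section Field

variable {K : Type u} [Field K]

theorem denseRange_tensorHom {F Z F' Z' : Over (Spec (CommRingCat.of K))} (v : F ⟶ Z)
    (v' : F' ⟶ Z') (hv : DenseRange v.left) (hv' : DenseRange v'.left) :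
    DenseRange (v ⊗ₘ v').left := by
  have h1 := (isPullback_whiskerRight v F').map (Over.forget _)
  have h2 := (isPullback_whiskerLeft Z v').map (Over.forget _)
  haveI : UniversallyOpen (fst Z F').left := by
    rw [Over.fst_left]; infer_instance
  haveI : UniversallyOpen (snd Z Z').left := by
    rw [Over.snd_left]; infer_instance
  have d1 : DenseRange (v ▷ F').left :=
    denseRange_of_isPullback h1 (fst Z F').left.isOpenMap hv
  have d2 : DenseRange (Z ◁ v').left :=
    denseRange_of_isPullback h2 (snd Z Z').left.isOpenMap hv'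
  rw [MonoidalCategory.tensorHom_def, Over.comp_left]
  exact d2.comp d1 (Z ◁ v').left.continuous

/-- The reduced subgroup scheme of a group scheme over a perfect field. -/
theorem exists_red [PerfectField K] (G : Over (Spec (CommRingCat.of K))) [GrpObj G] :
    ∃ (F : Over (Spec (CommRingCat.of K))) (_ : GrpObj F) (j : F ⟶ G), IsMonHom j ∧
      IsClosedImmersion j.left ∧ Surjective j.left ∧ IsReduced F.left := by
  obtain ⟨F0, j0, himm, hred, hr⟩ :=
    Groth.Agent.H8.RedImm.exists_reduced_immersion (Set.univ : Set G.left)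
      isClosed_univ.isLocallyClosed
  haveI : IsClosedImmersion j0 :=
    IsClosedImmersion.of_isPreimmersion j0 (by rw [hr]; exact isClosed_univ)
  haveI : Surjective j0 := ⟨Set.range_eq_univ.mp hr⟩
  obtain ⟨F, j, hFl, hj⟩ : ∃ (F : Over (Spec (CommRingCat.of K))) (j : F ⟶ G)
      (hFl : F.left = F0), j.left = eqToHom hFl ≫ j0 :=
    ⟨Over.mk (j0 ≫ G.hom), Over.homMk j0 rfl, rfl, by simp⟩
  subst hFl
  simp only [eqToHom_refl, Category.id_comp] at hj
  subst hj
  obtain ⟨⟨m, hm⟩, ⟨iv, hiv⟩, ⟨e, he⟩⟩ := Groth.Agent.H9.GRD.main K G F j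
  haveI : Mono j.left := inferInstance
  haveI : Mono j := (Over.forget _).mono_of_mono_map (inferInstanceAs (Mono j.left))
  letI grpF : GrpObj F := Groth.Agent.H9.GZD.grpObjOfMono j e m iv he hm hiv
  have hmon : IsMonHom j := Groth.Agent.H9.GZD.isMonHom_ofMono j e m iv he hm hiv
  exact ⟨F, grpF, j, hmon, inferInstance, inferInstance, hred⟩

/-- **Image factorisation** of a quasi-compact homomorphism of group schemes over a perfect
field: `G_red ⟶ Z ⟶ H` with `Z` the reduced closure of the image, a closed subgroup scheme, and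
`G_red ⟶ Z` faithfully flat. -/
theorem core [PerfectField K] (G H : Over (Spec (CommRingCat.of K))) [GrpObj G] [GrpObj H]
    (u : G ⟶ H) [IsMonHom u] [QuasiCompact u.left] :
    ∃ (F Z : Over (Spec (CommRingCat.of K))) (_ : GrpObj F) (_ : GrpObj Z) (j : F ⟶ G)
      (i : Z ⟶ H) (v : F ⟶ Z), IsMonHom j ∧ IsMonHom i ∧ IsMonHom v ∧
      IsClosedImmersion j.left ∧ Surjective j.left ∧ IsClosedImmersion i.left ∧
      v ≫ i = j ≫ u ∧ Surjective v.left ∧ Flat v.left ∧ QuasiCompact v.left ∧
      IsReduced F.left ∧ IsReduced Z.left ∧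
      Set.range i.left = closure (Set.range u.left) := by
  obtain ⟨F, grpF, j, hjmon, hjcl, hjsurj, hFred⟩ := exists_red G
  obtain ⟨Z0, i0, himm, hZred, hZr⟩ :=
    Groth.Agent.H8.RedImm.exists_reduced_immersion (closure (Set.range u.left))
      isClosed_closure.isLocallyClosed
  haveI : IsClosedImmersion i0 :=
    IsClosedImmersion.of_isPreimmersion i0 (by rw [hZr]; exact isClosed_closure)
  obtain ⟨Z, i, hZl, hi⟩ : ∃ (Z : Over (Spec (CommRingCat.of K))) (i : Z ⟶ H)
      (hZl : Z.left = Z0), i.left = eqToHom hZl ≫ i0 :=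
    ⟨Over.mk (i0 ≫ H.hom), Over.homMk i0 rfl, rfl, by simp⟩
  subst hZl
  simp only [eqToHom_refl, Category.id_comp] at hi
  subst hi
  haveI : Mono i.left := inferInstance
  haveI : Mono i := (Over.forget _).mono_of_mono_map (inferInstanceAs (Mono i.left))
  have hrange_u : Set.range (j.left ≫ u.left) = Set.range u.left := by
    rw [Scheme.Hom.comp_base, TopCat.coe_comp, Set.range_comp,
      Set.range_eq_univ.mpr hjsurj.surj, Set.image_univ]
  obtain ⟨v0, hv0⟩ := Groth.Agent.H8.RedImm.exists_lift_of_isImmersion_of_isReduced i.left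
    (j.left ≫ u.left) (by rw [hrange_u, hZr]; exact subset_closure)
  obtain ⟨v, hv⟩ : ∃ v : F ⟶ Z, v.left = v0 := by
    refine ⟨Over.homMk v0 ?_, rfl⟩
    rw [← Over.w i, ← Category.assoc, hv0, Category.assoc, Over.w u, Over.w j]
  subst hv
  have hvi : v ≫ i = j ≫ u := Over.OverMorphism.ext hv0
  -- density of the image
  have hvd : DenseRange v.left := by
    have hemb := i.left.isClosedEmbedding
    rw [DenseRange, dense_iff_closure_eq]
    have h2 : i.left '' Set.range v.left = Set.range u.left := by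
      rw [← hrange_u, ← hv0, Scheme.Hom.comp_base, TopCat.coe_comp, Set.range_comp]
    have h1 : i.left '' (closure (Set.range v.left)) = i.left '' Set.univ := by
      rw [← hemb.closure_image_eq, h2, Set.image_univ, hZr]
    exact (Set.image_injective.mpr hemb.injective) h1
  haveI hZZ : IsReduced (Z ⊗ Z).left := by
    have : (Z ⊗ Z).left = pullback Z.hom Z.hom := rfl
    rw [this]
    exact Groth.Agent.H9.GRD.isReduced_pullback K Z.hom Z.hom
  -- a closed-preimage argument
  have key : ∀ {T : Scheme.{u}} (φ : T ⟶ H.left) (D : Set T), Dense D →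
      (∀ x ∈ D, φ x ∈ Set.range u.left) → Set.range φ ⊆ Set.range i.left := by
    intro T φ D hD hφ
    rw [hZr]
    have hcl : IsClosed (φ ⁻¹' closure (Set.range u.left)) :=
      isClosed_closure.preimage φ.continuous
    have hsub : D ⊆ φ ⁻¹' closure (Set.range u.left) := fun x hx => subset_closure (hφ x hx)
    have huniv : φ ⁻¹' closure (Set.range u.left) = Set.univ :=
      Set.eq_univ_of_univ_subset (hD.closure_eq ▸ hcl.closure_subset_iff.mpr hsub)
    rintro _ ⟨z, rfl⟩
    exact (Set.eq_univ_iff_forall.mp huniv) z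
  -- multiplication
  obtain ⟨m, hm⟩ : ∃ m : Z ⊗ Z ⟶ Z, m ≫ i = (i ⊗ₘ i) ≫ μ[H] := by
    have hd : DenseRange (v ⊗ₘ v).left := denseRange_tensorHom v v hvd hvd
    have hsub : Set.range ((i ⊗ₘ i) ≫ μ[H]).left ⊆ Set.range i.left := by
      refine key _ _ hd ?_
      rintro _ ⟨w, rfl⟩
      refine ⟨((j ⊗ₘ j) ≫ μ[G]).left w, ?_⟩
      have h1 : (v ⊗ₘ v) ≫ (i ⊗ₘ i) ≫ μ[H] = ((j ⊗ₘ j) ≫ μ[G]) ≫ u := by
        rw [tensorHom_comp_tensorHom_assoc, hvi, ← tensorHom_comp_tensorHom_assoc, Category.assoc,
          IsMonHom.mul_hom]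
      have h2 := congrArg (fun φ => φ.left w) h1
      exact h2.symm
    obtain ⟨l, hl⟩ := Groth.Agent.H8.RedImm.exists_lift_of_isImmersion_of_isReduced i.left
      ((i ⊗ₘ i) ≫ μ[H]).left hsub
    refine ⟨Over.homMk l ?_, Over.OverMorphism.ext hl⟩
    rw [← Over.w i, ← Category.assoc, hl]
    exact Over.w _
  -- inverse
  obtain ⟨iv, hiv⟩ : ∃ iv : Z ⟶ Z, iv ≫ i = i ≫ ι[H] := by
    have hsub : Set.range (i ≫ ι[H]).left ⊆ Set.range i.left := by
      refine key _ _ hvd ?_
      rintro _ ⟨w, rfl⟩
      refine ⟨(j ≫ ι[G]).left w, ?_⟩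
      have h1 : v ≫ i ≫ ι[H] = (j ≫ ι[G]) ≫ u := by
        calc v ≫ i ≫ ι[H] = (v ≫ i) ≫ ι[H] := by rw [Category.assoc]
          _ = (j ≫ u) ≫ ι[H] := by rw [hvi]
          _ = j ≫ (ι[G] ≫ u) := by rw [Category.assoc, GrpObj.inv_hom]
          _ = (j ≫ ι[G]) ≫ u := by rw [Category.assoc]
      have h2 := congrArg (fun φ => φ.left w) h1
      exact h2.symm
    obtain ⟨l, hl⟩ := Groth.Agent.H8.RedImm.exists_lift_of_isImmersion_of_isReduced i.left
      (i ≫ ι[H]).left hsub
    have hw : l ≫ Z.hom = Z.hom := by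
      have h1 : l ≫ i.left ≫ H.hom = Z.hom := by
        rw [← Category.assoc, hl]
        exact Over.w _
      rwa [Over.w i] at h1
    exact ⟨Over.homMk l hw, Over.OverMorphism.ext hl⟩
  have he : (η[F] ≫ v) ≫ i = η[H] := by
    rw [Category.assoc, hvi, ← Category.assoc, IsMonHom.one_hom, IsMonHom.one_hom]
  letI grpZ : GrpObj Z := Groth.Agent.H9.GZD.grpObjOfMono i (η[F] ≫ v) m iv he hm hiv
  have himon : IsMonHom i := Groth.Agent.H9.GZD.isMonHom_ofMono i (η[F] ≫ v) m iv he hm hiv
  have hvmon : IsMonHom v := by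
    constructor
    · rfl
    · rw [← cancel_mono i, Category.assoc, Category.assoc, IsMonHom.mul_hom (f := i),
        tensorHom_comp_tensorHom_assoc, hvi, ← tensorHom_comp_tensorHom_assoc,
        ← IsMonHom.mul_hom (f := u), ← IsMonHom.mul_hom_assoc (f := j)]
  haveI hvqc : QuasiCompact v.left := by
    haveI : QuasiCompact (v.left ≫ i.left) := by
      rw [hv0]; infer_instance
    exact QuasiCompact.of_comp v.left i.left
  obtain ⟨hvs, hvf⟩ := Groth.Agent.H9.FLH.S5355_main F Z v hvd
  exact ⟨F, Z, grpF, grpZ, j, i, v, hjmon, himon, hvmon, hjcl, hjsurj, inferInstance, hvi, hvs,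
    hvf hZred, hvqc, hFred, hZred, hZr⟩

end Field

/-! ### properness from a surjective cover -/

theorem isProper_of_comp {X' X Y : Scheme.{u}} (j : X' ⟶ X) (u : X ⟶ Y) [Surjective j]
    [UniversallyClosed (j ≫ u)] [IsSeparated u] [LocallyOfFiniteType u] : IsProper u := by
  haveI : UniversallyClosed u := UniversallyClosed.of_comp_surjective j u
  exact {}

theorem isClosedImmersion_of_comp {X' X Y : Scheme.{u}} (j : X' ⟶ X) (u : X ⟶ Y) [Surjective j]
    [UniversallyClosed (j ≫ u)] [Mono u] [LocallyOfFiniteType u] : IsClosedImmersion u := by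
  haveI : IsProper u := isProper_of_comp j u
  exact (IsClosedImmersion.iff_isProper_and_mono u).mpr ⟨inferInstance, inferInstance⟩

/-! ### base change -/

section BC

variable {S T : Scheme.{u}} (τ : T ⟶ S) {A B : Over S} (v : A ⟶ B)

lemma isPullback_map_left :
    IsPullback ((Over.pullback τ).map v).left (pullback.fst A.hom τ) (pullback.fst B.hom τ)
      v.left := by
  refine IsPullback.of_right ?_ ?_ (IsPullback.of_hasPullback B.hom τ).flip
  · have h1 : ((Over.pullback τ).map v).left ≫ pullback.snd B.hom τ = pullback.snd A.hom τ :=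
      Over.w ((Over.pullback τ).map v)
    have h2 : v.left ≫ B.hom = A.hom := Over.w v
    rw [h1, h2]
    exact (IsPullback.of_hasPullback A.hom τ).flip
  · exact pullback.lift_fst _ _ _

theorem isProper_of_bc [Surjective τ] [UniversallyClosed τ] [IsSeparated v.left]
    [LocallyOfFiniteType v.left] {X' : Scheme.{u}} (j' : X' ⟶ ((Over.pullback τ).obj A).left)
    [Surjective j'] [UniversallyClosed (j' ≫ ((Over.pullback τ).map v).left)] :
    IsProper v.left := by
  haveI : Surjective (pullback.fst A.hom τ) :=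
    MorphismProperty.pullback_fst (P := @Surjective) _ _ ‹_›
  haveI : UniversallyClosed (pullback.fst B.hom τ) :=
    MorphismProperty.pullback_fst (P := @UniversallyClosed) _ _ ‹_›
  haveI : UniversallyClosed ((j' ≫ pullback.fst A.hom τ) ≫ v.left) := by
    rw [Category.assoc, ← (isPullback_map_left τ v).w, ← Category.assoc]
    infer_instance
  exact isProper_of_comp (j' ≫ pullback.fst A.hom τ) v.left

theorem isClosedImmersion_of_bc [Surjective τ] [UniversallyClosed τ] [Mono v.left]
    [LocallyOfFiniteType v.left] {X' : Scheme.{u}} (j' : X' ⟶ ((Over.pullback τ).obj A).left)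
    [Surjective j'] [UniversallyClosed (j' ≫ ((Over.pullback τ).map v).left)] :
    IsClosedImmersion v.left := by
  haveI : IsProper v.left := isProper_of_bc τ v j'
  exact (IsClosedImmersion.iff_isProper_and_mono v.left).mpr ⟨inferInstance, inferInstance⟩

end BC

/-! ### a geometric point of a local artinian ring -/

theorem exists_geom_point (A : Type u) [CommRing A] [IsArtinianRing A] [IsLocalRing A] :
    ∃ (K : Type u) (_ : Field K) (_ : IsAlgClosed K)
      (t : Spec (CommRingCat.of K) ⟶ Spec (CommRingCat.of A)), Surjective t ∧ IsIntegralHom t := by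
  let φ : A →+* AlgebraicClosure (IsLocalRing.ResidueField A) :=
    (algebraMap (IsLocalRing.ResidueField A) (AlgebraicClosure (IsLocalRing.ResidueField A))).comp
      (IsLocalRing.residue A)
  refine ⟨AlgebraicClosure (IsLocalRing.ResidueField A), inferInstance, inferInstance,
    Spec.map (CommRingCat.ofHom φ), ?_, ?_⟩
  · constructor
    intro x
    haveI : Subsingleton (PrimeSpectrum A) := Ring.KrullDimLE.subsingleton_primeSpectrum A
    obtain ⟨y⟩ : Nonempty (Spec (CommRingCat.of
      (AlgebraicClosure (IsLocalRing.ResidueField A)))) := inferInstance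
    exact ⟨y, Subsingleton.elim (α := PrimeSpectrum A) _ _⟩
  · rw [IsIntegralHom.SpecMap_iff]
    show φ.IsIntegral
    exact RingHom.IsIntegral.trans _ _
      (RingHom.isIntegral_of_surjective _ IsLocalRing.residue_surjective)
      (algebraMap_isIntegral_iff.mpr inferInstance)

/-! ### monomorphisms -/

theorem field_mono {K : Type u} [Field K] [PerfectField K]
    (G H : Over (Spec (CommRingCat.of K))) [GrpObj G] [GrpObj H]
    (u : G ⟶ H) [IsMonHom u] [Mono u.left] [QuasiCompact u.left] :
    ∃ (X' : Scheme.{u}) (j' : X' ⟶ G.left), Surjective j' ∧ IsClosedImmersion (j' ≫ u.left) := by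
  obtain ⟨F, Z, grpF, grpZ, j, i, v, hjmon, himon, hvmon, hjcl, hjsurj, hicl, hvi, hvs, hvf, hvqc,
    hFred, hZred, hZr⟩ := core G H u
  refine ⟨F.left, j.left, hjsurj, ?_⟩
  have h1 : j.left ≫ u.left = v.left ≫ i.left := by
    rw [← Over.comp_left, ← Over.comp_left, hvi]
  haveI : Mono (v.left ≫ i.left) := by
    rw [← h1]; infer_instance
  haveI : Mono v.left := mono_of_mono v.left i.left
  haveI : IsIso v.left := Flat.isIso_of_surjective_of_mono v.left
  rw [h1]
  infer_instance

theorem s3036 (A : Type u) [CommRing A] [IsArtinianRing A] [IsLocalRing A]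
    (G H : Over (Spec (CommRingCat.of A))) [GrpObj G] [GrpObj H] [LocallyOfFiniteType G.hom]
    [LocallyOfFiniteType H.hom]
    (u : G ⟶ H) [IsMonHom u] [Mono u] [QuasiCompact u.left] : IsClosedImmersion u.left := by
  obtain ⟨K, _, _, t, hts, hti⟩ := exists_geom_point A
  haveI : LocallyOfFiniteType u.left := by
    haveI : LocallyOfFiniteType (u.left ≫ H.hom) := by rw [Over.w u]; infer_instance
    exact locallyOfFiniteType_of_comp u.left H.hom
  haveI : Mono ((Over.pullback t).map u).left := inferInstance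
  haveI : QuasiCompact ((Over.pullback t).map u).left :=
    MorphismProperty.of_isPullback (P := @QuasiCompact) (isPullback_map_left t u).flip
      inferInstance
  obtain ⟨X', j', hj's, hj'c⟩ := field_mono (Red.bc t G) (Red.bc t H)
    ((Over.pullback t).map u)
  exact isClosedImmersion_of_bc t u j'

end Groth.Agent.H1.GrpImg
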