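import Mathlib
import Groth.Prelude.Def_Pi1X

/-! Dictionary between Galois categories and finite `Aut F`-sets (helper1). -/

open CategoryTheory CategoryTheory.Limits CategoryTheory.PreGaloisCategory

namespace Groth.Agent.Lib.Helper1.Gal

universe u v w

section K1
variable {C : Type u} [Category.{v} C] [GaloisCategory C] (F : C ⥤ FintypeCat.{w}) [FiberFunctor F]

/-- K1: equivariant maps between fibres come from morphisms. -/
lemma exists_hom_of_equivariant {X Y : C} (φ : F.obj X → F.obj Y)
    (hφ : ∀ (σ : Aut F) (x : F.obj X), φ (σ • x) = σ • φ x) :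
    ∃ f : X ⟶ Y, ∀ x, F.map f x = φ x := by
  let g : (functorToAction F).obj X ⟶ (functorToAction F).obj Y :=
    { hom := FintypeCat.homMk φ
      comm := fun σ => by
        ext x
        exact hφ σ x }
  obtain ⟨f, hf⟩ := (functorToAction F).map_surjective g
  refine ⟨f, fun x => ?_⟩
  have := congrArg (fun k => k.hom x) hf
  exact this

lemma hom_ext_of_fiber {X Y : C} (f g : X ⟶ Y) (h : ∀ x, F.map f x = F.map g x) : f = g :=
  F.map_injective (FintypeCat.hom_ext _ _ h)

end K1

section K2
variable {C : Type u} [Category.{v} C] [GaloisCategory C] (F : C ⥤ FintypeCat.{w}) [FiberFunctor F]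

open scoped FintypeCatDiscrete in
/-- K2 (essential surjectivity, concretely): every finite continuous `Aut F`-set is a fibre. -/
lemma exists_obj_of_action (S : Type w) [Finite S] [MulAction (Aut F) S]
    (hS : ∀ s : S, IsOpen (MulAction.stabilizer (Aut F) s : Set (Aut F))) :
    ∃ (X : C) (e : F.obj X ≃ S), ∀ (σ : Aut F) (x : F.obj X), e (σ • x) = σ • e x := by
  letI : MulAction (Aut F) (FintypeCat.of S) := inferInstanceAs (MulAction (Aut F) S)
  let Y₀ : Action FintypeCat.{w} (Aut F) := Action.FintypeCat.ofMulAction (Aut F) (FintypeCat.of S)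
  have hcont : Action.IsContinuous Y₀ := by
    haveI : DiscreteTopology ((CategoryTheory.forget₂ _ TopCat).obj Y₀) :=
      inferInstanceAs (DiscreteTopology Y₀.V)
    refine (continuousSMul_iff_stabilizer_isOpen (M := Aut F)
      (X := (CategoryTheory.forget₂ _ TopCat).obj Y₀)).2 ?_
    intro s
    exact hS s
  let Y : ContAction FintypeCat.{w} (Aut F) := ⟨Y₀, hcont⟩
  obtain ⟨X, ⟨i⟩⟩ := Functor.EssSurj.mem_essImage (F := functorToContAction F) Y
  let j : (functorToAction F).obj X ≅ Y₀ := (ObjectProperty.ι _).mapIso i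
  let k : F.obj X ≅ FintypeCat.of S := (Action.forget _ _).mapIso j
  refine ⟨X, FintypeCat.equivEquivIso.symm k, fun σ x => ?_⟩
  have := ConcreteCategory.congr_hom (j.hom.comm σ) x
  exact this

end K2

section K3
variable {C : Type u} [Category.{v} C] [GaloisCategory C] (F : C ⥤ FintypeCat.{w}) [FiberFunctor F]

/-- transitive action on a nonempty fibre implies connected -/
lemma isConnected_of_pretransitive (X : C) (hne : Nonempty (F.obj X))
    (htr : ∀ x y : F.obj X, ∃ σ : Aut F, σ • x = y) : IsConnected X := by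
  obtain ⟨x₀⟩ := hne
  refine ⟨fun h => not_initial_of_inhabited F x₀ h, fun Y i _ hY => ?_⟩
  apply isIso_of_mono_of_eq_card_fiber F i
  obtain ⟨y₀⟩ := (not_initial_iff_fiber_nonempty F Y).1 hY
  have hinj : Function.Injective (F.map i) :=
    ConcreteCategory.injective_of_mono_of_preservesPullback (F.map i)
  have hsurj : Function.Surjective (F.map i) := by
    intro x
    obtain ⟨σ, hσ⟩ := htr (F.map i y₀) x
    refine ⟨σ • y₀, ?_⟩
    rw [← mulAction_naturality, hσ]
  exact Nat.card_eq_of_bijective _ ⟨hinj, hsurj⟩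

lemma pretransitive_of_isConnected (X : C) [IsConnected X] (x y : F.obj X) :
    ∃ σ : Aut F, σ • x = y :=
  MulAction.exists_smul_eq (Aut F) x y

end K3

section K2'
variable {C : Type u} [Category.{v} C] [GaloisCategory C] (F : C ⥤ FintypeCat.{w}) [FiberFunctor F]

/-- K2': every open subgroup is the stabilizer of a point of a connected object. -/
lemma exists_connected_of_openSubgroup (V : Subgroup (Aut F)) (hV : IsOpen (V : Set (Aut F))) :
    ∃ (X : C) (x : F.obj X), IsConnected X ∧ MulAction.stabilizer (Aut F) x = V := by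
  have hfin : Finite (Aut F ⧸ V) := V.quotient_finite_of_isOpen hV
  let n := Nat.card (Aut F ⧸ V)
  let e : ULift.{w} (Fin n) ≃ (Aut F ⧸ V) :=
    Equiv.ulift.trans (Finite.equivFin (Aut F ⧸ V)).symm
  letI : MulAction (Aut F) (ULift.{w} (Fin n)) := e.mulAction (Aut F)
  have hsm : ∀ (σ : Aut F) (s : ULift.{w} (Fin n)), e (σ • s) = σ • e s := fun σ s => by
    show e (e.symm (σ • e s)) = σ • e s
    rw [Equiv.apply_symm_apply]
  have hopen : ∀ s : ULift.{w} (Fin n),
      IsOpen (MulAction.stabilizer (Aut F) s : Set (Aut F)) := by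
    intro s
    obtain ⟨g, hg⟩ := QuotientGroup.mk_surjective (e s)
    have hstab : MulAction.stabilizer (Aut F) s =
        (V.map (MulAut.conj g).toMonoidHom) := by
      ext σ
      rw [MulAction.mem_stabilizer_iff, ← e.injective.eq_iff, hsm, ← hg]
      rw [Subgroup.mem_map]
      constructor
      · intro h
        have h2 : g⁻¹ * σ * g ∈ V := by
          have := QuotientGroup.eq.1 h.symm
          simpa [mul_assoc] using this
        refine ⟨g⁻¹ * σ * g, h2, ?_⟩
        simp [MulAut.conj_apply, mul_assoc]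
      · rintro ⟨v, hv, rfl⟩
        show ((MulAut.conj g) v) • (g : Aut F ⧸ V) = g
        rw [MulAut.conj_apply]
        show (((g * v * g⁻¹) * g : Aut F) : Aut F ⧸ V) = g
        rw [QuotientGroup.eq]
        simpa [mul_assoc] using V.inv_mem hv
    rw [hstab]
    have : ((V.map (MulAut.conj g).toMonoidHom : Subgroup (Aut F)) : Set (Aut F)) =
        (fun x => g⁻¹ * x * g) ⁻¹' (V : Set (Aut F)) := by
      ext σ
      simp only [Subgroup.coe_map, Set.mem_image, SetLike.mem_coe, Set.mem_preimage]
      constructor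
      · rintro ⟨v, hv, rfl⟩
        simpa [MulAut.conj_apply, mul_assoc] using hv
      · intro h
        exact ⟨g⁻¹ * σ * g, h, by simp [MulAut.conj_apply, mul_assoc]⟩
    rw [this]
    exact hV.preimage (by fun_prop)
  obtain ⟨X, eX, heX⟩ := exists_obj_of_action F (ULift.{w} (Fin n)) hopen
  let s₀ : ULift.{w} (Fin n) := e.symm ((1 : Aut F) : Aut F ⧸ V)
  refine ⟨X, eX.symm s₀, ?_, ?_⟩
  · refine isConnected_of_pretransitive F X ⟨eX.symm s₀⟩ (fun x y => ?_)
    obtain ⟨σ, hσ⟩ := MulAction.exists_smul_eq (Aut F) (e (eX x)) (e (eX y))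
    refine ⟨σ, ?_⟩
    apply eX.injective
    apply e.injective
    rw [heX, hsm, hσ]
  · ext σ
    rw [MulAction.mem_stabilizer_iff, ← eX.injective.eq_iff, heX, Equiv.apply_symm_apply,
      ← e.injective.eq_iff, hsm, Equiv.apply_symm_apply]
    show ((σ * 1 : Aut F) : Aut F ⧸ V) = ((1 : Aut F) : Aut F ⧸ V) ↔ σ ∈ V
    rw [mul_one, eq_comm, QuotientGroup.eq]
    simp

end K2'

section W
variable {C C' : Type u} [Category.{v} C] [Category.{v} C']
  (H : C ⥤ C') (F' : C' ⥤ FintypeCat.{w})

lemma autWhisker_smul (σ : Aut F') {X : C} (x : F'.obj (H.obj X)) :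
    ((Pi1X.autWhisker H F' σ) • (show (H ⋙ F').obj X from x) : (H ⋙ F').obj X) = σ • x := rfl

lemma continuous_autWhisker : Continuous (Pi1X.autWhisker H F') := by
  rw [continuous_induced_rng]
  refine continuous_pi (fun X => ?_)
  have h1 : Continuous (fun a : (∀ Y : C', Aut (F'.obj Y)) => a (H.obj X)) :=
    continuous_apply (A := fun Y : C' => Aut (F'.obj Y)) (H.obj X)
  have h2 : Continuous (autEmbedding F') := continuous_induced_dom
  exact h1.comp h2

end W

section Main
variable {C C' : Type u} [Category.{v} C] [Category.{v} C'] [GaloisCategory C] [GaloisCategory C']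
  (H : C ⥤ C') (F' : C' ⥤ FintypeCat.{w}) [FiberFunctor F'] [FiberFunctor (H ⋙ F')]

include F' in
lemma faithful_of_fiberFunctor : H.Faithful := by
  haveI : (H ⋙ F').Faithful := inferInstance
  exact Functor.Faithful.of_comp H F'

lemma full_of_surjective (hsurj : Function.Surjective (Pi1X.autWhisker H F')) : H.Full := by
  refine ⟨fun {X Y} g => ?_⟩
  obtain ⟨f, hf⟩ := exists_hom_of_equivariant (H ⋙ F') (X := X) (Y := Y)
    (fun x => F'.map g x) (fun σ x => by
      obtain ⟨σ', rfl⟩ := hsurj σ
      exact (mulAction_naturality F' σ' g x).symm)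
  refine ⟨f, ?_⟩
  apply hom_ext_of_fiber F'
  intro x
  exact hf x

lemma isConnected_map_of_surjective (hsurj : Function.Surjective (Pi1X.autWhisker H F'))
    (X : C) [IsConnected X] : IsConnected (H.obj X) := by
  have hne : Nonempty ((H ⋙ F').obj X) := nonempty_fiber_of_isConnected (H ⋙ F') X
  refine isConnected_of_pretransitive F' (H.obj X) hne (fun x y => ?_)
  obtain ⟨σ, hσ⟩ := pretransitive_of_isConnected (H ⋙ F') X x y
  obtain ⟨σ', rfl⟩ := hsurj σ
  exact ⟨σ', hσ⟩

lemma isClosed_range_autWhisker : IsClosed (Set.range (Pi1X.autWhisker H F')) :=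
  (isCompact_range (continuous_autWhisker H F')).isClosed

lemma surjective_of_isConnected_map
    (hconn : ∀ X : C, IsConnected X → IsConnected (H.obj X)) :
    Function.Surjective (Pi1X.autWhisker H F') := by
  intro σ
  have hcl : σ ∈ closure (Set.range (Pi1X.autWhisker H F')) := by
    rw [mem_closure_iff_nhds]
    intro t ht
    have h1 : (fun τ => σ * τ) ⁻¹' t ∈ nhds (1 : Aut (H ⋙ F')) := by
      have : Filter.Tendsto (fun τ => σ * τ) (nhds (1 : Aut (H ⋙ F'))) (nhds (σ * 1)) :=
        (continuous_const.mul continuous_id).tendsto 1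
      rw [mul_one] at this
      exact this ht
    obtain ⟨A, -, hA⟩ := (nhds_one_has_basis_stabilizers (H ⋙ F')).mem_iff.1 h1
    haveI : IsConnected (A.obj) := inferInstance
    haveI := hconn A.obj inferInstance
    obtain ⟨σ', hσ'⟩ := pretransitive_of_isConnected F' (H.obj A.obj) A.pt (σ • A.pt)
    refine ⟨Pi1X.autWhisker H F' σ', ?_, ⟨σ', rfl⟩⟩
    have h2 : σ⁻¹ * Pi1X.autWhisker H F' σ' ∈ MulAction.stabilizer (Aut (H ⋙ F')) A.pt := by
      rw [MulAction.mem_stabilizer_iff, mul_smul]
      have : (Pi1X.autWhisker H F' σ') • A.pt = σ • A.pt := hσ'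
      rw [this, inv_smul_smul]
    have h3 := hA h2
    simpa using h3
  rwa [(isClosed_range_autWhisker H F').closure_eq] at hcl

end Main

section Term
variable {C : Type u} [Category.{v} C] [GaloisCategory C] (F : C ⥤ FintypeCat.{w}) [FiberFunctor F]

lemma subsingleton_of_isTerminal {T : FintypeCat.{w}} (hT : IsTerminal T) : Subsingleton T := by
  refine ⟨fun x y => ?_⟩
  have h := hT.hom_ext (FintypeCat.homMk (X := FintypeCat.of PUnit.{w+1}) (fun _ => x))
    (FintypeCat.homMk (fun _ => y))
  exact ConcreteCategory.congr_hom h PUnit.unit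

lemma nonempty_of_isTerminal {T : FintypeCat.{w}} (hT : IsTerminal T) : Nonempty T :=
  ⟨(hT.from (FintypeCat.of PUnit.{w+1})) PUnit.unit⟩

lemma subsingleton_fiber_of_isTerminal {T : C} (hT : IsTerminal T) : Subsingleton (F.obj T) :=
  subsingleton_of_isTerminal (IsTerminal.isTerminalObj F T hT)

lemma nonempty_fiber_of_isTerminal {T : C} (hT : IsTerminal T) : Nonempty (F.obj T) :=
  nonempty_of_isTerminal (IsTerminal.isTerminalObj F T hT)

lemma smul_fiber_terminal {T : C} (hT : IsTerminal T) (σ : Aut F) (t : F.obj T) : σ • t = t :=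
  (subsingleton_fiber_of_isTerminal F hT).elim _ _

end Term

section Main2
variable {C C' : Type u} [Category.{v} C] [Category.{v} C'] [GaloisCategory C] [GaloisCategory C']
  (H : C ⥤ C') (F' : C' ⥤ FintypeCat.{w}) [FiberFunctor F'] [FiberFunctor (H ⋙ F')]

/-- a point fixed by the image of `h` comes from a section -/
lemma exists_section_of_fixed (X : C) (a : F'.obj (H.obj X))
    (hfix : ∀ σ' : Aut F', σ' • a = a) (T' : C') :
    ∃ s : T' ⟶ H.obj X, ∀ t : F'.obj T', F'.map s t = a := by
  exact exists_hom_of_equivariant F' (X := T') (Y := H.obj X) (fun _ => a)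
    (fun σ _ => (hfix σ).symm)

lemma fixed_of_section (X : C) (a : F'.obj (H.obj X)) {T' : C'} (hT' : IsTerminal T')
    (s : T' ⟶ H.obj X) (hs : ∀ t : F'.obj T', F'.map s t = a) (σ' : Aut F') : σ' • a = a := by
  obtain ⟨t⟩ := nonempty_fiber_of_isTerminal F' hT'
  rw [← hs t, mulAction_naturality, smul_fiber_terminal F' hT']

lemma surjective_of_full [PreservesLimitsOfShape (Discrete PEmpty.{1}) H] [H.Full] :
    Function.Surjective (Pi1X.autWhisker H F') := by
  intro σ
  by_contra hσ
  let K : ClosedSubgroup (Aut (H ⋙ F')) :=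
    { toSubgroup := (Pi1X.autWhisker H F').range
      isClosed' := isClosed_range_autWhisker H F' }
  have hK := ProfiniteGrp.closedSubgroup_eq_sInf_open K
  have hσK : σ ∉ (K : Subgroup (Aut (H ⋙ F'))) := fun h => hσ h
  rw [hK, Subgroup.mem_sInf] at hσK
  push Not at hσK
  obtain ⟨U, ⟨hUopen, hKU⟩, hσU⟩ := hσK
  obtain ⟨X, x, hX, hstab⟩ := exists_connected_of_openSubgroup (H ⋙ F') U hUopen
  have hfix : ∀ σ' : Aut F', σ' • (show F'.obj (H.obj X) from x) = x := by
    intro σ'
    have h1 : Pi1X.autWhisker H F' σ' ∈ U := hKU ⟨σ', rfl⟩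
    rw [← hstab, MulAction.mem_stabilizer_iff] at h1
    exact h1
  have hT' : IsTerminal (H.obj (⊤_ C)) := IsTerminal.isTerminalObj H _ terminalIsTerminal
  obtain ⟨s, hs⟩ := exists_section_of_fixed H F' X x hfix (H.obj (⊤_ C))
  obtain ⟨f, rfl⟩ := H.map_surjective s
  obtain ⟨t⟩ := nonempty_fiber_of_isTerminal (H ⋙ F') (terminalIsTerminal (C := C))
  have hx : (H ⋙ F').map f t = x := hs t
  apply hσU
  rw [← hstab, MulAction.mem_stabilizer_iff, ← hx, mulAction_naturality,
    smul_fiber_terminal (H ⋙ F') terminalIsTerminal]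

end Main2

end Groth.Agent.Lib.Helper1.Gal
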