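import Mathlib
import Groth.Agent.Lib.Helper1.Gal1

/-! Galois categories: objects with trivial action are finite coproducts of terminal objects. -/

open CategoryTheory CategoryTheory.Limits CategoryTheory.PreGaloisCategory

namespace Groth.Agent.Lib.Helper1.Gal

universe u v w

section Triv
variable {C : Type u} [Category.{v} C] [GaloisCategory C] (F : C ⥤ FintypeCat.{w}) [FiberFunctor F]

/-- points of the fibre of a finite coproduct come from a summand -/
lemma exists_of_fiber_sigma {n : ℕ} (Z : Fin n → C) (z : F.obj (∐ Z)) :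
    ∃ (j : Fin n) (y : F.obj (Z j)), F.map (Sigma.ι Z j) y = z := by
  obtain ⟨⟨j⟩, y, hy⟩ := Limits.FintypeCat.jointly_surjective (Discrete.functor Z ⋙ F) _
    (isColimitOfPreserves F (colimit.isColimit (Discrete.functor Z))) z
  exact ⟨j, y, hy⟩

lemma trivial_action_of_iso_sigma_terminal (Y : C) (n : ℕ)
    (i : Y ≅ ∐ fun _ : Fin n => ⊤_ C) (σ : Aut F) (y : F.obj Y) : σ • y = y := by
  have key : ∀ z : F.obj (∐ fun _ : Fin n => ⊤_ C), σ • z = z := by
    intro z
    obtain ⟨j, t, rfl⟩ := exists_of_fiber_sigma F (fun _ : Fin n => ⊤_ C) z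
    rw [mulAction_naturality, smul_fiber_terminal F terminalIsTerminal]
  have h1 : F.map i.inv (F.map i.hom y) = y := by
    rw [← FintypeCat.comp_apply, ← F.map_comp, i.hom_inv_id, F.map_id]
    rfl
  rw [← h1, mulAction_naturality, key]

lemma exists_iso_sigma_terminal_of_trivial_action (Y : C)
    (htriv : ∀ (σ : Aut F) (y : F.obj Y), σ • y = y) :
    ∃ n : ℕ, Nonempty (Y ≅ ∐ fun _ : Fin n => ⊤_ C) := by
  let n := Nat.card (F.obj Y)
  let e : Fin n ≃ F.obj Y := (Finite.equivFin (F.obj Y)).symm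
  have hsec : ∀ j : Fin n, ∃ s : ⊤_ C ⟶ Y, ∀ t : F.obj (⊤_ C), F.map s t = e j := fun j =>
    exists_hom_of_equivariant F (X := ⊤_ C) (Y := Y) (fun _ => e j)
      (fun σ _ => (htriv σ (e j)).symm)
  choose s hs using hsec
  let f : (∐ fun _ : Fin n => ⊤_ C) ⟶ Y := Sigma.desc s
  obtain ⟨t₀⟩ := nonempty_fiber_of_isTerminal F (terminalIsTerminal (C := C))
  let g : Fin n → F.obj (∐ fun _ : Fin n => ⊤_ C) :=
    fun j => F.map (Sigma.ι (fun _ : Fin n => ⊤_ C) j) t₀
  have hg : Function.Surjective g := by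
    intro z
    obtain ⟨j, t, rfl⟩ := exists_of_fiber_sigma F (fun _ : Fin n => ⊤_ C) z
    refine ⟨j, ?_⟩
    have : t = t₀ := (subsingleton_fiber_of_isTerminal F terminalIsTerminal).elim _ _
    rw [this]
  have hfg : ∀ j, F.map f (g j) = e j := by
    intro j
    show F.map f (F.map (Sigma.ι (fun _ : Fin n => ⊤_ C) j) t₀) = e j
    rw [← FintypeCat.comp_apply, ← F.map_comp]
    have : Sigma.ι (fun _ : Fin n => ⊤_ C) j ≫ f = s j := Sigma.ι_desc s j
    rw [this, hs]
  have hginj : Function.Injective g := by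
    intro j k hjk
    apply e.injective
    rw [← hfg j, ← hfg k, hjk]
  have hbij : Function.Bijective (F.map f) := by
    constructor
    · intro z z' hzz'
      obtain ⟨j, rfl⟩ := hg z
      obtain ⟨k, rfl⟩ := hg z'
      rw [hfg, hfg] at hzz'
      rw [e.injective hzz']
    · intro y
      refine ⟨g (e.symm y), ?_⟩
      rw [hfg, Equiv.apply_symm_apply]
  have hiso : IsIso (F.map f) := (ConcreteCategory.isIso_iff_bijective (F.map f)).2 hbij
  have : IsIso f := isIso_of_reflects_iso f F
  exact ⟨n, ⟨(asIso f).symm⟩⟩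

end Triv

section Ext
variable {C : Type u} [Category.{v} C] (F : C ⥤ FintypeCat.{w})

lemma aut_eq_one_of_smul (σ : Aut F) (h : ∀ (X : C) (x : F.obj X), σ • x = x) : σ = 1 := by
  apply Iso.ext
  apply NatTrans.ext
  funext X
  apply FintypeCat.hom_ext
  intro x
  exact h X x

lemma aut_ext_of_smul (σ τ : Aut F) (h : ∀ (X : C) (x : F.obj X), σ • x = τ • x) : σ = τ := by
  apply Iso.ext
  apply NatTrans.ext
  funext X
  apply FintypeCat.hom_ext
  intro x
  exact h X x

end Ext

end Groth.Agent.Lib.Helper1.Gal
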