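import Mathlib
import Groth.Agent.Lib.Helper1.Gal2

/-! Galois categories: kernels, maps from connected pointed objects. -/

open CategoryTheory CategoryTheory.Limits CategoryTheory.PreGaloisCategory

namespace Groth.Agent.Lib.Helper1.Gal

universe u v w

section Top
variable {G G' : Type*} [Group G] [TopologicalSpace G] [IsTopologicalGroup G] [CompactSpace G]
  [TotallyDisconnectedSpace G]
  [Group G'] [TopologicalSpace G'] [CompactSpace G']

/-- an open subgroup containing the kernel contains the preimage of an open subgroup -/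
lemma exists_openSubgroup_comap_le (h : G' →* G) (hc : Continuous h) (U' : Subgroup G')
    (hU' : IsOpen (U' : Set G')) (hker : h.ker ≤ U') :
    ∃ V : OpenSubgroup G, (V : Subgroup G).comap h ≤ U' := by
  classical
  have hsep : ∀ σ' : {σ' : G' // σ' ∉ U'}, ∃ V : OpenNormalSubgroup G, h σ'.1 ∉ (V : Set G) := by
    rintro ⟨σ', hσ'⟩
    have hne : h σ' ≠ 1 := fun h1 => hσ' (hker (MonoidHom.mem_ker.2 h1))
    obtain ⟨V, hV⟩ := ProfiniteGrp.exist_openNormalSubgroup_sub_open_nhds_of_one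
      (isOpen_compl_singleton (x := h σ')) (Set.mem_compl_singleton_iff.2 hne.symm)
    exact ⟨V, fun hmem => hV hmem rfl⟩
  choose V hV using hsep
  have hcomp : IsCompact ((U' : Set G')ᶜ) := hU'.isClosed_compl.isCompact
  let W : {σ' : G' // σ' ∉ U'} → Set G' := fun σ' => h ⁻¹' ((V σ' : Set G)ᶜ)
  have hWopen : ∀ σ', IsOpen (W σ') := fun σ' =>
    ((V σ').toOpenSubgroup.isClosed.isOpen_compl).preimage hc
  have hcover : (U' : Set G')ᶜ ⊆ ⋃ σ', W σ' := by
    intro σ' hσ'
    exact Set.mem_iUnion.2 ⟨⟨σ', hσ'⟩, hV ⟨σ', hσ'⟩⟩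
  obtain ⟨t, ht⟩ := hcomp.elim_finite_subcover W hWopen hcover
  refine ⟨t.inf (fun σ' => (V σ').toOpenSubgroup), ?_⟩
  intro σ' hσ'
  by_contra hnot
  have hmem : σ' ∈ ⋃ i ∈ t, W i := ht hnot
  simp only [Set.mem_iUnion] at hmem
  obtain ⟨i, hi, hiW⟩ := hmem
  apply hiW
  have hle : t.inf (fun σ' => (V σ').toOpenSubgroup) ≤ (V i).toOpenSubgroup := Finset.inf_le hi
  exact hle hσ'

end Top

section K4
variable {C : Type u} [Category.{v} C] [GaloisCategory C] (F : C ⥤ FintypeCat.{w}) [FiberFunctor F]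

/-- K4: maps out of a pointed connected object are governed by stabilizers. -/
lemma exists_hom_of_stabilizer_le (Y X : C) [IsConnected Y] (y : F.obj Y) (a : F.obj X)
    (hle : MulAction.stabilizer (Aut F) y ≤ MulAction.stabilizer (Aut F) a) :
    ∃ q : Y ⟶ X, F.map q y = a := by
  have hch : ∀ z : F.obj Y, ∃ σ : Aut F, σ • y = z := fun z =>
    pretransitive_of_isConnected F Y y z
  choose τ hτ using hch
  have hwd : ∀ σ σ' : Aut F, σ • y = σ' • y → σ • a = σ' • a := by
    intro σ σ' h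
    have h1 : σ'⁻¹ * σ ∈ MulAction.stabilizer (Aut F) y := by
      rw [MulAction.mem_stabilizer_iff, mul_smul, h, inv_smul_smul]
    have h2 := hle h1
    rw [MulAction.mem_stabilizer_iff, mul_smul, inv_smul_eq_iff] at h2
    exact h2
  obtain ⟨q, hq⟩ := exists_hom_of_equivariant F (X := Y) (Y := X) (fun z => τ z • a)
    (fun σ z => by
      show τ (σ • z) • a = σ • (τ z • a)
      rw [← mul_smul]
      apply hwd
      rw [hτ, mul_smul, hτ])
  refine ⟨q, ?_⟩
  rw [hq]
  have := hwd (τ y) 1 (by rw [hτ, one_smul])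
  rw [this, one_smul]

lemma stabilizer_le_of_hom {Y X : C} (q : Y ⟶ X) (y : F.obj Y) :
    MulAction.stabilizer (Aut F) y ≤ MulAction.stabilizer (Aut F) (F.map q y) := by
  intro σ hσ
  rw [MulAction.mem_stabilizer_iff] at hσ ⊢
  rw [mulAction_naturality, hσ]

lemma stabilizer_eq_of_mono {Y X : C} (i : Y ⟶ X) [Mono i] (y : F.obj Y) :
    MulAction.stabilizer (Aut F) (F.map i y) = MulAction.stabilizer (Aut F) y := by
  apply le_antisymm _ (stabilizer_le_of_hom F i y)
  intro σ hσ
  rw [MulAction.mem_stabilizer_iff] at hσ ⊢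
  rw [mulAction_naturality] at hσ
  exact ConcreteCategory.injective_of_mono_of_preservesPullback (F.map i) hσ

end K4

section Ker
variable {C C' : Type u} [Category.{v} C] [Category.{v} C'] [GaloisCategory C] [GaloisCategory C']
  (H : C ⥤ C') (F' : C' ⥤ FintypeCat.{w}) [FiberFunctor F'] [FiberFunctor (H ⋙ F')]

lemma mem_ker_autWhisker_iff (σ' : Aut F') :
    σ' ∈ (Pi1X.autWhisker H F').ker ↔ ∀ (X : C) (x : F'.obj (H.obj X)), σ' • x = x := by
  rw [MonoidHom.mem_ker]
  constructor
  · intro h X x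
    have : (Pi1X.autWhisker H F' σ') • (show (H ⋙ F').obj X from x) = x := by
      rw [h, one_smul]
    exact this
  · intro h
    exact aut_eq_one_of_smul (H ⋙ F') _ (fun X x => h X x)

lemma exists_of_ker_le (X' : C') (a' : F'.obj X')
    (hker : (Pi1X.autWhisker H F').ker ≤ MulAction.stabilizer (Aut F') a') :
    ∃ (X : C) (Y' : C') (i : Y' ⟶ H.obj X) (q : Y' ⟶ X') (y : F'.obj Y'),
      Mono i ∧ IsConnected Y' ∧ F'.map q y = a' := by
  obtain ⟨V, hV⟩ := exists_openSubgroup_comap_le (Pi1X.autWhisker H F')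
    (continuous_autWhisker H F') (MulAction.stabilizer (Aut F') a')
    (stabilizer_isOpen (Aut F') a') hker
  obtain ⟨X, x, hX, hstab⟩ := exists_connected_of_openSubgroup (H ⋙ F') V V.isOpen
  obtain ⟨Y', i, y, hy, hconn, hmono⟩ := fiber_in_connected_component F' (H.obj X) x
  have hle : MulAction.stabilizer (Aut F') y ≤ MulAction.stabilizer (Aut F') a' := by
    intro σ' hσ'
    apply hV
    rw [Subgroup.mem_comap]
    show Pi1X.autWhisker H F' σ' ∈ (V : Subgroup (Aut (H ⋙ F')))
    rw [← hstab, MulAction.mem_stabilizer_iff]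
    have h1 := stabilizer_le_of_hom F' i y hσ'
    rw [hy, MulAction.mem_stabilizer_iff] at h1
    exact h1
  obtain ⟨q, hq⟩ := exists_hom_of_stabilizer_le F' Y' X' y a' hle
  exact ⟨X, Y', i, q, y, hmono, hconn, hq⟩

lemma ker_le_of_exists (X' : C') [IsConnected X'] (a' : F'.obj X') (X : C) (Y' : C')
    (i : Y' ⟶ H.obj X) (q : Y' ⟶ X') [Mono i] [IsConnected Y'] :
    (Pi1X.autWhisker H F').ker ≤ MulAction.stabilizer (Aut F') a' := by
  obtain ⟨y₀⟩ := nonempty_fiber_of_isConnected F' Y'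
  have hfix : ∀ σ' ∈ (Pi1X.autWhisker H F').ker, σ' • (F'.map q y₀) = F'.map q y₀ := by
    intro σ' hσ'
    rw [mem_ker_autWhisker_iff] at hσ'
    have h1 : σ' • y₀ = y₀ := by
      apply ConcreteCategory.injective_of_mono_of_preservesPullback (F'.map i)
      rw [← mulAction_naturality]
      exact hσ' X _
    rw [mulAction_naturality, h1]
  intro σ' hσ'
  obtain ⟨τ, hτ⟩ := pretransitive_of_isConnected F' X' (F'.map q y₀) a'
  have h2 : τ⁻¹ * σ' * τ ∈ (Pi1X.autWhisker H F').ker := by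
    have := (MonoidHom.normal_ker (Pi1X.autWhisker H F')).conj_mem σ' hσ' τ⁻¹
    simpa using this
  have h3 := hfix _ h2
  rw [MulAction.mem_stabilizer_iff, ← hτ]
  rw [mul_smul, mul_smul, inv_smul_eq_iff] at h3
  exact h3

end Ker

end Groth.Agent.Lib.Helper1.Gal
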