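import Mathlib
import Groth.Agent.Lib.Helper1.Gal3

/-! Galois categories: essential image of an exact functor when `h` is surjective. -/

open CategoryTheory CategoryTheory.Limits CategoryTheory.PreGaloisCategory

namespace Groth.Agent.Lib.Helper1.Gal

universe u v w

section Iso
variable {C : Type u} [Category.{v} C] (F : C ⥤ FintypeCat.{w})

lemma smul_fixed_of_iso {Y Z : C} (j : Y ≅ Z) (σ : Aut F) (h : ∀ y : F.obj Y, σ • y = y)
    (z : F.obj Z) : σ • z = z := by
  have h1 : F.map j.hom (F.map j.inv z) = z := by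
    rw [← FintypeCat.comp_apply, ← F.map_comp, j.inv_hom_id, F.map_id]
    rfl
  rw [← h1, mulAction_naturality, h]

end Iso

section Ess
variable {C C' : Type u} [Category.{v} C] [Category.{v} C'] [GaloisCategory C] [GaloisCategory C']
  (H : C ⥤ C') (F' : C' ⥤ FintypeCat.{w}) [FiberFunctor F'] [FiberFunctor (H ⋙ F')]

lemma exists_obj_iso_of_ker_trivial (hsurj : Function.Surjective (Pi1X.autWhisker H F')) (X' : C')
    (hker : ∀ σ' ∈ (Pi1X.autWhisker H F').ker, ∀ y : F'.obj X', σ' • y = y) :
    ∃ X : C, Nonempty (H.obj X ≅ X') := by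
  classical
  let h := Pi1X.autWhisker H F'
  let ρ : Aut F' →* Equiv.Perm (F'.obj X') := MulAction.toPermHom (Aut F') (F'.obj X')
  have hρ : h.ker ≤ ρ.ker := fun σ' hσ' => by
    rw [MonoidHom.mem_ker]
    ext y
    exact hker σ' hσ' y
  let ρ' : Aut (H ⋙ F') →* Equiv.Perm (F'.obj X') :=
    h.liftOfRightInverse (Function.surjInv hsurj) (Function.rightInverse_surjInv hsurj) ⟨ρ, hρ⟩
  have hρ' : ∀ σ', ρ' (h σ') = ρ σ' := fun σ' =>
    MonoidHom.liftOfRightInverse_comp_apply h (Function.surjInv hsurj)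
      (Function.rightInverse_surjInv hsurj) ⟨ρ, hρ⟩ σ'
  let S : Type w := F'.obj X'
  letI inst : MulAction (Aut (H ⋙ F')) S := MulAction.compHom _ ρ'
  have hact : ∀ (σ' : Aut F') (y : S), (h σ') • y = (σ' • (show F'.obj X' from y) : F'.obj X') := by
    intro σ' y
    show ρ' (h σ') y = _
    rw [hρ']
    rfl
  have hq : Topology.IsQuotientMap h :=
    (continuous_autWhisker H F').isClosedMap.isQuotientMap (continuous_autWhisker H F') hsurj
  have hopen : ∀ s : S, IsOpen (MulAction.stabilizer (Aut (H ⋙ F')) s : Set (Aut (H ⋙ F'))) := by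
    intro s
    rw [← hq.isOpen_preimage]
    have : h ⁻¹' (MulAction.stabilizer (Aut (H ⋙ F')) s : Set (Aut (H ⋙ F'))) =
        (MulAction.stabilizer (Aut F') (show F'.obj X' from s) : Set (Aut F')) := by
      ext σ'
      simp only [Set.mem_preimage, SetLike.mem_coe, MulAction.mem_stabilizer_iff]
      rw [hact]
    rw [this]
    exact stabilizer_isOpen (Aut F') _
  obtain ⟨X, e, he⟩ := exists_obj_of_action (H ⋙ F') S hopen
  have hequiv : ∀ (σ' : Aut F') (x : F'.obj (H.obj X)), e (σ' • x) = σ' • (e x : F'.obj X') := by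
    intro σ' x
    have := he (h σ') x
    rw [hact] at this
    exact this
  obtain ⟨f, hf⟩ := exists_hom_of_equivariant F' (X := H.obj X) (Y := X') (fun x => e x) hequiv
  have hbij : Function.Bijective (F'.map f) := by
    have : (F'.map f : F'.obj (H.obj X) → F'.obj X') = e := funext hf
    rw [this]
    exact e.bijective
  have hiso : IsIso (F'.map f) := (ConcreteCategory.isIso_iff_bijective (F'.map f)).2 hbij
  have : IsIso f := isIso_of_reflects_iso f F'
  exact ⟨X, ⟨asIso f⟩⟩

end Ess

end Groth.Agent.Lib.Helper1.Gal
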