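import Mathlib
import Groth.Agent.Lib.Helper1.Gal4

/-! Exact functors between Galois categories are conservative; composite fibre functors. -/

open CategoryTheory CategoryTheory.Limits CategoryTheory.PreGaloisCategory

namespace Groth.Agent.Lib.Helper1.Gal

universe u v w

section Cons
variable {C D : Type u} [Category.{v} C] [Category.{v} D] [GaloisCategory C] [GaloisCategory D]
  (H : C ⥤ D) [PreservesFiniteLimits H] [PreservesFiniteColimits H]

/-- an exact functor reflects initial objects -/
lemma isInitial_of_isInitial_map (Z : C) (hZ : IsInitial (H.obj Z)) : Nonempty (IsInitial Z) := by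
  let FC := GaloisCategory.getFiberFunctor C
  let FD := GaloisCategory.getFiberFunctor D
  by_contra hni
  have hne : Nonempty (FC.obj Z) := (not_initial_iff_fiber_nonempty FC Z).1 (fun h => hni ⟨h⟩)
  have hepi : Epi (terminal.from Z) := by
    have hsurj : Function.Surjective (FC.map (terminal.from Z)) := by
      intro t
      obtain ⟨z⟩ := hne
      exact ⟨z, (subsingleton_fiber_of_isTerminal FC terminalIsTerminal).elim _ _⟩
    have : Epi (FC.map (terminal.from Z)) := ConcreteCategory.epi_of_surjective _ hsurj
    exact FC.epi_of_epi_map this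
  have hepi2 : Epi (H.map (terminal.from Z)) := inferInstance
  have hsurj2 := surjective_on_fiber_of_epi FD (H.map (terminal.from Z))
  have hT : IsTerminal (H.obj (⊤_ C)) := IsTerminal.isTerminalObj H _ terminalIsTerminal
  obtain ⟨t⟩ := nonempty_fiber_of_isTerminal FD hT
  obtain ⟨z, -⟩ := hsurj2 t
  exact not_initial_of_inhabited FD z hZ

end Cons

section Card
variable {C : Type u} [Category.{v} C] [GaloisCategory C] (F : C ⥤ FintypeCat.{w}) [FiberFunctor F]

lemma card_fiber_of_isColimit_binaryCofan {X Y Z : C} (i : X ⟶ Y) (u : Z ⟶ Y)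
    (hc : IsColimit (BinaryCofan.mk i u)) :
    Nat.card (F.obj Y) = Nat.card (F.obj X) + Nat.card (F.obj Z) := by
  let e : Y ≅ X ⨿ Z := hc.coconePointUniqueUpToIso (colimit.isColimit (pair X Z))
  rw [card_fiber_eq_of_iso F e, card_fiber_coprod_eq_sum]

end Card

section Cons2
variable {C D : Type u} [Category.{v} C] [Category.{v} D] [GaloisCategory C] [GaloisCategory D]
  (H : C ⥤ D) [PreservesFiniteLimits H] [PreservesFiniteColimits H]

lemma isIso_of_mono_of_isIso_map {X Y : C} (i : X ⟶ Y) [Mono i] [IsIso (H.map i)] : IsIso i := by
  let FC := GaloisCategory.getFiberFunctor C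
  let FD := GaloisCategory.getFiberFunctor D
  obtain ⟨Z, u, ⟨hc⟩⟩ := PreGaloisCategory.monoInducesIsoOnDirectSummand i
  have hcH : IsColimit (BinaryCofan.mk (H.map i) (H.map u)) :=
    isColimitMapCoconeBinaryCofanEquiv H i u (isColimitOfPreserves H hc)
  have h1 := card_fiber_of_isColimit_binaryCofan FD (H.map i) (H.map u) hcH
  have h2 : Nat.card (FD.obj (H.obj X)) = Nat.card (FD.obj (H.obj Y)) :=
    card_fiber_eq_of_iso FD (asIso (H.map i))
  have h3 : Nat.card (FD.obj (H.obj Z)) = 0 := by omega
  have h4 : IsEmpty (FD.obj (H.obj Z)) := Finite.card_eq_zero_iff.1 h3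
  obtain ⟨hZ⟩ := (initial_iff_fiber_empty FD (H.obj Z)).2 h4
  obtain ⟨hZ'⟩ := isInitial_of_isInitial_map H Z hZ
  have h5 : IsEmpty (FC.obj Z) := (initial_iff_fiber_empty FC Z).1 ⟨hZ'⟩
  have h6 : Nat.card (FC.obj Z) = 0 := Finite.card_eq_zero_iff.2 h5
  have h7 := card_fiber_of_isColimit_binaryCofan FC i u hc
  exact isIso_of_mono_of_eq_card_fiber FC i (by omega)

lemma reflectsIsomorphisms_of_exact : H.ReflectsIsomorphisms := by
  refine ⟨fun {X Y} f hf => ?_⟩
  -- first: f is mono
  have hmono : Mono f := by
    rw [← pullback.isIso_diagonal_iff]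
    haveI : Mono (pullback.diagonal f) := inferInstance
    haveI : IsIso (H.map (pullback.diagonal f)) := by
      have hm : Mono (H.map f) := inferInstance
      -- H.map (diagonal f) composed with H.map fst is identity
      have h1 : H.map (pullback.diagonal f) ≫ H.map (pullback.fst f f) = 𝟙 _ := by
        rw [← H.map_comp, pullback.diagonal_fst, H.map_id]
      -- H.map fst is mono since fst = snd after H (H.map f mono) ...
      have hpb : IsPullback (H.map (pullback.fst f f)) (H.map (pullback.snd f f))
          (H.map f) (H.map f) := (IsPullback.of_hasPullback f f).map H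
      have hfst : IsIso (H.map (pullback.fst f f)) := by
        have : IsIso (H.map f) := hf
        exact hpb.isIso_fst_of_isIso
      haveI := hfst
      haveI : IsIso (H.map (pullback.diagonal f) ≫ H.map (pullback.fst f f)) := by
        rw [h1]; infer_instance
      exact IsIso.of_isIso_comp_right (H.map (pullback.diagonal f)) (H.map (pullback.fst f f))
    exact isIso_of_mono_of_isIso_map H (pullback.diagonal f)
  exact isIso_of_mono_of_isIso_map H f

end Cons2

section Comp
variable {C D : Type u} [Category.{v} C] [Category.{v} D] [GaloisCategory C] [GaloisCategory D]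
  (H : C ⥤ D) [PreservesFiniteLimits H] [PreservesFiniteColimits H]
  (F' : D ⥤ FintypeCat.{w}) [FiberFunctor F']

/-- the composite of an exact functor with a fibre functor is a fibre functor -/
lemma fiberFunctorComp : FiberFunctor (H ⋙ F') where
  preservesTerminalObjects := inferInstance
  preservesPullbacks := inferInstance
  preservesFiniteCoproducts := ⟨fun n => inferInstance⟩
  preservesEpis := inferInstance
  preservesQuotientsByFiniteGroups G _ _ := by
    choose G' hg hf he using Finite.exists_type_univ_nonempty_mulEquiv G
    haveI : PreservesColimitsOfShape (SingleObj G') H := by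
      haveI : Fintype G' := Fintype.ofFinite G'
      infer_instance
    haveI : PreservesColimitsOfShape (SingleObj G') (H ⋙ F') := inferInstance
    exact Limits.preservesColimitsOfShape_of_equiv he.some.toSingleObjEquiv.symm (H ⋙ F')
  reflectsIsos := by
    haveI := reflectsIsomorphisms_of_exact H
    infer_instance

end Comp

end Groth.Agent.Lib.Helper1.Gal
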