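import Mathlib
import Groth.Agent.Lib.Helper1.Gal5

/-! Uniqueness of fibre functors on a Galois category (SGA1 V.6 / Stacks 0BMV). -/

open CategoryTheory CategoryTheory.Limits CategoryTheory.PreGaloisCategory

namespace Groth.Agent.Lib.Helper1.Gal

universe u v w

section Cofilt
variable {C : Type u} [Category.{v} C] [GaloisCategory C] (F : C ⥤ FintypeCat.{w}) [FiberFunctor F]

/-- The category of pointed Galois objects is cofiltered (general universe). -/
lemma isCofilteredOrEmpty_pointedGaloisObject : IsCofilteredOrEmpty (PointedGaloisObject F) where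
  cone_objs := fun ⟨A, a, _⟩ ⟨B, b, _⟩ ↦ by
    obtain ⟨Z, f, z, hgal, hfz⟩ := exists_hom_from_galois_of_fiber F (A ⨯ B)
      <| (fiberBinaryProductEquiv F A B).symm (a, b)
    refine ⟨⟨Z, z, hgal⟩, ⟨f ≫ prod.fst, ?_⟩, ⟨f ≫ prod.snd, ?_⟩, trivial⟩
    · simp only [F.map_comp, hfz, FintypeCat.comp_apply, fiberBinaryProductEquiv_symm_fst_apply]
    · simp only [F.map_comp, hfz, FintypeCat.comp_apply, fiberBinaryProductEquiv_symm_snd_apply]
  cone_maps := fun ⟨A, a, _⟩ ⟨B, b, _⟩ ⟨f, hf⟩ ⟨g, hg⟩ ↦ by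
    obtain ⟨Z, h, z, hgal, hhz⟩ := exists_hom_from_galois_of_fiber F A a
    refine ⟨⟨Z, z, hgal⟩, ⟨h, hhz⟩, PointedGaloisObject.hom_ext ?_⟩
    apply evaluation_injective_of_isConnected F Z B z
    simp [hhz, hf, hg]

end Cofilt

section Basic'
variable {C : Type u} [Category.{v} C] [GaloisCategory C]
  (F' : C ⥤ FintypeCat.{w}) [PreservesColimitsOfShape (Discrete WalkingPair) F']

/-- a functor preserving binary coproducts sends initial objects to the empty set -/
lemma isEmpty_of_isInitial {X : C} (hX : IsInitial X) : IsEmpty (F'.obj X) := by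
  let e : F'.obj (X ⨿ X) ≃ F'.obj X ⊕ F'.obj X := Iso.toEquiv
    <| (PreservesColimitPair.iso (F' ⋙ FintypeCat.incl) X X).symm.trans
    <| Types.binaryCoproductIso (FintypeCat.incl.obj (F'.obj X)) (FintypeCat.incl.obj (F'.obj X))
  have h1 : Nat.card (F'.obj (X ⨿ X)) = Nat.card (F'.obj X) + Nat.card (F'.obj X) := by
    rw [← Nat.card_sum]
    exact Nat.card_eq_of_bijective e.toFun (Equiv.bijective e)
  let j : X ⨿ X ≅ X :=
    { hom := coprod.desc (𝟙 X) (𝟙 X)
      inv := coprod.inl
      hom_inv_id := by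
        apply coprod.hom_ext
        · rw [← Category.assoc, coprod.inl_desc, Category.id_comp, Category.comp_id]
        · rw [← Category.assoc, coprod.inr_desc, Category.id_comp, Category.comp_id]
          exact hX.hom_ext _ _
      inv_hom_id := coprod.inl_desc _ _ }
  have h2 : Nat.card (F'.obj (X ⨿ X)) = Nat.card (F'.obj X) :=
    Nat.card_congr (FintypeCat.equivEquivIso.symm (F'.mapIso j))
  have h3 : Nat.card (F'.obj X) = 0 := by omega
  exact Finite.card_eq_zero_iff.1 h3

noncomputable def isInitial_of_isEmpty_fintypeCat (T : FintypeCat.{w}) [IsEmpty T] : IsInitial T :=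
  IsInitial.ofUniqueHom (fun Y => FintypeCat.homMk (fun x => isEmptyElim x))
    (fun Y m => by ext x; exact isEmptyElim x)

lemma preservesInitial_of_binary : PreservesColimitsOfShape (Discrete PEmpty.{1}) F' := by
  haveI : IsEmpty (F'.obj (⊥_ C)) := isEmpty_of_isInitial F' initialIsInitial
  have hI : IsInitial (F'.obj (⊥_ C)) := isInitial_of_isEmpty_fintypeCat _
  haveI : PreservesColimit (Functor.empty.{0} C) F' :=
    preservesInitial_of_iso F' (initialIsInitial.uniqueUpToIso hI)
  exact preservesColimitsOfShape_pempty_of_preservesInitial F'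

lemma preservesFiniteCoproducts_of_binary (J : Type) [Finite J] :
    PreservesColimitsOfShape (Discrete J) F' := by
  haveI := preservesInitial_of_binary F'
  exact PreservesFiniteCoproducts.of_preserves_binary_and_initial F' J

end Basic'

section Uniq
variable {C : Type u} [Category.{v} C] [GaloisCategory C] (F : C ⥤ FintypeCat.{w}) [FiberFunctor F]
  (F' : C ⥤ FintypeCat.{w})

/-- existence of a compatible system of points of `F'` on pointed Galois objects -/
lemma exists_compat (hne : ∀ X : C, IsEmpty (F'.obj X) → Nonempty (IsInitial X)) :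
    ∃ γ : ∀ A : PointedGaloisObject F, F'.obj A.obj,
      ∀ (A B : PointedGaloisObject F) (f : A ⟶ B), F'.map f.val (γ A) = γ B := by
  haveI := isCofilteredOrEmpty_pointedGaloisObject F
  let Φ : PointedGaloisObject F ⥤ Type w := PointedGaloisObject.incl F ⋙ F' ⋙ FintypeCat.incl
  haveI : ∀ j, Finite (Φ.obj j) := fun j => inferInstanceAs (Finite (F'.obj j.obj))
  haveI : ∀ j, Nonempty (Φ.obj j) := fun j => by
    show Nonempty (F'.obj j.obj)
    by_contra hcon
    rw [not_nonempty_iff] at hcon
    obtain ⟨hI⟩ := hne j.obj hcon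
    exact IsConnected.notInitial (X := j.obj) hI
  obtain ⟨u, hu⟩ := nonempty_sections_of_finite_cofiltered_system Φ
  exact ⟨u, fun A B f => hu f⟩

variable (γ : ∀ A : PointedGaloisObject F, F'.obj A.obj)
  (hγ : ∀ (A B : PointedGaloisObject F) (f : A ⟶ B), F'.map f.val (γ A) = γ B)

include hγ in
lemma compat_wd {X : C} (A B : PointedGaloisObject F) (f : A.obj ⟶ X) (g : B.obj ⟶ X)
    (h : F.map f A.pt = F.map g B.pt) : F'.map f (γ A) = F'.map g (γ B) := by
  haveI := isCofilteredOrEmpty_pointedGaloisObject F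
  obtain ⟨Z, p, q, -⟩ := IsCofilteredOrEmpty.cone_objs A B
  have hpq : p.val ≫ f = q.val ≫ g := by
    apply evaluation_injective_of_isConnected F Z.obj X Z.pt
    show F.map (p.val ≫ f) Z.pt = F.map (q.val ≫ g) Z.pt
    rw [F.map_comp, F.map_comp, FintypeCat.comp_apply, FintypeCat.comp_apply, p.comp, q.comp, h]
  rw [← hγ _ _ p, ← hγ _ _ q, ← FintypeCat.comp_apply, ← FintypeCat.comp_apply, ← F'.map_comp,
    ← F'.map_comp, hpq]

/-- a chosen pointed Galois object over a point -/
noncomputable def chosen (X : C) (x : F.obj X) : PointedGaloisObject F :=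
  ⟨(exists_hom_from_galois_of_fiber F X x).choose,
    (exists_hom_from_galois_of_fiber F X x).choose_spec.choose_spec.choose,
    (exists_hom_from_galois_of_fiber F X x).choose_spec.choose_spec.choose_spec.1⟩

/-- the chosen morphism -/
noncomputable def chosenHom (X : C) (x : F.obj X) : (chosen F X x).obj ⟶ X :=
  (exists_hom_from_galois_of_fiber F X x).choose_spec.choose

lemma chosen_spec (X : C) (x : F.obj X) : F.map (chosenHom F X x) (chosen F X x).pt = x :=
  (exists_hom_from_galois_of_fiber F X x).choose_spec.choose_spec.choose_spec.2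

/-- the comparison map on fibres -/
noncomputable def tApp (X : C) (x : F.obj X) : F'.obj X :=
  F'.map (chosenHom F X x) (γ (chosen F X x))

include hγ in
lemma tApp_eq {X : C} (A : PointedGaloisObject F) (f : A.obj ⟶ X) :
    tApp F F' γ X (F.map f A.pt) = F'.map f (γ A) := by
  unfold tApp
  exact compat_wd F F' γ hγ (chosen F X (F.map f A.pt)) A (chosenHom F X (F.map f A.pt)) f
    (chosen_spec F X (F.map f A.pt))

include hγ in
lemma tApp_natural {X Y : C} (u : X ⟶ Y) (x : F.obj X) :
    tApp F F' γ Y (F.map u x) = F'.map u (tApp F F' γ X x) := by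
  obtain ⟨A, f, a, hA, rfl⟩ := exists_hom_from_galois_of_fiber F X x
  have h1 := tApp_eq F F' γ hγ ⟨A, a, hA⟩ f
  have h2 := tApp_eq F F' γ hγ ⟨A, a, hA⟩ (f ≫ u)
  simp only [F.map_comp, FintypeCat.comp_apply] at h2
  rw [h2, h1, F'.map_comp, FintypeCat.comp_apply]

end Uniq

section Inj
variable {C : Type u} [Category.{v} C] [GaloisCategory C] (F : C ⥤ FintypeCat.{w}) [FiberFunctor F]
  (F' : C ⥤ FintypeCat.{w}) [PreservesFiniteLimits F']
  [PreservesColimitsOfShape (Discrete WalkingPair) F']
  (γ : ∀ A : PointedGaloisObject F, F'.obj A.obj)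
  (hγ : ∀ (A B : PointedGaloisObject F) (f : A ⟶ B), F'.map f.val (γ A) = γ B)

/-- fibre of an equalizer for a functor preserving finite limits -/
noncomputable def fiberEqualizerEquiv' {X Y : C} (f g : X ⟶ Y) :
    F'.obj (equalizer f g) ≃ { x : F'.obj X // F'.map f x = F'.map g x } :=
  (PreservesEqualizer.iso (F' ⋙ FintypeCat.incl) f g ≪≫
    Types.equalizerIso (F'.map f).hom (F'.map g).hom).toEquiv

include hγ in
lemma tApp_injective (X : C) : Function.Injective (tApp F F' γ X) := by
  intro x₁ x₂ h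
  haveI := isCofilteredOrEmpty_pointedGaloisObject F
  obtain ⟨Z, p₁, p₂, -⟩ := IsCofilteredOrEmpty.cone_objs (chosen F X x₁) (chosen F X x₂)
  let g₁ : Z.obj ⟶ X := p₁.val ≫ chosenHom F X x₁
  let g₂ : Z.obj ⟶ X := p₂.val ≫ chosenHom F X x₂
  have hg₁ : F.map g₁ Z.pt = x₁ := by
    show F.map (p₁.val ≫ chosenHom F X x₁) Z.pt = x₁
    rw [F.map_comp, FintypeCat.comp_apply, p₁.comp, chosen_spec]
  have hg₂ : F.map g₂ Z.pt = x₂ := by
    show F.map (p₂.val ≫ chosenHom F X x₂) Z.pt = x₂
    rw [F.map_comp, FintypeCat.comp_apply, p₂.comp, chosen_spec]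
  have h₁ := tApp_eq F F' γ hγ Z g₁
  have h₂ := tApp_eq F F' γ hγ Z g₂
  rw [hg₁] at h₁
  rw [hg₂] at h₂
  have heq : F'.map g₁ (γ Z) = F'.map g₂ (γ Z) := by rw [← h₁, ← h₂, h]
  have hne : Nonempty (F'.obj (equalizer g₁ g₂)) :=
    ⟨(fiberEqualizerEquiv' F' g₁ g₂).symm ⟨γ Z, heq⟩⟩
  have hni : IsInitial (equalizer g₁ g₂) → False := fun hI =>
    (isEmpty_of_isInitial F' hI).elim hne.some
  haveI : IsIso (equalizer.ι g₁ g₂) :=
    IsConnected.noTrivialComponent (X := Z.obj) _ (equalizer.ι g₁ g₂) hni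
  have hgg : g₁ = g₂ := (cancel_epi (equalizer.ι g₁ g₂)).1 (equalizer.condition g₁ g₂)
  rw [← hg₁, ← hg₂, hgg]

end Inj

section Graph
variable {C : Type u} [Category.{v} C] [GaloisCategory C] (F : C ⥤ FintypeCat.{w}) [FiberFunctor F]

/-- a point of the fibre of a product is determined by its projections -/
lemma fiber_prod_ext {A X : C} (w w' : F.obj (A ⨯ X))
    (h1 : F.map prod.fst w = F.map prod.fst w') (h2 : F.map prod.snd w = F.map prod.snd w') :
    w = w' := by
  obtain ⟨⟨x, y⟩, rfl⟩ := (fiberBinaryProductEquiv F A X).symm.surjective w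
  obtain ⟨⟨x', y'⟩, rfl⟩ := (fiberBinaryProductEquiv F A X).symm.surjective w'
  rw [fiberBinaryProductEquiv_symm_fst_apply, fiberBinaryProductEquiv_symm_fst_apply] at h1
  rw [fiberBinaryProductEquiv_symm_snd_apply, fiberBinaryProductEquiv_symm_snd_apply] at h2
  rw [h1, h2]

/-- evaluation at any point of a Galois representative is surjective -/
lemma evaluation_surjective_of_representative {A X : C} [IsGalois A] (a : F.obj A)
    (hbij : Function.Bijective (fun (f : A ⟶ X) ↦ F.map f a)) (a' : F.obj A) (x : F.obj X) :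
    ∃ f : A ⟶ X, F.map f a' = x := by
  obtain ⟨σ, hσ⟩ := MulAction.exists_smul_eq (Aut A) a a'
  have hσ' : F.map σ.hom a = a' := hσ
  obtain ⟨g, hg⟩ := hbij.2 x
  refine ⟨σ.inv ≫ g, ?_⟩
  rw [← hσ', ← FintypeCat.comp_apply, ← F.map_comp, ← Category.assoc, σ.hom_inv_id,
    Category.id_comp]
  exact hg

/-- the graph morphism -/
noncomputable def graphMap {A X : C} {n : ℕ} (e : Fin n → (A ⟶ X)) :
    (∐ fun _ : Fin n => A) ⟶ A ⨯ X :=
  Sigma.desc (fun i => prod.lift (𝟙 A) (e i))

lemma graphMap_fst {A X : C} {n : ℕ} (e : Fin n → (A ⟶ X)) (i : Fin n) (a' : F.obj A) :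
    F.map prod.fst (F.map (graphMap e) (F.map (Sigma.ι (fun _ : Fin n => A) i) a')) = a' := by
  rw [← FintypeCat.comp_apply, ← FintypeCat.comp_apply, ← F.map_comp, ← F.map_comp]
  have : Sigma.ι (fun _ : Fin n => A) i ≫ graphMap e ≫ prod.fst = 𝟙 A := by
    unfold graphMap
    rw [← Category.assoc, Sigma.ι_desc, prod.lift_fst]
  rw [this, F.map_id]
  rfl

lemma graphMap_snd {A X : C} {n : ℕ} (e : Fin n → (A ⟶ X)) (i : Fin n) (a' : F.obj A) :
    F.map prod.snd (F.map (graphMap e) (F.map (Sigma.ι (fun _ : Fin n => A) i) a')) =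
      F.map (e i) a' := by
  rw [← FintypeCat.comp_apply, ← FintypeCat.comp_apply, ← F.map_comp, ← F.map_comp]
  have : Sigma.ι (fun _ : Fin n => A) i ≫ graphMap e ≫ prod.snd = e i := by
    unfold graphMap
    rw [← Category.assoc, Sigma.ι_desc, prod.lift_snd]
  rw [this]

lemma isIso_graphMap {A X : C} [IsGalois A] (a : F.obj A)
    (hbij : Function.Bijective (fun (f : A ⟶ X) ↦ F.map f a)) {n : ℕ}
    (e : Fin n ≃ (A ⟶ X)) : IsIso (graphMap (fun i => e i)) := by
  have hb : Function.Bijective (F.map (graphMap (fun i => e i))) := by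
    constructor
    · intro z z' hzz'
      obtain ⟨i, a', rfl⟩ := exists_of_fiber_sigma F (fun _ : Fin n => A) z
      obtain ⟨j, a'', rfl⟩ := exists_of_fiber_sigma F (fun _ : Fin n => A) z'
      have h1 := congrArg (F.map prod.fst) hzz'
      rw [graphMap_fst, graphMap_fst] at h1
      subst h1
      have h2 := congrArg (F.map prod.snd) hzz'
      rw [graphMap_snd, graphMap_snd] at h2
      have h3 : e i = e j := evaluation_injective_of_isConnected F A X a' h2
      rw [e.injective h3]
    · intro w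
      obtain ⟨f, hf⟩ := evaluation_surjective_of_representative F a hbij
        (F.map prod.fst w) (F.map prod.snd w)
      refine ⟨F.map (Sigma.ι (fun _ : Fin n => A) (e.symm f)) (F.map prod.fst w), ?_⟩
      apply fiber_prod_ext F
      · rw [graphMap_fst]
      · rw [graphMap_snd, Equiv.apply_symm_apply, hf]
  have : IsIso (F.map (graphMap (fun i => e i))) :=
    (ConcreteCategory.isIso_iff_bijective _).2 hb
  exact isIso_of_reflects_iso _ F

end Graph

section Final
variable {C : Type u} [Category.{v} C] [GaloisCategory C] (F : C ⥤ FintypeCat.{w}) [FiberFunctor F]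
  (F' : C ⥤ FintypeCat.{w}) [PreservesFiniteLimits F']
  [PreservesColimitsOfShape (Discrete WalkingPair) F']

lemma card_fiber_prod' (A X : C) :
    Nat.card (F'.obj (A ⨯ X)) = Nat.card (F'.obj A) * Nat.card (F'.obj X) := by
  let pe : F'.obj (A ⨯ X) ≃ F'.obj A × F'.obj X :=
    (PreservesLimitPair.iso (F' ⋙ FintypeCat.incl) A X ≪≫
      Types.binaryProductIso (F'.obj A) (F'.obj X)).toEquiv
  rw [Nat.card_congr pe, Nat.card_prod]

lemma card_fiber_sigma_le' {n : ℕ} (A : C) :
    Nat.card (F'.obj (∐ fun _ : Fin n => A)) ≤ n * Nat.card (F'.obj A) := by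
  haveI := preservesFiniteCoproducts_of_binary F' (Fin n)
  let g : Fin n × F'.obj A → F'.obj (∐ fun _ : Fin n => A) :=
    fun p => F'.map (Sigma.ι (fun _ : Fin n => A) p.1) p.2
  have hg : Function.Surjective g := by
    intro z
    obtain ⟨⟨j⟩, y, hy⟩ := Limits.FintypeCat.jointly_surjective
      (Discrete.functor (fun _ : Fin n => A) ⋙ F') _
      (isColimitOfPreserves F' (colimit.isColimit (Discrete.functor (fun _ : Fin n => A)))) z
    exact ⟨(j, y), hy⟩
  have := Nat.card_le_card_of_surjective g hg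
  rwa [Nat.card_prod, Nat.card_fin] at this

include F in
lemma card_le (hne : ∀ X : C, IsEmpty (F'.obj X) → Nonempty (IsInitial X)) (X : C) :
    Nat.card (F'.obj X) ≤ Nat.card (F.obj X) := by
  obtain ⟨A, a, hgal, hbij⟩ := exists_galois_representative F X
  let n := Nat.card (A ⟶ X)
  let e : Fin n ≃ (A ⟶ X) := (Finite.equivFin (A ⟶ X)).symm
  have hn : n = Nat.card (F.obj X) := Nat.card_eq_of_bijective _ hbij
  haveI := isIso_graphMap F a hbij e
  have h1 : Nat.card (F'.obj (∐ fun _ : Fin n => A)) = Nat.card (F'.obj (A ⨯ X)) :=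
    Nat.card_congr (FintypeCat.equivEquivIso.symm (F'.mapIso (asIso (graphMap (fun i => e i)))))
  have h2 := card_fiber_prod' F' A X
  have h3 := card_fiber_sigma_le' F' (n := n) A
  have hpos : 0 < Nat.card (F'.obj A) := by
    rw [Nat.pos_iff_ne_zero]
    intro h0
    have hE : IsEmpty (F'.obj A) := Finite.card_eq_zero_iff.1 h0
    obtain ⟨hI⟩ := hne A hE
    exact IsConnected.notInitial (X := A) hI
  rw [h1, h2] at h3
  rw [← hn]
  have h4 : Nat.card (F'.obj X) * Nat.card (F'.obj A) ≤ n * Nat.card (F'.obj A) := by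
    rw [mul_comm]; exact h3
  exact Nat.le_of_mul_le_mul_right h4 hpos

/-- Uniqueness of fibre functors (SGA1 V 6.?, (iii) ⇒ (i)). -/
theorem nonempty_iso_of_preserves
    (hne : ∀ X : C, IsEmpty (F'.obj X) → Nonempty (IsInitial X)) : Nonempty (F' ≅ F) := by
  obtain ⟨γ, hγ⟩ := exists_compat F F' hne
  let t : F ⟶ F' :=
    { app := fun X => FintypeCat.homMk (tApp F F' γ X)
      naturality := fun X Y u => by
        ext x
        exact tApp_natural F F' γ hγ u x }
  have hiso : ∀ X, IsIso (t.app X) := by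
    intro X
    rw [ConcreteCategory.isIso_iff_bijective]
    have hinj : Function.Injective (tApp F F' γ X) := tApp_injective F F' γ hγ X
    have hle := card_le F F' hne X
    exact (Nat.bijective_iff_injective_and_card _).2
      ⟨hinj, le_antisymm (Nat.card_le_card_of_injective _ hinj) hle⟩
  haveI : IsIso t := NatIso.isIso_of_isIso_app t
  exact ⟨(asIso t).symm⟩

end Final

end Groth.Agent.Lib.Helper1.Gal
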