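import Mathlib

set_option autoImplicit false

open scoped TensorProduct

namespace Groth.Agent.H1.GalIdem

section Atom

variable {G B : Type*} [Group G] [Fintype G] [CommRing B] (ρ : G → B →+* B)

/-- product of translates of `e` over a finite set of group elements -/
noncomputable def P (e : B) (S : Finset G) : B := ∏ σ ∈ S, ρ σ e

theorem P_idem {e : B} (he : IsIdempotentElem e) (S : Finset G) :
    IsIdempotentElem (P ρ e S) := by
  unfold P IsIdempotentElem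
  rw [← Finset.prod_mul_distrib]
  refine Finset.prod_congr rfl (fun σ _ => ?_)
  rw [← map_mul, he.eq]

theorem mul_P_of_mem [DecidableEq G] {e : B} (he : IsIdempotentElem e) {S : Finset G} {σ : G}
    (hσ : σ ∈ S) : ρ σ e * P ρ e S = P ρ e S := by
  unfold P
  rw [← Finset.mul_prod_erase S (fun σ => ρ σ e) hσ, ← mul_assoc, ← map_mul, he.eq]

theorem P_mul_P [DecidableEq G] {e : B} (he : IsIdempotentElem e) (S T : Finset G) :
    P ρ e S * P ρ e T = P ρ e (S ∪ T) := by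
  refine Finset.induction_on T ?_ ?_
  · simp [P]
  · intro a T ha ih
    have h1 : P ρ e (insert a T) = ρ a e * P ρ e T := by
      unfold P
      rw [Finset.prod_insert ha]
    rw [h1, mul_left_comm, ih, Finset.union_insert]
    by_cases hm : a ∈ S ∪ T
    · rw [Finset.insert_eq_of_mem hm, mul_P_of_mem ρ he hm]
    · unfold P
      rw [Finset.prod_insert hm]

theorem map_P [DecidableEq G] (hρm : ∀ σ τ b, ρ (σ * τ) b = ρ σ (ρ τ b)) (e : B) (τ : G)
    (S : Finset G) : ρ τ (P ρ e S) = P ρ e (S.image (fun σ => τ * σ)) := by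
  unfold P
  rw [map_prod, Finset.prod_image (fun x _ y _ h => mul_left_cancel h)]
  refine Finset.prod_congr rfl (fun σ _ => ?_)
  rw [hρm]

theorem exists_atom (hρ1 : ∀ b, ρ 1 b = b) (hρm : ∀ σ τ b, ρ (σ * τ) b = ρ σ (ρ τ b))
    {e : B} (he : IsIdempotentElem e) (he0 : e ≠ 0) :
    ∃ e' : B, IsIdempotentElem e' ∧ e' ≠ 0 ∧ e' * e = e' ∧
      ∀ τ, ρ τ e' = e' ∨ ρ τ e' * e' = 0 := by
  classical
  let 𝒮 : Finset (Finset G) := Finset.univ.filter (fun S => (1 : G) ∈ S ∧ P ρ e S ≠ 0)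
  have h𝒮 : 𝒮.Nonempty := ⟨{1}, by
    rw [Finset.mem_filter]
    refine ⟨Finset.mem_univ _, Finset.mem_singleton_self _, ?_⟩
    unfold P
    rw [Finset.prod_singleton, hρ1]
    exact he0⟩
  obtain ⟨S, hS, hmax⟩ := Finset.exists_max_image 𝒮 Finset.card h𝒮
  rw [Finset.mem_filter] at hS
  obtain ⟨-, h1S, hS0⟩ := hS
  refine ⟨P ρ e S, P_idem ρ he S, hS0, ?_, ?_⟩
  · have := mul_P_of_mem ρ he h1S
    rw [hρ1] at this
    rw [mul_comm]
    exact this
  · intro τ
    by_cases h0 : ρ τ (P ρ e S) * P ρ e S = 0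
    · exact Or.inr h0
    · left
      rw [map_P ρ hρm e τ S] at h0 ⊢
      have hcard : (S.image (fun σ => τ * σ)).card = S.card :=
        Finset.card_image_of_injective _ (mul_right_injective τ)
      generalize S.image (fun σ => τ * σ) = T at h0 hcard ⊢
      rw [mul_comm, P_mul_P ρ he] at h0
      have hmem : S ∪ T ∈ 𝒮 := by
        rw [Finset.mem_filter]
        exact ⟨Finset.mem_univ _, Finset.mem_union_left _ h1S, h0⟩
      have hle := hmax _ hmem
      have hST : S ∪ T = S :=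
        (Finset.eq_of_subset_of_card_le Finset.subset_union_left hle).symm
      have hTS : T ⊆ S := by
        rw [← hST]
        exact Finset.subset_union_right
      rw [Finset.eq_of_subset_of_card_le hTS (le_of_eq hcard.symm)]

end Atom

section Tensor

variable (k : Type*) (L : Type*) (A : Type*) [Field k] [Field L] [Algebra k L]
  [FiniteDimensional k L] [IsGalois k L] [CommRing A] [Algebra k A]

/-- action of the Galois group on `L ⊗ A` via the first factor -/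
noncomputable def ρ (σ : L ≃ₐ[k] L) : L ⊗[k] A →+* L ⊗[k] A :=
  (Algebra.TensorProduct.map (σ : L →ₐ[k] L) (AlgHom.id k A)).toRingHom

theorem ρ_tmul (σ : L ≃ₐ[k] L) (l : L) (a : A) : ρ k L A σ (l ⊗ₜ[k] a) = (σ l) ⊗ₜ[k] a := by
  simp [ρ]

theorem ρ_algebraMap (σ : L ≃ₐ[k] L) (c : k) :
    ρ k L A σ (algebraMap k (L ⊗[k] A) c) = algebraMap k (L ⊗[k] A) c :=
  (Algebra.TensorProduct.map (σ : L →ₐ[k] L) (AlgHom.id k A)).commutes c

theorem ρ_one (b : L ⊗[k] A) : ρ k L A 1 b = b := by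
  induction b using TensorProduct.induction_on with
  | zero => simp
  | tmul l a => rw [ρ_tmul]; rfl
  | add x y hx hy => rw [map_add, hx, hy]

theorem ρ_mul (σ τ : L ≃ₐ[k] L) (b : L ⊗[k] A) :
    ρ k L A (σ * τ) b = ρ k L A σ (ρ k L A τ b) := by
  induction b using TensorProduct.induction_on with
  | zero => simp
  | tmul l a => rw [ρ_tmul, ρ_tmul, ρ_tmul]; rfl
  | add x y hx hy => rw [map_add, map_add, map_add, hx, hy]

theorem sum_ρ_mem_range (x : L ⊗[k] A) :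
    ∃ a : A, (1 : L) ⊗ₜ[k] a = ∑ σ : L ≃ₐ[k] L, ρ k L A σ x := by
  induction x using TensorProduct.induction_on with
  | zero => exact ⟨0, by simp⟩
  | tmul l a =>
    refine ⟨Algebra.trace k L l • a, ?_⟩
    simp only [ρ_tmul]
    rw [← TensorProduct.sum_tmul, ← trace_eq_sum_automorphisms, Algebra.algebraMap_eq_smul_one,
      TensorProduct.smul_tmul]
  | add x y hx hy =>
    obtain ⟨a, ha⟩ := hx
    obtain ⟨b, hb⟩ := hy
    refine ⟨a + b, ?_⟩
    rw [TensorProduct.tmul_add, ha, hb, ← Finset.sum_add_distrib]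
    simp only [map_add]

theorem exists_of_invariant (b : L ⊗[k] A) (hb : ∀ σ, ρ k L A σ b = b) :
    ∃ a : A, (1 : L) ⊗ₜ[k] a = b := by
  obtain ⟨c, hc⟩ := Algebra.trace_surjective k L 1
  obtain ⟨a, ha⟩ := sum_ρ_mem_range k L A ((c ⊗ₜ[k] (1 : A)) * b)
  refine ⟨a, ha.trans ?_⟩
  have h1 : ∀ σ, ρ k L A σ ((c ⊗ₜ[k] (1 : A)) * b) = ((σ c) ⊗ₜ[k] (1 : A)) * b := by
    intro σ
    rw [map_mul, ρ_tmul, hb]
  simp only [h1]
  rw [← Finset.sum_mul, ← TensorProduct.sum_tmul, ← trace_eq_sum_automorphisms, hc, map_one,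
    ← Algebra.TensorProduct.one_def, one_mul]

theorem tmul_one_injective : Function.Injective (fun a : A => (1 : L) ⊗ₜ[k] a) :=
  Algebra.TensorProduct.includeRight_injective (R := k) (A := L) (B := A)
    (algebraMap k L).injective

variable {k L A}

/-- the stabilizer of an element -/
noncomputable def stab (e' : L ⊗[k] A) : Subgroup (L ≃ₐ[k] L) where
  carrier := {σ | ρ k L A σ e' = e'}
  mul_mem' := by
    intro a b ha hb
    show ρ k L A (a * b) e' = e'
    have ha' : ρ k L A a e' = e' := ha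
    have hb' : ρ k L A b e' = e' := hb
    rw [ρ_mul, hb', ha']
  one_mem' := ρ_one k L A e'
  inv_mem' := by
    intro a ha
    show ρ k L A a⁻¹ e' = e'
    have ha' : ρ k L A a e' = e' := ha
    calc ρ k L A a⁻¹ e' = ρ k L A a⁻¹ (ρ k L A a e') := by rw [ha']
      _ = e' := by rw [← ρ_mul, inv_mul_cancel, ρ_one]

theorem mem_stab {e' : L ⊗[k] A} {σ : L ≃ₐ[k] L} : σ ∈ stab e' ↔ ρ k L A σ e' = e' := Iff.rfl

/-- the translate of `(a ⊗ 1) e'` -/
noncomputable def g (e' : L ⊗[k] A) (a : L) (σ : L ≃ₐ[k] L) : L ⊗[k] A :=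
  ρ k L A σ ((a ⊗ₜ[k] (1 : A)) * e')

theorem g_eq (e' : L ⊗[k] A) (a : L) (σ : L ≃ₐ[k] L) :
    g e' a σ = ((σ a) ⊗ₜ[k] (1 : A)) * ρ k L A σ e' := by
  unfold g
  rw [map_mul, ρ_tmul]

theorem ρ_g (e' : L ⊗[k] A) (a : L) (τ σ : L ≃ₐ[k] L) :
    ρ k L A τ (g e' a σ) = g e' a (τ * σ) := by
  unfold g
  rw [← ρ_mul]

theorem g_mul_right (e' : L ⊗[k] A) (a : L) (ha : ∀ h ∈ stab e', h a = a) (σ h : L ≃ₐ[k] L)
    (hh : h ∈ stab e') : g e' a (σ * h) = g e' a σ := by
  unfold g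
  rw [ρ_mul, map_mul (ρ k L A h), ρ_tmul, ha h hh, mem_stab.mp hh]

theorem g_out (e' : L ⊗[k] A) (a : L) (ha : ∀ h ∈ stab e', h a = a) (σ : L ≃ₐ[k] L) :
    g e' a ((σ : (L ≃ₐ[k] L) ⧸ stab e').out) = g e' a σ := by
  obtain ⟨h, hh⟩ := QuotientGroup.mk_out_eq_mul (stab e') σ
  rw [hh, g_mul_right e' a ha σ h h.2]

theorem g_mul_same (e' : L ⊗[k] A) (he' : IsIdempotentElem e') (a b : L) (σ : L ≃ₐ[k] L) :
    g e' a σ * g e' b σ = g e' (a * b) σ := by
  unfold g
  rw [← map_mul]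
  congr 1
  calc (a ⊗ₜ[k] (1 : A)) * e' * ((b ⊗ₜ[k] (1 : A)) * e')
      = ((a ⊗ₜ[k] (1 : A)) * (b ⊗ₜ[k] (1 : A))) * (e' * e') := by ring
    _ = ((a * b) ⊗ₜ[k] (1 : A)) * e' := by
      rw [he'.eq, Algebra.TensorProduct.tmul_mul_tmul, mul_one]

theorem g_mul_ne (e' : L ⊗[k] A)
    (hat : ∀ τ, ρ k L A τ e' = e' ∨ ρ k L A τ e' * e' = 0) (a b : L) (σ σ' : L ≃ₐ[k] L)
    (h : σ⁻¹ * σ' ∉ stab e') : g e' a σ * g e' b σ' = 0 := by
  have h0 : ρ k L A σ e' * ρ k L A σ' e' = 0 := by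
    have e1 : ρ k L A σ' e' = ρ k L A σ (ρ k L A (σ⁻¹ * σ') e') := by
      rw [← ρ_mul, mul_inv_cancel_left]
    rw [e1, ← map_mul]
    rcases hat (σ⁻¹ * σ') with h1 | h1
    · exact absurd (mem_stab.mpr h1) h
    · rw [mul_comm, h1, map_zero]
  rw [g_eq, g_eq]
  calc (σ a ⊗ₜ[k] (1 : A)) * ρ k L A σ e' * ((σ' b ⊗ₜ[k] (1 : A)) * ρ k L A σ' e')
      = (σ a ⊗ₜ[k] (1 : A)) * (σ' b ⊗ₜ[k] (1 : A)) * (ρ k L A σ e' * ρ k L A σ' e') := by ring
    _ = 0 := by rw [h0, mul_zero]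

open Classical in
/-- the sum over cosets -/
noncomputable def Φ (e' : L ⊗[k] A) (a : L) : L ⊗[k] A :=
  ∑ q : (L ≃ₐ[k] L) ⧸ stab e', g e' a q.out

open Classical in
theorem ρ_Φ (e' : L ⊗[k] A) (a : L) (ha : ∀ h ∈ stab e', h a = a) (τ : L ≃ₐ[k] L) :
    ρ k L A τ (Φ e' a) = Φ e' a := by
  unfold Φ
  rw [map_sum]
  rw [← Equiv.sum_comp (MulAction.toPerm τ : Equiv.Perm ((L ≃ₐ[k] L) ⧸ stab e'))
    (fun q => g e' a q.out)]
  refine Finset.sum_congr rfl (fun q _ => ?_)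
  rw [ρ_g]
  have hq : (MulAction.toPerm τ : Equiv.Perm ((L ≃ₐ[k] L) ⧸ stab e')) q
      = ((τ * q.out : L ≃ₐ[k] L) : (L ≃ₐ[k] L) ⧸ stab e') := by
    conv_lhs => rw [← QuotientGroup.out_eq' q]
    rfl
  rw [hq, g_out e' a ha]

open Classical in
theorem Φ_mul (e' : L ⊗[k] A) (he' : IsIdempotentElem e')
    (hat : ∀ τ, ρ k L A τ e' = e' ∨ ρ k L A τ e' * e' = 0) (a b : L) :
    Φ e' a * Φ e' b = Φ e' (a * b) := by
  unfold Φ
  rw [Finset.sum_mul_sum]
  refine Finset.sum_congr rfl (fun q _ => ?_)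
  rw [Finset.sum_eq_single q]
  · exact g_mul_same e' he' a b q.out
  · intro q' _ hne
    apply g_mul_ne e' hat
    intro hmem
    apply hne
    have := QuotientGroup.eq.mpr hmem
    rw [QuotientGroup.out_eq', QuotientGroup.out_eq'] at this
    exact this.symm
  · intro h
    exact absurd (Finset.mem_univ q) h

open Classical in
theorem Φ_add (e' : L ⊗[k] A) (a b : L) : Φ e' (a + b) = Φ e' a + Φ e' b := by
  unfold Φ
  rw [← Finset.sum_add_distrib]
  refine Finset.sum_congr rfl (fun q _ => ?_)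
  unfold g
  rw [TensorProduct.add_tmul, add_mul, map_add]

open Classical in
theorem Φ_zero (e' : L ⊗[k] A) : Φ e' 0 = 0 := by
  unfold Φ
  refine Finset.sum_eq_zero (fun q _ => ?_)
  unfold g
  rw [TensorProduct.zero_tmul, zero_mul, map_zero]

open Classical in
theorem Φ_mul_e (e' : L ⊗[k] A) (he' : IsIdempotentElem e')
    (hat : ∀ τ, ρ k L A τ e' = e' ∨ ρ k L A τ e' * e' = 0) :
    Φ e' 1 * e' = e' := by
  have h1 : ∀ h ∈ stab e', h (1 : L) = 1 := fun h _ => map_one h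
  have he : g e' 1 (((1 : L ≃ₐ[k] L) : (L ≃ₐ[k] L) ⧸ stab e').out) = e' := by
    rw [g_out e' 1 h1]
    unfold g
    rw [ρ_one, ← Algebra.TensorProduct.one_def, one_mul]
  unfold Φ
  rw [Finset.sum_mul]
  rw [Finset.sum_eq_single (((1 : L ≃ₐ[k] L) : (L ≃ₐ[k] L) ⧸ stab e'))]
  · rw [he, he'.eq]
  · intro q _ hne
    have hz : g e' 1 q.out *
        g e' 1 (((1 : L ≃ₐ[k] L) : (L ≃ₐ[k] L) ⧸ stab e').out) = 0 := by
      apply g_mul_ne e' hat
      intro hmem
      apply hne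
      have := QuotientGroup.eq.mpr hmem
      rw [QuotientGroup.out_eq', QuotientGroup.out_eq'] at this
      exact this
    rw [he] at hz
    exact hz
  · intro h
    exact absurd (Finset.mem_univ _) h

open Classical in
theorem Φ_algebraMap (e' : L ⊗[k] A) (c : k) :
    Φ e' (algebraMap k L c) = algebraMap k (L ⊗[k] A) c * Φ e' 1 := by
  unfold Φ
  rw [Finset.mul_sum]
  refine Finset.sum_congr rfl (fun q _ => ?_)
  unfold g
  rw [← ρ_algebraMap k L A q.out c, ← map_mul]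
  congr 1
  rw [Algebra.TensorProduct.algebraMap_apply, ← mul_assoc, Algebra.TensorProduct.tmul_mul_tmul,
    mul_one, mul_one]

variable (k L A)

theorem main (hA : ∀ a : A, IsIdempotentElem a → a = 0 ∨ a = 1)
    (e : L ⊗[k] A) (he : IsIdempotentElem e) (he0 : e ≠ 0) (he1 : e ≠ 1) :
    ∃ (F : IntermediateField k L) (_ : F ≠ ⊥) (φ : F →+* A),
      ∀ c : k, φ (algebraMap k F c) = algebraMap k A c := by
  classical
  obtain ⟨e', he', he'0, he'e, hat⟩ :=
    exists_atom (ρ k L A) (ρ_one k L A) (ρ_mul k L A) he he0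
  have hπ := tmul_one_injective k L A
  -- idempotents in the image of `A` are trivial
  have htriv : ∀ b : L ⊗[k] A, IsIdempotentElem b → (∀ σ, ρ k L A σ b = b) → b = 0 ∨ b = 1 := by
    intro b hb hinv
    obtain ⟨x, hx⟩ := exists_of_invariant k L A b hinv
    have hxi : IsIdempotentElem x := by
      apply hπ
      show (1 : L) ⊗ₜ[k] (x * x) = (1 : L) ⊗ₜ[k] x
      have : ((1 : L) ⊗ₜ[k] x) * ((1 : L) ⊗ₜ[k] x) = (1 : L) ⊗ₜ[k] (x * x) := by
        rw [Algebra.TensorProduct.tmul_mul_tmul, mul_one]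
      rw [← this, hx, hb.eq]
    rcases hA x hxi with h | h
    · left
      rw [← hx, h, TensorProduct.tmul_zero]
    · right
      rw [← hx, h, Algebra.TensorProduct.one_def]
  have hH : stab e' ≠ ⊤ := by
    intro htop
    have hinv : ∀ σ, ρ k L A σ e' = e' := fun σ => mem_stab.mp (htop ▸ Subgroup.mem_top σ)
    rcases htriv e' he' hinv with h | h
    · exact he'0 h
    · rw [h, one_mul] at he'e
      exact he1 he'e
  have hF : IntermediateField.fixedField (stab e') ≠ ⊥ := by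
    intro hbot
    apply hH
    rw [← IntermediateField.fixingSubgroup_fixedField (stab e'), hbot,
      IntermediateField.fixingSubgroup_bot]
  have hfix : ∀ a : IntermediateField.fixedField (stab e'), ∀ h ∈ stab e', h (a : L) = a :=
    fun a => (IntermediateField.mem_fixedField_iff _ _).mp a.2
  have hΦ1 : Φ e' (1 : L) = 1 := by
    have hinv : ∀ σ, ρ k L A σ (Φ e' 1) = Φ e' 1 :=
      fun σ => ρ_Φ e' 1 (fun h _ => map_one h) σ
    have hidem : IsIdempotentElem (Φ e' (1 : L)) := by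
      unfold IsIdempotentElem
      rw [Φ_mul e' he' hat, mul_one]
    rcases htriv _ hidem hinv with h | h
    · exfalso
      have := Φ_mul_e e' he' hat
      rw [h, zero_mul] at this
      exact he'0 this.symm
    · exact h
  have hex : ∀ a : IntermediateField.fixedField (stab e'),
      ∃ x : A, (1 : L) ⊗ₜ[k] x = Φ e' (a : L) :=
    fun a => exists_of_invariant k L A _ (fun σ => ρ_Φ e' a (hfix a) σ)
  choose φ₀ hφ₀ using hex
  refine ⟨IntermediateField.fixedField (stab e'), hF,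
    { toFun := φ₀
      map_one' := ?_
      map_mul' := ?_
      map_zero' := ?_
      map_add' := ?_ }, ?_⟩
  · apply hπ
    show (1 : L) ⊗ₜ[k] φ₀ 1 = (1 : L) ⊗ₜ[k] (1 : A)
    rw [hφ₀, ← Algebra.TensorProduct.one_def]
    exact hΦ1
  · intro a b
    apply hπ
    show (1 : L) ⊗ₜ[k] φ₀ (a * b) = (1 : L) ⊗ₜ[k] (φ₀ a * φ₀ b)
    have : ((1 : L) ⊗ₜ[k] φ₀ a) * ((1 : L) ⊗ₜ[k] φ₀ b) = (1 : L) ⊗ₜ[k] (φ₀ a * φ₀ b) := by
      rw [Algebra.TensorProduct.tmul_mul_tmul, mul_one]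
    rw [← this, hφ₀, hφ₀, hφ₀, Φ_mul e' he' hat]
    rfl
  · apply hπ
    show (1 : L) ⊗ₜ[k] φ₀ 0 = (1 : L) ⊗ₜ[k] (0 : A)
    rw [hφ₀, TensorProduct.tmul_zero]
    exact Φ_zero e'
  · intro a b
    apply hπ
    show (1 : L) ⊗ₜ[k] φ₀ (a + b) = (1 : L) ⊗ₜ[k] (φ₀ a + φ₀ b)
    rw [TensorProduct.tmul_add, hφ₀, hφ₀, hφ₀, ← Φ_add]
    rfl
  · intro c
    apply hπ
    show (1 : L) ⊗ₜ[k] φ₀ (algebraMap k _ c) = (1 : L) ⊗ₜ[k] (algebraMap k A c)
    rw [hφ₀]
    have : ((algebraMap k (IntermediateField.fixedField (stab e')) c :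
        IntermediateField.fixedField (stab e')) : L) = algebraMap k L c := rfl
    rw [this, Φ_algebraMap, hΦ1, mul_one, Algebra.TensorProduct.algebraMap_apply,
      Algebra.algebraMap_eq_smul_one, Algebra.algebraMap_eq_smul_one, TensorProduct.smul_tmul]

end Tensor

end Groth.Agent.H1.GalIdem
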