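import Mathlib
import Groth.Prelude.Def_W4c4chowquasisplitNorm

set_option autoImplicit false

universe u

open AlgebraicGeometry CategoryTheory Limits

namespace Groth.Agent.H1.SecCyc

section General

variable {X Y : Scheme.{u}} (π : Y ⟶ X) (s : X ⟶ Y)

theorem pi_s (hs : s ≫ π = 𝟙 X) (y : X) : π.base (s.base y) = y := by
  have := congrArg (fun f : X ⟶ X => f.base y) hs
  simpa using this

/-- residue degree of `π` at a point in the image of a section is one -/
theorem residueDegree_section (hs : s ≫ π = 𝟙 X) (y : X) :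
    π.residueDegree (s.base y) = 1 := by
  have h1 : (s ≫ π).residueFieldMap y = π.residueFieldMap (s.base y) ≫ s.residueFieldMap y :=
    Scheme.residueFieldMap_comp s π y
  have h2 := Scheme.Hom.residueFieldMap_congr hs y
  have hbij : Function.Bijective
      (π.residueFieldMap (s.base y) ≫ s.residueFieldMap y).hom := by
    haveI : IsIso ((s ≫ π).residueFieldMap y) := by
      rw [h2]
      infer_instance
    have hb : Function.Bijective ((s ≫ π).residueFieldMap y).hom :=
      ConcreteCategory.bijective_of_isIso ((s ≫ π).residueFieldMap y)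
    rw [h1] at hb
    exact hb
  have hsurj : Function.Surjective (π.residueFieldMap (s.base y)).hom := by
    intro b
    obtain ⟨a, ha⟩ := hbij.2 ((s.residueFieldMap y).hom b)
    refine ⟨a, (s.residueFieldMap y).hom.injective ?_⟩
    simpa using ha
  unfold Scheme.Hom.residueDegree
  letI := (π.residueFieldMap (s.base y)).hom.toAlgebra
  have hb : Function.Bijective (Algebra.linearMap (X.residueField (π.base (s.base y)))
      (Y.residueField (s.base y))) :=
    ⟨(π.residueFieldMap (s.base y)).hom.injective, hsurj⟩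
  exact (LinearEquiv.ofBijective _ hb).finrank_eq.symm.trans (Module.finrank_self _)

/-- coefficient function of the push-forward of a cycle along a section, by hand -/
noncomputable def secFun (β : X → ℤ) : Y → ℤ := fun x => by
  classical exact if x ∈ Set.range s.base then β (π.base x) else 0

theorem secFun_sec (hs : s ≫ π = 𝟙 X) (β : X → ℤ) (y : X) :
    secFun π s β (s.base y) = β y := by
  unfold secFun
  rw [if_pos ⟨y, rfl⟩, pi_s π s hs]

theorem secFun_not (β : X → ℤ) (x : Y) (h : x ∉ Set.range s.base) :
    secFun π s β x = 0 := by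
  unfold secFun
  rw [if_neg h]

/-- the push-forward of a cycle along a section, by hand -/
noncomputable def secCycle (hs : s ≫ π = 𝟙 X) (β : AlgebraicCycle X ℤ) : AlgebraicCycle Y ℤ where
  toFun := secFun π s β
  supportWithinDomain' := Set.subset_univ _
  supportLocallyFiniteWithinDomain' := by
    intro z _
    obtain ⟨t, ht, hfin⟩ := β.supportLocallyFiniteWithinDomain (π.base z) (Set.mem_univ _)
    refine ⟨π.base ⁻¹' t, (π.continuous.continuousAt).preimage_mem_nhds ht,
      (hfin.image s.base).subset ?_⟩
    rintro x ⟨hxt, hx⟩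
    rw [Function.mem_support] at hx
    by_cases hr : x ∈ Set.range s.base
    · obtain ⟨y, rfl⟩ := hr
      rw [secFun_sec π s hs] at hx
      have h2 : π.base (s.base y) ∈ t := hxt
      rw [pi_s π s hs] at h2
      exact ⟨y, ⟨h2, Function.mem_support.mpr hx⟩, rfl⟩
    · exact absurd (secFun_not π s β x hr) hx

theorem secCycle_apply (hs : s ≫ π = 𝟙 X) (β : AlgebraicCycle X ℤ) (x : Y) :
    (secCycle π s hs β) x = secFun π s β x := rfl

theorem map_secCycle [QuasiCompact π] (hs : s ≫ π = 𝟙 X) (δ : X → ℤ) (β : AlgebraicCycle X ℤ) :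
    AlgebraicCycle.map π (δ ∘ ⇑π.base) δ (secCycle π s hs β) = β := by
  apply Function.locallyFinsuppWithin.ext
  intro y
  unfold AlgebraicCycle.map
  rw [Function.locallyFinsupp.map_apply]
  refine (finsum_mem_inter_support_eq' _ _ {s.base y} ?_).trans ?_
  · intro x hx
    have hx2 := Function.mem_support.mp hx
    have hx' : secFun π s β x ≠ 0 := by
      intro h0
      apply hx2
      have : ∀ a b : ℤ, a = 0 → a * b = 0 := fun a b h => by rw [h, zero_mul]
      exact this _ _ h0
    have hr : x ∈ Set.range s.base := by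
      by_contra hr
      exact hx' (secFun_not π s β x hr)
    obtain ⟨y', rfl⟩ := hr
    simp only [Set.mem_preimage, Set.mem_singleton_iff]
    constructor
    · intro h
      have h' : π.base (s.base y') = y := h
      rw [pi_s π s hs] at h'
      rw [h']
    · intro h
      show π.base (s.base y') = y
      rw [h, pi_s π s hs]
  · rw [finsum_mem_singleton, secCycle_apply, secFun_sec π s hs]
    simp only [AlgebraicCycle.mapCoeff]
    have hc : (δ ∘ ⇑π.base) (s.base y) = δ (π.base (s.base y)) := rfl
    rw [if_pos hc, residueDegree_section π s hs y]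
    simp

theorem secCycle_mem_Zk (hs : s ≫ π = 𝟙 X) (δ : X → ℤ) (j : ℤ) (β : AlgebraicCycle X ℤ)
    (hβ : β ∈ Cyc.Zk X δ j) :
    secCycle π s hs β ∈ Cyc.Zk Y (δ ∘ ⇑π.base) j := by
  intro x hx
  rw [secCycle_apply]
  by_cases hr : x ∈ Set.range s.base
  · obtain ⟨y, rfl⟩ := hr
    rw [secFun_sec π s hs]
    apply hβ
    intro h
    apply hx
    show δ (π.base (s.base y)) = j
    rw [pi_s π s hs]
    exact h
  · exact secFun_not π s β x hr

end General

theorem s17745
    (k : Type u) [Field k] (K : Type u) [Field K] [Algebra k K]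
    (F : IntermediateField k K) [FiniteDimensional k F] (hF : F ≠ ⊥)
    (X : Scheme.{u}) [X.Over (Spec (CommRingCat.of k))] (g : X ⟶ Spec (CommRingCat.of F))
    (hg : g ≫ Spec.map (CommRingCat.ofHom (algebraMap k F)) = X ↘ Spec (CommRingCat.of k))
    (δ : X → ℤ) (j : ℤ) :
    QsChow.normSubgroup k K X δ j = ⊤ := by
  rw [eq_top_iff]
  rintro c -
  obtain ⟨⟨β, hβ⟩, rfl⟩ := QuotientAddGroup.mk'_surjective (ChowOps.ratTriv X δ j) c
  apply AddSubgroup.subset_closure
  obtain ⟨s, hs⟩ : ∃ s : X ⟶ Curv2.bc k X F, s ≫ Curv2.bcFst k X F = 𝟙 X :=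
    ⟨pullback.lift (𝟙 X) g (by rw [Category.id_comp, hg]), pullback.lift_fst _ _ _⟩
  have e := map_secCycle (Curv2.bcFst k X F) s hs δ β
  refine ⟨F, inferInstance, hF, secCycle (Curv2.bcFst k X F) s hs β,
    secCycle_mem_Zk (Curv2.bcFst k X F) s hs δ j β hβ, (by rw [e]; exact hβ), ?_⟩
  unfold ChowOps.cl ChowOps.clHom
  congr 1
  exact Subtype.ext e.symm

end Groth.Agent.H1.SecCyc
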