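import Mathlib
import Groth.Prelude.Def_CurvBase
import Groth.Agent.Lib.Helper1.GalIdem
import Groth.Agent.Lib.Helper1.BCStalkNormal
import Groth.Agent.Lib.Helper1.GrpMaxRedB
import Groth.Agent.Lib.Helper3.AntiAff.Conn
import Groth.Agent.Lib.Helper5.Descent.FlatBaseChangeGamma
import Groth.Agent.Lib.Helper5.HensCouple.H
import Groth.Agent.Lib.Helper5.AG.NormalComponents
import Groth.Agent.Lib.Helper8.Japanese.SepGR
import Groth.Agent.Lib.Helper1.SecCyc

set_option autoImplicit false

universe u

open AlgebraicGeometry CategoryTheory Limits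
open scoped TensorProduct

namespace Groth.Agent.H1.GalConn

/-- on a connected scheme every idempotent global function is trivial -/
theorem idem_trivial_of_connected (X : Scheme.{u}) [ConnectedSpace X] (e : Γ(X, ⊤))
    (he : IsIdempotentElem e) : e = 0 ∨ e = 1 := by
  have hcl := Groth.Agent.H5.HensCouple.isClopen_basicOpen_idem he
  rcases isClopen_iff.mp hcl with h | h
  · left
    apply Groth.Agent.H5.HensCouple.idem_eq_of_basicOpen_eq he IsIdempotentElem.zero
    apply TopologicalSpace.Opens.ext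
    rw [h, Scheme.basicOpen_zero]
    rfl
  · right
    apply Groth.Agent.H5.HensCouple.idem_eq_of_basicOpen_eq he IsIdempotentElem.one
    apply TopologicalSpace.Opens.ext
    rw [h, X.basicOpen_of_isUnit isUnit_one]
    rfl

instance surjective_specMap_field (k L : Type u) [Field k] [Field L] [Algebra k L] :
    Surjective (Spec.map (CommRingCat.ofHom (algebraMap k L))) :=
  ⟨fun _ => ⟨default, Subsingleton.elim _ _⟩⟩

instance flat_specMap_field (k L : Type u) [Field k] [Field L] [Algebra k L] :
    Flat (Spec.map (CommRingCat.ofHom (algebraMap k L))) := by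
  rw [Flat.SpecMap_iff, CommRingCat.hom_ofHom, RingHom.flat_algebraMap_iff]
  infer_instance

theorem exists_hom_to_intermediate
    (k : Type u) [Field k] (X : Scheme.{u}) [X.Over (Spec (CommRingCat.of k))]
    [CompactSpace X] [QuasiSeparatedSpace X] [ConnectedSpace X]
    (L : Type u) [Field L] [Algebra k L] [FiniteDimensional k L] [IsGalois k L]
    (hdisc : ¬ ConnectedSpace ↥(Curv2.bc k X L)) :
    ∃ F : IntermediateField k L, F ≠ ⊥ ∧
      ∃ g : X ⟶ Spec (CommRingCat.of F),
        g ≫ Spec.map (CommRingCat.ofHom (algebraMap k F)) = X ↘ Spec (CommRingCat.of k) := by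
  obtain ⟨φk, hφk⟩ : ∃ φk : CommRingCat.of k ⟶ Γ(X, ⊤),
      φk = (Scheme.ΓSpecIso (CommRingCat.of k)).inv ≫ (X ↘ Spec (CommRingCat.of k)).appTop :=
    ⟨_, rfl⟩
  letI algA : Algebra k Γ(X, ⊤) := φk.hom.toAlgebra
  -- flat base change
  have H : IsPullback (Curv2.bcFst k X L) (Curv2.bcSnd k X L) (X ↘ Spec (CommRingCat.of k))
      (Spec.map (CommRingCat.ofHom (algebraMap k L))) := IsPullback.of_hasPullback _ _
  have P1 := Groth.Agent.H5.Descent.isPushout_appTop H
  have P1' : IsPushout φk (CommRingCat.ofHom (algebraMap k L)) (Curv2.bcFst k X L).appTop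
      ((Scheme.ΓSpecIso (CommRingCat.of L)).inv ≫ (Curv2.bcSnd k X L).appTop) := by
    refine P1.of_iso (Scheme.ΓSpecIso (CommRingCat.of k)) (Iso.refl _)
      (Scheme.ΓSpecIso (CommRingCat.of L)) (Iso.refl _) ?_ ?_ ?_ ?_
    · rw [hφk]; simp
    · exact Scheme.ΓSpecIso_naturality _
    · simp
    · simp
  have P2 : IsPushout (CommRingCat.ofHom (algebraMap k L)) φk _ _ :=
    CommRingCat.isPushout_tensorProduct k L Γ(X, ⊤)
  let i := P2.isoIsPushout _ _ P1'.flip
  let ψ : L ⊗[k] Γ(X, ⊤) ≃+* Γ(Curv2.bc k X L, ⊤) := i.commRingCatIsoToRingEquiv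
  -- a nontrivial idempotent upstairs
  haveI : Nonempty ↥(Curv2.bc k X L) := by
    obtain ⟨x⟩ : Nonempty X := inferInstance
    obtain ⟨y, -⟩ := (Curv2.bcFst k X L).surjective x
    exact ⟨y⟩
  obtain ⟨e, he, he0, he1⟩ : ∃ e : Γ(Curv2.bc k X L, ⊤), IsIdempotentElem e ∧ e ≠ 0 ∧ e ≠ 1 := by
    by_contra hne
    apply hdisc
    apply Groth.Agent.H3.AntiAff.connectedSpace_of_idempotent
    intro e he
    by_contra h
    rw [not_or] at h
    exact hne ⟨e, he, h.1, h.2⟩
  have he' : IsIdempotentElem (ψ.symm e) := he.map ψ.symm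
  have he0' : ψ.symm e ≠ 0 := (map_ne_zero_iff ψ.symm ψ.symm.injective).mpr he0
  have he1' : ψ.symm e ≠ 1 := by
    intro h
    apply he1
    have := congrArg ψ h
    rwa [RingEquiv.apply_symm_apply, map_one] at this
  obtain ⟨F, hF, φ, hφ⟩ := Groth.Agent.H1.GalIdem.main k L Γ(X, ⊤)
    (idem_trivial_of_connected X) (ψ.symm e) he' he0' he1'
  refine ⟨F, hF, X.toSpecΓ ≫ Spec.map (CommRingCat.ofHom φ), ?_⟩
  have hcomp : CommRingCat.ofHom (algebraMap k F) ≫ CommRingCat.ofHom φ = φk := by
    ext c
    exact hφ c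
  rw [Category.assoc, ← Spec.map_comp, hcomp, hφk, Spec.map_comp,
    ← Scheme.toSpecΓ_naturality_assoc, toSpecΓ_SpecMap_ΓSpecIso_inv, Category.comp_id]

theorem s17738
    (k : Type u) [Field k] (X : Scheme.{u}) [X.Over (Spec (CommRingCat.of k))]
    [IrreducibleSpace X] (hX : Pi1.IsNormalScheme X)
    [IsSeparated (X ↘ Spec (CommRingCat.of k))] [LocallyOfFiniteType (X ↘ Spec (CommRingCat.of k))]
    [QuasiCompact (X ↘ Spec (CommRingCat.of k))]
    (L : Type u) [Field L] [Algebra k L] [FiniteDimensional k L] [IsGalois k L]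
    (hred : ¬ IrreducibleSpace ↥(Curv2.bc k X L)) :
    ∃ F : IntermediateField k L, F ≠ ⊥ ∧
      ∃ g : X ⟶ Spec (CommRingCat.of F),
        g ≫ Spec.map (CommRingCat.ofHom (algebraMap k F)) = X ↘ Spec (CommRingCat.of k) := by
  haveI : CompactSpace X :=
    QuasiCompact.compactSpace_of_compactSpace (X ↘ Spec (CommRingCat.of k))
  haveI : QuasiSeparatedSpace X :=
    quasiSeparatedSpace_of_quasiSeparated (X ↘ Spec (CommRingCat.of k))
  apply exists_hom_to_intermediate k X L
  intro hconn
  apply hred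
  haveI : Algebra.IsGeometricallyReduced k L :=
    Groth.Agent.H8.Jap.isGeometricallyReduced_of_isSeparable k L
  haveI := Groth.Agent.H1.GrpMaxRedB.geomRed_spec_of_field k L
  have hN : Pi1.IsNormalScheme (Curv2.bc k X L) := Groth.Agent.H1.BCStalk.s7602 k X hX L
  haveI : IsLocallyNoetherian (Curv2.bc k X L) :=
    LocallyOfFiniteType.isLocallyNoetherian (Curv2.bcSnd k X L)
  haveI : CompactSpace ↥(Curv2.bc k X L) :=
    QuasiCompact.compactSpace_of_compactSpace (Curv2.bcSnd k X L)
  haveI : IsNoetherian (Curv2.bc k X L) := {}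
  have hfin : ∀ U : (Curv2.bc k X L).Opens, IsCompact (U : Set ↥(Curv2.bc k X L)) →
      (irreducibleComponents ↥U).Finite :=
    fun U _ => by
      haveI : TopologicalSpace.NoetherianSpace ↥(Curv2.bc k X L) := inferInstance
      haveI : TopologicalSpace.NoetherianSpace ↥U :=
        TopologicalSpace.NoetherianSpace.set (U : Set ↥(Curv2.bc k X L))
      exact TopologicalSpace.NoetherianSpace.finite_irreducibleComponents
  obtain ⟨hopen, -⟩ := Groth.Agent.H5.AG.normal_components _ hfin hN
  obtain ⟨x⟩ : Nonempty ↥(Curv2.bc k X L) := inferInstance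
  have hZ := irreducibleComponent_mem_irreducibleComponents x
  have hclopen : IsClopen (irreducibleComponent x) :=
    ⟨isClosed_irreducibleComponent, hopen _ hZ⟩
  rcases isClopen_iff.mp hclopen with h | h
  · have hx : x ∈ irreducibleComponent x := mem_irreducibleComponent
    rw [h] at hx
    exact absurd hx (Set.notMem_empty x)
  · rw [irreducibleSpace_def]
    have := hZ.1
    rw [h] at this
    exact this

theorem s17746
    (k : Type u) [Field k] (K : Type u) [Field K] [Algebra k K]
    (L : IntermediateField k K) [FiniteDimensional k L] [IsGalois k L]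
    (X : Scheme.{u}) [X.Over (Spec (CommRingCat.of k))]
    [IsSeparated (X ↘ Spec (CommRingCat.of k))] [QuasiCompact (X ↘ Spec (CommRingCat.of k))]
    [ConnectedSpace X] (hdisc : ¬ ConnectedSpace ↥(Curv2.bc k X L))
    (δ : X → ℤ) (j : ℤ) :
    QsChow.normSubgroup k K X δ j = ⊤ := by
  haveI : CompactSpace X :=
    QuasiCompact.compactSpace_of_compactSpace (X ↘ Spec (CommRingCat.of k))
  haveI : QuasiSeparatedSpace X :=
    quasiSeparatedSpace_of_quasiSeparated (X ↘ Spec (CommRingCat.of k))
  obtain ⟨F₀, hF₀, g, hg⟩ := exists_hom_to_intermediate k X L hdisc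
  haveI : FiniteDimensional k (IntermediateField.lift F₀) :=
    (IntermediateField.liftAlgEquiv F₀).toLinearEquiv.finiteDimensional
  have hF : IntermediateField.lift F₀ ≠ ⊥ := by
    intro hbot
    apply hF₀
    rw [← IntermediateField.finrank_eq_one_iff] at hbot ⊢
    rw [← hbot]
    exact (IntermediateField.liftAlgEquiv F₀).toLinearEquiv.finrank_eq
  refine Groth.Agent.H1.SecCyc.s17745 k K (IntermediateField.lift F₀) hF X
    (g ≫ Spec.map (CommRingCat.ofHom
      ((IntermediateField.liftAlgEquiv F₀).symm : IntermediateField.lift F₀ →+* F₀))) ?_ δ j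
  rw [Category.assoc, ← Spec.map_comp]
  have : CommRingCat.ofHom (algebraMap k (IntermediateField.lift F₀)) ≫
      CommRingCat.ofHom
        ((IntermediateField.liftAlgEquiv F₀).symm : IntermediateField.lift F₀ →+* F₀) =
      CommRingCat.ofHom (algebraMap k F₀) := by
    apply CommRingCat.hom_ext
    apply RingHom.ext
    intro c
    exact (IntermediateField.liftAlgEquiv F₀).symm.commutes c
  rw [this, hg]

end Groth.Agent.H1.GalConn
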