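import Mathlib

/-! helper1: fpqc descent of an extension of a morphism from the generic fibre (S14189). -/

set_option autoImplicit false
universe u
open CategoryTheory CategoryTheory.Limits AlgebraicGeometry

namespace Groth.Agent.H1.GenExt

set_option backward.isDefEq.respectTransparency false in
/-- Two morphisms to a scheme separated over `Z`, agreeing over `Z` and after precomposition with
a scheme-theoretically dominant morphism, are equal. -/
lemma ext_of_schDominant {X Y Z W : Scheme.{u}} {f g : X ⟶ Y}
    (s : Y ⟶ Z) [IsSeparated s] (h : f ≫ s = g ≫ s)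
    (ι : W ⟶ X) [IsSchemeTheoreticallyDominant ι] (hU : ι ≫ f = ι ≫ g) : f = g := by
  let X' : Over Z := Over.mk (f ≫ s)
  let Y' : Over Z := Over.mk s
  let U' : Over Z := Over.mk (ι ≫ f ≫ s)
  let f' : X' ⟶ Y' := Over.homMk f
  let g' : X' ⟶ Y' := Over.homMk g
  let ι' : U' ⟶ X' := Over.homMk ι
  have : IsSeparated Y'.hom := ‹_›
  have hl : ι' ≫ f' = ι' ≫ g' := by ext1; exact hU
  have hfac : (equalizer.lift ι' hl).left ≫ (equalizer.ι f' g').left = ι := by
    rw [← Over.comp_left, equalizer.lift_ι]; rfl
  have hker : (equalizer.ι f' g').left.ker = ⊥ := by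
    rw [← le_bot_iff]
    calc (equalizer.ι f' g').left.ker
        = Scheme.IdealSheafData.map ⊥ (equalizer.ι f' g').left :=
          (Scheme.IdealSheafData.map_bot _).symm
      _ ≤ Scheme.IdealSheafData.map (equalizer.lift ι' hl).left.ker (equalizer.ι f' g').left :=
          Scheme.IdealSheafData.map_mono _ bot_le
      _ = ((equalizer.lift ι' hl).left ≫ (equalizer.ι f' g').left).ker :=
          (Scheme.Hom.ker_comp _ _).symm
      _ = ⊥ := by rw [hfac]; exact ι.ker_eq_bot
  have := IsClosedImmersion.isIso_iff_ker_eq_bot.mpr hker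
  rw [← cancel_epi (equalizer.ι f' g').left]
  exact congr($(equalizer.condition f' g').left)

/-- The generic point of an integral scheme is scheme-theoretically dense. -/
instance schDominant_fromSpecStalk_genericPoint (T : Scheme.{u}) [IsIntegral T] :
    IsSchemeTheoreticallyDominant (T.fromSpecStalk (genericPoint T)) := by
  haveI : IsDominant (T.fromSpecStalk (genericPoint T)) := by
    rw [isDominant_iff]
    have hd : Dense ({genericPoint T} : Set T) := by
      rw [dense_iff_closure_eq]
      exact (genericPoint_spec T).def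
    refine hd.mono ?_
    rw [Set.singleton_subset_iff]
    exact ⟨IsLocalRing.closedPoint _, Scheme.fromSpecStalk_closedPoint⟩
  exact IsSchemeTheoreticallyDominant.of_isDominant _

instance quasiCompact_fromSpecStalk_genericPoint (T : Scheme.{u}) [IsIntegral T] :
    QuasiCompact (T.fromSpecStalk (genericPoint T)) := by
  haveI : IsNoetherianRing ↑(T.presheaf.stalk (genericPoint T)) :=
    inferInstanceAs (IsNoetherianRing T.functionField)
  infer_instance

/-- The generic fibre of a scheme flat over an integral scheme is scheme-theoretically dense. -/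
lemma schDominant_genericFibre {T W : Scheme.{u}} [IsIntegral T] (w : W ⟶ T) [Flat w] :
    IsSchemeTheoreticallyDominant (pullback.fst w (T.fromSpecStalk (genericPoint T))) :=
  inferInstance

theorem main_aux {T Y Z T' E : Scheme.{u}} (pY : Y ⟶ T) (pZ : Z ⟶ T) [Flat pY] [IsSeparated pZ]
    (j : E ⟶ T)
    (hj : ∀ {W : Scheme.{u}} (w : W ⟶ T) [Flat w],
      IsSchemeTheoreticallyDominant (pullback.fst w j))
    (ψ : pullback pY j ⟶ Z)
    (g : T' ⟶ T) [Flat g] [Surjective g] [QuasiCompact g]
    (m : pullback pY g ⟶ Z) (hmZ : m ≫ pZ = pullback.fst pY g ≫ pY)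
    (hagree : pullback.fst (pullback.fst pY g) (pullback.fst pY j) ≫ m =
      pullback.snd (pullback.fst pY g) (pullback.fst pY j) ≫ ψ) :
    ∃ φ : Y ⟶ Z, φ ≫ pZ = pY ∧ pullback.fst pY j ≫ φ = ψ := by
  -- the key compatibility
  have key : pullback.fst (pullback.fst pY g) (pullback.fst pY g) ≫ m =
      pullback.snd (pullback.fst pY g) (pullback.fst pY g) ≫ m := by
    have hcond : pullback.fst (pullback.fst pY g) (pullback.fst pY g) ≫ pullback.fst pY g =
        pullback.snd (pullback.fst pY g) (pullback.fst pY g) ≫ pullback.fst pY g :=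
      pullback.condition
    have hover : (pullback.fst (pullback.fst pY g) (pullback.fst pY g) ≫ m) ≫ pZ =
        (pullback.snd (pullback.fst pY g) (pullback.fst pY g) ≫ m) ≫ pZ := by
      rw [Category.assoc, Category.assoc, hmZ, ← Category.assoc, ← Category.assoc, hcond]
    haveI : Flat (pullback.fst (pullback.fst pY g) (pullback.fst pY g) ≫ pullback.fst pY g ≫ pY) :=
      inferInstance
    haveI := hj (pullback.fst (pullback.fst pY g) (pullback.fst pY g) ≫ pullback.fst pY g ≫ pY)
    refine ext_of_schDominant pZ hover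
      (pullback.fst (pullback.fst (pullback.fst pY g) (pullback.fst pY g) ≫
        pullback.fst pY g ≫ pY) j) ?_
    generalize hw : pullback.fst (pullback.fst pY g) (pullback.fst pY g) ≫
      pullback.fst pY g ≫ pY = w
    generalize hp₁ : pullback.fst (pullback.fst pY g) (pullback.fst pY g) = p₁ at *
    generalize hp₂ : pullback.snd (pullback.fst pY g) (pullback.fst pY g) = p₂ at *
    -- the map to the generic fibre of Y
    have hr : (pullback.fst w j ≫ p₁ ≫ pullback.fst pY g) ≫ pY = pullback.snd w j ≫ j := by
      have := pullback.condition (f := w) (g := j)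
      rw [← hw] at this ⊢
      simpa only [Category.assoc] using this
    have hr1 : pullback.lift (pullback.fst w j ≫ p₁ ≫ pullback.fst pY g) (pullback.snd w j) hr ≫
        pullback.fst pY j = pullback.fst w j ≫ p₁ ≫ pullback.fst pY g := pullback.lift_fst _ _ _
    generalize pullback.lift (pullback.fst w j ≫ p₁ ≫ pullback.fst pY g) (pullback.snd w j) hr
      = r at hr1
    have hq₁ : (pullback.fst w j ≫ p₁) ≫ pullback.fst pY g = r ≫ pullback.fst pY j := by
      rw [hr1, Category.assoc]
    have hq₂ : (pullback.fst w j ≫ p₂) ≫ pullback.fst pY g = r ≫ pullback.fst pY j := by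
      rw [hr1, Category.assoc, ← hcond]
    have e₁ : pullback.fst w j ≫ p₁ ≫ m = r ≫ ψ := by
      have h1 : pullback.lift (pullback.fst w j ≫ p₁) r hq₁ ≫
          pullback.fst (pullback.fst pY g) (pullback.fst pY j) = pullback.fst w j ≫ p₁ :=
        pullback.lift_fst _ _ _
      have h2 : pullback.lift (pullback.fst w j ≫ p₁) r hq₁ ≫
          pullback.snd (pullback.fst pY g) (pullback.fst pY j) = r :=
        pullback.lift_snd _ _ _
      rw [← Category.assoc, ← h1, Category.assoc, hagree, ← Category.assoc, h2]
    have e₂ : pullback.fst w j ≫ p₂ ≫ m = r ≫ ψ := by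
      have h1 : pullback.lift (pullback.fst w j ≫ p₂) r hq₂ ≫
          pullback.fst (pullback.fst pY g) (pullback.fst pY j) = pullback.fst w j ≫ p₂ :=
        pullback.lift_fst _ _ _
      have h2 : pullback.lift (pullback.fst w j ≫ p₂) r hq₂ ≫
          pullback.snd (pullback.fst pY g) (pullback.fst pY j) = r :=
        pullback.lift_snd _ _ _
      rw [← Category.assoc, ← h1, Category.assoc, hagree, ← Category.assoc, h2]
    rw [e₁, e₂]
  have key' : ∀ {W : Scheme.{u}} (g₁ g₂ : W ⟶ pullback pY g),
      g₁ ≫ pullback.fst pY g = g₂ ≫ pullback.fst pY g → g₁ ≫ m = g₂ ≫ m := by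
    intro W g₁ g₂ h
    have h1 : pullback.lift g₁ g₂ h ≫ pullback.fst (pullback.fst pY g) (pullback.fst pY g) = g₁ :=
      pullback.lift_fst _ _ _
    have h2 : pullback.lift g₁ g₂ h ≫ pullback.snd (pullback.fst pY g) (pullback.fst pY g) = g₂ :=
      pullback.lift_snd _ _ _
    rw [← h1, Category.assoc, key, ← Category.assoc, h2]
  haveI : EffectiveEpi (pullback.fst pY g) := inferInstance
  refine ⟨EffectiveEpi.desc (pullback.fst pY g) m key', ?_, ?_⟩
  · rw [← cancel_epi (pullback.fst pY g), ← Category.assoc, EffectiveEpi.fac, hmZ]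
  · haveI : EffectiveEpi (pullback.snd (pullback.fst pY g) (pullback.fst pY j)) := inferInstance
    rw [← cancel_epi (pullback.snd (pullback.fst pY g) (pullback.fst pY j)), ← Category.assoc,
      ← pullback.condition, Category.assoc, EffectiveEpi.fac, ← hagree]

theorem main (T Y Z T' : Scheme.{u}) [IsIntegral T]
    (pY : Y ⟶ T) (pZ : Z ⟶ T) [Flat pY] [Flat pZ] [IsSeparated pZ]
    (ψ : pullback pY (T.fromSpecStalk (genericPoint T)) ⟶ Z)
    (hψ : ψ ≫ pZ = pullback.fst pY (T.fromSpecStalk (genericPoint T)) ≫ pY)
    (g : T' ⟶ T) [Flat g] [Surjective g] [QuasiCompact g]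
    (φ' : pullback pY g ⟶ pullback pZ g) (hφ' : φ' ≫ pullback.snd pZ g = pullback.snd pY g)
    (hagree : pullback.fst (pullback.fst pY g)
        (pullback.fst pY (T.fromSpecStalk (genericPoint T))) ≫ φ' ≫ pullback.fst pZ g =
      pullback.snd (pullback.fst pY g)
        (pullback.fst pY (T.fromSpecStalk (genericPoint T))) ≫ ψ) :
    ∃ φ : Y ⟶ Z, φ ≫ pZ = pY ∧
      pullback.fst pY (T.fromSpecStalk (genericPoint T)) ≫ φ = ψ := by
  refine main_aux pY pZ (T.fromSpecStalk (genericPoint T))
    (fun w _ => schDominant_genericFibre w) ψ g (φ' ≫ pullback.fst pZ g) ?_ hagree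
  rw [Category.assoc, pullback.condition, ← Category.assoc, hφ', pullback.condition]

end Groth.Agent.H1.GenExt
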