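import Mathlib
import Groth.Agent.Lib.Helper1.GenFibAlg1
import Groth.Agent.Lib.Helper1.GenericNN

/-!
# Spreading out geometric non-reducedness of the generic fibre (algebra)
-/

set_option autoImplicit false

universe u

namespace Groth.Agent.H1.GenFib

open TensorProduct

/-- a field extension induces an injection on base changes (over any base ring) -/
lemma tensor_map_injective_of_field {R A F K' : Type*} [CommRing R] [CommRing A] [Algebra R A]
    [Field F] [Field K'] [Algebra R F] [Algebra R K'] [Algebra F K'] [IsScalarTower R F K'] :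
    Function.Injective
      (Algebra.TensorProduct.map (IsScalarTower.toAlgHom R F K') (AlgHom.id R A)) := by
  obtain ⟨ρ, hρ⟩ := LinearMap.exists_leftInverse_of_injective
    (IsScalarTower.toAlgHom F F K').toLinearMap
    (LinearMap.ker_eq_bot.mpr (algebraMap F K').injective)
  have hcomp : (ρ.restrictScalars R) ∘ₗ (IsScalarTower.toAlgHom R F K').toLinearMap =
      LinearMap.id := by
    ext x
    exact congrArg (fun g : F →ₗ[F] F => g x) hρ
  have h2 : (LinearMap.rTensor A (ρ.restrictScalars R)) ∘ₗ
      (LinearMap.rTensor A (IsScalarTower.toAlgHom R F K').toLinearMap) = LinearMap.id := by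
    rw [← LinearMap.rTensor_comp, hcomp, LinearMap.rTensor_id]
  intro x y hxy
  have h3 : LinearMap.rTensor A (IsScalarTower.toAlgHom R F K').toLinearMap x =
      LinearMap.rTensor A (IsScalarTower.toAlgHom R F K').toLinearMap y := by
    have e : ∀ t, LinearMap.rTensor A (IsScalarTower.toAlgHom R F K').toLinearMap t =
        Algebra.TensorProduct.map (IsScalarTower.toAlgHom R F K') (AlgHom.id R A) t := by
      intro t
      induction t using TensorProduct.induction_on with
      | zero => simp
      | tmul a b => simp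
      | add a b ha hb => rw [map_add, map_add, ha, hb]
    rw [e, e]; exact hxy
  have := congrArg (LinearMap.rTensor A (ρ.restrictScalars R)) h3
  rw [← LinearMap.comp_apply, ← LinearMap.comp_apply, h2] at this
  exact this


/-- Geometric non-reducedness of the generic fibre spreads out (algebraic form): if some field
extension `K'` of the residue field `K` of the generic point makes `A` non-reduced, then over a
nonempty basic open every prime is the kernel of a field-valued point making `A` non-reduced. -/
theorem exists_forall_prime_exists_not_isReduced (R A K : Type u) [CommRing R] [CommRing A]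
    [Algebra R A] [Algebra.FiniteType R A] [Field K] [Algebra R K]
    (hker : ∀ r : R, algebraMap R K r = 0 → IsNilpotent r)
    (K' : Type u) [Field K'] [Algebra K K'] [Algebra R K'] [IsScalarTower R K K']
    (h : ¬ IsReduced (K' ⊗[R] A)) :
    ∃ g : R, algebraMap R K g ≠ 0 ∧ ∀ P : Ideal R, P.IsPrime → g ∉ P →
      ∃ (L : Type u) (_ : Field L) (_ : Algebra R L),
        RingHom.ker (algebraMap R L) = P ∧ ¬ IsReduced (L ⊗[R] A) := by
  classical
  rw [isReduced_iff] at h
  push Not at h
  obtain ⟨z, ⟨n, hn⟩, hz0⟩ := h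
  obtain ⟨S, rfl⟩ := TensorProduct.exists_finset z
  let s : Finset K' := S.image Prod.fst
  let R' : Subalgebra R K' := Algebra.adjoin R (s : Set K')
  haveI : Algebra.FiniteType R R' :=
    (Subalgebra.fg_iff_finiteType _).mp (Subalgebra.fg_adjoin_finset s)
  have hmem : ∀ i ∈ S, i.1 ∈ R' := fun i hi =>
    Algebra.subset_adjoin (Finset.mem_coe.mpr (Finset.mem_image_of_mem Prod.fst hi))
  let z₀ : R' ⊗[R] A := ∑ i ∈ S.attach, (⟨i.1.1, hmem i.1 i.2⟩ : R') ⊗ₜ[R] i.1.2
  let F' := FractionRing R'
  have hinjR' : Function.Injective (algebraMap R' K') := Subtype.val_injective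
  letI : Algebra F' K' := (IsFractionRing.lift hinjR').toAlgebra
  haveI : IsScalarTower R' F' K' := IsScalarTower.of_algebraMap_eq (fun x =>
    (IsFractionRing.lift_algebraMap hinjR' x).symm)
  haveI : IsScalarTower R F' K' := IsScalarTower.of_algebraMap_eq (fun r => by
    rw [IsScalarTower.algebraMap_apply R R' F', ← IsScalarTower.algebraMap_apply R' F' K',
      ← IsScalarTower.algebraMap_apply R R' K'])
  let w' : F' ⊗[R] A :=
    Algebra.TensorProduct.map (IsScalarTower.toAlgHom R R' F') (AlgHom.id R A) z₀
  let Φ := Algebra.TensorProduct.map (IsScalarTower.toAlgHom R F' K') (AlgHom.id R A)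
  have hΦinj : Function.Injective Φ := tensor_map_injective_of_field
  have hΦw : Φ w' = ∑ i ∈ S, i.1 ⊗ₜ[R] i.2 := by
    simp only [w', z₀, Φ, map_sum, Algebra.TensorProduct.map_tmul, AlgHom.coe_id, id_eq,
      IsScalarTower.coe_toAlgHom']
    rw [← Finset.sum_attach S (fun i => i.1 ⊗ₜ[R] i.2)]
    refine Finset.sum_congr rfl (fun i _ => ?_)
    congr 1
    rw [← IsScalarTower.algebraMap_apply R' F' K']
    rfl
  have hw0 : w' ≠ 0 := by
    intro h0
    apply hz0
    rw [← hΦw, h0, map_zero]
  have hwn : w' ^ n = 0 := by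
    apply hΦinj
    rw [map_pow, hΦw, hn, map_zero]
  have hnr : ¬ IsReduced (F' ⊗[R'] (R' ⊗[R] A)) := by
    intro hred
    have : IsReduced (F' ⊗[R] A) := isReduced_of_injective
      (Algebra.TensorProduct.cancelBaseChange R R' F' F' A).symm.toRingEquiv.toRingHom
      (Algebra.TensorProduct.cancelBaseChange R R' F' F' A).symm.injective
    exact hw0 (IsReduced.eq_zero _ ⟨n, hwn⟩)
  obtain ⟨g', hg', H'⟩ := exists_forall_not_isReduced_of_isDomain R' (R' ⊗[R] A) F' hnr
  -- the quotient by the generic prime
  set I := RingHom.ker (algebraMap R K) with hI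
  haveI : I.IsPrime := RingHom.ker_isPrime _
  have hIR' : ∀ r ∈ I, algebraMap R R' r = 0 := by
    intro r hr
    apply Subtype.ext
    change algebraMap R K' r = 0
    rw [IsScalarTower.algebraMap_apply R K K', (RingHom.mem_ker).mp hr, map_zero]
  letI : Algebra (R ⧸ I) R' := (Ideal.Quotient.lift I (algebraMap R R') hIR').toAlgebra
  haveI : IsScalarTower R (R ⧸ I) R' := IsScalarTower.of_algebraMap_eq (fun x => rfl)
  haveI : Algebra.FiniteType (R ⧸ I) R' := Algebra.FiniteType.of_restrictScalars_finiteType R _ _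
  have hinj : Function.Injective (algebraMap (R ⧸ I) R') := by
    rw [injective_iff_map_eq_zero]
    intro x hx
    obtain ⟨r, rfl⟩ := Ideal.Quotient.mk_surjective x
    have h1 : algebraMap R R' r = 0 := hx
    have h2 : algebraMap R K' r = 0 := congrArg Subtype.val h1
    rw [IsScalarTower.algebraMap_apply R K K'] at h2
    have h3 : algebraMap R K r = 0 := (map_eq_zero (algebraMap K K')).mp h2
    exact Ideal.Quotient.eq_zero_iff_mem.mpr ((RingHom.mem_ker).mpr h3)
  obtain ⟨u, hu0, hu⟩ := Groth.Agent.H1.GNN.exists_prime_over_not_mem (R := R ⧸ I) (S := R')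
    hinj g' hg'
  obtain ⟨g, rfl⟩ := Ideal.Quotient.mk_surjective u
  refine ⟨g, fun h0 => hu0 (Ideal.Quotient.eq_zero_iff_mem.mpr ((RingHom.mem_ker).mpr h0)), ?_⟩
  intro P hP hgP
  have hIP : I ≤ P := by
    intro r hr
    obtain ⟨k, hk⟩ := hker r ((RingHom.mem_ker).mp hr)
    exact hP.mem_of_pow_mem k (by rw [hk]; exact P.zero_mem)
  have hPbar : (P.map (Ideal.Quotient.mk I)).IsPrime :=
    Ideal.map_isPrime_of_surjective Ideal.Quotient.mk_surjective (by rwa [Ideal.mk_ker])
  have hgbar : Ideal.Quotient.mk I g ∉ P.map (Ideal.Quotient.mk I) := by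
    rw [Ideal.mem_quotient_iff_mem hIP]; exact hgP
  obtain ⟨Q, hQ, hQP, hgQ⟩ := hu _ hPbar hgbar
  have hQcomap : ∀ r : R, algebraMap R R' r ∈ Q ↔ r ∈ P := by
    intro r
    have : algebraMap R R' r = algebraMap (R ⧸ I) R' (Ideal.Quotient.mk I r) := rfl
    rw [this, ← Ideal.mem_comap, hQP, Ideal.mem_quotient_iff_mem hIP]
  let L := FractionRing (R' ⧸ Q)
  have hinjL : Function.Injective (algebraMap (R' ⧸ Q) L) := IsFractionRing.injective _ _
  refine ⟨L, inferInstance, inferInstance, ?_, ?_⟩
  · ext r
    rw [RingHom.mem_ker, IsScalarTower.algebraMap_apply R (R' ⧸ Q) L,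
      map_eq_zero_iff _ hinjL, IsScalarTower.algebraMap_apply R R' (R' ⧸ Q),
      Ideal.Quotient.algebraMap_eq, Ideal.Quotient.eq_zero_iff_mem, hQcomap]
  · intro hred
    refine H' L ?_ ?_
    · rw [IsScalarTower.algebraMap_apply R' (R' ⧸ Q) L, Ne, map_eq_zero_iff _ hinjL,
        Ideal.Quotient.algebraMap_eq, Ideal.Quotient.eq_zero_iff_mem]
      exact hgQ
    · exact isReduced_of_injective
        (Algebra.TensorProduct.cancelBaseChange R R' L L A).toRingEquiv.toRingHom
        (Algebra.TensorProduct.cancelBaseChange R R' L L A).injective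

end Groth.Agent.H1.GenFib
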