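import Mathlib
import Groth.Agent.Lib.Helper1.GenFibND
import Groth.Agent.Lib.Helper1.GenFibCover
import Groth.Agent.Lib.Helper1.GenFin

/-!
# Nowhere dense closed subsets of the generic fibre spread out: schemes (helper1)
-/

set_option autoImplicit false
universe u

namespace Groth.Agent.H1.GenFib

open AlgebraicGeometry CategoryTheory Limits TensorProduct TopologicalSpace Topology

/-- nowhere density of a closed set, seen through an open embedding. -/
theorem isNowhereDense_preimage_iff {S T : Type*} [TopologicalSpace S] [TopologicalSpace T]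
    {j : S → T} (hj : IsOpenEmbedding j) {C : Set T} (hC : IsClosed C) :
    IsNowhereDense (j ⁻¹' C) ↔ Disjoint (interior C) (Set.range j) := by
  rw [(hC.preimage hj.continuous).isNowhereDense_iff]
  constructor
  · intro h
    rw [Set.disjoint_left]
    rintro _ hx ⟨s, rfl⟩
    have : s ∈ interior (j ⁻¹' C) :=
      mem_interior.mpr ⟨j ⁻¹' interior C, Set.preimage_mono interior_subset,
        isOpen_interior.preimage hj.continuous, hx⟩
    rw [h] at this
    exact this
  · intro h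
    rw [Set.eq_empty_iff_forall_notMem]
    intro s hs
    have hopen : IsOpen (j '' interior (j ⁻¹' C)) := hj.isOpenMap _ isOpen_interior
    have hsub : j '' interior (j ⁻¹' C) ⊆ C := by
      rintro _ ⟨s', hs', rfl⟩
      exact (interior_subset hs' : s' ∈ j ⁻¹' C)
    have h1 : j s ∈ interior C := mem_interior.mpr ⟨_, hsub, hopen, ⟨s, hs, rfl⟩⟩
    exact Set.disjoint_left.mp h h1 ⟨s, rfl⟩

variable {X Y : Scheme.{u}}

/-- nowhere density on an affine piece of a fibre, in algebraic terms. -/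
theorem piece_isNowhereDense_iff (f : X ⟶ Y) {U : X.Opens} {W : Y.Opens}
    (hU : IsAffineOpen U) (hW : IsAffineOpen W) (e : U ≤ f ⁻¹ᵁ W) (y : Y) (hy : y ∈ W)
    (Z : Set X) (hZ : IsClosed Z) :
    letI := (f.appLE W U e).hom.toAlgebra
    letI := (Y.evaluation W y hy).hom.toAlgebra
    IsNowhereDense (PrimeSpectrum.zeroLocus
      (((PrimeSpectrum.vanishingIdeal (hU.fromSpec ⁻¹' Z)).map
        (Algebra.TensorProduct.includeRight :
          Γ(X, U) →ₐ[Γ(Y, W)] (Y.residueField y) ⊗[Γ(Y, W)] Γ(X, U)) :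
        Ideal ((Y.residueField y) ⊗[Γ(Y, W)] Γ(X, U))) :
          Set ((Y.residueField y) ⊗[Γ(Y, W)] Γ(X, U)))) ↔
      Disjoint (interior ((f.fiberι y) ⁻¹' Z)) ((f.fiberι y) ⁻¹' (U : Set X)) := by
  letI := (f.appLE W U e).hom.toAlgebra
  letI := (Y.evaluation W y hy).hom.toAlgebra
  have sq := (CommRingCat.isPushout_tensorProduct Γ(Y, W) (Y.residueField y) Γ(X, U)).flip
  obtain ⟨j, hjo, hj1, -, hjr⟩ := exists_fiberPiece f hU hW e y hy _ _ sq
  have hJ : PrimeSpectrum.zeroLocus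
      ((PrimeSpectrum.vanishingIdeal (hU.fromSpec ⁻¹' Z) : Ideal Γ(X, U)) : Set Γ(X, U)) =
      hU.fromSpec ⁻¹' Z := by
    rw [PrimeSpectrum.zeroLocus_vanishingIdeal_eq_closure]
    exact (hZ.preimage hU.fromSpec.continuous).closure_eq
  have hpre : j ⁻¹' ((f.fiberι y) ⁻¹' Z) = PrimeSpectrum.zeroLocus
      (((PrimeSpectrum.vanishingIdeal (hU.fromSpec ⁻¹' Z)).map
        (Algebra.TensorProduct.includeRight :
          Γ(X, U) →ₐ[Γ(Y, W)] (Y.residueField y) ⊗[Γ(Y, W)] Γ(X, U)) :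
        Ideal ((Y.residueField y) ⊗[Γ(Y, W)] Γ(X, U))) :
          Set ((Y.residueField y) ⊗[Γ(Y, W)] Γ(X, U))) := by
    have h1 : j ⁻¹' ((f.fiberι y) ⁻¹' Z) =
        (Spec.map (CommRingCat.ofHom (S := (Y.residueField y) ⊗[Γ(Y, W)] Γ(X, U))
          (Algebra.TensorProduct.includeRight :
            Γ(X, U) →ₐ[Γ(Y, W)] (Y.residueField y) ⊗[Γ(Y, W)] Γ(X, U)).toRingHom)) ⁻¹'
          (hU.fromSpec ⁻¹' Z) := by
      ext q
      simp only [Set.mem_preimage]
      rw [← Scheme.Hom.comp_apply, hj1, Scheme.Hom.comp_apply]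
    rw [h1, ← hJ]
    change PrimeSpectrum.comap _ ⁻¹' _ = _
    rw [PrimeSpectrum.preimage_comap_zeroLocus, Ideal.map, PrimeSpectrum.zeroLocus_span]
    rfl
  have key := isNowhereDense_preimage_iff j.isOpenEmbedding
    (hZ.preimage (f.fiberι y).continuous)
  rw [hjr] at key
  rw [← hpre]
  exact key

/-- nowhere density spreads out on an affine piece. -/
theorem exists_basicOpen_piece_nowhereDense (f : X ⟶ Y) [IrreducibleSpace Y]
    [LocallyOfFiniteType f] {U : X.Opens} {W : Y.Opens} (hU : IsAffineOpen U)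
    (hW : IsAffineOpen W) (e : U ≤ f ⁻¹ᵁ W) (hη : genericPoint Y ∈ W) (Z : Set X)
    (hZ : IsClosed Z) (hnd : IsNowhereDense ((f.fiberι (genericPoint Y)) ⁻¹' Z)) :
    ∃ g : Γ(Y, W), genericPoint Y ∈ Y.basicOpen g ∧ ∀ y ∈ Y.basicOpen g,
      Disjoint (interior ((f.fiberι y) ⁻¹' Z)) ((f.fiberι y) ⁻¹' (U : Set X)) := by
  letI algA := (f.appLE W U e).hom.toAlgebra
  letI algK := (Y.evaluation W (genericPoint Y) hη).hom.toAlgebra
  haveI : Algebra.FiniteType Γ(Y, W) Γ(X, U) := f.finiteType_appLE hW hU e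
  have h0 := (piece_isNowhereDense_iff f hU hW e (genericPoint Y) hη Z hZ).mpr (by
    rw [(hZ.preimage (f.fiberι (genericPoint Y)).continuous).isNowhereDense_iff] at hnd
    rw [hnd]
    exact Set.empty_disjoint _)
  obtain ⟨g, hg, H⟩ := exists_forall_isNowhereDense Γ(Y, W) Γ(X, U)
    (Y.residueField (genericPoint Y))
    (fun r hr => isNilpotent_of_evaluation_genericPoint hW hη r hr)
    (fun z => Groth.Agent.H1.GenFin.exists_frac_evaluation hW (genericPoint Y) hη z)
    (PrimeSpectrum.vanishingIdeal (hU.fromSpec ⁻¹' Z)) h0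
  refine ⟨g, (Scheme.evaluation_ne_zero_iff_mem_basicOpen Y _ hη g).mp hg, ?_⟩
  intro y hy
  have hyW : y ∈ W := Y.basicOpen_le g hy
  letI algy := (Y.evaluation W y hyW).hom.toAlgebra
  exact (piece_isNowhereDense_iff f hU hW e y hyW Z hZ).mp
    (H (Y.residueField y) ((Scheme.evaluation_ne_zero_iff_mem_basicOpen Y y hyW g).mpr hy))

/-- **Nowhere dense closed subsets of the generic fibre spread out.** -/
theorem exists_open_forall_isNowhereDense (f : X ⟶ Y) [IrreducibleSpace Y]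
    [LocallyOfFiniteType f] [QuasiCompact f] (Z : Set X) (hZ : IsClosed Z)
    (hnd : IsNowhereDense ((f.fiberι (genericPoint Y)) ⁻¹' Z)) :
    ∃ V : Y.Opens, genericPoint Y ∈ V ∧ ∀ y ∈ V, IsNowhereDense ((f.fiberι y) ⁻¹' Z) := by
  obtain ⟨W, hW, s, -, hs, V, hηV, hVW, hV⟩ := exists_cover_of_forall_affine f
    (fun U y => Disjoint (interior ((f.fiberι y) ⁻¹' Z)) ((f.fiberι y) ⁻¹' (U : Set X)))
    (fun {U W} hU hW e hη => exists_basicOpen_piece_nowhereDense f hU hW e hη Z hZ hnd)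
  refine ⟨V, hηV, ?_⟩
  intro y hy
  rw [(hZ.preimage (f.fiberι y).continuous).isNowhereDense_iff, Set.eq_empty_iff_forall_notMem]
  intro x hx
  have hxW : f (f.fiberι y x) ∈ W := by
    rw [fiberι_apply_mem]; exact hVW hy
  obtain ⟨i, hi, hxi⟩ := exists_mem_of_mem_preimage f hs _ hxW
  exact Set.disjoint_left.mp (hV y hy i hi) hx hxi

end Groth.Agent.H1.GenFib
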