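import Mathlib
import Groth.Agent.Lib.Helper1.GenFibDim1
import Groth.Agent.Lib.Helper1.GenFibClos
import Groth.Agent.Lib.Helper1.GenFibND1

/-!
# Counting components of fibres near the generic point (helper1)
-/

set_option autoImplicit false
universe u

namespace Groth.Agent.H1.GenFib

open AlgebraicGeometry CategoryTheory Limits TopologicalSpace Topology

section Topology

variable {T : Type*} [TopologicalSpace T]

lemma topologicalKrullDim_eq_bot_iff : topologicalKrullDim T = ⊥ ↔ IsEmpty T := by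
  unfold topologicalKrullDim
  rw [Order.krullDim_eq_bot_iff]
  constructor
  · intro h
    refine ⟨fun x => h.false ⟨closure {x}, isIrreducible_singleton.closure, isClosed_closure⟩⟩
  · intro h
    refine ⟨fun s => ?_⟩
    obtain ⟨x, -⟩ := s.isIrreducible.nonempty
    exact h.false x

/-- finitely many pairwise disjoint nonempty closed sets covering the space give that many
connected components. -/
theorem card_le_card_connectedComponents {ι : Type*} [Finite ι] (D : ι → Set T)
    (hD : ∀ c, IsClosed (D c)) (hne : ∀ c, (D c).Nonempty)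
    (hdisj : ∀ c c', c ≠ c' → Disjoint (D c) (D c')) (hcov : ⋃ c, D c = Set.univ) :
    ENat.card ι ≤ ENat.card (ConnectedComponents T) := by
  classical
  have hopen : ∀ c, IsOpen (D c) := by
    intro c
    have : D c = (⋃ c' ∈ {c' | c' ≠ c}, D c')ᶜ := by
      ext x
      simp only [Set.mem_compl_iff, Set.mem_iUnion, Set.mem_setOf_eq, not_exists]
      constructor
      · intro hx c' hc' hx'
        exact Set.disjoint_left.mp (hdisj c c' (Ne.symm hc')) hx hx'
      · intro hx
        have : x ∈ ⋃ c, D c := by rw [hcov]; trivial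
        obtain ⟨c', hc'⟩ := Set.mem_iUnion.mp this
        by_cases hcc : c' = c
        · rwa [hcc] at hc'
        · exact absurd hc' (hx c' hcc)
    rw [this, isOpen_compl_iff]
    exact Set.Finite.isClosed_biUnion (Set.toFinite _) (fun c' _ => hD c')
  choose x hx using hne
  apply ENat.card_le_card_of_injective (f := fun c => (ConnectedComponents.mk (x c)))
  intro c c' hcc
  by_contra hne
  have h1 : x c' ∈ connectedComponent (x c) := by
    have := ConnectedComponents.coe_eq_coe'.mp hcc.symm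
    exact this
  have h2 := (IsClopen.connectedComponent_subset ⟨hD c, hopen c⟩ (hx c)) h1
  exact Set.disjoint_left.mp (hdisj c c' hne) h2 (hx c')

/-- finitely many closed sets covering the space, none contained in the union of the others, give
that many irreducible components. -/
theorem card_le_encard_irreducibleComponents {ι : Type*} [Finite ι] (D : ι → Set T)
    (hD : ∀ c, IsClosed (D c)) (hcov : ⋃ c, D c = Set.univ)
    (hne : ∀ c, ∃ x ∈ D c, ∀ c', c' ≠ c → x ∉ D c') :
    ENat.card ι ≤ (irreducibleComponents T).encard := by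
  classical
  haveI := Fintype.ofFinite ι
  choose x hx hx' using hne
  have key : ∀ c, irreducibleComponent (x c) ⊆ D c := by
    intro c
    have hirr : IsIrreducible (irreducibleComponent (x c)) := isIrreducible_irreducibleComponent
    have h1 := (isIrreducible_iff_sUnion_isClosed.mp hirr) (Finset.univ.image D) (by
      intro z hz
      obtain ⟨c', -, rfl⟩ := Finset.mem_image.mp hz
      exact hD c') (by
      intro z _
      have : z ∈ ⋃ c, D c := by rw [hcov]; trivial
      obtain ⟨c', hc'⟩ := Set.mem_iUnion.mp this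
      exact Set.mem_sUnion.mpr ⟨D c', by simp, hc'⟩)
    obtain ⟨z, hz, hsub⟩ := h1
    obtain ⟨c', -, rfl⟩ := Finset.mem_image.mp hz
    by_cases hcc : c' = c
    · rwa [hcc] at hsub
    · exact absurd (hsub mem_irreducibleComponent) (hx' c c' hcc)
  have hinj : Function.Injective (fun c : ι =>
      (⟨irreducibleComponent (x c), irreducibleComponent_mem_irreducibleComponents _⟩ :
        irreducibleComponents T)) := by
    intro c c' hcc
    by_contra hne
    have h1 : irreducibleComponent (x c) = irreducibleComponent (x c') :=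
      congrArg Subtype.val hcc
    have h2 : x c' ∈ D c := key c (h1 ▸ mem_irreducibleComponent)
    exact hx' c' c (fun h => hne h) h2
  have := ENat.card_le_card_of_injective hinj
  rwa [ENat.card_coe_set_eq] at this

end Topology

variable {X Y : Scheme.{u}}

/-- the closure of a closed subset of a fibre meets the fibre in that subset. -/
theorem closure_image_inter_preimage (f : X ⟶ Y) (y : Y) (C : Set (f.fiber y))
    (hC : IsClosed C) :
    closure ((f.fiberι y) '' C) ∩ f ⁻¹' {y} = (f.fiberι y) '' C := by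
  apply Set.Subset.antisymm
  · rintro x ⟨hx, hxy⟩
    have hxr : x ∈ Set.range (f.fiberι y) := by rw [f.range_fiberι]; exact hxy
    obtain ⟨x', rfl⟩ := hxr
    refine ⟨x', ?_, rfl⟩
    have h1 := (f.fiberι y).isEmbedding.isInducing.closure_eq_preimage_closure_image C
    rw [hC.closure_eq] at h1
    rw [h1]
    exact hx
  · rintro _ ⟨x', hx', rfl⟩
    exact ⟨subset_closure ⟨x', hx', rfl⟩, fiberι_apply_mem f y x'⟩

/-- a finite intersection of open neighbourhoods. -/
theorem exists_open_le_of_finite {ι : Type*} [Finite ι] (y : Y) (V : ι → Y.Opens)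
    (h : ∀ i, y ∈ V i) : ∃ V' : Y.Opens, y ∈ V' ∧ ∀ i, V' ≤ V i := by
  refine ⟨⟨⋂ i, (V i : Set Y), isOpen_iInter_of_finite (fun i => (V i).isOpen)⟩, ?_, ?_⟩
  · exact Set.mem_iInter.mpr h
  · intro i z hz
    exact Set.mem_iInter.mp hz i

/-- the fibres of the reduced closed subscheme on a closed subset. -/
theorem nonempty_fiber_subscheme_iff (f : X ⟶ Y) (T : Closeds X) (y : Y) :
    Nonempty (((Scheme.IdealSheafData.vanishingIdeal T).subschemeι ≫ f).fiber y) ↔
      ((T : Set X) ∩ f ⁻¹' {y}).Nonempty := by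
  set I := Scheme.IdealSheafData.vanishingIdeal T with hI
  have hrange : Set.range I.subschemeι = (T : Set X) := by
    rw [I.range_subschemeι, hI]
    simp
  constructor
  · rintro ⟨t'⟩
    refine ⟨I.subschemeι ((I.subschemeι ≫ f).fiberι y t'), ?_, ?_⟩
    · rw [← hrange]; exact ⟨_, rfl⟩
    · have := fiberι_apply_mem (I.subschemeι ≫ f) y t'
      rwa [Scheme.Hom.comp_apply] at this
  · rintro ⟨x, hxT, hxy⟩
    rw [← hrange] at hxT
    obtain ⟨t, rfl⟩ := hxT
    have : t ∈ Set.range ((I.subschemeι ≫ f).fiberι y) := by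
      rw [Scheme.Hom.range_fiberι]
      change (I.subschemeι ≫ f) t = y
      rw [Scheme.Hom.comp_apply]
      exact hxy
    obtain ⟨t', -⟩ := this
    exact ⟨t'⟩

/-- **Nonemptiness of the fibres of a closed subset is constant near the generic point.** -/
theorem exists_open_forall_nonempty_iff (f : X ⟶ Y) [IrreducibleSpace Y] [LocallyOfFiniteType f]
    [QuasiCompact f] (T : Set X) (hT : IsClosed T) :
    ∃ V : Y.Opens, genericPoint Y ∈ V ∧ ∀ y ∈ V,
      ((T ∩ f ⁻¹' {y}).Nonempty ↔ (T ∩ f ⁻¹' {genericPoint Y}).Nonempty) := by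
  set I := Scheme.IdealSheafData.vanishingIdeal ⟨T, hT⟩ with hI
  obtain ⟨V, hη, hV⟩ := exists_open_forall_fiber_dim_eq (I.subschemeι ≫ f)
  refine ⟨V, hη, ?_⟩
  intro y hy
  have h1 := nonempty_fiber_subscheme_iff f ⟨T, hT⟩ y
  have h2 := nonempty_fiber_subscheme_iff f ⟨T, hT⟩ (genericPoint Y)
  rw [← hI] at h1 h2
  change _ ↔ (T ∩ f ⁻¹' {y}).Nonempty at h1
  change _ ↔ (T ∩ f ⁻¹' {genericPoint Y}).Nonempty at h2
  rw [← h1, ← h2, ← not_isEmpty_iff, ← not_isEmpty_iff, ← topologicalKrullDim_eq_bot_iff,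
    ← topologicalKrullDim_eq_bot_iff, hV y hy]

/-- a closed subset whose generic fibre is irreducible and not contained in `Z` has points
outside `Z` in all fibres near the generic point. -/
theorem exists_open_forall_exists_notMem (f : X ⟶ Y) [IrreducibleSpace Y]
    [LocallyOfFiniteType f] [QuasiCompact f] (T Z : Set X) (hT : IsClosed T) (hZ : IsClosed Z)
    (hirr : IsPreirreducible (T ∩ f ⁻¹' {genericPoint Y}))
    (hne : ¬ (T ∩ f ⁻¹' {genericPoint Y} ⊆ Z)) :
    ∃ V : Y.Opens, genericPoint Y ∈ V ∧ ∀ y ∈ V, ∃ x ∈ T, f x = y ∧ x ∉ Z := by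
  set I := Scheme.IdealSheafData.vanishingIdeal ⟨T, hT⟩ with hI
  have hrange : Set.range I.subschemeι = T := by
    rw [I.range_subschemeι, hI]
    simp
  set g := I.subschemeι ≫ f with hg
  have hgapp : ∀ t, g t = f (I.subschemeι t) := fun t => Scheme.Hom.comp_apply _ _ _
  -- the generic fibre of `g` is irreducible
  have hemb : IsInducing (fun t' : g.fiber (genericPoint Y) =>
      I.subschemeι (g.fiberι (genericPoint Y) t')) :=
    (I.subschemeι.isEmbedding.isInducing).comp (g.fiberι (genericPoint Y)).isEmbedding.isInducing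
  have himg : (fun t' : g.fiber (genericPoint Y) =>
      I.subschemeι (g.fiberι (genericPoint Y) t')) '' Set.univ = T ∩ f ⁻¹' {genericPoint Y} := by
    rw [Set.image_univ]
    apply Set.Subset.antisymm
    · rintro _ ⟨t', rfl⟩
      refine ⟨by rw [← hrange]; exact ⟨_, rfl⟩, ?_⟩
      have := fiberι_apply_mem g (genericPoint Y) t'
      rwa [hgapp] at this
    · rintro x ⟨hxT, hxy⟩
      rw [← hrange] at hxT
      obtain ⟨t, rfl⟩ := hxT
      have : t ∈ Set.range (g.fiberι (genericPoint Y)) := by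
        rw [Scheme.Hom.range_fiberι]
        change g t = genericPoint Y
        rw [hgapp]
        exact hxy
      obtain ⟨t', rfl⟩ := this
      exact ⟨t', rfl⟩
  have hpre : IsPreirreducible (Set.univ : Set (g.fiber (genericPoint Y))) :=
    Groth.Agent.H3.TopDim.isPreirreducible_of_image hemb (by rw [himg]; exact hirr)
  -- the closed subset
  have hZ' : IsClosed (I.subschemeι ⁻¹' Z) := hZ.preimage I.subschemeι.continuous
  have hW : IsClosed ((g.fiberι (genericPoint Y)) ⁻¹' (I.subschemeι ⁻¹' Z)) :=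
    hZ'.preimage (g.fiberι (genericPoint Y)).continuous
  obtain ⟨t₀, ht₀⟩ : ∃ t' : g.fiber (genericPoint Y),
      t' ∉ (g.fiberι (genericPoint Y)) ⁻¹' (I.subschemeι ⁻¹' Z) := by
    rw [Set.not_subset] at hne
    obtain ⟨x, hx, hxZ⟩ := hne
    rw [← himg] at hx
    obtain ⟨t', -, rfl⟩ := hx
    exact ⟨t', hxZ⟩
  have hnd : IsNowhereDense ((g.fiberι (genericPoint Y)) ⁻¹' (I.subschemeι ⁻¹' Z)) := by
    rw [hW.isNowhereDense_iff, Set.eq_empty_iff_forall_notMem]
    intro t₁ ht₁
    obtain ⟨t₂, -, ht₂, ht₂'⟩ := hpre _ _ isOpen_interior hW.isOpen_compl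
      ⟨t₁, trivial, ht₁⟩ ⟨t₀, trivial, ht₀⟩
    exact ht₂' (interior_subset ht₂)
  obtain ⟨V₁, hη₁, hV₁⟩ := exists_open_forall_isNowhereDense g (I.subschemeι ⁻¹' Z) hZ' hnd
  obtain ⟨V₂, hη₂, hV₂⟩ := exists_open_forall_fiber_dim_eq g
  refine ⟨V₁ ⊓ V₂, ⟨hη₁, hη₂⟩, ?_⟩
  rintro y ⟨hy₁, hy₂⟩
  have hne' : Nonempty (g.fiber y) := by
    rw [← not_isEmpty_iff, ← topologicalKrullDim_eq_bot_iff, hV₂ y hy₂,
      topologicalKrullDim_eq_bot_iff, not_isEmpty_iff]
    exact ⟨t₀⟩
  have h3 : (g.fiberι y) ⁻¹' (I.subschemeι ⁻¹' Z) ≠ Set.univ := by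
    intro h
    have := hV₁ y hy₁
    rw [h, IsNowhereDense, closure_univ, interior_univ] at this
    obtain ⟨t'⟩ := hne'
    exact (Set.eq_empty_iff_forall_notMem.mp this t') trivial
  rw [Ne, Set.eq_univ_iff_forall] at h3
  push Not at h3
  obtain ⟨t', ht'⟩ := h3
  refine ⟨I.subschemeι (g.fiberι y t'), by rw [← hrange]; exact ⟨_, rfl⟩, ?_, ht'⟩
  have := fiberι_apply_mem g y t'
  rwa [hgapp] at this

/-- **The number of connected components of the fibres is, near the generic point, at least
that of the generic fibre.** -/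
theorem exists_open_forall_card_connectedComponents_le (f : X ⟶ Y) [IrreducibleSpace Y]
    [LocallyOfFiniteType f] [QuasiCompact f]
    [Finite (_root_.ConnectedComponents (f.fiber (genericPoint Y)))] :
    ∃ V : Y.Opens, genericPoint Y ∈ V ∧ ∀ y ∈ V,
      ENat.card (_root_.ConnectedComponents (f.fiber (genericPoint Y))) ≤
        ENat.card (_root_.ConnectedComponents (f.fiber y)) := by
  classical
  set η := genericPoint Y with hη
  let C : _root_.ConnectedComponents (f.fiber η) → Set (f.fiber η) :=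
    fun c => _root_.ConnectedComponents.mk ⁻¹' {c}
  have hCclosed : ∀ c, IsClosed (C c) := by
    intro c
    obtain ⟨x, rfl⟩ := _root_.ConnectedComponents.surjective_coe c
    change IsClosed (_root_.ConnectedComponents.mk ⁻¹' {_root_.ConnectedComponents.mk x})
    rw [connectedComponents_preimage_singleton]
    exact isClosed_connectedComponent
  have hCne : ∀ c, (C c).Nonempty := by
    intro c
    obtain ⟨x, rfl⟩ := _root_.ConnectedComponents.surjective_coe c
    exact ⟨x, rfl⟩
  let T : _root_.ConnectedComponents (f.fiber η) → Set X := fun c => closure ((f.fiberι η) '' C c)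
  have hTclosed : ∀ c, IsClosed (T c) := fun c => isClosed_closure
  have hTη : ∀ c, T c ∩ f ⁻¹' {η} = (f.fiberι η) '' C c :=
    fun c => closure_image_inter_preimage f η (C c) (hCclosed c)
  obtain ⟨V₁, hη₁, hV₁⟩ := exists_open_preimage_subset_closure f
  have H₂ : ∀ p : _root_.ConnectedComponents (f.fiber η) × _root_.ConnectedComponents (f.fiber η),
      ∃ V : Y.Opens, η ∈ V ∧ ∀ y ∈ V, (((T p.1 ∩ T p.2) ∩ f ⁻¹' {y}).Nonempty ↔
        ((T p.1 ∩ T p.2) ∩ f ⁻¹' {η}).Nonempty) :=
    fun p => exists_open_forall_nonempty_iff f _ ((hTclosed p.1).inter (hTclosed p.2))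
  choose V₂ hη₂ hV₂ using H₂
  obtain ⟨V₂', hη₂', hV₂'⟩ := exists_open_le_of_finite η V₂ hη₂
  have H₃ : ∀ c : _root_.ConnectedComponents (f.fiber η),
      ∃ V : Y.Opens, η ∈ V ∧ ∀ y ∈ V, ((T c ∩ f ⁻¹' {y}).Nonempty ↔
        (T c ∩ f ⁻¹' {η}).Nonempty) :=
    fun c => exists_open_forall_nonempty_iff f _ (hTclosed c)
  choose V₃ hη₃ hV₃ using H₃
  obtain ⟨V₃', hη₃', hV₃'⟩ := exists_open_le_of_finite η V₃ hη₃
  refine ⟨V₁ ⊓ V₂' ⊓ V₃', ⟨⟨hη₁, hη₂'⟩, hη₃'⟩, ?_⟩
  rintro y ⟨⟨hy₁, hy₂⟩, hy₃⟩
  apply card_le_card_connectedComponents (fun c => (f.fiberι y) ⁻¹' T c)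
  · exact fun c => (hTclosed c).preimage (f.fiberι y).continuous
  · intro c
    have h1 : (T c ∩ f ⁻¹' {y}).Nonempty := by
      rw [hV₃ c y (hV₃' c hy₃), hTη]
      exact (hCne c).image _
    obtain ⟨x, hxT, hxy⟩ := h1
    have : x ∈ Set.range (f.fiberι y) := by rw [f.range_fiberι]; exact hxy
    obtain ⟨x', rfl⟩ := this
    exact ⟨x', hxT⟩
  · intro c c' hcc
    rw [Set.disjoint_left]
    intro x hx hx'
    have h1 : ((T c ∩ T c') ∩ f ⁻¹' {y}).Nonempty :=
      ⟨f.fiberι y x, ⟨hx, hx'⟩, fiberι_apply_mem f y x⟩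
    rw [hV₂ (c, c') y (hV₂' (c, c') hy₂)] at h1
    obtain ⟨z, ⟨hz, hz'⟩, hzη⟩ := h1
    have h2 : z ∈ (f.fiberι η) '' C c := by rw [← hTη]; exact ⟨hz, hzη⟩
    have h3 : z ∈ (f.fiberι η) '' C c' := by rw [← hTη]; exact ⟨hz', hzη⟩
    obtain ⟨w, hw, rfl⟩ := h2
    obtain ⟨w', hw', hww⟩ := h3
    have := (f.fiberι η).isEmbedding.injective hww
    rw [this] at hw'
    exact hcc (hw.symm.trans hw')
  · rw [Set.eq_univ_iff_forall]
    intro x
    have h1 : f.fiberι y x ∈ closure (Set.range (f.fiberι η)) := by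
      apply hV₁
      rw [fiberι_apply_mem]
      exact hy₁
    have h2 : Set.range (f.fiberι η) = ⋃ c, (f.fiberι η) '' C c := by
      rw [← Set.image_iUnion]
      have : ⋃ c, C c = Set.univ := by
        rw [Set.eq_univ_iff_forall]
        intro w
        exact Set.mem_iUnion.mpr ⟨_root_.ConnectedComponents.mk w, rfl⟩
      rw [this, Set.image_univ]
    rw [h2, closure_iUnion_of_finite] at h1
    obtain ⟨c, hc⟩ := Set.mem_iUnion.mp h1
    exact Set.mem_iUnion.mpr ⟨c, hc⟩

/-- **The number of irreducible components of the fibres is, near the generic point, at least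
that of the generic fibre.** -/
theorem exists_open_forall_encard_irreducibleComponents_le (f : X ⟶ Y) [IrreducibleSpace Y]
    [LocallyOfFiniteType f] [QuasiCompact f]
    (hfin : (irreducibleComponents (f.fiber (genericPoint Y))).Finite) :
    ∃ V : Y.Opens, genericPoint Y ∈ V ∧ ∀ y ∈ V,
      (irreducibleComponents (f.fiber (genericPoint Y))).encard ≤
        (irreducibleComponents (f.fiber y)).encard := by
  classical
  set η := genericPoint Y with hη
  haveI : Finite ↥(irreducibleComponents (f.fiber η)) := hfin.to_subtype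
  let C : ↥(irreducibleComponents (f.fiber η)) → Set (f.fiber η) := fun c => c.1
  have hCclosed : ∀ c, IsClosed (C c) := fun c => isClosed_of_mem_irreducibleComponents _ c.2
  have hCirr : ∀ c, IsIrreducible (C c) := fun c => c.2.1
  have hCcov : ⋃ c, C c = Set.univ := by
    rw [Set.eq_univ_iff_forall]
    intro w
    exact Set.mem_iUnion.mpr ⟨⟨irreducibleComponent w,
      irreducibleComponent_mem_irreducibleComponents w⟩, mem_irreducibleComponent⟩
  let T : ↥(irreducibleComponents (f.fiber η)) → Set X :=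
    fun c => closure ((f.fiberι η) '' C c)
  have hTclosed : ∀ c, IsClosed (T c) := fun c => isClosed_closure
  have hTη : ∀ c, T c ∩ f ⁻¹' {η} = (f.fiberι η) '' C c :=
    fun c => closure_image_inter_preimage f η (C c) (hCclosed c)
  obtain ⟨V₁, hη₁, hV₁⟩ := exists_open_preimage_subset_closure f
  have H₃ : ∀ c : ↥(irreducibleComponents (f.fiber η)),
      ∃ V : Y.Opens, η ∈ V ∧ ∀ y ∈ V, ∃ x ∈ T c, f x = y ∧ x ∉ ⋃ c' ∈ {c' | c' ≠ c}, T c' := by
    intro c
    apply exists_open_forall_exists_notMem f (T c) _ (hTclosed c)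
      (Set.Finite.isClosed_biUnion (Set.toFinite _) (fun c' _ => hTclosed c'))
    · rw [hTη]
      exact ((hCirr c).image _ (f.fiberι η).continuous.continuousOn).isPreirreducible
    · rw [hTη]
      intro hsub
      -- then `C c` lies in the union of the other components
      have h1 : C c ⊆ ⋃₀ (irreducibleComponents (f.fiber η) \ {C c}) := by
        intro w hw
        have h2 := hsub ⟨w, hw, rfl⟩
        simp only [Set.mem_iUnion, Set.mem_setOf_eq] at h2
        obtain ⟨c', hc', hwc'⟩ := h2
        have h3 : f.fiberι η w ∈ T c' ∩ f ⁻¹' {η} := ⟨hwc', fiberι_apply_mem f η w⟩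
        rw [hTη] at h3
        obtain ⟨w', hw', hww⟩ := h3
        have := (f.fiberι η).isEmbedding.injective hww
        rw [this] at hw'
        refine Set.mem_sUnion.mpr ⟨C c', ⟨c'.2, ?_⟩, hw'⟩
        intro h4
        exact hc' (Subtype.ext h4)
      have h5 := mem_of_subset_sUnion_irreducibleComponents (C c) c.2 _
        (hfin.subset Set.diff_subset) Set.diff_subset h1
      exact h5.2 rfl
  choose V₃ hη₃ hV₃ using H₃
  obtain ⟨V₃', hη₃', hV₃'⟩ := exists_open_le_of_finite η V₃ hη₃
  refine ⟨V₁ ⊓ V₃', ⟨hη₁, hη₃'⟩, ?_⟩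
  rintro y ⟨hy₁, hy₃⟩
  rw [← ENat.card_coe_set_eq]
  apply card_le_encard_irreducibleComponents (fun c => (f.fiberι y) ⁻¹' T c)
  · exact fun c => (hTclosed c).preimage (f.fiberι y).continuous
  · rw [Set.eq_univ_iff_forall]
    intro x
    have h1 : f.fiberι y x ∈ closure (Set.range (f.fiberι η)) := by
      apply hV₁
      rw [fiberι_apply_mem]
      exact hy₁
    have h2 : Set.range (f.fiberι η) = ⋃ c, (f.fiberι η) '' C c := by
      rw [← Set.image_iUnion, hCcov, Set.image_univ]
    rw [h2, closure_iUnion_of_finite] at h1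
    obtain ⟨c, hc⟩ := Set.mem_iUnion.mp h1
    exact Set.mem_iUnion.mpr ⟨c, hc⟩
  · intro c
    obtain ⟨x, hxT, hxy, hxn⟩ := hV₃ c y (hV₃' c hy₃)
    have : x ∈ Set.range (f.fiberι y) := by rw [f.range_fiberι]; exact hxy
    obtain ⟨x', rfl⟩ := this
    refine ⟨x', hxT, ?_⟩
    intro c' hc' hx'
    apply hxn
    simp only [Set.mem_iUnion, Set.mem_setOf_eq]
    exact ⟨c', hc', hx'⟩

end Groth.Agent.H1.GenFib
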