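import Mathlib
import Groth.Prelude.Def_Curv2
import Groth.Agent.Lib.Helper1.ConnCompSch
import Groth.Agent.Lib.Helper1.GalActSch2

/-! Helper1: geometric irreducibility from the finite separable levels (Stacks 054Q-ish). -/

set_option autoImplicit false
set_option linter.style.haveILetI false
universe u
open CategoryTheory CategoryTheory.Limits AlgebraicGeometry IsLocalRing TensorProduct TopologicalSpace

namespace Groth.Agent.H1.GeomIrrSch

open Groth.Agent.H1.BCTower Groth.Agent.H1.GeomConnSch Groth.Agent.H1.ConnCompSch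
  Groth.Agent.H1.GalActSch

variable (k : Type u) [Field k] (X : Scheme.{u}) [X.Over (Spec (CommRingCat.of k))]

/-- `X_K` (`K/k` algebraic) is irreducible as soon as all finite levels are. -/
theorem irreducibleSpace_bc_of_forall_finite (K : Type u) [Field K] [Algebra k K]
    [Algebra.IsAlgebraic k K]
    (h : ∀ E : IntermediateField k K, FiniteDimensional k E →
      IrreducibleSpace ↥(Curv2.bc k X E)) :
    IrreducibleSpace ↥(Curv2.bc k X K) := by
  haveI : Nonempty ↥(Curv2.bc k X K) := by
    haveI := h ⊥ inferInstance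
    obtain ⟨z⟩ : Nonempty ↥(Curv2.bc k X (⊥ : IntermediateField k K)) := inferInstance
    obtain ⟨y, -⟩ := (towerMap k X (⊥ : IntermediateField k K) K).surjective z
    exact ⟨y⟩
  haveI : PreirreducibleSpace ↥(Curv2.bc k X K) := by
    refine ⟨?_⟩
    intro N₁ N₂ hN₁ hN₂ hne₁ hne₂
    obtain ⟨a₁, -, ha₁⟩ := hne₁
    obtain ⟨a₂, -, ha₂⟩ := hne₂
    obtain ⟨E₁, -, hE₁, U₁, hU₁, h11, h12⟩ := exists_level_nhd k X K a₁ N₁ hN₁ ha₁ ⊥
    haveI := hE₁
    obtain ⟨E₂, hle, hE₂, U₂, hU₂, h21, h22⟩ := exists_level_nhd k X K a₂ N₂ hN₂ ha₂ E₁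
    haveI := hE₂
    haveI := h E₂ hE₂
    have ho : IsOpen ((towerMap k X E₂ K).base '' ((towerMap k X E₁ K).base ⁻¹' U₁)) :=
      (towerMap k X E₂ K).isOpenMap _ (hU₁.preimage (towerMap k X E₁ K).continuous)
    obtain ⟨z, ⟨b, hb, rfl⟩, hz₂⟩ := nonempty_preirreducible_inter ho hU₂
      ⟨_, a₁, h11, rfl⟩ ⟨_, h21⟩
    exact ⟨b, trivial, h12 hb, h22 hz₂⟩
  exact ⟨inferInstance⟩

/-- if `X_Ω` is irreducible for a separably closed `Ω`, then `X` is geometrically irreducible. -/
theorem geometricallyIrreducible_of_sepClosed (Ω : Type u) [Field Ω] [Algebra k Ω] [IsSepClosed Ω]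
    [IrreducibleSpace ↥(Curv2.bc k X Ω)] :
    GeometricallyIrreducible (X ↘ Spec (CommRingCat.of k)) := by
  rw [GeometricallyIrreducible.eq_geometrically,
    geometrically_iff_of_commRing_of_isClosedUnderIsomorphisms]
  intro K _ _
  have h := isIrreducible_preimage_of_sepClosed k X Ω Set.univ
    (by rw [Set.preimage_univ]; exact IrreducibleSpace.isIrreducible_univ _) K
  rw [Set.preimage_univ] at h
  show IrreducibleSpace ↥(Curv2.bc k X K)
  exact (irreducibleSpace_def _).mpr h

theorem s1539
    (h : ∀ (k' : Type u) [Field k'] [Algebra k k'] [FiniteDimensional k k']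
      [Algebra.IsSeparable k k'], IrreducibleSpace (Curv2.bc k X k')) :
    GeometricallyIrreducible (X ↘ (Spec (CommRingCat.of k))) := by
  haveI : IrreducibleSpace ↥(Curv2.bc k X (SeparableClosure k)) := by
    apply irreducibleSpace_bc_of_forall_finite
    intro E hE
    haveI := hE
    exact h E
  exact geometricallyIrreducible_of_sepClosed k X (SeparableClosure k)

end Groth.Agent.H1.GeomIrrSch
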