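import Mathlib
import Groth.Prelude.Def_Curv2
import Groth.Prelude.Def_FDesc
import Groth.Agent.Lib.Helper1.ConnCompCount2
import Groth.Agent.Lib.Helper1.GalActSch2
import Groth.Agent.Lib.Helper1.GalActSch3
import Groth.Agent.Lib.Helper1.GeomIrrSch
import Groth.Agent.Lib.Helper1.ConnCompSch3

/-! Helper1: a finite separable extension making all irreducible components geometrically
irreducible (EGA IV 4.5.10/4.5.11): finiteness of the irreducible components of `X_K`, open
stabilisers, descent of components to a finite level. -/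

set_option autoImplicit false
set_option linter.style.haveILetI false
universe u
open CategoryTheory CategoryTheory.Limits AlgebraicGeometry IsLocalRing TensorProduct TopologicalSpace

namespace Groth.Agent.H1.IrrCompGal

open Groth.Agent.H1.BCTower Groth.Agent.H1.GeomConnSch Groth.Agent.H1.ConnCompSch
  Groth.Agent.H1.GalActSch Groth.Agent.H1.GeomIrrSch



/-- an irreducible component is the closure of its trace on an open set it meets. -/
theorem eq_closure_inter_of_mem_irreducibleComponents {Y : Type*} [TopologicalSpace Y]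
    (W : Set Y) (hW : IsOpen W) (Z : Set Y) (hZ : Z ∈ irreducibleComponents Y)
    (h : (Z ∩ W).Nonempty) : Z = closure (Z ∩ W) := by
  apply subset_antisymm
  · exact subset_closure_inter_of_isPreirreducible_of_isOpen hZ.1.2 hW h
  · exact closure_minimal Set.inter_subset_left (isClosed_of_mem_irreducibleComponents Z hZ)

/-- finiteness of the set of irreducible components can be tested on an open subset meeting all
of them. -/
theorem finite_irreducibleComponents_of_isOpen {Y : Type*} [TopologicalSpace Y] (W : Set Y)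
    (hW : IsOpen W) (hfin : (irreducibleComponents ↥W).Finite)
    (hmeet : ∀ Z ∈ irreducibleComponents Y, (Z ∩ W).Nonempty) :
    (irreducibleComponents Y).Finite := by
  refine Set.Finite.of_finite_image (f := fun Z : Set Y => (Subtype.val ⁻¹' Z : Set ↥W))
    (hfin.subset ?_) ?_
  · rintro _ ⟨Z, hZ, rfl⟩
    refine preimage_mem_irreducibleComponents hZ hW.isOpenEmbedding_subtypeVal ?_
    simpa using hmeet Z hZ
  · intro Z₁ hZ₁ Z₂ hZ₂ h
    have h' : Z₁ ∩ W = Z₂ ∩ W := by
      have := congrArg (fun S : Set ↥W => Subtype.val '' S) h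
      simpa [Subtype.image_preimage_coe, Set.inter_comm] using this
    rw [eq_closure_inter_of_mem_irreducibleComponents W hW Z₁ hZ₁ (hmeet Z₁ hZ₁),
      eq_closure_inter_of_mem_irreducibleComponents W hW Z₂ hZ₂ (hmeet Z₂ hZ₂), h']



variable (k : Type u) [Field k] (X : Scheme.{u}) [X.Over (Spec (CommRingCat.of k))]

instance locallyOfFiniteType_bcSnd [LocallyOfFiniteType (X ↘ (Spec (CommRingCat.of k)))]
    (K : Type u) [Field K] [Algebra k K] : LocallyOfFiniteType (Curv2.bcSnd k X K) := by
  show LocallyOfFiniteType (pullback.snd (X ↘ (Spec (CommRingCat.of k))) _)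
  infer_instance

instance isLocallyNoetherian_bc [LocallyOfFiniteType (X ↘ (Spec (CommRingCat.of k)))]
    (K : Type u) [Field K] [Algebra k K] : IsLocallyNoetherian (Curv2.bc k X K) :=
  LocallyOfFiniteType.isLocallyNoetherian (Curv2.bcSnd k X K)

/-- `X_K` has finitely many irreducible components if `X` does (`X` locally of finite type,
`K/k` algebraic). -/
theorem finite_irreducibleComponents_bc [LocallyOfFiniteType (X ↘ (Spec (CommRingCat.of k)))]
    (hirr : (irreducibleComponents (X : Type u)).Finite)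
    (K : Type u) [Field K] [Algebra k K] [Algebra.IsAlgebraic k K] :
    (irreducibleComponents ↥(Curv2.bc k X K)).Finite := by
  classical
  -- choose an affine open meeting each component
  have hU : ∀ C : irreducibleComponents (X : Type u), ∃ U : X.Opens, IsAffineOpen U ∧
      ((C : Set X) ∩ U).Nonempty := by
    intro C
    obtain ⟨x, hx⟩ := C.2.1.1
    obtain ⟨_, ⟨U, hU : IsAffineOpen U, rfl⟩, hxU, -⟩ :=
      X.isBasis_affineOpens.exists_subset_of_mem_open (Set.mem_univ x) isOpen_univ
    exact ⟨U, hU, x, hx, hxU⟩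
  choose U hUa hUC using hU
  haveI : Finite (irreducibleComponents (X : Type u)) := hirr.to_subtype
  let W : (Curv2.bc k X K).Opens := ⨆ C, (Curv2.bcFst k X K) ⁻¹ᵁ (U C)
  have hWc : IsCompact (W : Set ↥(Curv2.bc k X K)) := by
    have : (W : Set ↥(Curv2.bc k X K)) = ⋃ C, ((Curv2.bcFst k X K) ⁻¹ᵁ (U C) : Set _) := by
      simp [W]
    rw [this]
    refine isCompact_iUnion fun C => ?_
    exact ((hUa C).preimage (Curv2.bcFst k X K)).isCompact
  haveI : CompactSpace (W : Scheme.{u}) := isCompact_iff_compactSpace.mp hWc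
  haveI : IsNoetherian (W : Scheme.{u}) :=
    (AlgebraicGeometry.isNoetherian_iff _).mpr ⟨inferInstance, inferInstance⟩
  have hfinW : (irreducibleComponents ↥W).Finite :=
    finite_irreducibleComponents_of_isNoetherian (X := (W : Scheme.{u}))
  refine finite_irreducibleComponents_of_isOpen (W : Set ↥(Curv2.bc k X K)) W.2 hfinW ?_
  intro Z hZ
  have hC := Groth.Agent.H1.GalActSch.image_mem_irreducibleComponents X (Curv2.bcFst k X K)
    (Curv2.bcFst k X K).isClosedMap (Flat.generalizingMap _) Z hZ
  obtain ⟨x, ⟨z, hz, rfl⟩, hxU⟩ := hUC ⟨_, hC⟩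
  refine ⟨z, hz, ?_⟩
  show z ∈ W
  exact Opens.mem_iSup.mpr ⟨⟨_, hC⟩, hxU⟩




/-- with finitely many irreducible components, each has a point lying on no other one. -/
theorem exists_mem_not_mem_other {Y : Type*} [TopologicalSpace Y]
    (hfin : (irreducibleComponents Y).Finite) (Z : Set Y) (hZ : Z ∈ irreducibleComponents Y) :
    ∃ y ∈ Z, ∀ Z' ∈ irreducibleComponents Y, y ∈ Z' → Z' = Z := by
  classical
  by_contra hcon
  push Not at hcon
  have hsub : Z ⊆ ⋃₀ ((hfin.toFinset.erase Z : Finset (Set Y)) : Set (Set Y)) := by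
    intro y hy
    obtain ⟨Z', hZ', hyZ', hne⟩ := hcon y hy
    exact ⟨Z', Finset.mem_coe.mpr (Finset.mem_erase.mpr ⟨hne, hfin.mem_toFinset.mpr hZ'⟩), hyZ'⟩
  obtain ⟨Z', hZ', hZZ'⟩ := (isIrreducible_iff_sUnion_isClosed.mp hZ.1) _
    (fun z hz => isClosed_of_mem_irreducibleComponents z (by
      have := Finset.mem_of_mem_erase hz
      simpa using this)) hsub
  have h1 : Z' ∈ irreducibleComponents Y := by
    have := Finset.mem_of_mem_erase hZ'
    simpa using this
  have h2 : Z' ≠ Z := Finset.ne_of_mem_erase hZ'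
  exact h2 (subset_antisymm (hZ.2 h1.1 hZZ') hZZ')

/-- with finitely many irreducible components on `X_K` (`K/k` Galois), a finite level `E` has all
its automorphisms stabilising every irreducible component. -/
theorem exists_level_stabilizing_irr (K : Type u) [Field K] [Algebra k K] [IsGalois k K]
    (hfin : (irreducibleComponents ↥(Curv2.bc k X K)).Finite) :
    ∃ E : IntermediateField k K, FiniteDimensional k E ∧
      ∀ σ : K ≃ₐ[k] K, (∀ a : E, σ (algebraMap E K a) = algebraMap E K a) →
        ∀ Z ∈ irreducibleComponents ↥(Curv2.bc k X K),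
          (Curv2.galAct k X K σ).base '' Z = Z := by
  classical
  haveI : Finite (irreducibleComponents ↥(Curv2.bc k X K)) := hfin.to_subtype
  have hrep : ∀ Z : irreducibleComponents ↥(Curv2.bc k X K),
      ∃ (y : ↥(Curv2.bc k X K)) (V : Set ↥(Curv2.bc k X K)) (E : IntermediateField k K),
        y ∈ V ∧ V ⊆ (Z : Set _) ∧
        (∀ Z' ∈ irreducibleComponents ↥(Curv2.bc k X K), y ∈ Z' → Z' = Z) ∧
        FiniteDimensional k E ∧
        ∀ σ : K ≃ₐ[k] K, (∀ a : K, a ∈ E → σ a = a) →
          (Curv2.galAct k X K σ).base '' V = V := by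
    rintro ⟨Z, hZ⟩
    obtain ⟨y, hyZ, hy⟩ := exists_mem_not_mem_other hfin Z hZ
    -- the open set of points lying on no other component
    let O : Set ↥(Curv2.bc k X K) := (⋃₀ ((hfin.toFinset.erase Z : Finset (Set _)) : Set (Set _)))ᶜ
    have hOo : IsOpen O := by
      apply isOpen_compl_iff.mpr
      rw [Set.sUnion_eq_biUnion]
      refine Set.Finite.isClosed_biUnion (Finset.finite_toSet _) ?_
      intro z hz
      have := Finset.mem_of_mem_erase hz
      exact isClosed_of_mem_irreducibleComponents z (by simpa using this)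
    have hyO : y ∈ O := by
      rintro ⟨Z', hZ', hyZ'⟩
      have h1 : Z' ∈ irreducibleComponents ↥(Curv2.bc k X K) := by
        have := Finset.mem_of_mem_erase hZ'
        simpa using this
      exact Finset.ne_of_mem_erase hZ' (hy Z' h1 hyZ')
    have hOZ : O ⊆ Z := by
      intro a ha
      have : a ∈ ⋃₀ irreducibleComponents ↥(Curv2.bc k X K) := by
        rw [sUnion_irreducibleComponents]; trivial
      obtain ⟨Z', hZ', haZ'⟩ := this
      by_cases h : Z' = Z
      · exact h ▸ haZ'
      · exact absurd ⟨Z', Finset.mem_coe.mpr (Finset.mem_erase.mpr ⟨h, hfin.mem_toFinset.mpr hZ'⟩),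
          haZ'⟩ ha
    obtain ⟨_, ⟨V, hV : IsAffineOpen V, rfl⟩, hyV, hVO⟩ :=
      (Curv2.bc k X K).isBasis_affineOpens.exists_subset_of_mem_open hyO hOo
    obtain ⟨E, hE, hσ⟩ := s7621 k K X (V : Set ↥(Curv2.bc k X K)) V.2 hV.isCompact
    exact ⟨y, V, E, hyV, hVO.trans hOZ, hy, hE, hσ⟩
  choose y V E hyV hVZ hy hE hσ using hrep
  refine ⟨⨆ Z, E Z, ?_, ?_⟩
  · haveI : ∀ Z, FiniteDimensional k (E Z) := hE
    exact IntermediateField.finiteDimensional_iSup_of_finite
  · -- first the inclusion, for all such automorphisms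
    have hsub : ∀ σ : K ≃ₐ[k] K,
        (∀ a : (⨆ Z, E Z : IntermediateField k K), σ (algebraMap _ K a) = algebraMap _ K a) →
        ∀ Z ∈ irreducibleComponents ↥(Curv2.bc k X K),
          (Curv2.galAct k X K σ).base '' Z ⊆ Z := by
      intro σ hσE Z hZ
      have hσZ : ∀ a : K, a ∈ E ⟨Z, hZ⟩ → σ a = a := fun a ha =>
        hσE ⟨a, (le_iSup E ⟨Z, hZ⟩) ha⟩
      have hVV := hσ ⟨Z, hZ⟩ σ hσZ
      have hirr : IsIrreducible ((Curv2.galAct k X K σ).base '' Z) :=
        hZ.1.image _ (Curv2.galAct k X K σ).continuous.continuousOn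
      obtain ⟨Z'', hZ'', hsub''⟩ := exists_mem_irreducibleComponents_subset_of_isIrreducible _ hirr
      have hyσ : y ⟨Z, hZ⟩ ∈ (Curv2.galAct k X K σ).base '' Z := by
        have : y ⟨Z, hZ⟩ ∈ (Curv2.galAct k X K σ).base '' V ⟨Z, hZ⟩ := by
          rw [hVV]; exact hyV _
        exact Set.image_mono (hVZ ⟨Z, hZ⟩) this
      have : Z'' = Z := hy ⟨Z, hZ⟩ Z'' hZ'' (hsub'' hyσ)
      exact this ▸ hsub''
    intro σ hσE Z hZ
    apply subset_antisymm (hsub σ hσE Z hZ)
    intro z hz
    have hinv : ∀ a : (⨆ Z, E Z : IntermediateField k K),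
        σ⁻¹ (algebraMap _ K a) = algebraMap _ K a := by
      intro a
      have := hσE a
      calc σ⁻¹ (algebraMap _ K a) = σ⁻¹ (σ (algebraMap _ K a)) := by rw [this]
        _ = algebraMap _ K a := by simp [AlgEquiv.aut_inv]
    refine ⟨Curv2.galAct k X K σ⁻¹ z, hsub σ⁻¹ hinv Z hZ ⟨z, hz, rfl⟩, ?_⟩
    exact galAct_apply_inv k X K σ z




section TowerGal

variable (E : Type u) [Field E] [Algebra k E] (K : Type u) [Field K] [Algebra k K] [Algebra E K]
  [IsScalarTower k E K]

/-- if the automorphisms fixing `E` stabilise all irreducible components of `X_K`, the inverse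
image of an irreducible component of `X_E` is an irreducible component of `X_K`. -/
theorem preimage_mem_irreducibleComponents_of_stabilizing [Normal E K]
    (hstab : ∀ σ : K ≃ₐ[k] K, (∀ a : E, σ (algebraMap E K a) = algebraMap E K a) →
      ∀ Z ∈ irreducibleComponents ↥(Curv2.bc k X K), (Curv2.galAct k X K σ).base '' Z = Z)
    (T : Set ↥(Curv2.bc k X E)) (hT : T ∈ irreducibleComponents ↥(Curv2.bc k X E)) :
    (towerMap k X E K).base ⁻¹' T ∈ irreducibleComponents ↥(Curv2.bc k X K) := by
  have hTc : IsClosed T := isClosed_of_mem_irreducibleComponents T hT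
  obtain ⟨ξ, hξ⟩ := QuasiSober.sober hT.1 hTc
  obtain ⟨z, hz⟩ := (towerMap k X E K).surjective ξ
  have hZ := irreducibleComponent_mem_irreducibleComponents z
  have hC := Groth.Agent.H1.GalActSch.image_mem_irreducibleComponents (Curv2.bc k X E)
    (towerMap k X E K) (towerMap k X E K).isClosedMap (Flat.generalizingMap _)
    (irreducibleComponent z) hZ
  have hξC : ξ ∈ (towerMap k X E K).base '' irreducibleComponent z :=
    ⟨z, mem_irreducibleComponent, hz⟩
  have hTsub : T ⊆ (towerMap k X E K).base '' irreducibleComponent z := by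
    rw [← hξ.def]
    exact closure_minimal (Set.singleton_subset_iff.mpr hξC)
      (isClosed_of_mem_irreducibleComponents _ hC)
  have hTeq : T = (towerMap k X E K).base '' irreducibleComponent z :=
    subset_antisymm hTsub (hT.2 hC.1 hTsub)
  have hpre : (towerMap k X E K).base ⁻¹' T = irreducibleComponent z := by
    apply subset_antisymm
    · intro y hy
      rw [hTeq] at hy
      obtain ⟨z', hz', hzy⟩ := hy
      obtain ⟨σ, hσ, hσy⟩ := exists_galAct_eq_of_towerMap_eq k X E K z' y hzy
      rw [← hstab σ hσ _ hZ]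
      exact ⟨z', hz', hσy⟩
    · intro y hy
      show (towerMap k X E K) y ∈ T
      rw [hTeq]
      exact ⟨y, hy, rfl⟩
  rw [hpre]
  exact hZ

end TowerGal

/-- the inverse image in `X_K` of a closed subset `T`, via the reduced induced subscheme. -/
theorem isIrreducible_preimage_iff_irreducibleSpace_bc (T : Set ↥X) (hTc : IsClosed T)
    (K : Type u) [Field K] [Algebra k K] :
    IsIrreducible ((Curv2.bcFst k X K).base ⁻¹' T) ↔
      IrreducibleSpace ↥(@Curv2.bc k _
        (Scheme.IdealSheafData.vanishingIdeal (X := X) ⟨T, hTc⟩).subscheme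
        (subOver k X T hTc) K _ _) := by
  letI := subOver k X T hTc
  have hrange : Set.range (Scheme.IdealSheafData.vanishingIdeal (X := X) ⟨T, hTc⟩).subschemeι
      = T := by
    rw [Scheme.IdealSheafData.range_subschemeι]
    exact Scheme.IdealSheafData.coe_support_vanishingIdeal ⟨T, hTc⟩
  haveI : (Scheme.IdealSheafData.vanishingIdeal (X := X) ⟨T, hTc⟩).subschemeι.IsOver
    (Spec (CommRingCat.of k)) := ⟨rfl⟩
  have e := pullbackIso k X (Scheme.IdealSheafData.vanishingIdeal (X := X) ⟨T, hTc⟩).subscheme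
    (Scheme.IdealSheafData.vanishingIdeal ⟨T, hTc⟩).subschemeι K
  rw [← e.hom.homeomorph.irreducibleSpace_iff]
  haveI : IsClosedImmersion (pullback.snd
      (Scheme.IdealSheafData.vanishingIdeal (X := X) ⟨T, hTc⟩).subschemeι
      (Curv2.bcFst k X K)) := inferInstance
  have hemb : Topology.IsEmbedding (pullback.snd
      (Scheme.IdealSheafData.vanishingIdeal (X := X) ⟨T, hTc⟩).subschemeι
      (Curv2.bcFst k X K)).base :=
    Scheme.Hom.isEmbedding _
  have hIeq : Set.range (pullback.snd
      (Scheme.IdealSheafData.vanishingIdeal (X := X) ⟨T, hTc⟩).subschemeι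
      (Curv2.bcFst k X K)) = (Curv2.bcFst k X K) ⁻¹' T := by
    rw [Scheme.Pullback.range_snd, hrange]
  rw [← hIeq, isIrreducible_iff_irreducibleSpace]
  exact hemb.toHomeomorph.irreducibleSpace_iff.symm



theorem s1654 (k : Type u) [Field k] (X : Scheme.{u}) [X.Over (Spec (CommRingCat.of k))] [LocallyOfFiniteType (X ↘ (Spec (CommRingCat.of k)))]
    (hirr : (irreducibleComponents (X : Type u)).Finite) :
    ∃ (k' : Type u) (_ : Field k') (_ : Algebra k k'), FiniteDimensional k k' ∧ Algebra.IsSeparable k k' ∧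
      ∀ (T : Set (Curv2.bc k X k')) (hT : T ∈ irreducibleComponents (Curv2.bc k X k' : Type u)),
        GeometricallyIrreducible
          ((Scheme.IdealSheafData.vanishingIdeal ⟨T, isClosed_of_mem_irreducibleComponents T hT⟩).subschemeι ≫
            Curv2.bcSnd k X k') := by
  have hfin := finite_irreducibleComponents_bc k X hirr (SeparableClosure k)
  obtain ⟨E, hE, hstab⟩ := exists_level_stabilizing_irr k X (SeparableClosure k) hfin
  haveI := hE
  refine ⟨↥E, inferInstance, inferInstance, hE, inferInstance, ?_⟩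
  intro T hT
  have hTc : IsClosed T := isClosed_of_mem_irreducibleComponents T hT
  letI := overK k X ↥E
  haveI : IsGalois ↥E (SeparableClosure k) := IsGalois.tower_top_of_isGalois k ↥E _
  haveI : Normal ↥E (SeparableClosure k) := inferInstance
  have hpre := preimage_mem_irreducibleComponents_of_stabilizing k X ↥E (SeparableClosure k)
    hstab T hT
  have hirr' : IsIrreducible
      ((Curv2.bcFst ↥E (Curv2.bc k X ↥E) (SeparableClosure k)).base ⁻¹' T) := by
    have h1 : (Curv2.bcFst ↥E (Curv2.bc k X ↥E) (SeparableClosure k)).base ⁻¹' T =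
        (towerIso k X ↥E (SeparableClosure k)).hom.homeomorph ⁻¹'
          ((towerMap k X ↥E (SeparableClosure k)).base ⁻¹' T) := by
      ext z
      show Curv2.bcFst ↥E (Curv2.bc k X ↥E) (SeparableClosure k) z ∈ T ↔
        towerMap k X ↥E (SeparableClosure k) ((towerIso k X ↥E (SeparableClosure k)).hom z) ∈ T
      rw [← Scheme.Hom.comp_apply, towerIso_hom_towerMap]
    rw [h1, ← Homeomorph.image_symm]
    exact hpre.1.image _ (Homeomorph.continuous _).continuousOn
  letI := subOver ↥E (Curv2.bc k X ↥E) T hTc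
  haveI : IrreducibleSpace ↥(Curv2.bc ↥E
      (Scheme.IdealSheafData.vanishingIdeal (X := Curv2.bc k X ↥E) ⟨T, hTc⟩).subscheme
      (SeparableClosure k)) :=
    (isIrreducible_preimage_iff_irreducibleSpace_bc ↥E (Curv2.bc k X ↥E) T hTc
      (SeparableClosure k)).mp hirr'
  exact geometricallyIrreducible_of_sepClosed ↥E
    (Scheme.IdealSheafData.vanishingIdeal (X := Curv2.bc k X ↥E) ⟨T, hTc⟩).subscheme
    (SeparableClosure k)

end Groth.Agent.H1.IrrCompGal
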