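import Mathlib
import Groth.Prelude.Def_Curv2
import Groth.Prelude.Def_FDesc
import Groth.Agent.Lib.Helper9.Misc.GZC1
import Groth.Agent.Lib.Helper1.SepClosedIn
import Groth.Agent.Lib.Helper1.IrrCompGal
import Groth.Agent.Lib.Helper1.GeomConnSch3

/-! Helper1: the fibre of `X_K → X` over a point as `Spec (κ(x) ⊗ K)`; geometric irreducibility
of an irreducible scheme in terms of the residue field of the generic point (EGA IV 4.5.9). -/

set_option autoImplicit false
set_option linter.style.haveILetI false
universe u
open CategoryTheory CategoryTheory.Limits AlgebraicGeometry IsLocalRing TensorProduct TopologicalSpace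

namespace Groth.Agent.H1.GenFibre

open Groth.Agent.H1.BCTower Groth.Agent.H1.GeomConnSch Groth.Agent.H1.ConnCompSch
  Groth.Agent.H1.GalActSch Groth.Agent.H1.GeomIrrSch



variable (k : Type u) [Field k] (X : Scheme.{u}) [X.Over (Spec (CommRingCat.of k))]

/-- the fibre of `X_K → X` over `x`, as an embedding of `Spec (κ(x) ⊗ K)`. -/
theorem exists_fibre_embedding (x : X) (φ : k →+* X.residueField x)
    (hφ : Spec.map (CommRingCat.ofHom φ) =
      X.fromSpecResidueField x ≫ (X ↘ Spec (CommRingCat.of k)))
    (K : Type u) [Field K] [Algebra k K] :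
    letI := φ.toAlgebra
    ∃ j : PrimeSpectrum (X.residueField x ⊗[k] K) → ↥(Curv2.bc k X K),
      Topology.IsEmbedding j ∧ Set.range j = (Curv2.bcFst k X K).base ⁻¹' {x} := by
  letI : Algebra k (X.residueField x) := φ.toAlgebra
  letI : (Spec (X.residueField x)).Over (Spec (CommRingCat.of k)) :=
    ⟨Spec.map (CommRingCat.ofHom φ)⟩
  haveI : (X.fromSpecResidueField x).IsOver (Spec (CommRingCat.of k)) := ⟨hφ.symm⟩
  let e₁ := pullbackSpecIso k (X.residueField x) K
  let e₂ := pullbackIso k X (Spec (X.residueField x)) (X.fromSpecResidueField x) K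
  let e₁' : Spec (CommRingCat.of (X.residueField x ⊗[k] K)) ≅
      Curv2.bc k (Spec (X.residueField x)) K := e₁.symm
  let j : Spec (CommRingCat.of (X.residueField x ⊗[k] K)) ⟶ Curv2.bc k X K :=
    e₁'.hom ≫ e₂.inv ≫ pullback.snd (X.fromSpecResidueField x) (Curv2.bcFst k X K)
  have hj : Set.range j = (Curv2.bcFst k X K) ⁻¹' {x} := by
    have h1 : Set.range (e₁'.hom ≫ e₂.inv) = Set.univ :=
      Set.range_eq_univ.mpr (e₁' ≪≫ e₂.symm).hom.homeomorph.surjective
    have : j = (e₁'.hom ≫ e₂.inv) ≫
        pullback.snd (X.fromSpecResidueField x) (Curv2.bcFst k X K) := by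
      simp [j]
    rw [this, Scheme.Hom.comp_base, TopCat.coe_comp, Set.range_comp, h1, Set.image_univ,
      Scheme.Pullback.range_snd, Scheme.range_fromSpecResidueField]
  exact ⟨j.base, Scheme.Hom.isEmbedding j, hj⟩



/-- a subset containing a generic point of the whole space is irreducible. -/
theorem isIrreducible_of_mem_genericPoint {Y : Type*} [TopologicalSpace Y] (ζ : Y)
    (hζ : IsGenericPoint ζ (Set.univ : Set Y)) (S : Set Y) (hS : ζ ∈ S) : IsIrreducible S := by
  refine ⟨⟨ζ, hS⟩, ?_⟩
  intro U V hU hV hSU hSV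
  have h1 : ζ ∈ U := (hζ.mem_open_set_iff hU).mpr (by
    obtain ⟨y, -, hy⟩ := hSU; exact ⟨y, trivial, hy⟩)
  have h2 : ζ ∈ V := (hζ.mem_open_set_iff hV).mpr (by
    obtain ⟨y, -, hy⟩ := hSV; exact ⟨y, trivial, hy⟩)
  exact ⟨ζ, hS, h1, h2⟩

/-- all primes are maximal in an algebra integral over a field. -/
theorem isMaximal_of_isIntegral_field (K R : Type*) [Field K] [CommRing R] [Algebra K R]
    [Algebra.IsIntegral K R] (P : Ideal R) [P.IsPrime] : P.IsMaximal := by
  apply Ideal.isMaximal_of_isIntegral_of_isMaximal_comap (R := K) P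
  have : (P.comap (algebraMap K R)).IsPrime := inferInstance
  rw [Ideal.eq_bot_of_prime (P.comap (algebraMap K R))]
  exact Ideal.bot_isMaximal

/-- an irreducible spectrum of an algebra integral over a field is a point. -/
theorem subsingleton_primeSpectrum_of_irreducible (K R : Type*) [Field K] [CommRing R]
    [Algebra K R] [Algebra.IsIntegral K R] [IrreducibleSpace (PrimeSpectrum R)] :
    Subsingleton (PrimeSpectrum R) := by
  obtain ⟨η, hη⟩ := QuasiSober.sober (IrreducibleSpace.isIrreducible_univ (PrimeSpectrum R))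
    isClosed_univ
  have key : ∀ P : PrimeSpectrum R, P = η := by
    intro P
    have hsp : η ⤳ P := by
      rw [specializes_iff_mem_closure, hη.def]; trivial
    have hle : η ≤ P := (PrimeSpectrum.le_iff_specializes η P).mpr hsp
    haveI := isMaximal_of_isIntegral_field K R η.asIdeal
    have : η.asIdeal = P.asIdeal :=
      Ideal.IsMaximal.eq_of_le inferInstance P.2.ne_top hle
    exact (PrimeSpectrum.ext this).symm
  exact ⟨fun P Q => (key P).trans (key Q).symm⟩


open IntermediateField in
/-- if `Spec (K ⊗ k(a))` is irreducible, `a ∈ K` separable over `k`, then `a ∈ k`. -/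
theorem mem_range_of_irreducible_tensor (k K : Type u) [Field k] [Field K] [Algebra k K] (a : K)
    (ha : IsSeparable k a)
    (hirr : IrreducibleSpace (PrimeSpectrum (K ⊗[k] ↥(IntermediateField.adjoin k {a})))) :
    a ∈ Set.range (algebraMap k K) := by
  by_contra hna
  have hint : IsIntegral k a := ha.isIntegral
  have hdeg : 2 ≤ (minpoly k a).natDegree := by
    have h1 : (minpoly k a).natDegree ≠ 1 := fun h =>
      hna (by simpa using (minpoly.natDegree_eq_one_iff.mp h))
    have h0 : 0 < (minpoly k a).natDegree := minpoly.natDegree_pos hint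
    omega
  have hsplit : ((minpoly k a).map (algebraMap k (AlgebraicClosure K))).Splits :=
    IsAlgClosed.splits _
  have hcard : Fintype.card ((minpoly k a).rootSet (AlgebraicClosure K)) =
      (minpoly k a).natDegree := Polynomial.card_rootSet_eq_natDegree ha hsplit
  have ha_root : algebraMap K (AlgebraicClosure K) a ∈ (minpoly k a).rootSet (AlgebraicClosure K) := by
    rw [Polynomial.mem_rootSet]
    refine ⟨minpoly.ne_zero hint, ?_⟩
    rw [Polynomial.aeval_algebraMap_apply, minpoly.aeval, map_zero]
  have h1lt : 1 < Fintype.card ((minpoly k a).rootSet (AlgebraicClosure K)) := by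
    rw [hcard]; omega
  obtain ⟨⟨b, hb⟩, hne⟩ := Fintype.exists_ne_of_one_lt_card h1lt
    (⟨_, ha_root⟩ : (minpoly k a).rootSet (AlgebraicClosure K))
  have hne' : b ≠ algebraMap K (AlgebraicClosure K) a := fun h => hne (Subtype.ext h)
  have hb' : b ∈ (minpoly k a).aroots (AlgebraicClosure K) := by
    rw [Polynomial.mem_aroots]
    exact Polynomial.mem_rootSet.mp hb
  let ψ₁ : ↥(IntermediateField.adjoin k {a}) →ₐ[k] AlgebraicClosure K :=
    (IsScalarTower.toAlgHom k K (AlgebraicClosure K)).comp (IntermediateField.adjoin k {a}).val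
  let ψ₂ : ↥(IntermediateField.adjoin k {a}) →ₐ[k] AlgebraicClosure K :=
    (IntermediateField.algHomAdjoinIntegralEquiv k hint).symm ⟨b, hb'⟩
  let Ψ₁ : K ⊗[k] ↥(IntermediateField.adjoin k {a}) →ₐ[K] AlgebraicClosure K :=
    Algebra.TensorProduct.lift (Algebra.ofId K (AlgebraicClosure K)) ψ₁ (fun _ _ => Commute.all _ _)
  let Ψ₂ : K ⊗[k] ↥(IntermediateField.adjoin k {a}) →ₐ[K] AlgebraicClosure K :=
    Algebra.TensorProduct.lift (Algebra.ofId K (AlgebraicClosure K)) ψ₂ (fun _ _ => Commute.all _ _)
  let t : K ⊗[k] ↥(IntermediateField.adjoin k {a}) :=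
    a ⊗ₜ 1 - 1 ⊗ₜ (IntermediateField.AdjoinSimple.gen k a)
  have h1 : Ψ₁ t = 0 := by
    simp only [t, Ψ₁, map_sub, Algebra.TensorProduct.lift_tmul, map_one, mul_one, one_mul]
    simp [ψ₁, Algebra.ofId_apply]
  have h2 : Ψ₂ t ≠ 0 := by
    simp only [t, Ψ₂, map_sub, Algebra.TensorProduct.lift_tmul, map_one, mul_one, one_mul]
    rw [show ψ₂ (IntermediateField.AdjoinSimple.gen k a) = b from
      IntermediateField.algHomAdjoinIntegralEquiv_symm_apply_gen k hint _]
    rw [Algebra.ofId_apply, sub_ne_zero]
    exact hne'.symm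
  haveI : Algebra.IsAlgebraic k ↥(IntermediateField.adjoin k {a}) :=
    IntermediateField.isAlgebraic_adjoin_simple hint
  haveI : Algebra.IsIntegral k ↥(IntermediateField.adjoin k {a}) := inferInstance
  haveI := subsingleton_primeSpectrum_of_irreducible K (K ⊗[k] ↥(IntermediateField.adjoin k {a}))
  have heq : (⟨RingHom.ker Ψ₁.toRingHom, RingHom.ker_isPrime _⟩ :
      PrimeSpectrum (K ⊗[k] ↥(IntermediateField.adjoin k {a}))) =
      ⟨RingHom.ker Ψ₂.toRingHom, RingHom.ker_isPrime _⟩ := Subsingleton.elim _ _
  have heq' : RingHom.ker Ψ₁.toRingHom = RingHom.ker Ψ₂.toRingHom := congrArg (·.asIdeal) heq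
  have : t ∈ RingHom.ker Ψ₂.toRingHom := heq' ▸ (show t ∈ RingHom.ker Ψ₁.toRingHom from h1)
  exact h2 this



attribute [local instance] Curv2.resAlgebra


/-- the generic point of an irreducible component maps to the generic point of an irreducible
component, under a closed generalizing morphism. -/
theorem closure_image_generic_mem {Y : Scheme.{u}} (p : Y ⟶ X) (hcl : IsClosedMap p.base)
    (hgen : GeneralizingMap p.base) (z : Y) (hz : closure {z} ∈ irreducibleComponents ↥Y) :
    closure {p.base z} ∈ irreducibleComponents ↥X := by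
  have h := Groth.Agent.H1.GalActSch.image_mem_irreducibleComponents X p hcl hgen _ hz
  rwa [← hcl.closure_image_eq_of_continuous p.continuous, Set.image_singleton] at h

theorem irreducibleSpace_bc_of_geometricallyIrreducible
    [GeometricallyIrreducible (X ↘ Spec (CommRingCat.of k))] (K : Type u) [Field K]
    [Algebra k K] : IrreducibleSpace ↥(Curv2.bc k X K) := by
  have h : GeometricallyIrreducible (X ↘ Spec (CommRingCat.of k)) := inferInstance
  rw [GeometricallyIrreducible.eq_geometrically,
    geometrically_iff_of_commRing_of_isClosedUnderIsomorphisms] at h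
  exact h K

/-- the generic point of `X_K` lies over the generic point of `X`. -/
theorem bcFst_genericPoint [IrreducibleSpace X] (K : Type u) [Field K] [Algebra k K]
    [IrreducibleSpace ↥(Curv2.bc k X K)] :
    (Curv2.bcFst k X K).base (genericPoint ↥(Curv2.bc k X K)) = genericPoint X := by
  have h := (genericPoint_spec ↥(Curv2.bc k X K)).image (Curv2.bcFst k X K).continuous
  rw [Set.image_univ, Set.range_eq_univ.mpr (Curv2.bcFst k X K).surjective, closure_univ] at h
  exact h.eq (genericPoint_spec X)

theorem s1540_mp [IrreducibleSpace X]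
    [GeometricallyIrreducible (X ↘ (Spec (CommRingCat.of k)))]
    (a : X.residueField (genericPoint X)) (ha : IsSeparable k a) :
    a ∈ Set.range (algebraMap k (X.residueField (genericPoint X))) := by
  haveI := irreducibleSpace_bc_of_geometricallyIrreducible k X
    ↥(IntermediateField.adjoin k {a})
  obtain ⟨j, hj, hjr⟩ := exists_fibre_embedding k X (genericPoint X)
    (Curv2.resMap k X (genericPoint X))
    (Groth.Agent.H9.GZC.specMap_resMap k X (genericPoint X)) ↥(IntermediateField.adjoin k {a})
  have hirr : IsIrreducible (Set.range j) := by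
    rw [hjr]
    exact isIrreducible_of_mem_genericPoint _ (genericPoint_spec _) _
      (bcFst_genericPoint k X ↥(IntermediateField.adjoin k {a}))
  haveI : IrreducibleSpace (Set.range j) := isIrreducible_iff_irreducibleSpace.mp hirr
  haveI : IrreducibleSpace (PrimeSpectrum
      (X.residueField (genericPoint X) ⊗[k] ↥(IntermediateField.adjoin k {a}))) :=
    hj.toHomeomorph.irreducibleSpace_iff.mpr inferInstance
  exact mem_range_of_irreducible_tensor k (X.residueField (genericPoint X)) a ha inferInstance

theorem s1540_mpr [IrreducibleSpace X]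
    (h : ∀ a : X.residueField (genericPoint X), IsSeparable k a →
      a ∈ Set.range (algebraMap k (X.residueField (genericPoint X)))) :
    GeometricallyIrreducible (X ↘ (Spec (CommRingCat.of k))) := by
  apply s1539
  intro k' _ _ _ _
  obtain ⟨j, hj, hjr⟩ := exists_fibre_embedding k X (genericPoint X)
    (Curv2.resMap k X (genericPoint X))
    (Groth.Agent.H9.GZC.specMap_resMap k X (genericPoint X)) k'
  have hF : IsField (k' ⊗[k] X.residueField (genericPoint X)) :=
    Groth.Agent.H1.SepClosedIn.isField_tensor_of_isSeparable h k'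
  have hF' : IsField (X.residueField (genericPoint X) ⊗[k] k') :=
    (Algebra.TensorProduct.comm k (X.residueField (genericPoint X)) k').toMulEquiv.isField hF
  haveI : Subsingleton (PrimeSpectrum (X.residueField (genericPoint X) ⊗[k] k')) := by
    letI := hF'.toField
    infer_instance
  have hsub : ((Curv2.bcFst k X k').base ⁻¹' {genericPoint X}).Subsingleton := by
    rw [← hjr]
    rintro _ ⟨a, rfl⟩ _ ⟨b, rfl⟩
    rw [Subsingleton.elim a b]
  obtain ⟨ζ, hζ⟩ := (Curv2.bcFst k X k').surjective (genericPoint X)
  haveI : Algebra.IsAlgebraic k k' := Algebra.IsAlgebraic.of_finite k k'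
  -- every irreducible component is the closure of ζ
  have hcomp : ∀ y : ↥(Curv2.bc k X k'), y ∈ closure {ζ} := by
    intro y
    have hZ := irreducibleComponent_mem_irreducibleComponents y
    obtain ⟨z, hz⟩ := QuasiSober.sober hZ.1 (isClosed_of_mem_irreducibleComponents _ hZ)
    have h1 : closure {(Curv2.bcFst k X k').base z} ∈ irreducibleComponents ↥X :=
      closure_image_generic_mem X (Curv2.bcFst k X k') (Curv2.bcFst k X k').isClosedMap
        (Flat.generalizingMap _) z (hz.def ▸ hZ)
    rw [irreducibleComponents_eq_singleton, Set.mem_singleton_iff] at h1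
    have h2 : (Curv2.bcFst k X k').base z = genericPoint X :=
      IsGenericPoint.eq h1 (genericPoint_spec X)
    have h3 : z = ζ := hsub h2 hζ
    rw [← h3, hz.def]
    exact mem_irreducibleComponent
  have huniv : closure {ζ} = Set.univ := Set.eq_univ_of_forall hcomp
  rw [irreducibleSpace_def]
  show IsIrreducible (Set.univ : Set ↥(Curv2.bc k X k'))
  rw [← huniv]
  exact isIrreducible_singleton.closure

theorem s1540 (k : Type u) [Field k] (X : Scheme.{u}) [X.Over (Spec (CommRingCat.of k))] [IrreducibleSpace X] :
    GeometricallyIrreducible (X ↘ (Spec (CommRingCat.of k))) ↔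
      ∀ a : X.residueField (genericPoint X), IsSeparable k a → a ∈ Set.range (algebraMap k (X.residueField (genericPoint X))) :=
  ⟨fun _ a ha => s1540_mp k X a ha, s1540_mpr k X⟩

end Groth.Agent.H1.GenFibre
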