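import Mathlib

/-!
# Generic freeness, core step (Groebner style)

For a reduced ring `R`, an ideal `J` of a polynomial ring `R[x₁..xₙ]` and a nonzero `g : R`, we find
a nonzero multiple `F = g * f` and a finite subset `G ⊆ J` which is a "Groebner basis of `J` over
`R[1/F]`": up to `F`-power torsion `J` is generated by `G`, and the monomials not divisible by a
leading monomial of `G` form a basis of `R[x]/J` up to `F`-power torsion.
-/

set_option autoImplicit false

namespace Groth.Agent.H1.GenFree

open MvPolynomial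
open scoped MonomialOrder

variable {σ : Type*} {R : Type*} [CommRing R] (m : MonomialOrder σ)

/-- Pseudo-division by a family of polynomials whose leading coefficients all divide `f`:
after multiplying by a power of `f`, any polynomial is a combination of the family plus a
remainder none of whose monomials is divisible by a leading monomial of the family. -/
theorem pdiv {ι : Type*} (b : ι → MvPolynomial σ R) (f : R)
    (hb : ∀ i, m.leadingCoeff (b i) ∣ f) (p : MvPolynomial σ R) :
    ∃ (j : ℕ) (q : ι →₀ MvPolynomial σ R) (r : MvPolynomial σ R),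
      f ^ j • p = Finsupp.linearCombination _ b q + r ∧
      ∀ c ∈ r.support, ∀ i, ¬ (m.degree (b i) ≤ c) := by
  obtain ⟨d, hd⟩ : ∃ d, d = m.toSyn (m.degree p) := ⟨_, rfl⟩
  induction d using WellFoundedLT.induction generalizing p with
  | ind d ih =>
  have key : ∀ p' : MvPolynomial σ R, (p' = 0 ∨ m.toSyn (m.degree p') < d) →
      ∃ (j : ℕ) (q : ι →₀ MvPolynomial σ R) (r : MvPolynomial σ R),
      f ^ j • p' = Finsupp.linearCombination _ b q + r ∧
      ∀ c ∈ r.support, ∀ i, ¬ (m.degree (b i) ≤ c) := by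
    rintro p' (rfl | h)
    · exact ⟨0, 0, 0, by simp, by simp⟩
    · exact ih _ h p' rfl
  by_cases hex : ∃ i, m.degree (b i) ≤ m.degree p
  · obtain ⟨i, hi⟩ := hex
    obtain ⟨e, he⟩ := hb i
    set t : MvPolynomial σ R := monomial (m.degree p - m.degree (b i)) (e * m.leadingCoeff p)
      with ht
    set p₁ : MvPolynomial σ R := f • p - t * b i with hp₁
    have hdeg : m.degree p = (m.degree p - m.degree (b i)) + m.degree (b i) :=
      (tsub_add_cancel_of_le hi).symm
    have hcoeff : coeff (m.degree p) p₁ = 0 := by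
      rw [hp₁, coeff_sub, coeff_smul]
      nth_rw 2 [hdeg]
      rw [ht, coeff_monomial_mul]
      change f * m.leadingCoeff p - e * m.leadingCoeff p * m.leadingCoeff (b i) = 0
      rw [he]; ring
    have hle : m.degree p₁ ≼[m] m.degree p := by
      refine le_trans MonomialOrder.degree_sub_le ?_
      simp only [sup_le_iff]
      refine ⟨MonomialOrder.degree_smul_le, ?_⟩
      refine le_trans MonomialOrder.degree_mul_le ?_
      conv_rhs => rw [hdeg]
      rw [map_add, map_add]
      exact add_le_add (MonomialOrder.degree_monomial_le _) le_rfl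
    have h1 : p₁ = 0 ∨ m.toSyn (m.degree p₁) < d := by
      by_cases h0 : p₁ = 0
      · exact Or.inl h0
      · right
        rw [hd]
        refine lt_of_le_of_ne hle ?_
        intro heq
        have heq' : m.degree p₁ = m.degree p := m.toSyn.injective heq
        apply h0
        rw [← MonomialOrder.leadingCoeff_eq_zero_iff (m := m)]
        change coeff (m.degree p₁) p₁ = 0
        rw [heq']; exact hcoeff
    obtain ⟨j, q, r, hq, hr⟩ := key p₁ h1
    refine ⟨j + 1, q + Finsupp.single i (f ^ j • t), r, ?_, hr⟩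
    have : f ^ (j + 1) • p = f ^ j • p₁ + (f ^ j • t) * b i := by
      rw [hp₁, smul_sub, pow_succ, mul_smul, smul_mul_assoc]; abel
    rw [this, hq, map_add, Finsupp.linearCombination_single, smul_eq_mul]
    abel
  · push_neg at hex
    set p₁ : MvPolynomial σ R := m.subLTerm p with hp₁
    have h1 : p₁ = 0 ∨ m.toSyn (m.degree p₁) < d := by
      by_cases h0 : m.degree p = 0
      · left
        rw [hp₁, MonomialOrder.subLTerm, sub_eq_zero]
        conv_lhs => rw [MonomialOrder.eq_C_of_degree_eq_zero h0]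
        rw [h0]; rfl
      · right
        rw [hd]
        exact MonomialOrder.degree_sub_LTerm_lt h0
    obtain ⟨j, q, r, hq, hr⟩ := key p₁ h1
    refine ⟨j, q, r + f ^ j • monomial (m.degree p) (m.leadingCoeff p), ?_, ?_⟩
    · have : p = p₁ + monomial (m.degree p) (m.leadingCoeff p) := by
        rw [hp₁, MonomialOrder.subLTerm]; abel
      conv_lhs => rw [this]
      rw [smul_add, hq]; abel
    · intro c hc i
      classical
      have := MvPolynomial.support_add hc
      rw [Finset.mem_union] at this
      rcases this with h | h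
      · exact hr c h i
      · have h' := MvPolynomial.support_smul h
        have h'' := MvPolynomial.support_monomial_subset h'
        rw [Finset.mem_singleton] at h''
        rw [h'']; exact hex i

theorem exists_refine [IsReduced R] (A : Finset R) (g : R) (hg : g ≠ 0) :
    ∃ t : R, g * t ≠ 0 ∧ ∀ a ∈ A, (g * t) * a = 0 ∨ a ∣ g * t := by
  classical
  induction A using Finset.induction_on generalizing g with
  | empty => exact ⟨1, by simpa, by simp⟩
  | insert a A ha ih =>
    by_cases h : g * a = 0
    · obtain ⟨t, ht, hA⟩ := ih g hg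
      refine ⟨t, ht, ?_⟩
      intro x hx; rw [Finset.mem_insert] at hx
      rcases hx with rfl | hx
      · left; rw [mul_right_comm, h, zero_mul]
      · exact hA x hx
    · obtain ⟨t, ht, hA⟩ := ih (g * a) h
      refine ⟨a * t, by rwa [← mul_assoc], ?_⟩
      intro x hx; rw [Finset.mem_insert] at hx
      rw [← mul_assoc]
      rcases hx with rfl | hx
      · right; exact ⟨g * t, by ring⟩
      · exact hA x hx

/-- the "standard" condition: no monomial of `r` is divisible by a leading monomial of `G`. -/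
def Std (G : Finset (MvPolynomial σ R)) (r : MvPolynomial σ R) : Prop :=
  ∀ c ∈ r.support, ∀ b ∈ G, ¬ m.degree b ≤ c

theorem exists_groebner_aux [IsReduced R] [Finite σ] (J : Ideal (MvPolynomial σ R)) :
    ∀ (I : Ideal (MvPolynomial σ ℤ)) (g : R) (G : Finset (MvPolynomial σ R)), g ≠ 0 →
      ((G : Set (MvPolynomial σ R)) ⊆ (J : Set (MvPolynomial σ R))) → (∀ b ∈ G, m.leadingCoeff b ∣ g) →
      Ideal.span ((fun s => monomial s (1 : ℤ)) '' (m.degree '' (G : Set (MvPolynomial σ R)))) = I →
      ∃ (f : R) (G' : Finset (MvPolynomial σ R)), g * f ≠ 0 ∧ ((G' : Set (MvPolynomial σ R)) ⊆ (J : Set (MvPolynomial σ R))) ∧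
        (∀ b ∈ G', m.leadingCoeff b ∣ g * f) ∧
        ∀ r ∈ J, Std m G' r → (g * f) • r = 0 := by
  classical
  intro I
  induction I using WellFoundedGT.induction with
  | ind I ih =>
  intro g G hg hGJ hlc hI
  by_cases hstd : ∀ r ∈ J, Std m G r → g • r = 0
  · exact ⟨1, G, by simpa using hg, hGJ, by simpa using hlc, by simpa using hstd⟩
  push_neg at hstd
  obtain ⟨r, hrJ, hrstd, hr0⟩ := hstd
  obtain ⟨c₀, hc₀⟩ : ∃ c₀, g * coeff c₀ r ≠ 0 := by
    by_contra hcon
    push_neg at hcon
    apply hr0
    ext c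
    rw [coeff_smul, smul_eq_mul, hcon c, coeff_zero]
  obtain ⟨t, ht, hA⟩ := exists_refine (r.support.image (fun c => coeff c r)) _ hc₀
  set g₁ : R := g * coeff c₀ r * t with hg₁
  have hA' : ∀ c, g₁ * coeff c r ≠ 0 → coeff c r ∣ g₁ := by
    intro c hc
    have hcs : c ∈ r.support := by
      rw [mem_support_iff]; intro h0; apply hc; rw [h0, mul_zero]
    rcases hA (coeff c r) (Finset.mem_image_of_mem _ hcs) with h | h
    · exact absurd h hc
    · exact h
  have hsq : ∀ x : R, x * x = 0 → x = 0 := fun x hx =>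
    IsNilpotent.eq_zero ⟨2, by rw [pow_two, hx]⟩
  have hP₀ : g₁ * coeff c₀ r ≠ 0 := by
    intro h0
    apply ht
    apply hsq
    have : g₁ * g₁ = (g₁ * coeff c₀ r) * (g * t) := by rw [hg₁]; ring
    rw [this, h0, zero_mul]
  set r' : MvPolynomial σ R :=
    ∑ c ∈ r.support.filter (fun c => g₁ * coeff c r ≠ 0), monomial c (coeff c r) with hr'
  have hcoeff' : ∀ c, coeff c r' = if g₁ * coeff c r ≠ 0 then coeff c r else 0 := by
    intro c
    rw [hr', coeff_sum]
    simp only [coeff_monomial]
    rw [Finset.sum_ite_eq']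
    by_cases h : g₁ * coeff c r ≠ 0
    · have hcs : c ∈ r.support := by
        rw [mem_support_iff]; intro h0; apply h; rw [h0, mul_zero]
      rw [if_pos (Finset.mem_filter.mpr ⟨hcs, h⟩), if_pos h]
    · have hn : c ∉ r.support.filter (fun c => g₁ * coeff c r ≠ 0) := by
        intro hh; exact h (Finset.mem_filter.mp hh).2
      rw [if_neg hn, if_neg h]
  have hsmul : g₁ • r' = g₁ • r := by
    ext c
    rw [coeff_smul, coeff_smul, hcoeff']
    by_cases h : g₁ * coeff c r ≠ 0
    · rw [if_pos h]
    · rw [if_neg h, smul_zero]; push_neg at h; rw [smul_eq_mul, h]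
  have hsupp' : ∀ c ∈ r'.support, g₁ * coeff c r ≠ 0 ∧ coeff c r' = coeff c r := by
    intro c hc
    rw [mem_support_iff, hcoeff'] at hc
    by_cases h : g₁ * coeff c r ≠ 0
    · exact ⟨h, by rw [hcoeff', if_pos h]⟩
    · rw [if_neg h] at hc; exact absurd rfl hc
  have hr'0 : r' ≠ 0 := by
    intro h0
    have := hcoeff' c₀
    rw [if_pos hP₀, h0, coeff_zero] at this
    apply hP₀; rw [← this, mul_zero]
  set d' := m.degree r' with hd'
  have hd's : d' ∈ r'.support := m.degree_mem_support hr'0
  obtain ⟨hPd', hcd'⟩ := hsupp' d' hd's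
  obtain ⟨b', hb'⟩ : ∃ b' : MvPolynomial σ R, b' = g₁ • r' := ⟨_, rfl⟩
  have hb'J : b' ∈ J := by
    rw [hb', hsmul, smul_eq_C_mul]; exact J.mul_mem_left _ hrJ
  have hcb' : coeff d' b' = g₁ * coeff d' r := by
    rw [hb', coeff_smul, hcd', smul_eq_mul]
  have hdegb' : m.degree b' = d' := by
    apply m.toSyn.injective
    apply le_antisymm
    · rw [hb']; exact MonomialOrder.degree_smul_le (m := m) (r := g₁) (f := r')
    · apply MonomialOrder.le_degree
      rw [mem_support_iff, hcb']; exact hPd'
  have hlcb' : m.leadingCoeff b' ∣ g₁ * g₁ := by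
    change coeff (m.degree b') b' ∣ _
    rw [hdegb', hcb']
    exact mul_dvd_mul_left _ (hA' d' hPd')
  have hg₂ : g₁ * g₁ ≠ 0 := fun h => ht (hsq _ h)
  have hstd' : ∀ b ∈ G, ¬ m.degree b ≤ d' := by
    intro b hb
    apply hrstd d' _ b hb
    rw [mem_support_iff]; intro h0; apply hPd'; rw [h0, mul_zero]
  have hlt : I < Ideal.span ((fun s => monomial s (1 : ℤ)) ''
      (m.degree '' ((insert b' G : Finset (MvPolynomial σ R)) : Set (MvPolynomial σ R)))) := by
    rw [← hI]
    refine lt_of_le_of_ne (Ideal.span_mono (Set.image_mono (Set.image_mono ?_))) ?_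
    · intro x hx; simp only [Finset.coe_insert, Set.mem_insert_iff]; exact Or.inr hx
    · intro heq
      have hmem : monomial d' (1 : ℤ) ∈ Ideal.span ((fun s => monomial s (1 : ℤ)) ''
          (m.degree '' ((insert b' G : Finset (MvPolynomial σ R)) : Set (MvPolynomial σ R)))) := by
        apply Ideal.subset_span
        refine ⟨d', ⟨b', by simp, hdegb'⟩, rfl⟩
      rw [← heq, mem_ideal_span_monomial_image] at hmem
      obtain ⟨si, ⟨b, hb, rfl⟩, hle⟩ := hmem d' (by
        rw [mem_support_iff, coeff_monomial, if_pos rfl]; exact one_ne_zero)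
      exact hstd' b hb hle
  obtain ⟨f', G'', hf', hG''J, hlc'', hstd''⟩ := ih _ hlt (g₁ * g₁) (insert b' G) hg₂
    (by
      intro x hx
      simp only [Finset.coe_insert, Set.mem_insert_iff] at hx
      rcases hx with rfl | hx
      · exact hb'J
      · exact hGJ hx)
    (by
      intro b hb
      rw [Finset.mem_insert] at hb
      rcases hb with rfl | hb
      · exact hlcb'
      · exact (hlc b hb).trans ⟨coeff c₀ r * t * g₁, by rw [hg₁]; ring⟩)
    rfl
  have hgf : g * (coeff c₀ r * t * g₁ * f') = g₁ * g₁ * f' := by rw [hg₁]; ring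
  exact ⟨coeff c₀ r * t * g₁ * f', G'', by rwa [hgf], hG''J, by rwa [hgf], by rwa [hgf]⟩


theorem exists_groebner [IsReduced R] [Finite σ] (J : Ideal (MvPolynomial σ R)) (g : R)
    (hg : g ≠ 0) :
    ∃ (f : R) (G : Finset (MvPolynomial σ R)), g * f ≠ 0 ∧
      ((G : Set (MvPolynomial σ R)) ⊆ (J : Set (MvPolynomial σ R))) ∧
      (∀ h ∈ J, ∃ j : ℕ, (g * f) ^ j • h ∈ Ideal.span (G : Set (MvPolynomial σ R))) ∧
      (∀ p : MvPolynomial σ R, ∃ (j : ℕ) (r : MvPolynomial σ R),
        Std m G r ∧ (g * f) ^ j • p - r ∈ J) ∧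
      (∀ r ∈ J, Std m G r → (g * f) • r = 0) := by
  obtain ⟨f, G, hf, hGJ, hlc, hstd⟩ := exists_groebner_aux m J _ g ∅ hg (by simp) (by simp) rfl
  refine ⟨f, G, hf, hGJ, ?_, ?_, hstd⟩
  · intro h hh
    obtain ⟨j, q, r, hq, hr⟩ := pdiv m (fun b : G => (b : MvPolynomial σ R)) (g * f)
      (fun b => hlc b b.2) h
    have hlcmem : Finsupp.linearCombination (MvPolynomial σ R)
        (fun b : G => (b : MvPolynomial σ R)) q ∈ Ideal.span (G : Set (MvPolynomial σ R)) := by
      rw [Finsupp.linearCombination_apply]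
      refine Submodule.sum_mem _ (fun b _ => ?_)
      exact Submodule.smul_mem _ _ (Ideal.subset_span b.2)
    have hrJ : r ∈ J := by
      have : r = (g * f) ^ j • h - Finsupp.linearCombination (MvPolynomial σ R)
          (fun b : G => (b : MvPolynomial σ R)) q := by rw [hq]; abel
      rw [this]
      refine J.sub_mem ?_ (Ideal.span_le.mpr hGJ hlcmem)
      rw [smul_eq_C_mul]; exact J.mul_mem_left _ hh
    have hr0 := hstd r hrJ (fun c hc b hb => hr c hc ⟨b, hb⟩)
    refine ⟨j + 1, ?_⟩
    rw [pow_succ', mul_smul, hq, smul_add, hr0, add_zero, smul_eq_C_mul]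
    exact Ideal.mul_mem_left _ _ hlcmem
  · intro p
    obtain ⟨j, q, r, hq, hr⟩ := pdiv m (fun b : G => (b : MvPolynomial σ R)) (g * f)
      (fun b => hlc b b.2) p
    refine ⟨j, r, fun c hc b hb => hr c hc ⟨b, hb⟩, ?_⟩
    rw [hq, add_sub_cancel_right, Finsupp.linearCombination_apply]
    refine Submodule.sum_mem _ (fun b _ => ?_)
    exact Submodule.smul_mem _ _ (hGJ b.2)

end Groth.Agent.H1.GenFree
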