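import Groth.Agent.Lib.Helper1.GenFreeCore

/-!
# Generic freeness: modules (elementwise formulation)

`GenFreeAt R M f`: there is a free `R`-module `N` and a linear map `N → M` whose kernel and
cokernel are `f`-power torsion (so `M[1/f]` is free over `R[1/f]`).
`FPAt S M s`: there is a finite free `S`-module `F` and a surjection `F → M` whose kernel is
finitely generated up to `s`-power torsion (so `M[1/s]` is finitely presented over `S[1/s]`).

Main result `main`: `R` reduced, `S` a quotient of a polynomial ring in finitely many variables,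
`M` a finite `S`-module, `g ≠ 0` in `R`; then there is `f` with `g * f ≠ 0` and `M` generically
free and finitely presented at `g * f`.
-/

set_option autoImplicit false

universe u

namespace Groth.Agent.H1.GenFree

open MvPolynomial

section Defs

variable {A : Type*} [CommRing A] {N M : Type*} [AddCommGroup N] [Module A N]
  [AddCommGroup M] [Module A M]

/-- the kernel of `Φ` is `a`-power torsion -/
def TorsKer (a : A) (Φ : N →ₗ[A] M) : Prop := ∀ x, Φ x = 0 → ∃ j : ℕ, a ^ j • x = 0

/-- the cokernel of `Φ` is `a`-power torsion -/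
def TorsCoker (a : A) (Φ : N →ₗ[A] M) : Prop := ∀ y, ∃ (j : ℕ) (x : N), a ^ j • y = Φ x

/-- `K` is finitely generated up to `a`-power torsion -/
def FFG (a : A) (K : Submodule A M) : Prop :=
  ∃ K' : Submodule A M, K'.FG ∧ K' ≤ K ∧ ∀ x ∈ K, ∃ j : ℕ, a ^ j • x ∈ K'

theorem TorsKer.mul_right {a : A} {Φ : N →ₗ[A] M} (h : TorsKer a Φ) (b : A) :
    TorsKer (a * b) Φ := by
  intro x hx
  obtain ⟨j, hj⟩ := h x hx
  exact ⟨j, by rw [mul_pow, mul_comm, mul_smul, hj, smul_zero]⟩

theorem TorsCoker.mul_right {a : A} {Φ : N →ₗ[A] M} (h : TorsCoker a Φ) (b : A) :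
    TorsCoker (a * b) Φ := by
  intro y
  obtain ⟨j, x, hj⟩ := h y
  exact ⟨j, b ^ j • x, by rw [mul_pow, mul_comm, mul_smul, hj, map_smul]⟩

theorem FFG.mul_right {a : A} {K : Submodule A M} (h : FFG a K) (b : A) : FFG (a * b) K := by
  obtain ⟨K', hfg, hle, hK'⟩ := h
  refine ⟨K', hfg, hle, fun x hx => ?_⟩
  obtain ⟨j, hj⟩ := hK' x hx
  exact ⟨j, by rw [mul_pow, mul_comm, mul_smul]; exact K'.smul_mem _ hj⟩

end Defs

/-- `M` becomes free over `R[1/f]` after inverting `f`. -/
def GenFreeAt (R : Type u) [CommRing R] (M : Type u) [AddCommGroup M] [Module R M] (f : R) :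
    Prop :=
  ∃ (N : Type u) (_ : AddCommGroup N) (_ : Module R N) (_ : Module.Free R N) (Φ : N →ₗ[R] M),
    TorsKer f Φ ∧ TorsCoker f Φ

/-- `M` becomes finitely presented over `S[1/s]` after inverting `s`. -/
def FPAt (S : Type u) [CommRing S] (M : Type u) [AddCommGroup M] [Module S M] (s : S) : Prop :=
  ∃ (F : Type u) (_ : AddCommGroup F) (_ : Module S F) (_ : Module.Free S F)
    (_ : Module.Finite S F) (π : F →ₗ[S] M), Function.Surjective π ∧ FFG s (LinearMap.ker π)

theorem GenFreeAt.mul_right {R : Type u} [CommRing R] {M : Type u} [AddCommGroup M] [Module R M]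
    {f : R} (h : GenFreeAt R M f) (g : R) : GenFreeAt R M (f * g) := by
  obtain ⟨N, i1, i2, i3, Φ, hk, hc⟩ := h
  exact ⟨N, i1, i2, i3, Φ, hk.mul_right g, hc.mul_right g⟩

theorem FPAt.mul_right {S : Type u} [CommRing S] {M : Type u} [AddCommGroup M] [Module S M]
    {s : S} (h : FPAt S M s) (t : S) : FPAt S M (s * t) := by
  obtain ⟨F, i1, i2, i3, i4, π, hπ, hk⟩ := h
  exact ⟨F, i1, i2, i3, i4, π, hπ, hk.mul_right t⟩

theorem GenFreeAt.of_exact {R : Type u} [CommRing R] {M' M M'' : Type u}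
    [AddCommGroup M'] [Module R M'] [AddCommGroup M] [Module R M] [AddCommGroup M''] [Module R M'']
    (i : M' →ₗ[R] M) (p : M →ₗ[R] M'') (hi : Function.Injective i) (hp : Function.Surjective p)
    (hex : Function.Exact i p) {f : R} (h' : GenFreeAt R M' f) (h'' : GenFreeAt R M'' f) :
    GenFreeAt R M f := by
  obtain ⟨N', _, _, _, Φ', hk', hc'⟩ := h'
  obtain ⟨N'', _, _, _, Φ'', hk'', hc''⟩ := h''
  obtain ⟨l, hl⟩ := Module.projective_lifting_property p Φ'' hp
  have hl' : ∀ x, p (l x) = Φ'' x := fun x => LinearMap.congr_fun hl x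
  have hpi : ∀ x, p (i x) = 0 := fun x => (hex (i x)).mpr ⟨x, rfl⟩
  refine ⟨N' × N'', inferInstance, inferInstance, inferInstance, (i ∘ₗ Φ').coprod l, ?_, ?_⟩
  · rintro ⟨x', x''⟩ hx
    rw [LinearMap.coprod_apply, LinearMap.comp_apply] at hx
    have h1 : Φ'' x'' = 0 := by
      have := congrArg p hx
      rwa [map_add, hpi, zero_add, hl', map_zero] at this
    obtain ⟨j, hj⟩ := hk'' x'' h1
    have h2 : Φ' (f ^ j • x') = 0 := by
      apply hi
      have := congrArg (fun y => f ^ j • y) hx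
      simp only [smul_add, smul_zero] at this
      rw [← map_smul, ← map_smul, ← map_smul, hj, map_zero, add_zero] at this
      rw [this, map_zero]
    obtain ⟨k, hk⟩ := hk' _ h2
    refine ⟨k + j, ?_⟩
    rw [Prod.smul_mk, pow_add, mul_smul, mul_smul, hk, hj, smul_zero]
    rfl
  · intro y
    obtain ⟨j, x'', hj⟩ := hc'' (p y)
    have h1 : p (f ^ j • y - l x'') = 0 := by
      rw [map_sub, map_smul, hj, hl', sub_self]
    obtain ⟨y', hy'⟩ := (hex _).mp h1
    obtain ⟨k, x', hk⟩ := hc' y'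
    refine ⟨k + j, (x', f ^ k • x''), ?_⟩
    rw [LinearMap.coprod_apply, LinearMap.comp_apply, ← hk, map_smul, hy', map_smul, pow_add,
      mul_smul, smul_sub]
    abel

theorem FPAt.of_exact {S : Type u} [CommRing S] {M' M M'' : Type u}
    [AddCommGroup M'] [Module S M'] [AddCommGroup M] [Module S M] [AddCommGroup M''] [Module S M'']
    (i : M' →ₗ[S] M) (p : M →ₗ[S] M'') (hi : Function.Injective i) (hp : Function.Surjective p)
    (hex : Function.Exact i p) {s : S} (h' : FPAt S M' s) (h'' : FPAt S M'' s) :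
    FPAt S M s := by
  classical
  obtain ⟨F', _, _, _, _, π', hπ', K', hK'fg, hK'le, hK'⟩ := h'
  obtain ⟨F'', _, _, _, _, π'', hπ'', K'', hK''fg, hK''le, hK''⟩ := h''
  obtain ⟨l, hl⟩ := Module.projective_lifting_property p π'' hp
  have hl' : ∀ x, p (l x) = π'' x := fun x => LinearMap.congr_fun hl x
  have hpi : ∀ x, p (i x) = 0 := fun x => (hex (i x)).mpr ⟨x, rfl⟩
  set π : F' × F'' →ₗ[S] M := (i ∘ₗ π').coprod l with hπdef
  have hπapp : ∀ x' x'', π (x', x'') = i (π' x') + l x'' := fun x' x'' => by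
    rw [hπdef, LinearMap.coprod_apply, LinearMap.comp_apply]
  -- for each element of ker π'' choose a first coordinate
  have hch : ∀ x'' : F'', π'' x'' = 0 → ∃ y' : F', π (y', x'') = 0 := by
    intro x'' hx''
    have h1 : p (l x'') = 0 := by rw [hl', hx'']
    obtain ⟨m', hm'⟩ := (hex _).mp h1
    obtain ⟨y', hy'⟩ := hπ' m'
    refine ⟨-y', ?_⟩
    rw [hπapp, map_neg, hy', map_neg, hm', neg_add_cancel]
  obtain ⟨T'', hT''⟩ := hK''fg
  choose! y' hy' using hch
  set K : Submodule S (F' × F'') :=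
    K'.map (LinearMap.inl S F' F'') ⊔ Submodule.span S ((fun t => (y' t, t)) '' (T'' : Set F''))
    with hKdef
  have hT''ker : ∀ t ∈ T'', π'' t = 0 := by
    intro t ht
    have : t ∈ K'' := by rw [← hT'']; exact Submodule.subset_span ht
    exact hK''le this
  have hKle : K ≤ LinearMap.ker π := by
    rw [hKdef, sup_le_iff]
    constructor
    · rintro _ ⟨x', hx', rfl⟩
      rw [LinearMap.mem_ker, LinearMap.inl_apply, hπapp, map_zero, add_zero,
        (hK'le hx' : π' x' = 0), map_zero]
    · rw [Submodule.span_le]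
      rintro _ ⟨t, ht, rfl⟩
      exact hy' t (hT''ker t ht)
  have hspan : ∀ x'' ∈ Submodule.span S (T'' : Set F''), ∃ z : F', (z, x'') ∈ K := by
    intro x'' hx''
    induction hx'' using Submodule.span_induction with
    | mem t ht =>
      exact ⟨y' t, Submodule.mem_sup_right (Submodule.subset_span ⟨t, ht, rfl⟩)⟩
    | zero => exact ⟨0, K.zero_mem⟩
    | add a b _ _ ha hb =>
      obtain ⟨za, hza⟩ := ha
      obtain ⟨zb, hzb⟩ := hb
      exact ⟨za + zb, by simpa using K.add_mem hza hzb⟩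
    | smul c a _ ha =>
      obtain ⟨za, hza⟩ := ha
      exact ⟨c • za, by simpa using K.smul_mem c hza⟩
  refine ⟨F' × F'', inferInstance, inferInstance, inferInstance, inferInstance, π, ?_, K, ?_,
    hKle, ?_⟩
  · intro y
    obtain ⟨x'', hx''⟩ := hπ'' (p y)
    have h1 : p (y - l x'') = 0 := by rw [map_sub, hl', hx'', sub_self]
    obtain ⟨m', hm'⟩ := (hex _).mp h1
    obtain ⟨x', hx'⟩ := hπ' m'
    refine ⟨(x', x''), ?_⟩
    rw [hπapp, hx', hm']; abel
  · rw [hKdef]
    exact Submodule.FG.sup (hK'fg.map _) (Submodule.fg_span (Set.Finite.image _ T''.finite_toSet))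
  · rintro ⟨x', x''⟩ hx
    rw [LinearMap.mem_ker, hπapp] at hx
    have h1 : π'' x'' = 0 := by
      have := congrArg p hx
      rwa [map_add, hpi, zero_add, hl', map_zero] at this
    obtain ⟨j, hj⟩ := hK'' x'' h1
    rw [← hT''] at hj
    obtain ⟨z, hz⟩ := hspan _ hj
    have hz0 : π (z, s ^ j • x'') = 0 := hKle hz
    have h2 : π' (s ^ j • x' - z) = 0 := by
      apply hi
      rw [map_zero]
      have e1 : i (π' (s ^ j • x' - z)) =
          s ^ j • (i (π' x') + l x'') - (i (π' z) + l (s ^ j • x'')) := by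
        simp only [map_sub, map_smul, smul_add]
        abel
      rw [e1, hx, smul_zero, ← hπapp, hz0, sub_zero]
    obtain ⟨k, hk⟩ := hK' _ h2
    refine ⟨k + j, ?_⟩
    have : s ^ (k + j) • ((x', x'') : F' × F'') =
        LinearMap.inl S F' F'' (s ^ k • (s ^ j • x' - z)) + s ^ k • (z, s ^ j • x'') := by
      rw [LinearMap.inl_apply, Prod.smul_mk, Prod.smul_mk, Prod.mk_add_mk, zero_add, pow_add,
        mul_smul, mul_smul, smul_sub]
      congr 1
      abel
    rw [this]
    exact K.add_mem (Submodule.mem_sup_left ⟨_, hk, rfl⟩) (K.smul_mem _ hz)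

section Main

variable {R S : Type u} [CommRing R] [CommRing S] [Algebra R S]

theorem cyclic [IsReduced R] {n : ℕ} (φ : MvPolynomial (Fin n) R →ₐ[R] S)
    (hφ : Function.Surjective φ)
    (M : Type u) [AddCommGroup M] [Module S M] [Module R M] [IsScalarTower R S M]
    (x₀ : M) (hx₀ : ∀ x : M, ∃ s : S, s • x₀ = x) (g : R) (hg : g ≠ 0) :
    ∃ f : R, g * f ≠ 0 ∧ GenFreeAt R M (g * f) ∧ FPAt S M (algebraMap R S (g * f)) ∧
      ∃ G : Finset (MvPolynomial (Fin n) R), (∀ b ∈ G, φ b • x₀ = 0) ∧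
        ∀ h : MvPolynomial (Fin n) R, φ h • x₀ = 0 →
          ∃ j : ℕ, (g * f) ^ j • h ∈ Ideal.span (G : Set (MvPolynomial (Fin n) R)) := by
  classical
  set J : Ideal (MvPolynomial (Fin n) R) :=
    Ideal.comap φ (Submodule.span S {x₀}).annihilator with hJ
  have hJmem : ∀ p, p ∈ J ↔ φ p • x₀ = 0 := fun p => by
    rw [hJ, Ideal.mem_comap, Submodule.mem_annihilator_span_singleton]
  obtain ⟨f, G, hf, hGJ, h1, h2, h3⟩ := exists_groebner (MonomialOrder.lex) J g hg
  refine ⟨f, hf, ?_, ?_, G, fun b hb => (hJmem b).mp (hGJ hb),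
    fun h hh => h1 h ((hJmem h).mpr hh)⟩
  · -- generic freeness
    set St : Set (Fin n →₀ ℕ) := {c | ∀ b ∈ G, ¬ MonomialOrder.lex.degree b ≤ c} with hSt
    let N := restrictSupport R St
    let Φ : N →ₗ[R] M :=
      ((LinearMap.toSpanSingleton S M x₀).restrictScalars R) ∘ₗ φ.toLinearMap ∘ₗ N.subtype
    have hΦ : ∀ r : N, Φ r = φ (r : MvPolynomial (Fin n) R) • x₀ := fun r => rfl
    have hstd : ∀ r : MvPolynomial (Fin n) R, r ∈ N ↔ Std MonomialOrder.lex G r := by
      intro r
      rw [mem_restrictSupport_iff]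
      constructor
      · intro h c hc b hb; exact h hc b hb
      · intro h c hc b hb; exact h c hc b hb
    refine ⟨N, inferInstance, inferInstance, Module.Free.of_basis (basisRestrictSupport R St),
      Φ, ?_, ?_⟩
    · intro r hr
      rw [hΦ] at hr
      have := h3 r ((hJmem _).mpr hr) ((hstd _).mp r.2)
      refine ⟨1, ?_⟩
      rw [pow_one]
      exact Subtype.ext this
    · intro y
      obtain ⟨s, rfl⟩ := hx₀ y
      obtain ⟨p, rfl⟩ := hφ s
      obtain ⟨j, r, hr, hpr⟩ := h2 p
      refine ⟨j, ⟨r, (hstd r).mpr hr⟩, ?_⟩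
      rw [hΦ]
      have := (hJmem _).mp hpr
      rw [map_sub, sub_smul, sub_eq_zero, map_smul, smul_assoc] at this
      exact this
  · -- finite presentation
    refine ⟨S, inferInstance, inferInstance, inferInstance, inferInstance,
      LinearMap.toSpanSingleton S M x₀, ?_, Ideal.span (φ '' (G : Set _)), ?_, ?_, ?_⟩
    · intro y; obtain ⟨s, hs⟩ := hx₀ y; exact ⟨s, hs⟩
    · exact Submodule.fg_span (Set.Finite.image _ G.finite_toSet)
    · rw [Ideal.span_le]
      rintro _ ⟨b, hb, rfl⟩
      exact (hJmem b).mp (hGJ hb)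
    · intro s hs
      obtain ⟨p, rfl⟩ := hφ s
      have hp : p ∈ J := (hJmem p).mpr hs
      obtain ⟨j, hj⟩ := h1 p hp
      refine ⟨j, ?_⟩
      have : (algebraMap R S (g * f)) ^ j • φ p = φ ((g * f) ^ j • p) := by
        rw [map_smul, smul_eq_mul, ← map_pow, Algebra.smul_def]
      rw [this, ← Ideal.map_span]
      exact Ideal.mem_map_of_mem _ hj

theorem main [IsReduced R] {n : ℕ} (φ : MvPolynomial (Fin n) R →ₐ[R] S)
    (hφ : Function.Surjective φ) :
    ∀ (k : ℕ) (M : Type u) [AddCommGroup M] [Module S M] [Module R M] [IsScalarTower R S M]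
      (v : Fin k → M), Submodule.span S (Set.range v) = ⊤ → ∀ g : R, g ≠ 0 →
      ∃ f : R, g * f ≠ 0 ∧ GenFreeAt R M (g * f) ∧ FPAt S M (algebraMap R S (g * f)) := by
  intro k
  induction k with
  | zero =>
    intro M _ _ _ _ v hv g hg
    have hsub : Subsingleton M := by
      have h0 : (⊥ : Submodule S M) = ⊤ := by
        rw [← hv, Set.range_eq_empty, Submodule.span_empty]
      exact (Submodule.subsingleton_iff S).mp (subsingleton_of_bot_eq_top h0)
    refine ⟨1, by simpa using hg, ?_, ?_⟩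
    · exact ⟨PUnit.{u+1}, inferInstance, inferInstance, inferInstance, 0,
        fun x _ => ⟨0, Subsingleton.elim _ _⟩, fun y => ⟨0, 0, Subsingleton.elim _ _⟩⟩
    · exact ⟨PUnit.{u+1}, inferInstance, inferInstance, inferInstance, inferInstance, 0,
        fun y => ⟨0, Subsingleton.elim _ _⟩, ⊥, Submodule.fg_bot, bot_le,
        fun x _ => ⟨0, by rw [Subsingleton.elim x 0]; simp⟩⟩
  | succ k ih =>
    intro M _ _ _ _ v hv g hg
    obtain ⟨M', hM'⟩ : ∃ M' : Submodule S M, M' = Submodule.span S {v 0} := ⟨_, rfl⟩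
    have hv0 : v 0 ∈ M' := by rw [hM']; exact Submodule.mem_span_singleton_self _
    obtain ⟨f₁, hf₁, hfree', hfp', -⟩ := cyclic φ hφ M' ⟨v 0, hv0⟩ (by
        intro x
        have hx2 : (x : M) ∈ Submodule.span S {v 0} := by rw [← hM']; exact x.2
        obtain ⟨s, hs⟩ := Submodule.mem_span_singleton.mp hx2
        exact ⟨s, Subtype.ext hs⟩) g hg
    obtain ⟨f₂, hf₂, hfree'', hfp''⟩ := ih (M ⧸ M') (fun i => M'.mkQ (v i.succ)) (by
      have h1 : (⊤ : Submodule S (M ⧸ M')) = Submodule.map M'.mkQ (Submodule.span S (Set.range v)) := by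
        rw [hv, Submodule.map_top, Submodule.range_mkQ]
      rw [eq_top_iff, h1, Submodule.map_span, Submodule.span_le]
      rintro _ ⟨_, ⟨i, rfl⟩, rfl⟩
      induction i using Fin.cases with
      | zero =>
        have : M'.mkQ (v 0) = 0 := by
          rw [Submodule.mkQ_apply, Submodule.Quotient.mk_eq_zero]
          exact hv0
        rw [this]; exact Submodule.zero_mem _
      | succ i => exact Submodule.subset_span ⟨i, rfl⟩) (g * f₁) hf₁
    refine ⟨f₁ * f₂, by rwa [← mul_assoc], ?_, ?_⟩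
    · rw [← mul_assoc]
      have e1 : GenFreeAt R M' (g * f₁ * f₂) := hfree'.mul_right f₂
      have e2 : Function.Exact (M'.subtype.restrictScalars R) (M'.mkQ.restrictScalars R) :=
        LinearMap.exact_subtype_mkQ M'
      have e3 : Function.Injective (M'.subtype.restrictScalars R) := Subtype.val_injective
      have e4 : Function.Surjective (M'.mkQ.restrictScalars R) := Submodule.mkQ_surjective M'
      exact GenFreeAt.of_exact _ _ e3 e4 e2 e1 hfree''
    · rw [← mul_assoc]
      refine FPAt.of_exact M'.subtype M'.mkQ Subtype.val_injective (Submodule.mkQ_surjective _)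
        (LinearMap.exact_subtype_mkQ M') ?_ hfp''
      rw [map_mul]
      exact hfp'.mul_right _

end Main

end Groth.Agent.H1.GenFree
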