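import Mathlib

/-!
# Generic freeness for finite torsion-free-ish situations (helper1)

* `exists_linearIndependent_smul_mem_span` : for a finite set `s` in a module over a domain there are
  a linearly independent family `e` and `c ≠ 0` with `c • x ∈ span e` for all `x ∈ s`.
* `free_finite_of_localization` : if `e` is linearly independent in an `A`-algebra `S` and a power
  of `h` maps every element of `S` into `span e`, then `S_h` is finite free over `A_h`.
-/

set_option autoImplicit false

namespace Groth.Agent.H1.GenericFree

theorem exists_linearIndependent_smul_mem_span {A M : Type*} [CommRing A] [IsDomain A]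
    [AddCommGroup M] [Module A M] (s : Finset M) :
    ∃ (r : ℕ) (e : Fin r → M) (c : A), LinearIndependent A e ∧ c ≠ 0 ∧
      ∀ x ∈ s, c • x ∈ Submodule.span A (Set.range e) := by
  classical
  induction s using Finset.induction_on with
  | empty => exact ⟨0, Fin.elim0, 1, linearIndependent_empty_type, one_ne_zero, by simp⟩
  | insert m s hm ih =>
    obtain ⟨r, e, c, hli, hc, hmem⟩ := ih
    by_cases hcase : ∃ c' : A, c' ≠ 0 ∧ c' • m ∈ Submodule.span A (Set.range e)
    · obtain ⟨c', hc', hm'⟩ := hcase
      refine ⟨r, e, c * c', hli, mul_ne_zero hc hc', ?_⟩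
      intro x hx
      rcases Finset.mem_insert.mp hx with rfl | hx
      · rw [mul_smul]; exact Submodule.smul_mem _ _ hm'
      · rw [mul_comm, mul_smul]; exact Submodule.smul_mem _ _ (hmem x hx)
    · push_neg at hcase
      refine ⟨r + 1, Fin.cons m e, c, ?_, hc, ?_⟩
      · apply LinearIndependent.finCons' m e hli
        intro a y hy h
        by_contra ha
        apply hcase a ha
        have : a • m = -y := eq_neg_of_add_eq_zero_left h
        rw [this]; exact Submodule.neg_mem _ hy
      · intro x hx
        have hsub : Submodule.span A (Set.range e) ≤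
            Submodule.span A (Set.range (Fin.cons m e : Fin (r + 1) → M)) := by
          apply Submodule.span_mono
          rintro _ ⟨i, rfl⟩
          exact ⟨i.succ, by simp⟩
        rcases Finset.mem_insert.mp hx with rfl | hx
        · exact Submodule.smul_mem _ _ (Submodule.subset_span ⟨0, by simp⟩)
        · exact hsub (hmem x hx)

theorem free_finite_of_localization {A S : Type*} [CommRing A] [CommRing S] [Algebra A S] (h : A)
    {r : ℕ} (e : Fin r → S) (hli : LinearIndependent A e)
    (hspan : ∀ s : S, ∃ k : ℕ, h ^ k • s ∈ Submodule.span A (Set.range e))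
    (Ah T : Type*) [CommRing Ah] [CommRing T] [Algebra A Ah] [IsLocalization.Away h Ah]
    [Algebra S T] [IsLocalization.Away (algebraMap A S h) T] [Algebra A T] [IsScalarTower A S T]
    [Algebra Ah T] [IsScalarTower A Ah T] (hinj : Function.Injective (algebraMap S T)) :
    Module.Free Ah T ∧ Module.Finite Ah T := by
  set M := Submodule.span A (Set.range e) with hM
  let b : Module.Basis (Fin r) A M := Module.Basis.span hli
  let ψ : S →ₗ[A] T := (IsScalarTower.toAlgHom A S T).toLinearMap
  let φ : M →ₗ[A] T := ψ ∘ₗ M.subtype
  haveI : IsLocalization (Algebra.algebraMapSubmonoid S (Submonoid.powers h)) T := by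
    rw [Algebra.algebraMapSubmonoid, Submonoid.map_powers]
    infer_instance
  haveI hψ : IsLocalizedModule (Submonoid.powers h) ψ := inferInstance
  haveI : IsLocalizedModule (Submonoid.powers h) φ := by
    constructor
    · exact hψ.map_units
    · intro y
      obtain ⟨⟨s, c⟩, hsc⟩ := hψ.surj y
      obtain ⟨k, hk⟩ := hspan s
      refine ⟨⟨⟨h ^ k • s, hk⟩, ⟨h ^ k, k, rfl⟩ * c⟩, ?_⟩
      show (⟨h ^ k, k, rfl⟩ * c : Submonoid.powers h) • y = ψ (h ^ k • s)
      rw [mul_smul, hsc, map_smul]
      rfl
    · intro x₁ x₂ hx
      refine ⟨1, ?_⟩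
      rw [one_smul, one_smul]
      apply Subtype.ext
      exact hinj hx
  let bT : Module.Basis (Fin r) Ah T := b.ofIsLocalizedModule Ah (Submonoid.powers h) φ
  exact ⟨Module.Free.of_basis bT, Module.Finite.of_basis bT⟩

end Groth.Agent.H1.GenericFree
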