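import Mathlib
import Groth.Prelude.Def_ResDeg
import Groth.Agent.Lib.Helper2.SepCountA
import Groth.Agent.Lib.Helper1.AICover

set_option autoImplicit false
universe u
open CategoryTheory CategoryTheory.Limits AlgebraicGeometry Scheme.Pullback

namespace Groth.Agent.H1.GeoFib

open Groth.Agent.H1.AICover

lemma ev_bijective {k : Type u} [Field k] (z : Spec (CommRingCat.of k)) :
    Function.Bijective (ev z) := by
  refine ⟨RingHom.injective _, fun w => ?_⟩
  obtain ⟨b, s, hs, hw⟩ := exists_frac z w
  refine ⟨b / s, ?_⟩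
  rw [map_div₀, div_eq_iff hs]
  exact hw.symm

/-- the residue field of a closed point of a scheme locally of finite type over a field is finite
over the residue field of the base -/
lemma finite_residueFieldMap_of_isClosed {k : Type u} [Field k] {X : Scheme.{u}}
    (s : X ⟶ Spec (CommRingCat.of k)) [LocallyOfFiniteType s] (x : X)
    (hx : IsClosed ({x} : Set X)) : (s.residueFieldMap x).hom.Finite := by
  haveI : IsClosedImmersion (X.fromSpecResidueField x) :=
    IsClosedImmersion.of_isPreimmersion _ (by rw [Scheme.range_fromSpecResidueField]; exact hx)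
  obtain ⟨θ, hθ⟩ : ∃ θ : CommRingCat.of k ⟶ (Spec (CommRingCat.of k)).residueField (s x),
      Spec.map θ = (Spec (CommRingCat.of k)).fromSpecResidueField (s x) :=
    ⟨Spec.preimage _, Spec.map_preimage _⟩
  have h3 : X.fromSpecResidueField x ≫ s = Spec.map (θ ≫ s.residueFieldMap x) := by
    rw [Spec.map_comp, hθ, Scheme.Hom.SpecMap_residueFieldMap_fromSpecResidueField]
  have h4 : LocallyOfFiniteType (Spec.map (θ ≫ s.residueFieldMap x)) := by
    rw [← h3]; infer_instance
  rw [HasRingHomProperty.Spec_iff (P := @LocallyOfFiniteType)] at h4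
  have h5 : (θ ≫ s.residueFieldMap x).hom.Finite :=
    RingHom.finite_iff_finiteType_of_isJacobsonRing.mpr h4
  exact RingHom.Finite.of_comp_finite (f := θ.hom) (g := (s.residueFieldMap x).hom) h5

/-- the points of `X ×_S S'` over `x`, for `S'` the spectrum of an algebraically closed field -/
lemma encard_preimage_triplet {X S S' : Scheme.{u}} (f : X ⟶ S) (g : S' ⟶ S) [Subsingleton S']
    (T : Triplet f g) [IsAlgClosed (S'.residueField T.y)]
    (hfin : ((S.residueFieldCongr T.hx).inv ≫ f.residueFieldMap T.x).hom.Finite) :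
    ((pullback.fst f g) ⁻¹' {T.x}).encard = (EGA4loc.residueSepDegree f T.x : ℕ∞) := by
  have hrange : (pullback.fst f g) ⁻¹' {T.x} = Set.range T.SpecTensorTo := by
    ext t
    constructor
    · intro ht
      have ht' : pullback.fst f g t = T.x := ht
      have h1 : Triplet.ofPoint t = T := Triplet.ext ht' (Subsingleton.elim _ _)
      obtain ⟨T', hT', p, hp⟩ : ∃ T' : Triplet f g, T' = Triplet.ofPoint t ∧
          ∃ p : Spec T'.tensor, T'.SpecTensorTo p = t :=
        ⟨_, rfl, SpecOfPoint t, SpecTensorTo_SpecOfPoint t⟩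
      have h2 : T' = T := hT'.trans h1
      subst h2
      exact ⟨p, hp⟩
    · rintro ⟨p, rfl⟩
      exact Triplet.fst_SpecTensorTo_apply T p
  have hinj : Function.Injective T.SpecTensorTo := by
    intro p q hpq
    have h3 := (carrierEquiv (f := f) (g := g)).symm.injective (a₁ := ⟨T, p⟩) (a₂ := ⟨T, q⟩) hpq
    exact eq_of_heq (Sigma.mk.inj h3).2
  rw [hrange, ← Set.image_univ, hinj.encard_image, Set.encard_univ]
  have hcard : Nat.card ↥(Spec T.tensor) = EGA4loc.residueSepDegree f T.x :=
    Groth.Agent.H2.SepCount.card_spec_tensor f g T hfin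
  have hfin2 : (f.residueFieldMap T.x).hom.Finite :=
    RingHom.Finite.of_comp_finite (f := (S.residueFieldCongr T.hx).inv.hom)
      (g := (f.residueFieldMap T.x).hom) hfin
  have hpos : EGA4loc.residueSepDegree f T.x ≠ 0 := by
    unfold EGA4loc.residueSepDegree
    letI := (f.residueFieldMap T.x).hom.toAlgebra
    haveI : Module.Finite (S.residueField (f T.x)) (X.residueField T.x) := hfin2
    exact NeZero.ne _
  haveI : Finite ↥(Spec T.tensor) := Nat.finite_of_card_ne_zero (by rw [hcard]; exact hpos)
  rw [ENat.card_eq_coe_natCard, hcard]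

lemma encard_preimage {X S S' : Scheme.{u}} (f : X ⟶ S) (g : S' ⟶ S) [hS' : Subsingleton S']
    (b : S') [hb : IsAlgClosed (S'.residueField b)] (x : X) (hgb : g b = f x)
    (hfin : (f.residueFieldMap x).hom.Finite) :
    ((pullback.fst f g) ⁻¹' {x}).encard = (EGA4loc.residueSepDegree f x : ℕ∞) := by
  have hfin' : ((S.residueFieldCongr (rfl : f x = f x)).inv ≫ f.residueFieldMap x).hom.Finite := by
    have : (S.residueFieldCongr (rfl : f x = f x)).inv ≫ f.residueFieldMap x =
        f.residueFieldMap x := by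
      simp [Scheme.residueFieldCongr_refl]
    rw [this]; exact hfin
  exact @encard_preimage_triplet X S S' f g hS' ⟨x, b, f x, rfl, hgb⟩ hb hfin'

lemma field_count {K L M : Type u} [Field K] [Field L] [Field M] [PerfectField K]
    (α : K →+* L) (β : L →+* M) (γ : K →+* M) (hγ : γ = β.comp α) (hfin : γ.Finite) :
    (letI := α.toAlgebra; Field.finSepDegree K L) ≤
        (letI := γ.toAlgebra; Field.finSepDegree K M) ∧
    ((letI := α.toAlgebra; Field.finSepDegree K L) =
        (letI := γ.toAlgebra; Field.finSepDegree K M) ↔ Function.Bijective β) := by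
  subst hγ
  letI := α.toAlgebra
  letI := β.toAlgebra
  letI := (β.comp α).toAlgebra
  haveI : IsScalarTower K L M := IsScalarTower.of_algebraMap_eq (fun _ => rfl)
  haveI : Module.Finite K M := hfin
  haveI : Module.Finite K L := Module.Finite.left K L M
  haveI : Module.Finite L M := Module.Finite.right K L M
  change Field.finSepDegree K L ≤ Field.finSepDegree K M ∧
    (Field.finSepDegree K L = Field.finSepDegree K M ↔ Function.Bijective (algebraMap L M))
  rw [Field.finSepDegree_eq_finrank_of_isSeparable K L,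
    Field.finSepDegree_eq_finrank_of_isSeparable K M]
  have hmul := Module.finrank_mul_finrank K L M
  have hL : 0 < Module.finrank K L := Module.finrank_pos
  have hM : 0 < Module.finrank L M := Module.finrank_pos
  constructor
  · rw [← hmul]; exact Nat.le_mul_of_pos_right _ hM
  · rw [← hmul, ← Algebra.finrank_eq_one_iff_bijective_algebraMap (F := L) (E := M)]
    constructor
    · intro h
      have h' : Module.finrank K L * 1 = Module.finrank K L * Module.finrank L M := by
        rw [mul_one]; exact h
      exact (Nat.eq_of_mul_eq_mul_left hL h').symm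
    · intro h; rw [h, mul_one]

theorem main {k : Type u} [Field k] [PerfectField k] {X Y : Scheme.{u}}
    (sX : X ⟶ Spec (CommRingCat.of k)) (sY : Y ⟶ Spec (CommRingCat.of k))
    [LocallyOfFiniteType sX] [LocallyOfFiniteType sY]
    (φ : X ⟶ Y) (hφ : φ ≫ sY = sX) [IsFinite φ]
    (Ω : Type u) [Field Ω] [IsAlgClosed Ω]
    (i : Spec (CommRingCat.of Ω) ⟶ Spec (CommRingCat.of k))
    (φbar : pullback sX i ⟶ pullback sY i)
    (h1 : φbar ≫ pullback.fst sY i = pullback.fst sX i ≫ φ)
    (x : X) (hx : IsClosed ({x} : Set X)) :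
    ((pullback.fst sY i) ⁻¹' {φ x}).encard ≤ ((pullback.fst sX i) ⁻¹' {x}).encard ∧
      (((pullback.fst sY i) ⁻¹' {φ x}).encard = ((pullback.fst sX i) ⁻¹' {x}).encard ↔
          Function.Bijective (φ.residueFieldMap x).hom) ∧
      (Set.InjOn φbar ((pullback.fst sX i) ⁻¹' {x}) →
        ((pullback.fst sY i) ⁻¹' {φ x}).encard = ((pullback.fst sX i) ⁻¹' {x}).encard) := by
  subst hφ
  haveI hsub : Subsingleton ↥(Spec (CommRingCat.of Ω)) :=
    inferInstanceAs (Subsingleton (PrimeSpectrum Ω))
  haveI hsubk : Subsingleton ↥(Spec (CommRingCat.of k)) :=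
    inferInstanceAs (Subsingleton (PrimeSpectrum k))
  obtain ⟨b, -⟩ : ∃ b : ↥(Spec (CommRingCat.of Ω)), True := ⟨IsLocalRing.closedPoint Ω, trivial⟩
  haveI : IsAlgClosed ((Spec (CommRingCat.of Ω)).residueField b) :=
    IsAlgClosed.of_ringEquiv _ _ (RingEquiv.ofBijective (ev b) (ev_bijective b))
  have hy : IsClosed ({φ x} : Set Y) := by
    have := φ.isClosedMap _ hx
    rwa [Set.image_singleton] at this
  have hfX := finite_residueFieldMap_of_isClosed (φ ≫ sY) x hx
  have hfY := finite_residueFieldMap_of_isClosed sY (φ x) hy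
  have hNX := encard_preimage (φ ≫ sY) i b x (Subsingleton.elim _ _) hfX
  have hNY := encard_preimage sY i b (φ x) (Subsingleton.elim _ _) hfY
  haveI : PerfectField ((Spec (CommRingCat.of k)).residueField (sY (φ x))) :=
    PerfectField.of_ringEquiv (RingEquiv.ofBijective (ev _) (ev_bijective _))
  have hF := field_count (sY.residueFieldMap (φ x)).hom (φ.residueFieldMap x).hom
    ((φ ≫ sY).residueFieldMap x).hom
    (congrArg CommRingCat.Hom.hom (Scheme.residueFieldMap_comp φ sY x)) hfX
  have hle : ((pullback.fst sY i) ⁻¹' {φ x}).encard ≤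
      ((pullback.fst (φ ≫ sY) i) ⁻¹' {x}).encard := by
    rw [hNX, hNY]
    exact_mod_cast hF.1
  have hmaps : Set.MapsTo φbar ((pullback.fst (φ ≫ sY) i) ⁻¹' {x})
      ((pullback.fst sY i) ⁻¹' {φ x}) := by
    intro t ht
    have ht' : pullback.fst (φ ≫ sY) i t = x := ht
    show pullback.fst sY i (φbar t) = φ x
    rw [← Scheme.Hom.comp_apply, h1, Scheme.Hom.comp_apply, ht']
  refine ⟨hle, ?_, fun hinj => le_antisymm hle (Set.encard_le_encard_of_injOn hmaps hinj)⟩
  rw [hNX, hNY]
  exact Nat.cast_inj.trans hF.2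

end Groth.Agent.H1.GeoFib
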