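import Mathlib
import Groth.Agent.Lib.Helper1.GeoKrull

set_option autoImplicit false
universe u

namespace Groth.Agent.H1.GeoKrull

open AlgebraicGeometry CategoryTheory TopologicalSpace Topology

theorem s14481 (k : Type u) [Field k] (C X W : Scheme.{u})
    (q : X ⟶ Spec (CommRingCat.of k)) (π : C ⟶ X) (ι : W ⟶ X)
    [LocallyOfFiniteType q] [CompactSpace X] [LocallyOfFiniteType π] [CompactSpace C]
    (κ : RegImm.Kind) (n c : ℕ) (hι : RegImm.IsRegularImmersionOfCodim κ c ι)
    (hC : ∀ P ∈ irreducibleComponents (C : Type u), topologicalKrullDim P = n) :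
    (∀ P ∈ irreducibleComponents (C : Type u), ∀ Q ∈ irreducibleComponents (P ∩ π ⁻¹' Set.range ι : Set C),
        topologicalKrullDim Q + (c : WithBot ℕ∞) = n) ↔
      topologicalKrullDim (π ⁻¹' Set.range ι : Set C) + (c : WithBot ℕ∞) ≤ n := by
  have hR : CutOut C (π ⁻¹' Set.range ι) c :=
    (cutOut_of_isRegularImmersionOfCodim ι κ c hι).preimage π
  constructor
  · intro ha
    rw [Groth.Agent.H3.TopDim.dim_eq_iSup_irreducibleComponents
      (X := ↥(π ⁻¹' Set.range ι : Set C)), add_comm]
    apply FibDimTot.nat_add_iSup_le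
    intro Y
    apply FibDimTot.nat_add_iSup_le
    intro hY
    have hmaxY := isMaxIrr_image hY
    obtain ⟨P, hP, hTP⟩ := exists_mem_irreducibleComponents_subset_of_isIrreducible _ hmaxY.1
    have hmax2 : IsMaxIrr (P ∩ π ⁻¹' Set.range ι) (Subtype.val '' Y) :=
      ⟨hmaxY.1, fun t ht => ⟨hTP ht, hmaxY.2.1 ht⟩, fun T' hT' hsub hle =>
        hmaxY.2.2 T' hT' (fun t ht => (hsub ht).2) hle⟩
    have hQ := preimage_mem_irreducibleComponents hmax2
    have h := ha P hP _ hQ
    rw [dim_preimage_val hmax2.2.1, dim_image_val] at h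
    rw [add_comm, h]
  · intro hb P hP Q hQ
    have hmax := isMaxIrr_image hQ
    have hPc : IsClosed P := isClosed_of_mem_irreducibleComponents P hP
    have h1 := dim_le_dim_add_of_cutOut (π ≫ q) hR P hP.1 hPc _ hmax
    rw [dim_image_val, hC P hP] at h1
    refine le_antisymm ?_ h1
    have h2 : topologicalKrullDim ↥Q ≤ topologicalKrullDim ↥(π ⁻¹' Set.range ι : Set C) := by
      rw [← dim_image_val]
      exact Groth.Agent.H1.UOVal.dim_mono' (fun t ht => (hmax.2.1 ht).2)
    exact (add_le_add h2 le_rfl).trans hb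

end Groth.Agent.H1.GeoKrull
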