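import Mathlib
import Groth.Agent.Lib.Helper1.GenFib1
import Groth.Agent.Lib.Helper5.CA.NG22

set_option autoImplicit false

universe u

namespace Groth.Agent.H1.GeoRegFib

open AlgebraicGeometry CategoryTheory Limits TopologicalSpace TensorProduct

/-- geometric regularity of `S` over the field `K` through a ring homomorphism. -/
def GRhom {K S : Type u} [Field K] [CommRing S] (φ : K →+* S) : Prop :=
  @CAlg.IsGeometricallyRegular K _ S _ φ.toAlgebra

lemma grhom_iff {K S : Type u} [Field K] [CommRing S] [inst : Algebra K S] :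
    GRhom (algebraMap K S) ↔ CAlg.IsGeometricallyRegular K S := by
  have h : (algebraMap K S).toAlgebra = inst := Algebra.algebra_ext _ _ (fun _ => rfl)
  unfold GRhom
  rw [h]

lemma GRhom.congr {K S : Type u} [Field K] [CommRing S] {φ ψ : K →+* S} (h : φ = ψ)
    (hφ : GRhom φ) : GRhom ψ := h ▸ hφ

lemma GRhom.of_ringEquiv {K S S' : Type u} [Field K] [CommRing S] [CommRing S'] {φ : K →+* S}
    (h : GRhom φ) (e : S ≃+* S') : GRhom ((e : S →+* S').comp φ) := by
  letI := φ.toAlgebra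
  letI := ((e : S →+* S').comp φ).toAlgebra
  let e' : S ≃ₐ[K] S' := { e with commutes' := fun _ => rfl }
  intro k' _ _ hfin
  haveI : IsRegularRing (k' ⊗[K] S) := h k' hfin
  exact IsRegularRing.of_ringEquiv
    (Algebra.TensorProduct.congr (AlgEquiv.refl : k' ≃ₐ[K] k') e').toRingEquiv

lemma GRhom.of_isLocalization {K S S' : Type u} [Field K] [CommRing S] [CommRing S']
    [Algebra S S'] (M : Submonoid S) [IsLocalization M S'] {φ : K →+* S} (h : GRhom φ) :
    GRhom ((algebraMap S S').comp φ) := by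
  letI := φ.toAlgebra
  letI := ((algebraMap S S').comp φ).toAlgebra
  haveI : IsScalarTower K S S' := IsScalarTower.of_algebraMap_eq (fun _ => rfl)
  exact H5.NG.isGeometricallyRegular_of_isLocalization K S M S' h

lemma GRhom.of_forall_maximal {K S : Type u} [Field K] [CommRing S] [IsNoetherianRing S]
    {φ : K →+* S}
    (h : ∀ (m : Ideal S) [m.IsMaximal],
      GRhom ((algebraMap S (Localization.AtPrime m)).comp φ)) : GRhom φ := by
  letI := φ.toAlgebra
  refine H5.NG.isGeometricallyRegular_of_forall_maximal K S (fun m hm => ?_)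
  have h1 := h m
  have e : algebraMap K (Localization.AtPrime m) =
      (algebraMap S (Localization.AtPrime m)).comp φ :=
    IsScalarTower.algebraMap_eq K S _
  rw [← grhom_iff, e]
  exact h1

/-- semilinear invariance under an isomorphism of base fields. -/
lemma GRhom.comp_ringEquiv {K K₁ S : Type u} [Field K] [Field K₁] [CommRing S] (σ : K ≃+* K₁)
    {φ₁ : K₁ →+* S} (h : GRhom φ₁) : GRhom (φ₁.comp (σ : K →+* K₁)) := by
  letI aS₁ : Algebra K₁ S := φ₁.toAlgebra
  letI aS : Algebra K S := (φ₁.comp (σ : K →+* K₁)).toAlgebra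
  letI aK : Algebra K K₁ := (σ : K →+* K₁).toAlgebra
  haveI : IsScalarTower K K₁ S := IsScalarTower.of_algebraMap_eq (fun _ => rfl)
  intro k' _ _ hfin
  letI ak' : Algebra K₁ k' := ((algebraMap K k').comp (σ.symm : K₁ →+* K)).toAlgebra
  haveI : IsScalarTower K K₁ k' := IsScalarTower.of_algebraMap_eq (fun a => by
    change algebraMap K k' a = algebraMap K k' (σ.symm (σ a))
    rw [RingEquiv.symm_apply_apply])
  haveI : Module.Finite K₁ k' := Module.Finite.of_restrictScalars_finite K K₁ k'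
  haveI : IsRegularRing (k' ⊗[K₁] S) := h k' inferInstance
  haveI : TensorProduct.CompatibleSMul K K₁ k' S :=
    TensorProduct.CompatibleSMul.of_algebraMap_surjective k' S σ.surjective
  exact IsRegularRing.of_ringEquiv
    (Algebra.TensorProduct.equivOfCompatibleSMul K K₁ K k' S).toRingEquiv


/-! ### Scheme-level lemmas -/

/-- the residue field at a point of an affine open, as the residue field of the prime. -/
lemma exists_residueField_equiv {Y : Scheme.{u}} {V : Y.Opens} (hV : IsAffineOpen V)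
    (q : PrimeSpectrum Γ(Y, V)) (hy : hV.fromSpec q ∈ V) :
    ∃ eκ : Y.residueField (hV.fromSpec q) ≃+* q.asIdeal.ResidueField,
      ∀ a : Γ(Y, V), eκ (Y.evaluation V (hV.fromSpec q) hy a) =
        algebraMap Γ(Y, V) q.asIdeal.ResidueField a := by
  letI : Algebra Γ(Y, V) (Y.presheaf.stalk (hV.fromSpec q)) :=
    TopCat.Presheaf.algebra_section_stalk Y.presheaf ⟨hV.fromSpec q, hy⟩
  haveI : IsLocalization.AtPrime (Y.presheaf.stalk (hV.fromSpec q)) q.asIdeal :=
    hV.isLocalization_stalk' q hy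
  let e₀ : Y.presheaf.stalk (hV.fromSpec q) ≃ₐ[Γ(Y, V)] Localization.AtPrime q.asIdeal :=
    IsLocalization.algEquiv q.asIdeal.primeCompl _ _
  refine ⟨IsLocalRing.ResidueField.mapEquiv e₀.toRingEquiv, fun a => ?_⟩
  have h1 : Y.evaluation V (hV.fromSpec q) hy a =
      IsLocalRing.residue _ (algebraMap Γ(Y, V) (Y.presheaf.stalk (hV.fromSpec q)) a) := rfl
  rw [h1]
  change IsLocalRing.residue _ (e₀ (algebraMap _ _ a)) = _
  rw [e₀.commutes]
  rfl

/-- geometric regularity of the sections over an affine open is detected on stalks (1). -/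
lemma grhom_germ_of_grhom {T : Scheme.{u}} {K : Type u} [Field K] {W : T.Opens}
    (hW : IsAffineOpen W) (τ : K →+* Γ(T, W)) (h : GRhom τ) (z : T) (hz : z ∈ W) :
    GRhom ((T.presheaf.germ W z hz).hom.comp τ) := by
  letI : Algebra Γ(T, W) (T.presheaf.stalk z) :=
    TopCat.Presheaf.algebra_section_stalk T.presheaf ⟨z, hz⟩
  haveI := hW.isLocalization_stalk ⟨z, hz⟩
  exact GRhom.of_isLocalization (hW.primeIdealOf ⟨z, hz⟩).asIdeal.primeCompl h

/-- geometric regularity of the sections over an affine open is detected on stalks (2). -/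
lemma grhom_of_forall_germ {T : Scheme.{u}} {K : Type u} [Field K] {W : T.Opens}
    (hW : IsAffineOpen W) [IsNoetherianRing Γ(T, W)] (τ : K →+* Γ(T, W))
    (h : ∀ (z : T) (hz : z ∈ W), GRhom ((T.presheaf.germ W z hz).hom.comp τ)) : GRhom τ := by
  refine GRhom.of_forall_maximal (fun m hm => ?_)
  haveI : m.IsPrime := hm.isPrime
  have hz : hW.fromSpec (⟨m, inferInstance⟩ : PrimeSpectrum Γ(T, W)) ∈ W := by
    have := hW.range_fromSpec
    have h2 : hW.fromSpec (⟨m, inferInstance⟩ : PrimeSpectrum Γ(T, W)) ∈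
        Set.range hW.fromSpec := ⟨_, rfl⟩
    rw [this] at h2
    exact h2
  letI : Algebra Γ(T, W) (T.presheaf.stalk (hW.fromSpec (⟨m, inferInstance⟩ : PrimeSpectrum Γ(T, W)))) :=
    TopCat.Presheaf.algebra_section_stalk T.presheaf ⟨_, hz⟩
  haveI : IsLocalization.AtPrime
      (T.presheaf.stalk (hW.fromSpec (⟨m, inferInstance⟩ : PrimeSpectrum Γ(T, W)))) m :=
    hW.isLocalization_stalk' ⟨m, inferInstance⟩ hz
  let e₀ : T.presheaf.stalk (hW.fromSpec (⟨m, inferInstance⟩ : PrimeSpectrum Γ(T, W)))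
      ≃ₐ[Γ(T, W)] Localization.AtPrime m :=
    IsLocalization.algEquiv m.primeCompl _ _
  have h1 := (h _ hz).of_ringEquiv e₀.toRingEquiv
  refine GRhom.congr ?_ h1
  ext a
  exact e₀.commutes (τ a)

/-- transfer of geometric regularity of stalks along an open immersion from an affine scheme. -/
lemma stalk_transfer {B : Type u} [CommRing B] {Z : Scheme.{u}}
    (j : Spec (CommRingCat.of B) ⟶ Z) [IsOpenImmersion j] {K : Type u} [Field K]
    (σ : K →+* Γ(Z, ⊤)) (ψ : K →+* B)
    (hσ : ∀ a, j.appTop.hom (σ a) = (Scheme.ΓSpecIso (CommRingCat.of B)).inv.hom (ψ a))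
    (t : Spec (CommRingCat.of B)) :
    GRhom ((Z.presheaf.germ ⊤ (j t) trivial).hom.comp σ) ↔
      GRhom ((algebraMap B (Localization.AtPrime (t : PrimeSpectrum B).asIdeal)).comp ψ) := by
  letI : Algebra B ((Spec (CommRingCat.of B)).presheaf.stalk t) := StructureSheaf.stalkAlgebra B t
  haveI : IsLocalization.AtPrime ((Spec (CommRingCat.of B)).presheaf.stalk t)
      (t : PrimeSpectrum B).asIdeal := StructureSheaf.IsLocalization.to_stalk B t
  let ρ : (Spec (CommRingCat.of B)).presheaf.stalk t ≃ₐ[B]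
      Localization.AtPrime (t : PrimeSpectrum B).asIdeal :=
    IsLocalization.algEquiv (t : PrimeSpectrum B).asIdeal.primeCompl _ _
  let Θ : Z.presheaf.stalk (j t) ≃+* (Spec (CommRingCat.of B)).presheaf.stalk t :=
    (asIso (j.stalkMap t)).commRingCatIsoToRingEquiv
  have hΘ : ∀ a : K, Θ ((Z.presheaf.germ ⊤ (j t) trivial).hom (σ a)) =
      algebraMap B ((Spec (CommRingCat.of B)).presheaf.stalk t) (ψ a) := by
    intro a
    have h1 := Scheme.Hom.germ_stalkMap j ⊤ t trivial
    have h2 := congr($(h1).hom (σ a))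
    change (j.stalkMap t).hom ((Z.presheaf.germ ⊤ (j t) trivial).hom (σ a)) = _
    refine h2.trans ?_
    change ((Spec (CommRingCat.of B)).presheaf.germ ⊤ t trivial).hom (j.appTop.hom (σ a)) = _
    rw [hσ a]
    rfl
  have hΞ : ∀ a : K, ρ (Θ ((Z.presheaf.germ ⊤ (j t) trivial).hom (σ a))) =
      algebraMap B (Localization.AtPrime (t : PrimeSpectrum B).asIdeal) (ψ a) := by
    intro a
    rw [hΘ a]
    exact ρ.commutes (ψ a)
  constructor
  · intro h
    have h1 := h.of_ringEquiv (Θ.trans ρ.toRingEquiv)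
    refine GRhom.congr ?_ h1
    ext a
    exact hΞ a
  · intro h
    have h1 := h.of_ringEquiv (Θ.trans ρ.toRingEquiv).symm
    refine GRhom.congr ?_ h1
    ext a
    change (Θ.trans ρ.toRingEquiv).symm (algebraMap B _ (ψ a)) = _
    rw [RingEquiv.symm_apply_eq]
    exact (hΞ a).symm


lemma grhom_of_forall_stalk {B : Type u} [CommRing B] [IsNoetherianRing B] {Z : Scheme.{u}}
    (j : Spec (CommRingCat.of B) ⟶ Z) [IsOpenImmersion j] {K : Type u} [Field K]
    (σ : K →+* Γ(Z, ⊤)) (ψ : K →+* B)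
    (hσ : ∀ a, j.appTop.hom (σ a) = (Scheme.ΓSpecIso (CommRingCat.of B)).inv.hom (ψ a))
    (h : ∀ t : Spec (CommRingCat.of B),
      GRhom ((Z.presheaf.germ ⊤ (j t) trivial).hom.comp σ)) : GRhom ψ := by
  refine GRhom.of_forall_maximal (fun m hm => ?_)
  haveI : m.IsPrime := hm.isPrime
  exact (stalk_transfer j σ ψ hσ (⟨m, inferInstance⟩ : PrimeSpectrum B)).mp (h _)

lemma grhom_stalk_of_grhom {B : Type u} [CommRing B] {Z : Scheme.{u}}
    (j : Spec (CommRingCat.of B) ⟶ Z) [IsOpenImmersion j] {K : Type u} [Field K]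
    (σ : K →+* Γ(Z, ⊤)) (ψ : K →+* B)
    (hσ : ∀ a, j.appTop.hom (σ a) = (Scheme.ΓSpecIso (CommRingCat.of B)).inv.hom (ψ a))
    (h : GRhom ψ) (t : Spec (CommRingCat.of B)) :
    GRhom ((Z.presheaf.germ ⊤ (j t) trivial).hom.comp σ) :=
  (stalk_transfer j σ ψ hσ t).mpr
    (h.of_isLocalization (t : PrimeSpectrum B).asIdeal.primeCompl)

variable {X Y : Scheme.{u}}

/-- geometric regularity of the stalk of the fibre at a point. -/
def GRst (f : X ⟶ Y) (y : Y) (z : f.fiber y) : Prop :=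
  GRhom (((f.fiber y).presheaf.germ ⊤ z trivial).hom.comp
    ((Scheme.ΓSpecIso (Y.residueField y)).inv ≫ (f.fiberToSpecResidueField y).appTop).hom)

theorem fibre_core (f : X ⟶ Y) {U : X.Opens} {V : Y.Opens}
    (hU : IsAffineOpen U) (hV : IsAffineOpen V) (e : U ≤ f ⁻¹ᵁ V)
    (q : PrimeSpectrum Γ(Y, V)) (y : Y) (hyq : hV.fromSpec q = y) :
    letI := (f.appLE V U e).hom.toAlgebra
    ∃ W : (f.fiber y).Opens, IsAffineOpen W ∧
      (W : Set (f.fiber y)) = (f.fiberι y) ⁻¹' (U : Set X) ∧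
      Nonempty (Γ(f.fiber y, W) ≃+* q.asIdeal.Fiber Γ(X, U)) ∧
      (IsNoetherianRing (q.asIdeal.Fiber Γ(X, U)) → (∀ z ∈ W, GRst f y z) →
        CAlg.IsGeometricallyRegular q.asIdeal.ResidueField (q.asIdeal.Fiber Γ(X, U))) ∧
      (CAlg.IsGeometricallyRegular q.asIdeal.ResidueField (q.asIdeal.Fiber Γ(X, U)) →
        ∀ z ∈ W, GRst f y z) := by
  subst hyq
  letI := (f.appLE V U e).hom.toAlgebra
  have hy : hV.fromSpec q ∈ V := by
    have h2 : hV.fromSpec q ∈ Set.range hV.fromSpec := ⟨_, rfl⟩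
    rw [hV.range_fromSpec] at h2
    exact h2
  obtain ⟨eκ, heκ⟩ := exists_residueField_equiv hV q hy
  obtain ⟨inl, hinl⟩ : ∃ m : Γ(X, U) ⟶ CommRingCat.of (q.asIdeal.Fiber Γ(X, U)),
      m = CommRingCat.ofHom (Algebra.TensorProduct.includeRight :
        Γ(X, U) →ₐ[Γ(Y, V)] q.asIdeal.ResidueField ⊗[Γ(Y, V)] Γ(X, U)).toRingHom := ⟨_, rfl⟩
  obtain ⟨inr, hinr⟩ : ∃ m : Y.residueField (hV.fromSpec q) ⟶
        CommRingCat.of (q.asIdeal.Fiber Γ(X, U)),
      m = CommRingCat.ofHom ((algebraMap q.asIdeal.ResidueField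
        (q.asIdeal.Fiber Γ(X, U))).comp eκ.toRingHom) := ⟨_, rfl⟩
  have sq : IsPushout (f.appLE V U e) (Y.evaluation V (hV.fromSpec q) hy) inl inr := by
    have std := (CommRingCat.isPushout_tensorProduct Γ(Y, V) q.asIdeal.ResidueField
      Γ(X, U)).flip
    refine std.of_iso (Iso.refl _) (Iso.refl _) eκ.symm.toCommRingCatIso (Iso.refl _)
      ?_ ?_ ?_ ?_
    · rfl
    · rw [Iso.refl_hom, Category.id_comp]
      ext a
      change eκ.symm (algebraMap Γ(Y, V) q.asIdeal.ResidueField a) = _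
      rw [← heκ a, RingEquiv.symm_apply_apply]
    · rw [hinl]; rfl
    · rw [hinr, Iso.refl_hom, Category.comp_id]
      apply CommRingCat.hom_ext
      apply RingHom.ext
      intro a
      change _ = algebraMap q.asIdeal.ResidueField (q.asIdeal.Fiber Γ(X, U)) (eκ (eκ.symm a))
      rw [RingEquiv.apply_symm_apply]
      rfl
  obtain ⟨j, hj, hj1, hj2, hrange⟩ :=
    Groth.Agent.H1.GenFib.exists_fiberPiece f hU hV e (hV.fromSpec q) hy inl inr sq
  haveI := hj
  have hσ : ∀ a : Y.residueField (hV.fromSpec q),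
      j.appTop.hom (((Scheme.ΓSpecIso (Y.residueField (hV.fromSpec q))).inv ≫
        (f.fiberToSpecResidueField (hV.fromSpec q)).appTop).hom a) =
      (Scheme.ΓSpecIso (CommRingCat.of (q.asIdeal.Fiber Γ(X, U)))).inv.hom (inr.hom a) := by
    intro a
    have h1 : ((Scheme.ΓSpecIso (Y.residueField (hV.fromSpec q))).inv ≫
        (f.fiberToSpecResidueField (hV.fromSpec q)).appTop) ≫ j.appTop =
        inr ≫ (Scheme.ΓSpecIso (CommRingCat.of (q.asIdeal.Fiber Γ(X, U)))).inv := by
      rw [Category.assoc, ← Scheme.Hom.comp_appTop, hj2]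
      exact (Scheme.ΓSpecIso_inv_naturality inr).symm
    exact congr($(h1).hom a)
  have hinrhom : inr.hom = (algebraMap q.asIdeal.ResidueField
      (q.asIdeal.Fiber Γ(X, U))).comp eκ.toRingHom := by rw [hinr]; rfl
  have hset : ((j ''ᵁ ⊤ : (f.fiber (hV.fromSpec q)).Opens) : Set (f.fiber (hV.fromSpec q))) =
      Set.range j := by
    rw [Scheme.Hom.image_top_eq_opensRange]; rfl
  refine ⟨j ''ᵁ ⊤, (isAffineOpen_top _).image_of_isOpenImmersion j, hset.trans hrange,
    ⟨((j.appIso ⊤) ≪≫ Scheme.ΓSpecIso _).commRingCatIsoToRingEquiv⟩, ?_, ?_⟩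
  · intro hNoeth hst
    haveI := hNoeth
    have h1 : GRhom inr.hom := by
      refine grhom_of_forall_stalk j _ inr.hom hσ (fun t => ?_)
      have hmem : j t ∈ (j ''ᵁ ⊤ : (f.fiber (hV.fromSpec q)).Opens) := by
        change j t ∈ ((j ''ᵁ ⊤ : (f.fiber (hV.fromSpec q)).Opens) : Set _)
        rw [hset]; exact ⟨_, rfl⟩
      exact hst _ hmem
    rw [hinrhom] at h1
    have h2 := h1.comp_ringEquiv eκ.symm
    rw [← grhom_iff]
    refine GRhom.congr ?_ h2
    ext a
    simp
  · intro hGR z hz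
    have hz' : z ∈ Set.range j := by rw [← hset]; exact hz
    obtain ⟨t, rfl⟩ := hz'
    have h1 : GRhom inr.hom := by
      rw [hinrhom]
      exact (grhom_iff.mpr hGR).comp_ringEquiv eκ
    exact grhom_stalk_of_grhom j _ inr.hom hσ h1 t


theorem main (f : X ⟶ Y) (hN : ∀ y : Y, IsLocallyNoetherian (f.fiber y)) :
    (∀ (U : X.Opens) (V : Y.Opens) (hU : IsAffineOpen U) (hV : IsAffineOpen V) (hUV : U ≤ f ⁻¹ᵁ V),
        letI := (f.appLE V U hUV).hom.toAlgebra
        CAlg.IsRegularHom Γ(Y, V) Γ(X, U)) ↔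
      Flat f ∧ ∀ (y : Y) (W : (f.fiber y).Opens), IsAffineOpen W →
        letI : Algebra ↑(Y.residueField y) ↑Γ(f.fiber y, W) := ((Scheme.ΓSpecIso (Y.residueField y)).inv ≫ (f.fiberToSpecResidueField y).appTop ≫
          (f.fiber y).presheaf.map (homOfLE le_top).op).hom.toAlgebra
        IsNoetherianRing ↑Γ(f.fiber y, W) ∧ CAlg.IsGeometricallyRegular ↑(Y.residueField y) ↑Γ(f.fiber y, W) := by
  have hgerm : ∀ (y : Y) (W : (f.fiber y).Opens) (z : f.fiber y) (hz : z ∈ W),
      ((f.fiber y).presheaf.germ W z hz).hom.comp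
        ((Scheme.ΓSpecIso (Y.residueField y)).inv ≫ (f.fiberToSpecResidueField y).appTop ≫
          (f.fiber y).presheaf.map (homOfLE le_top).op).hom =
      ((f.fiber y).presheaf.germ ⊤ z trivial).hom.comp
        ((Scheme.ΓSpecIso (Y.residueField y)).inv ≫
          (f.fiberToSpecResidueField y).appTop).hom := by
    intro y W z hz
    have h1 := TopCat.Presheaf.germ_res (f.fiber y).presheaf (homOfLE (le_top : W ≤ ⊤)) z hz
    ext a
    exact congr($(h1).hom _)
  constructor
  · intro H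
    refine ⟨?_, ?_⟩
    · rw [HasRingHomProperty.iff_appLE (P := @Flat)]
      intro V U e
      exact (H U.1 V.1 U.2 V.2 e).1
    · intro y W hW
      haveI := hN y
      haveI hNoeth : IsNoetherianRing Γ(f.fiber y, W) :=
        IsLocallyNoetherian.component_noetherian ⟨W, hW⟩
      refine ⟨hNoeth, ?_⟩
      change GRhom (((Scheme.ΓSpecIso (Y.residueField y)).inv ≫
        (f.fiberToSpecResidueField y).appTop ≫
          (f.fiber y).presheaf.map (homOfLE le_top).op).hom)
      refine grhom_of_forall_germ hW _ (fun z hz => ?_)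
      rw [hgerm y W z hz]
      obtain ⟨V, hV, hyV⟩ : ∃ V : Y.Opens, IsAffineOpen V ∧ y ∈ V := by
        obtain ⟨V, hV, hyV, -⟩ :=
          exists_isAffineOpen_mem_and_subset (x := y) (U := ⊤) trivial
        exact ⟨V, hV, hyV⟩
      have hx : f.fiberι y z ∈ f ⁻¹ᵁ V := by
        change f (f.fiberι y z) ∈ V
        rw [Groth.Agent.H1.GenFib.fiberι_apply_mem]; exact hyV
      obtain ⟨U, hU, hxU, hUV⟩ := exists_isAffineOpen_mem_and_subset (U := f ⁻¹ᵁ V) hx
      obtain ⟨W', -, hW'set, -, -, hc⟩ := fibre_core f hU hV hUV (hV.primeIdealOf ⟨y, hyV⟩) y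
        (hV.fromSpec_primeIdealOf ⟨y, hyV⟩)
      have hreg := ((H U V hU hV hUV).2 (hV.primeIdealOf ⟨y, hyV⟩).asIdeal).2
      have hzW' : z ∈ W' := by
        change z ∈ (W' : Set _)
        rw [hW'set]; exact hxU
      exact hc hreg z hzW'
  · rintro ⟨hflat, hfib⟩ U V hU hV hUV
    letI := (f.appLE V U hUV).hom.toAlgebra
    refine ⟨?_, fun p hp => ?_⟩
    · exact (HasRingHomProperty.iff_appLE (P := @Flat)).mp hflat ⟨V, hV⟩ ⟨U, hU⟩ hUV
    · obtain ⟨W', hW', hW'set, ⟨ε⟩, hb, -⟩ :=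
        fibre_core f hU hV hUV ⟨p, hp⟩ (hV.fromSpec ⟨p, hp⟩) rfl
      obtain ⟨hNoeth, hGR⟩ := hfib (hV.fromSpec ⟨p, hp⟩) W' hW'
      have hN' : IsNoetherianRing (p.Fiber Γ(X, U)) := isNoetherianRing_of_ringEquiv _ ε
      refine ⟨hN', hb hN' (fun z hz => ?_)⟩
      have h1 := grhom_germ_of_grhom hW'
        (((Scheme.ΓSpecIso (Y.residueField (hV.fromSpec ⟨p, hp⟩))).inv ≫
          (f.fiberToSpecResidueField (hV.fromSpec ⟨p, hp⟩)).appTop ≫
          (f.fiber (hV.fromSpec ⟨p, hp⟩)).presheaf.map (homOfLE le_top).op).hom) hGR z hz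
      rw [hgerm _ W' z hz] at h1
      exact h1

end Groth.Agent.H1.GeoRegFib
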