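import Mathlib
import Groth.Prelude.Def_W4bk4git07Quot
import Groth.Agent.H4.GdC

/-!
# Universal categorical quotients: surjectivity, invariant functions (helper1)
-/

set_option autoImplicit false
universe u
open CategoryTheory MonoidalCategory CartesianMonoidalCategory MonObj AlgebraicGeometry
  CategoryTheory.Limits

namespace Groth.Agent.H1.GitUCQ

variable {S : Scheme.{u}}

/-! ### points of pullback squares of schemes -/

theorem exists_preimage_of_isPullback {P A B C : Scheme.{u}} {p₁ : P ⟶ A} {p₂ : P ⟶ B}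
    {f : A ⟶ C} {g : B ⟶ C} (h : IsPullback p₁ p₂ f g) (a : A) (b : B)
    (hab : f.base a = g.base b) :
    ∃ p : P, p₁.base p = a ∧ p₂.base p = b := by
  obtain ⟨z, hz1, hz2⟩ := Scheme.Pullback.exists_preimage_pullback a b hab
  refine ⟨h.isoPullback.inv.base z, ?_, ?_⟩
  · have e := congrArg (fun m => m.base z) h.isoPullback_inv_fst
    exact e.trans hz1
  · have e := congrArg (fun m => m.base z) h.isoPullback_inv_snd
    exact e.trans hz2

section Abstract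

variable {C : Type*} [Category C] [CartesianMonoidalCategory C]

theorem isPullback_whiskerLeft (G : C) {F Z : C} (v : F ⟶ Z) :
    IsPullback (G ◁ v) (snd G F) (snd G Z) v := by
  refine ⟨⟨by simp⟩, ⟨PullbackCone.IsLimit.mk _ (fun s => lift (s.fst ≫ fst G Z) s.snd) ?_ ?_ ?_⟩⟩
  · intro s
    apply CartesianMonoidalCategory.hom_ext
    · simp
    · simp [s.condition]
  · intro s; simp
  · intro s m h1 h2
    apply CartesianMonoidalCategory.hom_ext
    · rw [lift_fst, ← h1, Category.assoc, whiskerLeft_fst]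
    · simpa using h2

end Abstract

/-! ### the affine line over `S` as a representing object for global functions -/

/-- the affine line over `S` -/
noncomputable def A1 (S : Scheme.{u}) : Over S := Over.mk (𝔸(PUnit.{u+1}; S) ↘ S)

/-- the morphism to the affine line given by a global function -/
noncomputable def toA1 {T : Over S} (v : Γ(T.left, ⊤)) : T ⟶ A1 S :=
  Over.homMk (AffineSpace.homOfVector T.hom (fun _ => v)) (AffineSpace.homOfVector_over _ _)

/-- the global function of a morphism to the affine line -/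
noncomputable def fn {T : Over S} (t : T ⟶ A1 S) : Γ(T.left, ⊤) :=
  t.left.appTop (AffineSpace.coord S PUnit.unit)

theorem fn_toA1 {T : Over S} (v : Γ(T.left, ⊤)) : fn (toA1 v) = v :=
  AffineSpace.homOfVector_appTop_coord T.hom (fun _ => v) PUnit.unit

theorem toA1_fn {T : Over S} (t : T ⟶ A1 S) : toA1 (fn t) = t := by
  apply Over.OverMorphism.ext
  apply AffineSpace.hom_ext
  · rw [show (toA1 (fn t)).left = AffineSpace.homOfVector T.hom (fun _ => fn t) from rfl,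
      AffineSpace.homOfVector_over]
    exact (Over.w t).symm
  · intro i
    rw [show (toA1 (fn t)).left = AffineSpace.homOfVector T.hom (fun _ => fn t) from rfl,
      AffineSpace.homOfVector_appTop_coord]
    cases i; rfl

theorem fn_comp {T T' : Over S} (m : T' ⟶ T) (t : T ⟶ A1 S) :
    fn (m ≫ t) = m.left.appTop (fn t) := by
  unfold fn
  rw [Over.comp_left, Scheme.Hom.comp_appTop]
  rfl

theorem eq_iff_fn_eq {T : Over S} (t t' : T ⟶ A1 S) : t = t' ↔ fn t = fn t' :=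
  ⟨fun h => h ▸ rfl, fun h => by rw [← toA1_fn t, ← toA1_fn t', h]⟩

/-! ### `appLE` helpers -/

theorem appLE_appLE_eq {A B C : Scheme.{u}} (f : A ⟶ B) (g : B ⟶ C) (k : A ⟶ C) (hk : f ≫ g = k)
    (U : C.Opens) (V : B.Opens) (W : A.Opens) (e₁ : V ≤ g ⁻¹ᵁ U) (e₂ : W ≤ f ⁻¹ᵁ V)
    (e₃ : W ≤ k ⁻¹ᵁ U) (x : Γ(C, U)) :
    f.appLE V W e₂ (g.appLE U V e₁ x) = k.appLE U W e₃ x := by
  subst hk
  rw [← CommRingCat.comp_apply, Scheme.Hom.appLE_comp_appLE]

theorem appTop_eq_appLE {A B : Scheme.{u}} (f : A ⟶ B) (x : Γ(B, ⊤)) :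
    f.appTop x = f.appLE ⊤ ⊤ le_top x := by
  simp [Scheme.Hom.appLE]

theorem appLE_bijective_of_image_top {A B : Scheme.{u}} (j : A ⟶ B) [IsOpenImmersion j]
    (W : B.Opens) (hW : W = j ''ᵁ ⊤) (e : ⊤ ≤ j ⁻¹ᵁ W) :
    Function.Bijective (j.appLE W ⊤ e) := by
  subst hW
  have h1 : j.appLE (j ''ᵁ ⊤) ⊤ e = (j.appIso ⊤).hom := (j.appIso_hom' ⊤).symm
  rw [h1]
  exact ConcreteCategory.bijective_of_isIso (j.appIso ⊤).hom


/-! ### base change stability -/

theorem isUnivCatQuot_baseChange {G X Y X' Y' : Over S} [GrpObj G] (a : AlgGrp.Action G X)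
    (φ : X ⟶ Y) (h : GIT.IsUnivCatQuot a φ) (pr : X' ⟶ X) (φ' : X' ⟶ Y') (g : Y' ⟶ Y)
    (hpb : IsPullback pr φ' φ g) (a' : AlgGrp.Action G X')
    (heq : a'.act ≫ pr = (G ◁ pr) ≫ a.act) (hinv' : GIT.IsInvariant a' φ') :
    GIT.IsUnivCatQuot a' φ' := by
  refine ⟨h.2 pr φ' g trivial hpb a' heq hinv', ?_⟩
  intro X'' Y'' pr' φ'' g' _ hpb' a'' heq' hinv''
  have big : IsPullback (pr' ≫ pr) φ'' φ (g' ≫ g) := hpb'.paste_horiz hpb
  refine h.2 (pr' ≫ pr) φ'' (g' ≫ g) trivial big a'' ?_ hinv''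
  rw [← Category.assoc, heq', Category.assoc, heq, MonoidalCategory.whiskerLeft_comp,
    Category.assoc]

/-! ### surjectivity -/

theorem surjective_of_univCatQuot {G X Y : Over S} [GrpObj G] (a : AlgGrp.Action G X)
    (φ : X ⟶ Y) (h : GIT.IsUnivCatQuot a φ) : Function.Surjective φ.left.base := by
  intro y
  by_contra hy
  have key : ∀ (Y' : Over S) (g : Y' ⟶ Y), Nonempty Y'.left →
      (∀ y' : Y'.left, g.left.base y' = y) → False := by
    intro Y' g hne hgy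
    obtain ⟨X', pr, φ', hpb⟩ : ∃ (X' : Over S) (pr : X' ⟶ X) (φ' : X' ⟶ Y'),
      IsPullback pr φ' φ g := ⟨_, _, _, IsPullback.of_hasPullback φ g⟩
    obtain ⟨a', heq, hinv'⟩ := Groth.Agent.H4.GdC.exists_action_baseChange a φ h.1.1 g pr φ' hpb
    have hcq : GIT.IsCatQuot a' φ' := h.2 pr φ' g trivial hpb a' heq hinv'
    have hwL : pr.left ≫ φ.left = φ'.left ≫ g.left := by
      rw [← Over.comp_left, ← Over.comp_left]; exact congrArg CommaMorphism.left hpb.w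
    haveI hemp : IsEmpty X'.left := ⟨fun x' => hy ⟨pr.left.base x', by
      have e := congrArg (fun m => m.base x') hwL
      exact e.trans (hgy _)⟩⟩
    haveI hemp2 : IsEmpty (G ⊗ X').left := Function.isEmpty (snd G X').left.base
    obtain ⟨Z, hZ⟩ : ∃ Z : Over S, Z = Over.mk (Scheme.emptyTo S) := ⟨_, rfl⟩
    haveI hempZ : IsEmpty Z.left := by subst hZ; exact inferInstanceAs (IsEmpty (∅ : Scheme.{u}))
    obtain ⟨ψ⟩ : Nonempty (X' ⟶ Z) :=
      ⟨Over.homMk ((isInitialOfIsEmpty (X := X'.left)).to Z.left)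
        (IsInitial.hom_ext isInitialOfIsEmpty _ _)⟩
    have hψ : GIT.IsInvariant a' ψ := by
      apply Over.OverMorphism.ext
      exact IsInitial.hom_ext isInitialOfIsEmpty _ _
    obtain ⟨χ, -, -⟩ := hcq.2 Z ψ hψ
    obtain ⟨y'⟩ := hne
    exact hempZ.false (χ.left.base y')
  refine key (Over.mk (Y.left.fromSpecResidueField y ≫ Y.hom))
    (Over.homMk (Y.left.fromSpecResidueField y) rfl) ?_ ?_
  · exact inferInstanceAs (Nonempty (Spec (Y.left.residueField y)))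
  · intro y'
    have : (Y.left.fromSpecResidueField y).base y' ∈
        Set.range (Y.left.fromSpecResidueField y).base := ⟨y', rfl⟩
    rw [Scheme.range_fromSpecResidueField] at this
    exact this


/-! ### orbit surjectivity is stable under base change -/

theorem psiY_fst {G X Y : Over S} [GrpObj G] (a : AlgGrp.Action G X) (φ : X ⟶ Y)
    (hinv : GIT.IsInvariant a φ) :
    GIT.PsiY a φ hinv ≫ pullback.fst φ.left φ.left = a.act.left :=
  pullback.lift_fst _ _ _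

theorem psiY_snd {G X Y : Over S} [GrpObj G] (a : AlgGrp.Action G X) (φ : X ⟶ Y)
    (hinv : GIT.IsInvariant a φ) :
    GIT.PsiY a φ hinv ≫ pullback.snd φ.left φ.left = (snd G X).left :=
  pullback.lift_snd _ _ _

theorem orbit_baseChange {G X Y X' Y' : Over S} [GrpObj G] (a : AlgGrp.Action G X) (φ : X ⟶ Y)
    (hinv : GIT.IsInvariant a φ) (pr : X' ⟶ X) (φ' : X' ⟶ Y') (g : Y' ⟶ Y)
    (hpb : IsPullback pr φ' φ g) (a' : AlgGrp.Action G X')
    (heq : a'.act ≫ pr = (G ◁ pr) ≫ a.act) (hinv' : GIT.IsInvariant a' φ')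
    (horb : Function.Surjective (GIT.PsiY a φ hinv).base) :
    Function.Surjective (GIT.PsiY a' φ' hinv').base := by
  have hwL : pr.left ≫ φ.left = φ'.left ≫ g.left := by
    rw [← Over.comp_left, ← Over.comp_left]; exact congrArg CommaMorphism.left hpb.w
  have heqL : a'.act.left ≫ pr.left = (G ◁ pr).left ≫ a.act.left := by
    rw [← Over.comp_left, ← Over.comp_left]; exact congrArg CommaMorphism.left heq
  have hinvL' := hinv'.left
  have hpbL : IsPullback pr.left φ'.left φ.left g.left := hpb.map (Over.forget S)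
  have hpbG : IsPullback (G ◁ pr).left (snd G X').left (snd G X).left pr.left :=
    (isPullback_whiskerLeft G pr).map (Over.forget S)
  obtain ⟨Ψ, hΨ⟩ : ∃ Ψ, Ψ = GIT.PsiY a φ hinv := ⟨_, rfl⟩
  obtain ⟨Ψ', hΨ'⟩ : ∃ Ψ', Ψ' = GIT.PsiY a' φ' hinv' := ⟨_, rfl⟩
  have hΨ1 : Ψ ≫ pullback.fst φ.left φ.left = a.act.left := by rw [hΨ]; exact psiY_fst a φ hinv
  have hΨ2 : Ψ ≫ pullback.snd φ.left φ.left = (snd G X).left := by
    rw [hΨ]; exact psiY_snd a φ hinv
  have hΨ1' : Ψ' ≫ pullback.fst φ'.left φ'.left = a'.act.left := by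
    rw [hΨ']; exact psiY_fst a' φ' hinv'
  have hΨ2' : Ψ' ≫ pullback.snd φ'.left φ'.left = (snd G X').left := by
    rw [hΨ']; exact psiY_snd a' φ' hinv'
  rw [← hΨ] at horb
  rw [← hΨ']
  haveI : Surjective Ψ := ⟨horb⟩
  obtain ⟨m, hm1, hm2⟩ : ∃ m : pullback φ'.left φ'.left ⟶ pullback φ.left φ.left,
      m ≫ pullback.fst φ.left φ.left = pullback.fst φ'.left φ'.left ≫ pr.left ∧
      m ≫ pullback.snd φ.left φ.left = pullback.snd φ'.left φ'.left ≫ pr.left :=
    ⟨pullback.map φ'.left φ'.left φ.left φ.left pr.left pr.left g.left hwL.symm hwL.symm,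
      pullback.lift_fst _ _ _, pullback.lift_snd _ _ _⟩
  have hsurj : Function.Surjective (pullback.snd Ψ m).base :=
    (inferInstance : Surjective (pullback.snd Ψ m)).surj
  have hcond : pullback.fst Ψ m ≫ (snd G X).left =
      (pullback.snd Ψ m ≫ pullback.snd φ'.left φ'.left) ≫ pr.left := by
    rw [← hΨ2, ← Category.assoc, pullback.condition, Category.assoc, hm2, Category.assoc]
  obtain ⟨w, hw1, hw2⟩ : ∃ w : pullback Ψ m ⟶ (G ⊗ X').left,
      w ≫ (G ◁ pr).left = pullback.fst Ψ m ∧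
      w ≫ (snd G X').left = pullback.snd Ψ m ≫ pullback.snd φ'.left φ'.left :=
    ⟨hpbG.lift _ _ hcond, hpbG.lift_fst _ _ _, hpbG.lift_snd _ _ _⟩
  have hmain : w ≫ Ψ' = pullback.snd Ψ m := by
    apply pullback.hom_ext
    · rw [Category.assoc, hΨ1']
      apply hpbL.hom_ext
      · rw [Category.assoc, heqL, ← Category.assoc, hw1, ← hΨ1, ← Category.assoc,
          pullback.condition, Category.assoc, hm1, Category.assoc]
      · rw [Category.assoc, hinvL', ← Category.assoc, hw2, Category.assoc, Category.assoc,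
          pullback.condition]
    · rw [Category.assoc, hΨ2', hw2]
  intro z
  obtain ⟨p, hp⟩ := hsurj z
  refine ⟨w.base p, ?_⟩
  have e := congrArg (fun k => k.base p) hmain
  exact e.trans hp


/-! ### invariant functions -/

theorem sections_aux {G X Y X' Y' : Over S} [GrpObj G] (a : AlgGrp.Action G X) (φ : X ⟶ Y)
    (U : Y.left.Opens)
    (pr : X' ⟶ X) (φ' : X' ⟶ Y') (g : Y' ⟶ Y) (hpb : IsPullback pr φ' φ g)
    [IsOpenImmersion g.left] (hgU : g.left.opensRange = U)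
    (a' : AlgGrp.Action G X') (heq : a'.act ≫ pr = (G ◁ pr) ≫ a.act)
    (hinv' : GIT.IsInvariant a' φ') (hcq : GIT.IsCatQuot a' φ') :
    Function.Injective (φ.left.app U) ∧
      Set.range (φ.left.app U) = {f | GIT.IsInvSection a φ U f} := by
  have hwL : pr.left ≫ φ.left = φ'.left ≫ g.left := by
    rw [← Over.comp_left, ← Over.comp_left]; exact congrArg CommaMorphism.left hpb.w
  have heqL : a'.act.left ≫ pr.left = (G ◁ pr).left ≫ a.act.left := by
    rw [← Over.comp_left, ← Over.comp_left]; exact congrArg CommaMorphism.left heq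
  have hsndL : (snd G X').left ≫ pr.left = (G ◁ pr).left ≫ (snd G X).left := by
    rw [← Over.comp_left, ← Over.comp_left]
    exact congrArg CommaMorphism.left (whiskerLeft_snd G pr).symm
  have hpbL : IsPullback pr.left φ'.left φ.left g.left := hpb.map (Over.forget S)
  have hpbG : IsPullback (G ◁ pr).left (snd G X').left (snd G X).left pr.left :=
    (isPullback_whiskerLeft G pr).map (Over.forget S)
  haveI : IsOpenImmersion pr.left :=
    MorphismProperty.of_isPullback (P := @IsOpenImmersion) hpbL.flip inferInstance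
  haveI : IsOpenImmersion (G ◁ pr).left :=
    MorphismProperty.of_isPullback (P := @IsOpenImmersion) hpbG.flip inferInstance
  have hUset : ∀ y : Y.left, y ∈ U ↔ y ∈ Set.range g.left.base := by
    intro y; rw [← hgU]; rfl
  have hVset : ∀ x : X.left, x ∈ φ.left ⁻¹ᵁ U ↔ x ∈ Set.range pr.left.base := by
    intro x
    constructor
    · intro hx
      obtain ⟨y', hy'⟩ := (hUset _).1 hx
      obtain ⟨p, hp1, -⟩ := exists_preimage_of_isPullback hpbL x y' hy'.symm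
      exact ⟨p, hp1⟩
    · rintro ⟨x', rfl⟩
      show φ.left.base (pr.left.base x') ∈ U
      rw [hUset]
      exact ⟨φ'.left.base x', (congrArg (fun m => m.base x') hwL).symm⟩
  have hprV : φ.left ⁻¹ᵁ U = pr.left ''ᵁ ⊤ := by
    apply SetLike.ext
    intro x
    exact (hVset x).trans ⟨fun ⟨x', h⟩ => ⟨x', trivial, h⟩, fun ⟨x', _, h⟩ => ⟨x', h⟩⟩
  have hUg : U = g.left ''ᵁ ⊤ := by rw [Scheme.Hom.image_top_eq_opensRange, hgU]
  have eY : ⊤ ≤ g.left ⁻¹ᵁ U := fun y' _ => (hUset _).2 ⟨y', rfl⟩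
  have eX : ⊤ ≤ pr.left ⁻¹ᵁ (φ.left ⁻¹ᵁ U) := fun x' _ => (hVset _).2 ⟨x', rfl⟩
  have hrY : Function.Bijective (g.left.appLE U ⊤ eY) :=
    appLE_bijective_of_image_top g.left U hUg eY
  have hrX : Function.Bijective (pr.left.appLE (φ.left ⁻¹ᵁ U) ⊤ eX) :=
    appLE_bijective_of_image_top pr.left _ hprV eX
  have hcompat : ∀ s : Γ(Y.left, U), pr.left.appLE (φ.left ⁻¹ᵁ U) ⊤ eX (φ.left.app U s) =
      φ'.left.appTop (g.left.appLE U ⊤ eY s) := by
    intro s
    have e3 : (⊤ : X'.left.Opens) ≤ (pr.left ≫ φ.left) ⁻¹ᵁ U := fun x' hx' => eX hx'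
    rw [Scheme.Hom.app_eq_appLE,
      appLE_appLE_eq pr.left φ.left (pr.left ≫ φ.left) rfl U (φ.left ⁻¹ᵁ U) ⊤ le_rfl eX e3 s,
      appTop_eq_appLE,
      appLE_appLE_eq φ'.left g.left (pr.left ≫ φ.left) hwL.symm U ⊤ ⊤ eY le_top e3 s]
  -- the invariance criterion
  have hjW' : ∀ z : (G ⊗ X').left, (G ◁ pr).left.base z ∈
      a.act.left ⁻¹ᵁ (φ.left ⁻¹ᵁ U) ⊓ (snd G X).left ⁻¹ᵁ (φ.left ⁻¹ᵁ U) := by
    intro z
    constructor
    · show a.act.left.base ((G ◁ pr).left.base z) ∈ φ.left ⁻¹ᵁ U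
      rw [hVset]
      exact ⟨a'.act.left.base z, congrArg (fun m => m.base z) heqL⟩
    · show (snd G X).left.base ((G ◁ pr).left.base z) ∈ φ.left ⁻¹ᵁ U
      rw [hVset]
      exact ⟨(snd G X').left.base z, congrArg (fun m => m.base z) hsndL⟩
  have hjW : a.act.left ⁻¹ᵁ (φ.left ⁻¹ᵁ U) ⊓ (snd G X).left ⁻¹ᵁ (φ.left ⁻¹ᵁ U) =
      (G ◁ pr).left ''ᵁ ⊤ := by
    apply SetLike.ext
    intro w
    constructor
    · rintro ⟨-, h2⟩
      have h2' : (snd G X).left.base w ∈ φ.left ⁻¹ᵁ U := h2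
      obtain ⟨x', hx'⟩ := (hVset _).1 h2'
      obtain ⟨z, hz1, -⟩ := exists_preimage_of_isPullback hpbG w x' hx'.symm
      exact ⟨z, trivial, hz1⟩
    · rintro ⟨z, -, rfl⟩
      exact hjW' z
  have ej : ⊤ ≤ (G ◁ pr).left ⁻¹ᵁ
      (a.act.left ⁻¹ᵁ (φ.left ⁻¹ᵁ U) ⊓ (snd G X).left ⁻¹ᵁ (φ.left ⁻¹ᵁ U)) :=
    fun z _ => hjW' z
  have hjinj : Function.Injective ((G ◁ pr).left.appLE _ ⊤ ej) :=
    (appLE_bijective_of_image_top (G ◁ pr).left _ hjW ej).1
  have hA : ∀ f : Γ(X.left, φ.left ⁻¹ᵁ U),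
      a'.act.left.appTop (pr.left.appLE (φ.left ⁻¹ᵁ U) ⊤ eX f) =
        (G ◁ pr).left.appLE _ ⊤ ej (a.act.left.appLE (φ.left ⁻¹ᵁ U)
          (a.act.left ⁻¹ᵁ (φ.left ⁻¹ᵁ U) ⊓ (snd G X).left ⁻¹ᵁ (φ.left ⁻¹ᵁ U)) inf_le_left f) := by
    intro f
    have e3 : (⊤ : (G ⊗ X').left.Opens) ≤ ((G ◁ pr).left ≫ a.act.left) ⁻¹ᵁ (φ.left ⁻¹ᵁ U) :=
      fun z _ => (hjW' z).1
    rw [appTop_eq_appLE,
      appLE_appLE_eq a'.act.left pr.left ((G ◁ pr).left ≫ a.act.left) heqL (φ.left ⁻¹ᵁ U) ⊤ ⊤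
        eX le_top e3 f,
      appLE_appLE_eq (G ◁ pr).left a.act.left ((G ◁ pr).left ≫ a.act.left) rfl (φ.left ⁻¹ᵁ U) _ ⊤
        inf_le_left ej e3 f]
  have hB : ∀ f : Γ(X.left, φ.left ⁻¹ᵁ U),
      (snd G X').left.appTop (pr.left.appLE (φ.left ⁻¹ᵁ U) ⊤ eX f) =
        (G ◁ pr).left.appLE _ ⊤ ej ((snd G X).left.appLE (φ.left ⁻¹ᵁ U)
          (a.act.left ⁻¹ᵁ (φ.left ⁻¹ᵁ U) ⊓ (snd G X).left ⁻¹ᵁ (φ.left ⁻¹ᵁ U)) inf_le_right f) := by
    intro f
    have e3 : (⊤ : (G ⊗ X').left.Opens) ≤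
        ((G ◁ pr).left ≫ (snd G X).left) ⁻¹ᵁ (φ.left ⁻¹ᵁ U) :=
      fun z _ => (hjW' z).2
    rw [appTop_eq_appLE,
      appLE_appLE_eq (snd G X').left pr.left ((G ◁ pr).left ≫ (snd G X).left) hsndL
        (φ.left ⁻¹ᵁ U) ⊤ ⊤ eX le_top e3 f,
      appLE_appLE_eq (G ◁ pr).left (snd G X).left ((G ◁ pr).left ≫ (snd G X).left) rfl
        (φ.left ⁻¹ᵁ U) _ ⊤ inf_le_right ej e3 f]
  have hK : ∀ f : Γ(X.left, φ.left ⁻¹ᵁ U), GIT.IsInvSection a φ U f ↔
      GIT.IsInvariant a' (toA1 (pr.left.appLE (φ.left ⁻¹ᵁ U) ⊤ eX f)) := by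
    intro f
    have h1 : GIT.IsInvariant a' (toA1 (pr.left.appLE (φ.left ⁻¹ᵁ U) ⊤ eX f)) ↔
        a'.act.left.appTop (pr.left.appLE (φ.left ⁻¹ᵁ U) ⊤ eX f) =
          (snd G X').left.appTop (pr.left.appLE (φ.left ⁻¹ᵁ U) ⊤ eX f) := by
      unfold GIT.IsInvariant
      rw [eq_iff_fn_eq, fn_comp, fn_comp, fn_toA1]
    rw [h1, hA, hB]
    constructor
    · intro hf
      have hf' : a.act.left.appLE (φ.left ⁻¹ᵁ U)
          (a.act.left ⁻¹ᵁ (φ.left ⁻¹ᵁ U) ⊓ (snd G X).left ⁻¹ᵁ (φ.left ⁻¹ᵁ U)) inf_le_left f =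
          (snd G X).left.appLE (φ.left ⁻¹ᵁ U)
          (a.act.left ⁻¹ᵁ (φ.left ⁻¹ᵁ U) ⊓ (snd G X).left ⁻¹ᵁ (φ.left ⁻¹ᵁ U)) inf_le_right f := hf
      rw [hf']
    · intro hf
      exact hjinj hf
  have hinvcomp : ∀ t : Y' ⟶ A1 S, GIT.IsInvariant a' (φ' ≫ t) := by
    intro t
    unfold GIT.IsInvariant
    rw [← Category.assoc, ← Category.assoc, show a'.act ≫ φ' = snd G X' ≫ φ' from hinv']
  refine ⟨?_, ?_⟩
  · intro s₁ s₂ hs
    apply hrY.1
    have hψ : φ' ≫ toA1 (g.left.appLE U ⊤ eY s₁) = φ' ≫ toA1 (g.left.appLE U ⊤ eY s₂) := by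
      rw [eq_iff_fn_eq, fn_comp, fn_comp, fn_toA1, fn_toA1, ← hcompat, ← hcompat, hs]
    obtain ⟨χ, -, huniq⟩ := hcq.2 (A1 S) (φ' ≫ toA1 (g.left.appLE U ⊤ eY s₁)) (hinvcomp _)
    have e1 := huniq (toA1 (g.left.appLE U ⊤ eY s₁)) rfl
    have e2 := huniq (toA1 (g.left.appLE U ⊤ eY s₂)) hψ.symm
    have e3 := congrArg fn (e1.trans e2.symm)
    rwa [fn_toA1, fn_toA1] at e3
  · ext f
    constructor
    · rintro ⟨s, rfl⟩
      show GIT.IsInvSection a φ U (φ.left.app U s)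
      rw [hK, hcompat]
      have e : toA1 (φ'.left.appTop (g.left.appLE U ⊤ eY s)) =
          φ' ≫ toA1 (g.left.appLE U ⊤ eY s) := by
        rw [eq_iff_fn_eq, fn_comp, fn_toA1, fn_toA1]
      rw [e]
      exact hinvcomp _
    · intro hf
      have hf' : GIT.IsInvSection a φ U f := hf
      rw [hK] at hf'
      obtain ⟨χ, hχ, -⟩ := hcq.2 (A1 S) _ hf'
      obtain ⟨s, hs⟩ := hrY.2 (fn χ)
      refine ⟨s, hrX.1 ?_⟩
      rw [hcompat, hs, ← fn_comp, hχ, fn_toA1]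

theorem sections_of_univCatQuot {G X Y : Over S} [GrpObj G] (a : AlgGrp.Action G X)
    (φ : X ⟶ Y) (h : GIT.IsUnivCatQuot a φ) (U : Y.left.Opens) :
    Function.Injective (φ.left.app U) ∧
      Set.range (φ.left.app U) = {f | GIT.IsInvSection a φ U f} := by
  obtain ⟨Y', g, hgi, hgU⟩ : ∃ (Y' : Over S) (g : Y' ⟶ Y) (_ : IsOpenImmersion g.left),
      g.left.opensRange = U :=
    ⟨Over.mk (U.ι ≫ Y.hom), Over.homMk U.ι rfl, inferInstanceAs (IsOpenImmersion U.ι),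
      Scheme.Opens.opensRange_ι U⟩
  haveI := hgi
  obtain ⟨X', pr, φ', hpb⟩ : ∃ (X' : Over S) (pr : X' ⟶ X) (φ' : X' ⟶ Y'),
    IsPullback pr φ' φ g := ⟨_, _, _, IsPullback.of_hasPullback φ g⟩
  obtain ⟨a', heq, hinv'⟩ := Groth.Agent.H4.GdC.exists_action_baseChange a φ h.1.1 g pr φ' hpb
  exact sections_aux a φ U pr φ' g hpb hgU a' heq hinv' (h.2 pr φ' g trivial hpb a' heq hinv')

/-! ### main theorem -/

theorem main (S : Scheme.{u}) (G X Y : Over S) [GrpObj G]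
    (a : AlgGrp.Action G X) (φ : X ⟶ Y) (h : GIT.IsUnivCatQuot a φ) :
    Function.Surjective φ.left.base ∧
      (∀ U : Y.left.Opens,
        Function.Injective (φ.left.app U) ∧ Set.range (φ.left.app U) = {f | GIT.IsInvSection a φ U f}) ∧
      (GIT.IsUnivGeomQuot a φ ↔
        GIT.IsUnivSubmersive φ.left ∧ Function.Surjective (GIT.PsiY a φ h.1.1).base) := by
  refine ⟨surjective_of_univCatQuot a φ h, sections_of_univCatQuot a φ h,
    ⟨fun hg => ⟨hg.1.subm, hg.1.orbit⟩, ?_⟩⟩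
  rintro ⟨hs, ho⟩
  refine ⟨⟨h.1.1, surjective_of_univCatQuot a φ h, ho, hs, sections_of_univCatQuot a φ h⟩, ?_⟩
  intro X' Y' pr φ' g _ hpb a' heq hinv'
  have h' := isUnivCatQuot_baseChange a φ h pr φ' g hpb a' heq hinv'
  have hpbL : IsPullback pr.left φ'.left φ.left g.left := hpb.map (Over.forget S)
  refine ⟨hinv', surjective_of_univCatQuot a' φ' h',
    orbit_baseChange a φ h.1.1 pr φ' g hpb a' heq hinv' ho, ?_, sections_of_univCatQuot a' φ' h'⟩
  unfold GIT.IsUnivSubmersive at hs ⊢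
  exact MorphismProperty.of_isPullback hpbL hs

end Groth.Agent.H1.GitUCQ
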