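import Mathlib
import Groth.Prelude.Def_CycDet
import Groth.Agent.Lib.Helper1.MultDev

/-!
# Good sequences of generators with graded pieces `R/q` (helper1)
-/

set_option autoImplicit false
set_option linter.style.haveILetI false
set_option linter.unusedSectionVars false
universe u v

namespace Groth.Agent.H1.GoodSeq
open CycDet Groth.Agent.H1.SemiLocLen Groth.Agent.H1.MultDev

section SB
variable {R : Type u} [CommRing R] [IsLocalRing R] {M : Type v} [AddCommGroup M] [Module R M]

theorem spanBefore_mono {l : ℕ} (x : Fin l → M) {i j : ℕ} (h : i ≤ j) :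
    spanBefore R M x i ≤ spanBefore R M x j := by
  unfold spanBefore
  apply Submodule.span_mono
  apply Set.image_mono
  intro k hk
  exact lt_of_lt_of_le hk h

theorem spanBefore_of_ge {l : ℕ} (x : Fin l → M) {i : ℕ} (h : l ≤ i) :
    spanBefore R M x i = Submodule.span R (Set.range x) := by
  unfold spanBefore
  congr 1
  ext m
  constructor
  · rintro ⟨k, -, rfl⟩; exact ⟨k, rfl⟩
  · rintro ⟨k, rfl⟩; exact ⟨k, lt_of_lt_of_le k.2 h, rfl⟩

theorem spanBefore_zero {l : ℕ} (x : Fin l → M) : spanBefore R M x 0 = ⊥ := by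
  unfold spanBefore
  rw [Submodule.span_eq_bot]
  rintro _ ⟨k, hk, rfl⟩
  exact absurd hk (Nat.not_lt_zero _)

theorem spanBefore_snoc_of_le {l : ℕ} (x : Fin l → M) (y : M) {i : ℕ} (h : i ≤ l) :
    spanBefore R M (Fin.snoc x y : Fin (l + 1) → M) i = spanBefore R M x i := by
  unfold spanBefore
  congr 1
  ext m
  constructor
  · rintro ⟨k, hk, rfl⟩
    have hk' : (k : ℕ) < i := hk
    have hkl : (k : ℕ) < l := lt_of_lt_of_le hk' h
    refine ⟨⟨k, hkl⟩, hk', ?_⟩
    have : (Fin.snoc x y : Fin (l + 1) → M) k =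
        (Fin.snoc x y : Fin (l + 1) → M) (Fin.castSucc ⟨k, hkl⟩) := rfl
    rw [this, Fin.snoc_castSucc]
  · rintro ⟨k, hk, rfl⟩
    refine ⟨Fin.castSucc k, hk, ?_⟩
    rw [Fin.snoc_castSucc]

theorem spanBefore_snoc_last {l : ℕ} (x : Fin l → M) (y : M) :
    spanBefore R M (Fin.snoc x y : Fin (l + 1) → M) (l + 1) =
      Submodule.span R (Set.range x) ⊔ Submodule.span R {y} := by
  rw [spanBefore_of_ge _ le_rfl, ← Submodule.span_union]
  congr 1
  ext m
  constructor
  · rintro ⟨k, rfl⟩
    induction k using Fin.lastCases with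
    | last => right; rw [Fin.snoc_last]; rfl
    | cast k => left; rw [Fin.snoc_castSucc]; exact ⟨k, rfl⟩
  · rintro (⟨k, rfl⟩ | hm)
    · exact ⟨Fin.castSucc k, by rw [Fin.snoc_castSucc]⟩
    · refine ⟨Fin.last l, ?_⟩
      rw [Fin.snoc_last]; exact hm.symm

end SB
section Good
variable {R : Type u} [CommRing R] [IsLocalRing R] {M : Type v} [AddCommGroup M] [Module R M]
  (q : PrimeSpectrum R)

/-- the successive quotients are `R/q`. -/
def Good {l : ℕ} (x : Fin l → M) : Prop :=
  ∀ i : Fin l, Nonempty ((↥(spanBefore R M x (i + 1)) ⧸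
    (spanBefore R M x i).submoduleOf (spanBefore R M x (i + 1))) ≃ₗ[R] (R ⧸ q.asIdeal))

/-- uniqueness of the length of a good sequence. -/
theorem L_spanBefore {l : ℕ} (x : Fin l → M) (hx : Good q x) (i : ℕ) (hi : i ≤ l) :
    L q.asIdeal (spanBefore R M x i) = i := by
  induction i with
  | zero =>
    rw [spanBefore_zero]
    haveI : Subsingleton (⊥ : Submodule R M) := inferInstance
    rw [L_of_subsingleton]; rfl
  | succ i ih =>
    obtain ⟨e⟩ := hx ⟨i, by omega⟩
    have hle : spanBefore R M x i ≤ spanBefore R M x (i + 1) := spanBefore_mono x (Nat.le_succ i)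
    have h1 := L_add q.asIdeal (Submodule.inclusion hle)
      ((spanBefore R M x i).submoduleOf (spanBefore R M x (i + 1))).mkQ
      (Submodule.inclusion_injective hle) (Submodule.mkQ_surjective _)
      (by
        intro z
        rw [Submodule.mkQ_apply, Submodule.Quotient.mk_eq_zero]
        constructor
        · intro hz; exact ⟨⟨z.1, hz⟩, rfl⟩
        · rintro ⟨w, rfl⟩; exact w.2)
    rw [h1, ih (by omega), L_congr q.asIdeal e, L_quot_prime_self]
    push_cast; rfl

theorem length_eq_of_good {l : ℕ} (x : Fin l → M) (hx : Good q x)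
    (hq : q ∉ Module.support R (M ⧸ Submodule.span R (Set.range x))) :
    (l : ℕ∞) = Module.length (Localization.AtPrime q.asIdeal)
      (LocalizedModule q.asIdeal.primeCompl M) := by
  have h0 : L q.asIdeal (M ⧸ Submodule.span R (Set.range x)) = 0 := by
    rw [Module.notMem_support_iff] at hq
    unfold L
    rw [Module.length_eq_zero_iff]
    exact hq
  have h1 := L_add q.asIdeal (Submodule.span R (Set.range x)).subtype
    (Submodule.span R (Set.range x)).mkQ (Submodule.injective_subtype _)
    (Submodule.mkQ_surjective _)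
    (by
      intro z
      rw [Submodule.mkQ_apply, Submodule.Quotient.mk_eq_zero]
      constructor
      · intro hz; exact ⟨⟨z, hz⟩, rfl⟩
      · rintro ⟨w, rfl⟩; exact w.2)
  have h2 := L_spanBefore q x hx l le_rfl
  rw [spanBefore_of_ge x le_rfl] at h2
  change _ = L q.asIdeal M
  rw [h1, h0, h2, add_zero]

end Good

section Exist
variable {R : Type u} [CommRing R] [IsLocalRing R] {M : Type v} [AddCommGroup M] [Module R M]
  (q : PrimeSpectrum R)

theorem good_snoc {l : ℕ} (x : Fin l → M) (hx : Good q x) (y : M)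
    (hy : ∀ r : R, r • y ∈ Submodule.span R (Set.range x) ↔ r ∈ q.asIdeal) :
    Good q (Fin.snoc x y : Fin (l + 1) → M) := by
  intro i
  induction i using Fin.lastCases with
  | cast i =>
    have h1 : ((Fin.castSucc i : Fin (l + 1)) : ℕ) = (i : ℕ) := rfl
    rw [h1, spanBefore_snoc_of_le x y (show (i : ℕ) + 1 ≤ l by omega),
      spanBefore_snoc_of_le x y (show (i : ℕ) ≤ l by omega)]
    exact hx i
  | last =>
    have h1 : ((Fin.last l : Fin (l + 1)) : ℕ) = l := rfl
    rw [h1, spanBefore_snoc_last, spanBefore_snoc_of_le x y le_rfl, spanBefore_of_ge x le_rfl]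
    set N := Submodule.span R (Set.range x) with hN
    have hyN' : y ∈ N ⊔ Submodule.span R {y} :=
      (le_sup_right : Submodule.span R {y} ≤ _) (Submodule.mem_span_singleton_self y)
    let f : R →ₗ[R] (↥(N ⊔ Submodule.span R {y}) ⧸ N.submoduleOf (N ⊔ Submodule.span R {y})) :=
      (N.submoduleOf (N ⊔ Submodule.span R {y})).mkQ ∘ₗ
        LinearMap.toSpanSingleton R _ (⟨y, hyN'⟩ : ↥(N ⊔ Submodule.span R {y}))
    have hf : Function.Surjective f := by
      intro z
      induction z using Submodule.Quotient.induction_on with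
      | H z =>
        obtain ⟨z, hz⟩ := z
        obtain ⟨n, hn, w, hw, rfl⟩ := Submodule.mem_sup.mp hz
        obtain ⟨r, rfl⟩ := Submodule.mem_span_singleton.mp hw
        refine ⟨r, ?_⟩
        change (Submodule.Quotient.mk _ : _ ⧸ N.submoduleOf (N ⊔ Submodule.span R {y})) =
          Submodule.Quotient.mk _
        rw [Submodule.Quotient.eq]
        change ((r • (⟨y, hyN'⟩ : ↥(N ⊔ Submodule.span R {y})) - ⟨n + r • y, hz⟩ :
          ↥(N ⊔ Submodule.span R {y})) : M) ∈ N
        simp only [Submodule.coe_sub, Submodule.coe_smul]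
        rw [sub_add_cancel_right]
        exact N.neg_mem hn
    have hk : LinearMap.ker f = q.asIdeal := by
      ext r
      rw [LinearMap.mem_ker, ← hy r]
      change (Submodule.Quotient.mk _ : _ ⧸ N.submoduleOf (N ⊔ Submodule.span R {y})) = 0 ↔ _
      rw [Submodule.Quotient.mk_eq_zero]
      rfl
    exact ⟨(f.quotKerEquivOfSurjective hf).symm.trans (Submodule.quotEquivOfEq _ _ hk)⟩

variable [IsNoetherianRing R] [Module.Finite R M]

theorem exists_good (hq : Minimal (fun p : PrimeSpectrum R => p ∈ Module.support R M) q) :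
    ∃ (l : ℕ) (x : Fin l → M),
      q ∉ Module.support R (M ⧸ Submodule.span R (Set.range x)) ∧ Good q x := by
  let S : Set (Submodule R M) :=
    {N | ∃ (l : ℕ) (x : Fin l → M), Good q x ∧ Submodule.span R (Set.range x) = N}
  have hS : S.Nonempty := by
    refine ⟨⊥, 0, Fin.elim0, fun i => i.elim0, ?_⟩
    rw [Submodule.span_eq_bot]
    rintro _ ⟨k, rfl⟩
    exact k.elim0
  obtain ⟨N, ⟨l, x, hx, rfl⟩, hmax⟩ :=
    (IsWellFounded.wf : WellFounded ((· > ·) : Submodule R M → Submodule R M → Prop)).has_min S hS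
  refine ⟨l, x, ?_, hx⟩
  intro hq'
  set N := Submodule.span R (Set.range x) with hN
  have hmin : q.asIdeal ∈ (Module.annihilator R (M ⧸ N)).minimalPrimes := by
    refine ⟨⟨q.isPrime, Module.mem_support_iff_of_finite.mp hq'⟩, ?_⟩
    rintro p' ⟨hp', hann⟩ hle
    have h1 : (⟨p', hp'⟩ : PrimeSpectrum R) ∈ Module.support R (M ⧸ N) :=
      Module.mem_support_iff_of_finite.mpr hann
    have h2 : (⟨p', hp'⟩ : PrimeSpectrum R) ∈ Module.support R M :=
      Module.support_subset_of_surjective _ (Submodule.mkQ_surjective N) h1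
    exact hq.2 h2 hle
  have hass := Module.associatedPrimes.minimalPrimes_annihilator_subset_associatedPrimes R (M ⧸ N)
    hmin
  obtain ⟨-, ybar, hybar⟩ := isAssociatedPrime_iff.mp hass
  obtain ⟨y, rfl⟩ := Submodule.Quotient.mk_surjective _ ybar
  have hy : ∀ r : R, r • y ∈ N ↔ r ∈ q.asIdeal := by
    intro r
    rw [hybar, Submodule.mem_colon_singleton, Submodule.mem_bot, ← Submodule.Quotient.mk_smul,
      Submodule.Quotient.mk_eq_zero]
  have hgood := good_snoc q x hx y hy
  have hspan : Submodule.span R (Set.range (Fin.snoc x y : Fin (l + 1) → M)) =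
      N ⊔ Submodule.span R {y} := by
    rw [← spanBefore_of_ge (R := R) _ le_rfl, spanBefore_snoc_last]
  have hmem : N ⊔ Submodule.span R {y} ∈ S := ⟨l + 1, Fin.snoc x y, hgood, hspan⟩
  apply hmax _ hmem
  refine lt_of_le_of_ne le_sup_left ?_
  intro heq
  have hyN : y ∈ N := by
    rw [heq]
    exact (le_sup_right : Submodule.span R {y} ≤ _) (Submodule.mem_span_singleton_self y)
  have : (1 : R) ∈ q.asIdeal := (hy 1).mp (by rwa [one_smul])
  exact q.isPrime.ne_top ((Ideal.eq_top_iff_one _).mpr this)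

end Exist


end Groth.Agent.H1.GoodSeq
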