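import Mathlib
import Groth.Prelude.Def_AlgGrp
import Groth.Agent.Lib.Helper1.GrpSmN
import Groth.Agent.Lib.Helper1.GrpNeutD
import Groth.Agent.Lib.Helper9.Misc.GSE0

/-! SGA3 VI_A 2.4: connected components of a group scheme locally of finite type over a local
artinian ring are quasi-compact; they are the translates `g · G⁰` (helper1). -/

set_option autoImplicit false
set_option linter.style.haveILetI false
universe u

namespace Groth.Agent.H1.GrpCC

open CategoryTheory CategoryTheory.Limits MonoidalCategory CartesianMonoidalCategory MonObj GrpObj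
  AlgebraicGeometry

section Gen

variable {S : Scheme.{u}} (G : Over S) [GrpObj G]

/-- the translate `g · G⁰` -/
def coset (g : G.left) : Set G.left :=
  μ[G].left.base '' ((fst G G).left.base ⁻¹' {g} ∩
    (snd G G).left.base ⁻¹' SGA3x.neutralSet G)

theorem self_mem_coset (g : G.left) : g ∈ coset G g :=
  ⟨GrpNeutC.pt1 G g, GrpNeutC.pt1_mem G g, GrpNeutC.mul_pt1 G g⟩

theorem isPreconnected_coset (g : G.left) : _root_.IsPreconnected (coset G g) :=
  (GrpNeutC.isPreconnected_slice G g).image _ μ[G].left.continuous.continuousOn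

theorem mem_coset_symm {g y : G.left} (h : y ∈ coset G g) : g ∈ coset G y := by
  obtain ⟨w, ⟨hw1, hw2⟩, rfl⟩ := h
  have hw1' : (fst G G).left.base w = g := hw1
  let θ : G ⊗ G ⟶ G ⊗ G := lift μ[G] (snd G G ≫ ι[G])
  have hθμ : θ ≫ μ[G] = fst G G := by
    have h1 : θ ≫ μ[G] = μ[G] * (snd G G ≫ ι[G]) := (Hom.mul_def _ _).symm
    rw [h1, ← Hom.inv_def, MonObj.mul_eq_mul, mul_inv_cancel_right]
  refine ⟨θ.left.base w, ⟨?_, ?_⟩, ?_⟩
  · show (fst G G).left.base (θ.left.base w) = μ[G].left.base w
    exact congrArg (fun φ : G ⊗ G ⟶ G => φ.left.base w) (lift_fst μ[G] (snd G G ≫ ι[G]))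
  · show (snd G G).left.base (θ.left.base w) ∈ SGA3x.neutralSet G
    have : (snd G G).left.base (θ.left.base w) = ι[G].left.base ((snd G G).left.base w) :=
      congrArg (fun φ : G ⊗ G ⟶ G => φ.left.base w) (lift_snd μ[G] (snd G G ≫ ι[G]))
    rw [this]; exact GrpNeutC.inv_mem G _ hw2
  · rw [← hw1']
    exact congrArg (fun φ : G ⊗ G ⟶ G => φ.left.base w) hθμ

theorem coset_subset_of_mem {g y : G.left} (h : y ∈ coset G g) : coset G y ⊆ coset G g := by
  obtain ⟨w, ⟨hw1, hw2⟩, rfl⟩ := h
  rintro _ ⟨w', ⟨hw'1, hw'2⟩, rfl⟩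
  have hw1' : (fst G G).left.base w = g := hw1
  have hw'1' : (fst G G).left.base w' = μ[G].left.base w := hw'1
  obtain ⟨q, hq1, hq2⟩ := Scheme.Pullback.exists_preimage_pullback (f := μ[G].left)
    (g := (fst G G).left) w w' hw'1'.symm
  let W : Over S := Over.mk (pullback.fst μ[G].left (fst G G).left ≫ (G ⊗ G).hom)
  let p₁ : W ⟶ G ⊗ G := Over.homMk (pullback.fst μ[G].left (fst G G).left) rfl
  let p₂ : W ⟶ G ⊗ G := Over.homMk (pullback.snd μ[G].left (fst G G).left) (by
    show pullback.snd _ _ ≫ (G ⊗ G).hom = pullback.fst _ _ ≫ (G ⊗ G).hom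
    have e1 : (G ⊗ G).hom = (fst G G).left ≫ G.hom := (Over.w (fst G G)).symm
    have e2 : (G ⊗ G).hom = μ[G].left ≫ G.hom := (Over.w μ[G]).symm
    conv_lhs => rw [e1]
    conv_rhs => rw [e2]
    rw [← Category.assoc, ← Category.assoc, pullback.condition])
  have hp : p₁ ≫ μ[G] = p₂ ≫ fst G G := by
    apply Over.OverMorphism.ext
    exact pullback.condition
  let a : W ⟶ G := p₁ ≫ fst G G
  let b : W ⟶ G := p₁ ≫ snd G G
  let c : W ⟶ G := p₂ ≫ snd G G
  have h1 : p₁ ≫ μ[G] = a * b := by
    rw [MonObj.mul_eq_mul, MonObj.comp_mul]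
  have h2 : p₂ ≫ μ[G] = (a * b) * c := by
    rw [MonObj.mul_eq_mul, MonObj.comp_mul, ← hp, h1]
  refine ⟨(lift a (b * c)).left.base q, ⟨?_, ?_⟩, ?_⟩
  · show (fst G G).left.base ((lift a (b * c)).left.base q) = g
    have : (fst G G).left.base ((lift a (b * c)).left.base q) = a.left.base q :=
      congrArg (fun φ : W ⟶ G => φ.left.base q) (lift_fst a (b * c))
    rw [this]
    show (fst G G).left.base ((pullback.fst μ[G].left (fst G G).left).base q) = g
    rw [hq1]; exact hw1'
  · show (snd G G).left.base ((lift a (b * c)).left.base q) ∈ SGA3x.neutralSet G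
    have e1 : (snd G G).left.base ((lift a (b * c)).left.base q) = (b * c).left.base q :=
      congrArg (fun φ : W ⟶ G => φ.left.base q) (lift_snd a (b * c))
    have e2 : (b * c).left.base q = μ[G].left.base ((lift b c).left.base q) := by
      rw [Hom.mul_def]; rfl
    rw [e1, e2]
    refine GrpNeutC.mul_mem G _ ?_ ?_
    · have : (fst G G).left.base ((lift b c).left.base q) = b.left.base q :=
        congrArg (fun φ : W ⟶ G => φ.left.base q) (lift_fst b c)
      rw [this]
      show (snd G G).left.base ((pullback.fst μ[G].left (fst G G).left).base q) ∈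
        SGA3x.neutralSet G
      rw [hq1]; exact hw2
    · have : (snd G G).left.base ((lift b c).left.base q) = c.left.base q :=
        congrArg (fun φ : W ⟶ G => φ.left.base q) (lift_snd b c)
      rw [this]
      show (snd G G).left.base ((pullback.snd μ[G].left (fst G G).left).base q) ∈
        SGA3x.neutralSet G
      rw [hq2]; exact hw'2
  · have e1 : lift a (b * c) ≫ μ[G] = p₂ ≫ μ[G] := by
      rw [← Hom.mul_def, h2, _root_.mul_assoc]
    have e3 : μ[G].left.base ((lift a (b * c)).left.base q) =
        μ[G].left.base ((pullback.snd μ[G].left (fst G G).left).base q) :=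
      congrArg (fun φ : W ⟶ G => φ.left.base q) e1
    rw [e3, hq2]

theorem coset_eq_image (g : G.left) (T : Over S) (c : T ⟶ G)
    (hc : Set.range c.left.base = {g}) :
    coset G g = (snd T G).left.base '' ((GrpPLoc.sh c).left.base ''
      ((snd T G).left.base ⁻¹' SGA3x.neutralSet G)) := by
  have sq := ArtProd.isPullback_whiskerRight_left c G
  have hr : Set.range (c ▷ G).left.base = (fst G G).left.base ⁻¹' {g} := by
    rw [GrpSmN.range_of_isPullback sq.flip, hc]
  have hwk : c ▷ G = lift (fst T G ≫ c) (snd T G) := by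
    apply CartesianMonoidalCategory.hom_ext
    · rw [whiskerRight_fst, lift_fst]
    · rw [whiskerRight_snd, lift_snd]
  have key : (c ▷ G) ≫ μ[G] = GrpPLoc.sh c ≫ snd T G := by
    rw [GrpPLoc.sh_snd, Hom.mul_def, hwk]
  have hpt : ∀ z : ↥(T ⊗ G).left, μ[G].left.base ((c ▷ G).left.base z) =
      (snd T G).left.base ((GrpPLoc.sh c).left.base z) := fun z =>
    congrArg (fun φ : T ⊗ G ⟶ G => φ.left.base z) key
  have hsnd : ∀ z : ↥(T ⊗ G).left, (snd G G).left.base ((c ▷ G).left.base z) =
      (snd T G).left.base z := fun z =>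
    congrArg (fun φ : T ⊗ G ⟶ G => φ.left.base z) (whiskerRight_snd c G)
  ext x
  constructor
  · rintro ⟨w, ⟨hw1, hw2⟩, rfl⟩
    have hw : w ∈ Set.range (c ▷ G).left.base := by rw [hr]; exact hw1
    obtain ⟨z, rfl⟩ := hw
    refine ⟨_, ⟨z, ?_, rfl⟩, (hpt z).symm⟩
    show (snd T G).left.base z ∈ SGA3x.neutralSet G
    rw [← hsnd]; exact hw2
  · rintro ⟨_, ⟨z, hz, rfl⟩, rfl⟩
    refine ⟨(c ▷ G).left.base z, ⟨?_, ?_⟩, hpt z⟩
    · have : (c ▷ G).left.base z ∈ Set.range (c ▷ G).left.base := ⟨z, rfl⟩
      rw [hr] at this; exact this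
    · show (snd G G).left.base ((c ▷ G).left.base z) ∈ SGA3x.neutralSet G
      rw [hsnd]; exact hz

end Gen

section Art

variable (A : Type u) [CommRing A] [IsArtinianRing A] [IsLocalRing A]
  (G : Over (Spec (CommRingCat.of A))) [GrpObj G] [LocallyOfFiniteType G.hom]

theorem isOpen_neutralSet_art : IsOpen (SGA3x.neutralSet G) := by
  haveI : Subsingleton ↥(Spec (CommRingCat.of A)) :=
    Groth.Agent.H9.GSE.subsingleton_spec_of_artinian_local A
  rw [GrpNeutD.neutralSet_eq_connectedComponent G (IsLocalRing.closedPoint A)]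
  haveI : IsLocallyNoetherian G.left := LocallyOfFiniteType.isLocallyNoetherian G.hom
  haveI := Groth.Agent.H1.GIrr.locallyConnectedSpace_of_isLocallyNoetherian G.left
  exact isOpen_connectedComponent

omit [LocallyOfFiniteType G.hom] in
theorem isCompact_neutralSet_art : IsCompact (SGA3x.neutralSet G) := by
  haveI : Subsingleton ↥(Spec (CommRingCat.of A)) :=
    Groth.Agent.H9.GSE.subsingleton_spec_of_artinian_local A
  obtain ⟨U, hUc, hU⟩ := GrpNeutB.s5323 G
  have hcl : IsClosed (SGA3x.neutralSet G) := by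
    rw [GrpNeutD.neutralSet_eq_connectedComponent G (IsLocalRing.closedPoint A)]
    exact isClosed_connectedComponent
  exact hUc.of_isClosed_subset hcl hU

theorem isOpen_coset (g : G.left) : IsOpen (coset G g) := by
  let T : Over (Spec (CommRingCat.of A)) := Over.mk (G.left.fromSpecResidueField g ≫ G.hom)
  let c : T ⟶ G := Over.homMk (G.left.fromSpecResidueField g) rfl
  rw [coset_eq_image G g T c (Scheme.range_fromSpecResidueField g)]
  haveI := GrpPLoc.isIso_sh_left c
  have hop1 : IsOpenMap (GrpPLoc.sh c).left.base := (GrpPLoc.sh c).left.homeomorph.isOpenMap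
  have hop2 : IsOpenMap (snd T G).left.base := by
    haveI : UniversallyOpen T.hom := Groth.Agent.H9.GSE.UOBase.uo T.hom
    rw [Over.snd_left]
    exact (pullback.snd T.hom G.hom).isOpenMap
  exact hop2 _ (hop1 _ ((isOpen_neutralSet_art A G).preimage (snd T G).left.continuous))

theorem isCompact_coset (g : G.left) : IsCompact (coset G g) := by
  let T : Over (Spec (CommRingCat.of A)) := Over.mk (G.left.fromSpecResidueField g ≫ G.hom)
  let c : T ⟶ G := Over.homMk (G.left.fromSpecResidueField g) rfl
  rw [coset_eq_image G g T c (Scheme.range_fromSpecResidueField g)]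
  haveI : QuasiCompact T.hom := by
    show QuasiCompact (G.left.fromSpecResidueField g ≫ G.hom)
    infer_instance
  haveI hqc : QuasiCompact (snd T G).left := by
    rw [Over.snd_left]; infer_instance
  have h1 : IsCompact ((snd T G).left.base ⁻¹' SGA3x.neutralSet G) :=
    QuasiCompact.isCompact_preimage (f := (snd T G).left) _ (isOpen_neutralSet_art A G)
      (isCompact_neutralSet_art A G)
  exact (h1.image (GrpPLoc.sh c).left.continuous).image (snd T G).left.continuous

theorem s5345 (g : G.left) : IsCompact (connectedComponent g) := by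
  have hopen : ∀ h, IsOpen (coset G h) := isOpen_coset A G
  have hclosed : IsClosed (coset G g) := by
    rw [← isOpen_compl_iff]
    have : (coset G g)ᶜ = ⋃ h ∈ (coset G g)ᶜ, coset G h := by
      ext x
      constructor
      · intro hx
        exact Set.mem_biUnion hx (self_mem_coset G x)
      · intro hx
        obtain ⟨h, hh, hxh⟩ := Set.mem_iUnion₂.1 hx
        intro hxg
        exact hh (coset_subset_of_mem G hxg (mem_coset_symm G hxh))
    rw [this]
    exact isOpen_biUnion (fun h _ => hopen h)
  have hclopen : IsClopen (coset G g) := ⟨hclosed, hopen g⟩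
  have h1 : connectedComponent g ⊆ coset G g :=
    hclopen.connectedComponent_subset (self_mem_coset G g)
  have h2 : coset G g ⊆ connectedComponent g :=
    (isPreconnected_coset G g).subset_connectedComponent (self_mem_coset G g)
  rw [Set.Subset.antisymm h1 h2]
  exact isCompact_coset A G g

end Art

end Groth.Agent.H1.GrpCC
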