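import Mathlib
import Groth.Prelude.Def_AlgGrp
import Groth.Agent.Lib.Helper9.AlgGrpAct
import Groth.Agent.Lib.Helper1.GrpEquidim
import Groth.Agent.Lib.Helper1.GIrrO

/-! Homogeneous spaces under a group scheme over a one-point base have constant local dimension
(helper1), via the shear automorphism `(g, x) ↦ (g, g x)` of `G × X` over `G`. -/

set_option autoImplicit false
universe u

namespace Groth.Agent.H1.GrpHomog

open CategoryTheory MonoidalCategory CartesianMonoidalCategory MonObj AlgebraicGeometry Limits
open Groth.Agent.H9.AlgGrpAct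

theorem fibreDimAt_eq_localDim_of_subsingleton {X S : Scheme.{u}} (f : X ⟶ S) [Subsingleton S]
    (x : X) : FlatMor.fibreDimAt f x = FlatMor.localDim X x := by
  have hemb : Topology.IsEmbedding (f.fiberι (f x)) := (f.fiberι (f x)).isEmbedding
  have hrange : Set.range (f.fiberι (f x)) = Set.univ := by
    rw [Scheme.Hom.range_fiberι]
    ext y
    simp only [Set.mem_preimage, Set.mem_singleton_iff, Set.mem_univ, iff_true]
    exact Subsingleton.elim _ _
  have hopen : Topology.IsOpenEmbedding (f.fiberι (f x)) :=
    ⟨hemb, by rw [hrange]; exact isOpen_univ⟩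
  have h := Groth.Agent.H1.DimFormula.localDim_eq_of_isOpenEmbedding hopen (f.asFiber x)
  rw [f.fiberι_asFiber x] at h
  exact h

variable {S : Scheme.{u}} {G X : Over S} [GrpObj G] (a : AlgGrp.Action G X)

theorem shear_fst : shear a ≫ fst G X = fst G X := lift_fst _ _

theorem shearInv_fst : shearInv a ≫ fst G X = fst G X := lift_fst _ _

theorem shear_shearInv : shear a ≫ shearInv a = 𝟙 _ := by
  have h : shear a ≫ shearInv a = lift (shear a ≫ fst G X) (shear a ≫ actInv a) := by
    unfold shearInv
    rw [comp_lift]
  rw [h, shear_fst, shear_actInv, lift_fst_snd]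

theorem shearInv_shear : shearInv a ≫ shear a = 𝟙 _ := by
  have h : shearInv a ≫ shear a = lift (shearInv a ≫ fst G X) (shearInv a ≫ a.act) := by
    unfold shear
    rw [comp_lift]
  rw [h, shearInv_fst, shearInv_act, lift_fst_snd]

set_option backward.isDefEq.respectTransparency false in
theorem localDim_act_eq [Subsingleton S] [LocallyOfFiniteType X.hom] (z : (G ⊗ X).left) :
    FlatMor.localDim X.left (a.act.left z) = FlatMor.localDim X.left ((snd G X).left z) := by
  have hsq : IsPullback (snd G X).left (fst G X).left X.hom G.hom :=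
    (IsPullback.of_hasPullback G.hom X.hom).flip
  haveI : IsIso (shear a) := ⟨shearInv a, shear_shearInv a, shearInv_shear a⟩
  haveI : IsIso (shear a).left := inferInstanceAs (IsIso ((Over.forget _).map (shear a)))
  have key : ∀ w : (G ⊗ X).left, FlatMor.fibreDimAt (fst G X).left w =
      FlatMor.localDim X.left ((snd G X).left w) := by
    intro w
    rw [Groth.Agent.H1.FibDimBC.fibreDimAt_eq_of_isPullback X.hom G.hom (snd G X).left
      (fst G X).left hsq, fibreDimAt_eq_localDim_of_subsingleton]
  have h1 := key ((shear a).left z)
  rw [← Groth.Agent.H1.CMQF.fibreDimAt_comp_isOpenImmersion (shear a).left (fst G X).left z,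
    ← Over.comp_left, shear_fst, key z] at h1
  rw [h1]
  congr 1
  rw [← Scheme.Hom.comp_apply, ← Over.comp_left, shear_snd]

set_option backward.isDefEq.respectTransparency false in
theorem localDim_const [Subsingleton S] [LocallyOfFiniteType X.hom]
    (hΦ : Surjective (lift a.act (snd G X)).left) (x y : X.left) :
    FlatMor.localDim X.left x = FlatMor.localDim X.left y := by
  obtain ⟨w, hw1, hw2⟩ := Scheme.Pullback.exists_preimage_pullback (f := X.hom) (g := X.hom) x y
    (Subsingleton.elim _ _)
  obtain ⟨z, hz⟩ := hΦ.surj w
  have e1 : (lift a.act (snd G X)).left ≫ (fst X X).left = a.act.left := by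
    rw [← Over.comp_left, lift_fst]
  have e2 : (lift a.act (snd G X)).left ≫ (snd X X).left = (snd G X).left := by
    rw [← Over.comp_left, lift_snd]
  have h1 : a.act.left z = x := by
    have := congrArg (fun φ : (G ⊗ X).left ⟶ X.left => φ z) e1
    simp only [Scheme.Hom.comp_apply] at this
    rw [← this, hz]
    exact hw1
  have h2 : (snd G X).left z = y := by
    have := congrArg (fun φ : (G ⊗ X).left ⟶ X.left => φ z) e2
    simp only [Scheme.Hom.comp_apply] at this
    rw [← this, hz]
    exact hw2
  rw [← h1, ← h2, localDim_act_eq a z]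

theorem dim_connectedComponent_eq_localDim {T : Scheme.{u}} [IsLocallyNoetherian T]
    (hc : ∀ x y : T, FlatMor.localDim T x = FlatMor.localDim T y) (x : T) :
    topologicalKrullDim ↥(connectedComponent x) = FlatMor.localDim T x := by
  haveI := Groth.Agent.H1.GIrr.locallyConnectedSpace_of_isLocallyNoetherian T
  have hopen : IsOpen (connectedComponent x) := isOpen_connectedComponent
  rw [Groth.Agent.H3.TopDim.dim_eq_iSup_localDim]
  have hfun : (fun c : ↥(connectedComponent x) => FlatMor.localDim ↥(connectedComponent x) c) =
      fun _ => FlatMor.localDim T x := by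
    funext c
    rw [Groth.Agent.H1.DimFormula.localDim_eq_of_isOpenEmbedding hopen.isOpenEmbedding_subtypeVal c]
    exact hc _ _
  haveI : Nonempty ↥(connectedComponent x) := ⟨⟨x, mem_connectedComponent⟩⟩
  rw [hfun, iSup_const]

theorem s3033 [Subsingleton S] [IsLocallyNoetherian X.left] [LocallyOfFiniteType X.hom]
    (hΦ : Surjective (lift a.act (snd G X)).left) (x y : X.left) :
    topologicalKrullDim ↥(connectedComponent x) = topologicalKrullDim ↥(connectedComponent y) := by
  rw [dim_connectedComponent_eq_localDim (localDim_const a hΦ) x,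
    dim_connectedComponent_eq_localDim (localDim_const a hΦ) y]
  exact localDim_const a hΦ x y

end Groth.Agent.H1.GrpHomog
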