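import Mathlib
import Groth.Prelude.Def_AlgGrp
import Groth.Agent.Lib.Helper1.GrpEquidim
import Groth.Agent.Lib.Helper1.GrpHomog
import Groth.Agent.Lib.Helper1.ClosedDim
import Groth.Agent.Lib.Helper1.RelDim
import Groth.Agent.Lib.Helper9.Misc.GZB2

/-! A closed immersion of group schemes locally of finite type over a field of the same dimension
maps the identity component onto the identity component (helper1). -/

set_option autoImplicit false
universe u

namespace Groth.Agent.H1.GrpCCDim

open CategoryTheory MonoidalCategory CartesianMonoidalCategory MonObj GrpObj AlgebraicGeometry Limits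

variable (k : Type u) [Field k] (G H : Over (Spec (CommRingCat.of k))) [GrpObj G] [GrpObj H]

theorem dim_cc [LocallyOfFiniteType G.hom] (x : G.left) :
    topologicalKrullDim ↥(connectedComponent x) = topologicalKrullDim ↥G.left := by
  haveI : IsLocallyNoetherian G.left := LocallyOfFiniteType.isLocallyNoetherian G.hom
  rw [Groth.Agent.H1.GrpHomog.dim_connectedComponent_eq_localDim
    (Groth.Agent.H1.GrpEquidim.localDim_const k G) x]
  exact (Groth.Agent.H1.GrpEquidim.s5341 k G).2 x

theorem s18027 [LocallyOfFiniteType G.hom] [LocallyOfFiniteType H.hom]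
    (u : G ⟶ H) [IsMonHom u] [IsClosedImmersion u.left]
    (hdim : topologicalKrullDim ↥G.left = topologicalKrullDim ↥H.left)
    (t : ↥((𝟙_ (Over (Spec (CommRingCat.of k)))).left)) :
    ⇑u.left.base '' connectedComponent (η[G].left.base t) =
      connectedComponent (η[H].left.base t) := by
  have ht : t = IsLocalRing.closedPoint k :=
    @Subsingleton.elim (PrimeSpectrum k) inferInstance _ _
  have hone : u.left.base (η[G].left.base t) = η[H].left.base t := by
    have h1 : η[G] ≫ u = η[H] := IsMonHom.one_hom u
    have h2 : η[G].left ≫ u.left = η[H].left := by rw [← Over.comp_left, h1]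
    rw [← h2]
    rfl
  have hemb : Topology.IsClosedEmbedding u.left.base := u.left.isClosedEmbedding
  have hirrG : IsIrreducible (connectedComponent (η[G].left.base t)) := by
    rw [ht]; exact (Groth.Agent.H9.GZB.S0355_main (K := k) G).1
  have hirrH : IsIrreducible (connectedComponent (η[H].left.base t)) := by
    rw [ht]; exact (Groth.Agent.H9.GZB.S0355_main (K := k) H).1
  have hsub : u.left.base '' connectedComponent (η[G].left.base t) ⊆
      connectedComponent (η[H].left.base t) := by
    rw [← hone]
    exact hemb.continuous.image_connectedComponent_subset _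
  have hZc : IsClosed (u.left.base '' connectedComponent (η[G].left.base t)) :=
    hemb.isClosedMap _ isClosed_connectedComponent
  have hZirr : IsIrreducible (u.left.base '' connectedComponent (η[G].left.base t)) :=
    hirrG.image _ hemb.continuous.continuousOn
  have hZdim : topologicalKrullDim ↥(u.left.base '' connectedComponent (η[G].left.base t)) =
      topologicalKrullDim ↥(connectedComponent (η[G].left.base t)) := by
    have h := Groth.Agent.H1.RelDim.dim_preimage_eq_of_isEmbedding hemb.isEmbedding
      (u.left.base '' connectedComponent (η[G].left.base t))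
    rw [Set.preimage_image_eq _ hemb.injective,
      Set.inter_eq_left.mpr (Set.image_subset_range _ _)] at h
    exact h.symm
  obtain ⟨ξ, hξ⟩ := QuasiSober.sober hZirr hZc
  by_contra hne
  have hξmem : ξ ∈ connectedComponent (η[H].left.base t) := hsub hξ.mem
  have hlt := Groth.Agent.H1.ClosedDim.dim_closure_lt_of_ne H.hom hirrH isClosed_connectedComponent
    ξ hξmem (by rw [hξ.def]; exact hne)
  rw [hξ.def, hZdim, dim_cc k G, dim_cc k H, hdim] at hlt
  exact lt_irrefl _ hlt

end Groth.Agent.H1.GrpCCDim
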