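import Mathlib
import Groth.Agent.Lib.Helper5.Lim.FEtLimit
import Groth.Prelude.Def_ActBC

/-! SGA3 VI_B 10.x: homomorphisms of finitely presented group schemes over a cofiltered limit of
quasi-compact quasi-separated schemes with affine transition maps come from a finite stage,
and two that agree on the limit agree at a finite stage (S6086) (helper1). -/

set_option autoImplicit false
set_option linter.style.haveILetI false
universe u

namespace Groth.Agent.H1.GrpLimH

open CategoryTheory CategoryTheory.Limits MonoidalCategory CartesianMonoidalCategory MonObj GrpObj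
  AlgebraicGeometry

/-! ### generalities -/

theorem isMonHom_of_mul_hom {T : Scheme.{u}} {G H : Over T} [GrpObj G] [GrpObj H]
    (f : G ⟶ H) (hmul : μ[G] ≫ f = (f ⊗ₘ f) ≫ μ[H]) : IsMonHom f where
  one_hom := by
    have h1 : (1 : 𝟙_ (Over T) ⟶ G) = η := by
      rw [Hom.one_def, toUnit_unique (toUnit _) (𝟙 _), Category.id_comp]
    have h1' : (1 : 𝟙_ (Over T) ⟶ H) = η := by
      rw [Hom.one_def, toUnit_unique (toUnit _) (𝟙 _), Category.id_comp]
    have hx : (η ≫ f) * (η ≫ f) = (η ≫ f) * 1 := by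
      rw [_root_.mul_one, Hom.mul_def, ← lift_map_assoc, ← hmul, ← Category.assoc,
        ← Hom.mul_def, ← h1, _root_.mul_one]
    rw [← h1']
    exact mul_left_cancel hx
  mul_hom := hmul

theorem ext_of_fst {S T : Scheme.{u}} (t : T ⟶ S) {X : Over S} {A : Over T}
    (p q : A ⟶ Red.bc t X)
    (h : p.left ≫ pullback.fst X.hom t = q.left ≫ pullback.fst X.hom t) : p = q := by
  apply Over.OverMorphism.ext
  apply pullback.hom_ext h
  have hp : p.left ≫ pullback.snd X.hom t = A.hom := Over.w p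
  have hq : q.left ≫ pullback.snd X.hom t = A.hom := Over.w q
  rw [hp, hq]

/-! ### homomorphisms and the base change functor -/

section Mon

variable {T T₂ : Scheme.{u}} (σ : T₂ ⟶ T) {G H : Over T} [GrpObj G] [GrpObj H] (v : G ⟶ H)

lemma map_mul_eq (hv : IsMonHom ((Over.pullback σ).map v)) :
    (Over.pullback σ).map (μ[G] ≫ v) = (Over.pullback σ).map ((v ⊗ₘ v) ≫ μ[H]) := by
  haveI := hv
  have h1 : (Functor.LaxMonoidal.μ (Over.pullback σ) G G ≫ (Over.pullback σ).map μ[G]) ≫
      (Over.pullback σ).map v =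
      ((Over.pullback σ).map v ⊗ₘ (Over.pullback σ).map v) ≫
        Functor.LaxMonoidal.μ (Over.pullback σ) H H ≫ (Over.pullback σ).map μ[H] :=
    IsMonHom.mul_hom ((Over.pullback σ).map v)
  rw [Category.assoc, ← Functor.map_comp, Functor.LaxMonoidal.μ_natural_assoc,
    ← Functor.map_comp] at h1
  exact (cancel_epi _).1 h1

lemma isMonHom_map_of_eq
    (h : (Over.pullback σ).map (μ[G] ≫ v) = (Over.pullback σ).map ((v ⊗ₘ v) ≫ μ[H])) :
    IsMonHom ((Over.pullback σ).map v) := by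
  apply isMonHom_of_mul_hom
  show (Functor.LaxMonoidal.μ (Over.pullback σ) G G ≫ (Over.pullback σ).map μ[G]) ≫
      (Over.pullback σ).map v =
      ((Over.pullback σ).map v ⊗ₘ (Over.pullback σ).map v) ≫
        Functor.LaxMonoidal.μ (Over.pullback σ) H H ≫ (Over.pullback σ).map μ[H]
  rw [Category.assoc, ← Functor.map_comp, Functor.LaxMonoidal.μ_natural_assoc,
    ← Functor.map_comp, h]

end Mon

/-! ### transport of a morphism of base changes along a further base change -/

section Tr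

variable {S T T₂ : Scheme.{u}} (σ : T₂ ⟶ T) (t : T ⟶ S) {t₂ : T₂ ⟶ S} (h : σ ≫ t = t₂)

/-- the canonical map `A ×_S T₂ ⟶ A ×_S T`. -/
noncomputable def β (A : Over S) : pullback A.hom t₂ ⟶ pullback A.hom t :=
  pullback.lift (pullback.fst _ _) (pullback.snd _ _ ≫ σ)
    (by rw [Category.assoc, h]; exact pullback.condition)

@[reassoc (attr := simp)]
lemma β_fst (A : Over S) : β σ t h A ≫ pullback.fst A.hom t = pullback.fst A.hom t₂ :=
  pullback.lift_fst _ _ _

@[reassoc (attr := simp)]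
lemma β_snd (A : Over S) : β σ t h A ≫ pullback.snd A.hom t = pullback.snd A.hom t₂ ≫ σ :=
  pullback.lift_snd _ _ _

lemma κ_inv_fst (A : Over S) :
    (ActBC.bcCompIso σ t A h).inv.left ≫ pullback.fst (Red.bc t A).hom σ = β σ t h A := by
  have e1 : (ActBC.bcCompIso σ t A h).inv.left ≫ (ActBC.bcCompIso σ t A h).hom.left = 𝟙 _ := by
    rw [← Over.comp_left, Iso.inv_hom_id, Over.id_left]
  apply pullback.hom_ext
  · rw [Category.assoc, β_fst, ← ActBC.bcCompIso_hom_left_fst σ t A h, ← Category.assoc, e1,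
      Category.id_comp]
  · have hc : pullback.fst (Red.bc t A).hom σ ≫ pullback.snd A.hom t =
        pullback.snd (Red.bc t A).hom σ ≫ σ := pullback.condition
    rw [Category.assoc, β_snd, hc, ← ActBC.bcCompIso_hom_left_snd σ t A h, ← Category.assoc,
      ← Category.assoc, e1, Category.id_comp]

variable {A B : Over S}

/-- transport of `v : A_T ⟶ B_T` to `A_{T₂} ⟶ B_{T₂}`. -/
noncomputable def tr (v : Red.bc t A ⟶ Red.bc t B) : Red.bc t₂ A ⟶ Red.bc t₂ B :=
  (ActBC.bcCompIso σ t A h).inv ≫ (Over.pullback σ).map v ≫ (ActBC.bcCompIso σ t B h).hom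

lemma tr_adj (v : Red.bc t A ⟶ Red.bc t B) :
    (tr σ t h v).left ≫ pullback.fst B.hom t₂ =
      β σ t h A ≫ v.left ≫ pullback.fst B.hom t := by
  unfold tr
  rw [Over.comp_left, Over.comp_left, Category.assoc, Category.assoc,
    ActBC.bcCompIso_hom_left_fst, ActBC.pullback_map_left_fst_assoc, ← Category.assoc,
    κ_inv_fst]

lemma map_eq_of_tr (v : Red.bc t A ⟶ Red.bc t B) :
    (Over.pullback σ).map v = (ActBC.bcCompIso σ t A h).hom ≫ tr σ t h v ≫
      (ActBC.bcCompIso σ t B h).inv := by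
  unfold tr
  simp

lemma tr_isMonHom {G H : Over S} [GrpObj G] [GrpObj H] (v : Red.bc t G ⟶ Red.bc t H)
    (hv : IsMonHom ((Over.pullback σ).map v)) : IsMonHom (tr σ t h v) := by
  haveI := hv
  unfold tr
  infer_instance

lemma K_eq (X : Over S) :
    (((Over.pullbackComp σ t).app X).symm ≪≫ eqToIso (congrArg (fun g => Red.bc g X) h)) =
      ActBC.bcCompIso σ t X h := by
  subst h
  apply Iso.ext
  rw [ActBC.bcCompIso_hom_eq_pullbackComp_inv]
  simp

end Tr

/-! ### descent along the limit -/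

section Descent

open Groth.Agent.H5.Lim

variable {I : Type u} [SmallCategory I] [IsCofiltered I] (D : I ⥤ Scheme.{u}) (c : Cone D)
  (hc : IsLimit c) [∀ (i i' : I) (f : i ⟶ i'), IsAffineHom (D.map f)]
  [∀ i, CompactSpace (D.obj i)] [∀ i, QuasiSeparatedSpace (D.obj i)]

include hc in
theorem inj (i : I) {A B : Over (D.obj i)} [QuasiCompact A.hom] [LocallyOfFiniteType B.hom]
    (m₁ m₂ : A ⟶ B)
    (h : (Over.pullback (c.π.app i)).map m₁ = (Over.pullback (c.π.app i)).map m₂) :
    ∃ k : Over i, (Over.pullback (D.map k.hom)).map m₁ = (Over.pullback (D.map k.hom)).map m₂ := by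
  have hfst : ∀ m : A ⟶ B, pullback.fst A.hom (c.π.app i) ≫ m.left =
      ((Over.pullback (c.π.app i)).map m).left ≫ pullback.fst B.hom (c.π.app i) := fun m =>
    (ActBC.pullback_map_left_fst (c.π.app i) m).symm
  obtain ⟨k, hk⟩ := hom_eq_of_bc_eq D c hc i A.hom B.hom m₁.left m₂.left (Over.w m₁) (Over.w m₂)
    (by rw [hfst, hfst, h])
  refine ⟨k, ext_of_fst _ _ _ ?_⟩
  rw [ActBC.pullback_map_left_fst, ActBC.pullback_map_left_fst, hk]

omit [∀ i, CompactSpace (D.obj i)] [∀ i, QuasiSeparatedSpace (D.obj i)] in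
include hc in
theorem surj (j : I) {A B : Over (D.obj j)} [CompactSpace A.left] [QuasiSeparatedSpace A.left]
    [LocallyOfFinitePresentation B.hom]
    (u : Red.bc (c.π.app j) A ⟶ Red.bc (c.π.app j) B) :
    ∃ (l : Over j) (ul : Red.bc (D.map l.hom) A ⟶ Red.bc (D.map l.hom) B),
      bcProj D c A.hom l ≫ ul.left ≫ pullback.fst B.hom (D.map l.hom) =
        u.left ≫ pullback.fst B.hom (c.π.app j) := by
  have hDaff : ∀ {i j : I} (f : i ⟶ j), IsAffineHom (D.map f) := fun f => inferInstance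
  haveI : ∀ k, CompactSpace ((bcDiagram D A.hom).obj k) := fun k =>
    compactSpace_bcDiagram_obj D A.hom k (hDaff _)
  haveI : ∀ k, QuasiSeparatedSpace ((bcDiagram D A.hom).obj k) := fun k =>
    quasiSeparatedSpace_bcDiagram_obj D A.hom k (hDaff _)
  haveI : ∀ {k k' : Over j} (φ : k ⟶ k'), IsAffineHom ((bcDiagram D A.hom).map φ) := fun φ =>
    isAffineHom_bcMap D A.hom φ (hDaff _)
  let tt : bcDiagram D A.hom ⟶ (Functor.const (Over j)).obj (D.obj j) :=
    bcDiagramFst D A.hom ≫ (Functor.const (Over j)).map A.hom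
  have hu : u.left ≫ pullback.snd B.hom (c.π.app j) = pullback.snd A.hom (c.π.app j) := Over.w u
  obtain ⟨l, (g₀ : pullback A.hom (D.map l.hom) ⟶ B.left), hg₁, hg₂⟩ :=
    Scheme.exists_π_app_comp_eq_of_locallyOfFinitePresentation
      (bcDiagram D A.hom) tt B.hom (bcCone D c A.hom) (isLimitBcCone D c A.hom hc)
      (u.left ≫ pullback.fst B.hom (c.π.app j)) (by
        ext l
        change bcProj D c A.hom l ≫ pullback.fst A.hom (D.map l.hom) ≫ A.hom =
          (u.left ≫ pullback.fst B.hom (c.π.app j)) ≫ B.hom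
        rw [bcProj_fst_assoc, pullback.condition, Category.assoc, pullback.condition,
          ← Category.assoc, hu])
  have hg₁' : bcProj D c A.hom l ≫ g₀ = u.left ≫ pullback.fst B.hom (c.π.app j) := hg₁
  have hg₂' : g₀ ≫ B.hom = pullback.fst A.hom (D.map l.hom) ≫ A.hom := hg₂
  have hw : g₀ ≫ B.hom = pullback.snd A.hom (D.map l.hom) ≫ D.map l.hom := by
    rw [hg₂', pullback.condition]
  let ul : Red.bc (D.map l.hom) A ⟶ Red.bc (D.map l.hom) B :=
    Over.homMk (pullback.lift g₀ (pullback.snd A.hom (D.map l.hom)) hw) (pullback.lift_snd _ _ _)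
  have hul : ul.left ≫ pullback.fst B.hom (D.map l.hom) = g₀ := pullback.lift_fst _ _ _
  exact ⟨l, ul, by rw [hul]; exact hg₁'⟩

include hc in
theorem part1 (j : I) (Gj Hj : Over (D.obj j)) [GrpObj Gj] [GrpObj Hj]
    [QuasiCompact Gj.hom] [QuasiSeparated Gj.hom] [LocallyOfFinitePresentation Hj.hom]
    (u : Red.bc (c.π.app j) Gj ⟶ Red.bc (c.π.app j) Hj) (hu : IsMonHom u) :
    ∃ (i : I) (f : i ⟶ j) (ui : Red.bc (D.map f) Gj ⟶ Red.bc (D.map f) Hj), IsMonHom ui ∧
      tr (c.π.app i) (D.map f) (c.w f) ui = u := by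
  haveI : CompactSpace Gj.left := QuasiCompact.compactSpace_of_compactSpace Gj.hom
  haveI : QuasiSeparatedSpace Gj.left := quasiSeparatedSpace_of_quasiSeparated Gj.hom
  obtain ⟨l, ul, hul⟩ := surj D c hc j u
  have hw : c.π.app l.left ≫ D.map l.hom = c.π.app j := c.w l.hom
  have hβ : bcProj D c Gj.hom l = β (c.π.app l.left) (D.map l.hom) hw Gj := rfl
  have h1 : tr (c.π.app l.left) (D.map l.hom) hw ul = u := by
    apply ext_of_fst
    rw [tr_adj, ← hβ, hul]
  have h2 : IsMonHom ((Over.pullback (c.π.app l.left)).map ul) := by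
    rw [map_eq_of_tr (c.π.app l.left) (D.map l.hom) hw ul, h1]
    haveI := hu
    infer_instance
  have h3 := map_mul_eq (c.π.app l.left) ul h2
  haveI : QuasiCompact (Red.bc (D.map l.hom) Gj).hom :=
    MorphismProperty.pullback_snd (P := @QuasiCompact) _ _ inferInstance
  haveI : QuasiCompact (Red.bc (D.map l.hom) Gj ⊗ Red.bc (D.map l.hom) Gj).hom := by
    show QuasiCompact (pullback.fst (Red.bc (D.map l.hom) Gj).hom (Red.bc (D.map l.hom) Gj).hom ≫
      (Red.bc (D.map l.hom) Gj).hom)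
    infer_instance
  haveI : LocallyOfFiniteType (Red.bc (D.map l.hom) Hj).hom :=
    MorphismProperty.pullback_snd (P := @LocallyOfFiniteType) _ _ inferInstance
  obtain ⟨k, hk⟩ := inj D c hc l.left _ _ h3
  have h4 : IsMonHom ((Over.pullback (D.map k.hom)).map ul) := isMonHom_map_of_eq _ ul hk
  have hw' : D.map k.hom ≫ D.map l.hom = D.map (k.hom ≫ l.hom) := (D.map_comp _ _).symm
  refine ⟨k.left, k.hom ≫ l.hom, tr (D.map k.hom) (D.map l.hom) hw' ul,
    tr_isMonHom _ _ _ ul h4, ?_⟩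
  apply ext_of_fst
  rw [tr_adj, tr_adj, ← hul, ← Category.assoc]
  congr 1
  apply pullback.hom_ext
  · rw [Category.assoc, β_fst, β_fst, bcProj_fst]
  · rw [Category.assoc, β_snd, β_snd_assoc, bcProj_snd, c.w]

end Descent

/-! ### the statement -/

theorem s6086 {I : Type u} [SmallCategory I] [IsCofiltered I]
    (D : I ⥤ Scheme.{u}) (c : Limits.Cone D) (hc : Limits.IsLimit c)
    [∀ (i i' : I) (f : i ⟶ i'), IsAffineHom (D.map f)] [∀ i, CompactSpace (D.obj i)]
    [∀ i, QuasiSeparatedSpace (D.obj i)]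
    (j : I) (Gj Hj : Over (D.obj j)) [GrpObj Gj] [GrpObj Hj]
    [LocallyOfFinitePresentation Gj.hom] [QuasiCompact Gj.hom] [QuasiSeparated Gj.hom]
    [LocallyOfFinitePresentation Hj.hom] [QuasiCompact Hj.hom] [QuasiSeparated Hj.hom] :
    (∀ (u : Red.bc (c.π.app j) Gj ⟶ Red.bc (c.π.app j) Hj), IsMonHom u →
      ∃ (i : I) (f : i ⟶ j) (ui : Red.bc (D.map f) Gj ⟶ Red.bc (D.map f) Hj), IsMonHom ui ∧
        (Over.pullback (c.π.app i)).map ui = (((Over.pullbackComp (c.π.app i) (D.map f)).app Gj).symm ≪≫ eqToIso (congrArg (fun g => Red.bc g Gj) (c.w f))).hom ≫ u ≫ (((Over.pullbackComp (c.π.app i) (D.map f)).app Hj).symm ≪≫ eqToIso (congrArg (fun g => Red.bc g Hj) (c.w f))).inv) ∧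
    (∀ (i : I) (f : i ⟶ j) (u₁ u₂ : Red.bc (D.map f) Gj ⟶ Red.bc (D.map f) Hj), IsMonHom u₁ → IsMonHom u₂ →
      (Over.pullback (c.π.app i)).map u₁ = (Over.pullback (c.π.app i)).map u₂ →
      ∃ (i' : I) (g : i' ⟶ i), (Over.pullback (D.map g)).map u₁ = (Over.pullback (D.map g)).map u₂) := by
  constructor
  · intro u hu
    obtain ⟨i, f, ui, h1, h2⟩ := part1 D c hc j Gj Hj u hu
    refine ⟨i, f, ui, h1, ?_⟩
    rw [K_eq, K_eq, ← h2]
    exact map_eq_of_tr _ _ _ ui
  · intro i f u₁ u₂ _ _ h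
    haveI : QuasiCompact (Red.bc (D.map f) Gj).hom :=
      MorphismProperty.pullback_snd (P := @QuasiCompact) _ _ inferInstance
    haveI : LocallyOfFiniteType (Red.bc (D.map f) Hj).hom :=
      MorphismProperty.pullback_snd (P := @LocallyOfFiniteType) _ _ inferInstance
    obtain ⟨k, hk⟩ := inj D c hc i u₁ u₂ h
    exact ⟨k.left, k.hom, hk⟩

end Groth.Agent.H1.GrpLimH
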