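import Mathlib
import Groth.Agent.Lib.Helper1.GrpLimH
import Groth.Agent.Lib.Helper9.Misc.ORB3

/-! helper1: isomorphisms of finitely presented group schemes descend along cofiltered limits;
descent of an isomorphism of groups from an extension field `L` of an algebraically closed field
`K` to `K` (S3014). -/

set_option autoImplicit false
set_option linter.style.haveILetI false
universe u

namespace Groth.Agent.H1.GrpDescK

open CategoryTheory CategoryTheory.Limits MonoidalCategory CartesianMonoidalCategory MonObj GrpObj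
  AlgebraicGeometry Opposite
open Groth.Agent.H1.GrpLimH

section TrLemmas

variable {S T T₂ : Scheme.{u}} (σ : T₂ ⟶ T) (t : T ⟶ S) {t₂ : T₂ ⟶ S} (h : σ ≫ t = t₂)
  {A B C : Over S}

lemma tr_id : tr σ t h (𝟙 (Red.bc t A)) = 𝟙 (Red.bc t₂ A) := by
  unfold tr
  rw [CategoryTheory.Functor.map_id, Category.id_comp, Iso.inv_hom_id]

lemma tr_comp (v : Red.bc t A ⟶ Red.bc t B) (w : Red.bc t B ⟶ Red.bc t C) :
    tr σ t h (v ≫ w) = tr σ t h v ≫ tr σ t h w := by
  unfold tr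
  simp only [Functor.map_comp, Category.assoc, Iso.hom_inv_id_assoc]

lemma tr_congr_of_map_eq (w₁ w₂ : Red.bc t A ⟶ Red.bc t B)
    (hw : (Over.pullback σ).map w₁ = (Over.pullback σ).map w₂) : tr σ t h w₁ = tr σ t h w₂ := by
  unfold tr
  rw [hw]

end TrLemmas

lemma tr_tr {S T T₂ T₃ : Scheme.{u}} (σ₁ : T₃ ⟶ T₂) (σ : T₂ ⟶ T) (t : T ⟶ S) {t₂ : T₂ ⟶ S}
    (h : σ ≫ t = t₂) {t₃ : T₃ ⟶ S} (h₁ : σ₁ ≫ t₂ = t₃) (σ' : T₃ ⟶ T) (hσ : σ₁ ≫ σ = σ')
    (h' : σ' ≫ t = t₃) {A B : Over S} (v : Red.bc t A ⟶ Red.bc t B) :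
    tr σ₁ t₂ h₁ (tr σ t h v) = tr σ' t h' v := by
  apply ext_of_fst
  rw [tr_adj, tr_adj, tr_adj, ← Category.assoc]
  congr 1
  apply pullback.hom_ext
  · simp
  · simp [hσ]

lemma map_eq_of_comp {S T T' : Scheme.{u}} (τ : T' ⟶ T) (σ : T ⟶ S) {d : T' ⟶ S}
    (h : τ ≫ σ = d) {X Y : Over S} (m₁ m₂ : X ⟶ Y)
    (hm : (Over.pullback σ).map m₁ = (Over.pullback σ).map m₂) :
    (Over.pullback d).map m₁ = (Over.pullback d).map m₂ := by
  have e : ∀ m : X ⟶ Y, (Over.pullback d).map m = (ActBC.bcCompIso τ σ X h).inv ≫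
      (Over.pullback τ).map ((Over.pullback σ).map m) ≫ (ActBC.bcCompIso τ σ Y h).hom := by
    intro m
    rw [ActBC.bcCompIso_hom_naturality, Iso.inv_hom_id_assoc]
  rw [e m₁, e m₂, hm]

section Descent

variable {I : Type u} [SmallCategory I] [IsCofiltered I] (D : I ⥤ Scheme.{u}) (c : Cone D)
  (hc : IsLimit c) [∀ (i i' : I) (f : i ⟶ i'), IsAffineHom (D.map f)]
  [∀ i, CompactSpace (D.obj i)] [∀ i, QuasiSeparatedSpace (D.obj i)]

include hc in
/-- an isomorphism of finitely presented group schemes over the limit comes from a stage. -/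
theorem exists_iso_stage (j : I) (Gj Hj : Over (D.obj j)) [GrpObj Gj] [GrpObj Hj]
    [LocallyOfFinitePresentation Gj.hom] [QuasiCompact Gj.hom] [QuasiSeparated Gj.hom]
    [LocallyOfFinitePresentation Hj.hom] [QuasiCompact Hj.hom] [QuasiSeparated Hj.hom]
    (u : Red.bc (c.π.app j) Gj ⟶ Red.bc (c.π.app j) Hj)
    (v : Red.bc (c.π.app j) Hj ⟶ Red.bc (c.π.app j) Gj)
    (hu : IsMonHom u) (hv : IsMonHom v) (huv : u ≫ v = 𝟙 _) (hvu : v ≫ u = 𝟙 _) :
    ∃ (i : I) (f : i ⟶ j) (ui : Red.bc (D.map f) Gj ⟶ Red.bc (D.map f) Hj)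
      (vi : Red.bc (D.map f) Hj ⟶ Red.bc (D.map f) Gj),
      IsMonHom ui ∧ IsMonHom vi ∧ ui ≫ vi = 𝟙 _ ∧ vi ≫ ui = 𝟙 _ := by
  obtain ⟨i₁, f₁, u₁, hu₁m, hu₁⟩ := part1 D c hc j Gj Hj u hu
  obtain ⟨i₂, f₂, v₂, hv₂m, hv₂⟩ := part1 D c hc j Hj Gj v hv
  obtain ⟨i₃, g₁, g₂, hg⟩ := IsCofiltered.cospan f₁ f₂
  have hD₁ : D.map g₁ ≫ D.map f₁ = D.map (g₁ ≫ f₁) := (D.map_comp _ _).symm
  have hD₂ : D.map g₂ ≫ D.map f₂ = D.map (g₁ ≫ f₁) := by
    rw [hg]; exact (D.map_comp _ _).symm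
  obtain ⟨u₃, hu₃d⟩ : ∃ w, w = tr (D.map g₁) (D.map f₁) hD₁ u₁ := ⟨_, rfl⟩
  obtain ⟨v₃, hv₃d⟩ : ∃ w, w = tr (D.map g₂) (D.map f₂) hD₂ v₂ := ⟨_, rfl⟩
  have hu₃m : IsMonHom u₃ := by
    rw [hu₃d]
    exact tr_isMonHom _ _ _ u₁ (by haveI := hu₁m; infer_instance)
  have hv₃m : IsMonHom v₃ := by
    rw [hv₃d]
    exact tr_isMonHom _ _ _ v₂ (by haveI := hv₂m; infer_instance)
  have hu₃ : tr (c.π.app i₃) (D.map (g₁ ≫ f₁)) (c.w _) u₃ = u := by
    rw [hu₃d]
    exact (tr_tr (c.π.app i₃) (D.map g₁) (D.map f₁) hD₁ (c.w _) (c.π.app i₁) (c.w g₁)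
      (c.w f₁) u₁).trans hu₁
  have hv₃ : tr (c.π.app i₃) (D.map (g₁ ≫ f₁)) (c.w _) v₃ = v := by
    rw [hv₃d]
    exact (tr_tr (c.π.app i₃) (D.map g₂) (D.map f₂) hD₂ (c.w _) (c.π.app i₂) (c.w g₂)
      (c.w f₂) v₂).trans hv₂
  have huv₃ : tr (c.π.app i₃) (D.map (g₁ ≫ f₁)) (c.w _) (u₃ ≫ v₃) = 𝟙 _ := by
    rw [tr_comp, hu₃, hv₃, huv]
  have hvu₃ : tr (c.π.app i₃) (D.map (g₁ ≫ f₁)) (c.w _) (v₃ ≫ u₃) = 𝟙 _ := by
    rw [tr_comp, hu₃, hv₃, hvu]
  have hpb : (Over.pullback (c.π.app i₃)).map (u₃ ≫ v₃) =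
      (Over.pullback (c.π.app i₃)).map (𝟙 _) := by
    rw [map_eq_of_tr (c.π.app i₃) (D.map (g₁ ≫ f₁)) (c.w _) (u₃ ≫ v₃),
      map_eq_of_tr (c.π.app i₃) (D.map (g₁ ≫ f₁)) (c.w _) (𝟙 _), huv₃, tr_id]
  have hpb' : (Over.pullback (c.π.app i₃)).map (v₃ ≫ u₃) =
      (Over.pullback (c.π.app i₃)).map (𝟙 _) := by
    rw [map_eq_of_tr (c.π.app i₃) (D.map (g₁ ≫ f₁)) (c.w _) (v₃ ≫ u₃),
      map_eq_of_tr (c.π.app i₃) (D.map (g₁ ≫ f₁)) (c.w _) (𝟙 _), hvu₃, tr_id]
  haveI : QuasiCompact (Red.bc (D.map (g₁ ≫ f₁)) Gj).hom :=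
    MorphismProperty.pullback_snd (P := @QuasiCompact) _ _ inferInstance
  haveI : LocallyOfFiniteType (Red.bc (D.map (g₁ ≫ f₁)) Gj).hom :=
    MorphismProperty.pullback_snd (P := @LocallyOfFiniteType) _ _ inferInstance
  haveI : QuasiCompact (Red.bc (D.map (g₁ ≫ f₁)) Hj).hom :=
    MorphismProperty.pullback_snd (P := @QuasiCompact) _ _ inferInstance
  haveI : LocallyOfFiniteType (Red.bc (D.map (g₁ ≫ f₁)) Hj).hom :=
    MorphismProperty.pullback_snd (P := @LocallyOfFiniteType) _ _ inferInstance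
  obtain ⟨k, hk⟩ := inj D c hc i₃ (u₃ ≫ v₃) (𝟙 _) hpb
  obtain ⟨k', hk'⟩ := inj D c hc i₃ (v₃ ≫ u₃) (𝟙 _) hpb'
  obtain ⟨i₄, m₁, m₂, hm⟩ := IsCofiltered.cospan k.hom k'.hom
  have e₁ : (Over.pullback (D.map (m₁ ≫ k.hom))).map (u₃ ≫ v₃) =
      (Over.pullback (D.map (m₁ ≫ k.hom))).map (𝟙 _) :=
    map_eq_of_comp (D.map m₁) (D.map k.hom) (D.map_comp _ _).symm _ _ hk
  have e₂ : (Over.pullback (D.map (m₁ ≫ k.hom))).map (v₃ ≫ u₃) =
      (Over.pullback (D.map (m₁ ≫ k.hom))).map (𝟙 _) :=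
    map_eq_of_comp (D.map m₂) (D.map k'.hom) (by rw [hm]; exact (D.map_comp _ _).symm) _ _ hk'
  have hD₄ : D.map (m₁ ≫ k.hom) ≫ D.map (g₁ ≫ f₁) = D.map ((m₁ ≫ k.hom) ≫ (g₁ ≫ f₁)) :=
    (D.map_comp _ _).symm
  refine ⟨i₄, (m₁ ≫ k.hom) ≫ (g₁ ≫ f₁), tr (D.map (m₁ ≫ k.hom)) (D.map (g₁ ≫ f₁)) hD₄ u₃,
    tr (D.map (m₁ ≫ k.hom)) (D.map (g₁ ≫ f₁)) hD₄ v₃,
    tr_isMonHom _ _ _ u₃ (by haveI := hu₃m; infer_instance),
    tr_isMonHom _ _ _ v₃ (by haveI := hv₃m; infer_instance), ?_, ?_⟩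
  · rw [← tr_comp, tr_congr_of_map_eq _ _ hD₄ _ _ e₁, tr_id]
  · rw [← tr_comp, tr_congr_of_map_eq _ _ hD₄ _ _ e₂, tr_id]

end Descent

/-! ### base change along the identity -/

section BcId

/-- base change along the identity. -/
noncomputable def bcId {S : Scheme.{u}} (X : Over S) : Red.bc (𝟙 S) X ≅ X :=
  (Over.pullbackId (X := S)).app X

instance {S : Scheme.{u}} (G : Over S) [GrpObj G] : IsMonHom (bcId G).hom := by
  have hk := ((Functor.mapMonNatTrans (Over.pullbackId (X := S)).hom).app (Mon.mk G) ≫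
    (Functor.mapMonIdIso (C := Over S)).hom.app (Mon.mk G)).isMonHom_hom
  have e1 : ((Functor.mapMonNatTrans (Over.pullbackId (X := S)).hom).app (Mon.mk G) ≫
    (Functor.mapMonIdIso (C := Over S)).hom.app (Mon.mk G)).hom = (bcId G).hom := by
    simp only [bcId, Iso.app_hom]
    exact Category.comp_id _
  rw [e1] at hk
  exact hk

end BcId

/-! ### the system of finitely generated subalgebras of a field extension -/

section FGK

variable (K L : Type u) [Field K] [Field L] [Algebra K L]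

/-- finitely generated `K`-subalgebras of `L`. -/
abbrev FGK : Type u := {A₀ : Subalgebra K L // A₀.FG}

instance : IsDirected (FGK K L) (· ≤ ·) :=
  ⟨fun S T => ⟨⟨S.1 ⊔ T.1, S.2.sup T.2⟩, le_sup_left (a := S.1), le_sup_right (b := T.1)⟩⟩

instance : Nonempty (FGK K L) := ⟨⟨⊥, Subalgebra.fg_bot⟩⟩

/-- the system of f.g. subalgebras -/
noncomputable def fgkFunctor : FGK K L ⥤ CommRingCat.{u} where
  obj S := CommRingCat.of S.1
  map {S T} h := CommRingCat.ofHom (Subalgebra.inclusion (leOfHom h)).toRingHom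
  map_id S := by ext; rfl
  map_comp h h' := by ext; rfl

/-- the cocone of inclusions -/
noncomputable def fgkCocone : Cocone (fgkFunctor K L) :=
  ⟨CommRingCat.of L,
    { app := fun S => CommRingCat.ofHom (algebraMap (↥S.1) L)
      naturality := fun S T h => by ext; rfl }⟩

noncomputable def isColimitFgkCocone : IsColimit (fgkCocone K L) := by
  haveI : PreservesColimitsOfShape (FGK K L) (forget CommRingCat.{u}) :=
    PreservesFilteredColimitsOfSize.preserves_filtered_colimits (FGK K L)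
  haveI : ReflectsColimit (fgkFunctor K L) (forget CommRingCat) :=
    reflectsColimit_of_reflectsIsomorphisms _ _
  apply isColimitOfReflects (forget CommRingCat)
  refine Types.FilteredColimit.isColimitOf' _ _ ?_ ?_
  · intro (x : L)
    have hfg : (Algebra.adjoin K ({x} : Set L)).FG := by
      have := Subalgebra.fg_adjoin_finset (R := K) ({x} : Finset L)
      simpa using this
    exact ⟨⟨Algebra.adjoin K {x}, hfg⟩,
      ⟨x, Algebra.subset_adjoin (Set.mem_singleton x)⟩, rfl⟩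
  · intro j x y hxy
    exact ⟨j, 𝟙 j, by
      have : x = y := Subtype.ext hxy
      rw [this]⟩

/-- the cofiltered system `Spec A₀` -/
noncomputable def fgkDiagram : (FGK K L)ᵒᵖ ⥤ Scheme.{u} := (fgkFunctor K L).op ⋙ Scheme.Spec

/-- the cone with vertex `Spec L` -/
noncomputable def fgkCone : Cone (fgkDiagram K L) := Scheme.Spec.mapCone (fgkCocone K L).op

noncomputable def isLimitFgkCone : IsLimit (fgkCone K L) :=
  isLimitOfPreserves Scheme.Spec (isColimitFgkCocone K L).op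

instance (S T : (FGK K L)ᵒᵖ) (f : S ⟶ T) : IsAffineHom ((fgkDiagram K L).map f) :=
  inferInstanceAs (IsAffineHom (Spec.map _))

instance (S : (FGK K L)ᵒᵖ) : CompactSpace ((fgkDiagram K L).obj S) :=
  inferInstanceAs (CompactSpace (Spec _))

instance (S : (FGK K L)ᵒᵖ) : QuasiSeparatedSpace ((fgkDiagram K L).obj S) :=
  inferInstanceAs (QuasiSeparatedSpace (Spec _))

/-- the structure morphism of a stage. -/
noncomputable def str (S : (FGK K L)ᵒᵖ) : (fgkDiagram K L).obj S ⟶ Spec (CommRingCat.of K) :=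
  Spec.map (CommRingCat.ofHom (algebraMap K ↥S.unop.1))

lemma map_str {S T : (FGK K L)ᵒᵖ} (f : S ⟶ T) :
    (fgkDiagram K L).map f ≫ str K L T = str K L S := by
  change Spec.map _ ≫ Spec.map _ = Spec.map _
  rw [← Spec.map_comp]
  rfl

lemma π_str (S : (FGK K L)ᵒᵖ) :
    (fgkCone K L).π.app S ≫ str K L S = Spec.map (CommRingCat.ofHom (algebraMap K L)) := by
  change Spec.map _ ≫ Spec.map _ = Spec.map _
  rw [← Spec.map_comp]
  rfl

instance (S : (FGK K L)ᵒᵖ) : LocallyOfFiniteType (str K L S) :=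
  (HasRingHomProperty.Spec_iff (P := @LocallyOfFiniteType)
    (φ := CommRingCat.ofHom (algebraMap K ↥S.unop.1))).mpr
    (RingHom.finiteType_algebraMap.mpr ((Subalgebra.fg_iff_finiteType _).mp S.unop.2))

/-- a `K`-point of a stage (`K` algebraically closed). -/
theorem exists_point [IsAlgClosed K] (S : (FGK K L)ᵒᵖ) :
    ∃ pt : Spec (CommRingCat.of K) ⟶ (fgkDiagram K L).obj S, pt ≫ str K L S = 𝟙 _ := by
  haveI : Nonempty ↥(Over.mk (str K L S)).left :=
    ⟨((fgkCone K L).π.app S).base (IsLocalRing.closedPoint L)⟩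
  haveI : LocallyOfFiniteType (Over.mk (str K L S)).hom :=
    inferInstanceAs (LocallyOfFiniteType (str K L S))
  obtain ⟨x, -⟩ := Groth.Agent.H9.ORB3.exists_point_of_closed K (Over.mk (str K L S)) Set.univ
    isClosed_univ Set.univ_nonempty
  refine ⟨x.left, ?_⟩
  have h := Over.w x
  simpa using h

end FGK

/-! ### descent of an isomorphism from an extension of an algebraically closed field -/

section DescendIso

variable (K L : Type u) [Field K] [Field L] [Algebra K L] [IsAlgClosed K]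

theorem descend_iso (G H : Over (Spec (CommRingCat.of K))) [GrpObj G] [GrpObj H]
    [LocallyOfFinitePresentation G.hom] [QuasiCompact G.hom] [QuasiSeparated G.hom]
    [LocallyOfFinitePresentation H.hom] [QuasiCompact H.hom] [QuasiSeparated H.hom]
    (u : Red.bc (Spec.map (CommRingCat.ofHom (algebraMap K L))) G ⟶
      Red.bc (Spec.map (CommRingCat.ofHom (algebraMap K L))) H)
    (v : Red.bc (Spec.map (CommRingCat.ofHom (algebraMap K L))) H ⟶
      Red.bc (Spec.map (CommRingCat.ofHom (algebraMap K L))) G)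
    (hu : IsMonHom u) (hv : IsMonHom v) (huv : u ≫ v = 𝟙 _) (hvu : v ≫ u = 𝟙 _) :
    ∃ (u₀ : G ⟶ H) (v₀ : H ⟶ G), IsMonHom u₀ ∧ u₀ ≫ v₀ = 𝟙 _ ∧ v₀ ≫ u₀ = 𝟙 _ := by
  haveI := hu
  haveI := hv
  obtain ⟨j, hj⟩ : ∃ j : (FGK K L)ᵒᵖ, j = op ⟨⊥, Subalgebra.fg_bot⟩ := ⟨_, rfl⟩
  let π₀ : Spec (CommRingCat.of L) ⟶ (fgkDiagram K L).obj j := (fgkCone K L).π.app j
  have hb : π₀ ≫ str K L j = Spec.map (CommRingCat.ofHom (algebraMap K L)) := π_str K L j
  haveI : LocallyOfFinitePresentation (Red.bc (str K L j) G).hom :=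
    MorphismProperty.pullback_snd (P := @LocallyOfFinitePresentation) _ _ inferInstance
  haveI : QuasiCompact (Red.bc (str K L j) G).hom :=
    MorphismProperty.pullback_snd (P := @QuasiCompact) _ _ inferInstance
  haveI : QuasiSeparated (Red.bc (str K L j) G).hom :=
    MorphismProperty.pullback_snd (P := @QuasiSeparated) _ _ inferInstance
  haveI : LocallyOfFinitePresentation (Red.bc (str K L j) H).hom :=
    MorphismProperty.pullback_snd (P := @LocallyOfFinitePresentation) _ _ inferInstance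
  haveI : QuasiCompact (Red.bc (str K L j) H).hom :=
    MorphismProperty.pullback_snd (P := @QuasiCompact) _ _ inferInstance
  haveI : QuasiSeparated (Red.bc (str K L j) H).hom :=
    MorphismProperty.pullback_snd (P := @QuasiSeparated) _ _ inferInstance
  obtain ⟨u', hu'd⟩ : ∃ w, w = (ActBC.bcCompIso π₀ (str K L j) G hb).hom ≫
      u ≫ (ActBC.bcCompIso π₀ (str K L j) H hb).inv := ⟨_, rfl⟩
  obtain ⟨v', hv'd⟩ : ∃ w, w = (ActBC.bcCompIso π₀ (str K L j) H hb).hom ≫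
      v ≫ (ActBC.bcCompIso π₀ (str K L j) G hb).inv := ⟨_, rfl⟩
  have hu'm : IsMonHom u' := by rw [hu'd]; infer_instance
  have hv'm : IsMonHom v' := by rw [hv'd]; infer_instance
  have huv' : u' ≫ v' = 𝟙 _ := by
    rw [hu'd, hv'd]
    simp only [Category.assoc, Iso.inv_hom_id_assoc]
    rw [reassoc_of% huv, Iso.hom_inv_id]
  have hvu' : v' ≫ u' = 𝟙 _ := by
    rw [hu'd, hv'd]
    simp only [Category.assoc, Iso.inv_hom_id_assoc]
    rw [reassoc_of% hvu, Iso.hom_inv_id]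
  obtain ⟨i, f, ui, vi, hui, hvi, huvi, hvui⟩ := exists_iso_stage (fgkDiagram K L) (fgkCone K L)
    (isLimitFgkCone K L) j (Red.bc (str K L j) G) (Red.bc (str K L j) H) u' v' hu'm hv'm huv' hvu'
  obtain ⟨pt, hpt⟩ := exists_point K L i
  have h₂ : (pt ≫ (fgkDiagram K L).map f) ≫ str K L j = 𝟙 _ := by
    rw [Category.assoc, map_str, hpt]
  obtain ⟨U, hUd⟩ : ∃ w, w = tr pt ((fgkDiagram K L).map f) rfl ui := ⟨_, rfl⟩
  obtain ⟨V, hVd⟩ : ∃ w, w = tr pt ((fgkDiagram K L).map f) rfl vi := ⟨_, rfl⟩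
  have hUm : IsMonHom U := by
    rw [hUd]; exact tr_isMonHom _ _ _ ui (by haveI := hui; infer_instance)
  have hVm : IsMonHom V := by
    rw [hVd]; exact tr_isMonHom _ _ _ vi (by haveI := hvi; infer_instance)
  have hUV : U ≫ V = 𝟙 _ := by rw [hUd, hVd, ← tr_comp, huvi, tr_id]
  have hVU : V ≫ U = 𝟙 _ := by rw [hUd, hVd, ← tr_comp, hvui, tr_id]
  obtain ⟨θG, hθG⟩ : ∃ θ : Red.bc (pt ≫ (fgkDiagram K L).map f) (Red.bc (str K L j) G) ≅ G,
      IsMonHom θ.hom :=
    ⟨ActBC.bcCompIso _ (str K L j) G h₂ ≪≫ bcId G, by rw [Iso.trans_hom]; infer_instance⟩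
  obtain ⟨θH, hθH⟩ : ∃ θ : Red.bc (pt ≫ (fgkDiagram K L).map f) (Red.bc (str K L j) H) ≅ H,
      IsMonHom θ.hom :=
    ⟨ActBC.bcCompIso _ (str K L j) H h₂ ≪≫ bcId H, by rw [Iso.trans_hom]; infer_instance⟩
  haveI := hθG
  haveI := hθH
  haveI := hUm
  haveI := hVm
  refine ⟨θG.inv ≫ U ≫ θH.hom, θH.inv ≫ V ≫ θG.hom, inferInstance, ?_, ?_⟩
  · simp only [Category.assoc, Iso.hom_inv_id_assoc]
    rw [reassoc_of% hUV, Iso.inv_hom_id]
  · simp only [Category.assoc, Iso.hom_inv_id_assoc]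
    rw [reassoc_of% hVU, Iso.inv_hom_id]

end DescendIso

/-! ### S3014 -/

section S3014

theorem fp_of_reductive {S : Scheme.{u}} (G : Over S) [GrpObj G] (hG : Red.IsReductive G)
    {T : Scheme.{u}} (t : T ⟶ S) :
    LocallyOfFinitePresentation (Red.bc t G).hom ∧ QuasiCompact (Red.bc t G).hom ∧
      QuasiSeparated (Red.bc t G).hom := by
  haveI := hG.1
  haveI := hG.2.1
  haveI : LocallyOfFinitePresentation G.hom := inferInstance
  haveI : QuasiCompact G.hom := inferInstance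
  haveI : QuasiSeparated G.hom := inferInstance
  exact ⟨MorphismProperty.pullback_snd (P := @LocallyOfFinitePresentation) _ _ inferInstance,
    MorphismProperty.pullback_snd (P := @QuasiCompact) _ _ inferInstance,
    MorphismProperty.pullback_snd (P := @QuasiSeparated) _ _ inferInstance⟩

theorem s3014 (S : Scheme.{u}) (G G' : Over S) [GrpObj G] [GrpObj G']
    (hG : Red.IsReductive G) (hG' : Red.IsReductive G') (S' : Scheme.{u}) (f : S' ⟶ S)
    [Surjective f] (hiso : Nonempty (Grp.mk (Red.bc f G) ≅ Grp.mk (Red.bc f G'))) (s : S) :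
    Nonempty (Grp.mk (Red.geomFibre s G) ≅ Grp.mk (Red.geomFibre s G')) := by
  obtain ⟨s', rfl⟩ := f.surjective s
  obtain ⟨φ⟩ := hiso
  -- the isomorphism in `Over S'`
  obtain ⟨e0, he0, he0'⟩ : ∃ e0 : Red.bc f G ≅ Red.bc f G', IsMonHom e0.hom ∧ IsMonHom e0.inv :=
    ⟨(Grp.forget _).mapIso φ, inferInstanceAs (IsMonHom φ.hom.hom.hom),
      inferInstanceAs (IsMonHom φ.inv.hom.hom)⟩
  haveI := he0
  haveI := he0'
  -- fields
  letI : Algebra (S.residueField (f s')) (S'.residueField s') :=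
    (f.residueFieldMap s').hom.toAlgebra
  letI : Algebra (S.residueField (f s')) (AlgebraicClosure (S'.residueField s')) :=
    ((algebraMap (S'.residueField s') (AlgebraicClosure (S'.residueField s'))).comp
      (algebraMap (S.residueField (f s')) (S'.residueField s'))).toAlgebra
  obtain ⟨ψa⟩ : Nonempty (AlgebraicClosure (S.residueField (f s')) →ₐ[S.residueField (f s')]
      AlgebraicClosure (S'.residueField s')) := ⟨IsAlgClosed.lift⟩
  letI : Algebra (AlgebraicClosure (S.residueField (f s')))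
      (AlgebraicClosure (S'.residueField s')) := ψa.toRingHom.toAlgebra
  have hsq : Spec.map (CommRingCat.ofHom (algebraMap (AlgebraicClosure (S.residueField (f s')))
      (AlgebraicClosure (S'.residueField s')))) ≫ Red.geomPt (f s') = Red.geomPt s' ≫ f := by
    show Spec.map (CommRingCat.ofHom ψa.toRingHom) ≫ Spec.map _ ≫ S.fromSpecResidueField (f s') =
      (Spec.map _ ≫ S'.fromSpecResidueField s') ≫ f
    rw [Category.assoc, ← Scheme.Hom.SpecMap_residueFieldMap_fromSpecResidueField,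
      ← Spec.map_comp_assoc, ← Spec.map_comp_assoc]
    congr 2
    ext x
    exact ψa.commutes x
  obtain ⟨h1, h2, h3⟩ := fp_of_reductive G hG (Red.geomPt (f s'))
  obtain ⟨h1', h2', h3'⟩ := fp_of_reductive G' hG' (Red.geomPt (f s'))
  haveI := h1; haveI := h2; haveI := h3; haveI := h1'; haveI := h2'; haveI := h3'
  -- the transported isomorphism
  obtain ⟨u, v, hu, hv, huv, hvu⟩ : ∃ (u : Red.bc (Spec.map (CommRingCat.ofHom (algebraMap
        (AlgebraicClosure (S.residueField (f s'))) (AlgebraicClosure (S'.residueField s')))))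
        (Red.geomFibre (f s') G) ⟶ Red.bc (Spec.map (CommRingCat.ofHom (algebraMap
        (AlgebraicClosure (S.residueField (f s'))) (AlgebraicClosure (S'.residueField s')))))
        (Red.geomFibre (f s') G'))
      (v : Red.bc (Spec.map (CommRingCat.ofHom (algebraMap
        (AlgebraicClosure (S.residueField (f s'))) (AlgebraicClosure (S'.residueField s')))))
        (Red.geomFibre (f s') G') ⟶ Red.bc (Spec.map (CommRingCat.ofHom (algebraMap
        (AlgebraicClosure (S.residueField (f s'))) (AlgebraicClosure (S'.residueField s')))))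
        (Red.geomFibre (f s') G)),
      IsMonHom u ∧ IsMonHom v ∧ u ≫ v = 𝟙 _ ∧ v ≫ u = 𝟙 _ := by
    refine ⟨(ActBC.bcCompIso _ (Red.geomPt (f s')) G hsq).hom ≫
        (ActBC.bcCompIso (Red.geomPt s') f G rfl).inv ≫
        (Over.pullback (Red.geomPt s')).map e0.hom ≫
        (ActBC.bcCompIso (Red.geomPt s') f G' rfl).hom ≫
        (ActBC.bcCompIso _ (Red.geomPt (f s')) G' hsq).inv,
      (ActBC.bcCompIso _ (Red.geomPt (f s')) G' hsq).hom ≫
        (ActBC.bcCompIso (Red.geomPt s') f G' rfl).inv ≫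
        (Over.pullback (Red.geomPt s')).map e0.inv ≫
        (ActBC.bcCompIso (Red.geomPt s') f G rfl).hom ≫
        (ActBC.bcCompIso _ (Red.geomPt (f s')) G hsq).inv, inferInstance, inferInstance, ?_, ?_⟩
    · simp only [Category.assoc, Iso.inv_hom_id_assoc, Iso.hom_inv_id_assoc]
      rw [← Functor.map_comp_assoc, e0.hom_inv_id, CategoryTheory.Functor.map_id,
        Category.id_comp]
      simp
    · simp only [Category.assoc, Iso.inv_hom_id_assoc, Iso.hom_inv_id_assoc]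
      rw [← Functor.map_comp_assoc, e0.inv_hom_id, CategoryTheory.Functor.map_id,
        Category.id_comp]
      simp
  obtain ⟨u₀, v₀, hu₀, h12, h21⟩ := descend_iso (AlgebraicClosure (S.residueField (f s')))
    (AlgebraicClosure (S'.residueField s')) (Red.geomFibre (f s') G) (Red.geomFibre (f s') G')
    u v hu hv huv hvu
  haveI := hu₀
  exact ⟨Grp.mkIso' ⟨u₀, v₀, h12, h21⟩⟩

end S3014

end Groth.Agent.H1.GrpDescK
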