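import Mathlib
import Groth.Agent.Lib.Helper1.GrpSepB
import Groth.Agent.H4.HsI

/-! Homogeneous spaces with connected quasi-separated fibres are separated, and quasi-compact
as soon as a quasi-compact open meets every fibre (SGA3 VI_B 5.x, S5397) (helper1). -/

set_option autoImplicit false
set_option linter.style.haveILetI false
universe u

namespace Groth.Agent.H1.GrpHs

open CategoryTheory CategoryTheory.Limits MonoidalCategory CartesianMonoidalCategory MonObj GrpObj
  AlgebraicGeometry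

section Fib

variable {S S' : Scheme.{u}} (σ : S' ⟶ S) (G X : Over S)

/-- the comparison map from the product of the base changes to the product -/
noncomputable def Ψ : (Red.bc σ G ⊗ Red.bc σ X).left ⟶ (G ⊗ X).left :=
  (Functor.LaxMonoidal.μ (Over.pullback σ) G X).left ≫ pullback.fst (G ⊗ X).hom σ

lemma Ψ_fst : Ψ σ G X ≫ (fst G X).left =
    (fst (Red.bc σ G) (Red.bc σ X)).left ≫ pullback.fst G.hom σ := by
  unfold Ψ
  rw [Over.fst_left, Over.fst_left, Category.assoc]
  exact ActBC.μ_left_fst_fst _ _ _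

lemma Ψ_snd : Ψ σ G X ≫ (snd G X).left =
    (snd (Red.bc σ G) (Red.bc σ X)).left ≫ pullback.fst X.hom σ := by
  unfold Ψ
  rw [Over.snd_left, Over.snd_left, Category.assoc]
  exact ActBC.μ_left_fst_snd _ _ _

variable {G X} in
lemma Ψ_act [GrpObj G] (a : AlgGrp.Action G X) : Ψ σ G X ≫ a.act.left =
    (a.bc σ).act.left ≫ pullback.fst X.hom σ := by
  unfold Ψ
  rw [AlgGrp.Action.bc_act, Over.comp_left, Category.assoc, Category.assoc]
  congr 1
  exact (ActBC.pullback_map_left_fst _ _).symm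

lemma Ψ_fst_apply (w : (Red.bc σ G ⊗ Red.bc σ X).left) :
    (fst G X).left.base ((Ψ σ G X).base w) =
      (pullback.fst G.hom σ).base ((fst (Red.bc σ G) (Red.bc σ X)).left.base w) :=
  congrArg (fun ψ : (Red.bc σ G ⊗ Red.bc σ X).left ⟶ G.left => ψ.base w) (Ψ_fst σ G X)

lemma Ψ_snd_apply (w : (Red.bc σ G ⊗ Red.bc σ X).left) :
    (snd G X).left.base ((Ψ σ G X).base w) =
      (pullback.fst X.hom σ).base ((snd (Red.bc σ G) (Red.bc σ X)).left.base w) :=
  congrArg (fun ψ : (Red.bc σ G ⊗ Red.bc σ X).left ⟶ X.left => ψ.base w) (Ψ_snd σ G X)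

variable {G X} in
lemma Ψ_act_apply [GrpObj G] (a : AlgGrp.Action G X) (w : (Red.bc σ G ⊗ Red.bc σ X).left) :
    a.act.left.base ((Ψ σ G X).base w) =
      (pullback.fst X.hom σ).base ((a.bc σ).act.left.base w) :=
  congrArg (fun ψ : (Red.bc σ G ⊗ Red.bc σ X).left ⟶ X.left => ψ.base w) (Ψ_act σ a)

end Fib

section Main

variable {S : Scheme.{u}} {G X : Over S} [GrpObj G]

/-- **key**: if the fibre `X_s` of a homogeneous space is connected and quasi-separated, then
`G⁰·U ⊇ X_s` for every open `U` meeting `X_s`. -/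
theorem fibre_subset_orbitSet (a : AlgGrp.Action G X)
    (hΦ : Surjective (lift a.act (snd G X)).left) (s : S)
    (hqs : QuasiSeparatedSpace ↥(X.hom.base ⁻¹' {s}))
    (hconn : _root_.IsPreconnected (X.hom.base ⁻¹' {s}))
    (U : X.left.Opens) (hU : ((U : Set X.left) ∩ X.hom.base ⁻¹' {s}).Nonempty) :
    X.hom.base ⁻¹' {s} ⊆ GrpSep.orbitSet a U := by
  intro x hx
  let σ : Spec (CommRingCat.of (S.residueField s)) ⟶ S := S.fromSpecResidueField s
  haveI : Subsingleton ↥(Spec (CommRingCat.of (S.residueField s))) :=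
    Groth.Agent.H9.FLH.subsingleton_spec_field (S.residueField s)
  have hΦ' := Groth.Agent.H4.HsC.surj_bc σ G X a hΦ
  have hrange : Set.range (pullback.fst X.hom σ).base = X.hom.base ⁻¹' {s} :=
    Scheme.Hom.range_fiberι X.hom s
  let e : ↥(pullback X.hom σ) ≃ₜ ↥(X.hom.base ⁻¹' {s}) := X.hom.fiberHomeo s
  haveI hqs' : QuasiSeparatedSpace ↥(Red.bc σ X).left := (quasiSeparatedSpace_congr e).mpr hqs
  haveI hpc : PreconnectedSpace ↥(Red.bc σ X).left := by
    haveI : PreconnectedSpace ↥(X.hom.base ⁻¹' {s}) :=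
      isPreconnected_iff_preconnectedSpace.mp hconn
    refine ⟨?_⟩
    have h := (isPreconnected_univ (α := ↥(X.hom.base ⁻¹' {s}))).image e.symm
      e.symm.continuous.continuousOn
    rwa [Set.image_univ, e.symm.surjective.range_eq] at h
  obtain ⟨x', hx'⟩ : ∃ x' : ↥(Red.bc σ X).left, (pullback.fst X.hom σ).base x' = x := by
    have : x ∈ Set.range (pullback.fst X.hom σ).base := by rw [hrange]; exact hx
    exact this
  have hirr : IsPreirreducible (connectedComponent x') :=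
    Groth.Agent.H4.HsI.s3039 (S.residueField s) (Red.bc σ G) (Red.bc σ X) (a.bc σ) hΦ' x'
  rw [PreconnectedSpace.connectedComponent_eq_univ] at hirr
  haveI : IrreducibleSpace ↥(Red.bc σ X).left :=
    { isPreirreducible_univ := hirr, toNonempty := ⟨x'⟩ }
  let pt : ↥(𝟙_ (Over (Spec (CommRingCat.of (S.residueField s))))).left :=
    (IsLocalRing.closedPoint (S.residueField s) : PrimeSpectrum (S.residueField s))
  let U' : (Red.bc σ X).left.Opens := (pullback.fst X.hom σ) ⁻¹ᵁ U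
  obtain ⟨-, hVS, -⟩ := Groth.Agent.H4.HsG.s5350 (S.residueField s) (Red.bc σ G) (Red.bc σ X)
    (a.bc σ) hΦ' pt (irreducibleComponent (η[Red.bc σ G].left.base pt))
    (irreducibleComponent_mem_irreducibleComponents _) mem_irreducibleComponent U'
  have hx'V : x' ∈ ⋃₀ {Z : Set (Red.bc σ X).left |
      Z ∈ irreducibleComponents ↥(Red.bc σ X).left ∧ ∃ ξ ∈ U', closure {ξ} = Z} := by
    refine ⟨Set.univ, ⟨?_, genericPoint ↥(Red.bc σ X).left, ?_, ?_⟩, Set.mem_univ _⟩
    · rw [irreducibleComponents_eq_singleton]; rfl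
    · obtain ⟨u, huU, hus⟩ := hU
      have : u ∈ Set.range (pullback.fst X.hom σ).base := by rw [hrange]; exact hus
      obtain ⟨u', rfl⟩ := this
      exact ((genericPoint_spec ↥(Red.bc σ X).left).mem_open_set_iff U'.isOpen).mpr
        ⟨u', trivial, huU⟩
    · exact (genericPoint_spec ↥(Red.bc σ X).left).def
  rw [← hVS] at hx'V
  obtain ⟨z', ⟨hz'1, hz'2⟩, hz'3⟩ := hx'V
  refine ⟨(Ψ σ G X).base z', ⟨?_, ?_⟩, ?_⟩
  · show (fst G X).left.base ((Ψ σ G X).base z') ∈ SGA3x.neutralSet G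
    rw [Ψ_fst_apply]
    have h1 : (fst (Red.bc σ G) (Red.bc σ X)).left.base z' ∈
        SGA3x.neutralSet (Red.bc σ G) := by
      rw [GrpNeutD.neutralSet_eq_connectedComponent (Red.bc σ G) pt]
      exact (isIrreducible_irreducibleComponent.isConnected.isPreconnected.subset_connectedComponent
        mem_irreducibleComponent) hz'1
    rw [GrpNeut.s5322 G σ] at h1
    exact h1
  · show (snd G X).left.base ((Ψ σ G X).base z') ∈ U
    rw [Ψ_snd_apply]
    exact hz'2
  · rw [Ψ_act_apply, hz'3, hx']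

/-- separatedness from fibrewise covering by `G⁰·U` with `U` separated. -/
theorem isSeparated_of_fibre_subset [LocallyOfFinitePresentation G.hom]
    (hUO : ∀ x ∈ SGA3x.neutralSet G, EGA43.IsUnivOpenAt G.hom x) (a : AlgGrp.Action G X)
    (hU : ∀ x : X.left, ∃ U : X.left.Opens, IsSeparated (U.ι ≫ X.hom) ∧
      X.hom.base ⁻¹' {X.hom.base x} ⊆ GrpSep.orbitSet a U) :
    IsSeparated X.hom := by
  refine ⟨IsClosedImmersion.of_isPreimmersion _ ?_⟩
  show IsClosed (Set.range (pullback.diagonal X.hom).base)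
  rw [← isOpen_compl_iff, isOpen_iff_forall_mem_open]
  intro z hz
  obtain ⟨U, hUsep, hfib⟩ := hU ((snd X X).left.base z)
  have h2 : (snd X X).left.base z ∈ GrpSep.orbitSet a U := hfib rfl
  have h1 : (fst X X).left.base z ∈ GrpSep.orbitSet a U := by
    apply hfib
    have e1 : (fst X X).left ≫ X.hom = (snd X X).left ≫ X.hom := by rw [Over.w, Over.w]
    exact congrArg (fun φ : (X ⊗ X).left ⟶ S => φ.base z) e1
  obtain ⟨C, hC, hCU, hCU'⟩ := GrpSep.exists_closed_of_isSeparated X.hom U hUsep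
  rw [← GrpSep.diag_left_eq] at hz hCU hCU' ⊢
  obtain ⟨O, hO, hzO, hdisj⟩ :=
    GrpSep.exists_open_nhd_disjoint_diag a hUO U C hC hCU hCU' z h1 h2 hz
  exact ⟨O, fun w hw hwΔ => Set.disjoint_left.mp hdisj hw hwΔ, hO, hzO⟩

/-- quasi-compactness of `X = G⁰·V` for `V` quasi-compact over the base. -/
theorem quasiCompact_of_orbitSet_eq_univ (a : AlgGrp.Action G X) (V : X.left.Opens)
    (hV : QuasiCompact (V.ι ≫ X.hom)) (hX : ∀ x : X.left, x ∈ GrpSep.orbitSet a V) :
    QuasiCompact X.hom := by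
  rw [quasiCompact_iff_forall_isAffineOpen]
  intro S₀ hS₀
  haveI : IsAffine (S₀ : Scheme.{u}) := hS₀
  obtain ⟨U'', hU''c, hU''⟩ := GrpNeutB.s5323 (Red.bc S₀.ι G)
  rw [GrpNeut.s5322] at hU''
  haveI : CompactSpace (U'' : Scheme.{u}) := isCompact_iff_compactSpace.mp hU''c
  let W : (V : Scheme.{u}).Opens := (V.ι ≫ X.hom) ⁻¹ᵁ S₀
  have hWc : IsCompact (W : Set (V : Scheme.{u})) :=
    (quasiCompact_iff_forall_isAffineOpen.mp hV) S₀ hS₀
  haveI : CompactSpace (W : Scheme.{u}) := isCompact_iff_compactSpace.mp hWc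
  let fA : (U'' : Scheme.{u}) ⟶ (S₀ : Scheme.{u}) := U''.ι ≫ pullback.snd G.hom S₀.ι
  let iA : (U'' : Scheme.{u}) ⟶ G.left := U''.ι ≫ pullback.fst G.hom S₀.ι
  let fB : (W : Scheme.{u}) ⟶ (S₀ : Scheme.{u}) := (V.ι ≫ X.hom) ∣_ S₀
  let iB : (W : Scheme.{u}) ⟶ X.left := W.ι ≫ V.ι
  have e₁ : fA ≫ S₀.ι = iA ≫ G.hom := by
    show (U''.ι ≫ pullback.snd G.hom S₀.ι) ≫ S₀.ι = (U''.ι ≫ pullback.fst G.hom S₀.ι) ≫ G.hom
    rw [Category.assoc, Category.assoc, pullback.condition]
  have e₂ : fB ≫ S₀.ι = iB ≫ X.hom := by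
    show ((V.ι ≫ X.hom) ∣_ S₀) ≫ S₀.ι = (W.ι ≫ V.ι) ≫ X.hom
    rw [morphismRestrict_ι, Category.assoc]
  let m := pullback.map fA fB G.hom X.hom iA iB S₀.ι e₁ e₂
  have hr : Set.range m.base = (fst G X).left.base ⁻¹' Set.range iA.base ∩
      (snd G X).left.base ⁻¹' Set.range iB.base := by
    rw [Over.fst_left, Over.snd_left]
    exact Scheme.Pullback.range_map (f := fA) (g := fB) G.hom X.hom iA iB S₀.ι e₁ e₂
  have hc : IsCompact (a.act.left.base '' Set.range m.base) :=
    (isCompact_range m.continuous).image a.act.left.continuous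
  have hact : ∀ z : (G ⊗ X).left, X.hom.base (a.act.left.base z) = (G ⊗ X).hom.base z :=
    fun z => congrArg (fun φ : (G ⊗ X).left ⟶ S => φ.base z) (Over.w a.act)
  have hfst : ∀ z : (G ⊗ X).left, G.hom.base ((fst G X).left.base z) = (G ⊗ X).hom.base z :=
    fun z => congrArg (fun φ : (G ⊗ X).left ⟶ S => φ.base z) (Over.w (fst G X))
  have hsnd : ∀ z : (G ⊗ X).left, X.hom.base ((snd G X).left.base z) = (G ⊗ X).hom.base z :=
    fun z => congrArg (fun φ : (G ⊗ X).left ⟶ S => φ.base z) (Over.w (snd G X))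
  have heq : ((X.hom ⁻¹ᵁ S₀ : X.left.Opens) : Set X.left) =
      a.act.left.base '' Set.range m.base := by
    apply Set.Subset.antisymm
    · intro x hx
      obtain ⟨z, ⟨hz1, hz2⟩, rfl⟩ := hX x
      have hzS : (G ⊗ X).hom.base z ∈ S₀ := by
        rw [← hact]; exact hx
      refine ⟨z, ?_, rfl⟩
      rw [hr]
      constructor
      · have h1 : G.hom.base ((fst G X).left.base z) ∈ S₀ := by
          rw [hfst]; exact hzS
        have hrange : Set.range (pullback.fst G.hom S₀.ι).base = G.hom.base ⁻¹' (S₀ : Set S) := by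
          rw [Scheme.Pullback.range_fst, Scheme.Opens.range_ι]
        have h2 : (fst G X).left.base z ∈ Set.range (pullback.fst G.hom S₀.ι).base := by
          rw [hrange]; exact h1
        obtain ⟨y', hy'⟩ := h2
        have hy'U : y' ∈ U'' := hU'' (show (pullback.fst G.hom S₀.ι).base y' ∈
          SGA3x.neutralSet G by rw [hy']; exact hz1)
        exact ⟨⟨y', hy'U⟩, hy'⟩
      · have h2 : X.hom.base ((snd G X).left.base z) ∈ S₀ := by
          rw [hsnd]; exact hzS
        exact ⟨⟨⟨(snd G X).left.base z, hz2⟩, h2⟩, rfl⟩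
    · rintro _ ⟨w, hw, rfl⟩
      rw [hr] at hw
      obtain ⟨b, hb⟩ := hw.2
      show X.hom.base (a.act.left.base w) ∈ S₀
      rw [hact, ← hsnd, ← hb]
      have h4 : S₀.ι.base (fB.base b) = X.hom.base (iB.base b) :=
        congrArg (fun φ : (W : Scheme.{u}) ⟶ S => φ.base b) e₂
      rw [← h4]
      exact (fB.base b).2
  rw [heq]
  exact hc

/-- SGA3 VI_B 5.? (S5397). -/
theorem s5397 [LocallyOfFinitePresentation G.hom]
    (hGo : ∃ W : G.left.Opens, (∀ p : ↥(𝟙_ (Over S)).left, η[G].left.base p ∈ W) ∧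
      UniversallyOpen (W.ι ≫ G.hom))
    (a : AlgGrp.Action G X) (hΦ : Surjective (lift a.act (snd G X)).left)
    (hqs : ∀ s : S, QuasiSeparatedSpace ↥(X.hom.base ⁻¹' {s}))
    (hconn : ∀ s : S, _root_.IsPreconnected (X.hom.base ⁻¹' {s})) :
    IsSeparated X.hom ∧
    ((∃ V : X.left.Opens, QuasiCompact (V.ι ≫ X.hom) ∧
        ∀ s : S, (X.hom.base ⁻¹' {s}).Nonempty →
          ((V : Set X.left) ∩ X.hom.base ⁻¹' {s}).Nonempty) →
      QuasiCompact X.hom) := by
  have hUO := GrpSepB.isUnivOpenAt_of_open hGo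
  constructor
  · apply isSeparated_of_fibre_subset hUO a
    intro x
    obtain ⟨U, hUaff, hxU, -⟩ := GrpICons.exists_affineOpen_between x Set.univ isOpen_univ trivial
    haveI : IsAffine (U : Scheme.{u}) := hUaff
    exact ⟨U, inferInstance, fibre_subset_orbitSet a hΦ _ (hqs _) (hconn _) U ⟨x, hxU, rfl⟩⟩
  · rintro ⟨V, hV, hVs⟩
    apply quasiCompact_of_orbitSet_eq_univ a V hV
    intro x
    exact fibre_subset_orbitSet a hΦ _ (hqs _) (hconn _) V (hVs _ ⟨x, rfl⟩) rfl

end Main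

end Groth.Agent.H1.GrpHs
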