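import Mathlib
import Groth.Prelude.Def_AlgGrp
import Groth.Agent.Lib.Helper1.GrpLoci

/-! Kernel characterisations of locally quasi-finite and unramified homomorphisms of group
schemes (helper1; SGA3 VI_B 2.5.1, 2.5.2). -/

set_option autoImplicit false
universe u

namespace Groth.Agent.H1.GrpKer

open CategoryTheory CategoryTheory.Limits MonoidalCategory CartesianMonoidalCategory MonObj GrpObj
  AlgebraicGeometry
open Groth.Agent.H1.CritFib Groth.Agent.H9.FLH Groth.Agent.H1.GrpFibHom Groth.Agent.H1.GrpLoci

variable {S : Scheme.{u}} {G H : Over S} [GrpObj G] [GrpObj H] (u : G ⟶ H) [IsMonHom u]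

omit [GrpObj G] [IsMonHom u] in
theorem ker_sq {K : Over S} (i : K ⟶ G) (hK : AlgGrp.IsKernel i u) :
    IsPullback i.left K.hom u.left η[H].left := by
  have sq := IsPullback.map (Over.forget S) hK
  simp only [Over.forget_obj, Over.forget_map] at sq
  rw [Over.toUnit_left] at sq
  exact sq

omit [GrpObj H] [IsMonHom u] in
theorem unit_compat {K : Over S} [GrpObj K] (i : K ⟶ G) [IsMonHom i] (s : S) :
    i.left (η[K].left s) = GrpFib.unitSec G s := by
  rw [← Scheme.Hom.comp_apply, ← Over.comp_left, IsMonHom.one_hom]

theorem unram_of_unit [LocallyOfFiniteType u.left]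
    (h : ∀ s : S, (u.left.stalkMap (GrpFib.unitSec G s)).hom.FormallyUnramified) :
    FormallyUnramified u.left := by
  refine HasRingHomProperty.of_stalkMap (P := @FormallyUnramified)
    RingHom.FormallyUnramified.ofLocalizationPrime fun x => ?_
  rw [unram_homog u]
  exact h _

theorem s5320 [LocallyOfFinitePresentation u.left] (K : Over S) [GrpObj K] (i : K ⟶ G)
    [IsMonHom i] (hK : AlgGrp.IsKernel i u) :
    (FormallyUnramified u.left ↔ ∀ s : S, FormallyUnramified (fibHom u s).left) ∧
    (FormallyUnramified u.left ↔ FormallyUnramified K.hom) ∧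
    (FormallyUnramified u.left ↔ IsOpenImmersion η[K].left) := by
  have sq := ker_sq u i hK
  haveI : LocallyOfFiniteType K.hom :=
    MorphismProperty.of_isPullback (P := @LocallyOfFiniteType) sq inferInstance
  have ha : FormallyUnramified u.left ↔ ∀ s : S, FormallyUnramified (fibHom u s).left := by
    constructor
    · intro h s
      exact MorphismProperty.of_isPullback (P := @FormallyUnramified) (isPullback_fibHom u s) h
    · intro h
      exact unram_of_unit u fun s => (unram_fib_iff u s).1 (h s)
  have hb : FormallyUnramified u.left ↔ FormallyUnramified K.hom := by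
    constructor
    · intro h
      exact MorphismProperty.of_isPullback (P := @FormallyUnramified) sq h
    · intro h
      haveI := h
      refine unram_of_unit u fun s => ?_
      have h0 : (K.hom.stalkMap (η[K].left s)).hom.FormallyUnramified :=
        FormallyUnramified.stalkMap K.hom _
      have h1 := (H5.DF.formallyUnramified_stalkMap_iff_of_isPullback sq (η[K].left s)).1 h0
      exact (stalk_iff u.left (fun φ => φ.FormallyUnramified) (unit_compat i s)).1 h1
  have hc : FormallyUnramified K.hom ↔ IsOpenImmersion η[K].left := by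
    constructor
    · intro h
      have hle : (@FormallyUnramified ⊓ @LocallyOfFiniteType : MorphismProperty Scheme.{u}) ≤
          MorphismProperty.diagonal @IsOpenImmersion := by
        intro X Y f hf
        haveI : FormallyUnramified f := hf.1
        haveI : LocallyOfFiniteType f := hf.2
        rw [MorphismProperty.diagonal_iff]
        infer_instance
      have hpost := (MorphismProperty.hasOfPostcompProperty_iff_le_diagonal
        (P := @IsOpenImmersion)).2 hle
      refine hpost.of_postcomp η[K].left K.hom ⟨h, inferInstance⟩ ?_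
      rw [Over.w η[K]]
      show IsOpenImmersion (𝟙 S)
      infer_instance
    · intro h
      haveI := h
      haveI : LocallyOfFiniteType (toUnit K).left := ‹LocallyOfFiniteType K.hom›
      refine unram_of_unit (toUnit K) fun s => ?_
      haveI : FormallyUnramified (η[K].left ≫ K.hom) := by
        rw [Over.w η[K]]; show FormallyUnramified (𝟙 S); infer_instance
      exact (H5.AL.formallyUnramified_stalkMap_comp η[K].left K.hom s).2
        (FormallyUnramified.stalkMap _ s)
  exact ⟨ha, hb, hb.trans hc⟩

set_option backward.isDefEq.respectTransparency false in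
theorem fibreDimAt_zero_iff [LocallyOfFiniteType u.left] (s : S) (x : G.left) (hx : G.hom x = s) :
    FlatMor.fibreDimAt u.left x = 0 ↔ LocallyQuasiFinite (fibHom u s).left := by
  have hlft : LocallyOfFiniteType (fibHom u s).left :=
    MorphismProperty.of_isPullback (P := @LocallyOfFiniteType) (isPullback_fibHom u s) inferInstance
  have hb : ∀ (x' : G.hom.fiber s), FlatMor.fibreDimAt (fibHom u s).left x' =
      FlatMor.fibreDimAt u.left (G.hom.fiberι s x') := fun x' =>
    Groth.Agent.H1.FibDimBC.fibreDimAt_eq_of_isPullback u.left (H.hom.fiberι s) (G.hom.fiberι s)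
      (fibHom u s).left (isPullback_fibHom u s) x'
  obtain ⟨x', hx'⟩ := exists_fiberι_eq G.hom x s hx
  haveI : Subsingleton ↥(Spec (CommRingCat.of (S.residueField s))) :=
    inferInstanceAs (Subsingleton (PrimeSpectrum (S.residueField s)))
  rw [Groth.Agent.H1.QFDim.locallyQuasiFinite_iff_fibreDimAt]
  constructor
  · intro h0 y'
    rw [fibreDimAt_hom_const (fibHom u s) y' x', hb, hx', h0]
  · intro h
    rw [← hx', ← hb]
    exact h x'

theorem s5319 [LocallyOfFiniteType u.left] (K : Over S) [GrpObj K] (i : K ⟶ G)
    [IsMonHom i] (hK : AlgGrp.IsKernel i u) :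
    (LocallyQuasiFinite u.left ↔ ∀ s : S, LocallyQuasiFinite (fibHom u s).left) ∧
    (LocallyQuasiFinite u.left ↔ LocallyQuasiFinite K.hom) ∧
    (LocallyQuasiFinite u.left ↔ ∀ s : S, DiscreteTopology ↥(K.hom.base ⁻¹' {s})) := by
  have sq := ker_sq u i hK
  haveI : LocallyOfFiniteType K.hom :=
    MorphismProperty.of_isPullback (P := @LocallyOfFiniteType) sq inferInstance
  have ha : LocallyQuasiFinite u.left ↔ ∀ s : S, LocallyQuasiFinite (fibHom u s).left := by
    rw [Groth.Agent.H1.QFDim.locallyQuasiFinite_iff_fibreDimAt]
    constructor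
    · intro h s
      exact (fibreDimAt_zero_iff u s (GrpFib.unitSec G s) (GrpFib.hom_unitSec G s)).1 (h _)
    · intro h x
      exact (fibreDimAt_zero_iff u (G.hom x) x rfl).2 (h _)
  have hb : LocallyQuasiFinite u.left ↔ LocallyQuasiFinite K.hom := by
    constructor
    · intro h
      exact MorphismProperty.of_isPullback (P := @LocallyQuasiFinite) sq h
    · intro h
      rw [ha]
      intro s
      rw [← fibreDimAt_zero_iff u s (GrpFib.unitSec G s) (GrpFib.hom_unitSec G s)]
      have h1 := (Groth.Agent.H1.QFDim.locallyQuasiFinite_iff_fibreDimAt K.hom).1 h (η[K].left s)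
      rw [Groth.Agent.H1.FibDimBC.fibreDimAt_eq_of_isPullback u.left η[H].left i.left K.hom sq,
        unit_compat i s] at h1
      exact h1
  refine ⟨ha, hb, hb.trans ?_⟩
  rw [locallyQuasiFinite_iff_isDiscrete_preimage_singleton]
  exact forall_congr' fun s => isDiscrete_iff_discreteTopology

end Groth.Agent.H1.GrpKer
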