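import Mathlib
import Groth.Agent.Lib.Helper1.GrpImg
import Groth.Agent.Lib.Helper1.GrpKer
import Groth.Agent.Lib.Helper3.DiscSep

/-! SGA3 VI_B 1.4.1: for a quasi-compact homomorphism `u` of group schemes locally of finite type
over a local artinian ring, `u` is proper iff `Ker u` is proper (S3035), `u` is finite iff `Ker u`
is discrete (S3037) (helper1). -/

set_option autoImplicit false
set_option linter.style.haveILetI false
universe u

namespace Groth.Agent.H1.GrpImgB

open CategoryTheory CategoryTheory.Limits MonoidalCategory CartesianMonoidalCategory MonObj GrpObj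
  AlgebraicGeometry
open Groth.Agent.H1.GrpImg

/-! ### kernels in a cartesian monoidal category -/

section Abstract

universe v₁ u₁
variable {C : Type u₁} [Category.{v₁} C] [CartesianMonoidalCategory C] {G H N : C} [GrpObj G]
  [GrpObj H] (u : G ⟶ H) [IsMonHom u] (k : N ⟶ G) (hk : IsPullback k (toUnit N) u η[H])

include hk in
omit [GrpObj G] [IsMonHom u] in
theorem ker_comp : k ≫ u = 1 := by rw [hk.w, ← Hom.one_def]

include hk in
/-- The kernel pair of a homomorphism is `G ⊗ Ker`. -/
theorem isPullback_shear : IsPullback (fst G N) (fst G N * (snd G N ≫ k)) u u := by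
  have hku := ker_comp u k hk
  refine ⟨⟨?_⟩, ⟨PullbackCone.IsLimit.mk _
    (fun s => lift s.fst (hk.lift (s.fst⁻¹ * s.snd) (toUnit _) ?_)) ?_ ?_ ?_⟩⟩
  · rw [MonObj.mul_comp, Category.assoc, hku, MonObj.comp_one, _root_.mul_one]
  · rw [MonObj.mul_comp, GrpObj.inv_comp, s.condition, inv_mul_cancel, Hom.one_def]
  · intro s
    exact lift_fst _ _
  · intro s
    rw [MonObj.comp_mul, lift_fst, lift_snd_assoc, hk.lift_fst, mul_inv_cancel_left]
  · intro s m h1 h2
    apply CartesianMonoidalCategory.hom_ext
    · rw [lift_fst, h1]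
    · rw [lift_snd]
      apply hk.hom_ext
      · rw [hk.lift_fst, Category.assoc]
        rw [MonObj.comp_mul, h1] at h2
        exact eq_inv_mul_of_mul_eq h2
      · exact toUnit_unique _ _

include hk in
/-- The kernel of a homomorphism is a group object. -/
theorem exists_grpObj_ker : ∃ (_ : GrpObj N), IsMonHom k := by
  have hku := ker_comp u k hk
  haveI : Mono k := hk.mono_fst_of_mono
  have e1 : η[G] ≫ u = toUnit (𝟙_ C) ≫ η[H] := by
    rw [IsMonHom.one_hom, toUnit_unique (toUnit (𝟙_ C)) (𝟙 _), Category.id_comp]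
  have e2 : ((k ⊗ₘ k) ≫ μ[G]) ≫ u = toUnit (N ⊗ N) ≫ η[H] := by
    have : (k ⊗ₘ k) ≫ μ[G] = (fst N N ≫ k) * (snd N N ≫ k) := by
      rw [MonObj.mul_eq_mul, MonObj.comp_mul, tensorHom_fst, tensorHom_snd]
    rw [this, MonObj.mul_comp, Category.assoc, Category.assoc, hku, MonObj.comp_one,
      MonObj.comp_one, _root_.mul_one, Hom.one_def]
  have e3 : (k ≫ ι[G]) ≫ u = toUnit N ≫ η[H] := by
    rw [← Hom.inv_def, GrpObj.inv_comp, hku, inv_one, Hom.one_def]
  exact ⟨Groth.Agent.H9.GZD.grpObjOfMono k (hk.lift η[G] (toUnit _) e1)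
      (hk.lift ((k ⊗ₘ k) ≫ μ[G]) (toUnit _) e2) (hk.lift (k ≫ ι[G]) (toUnit _) e3)
      (hk.lift_fst _ _ _) (hk.lift_fst _ _ _) (hk.lift_fst _ _ _),
    Groth.Agent.H9.GZD.isMonHom_ofMono k (hk.lift η[G] (toUnit _) e1)
      (hk.lift ((k ⊗ₘ k) ≫ μ[G]) (toUnit _) e2) (hk.lift (k ≫ ι[G]) (toUnit _) e3)
      (hk.lift_fst _ _ _) (hk.lift_fst _ _ _) (hk.lift_fst _ _ _)⟩

omit [CartesianMonoidalCategory C] in
theorem isPullback_of_comp_mono {P X Y Z W : C} {a : P ⟶ X} {b : P ⟶ Y} {f : X ⟶ Z} {g : Y ⟶ Z}
    (i : Z ⟶ W) [Mono i] (h : IsPullback a b (f ≫ i) (g ≫ i)) : IsPullback a b f g := by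
  have w : a ≫ f = b ≫ g := by
    rw [← cancel_mono i, Category.assoc, Category.assoc, h.w]
  refine ⟨⟨w⟩, ⟨PullbackCone.IsLimit.mk _
    (fun s => h.lift s.fst s.snd (by rw [← Category.assoc, s.condition, Category.assoc])) ?_ ?_ ?_⟩⟩
  · intro s; exact h.lift_fst _ _ _
  · intro s; exact h.lift_snd _ _ _
  · intro s m h1 h2
    apply h.hom_ext
    · rw [h.lift_fst, h1]
    · rw [h.lift_snd, h2]

end Abstract

/-! ### scheme-level consequences -/

section Sch

variable {S : Scheme.{u}} {G H : Over S} [GrpObj G] [GrpObj H] (u : G ⟶ H) [IsMonHom u]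

/-- A property of the kernel passes to the first projection of the kernel pair. -/
theorem prop_fst_of_ker (P : MorphismProperty Scheme.{u}) [P.IsStableUnderBaseChange]
    [P.RespectsIso] (hK : P (pullback.snd u.left (η[H] : 𝟙_ (Over S) ⟶ H).left)) :
    P (pullback.fst u.left u.left) := by
  have hk : IsPullback (pullback.fst u η[H]) (toUnit (pullback u η[H])) u η[H] := by
    rw [toUnit_unique (toUnit (pullback u η[H])) (pullback.snd u η[H])]
    exact IsPullback.of_hasPullback _ _
  have sq := (isPullback_shear u _ hk).map (Over.forget S)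
  have ksq := hk.map (Over.forget S)
  have hN : P (pullback u η[H]).hom := by
    have e : ksq.isoPullback.hom ≫ pullback.snd u.left (η[H] : 𝟙_ (Over S) ⟶ H).left =
        (toUnit (pullback u η[H])).left := ksq.isoPullback_hom_snd
    rw [Over.toUnit_left] at e
    rw [← e]
    exact (P.cancel_left_of_respectsIso _ _).mpr hK
  have h1 : P (fst G (pullback u η[H])).left := by
    rw [Over.fst_left]
    exact P.pullback_fst _ _ hN
  have e2 : sq.isoPullback.hom ≫ pullback.fst u.left u.left = (fst G (pullback u η[H])).left :=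
    sq.isoPullback_hom_fst
  rw [← e2] at h1
  exact (P.cancel_left_of_respectsIso _ _).mp h1

/-- `u` is locally quasi-finite as soon as its kernel is. -/
theorem locallyQuasiFinite_of_ker [LocallyOfFiniteType u.left]
    (hK : LocallyQuasiFinite (pullback.snd u.left (η[H] : 𝟙_ (Over S) ⟶ H).left)) :
    LocallyQuasiFinite u.left := by
  have hk : IsPullback (pullback.fst u η[H]) (toUnit (pullback u η[H])) u η[H] := by
    rw [toUnit_unique (toUnit (pullback u η[H])) (pullback.snd u η[H])]
    exact IsPullback.of_hasPullback _ _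
  obtain ⟨grpN, hmon⟩ := exists_grpObj_ker u _ hk
  have ksq := hk.map (Over.forget S)
  have hN : LocallyQuasiFinite (pullback u η[H]).hom := by
    have e : ksq.isoPullback.hom ≫ pullback.snd u.left (η[H] : 𝟙_ (Over S) ⟶ H).left =
        (toUnit (pullback u η[H])).left := ksq.isoPullback_hom_snd
    rw [Over.toUnit_left] at e
    rw [← e]
    exact (MorphismProperty.cancel_left_of_respectsIso @LocallyQuasiFinite _ _).mpr hK
  exact ((Groth.Agent.H1.GrpKer.s5319 u (pullback u η[H]) (pullback.fst u η[H]) hk).2.1).mpr hN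

end Sch

theorem prop_of_isPullback_comp {X Y T P : Scheme.{u}} (u : X ⟶ Y) (w : T ⟶ X)
    (Q : MorphismProperty Scheme.{u}) [Q.IsStableUnderBaseChange] [Q.RespectsIso]
    (hQ : Q (pullback.fst u u)) {a : P ⟶ T} {b : P ⟶ X} (sq : IsPullback a b (w ≫ u) u) :
    Q a := by
  have h1 : Q (pullback.fst w (pullback.fst u u)) := Q.pullback_fst _ _ hQ
  have h2 : Q (pullback.fst (w ≫ u) u) := by
    rw [← pullbackRightPullbackFstIso_inv_fst u u w]
    exact (Q.cancel_left_of_respectsIso _ _).mpr h1
  rw [← sq.isoPullback_hom_fst]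
  exact (Q.cancel_left_of_respectsIso _ _).mpr h2

theorem univClosed_of_cover {F Z H' G' : Scheme.{u}} (v : F ⟶ Z) (i : Z ⟶ H') (j : F ⟶ G')
    (u' : G' ⟶ H') (h1 : j ≫ u' = v ≫ i) [Mono i] [Surjective v] [Flat v] [QuasiCompact v]
    [UniversallyClosed j] (hA : UniversallyClosed (pullback.fst (j ≫ u') u')) :
    UniversallyClosed v := by
  have hB : UniversallyClosed (pullback.fst (j ≫ u') (j ≫ u')) := by
    rw [← pullbackLeftPullbackSndIso_inv_fst (j ≫ u') u' j]
    infer_instance
  rw [h1] at hB
  have hpb : IsPullback (pullback.fst (v ≫ i) (v ≫ i)) (pullback.snd (v ≫ i) (v ≫ i)) v v :=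
    isPullback_of_comp_mono i (IsPullback.of_hasPullback _ _)
  exact MorphismProperty.of_isPullback_of_descendsAlong (P := @UniversallyClosed)
    (Q := @Surjective ⊓ @Flat ⊓ @QuasiCompact) hpb ⟨⟨‹_›, ‹_›⟩, ‹_›⟩ hB

/-! ### S3035 -/

section Art

variable (A : Type u) [CommRing A] [IsArtinianRing A] [IsLocalRing A]
  (G H : Over (Spec (CommRingCat.of A))) [GrpObj G] [GrpObj H] [LocallyOfFiniteType G.hom]
  [LocallyOfFiniteType H.hom] (u : G ⟶ H) [IsMonHom u] [QuasiCompact u.left]

omit [LocallyOfFiniteType H.hom] in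
theorem isProper_of_ker
    (hK : IsProper (pullback.snd u.left
      (η[H] : 𝟙_ (Over (Spec (CommRingCat.of A))) ⟶ H).left)) : IsProper u.left := by
  haveI : DiscreteTopology (Spec (CommRingCat.of A)) :=
    inferInstanceAs (DiscreteTopology (PrimeSpectrum A))
  haveI : IsSeparated G.hom := Groth.Agent.H3.DiscSep.main _ G
  haveI : IsSeparated u.left := by
    haveI : IsSeparated (u.left ≫ H.hom) := by rw [Over.w u]; infer_instance
    exact IsSeparated.of_comp u.left H.hom
  haveI : LocallyOfFiniteType u.left := by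
    haveI : LocallyOfFiniteType (u.left ≫ H.hom) := by rw [Over.w u]; infer_instance
    exact locallyOfFiniteType_of_comp u.left H.hom
  have hPP : IsProper (pullback.fst u.left u.left) := prop_fst_of_ker u @IsProper hK
  obtain ⟨K, _, _, t, hts, hti⟩ := exists_geom_point A
  haveI : QuasiCompact ((Over.pullback t).map u).left :=
    MorphismProperty.of_isPullback (P := @QuasiCompact) (isPullback_map_left t u).flip
      inferInstance
  obtain ⟨F, Z, grpF, grpZ, j, i, v, hjmon, himon, hvmon, hjcl, hjsurj, hicl, hvi, hvs, hvf, hvqc,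
    hFred, hZred, hZr⟩ := core (Red.bc t G) (Red.bc t H) ((Over.pullback t).map u)
  have h1 : j.left ≫ ((Over.pullback t).map u).left = v.left ≫ i.left := by
    rw [← Over.comp_left, ← Over.comp_left, hvi]
  have hA : UniversallyClosed (pullback.fst (j.left ≫ ((Over.pullback t).map u).left)
      ((Over.pullback t).map u).left) := by
    have sq1 := IsPullback.of_hasPullback (j.left ≫ ((Over.pullback t).map u).left)
      ((Over.pullback t).map u).left
    have sq2 := isPullback_map_left t u
    have sq := sq1.paste_vert sq2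
    have e : (j.left ≫ ((Over.pullback t).map u).left) ≫ pullback.fst H.hom t =
        (j.left ≫ pullback.fst G.hom t) ≫ u.left := by
      rw [Category.assoc, sq2.w, Category.assoc]
    rw [e] at sq
    haveI : IsProper (pullback.fst (j.left ≫ ((Over.pullback t).map u).left)
        ((Over.pullback t).map u).left) :=
      prop_of_isPullback_comp u.left (j.left ≫ pullback.fst G.hom t) @IsProper hPP sq
    infer_instance
  haveI : Mono i.left := inferInstance
  haveI : UniversallyClosed v.left :=
    univClosed_of_cover v.left i.left j.left ((Over.pullback t).map u).left h1 hA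
  haveI : UniversallyClosed (j.left ≫ ((Over.pullback t).map u).left) := by
    rw [h1]; infer_instance
  exact isProper_of_bc t u j.left

omit [LocallyOfFiniteType H.hom] in
theorem s3035 :
    IsProper u.left ↔ IsProper (pullback.snd u.left
      (η[H] : 𝟙_ (Over (Spec (CommRingCat.of A))) ⟶ H).left) := by
  constructor
  · intro h
    infer_instance
  · exact isProper_of_ker A G H u

omit [LocallyOfFiniteType H.hom] in
theorem s3037 :
    IsFinite u.left ↔ DiscreteTopology ↥(pullback u.left
      (η[H] : 𝟙_ (Over (Spec (CommRingCat.of A))) ⟶ H).left) := by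
  haveI : LocallyOfFiniteType u.left := by
    haveI : LocallyOfFiniteType (u.left ≫ H.hom) := by rw [Over.w u]; infer_instance
    exact locallyOfFiniteType_of_comp u.left H.hom
  haveI hart : IsLocallyArtinian (𝟙_ (Over (Spec (CommRingCat.of A)))).left := by
    show IsLocallyArtinian (Spec (CommRingCat.of A))
    infer_instance
  constructor
  · intro h
    haveI : LocallyQuasiFinite (pullback.snd u.left
        (η[H] : 𝟙_ (Over (Spec (CommRingCat.of A))) ⟶ H).left) := inferInstance
    haveI : IsLocallyArtinian (pullback u.left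
        (η[H] : 𝟙_ (Over (Spec (CommRingCat.of A))) ⟶ H).left) :=
      IsLocallyArtinian.of_locallyQuasiFinite (pullback.snd u.left
        (η[H] : 𝟙_ (Over (Spec (CommRingCat.of A))) ⟶ H).left)
    infer_instance
  · intro h
    haveI hlqf : LocallyQuasiFinite (pullback.snd u.left
        (η[H] : 𝟙_ (Over (Spec (CommRingCat.of A))) ⟶ H).left) :=
      locallyQuasiFinite_iff_isDiscrete_preimage_singleton.mpr fun x => ⟨inferInstance⟩
    haveI : IsFinite (pullback.snd u.left
        (η[H] : 𝟙_ (Over (Spec (CommRingCat.of A))) ⟶ H).left) :=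
      IsFinite.of_locallyQuasiFinite _
    haveI : IsProper u.left := isProper_of_ker A G H u inferInstance
    haveI : LocallyQuasiFinite u.left := locallyQuasiFinite_of_ker u hlqf
    exact IsFinite.of_isProper_of_locallyQuasiFinite u.left

end Art

end Groth.Agent.H1.GrpImgB
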