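import Mathlib
import Groth.Agent.Lib.Helper1.GrpImg

/-! SGA3 VI_B 1.3: a homomorphism of group schemes locally of finite type over a local artinian
ring whose underlying map is open is universally open (S3038) (helper1). -/

set_option autoImplicit false
set_option linter.style.haveILetI false
universe u

namespace Groth.Agent.H1.GrpImgC

open CategoryTheory CategoryTheory.Limits MonoidalCategory CartesianMonoidalCategory MonObj GrpObj
  AlgebraicGeometry
open Groth.Agent.H1.GrpImg

/-! ### universally open morphisms -/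

theorem universallyOpen_of_comp_surjective {X' X Y : Scheme.{u}} (j : X' ⟶ X) (u : X ⟶ Y)
    [UniversallyOpen (j ≫ u)] [Surjective j] : UniversallyOpen u := by
  constructor
  intro X₁ Y₁ i₁ i₂ f' H
  have h1 := UniversallyOpen.universally_isOpenMap _ _ _
    ((IsPullback.of_hasPullback i₁ j).paste_horiz H)
  have hs : Function.Surjective (pullback.fst i₁ j) :=
    (MorphismProperty.pullback_fst (P := @Surjective) _ _ ‹_›).1
  intro U hU
  have h2 : f' '' U = (pullback.fst i₁ j ≫ f') '' ((pullback.fst i₁ j) ⁻¹' U) := by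
    rw [Scheme.Hom.comp_base, TopCat.coe_comp, Set.image_comp, Set.image_preimage_eq _ hs]
  rw [h2]
  exact h1 _ (hU.preimage (pullback.fst i₁ j).continuous)

theorem universallyOpen_of_isClosedImmersion {Z H : Scheme.{u}} (i : Z ⟶ H) [IsClosedImmersion i]
    (h : IsOpen (Set.range i)) : UniversallyOpen i := by
  constructor
  intro X₁ Y₁ i₁ i₂ f' sq
  haveI : IsClosedImmersion f' :=
    MorphismProperty.of_isPullback (P := @IsClosedImmersion) sq.flip inferInstance
  have hr : Set.range f' = i₂ ⁻¹' Set.range i := by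
    have := Scheme.image_preimage_eq_of_isPullback sq.flip Set.univ
    rw [Set.preimage_univ, Set.image_univ, Set.image_univ] at this
    exact this
  exact f'.isClosedEmbedding.isEmbedding.isInducing.isOpenMap
    (by rw [hr]; exact h.preimage i₂.continuous)

/-- Universally open descends along surjective universally closed morphisms. -/
instance descendsAlong_universallyOpen_surjective_inf_universallyClosed :
    MorphismProperty.DescendsAlong @UniversallyOpen (@Surjective ⊓ @UniversallyClosed) := by
  apply MorphismProperty.DescendsAlong.mk'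
  intro X Y Z f g _ hf hfst
  obtain ⟨hf1, hf2⟩ := hf
  haveI : Surjective f := hf1
  haveI : UniversallyClosed f := hf2
  haveI : UniversallyOpen (pullback.fst f g) := hfst
  refine ⟨MorphismProperty.universally_mk' _ _ fun {T} h _ s hs => ?_⟩
  let p := pullback.fst (pullback.fst f h) (pullback.fst f g)
  let r : pullback (pullback.fst f h) (pullback.fst f g) ⟶ pullback h g :=
    pullback.map _ _ _ _ (pullback.snd _ _) (pullback.snd _ _) f (pullback.condition ..)
      (pullback.condition ..)
  have : IsOpen ((pullback.snd f h).base ⁻¹' ((pullback.fst h g).base '' s)) := by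
    rw [← Scheme.image_preimage_eq_of_isPullback (isPullback_map_snd_snd ..)]
    exact p.isOpenMap _ (hs.preimage r.continuous)
  have hq : Topology.IsQuotientMap (pullback.snd f h) :=
    (pullback.snd f h).isClosedMap.isQuotientMap (pullback.snd f h).continuous
      (pullback.snd f h).surjective
  rwa [hq.isOpen_preimage] at this

section Field

variable {K : Type u} [Field K]

/-- A homomorphism of group schemes over a field whose image contains all maximal points is
surjective, and flat if the target is reduced (the argument of helper9's S5355). -/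
theorem surj_flat_of_maxPts (G H : Over (Spec (CommRingCat.of K))) [GrpObj G] [GrpObj H]
    (f : G ⟶ H) [IsMonHom f]
    (hmax : ∀ ξ : H.left, (∀ ξ' : H.left, ξ' ⤳ ξ → ξ' = ξ) → ξ ∈ Set.range f.left) :
    Surjective f.left ∧ (IsReduced H.left → Flat f.left) := by
  have hsurj : Function.Surjective f.left := by
    intro h
    obtain ⟨z, hz, hz1, hz2⟩ := Groth.Agent.H9.GSD.S5354_main H h
    rw [Groth.Agent.H9.GSD.isMaxPt_iff] at hz1 hz2
    obtain ⟨a, ha⟩ := hmax _ hz1
    obtain ⟨b, hb⟩ := hmax _ hz2
    have hzr : z ∈ Set.range (f ⊗ₘ f).left := by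
      rw [Over.tensorHom_left, Scheme.Pullback.range_map]
      exact ⟨⟨a, ha⟩, ⟨b, hb⟩⟩
    obtain ⟨w, hw⟩ := hzr
    refine ⟨μ[G].left w, ?_⟩
    rw [← Scheme.Hom.comp_apply, ← Over.comp_left, IsMonHom.mul_hom, Over.comp_left,
      Scheme.Hom.comp_apply, hw]
    exact hz
  refine ⟨⟨hsurj⟩, ?_⟩
  intro hred
  have hne : Nonempty H.left := by
    have : Nonempty (Spec (CommRingCat.of K)) := inferInstance
    obtain ⟨pt⟩ := this
    exact ⟨η[H].left pt⟩
  obtain ⟨ξ, hξ⟩ := Groth.Agent.H9.GSD.exists_maxPt H.left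
  obtain ⟨x, rfl⟩ := hsurj ξ
  have hfield := Groth.Agent.H9.FLH.isField_stalk_of_isMaxPt H.left (f.left x) hξ
  have hfl : Groth.Agent.H9.FLH.FlatAt f.left x := RingHom.Flat.of_isField hfield _
  exact Groth.Agent.H9.FLH.flat_hom f x hfl

/-- The reduced closure of the image of a homomorphism of group schemes over a perfect field as a
closed subgroup scheme (no quasi-compactness). -/
theorem coreA [PerfectField K] (G H : Over (Spec (CommRingCat.of K))) [GrpObj G] [GrpObj H]
    (u : G ⟶ H) [IsMonHom u] :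
    ∃ (F Z : Over (Spec (CommRingCat.of K))) (_ : GrpObj F) (_ : GrpObj Z) (j : F ⟶ G)
      (i : Z ⟶ H) (v : F ⟶ Z), IsMonHom j ∧ IsMonHom i ∧ IsMonHom v ∧
      IsClosedImmersion j.left ∧ Surjective j.left ∧ IsClosedImmersion i.left ∧
      v ≫ i = j ≫ u ∧ DenseRange v.left ∧
      IsReduced F.left ∧ IsReduced Z.left ∧
      Set.range i.left = closure (Set.range u.left) ∧
      i.left '' Set.range v.left = Set.range u.left := by
  obtain ⟨F, grpF, j, hjmon, hjcl, hjsurj, hFred⟩ := exists_red G
  obtain ⟨Z0, i0, himm, hZred, hZr⟩ :=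
    Groth.Agent.H8.RedImm.exists_reduced_immersion (closure (Set.range u.left))
      isClosed_closure.isLocallyClosed
  haveI : IsClosedImmersion i0 :=
    IsClosedImmersion.of_isPreimmersion i0 (by rw [hZr]; exact isClosed_closure)
  obtain ⟨Z, i, hZl, hi⟩ : ∃ (Z : Over (Spec (CommRingCat.of K))) (i : Z ⟶ H)
      (hZl : Z.left = Z0), i.left = eqToHom hZl ≫ i0 :=
    ⟨Over.mk (i0 ≫ H.hom), Over.homMk i0 rfl, rfl, by simp⟩
  subst hZl
  simp only [eqToHom_refl, Category.id_comp] at hi
  subst hi
  haveI : Mono i.left := inferInstance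
  haveI : Mono i := (Over.forget _).mono_of_mono_map (inferInstanceAs (Mono i.left))
  have hrange_u : Set.range (j.left ≫ u.left) = Set.range u.left := by
    rw [Scheme.Hom.comp_base, TopCat.coe_comp, Set.range_comp,
      Set.range_eq_univ.mpr hjsurj.surj, Set.image_univ]
  obtain ⟨v0, hv0⟩ := Groth.Agent.H8.RedImm.exists_lift_of_isImmersion_of_isReduced i.left
    (j.left ≫ u.left) (by rw [hrange_u, hZr]; exact subset_closure)
  obtain ⟨v, hv⟩ : ∃ v : F ⟶ Z, v.left = v0 := by
    refine ⟨Over.homMk v0 ?_, rfl⟩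
    rw [← Over.w i, ← Category.assoc, hv0, Category.assoc, Over.w u, Over.w j]
  subst hv
  have hvi : v ≫ i = j ≫ u := Over.OverMorphism.ext hv0
  have h2 : i.left '' Set.range v.left = Set.range u.left := by
    rw [← hrange_u, ← hv0, Scheme.Hom.comp_base, TopCat.coe_comp, Set.range_comp]
  have hvd : DenseRange v.left := by
    have hemb := i.left.isClosedEmbedding
    rw [DenseRange, dense_iff_closure_eq]
    have h1 : i.left '' (closure (Set.range v.left)) = i.left '' Set.univ := by
      rw [← hemb.closure_image_eq, h2, Set.image_univ, hZr]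
    exact (Set.image_injective.mpr hemb.injective) h1
  haveI hZZ : IsReduced (Z ⊗ Z).left := by
    have : (Z ⊗ Z).left = pullback Z.hom Z.hom := rfl
    rw [this]
    exact Groth.Agent.H9.GRD.isReduced_pullback K Z.hom Z.hom
  have key : ∀ {T : Scheme.{u}} (φ : T ⟶ H.left) (D : Set T), Dense D →
      (∀ x ∈ D, φ x ∈ Set.range u.left) → Set.range φ ⊆ Set.range i.left := by
    intro T φ D hD hφ
    rw [hZr]
    have hcl : IsClosed (φ ⁻¹' closure (Set.range u.left)) :=
      isClosed_closure.preimage φ.continuous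
    have hsub : D ⊆ φ ⁻¹' closure (Set.range u.left) := fun x hx => subset_closure (hφ x hx)
    have huniv : φ ⁻¹' closure (Set.range u.left) = Set.univ :=
      Set.eq_univ_of_univ_subset (hD.closure_eq ▸ hcl.closure_subset_iff.mpr hsub)
    rintro _ ⟨z, rfl⟩
    exact (Set.eq_univ_iff_forall.mp huniv) z
  obtain ⟨m, hm⟩ : ∃ m : Z ⊗ Z ⟶ Z, m ≫ i = (i ⊗ₘ i) ≫ μ[H] := by
    have hd : DenseRange (v ⊗ₘ v).left := denseRange_tensorHom v v hvd hvd
    have hsub : Set.range ((i ⊗ₘ i) ≫ μ[H]).left ⊆ Set.range i.left := by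
      refine key _ _ hd ?_
      rintro _ ⟨w, rfl⟩
      refine ⟨((j ⊗ₘ j) ≫ μ[G]).left w, ?_⟩
      have h1 : (v ⊗ₘ v) ≫ (i ⊗ₘ i) ≫ μ[H] = ((j ⊗ₘ j) ≫ μ[G]) ≫ u := by
        rw [tensorHom_comp_tensorHom_assoc, hvi, ← tensorHom_comp_tensorHom_assoc, Category.assoc,
          IsMonHom.mul_hom]
      have h2 := congrArg (fun φ => φ.left w) h1
      exact h2.symm
    obtain ⟨l, hl⟩ := Groth.Agent.H8.RedImm.exists_lift_of_isImmersion_of_isReduced i.left
      ((i ⊗ₘ i) ≫ μ[H]).left hsub
    refine ⟨Over.homMk l ?_, Over.OverMorphism.ext hl⟩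
    rw [← Over.w i, ← Category.assoc, hl]
    exact Over.w _
  obtain ⟨iv, hiv⟩ : ∃ iv : Z ⟶ Z, iv ≫ i = i ≫ ι[H] := by
    have hsub : Set.range (i ≫ ι[H]).left ⊆ Set.range i.left := by
      refine key _ _ hvd ?_
      rintro _ ⟨w, rfl⟩
      refine ⟨(j ≫ ι[G]).left w, ?_⟩
      have h1 : v ≫ i ≫ ι[H] = (j ≫ ι[G]) ≫ u := by
        calc v ≫ i ≫ ι[H] = (v ≫ i) ≫ ι[H] := by rw [Category.assoc]
          _ = (j ≫ u) ≫ ι[H] := by rw [hvi]
          _ = j ≫ (ι[G] ≫ u) := by rw [Category.assoc, GrpObj.inv_hom]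
          _ = (j ≫ ι[G]) ≫ u := by rw [Category.assoc]
      have h2 := congrArg (fun φ => φ.left w) h1
      exact h2.symm
    obtain ⟨l, hl⟩ := Groth.Agent.H8.RedImm.exists_lift_of_isImmersion_of_isReduced i.left
      (i ≫ ι[H]).left hsub
    have hw : l ≫ Z.hom = Z.hom := by
      have h1 : l ≫ i.left ≫ H.hom = Z.hom := by
        rw [← Category.assoc, hl]
        exact Over.w _
      rwa [Over.w i] at h1
    exact ⟨Over.homMk l hw, Over.OverMorphism.ext hl⟩
  have he : (η[F] ≫ v) ≫ i = η[H] := by
    rw [Category.assoc, hvi, ← Category.assoc, IsMonHom.one_hom, IsMonHom.one_hom]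
  letI grpZ : GrpObj Z := Groth.Agent.H9.GZD.grpObjOfMono i (η[F] ≫ v) m iv he hm hiv
  have himon : IsMonHom i := Groth.Agent.H9.GZD.isMonHom_ofMono i (η[F] ≫ v) m iv he hm hiv
  have hvmon : IsMonHom v := by
    constructor
    · rfl
    · rw [← cancel_mono i, Category.assoc, Category.assoc, IsMonHom.mul_hom (f := i),
        tensorHom_comp_tensorHom_assoc, hvi, ← tensorHom_comp_tensorHom_assoc,
        ← IsMonHom.mul_hom (f := u), ← IsMonHom.mul_hom_assoc (f := j)]
  exact ⟨F, Z, grpF, grpZ, j, i, v, hjmon, himon, hvmon, hjcl, hjsurj, inferInstance, hvi, hvd,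
    hFred, hZred, hZr, h2⟩

/-- Image factorisation for a homomorphism with open image (no quasi-compactness). -/
theorem coreOpen [PerfectField K] (G H : Over (Spec (CommRingCat.of K))) [GrpObj G] [GrpObj H]
    [LocallyOfFiniteType H.hom] (u : G ⟶ H) [IsMonHom u] (hu : IsOpen (Set.range u.left)) :
    ∃ (F Z : Over (Spec (CommRingCat.of K))) (_ : GrpObj F) (_ : GrpObj Z) (j : F ⟶ G)
      (i : Z ⟶ H) (v : F ⟶ Z), IsMonHom j ∧ IsMonHom i ∧ IsMonHom v ∧
      IsClosedImmersion j.left ∧ Surjective j.left ∧ IsClosedImmersion i.left ∧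
      v ≫ i = j ≫ u ∧ Surjective v.left ∧ Flat v.left ∧
      IsReduced F.left ∧ IsReduced Z.left ∧ Set.range i.left = Set.range u.left := by
  obtain ⟨F, Z, grpF, grpZ, j, i, v, hjmon, himon, hvmon, hjcl, hjsurj, hicl, hvi, hvd, hFred,
    hZred, hZr, h2⟩ := coreA G H u
  have hinj : Function.Injective i.left := i.left.isClosedEmbedding.injective
  have hrv : Set.range v.left = i.left ⁻¹' Set.range u.left := by
    rw [← h2, Set.preimage_image_eq _ hinj]
  have hvo : IsOpen (Set.range v.left) := by
    rw [hrv]; exact hu.preimage i.left.continuous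
  haveI : LocallyOfFiniteType Z.hom := by rw [← Over.w i]; infer_instance
  haveI : IsLocallyNoetherian Z.left := LocallyOfFiniteType.isLocallyNoetherian Z.hom
  have hmax : ∀ ξ : Z.left, (∀ ξ' : Z.left, ξ' ⤳ ξ → ξ' = ξ) → ξ ∈ Set.range v.left := by
    intro ξ hξ
    let Vo : Z.left.Opens := ⟨Set.range v.left, hvo⟩
    have hd : DenseRange Vo.ι := by
      rw [DenseRange, Scheme.Opens.range_ι]
      exact hvd
    have := Groth.Agent.H9.FLH.mem_range_of_isMaxPt Vo.ι hd ξ hξ
    rw [Scheme.Opens.range_ι] at this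
    exact this
  obtain ⟨hvs, hvf⟩ := surj_flat_of_maxPts F Z v hmax
  refine ⟨F, Z, grpF, grpZ, j, i, v, hjmon, himon, hvmon, hjcl, hjsurj, hicl, hvi, hvs,
    hvf hZred, hFred, hZred, ?_⟩
  rw [← h2, Set.range_eq_univ.mpr hvs.surj, Set.image_univ]

end Field

/-! ### S3038 -/

theorem s3038 (A : Type u) [CommRing A] [IsArtinianRing A] [IsLocalRing A]
    (G H : Over (Spec (CommRingCat.of A))) [GrpObj G] [GrpObj H] [LocallyOfFiniteType G.hom]
    [LocallyOfFiniteType H.hom]
    (u : G ⟶ H) [IsMonHom u] (hu : IsOpenMap u.left.base) : UniversallyOpen u.left := by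
  obtain ⟨K, _, _, t, hts, hti⟩ := exists_geom_point A
  have sq := isPullback_map_left t u
  have hopen : IsOpen (Set.range ((Over.pullback t).map u).left) := by
    have := Scheme.image_preimage_eq_of_isPullback sq.flip Set.univ
    rw [Set.preimage_univ, Set.image_univ] at this
    rw [this]
    exact (hu _ isOpen_univ).preimage (pullback.fst H.hom t).continuous
  haveI : LocallyOfFiniteType (Red.bc t H).hom :=
    MorphismProperty.pullback_snd (P := @LocallyOfFiniteType) _ _ inferInstance
  haveI : LocallyOfFiniteType (Red.bc t G).hom :=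
    MorphismProperty.pullback_snd (P := @LocallyOfFiniteType) _ _ inferInstance
  obtain ⟨F, Z, grpF, grpZ, j, i, v, hjmon, himon, hvmon, hjcl, hjsurj, hicl, hvi, hvs, hvf,
    hFred, hZred, hZr⟩ := coreOpen (Red.bc t G) (Red.bc t H) ((Over.pullback t).map u) hopen
  have h1 : j.left ≫ ((Over.pullback t).map u).left = v.left ≫ i.left := by
    rw [← Over.comp_left, ← Over.comp_left, hvi]
  haveI : LocallyOfFiniteType Z.hom := by rw [← Over.w i]; infer_instance
  haveI : LocallyOfFiniteType F.hom := by rw [← Over.w j]; infer_instance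
  haveI : IsLocallyNoetherian Z.left := LocallyOfFiniteType.isLocallyNoetherian Z.hom
  haveI : LocallyOfFiniteType v.left := by
    haveI : LocallyOfFiniteType (v.left ≫ Z.hom) := by rw [Over.w v]; infer_instance
    exact locallyOfFiniteType_of_comp v.left Z.hom
  haveI : UniversallyOpen v.left := inferInstance
  haveI : UniversallyOpen i.left := universallyOpen_of_isClosedImmersion i.left (by
    rw [hZr]; exact hopen)
  haveI : UniversallyOpen (j.left ≫ ((Over.pullback t).map u).left) := by
    rw [h1]; infer_instance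
  haveI : UniversallyOpen ((Over.pullback t).map u).left :=
    universallyOpen_of_comp_surjective j.left _
  haveI : Surjective (pullback.fst H.hom t) :=
    MorphismProperty.pullback_fst (P := @Surjective) _ _ ‹_›
  haveI : UniversallyClosed (pullback.fst H.hom t) :=
    MorphismProperty.pullback_fst (P := @UniversallyClosed) _ _ inferInstance
  exact MorphismProperty.of_isPullback_of_descendsAlong (P := @UniversallyOpen)
    (Q := @Surjective ⊓ @UniversallyClosed) sq ⟨‹_›, ‹_›⟩ ‹_›

end Groth.Agent.H1.GrpImgC
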