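import Mathlib
import Groth.Agent.Lib.Helper1.GrpImg
import Groth.Agent.Lib.Helper1.GrpFibHom
import Groth.Agent.Lib.Helper9.Misc.ORB6

/-! SGA3 VI_B 1.2 (S3016): for a quasi-compact homomorphism `u : G ⟶ H` of group schemes locally of
finite type over a local artinian ring, `u(G)` is closed and `dim G = dim u(G) + dim Ker u`
(helper1). -/

set_option autoImplicit false
set_option linter.style.haveILetI false
universe u

namespace Groth.Agent.H1.GrpImgD

open CategoryTheory CategoryTheory.Limits MonoidalCategory CartesianMonoidalCategory MonObj GrpObj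
  AlgebraicGeometry Topology

section General

/-- dimension formula for a morphism with closed image and constant local fibre dimension
(variant of helper9's `ORB6.dim_eq_dim_range_add` without finiteness of the set of components). -/
theorem dim_eq_dim_range_add_of_isClosed {k : Type u} [Field k] {G X : Scheme.{u}}
    (q : X ⟶ Spec (CommRingCat.of k)) [LocallyOfFiniteType q] (f : G ⟶ X)
    [LocallyOfFiniteType f] (hO : IsClosed (Set.range f.base)) (n : ℕ)
    (hn : ∀ g : G, FlatMor.fibreDimAt f g = n) :
    topologicalKrullDim ↥G = topologicalKrullDim ↥(Set.range f.base) + (n : WithBot ℕ∞) := by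
  apply le_antisymm
  · rw [Groth.Agent.H1.FibDimTot.dim_eq_iSup_closure (T := ↥G)]
    apply iSup_le
    intro g
    rw [Groth.Agent.H1.FibDimTot.dim_closure_eq_add q f g]
    refine add_le_add ?_ ?_
    · exact Groth.Agent.H9.ORB6.dim_closure_le_of_mem q _ hO.isLocallyClosed (f.base g) ⟨g, rfl⟩
    · exact (Groth.Agent.H1.FibDimTot.dim_closure_asFiber_le f g).trans
        (le_of_eq (Groth.Agent.H9.ORB6.dim_preimage_eq f n hn g))
  · have hkey : ∀ P : ↥(Set.range f.base),
        topologicalKrullDim ↥(closure ({P.1} : Set X)) + (n : WithBot ℕ∞) ≤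
          topologicalKrullDim ↥G := by
      rintro ⟨P, w₀, rfl⟩
      obtain ⟨g, hg, hgn⟩ := Groth.Agent.H1.FibDimTot.exists_asFiber_dim_ge f (f.base w₀) n
        (le_of_eq (Groth.Agent.H9.ORB6.dim_preimage_eq f n hn w₀).symm)
      have h1 : topologicalKrullDim ↥(closure ({f.base w₀} : Set X)) ≤
          topologicalKrullDim ↥(closure ({f g} : Set X)) := le_of_eq (by rw [hg])
      calc topologicalKrullDim ↥(closure ({f.base w₀} : Set X)) + (n : WithBot ℕ∞)
          ≤ topologicalKrullDim ↥(closure ({f g} : Set X)) +
            topologicalKrullDim ↥(closure ({f.asFiber g} : Set ↥(f.fiber (f g)))) :=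
            add_le_add h1 hgn
        _ = topologicalKrullDim ↥(closure ({g} : Set G)) :=
            (Groth.Agent.H1.FibDimTot.dim_closure_eq_add q f g).symm
        _ ≤ topologicalKrullDim ↥G := Groth.Agent.H1.FibDimTot.dim_closure_le g
    calc topologicalKrullDim ↥(Set.range f.base) + (n : WithBot ℕ∞)
        ≤ (⨆ P : ↥(Set.range f.base),
            topologicalKrullDim ↥(closure ({P.1} : Set X))) + (n : WithBot ℕ∞) :=
          add_le_add (Groth.Agent.H1.ClosedDim.dim_le_iSup_closure _ hO) le_rfl
      _ ≤ topologicalKrullDim ↥G :=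
          Groth.Agent.H1.FlatRelDim.iSup_add_natCast_le _ n _ hkey

theorem range_eq_preimage_of_isPullback {P X Y Z : Scheme.{u}} {a : P ⟶ X} {b : P ⟶ Y}
    {f : X ⟶ Z} {g : Y ⟶ Z} (h : IsPullback a b f g) : Set.range a = f ⁻¹' Set.range g := by
  ext x
  constructor
  · rintro ⟨p, rfl⟩
    refine ⟨b p, ?_⟩
    rw [← Scheme.Hom.comp_apply, ← Scheme.Hom.comp_apply, h.w]
  · rintro ⟨y, hy⟩
    obtain ⟨p, hp1, hp2⟩ := Scheme.Pullback.exists_preimage_pullback x y hy.symm
    refine ⟨h.isoPullback.inv p, ?_⟩
    rw [← Scheme.Hom.comp_apply, h.isoPullback_inv_fst]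
    exact hp1

theorem isHomeomorph_of_isClosedImmersion_surjective {X Y : Scheme.{u}} (f : X ⟶ Y)
    [IsClosedImmersion f] [Surjective f] : IsHomeomorph f.base :=
  isHomeomorph_iff_isEmbedding_surjective.mpr ⟨f.isEmbedding, f.surjective⟩

theorem dim_preimage_eq_of_isHomeomorph {X Y : Type u} [TopologicalSpace X] [TopologicalSpace Y]
    (f : X → Y) (hf : IsHomeomorph f) (T : Set Y) :
    topologicalKrullDim ↥(f ⁻¹' T) = topologicalKrullDim ↥T := by
  let e : ↥(f ⁻¹' T) ≃ₜ ↥T :=
    Homeomorph.subtype (p := fun z => z ∈ f ⁻¹' T) (q := fun w => w ∈ T) (hf.homeomorph f)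
      (fun x => Iff.rfl)
  exact IsHomeomorph.topologicalKrullDim_eq _ e.isHomeomorph

end General

section Ker

variable {S : Scheme.{u}} [Subsingleton S] {G H : Over S} [GrpObj G] [GrpObj H] (u : G ⟶ H)
  [IsMonHom u] [LocallyOfFiniteType u.left]

theorem exists_fibreDim : ∃ n : ℕ, ∀ g : G.left, FlatMor.fibreDimAt u.left g = n := by
  by_cases h : Nonempty G.left
  · obtain ⟨g₀⟩ := h
    obtain ⟨n, hn⟩ := Groth.Agent.H1.GrpFib.exists_fibreDimAt_eq_natCast u.left g₀
    exact ⟨n, fun g => (Groth.Agent.H1.GrpFibHom.fibreDimAt_hom_const u g g₀).trans hn⟩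
  · exact ⟨0, fun g => (h ⟨g⟩).elim⟩

omit [LocallyOfFiniteType u.left] in
theorem dim_ker [Nonempty S] (n : ℕ) (hn : ∀ g : G.left, FlatMor.fibreDimAt u.left g = n) :
    topologicalKrullDim ↥(pullback u.left η[H].left) = n := by
  haveI : IsImmersion (η[H].left ≫ H.hom) := by
    rw [Over.w η[H]]
    exact inferInstanceAs (IsImmersion (𝟙 S))
  haveI : IsImmersion η[H].left := IsImmersion.of_comp η[H].left H.hom
  haveI : Subsingleton ↥(𝟙_ (Over S)).left := ‹Subsingleton S›
  obtain ⟨s⟩ : Nonempty ↥(𝟙_ (Over S)).left := ‹Nonempty S›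
  have hone : u.left (η[G].left s) = η[H].left s := by
    rw [← Scheme.Hom.comp_apply, ← Over.comp_left, IsMonHom.one_hom]
  have hrange : Set.range (pullback.fst u.left η[H].left) =
      u.left.base ⁻¹' {u.left.base (η[G].left s)} := by
    rw [Scheme.Pullback.range_fst]
    have : Set.range η[H].left = {u.left.base (η[G].left s)} := by
      ext y
      constructor
      · rintro ⟨s', rfl⟩
        rw [Subsingleton.elim s' s]
        exact hone.symm
      · intro hy
        exact ⟨s, hy.symm ▸ hone.symm⟩
    rw [this]
  have hemb : IsEmbedding (pullback.fst u.left η[H].left) :=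
    (pullback.fst u.left η[H].left).isEmbedding
  have h1 : topologicalKrullDim ↥(pullback u.left η[H].left) =
      topologicalKrullDim ↥(Set.range (pullback.fst u.left η[H].left)) :=
    IsHomeomorph.topologicalKrullDim_eq _ hemb.toHomeomorph.isHomeomorph
  rw [h1, hrange]
  exact Groth.Agent.H9.ORB6.dim_preimage_eq u.left n hn (η[G].left s)

end Ker

/-- the image of a quasi-compact homomorphism of group schemes is closed, over a base admitting a
surjective universally closed point with values in a perfect field. -/
theorem isClosed_range_of_geom {K : Type u} [Field K] [PerfectField K] {S : Scheme.{u}}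
    (t : Spec (CommRingCat.of K) ⟶ S) [Surjective t] [UniversallyClosed t]
    (G H : Over S) [GrpObj G] [GrpObj H] (u : G ⟶ H) [IsMonHom u] [QuasiCompact u.left] :
    IsClosed (Set.range u.left.base) := by
  have sq := Groth.Agent.H1.GrpImg.isPullback_map_left t u
  haveI : QuasiCompact ((Over.pullback t).map u).left :=
    MorphismProperty.of_isPullback (P := @QuasiCompact) sq.flip inferInstance
  obtain ⟨F, Z, grpF, grpZ, j, i, v, hjmon, himon, hvmon, hjcl, hjsurj, hicl, hvi, hvs, hvf, hvqc,
    hFred, hZred, hZr⟩ := Groth.Agent.H1.GrpImg.core (Red.bc t G) (Red.bc t H)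
      ((Over.pullback t).map u)
  have h1 : Set.range i.left ⊆ Set.range ((Over.pullback t).map u).left := by
    rintro _ ⟨z, rfl⟩
    obtain ⟨f, rfl⟩ := v.left.surjective z
    refine ⟨j.left f, ?_⟩
    rw [← Scheme.Hom.comp_apply, ← Scheme.Hom.comp_apply, ← Over.comp_left, ← Over.comp_left, hvi]
  have hclK : IsClosed (Set.range ((Over.pullback t).map u).left) := by
    have h2 : Set.range ((Over.pullback t).map u).left =
        closure (Set.range ((Over.pullback t).map u).left) :=
      subset_antisymm subset_closure (by rw [← hZr]; exact h1)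
    rw [h2]; exact isClosed_closure
  haveI : Surjective (pullback.fst H.hom t) :=
    MorphismProperty.pullback_fst (P := @Surjective) _ _ ‹_›
  haveI : UniversallyClosed (pullback.fst H.hom t) :=
    MorphismProperty.pullback_fst (P := @UniversallyClosed) _ _ ‹_›
  have hr := range_eq_preimage_of_isPullback sq
  have h3 := (pullback.fst H.hom t).isClosedMap _ hclK
  rw [hr, Set.image_preimage_eq _ (pullback.fst H.hom t).surjective] at h3
  exact h3

/-- the dimension formula over a one-point base with a surjective closed immersion from the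
spectrum of a field. -/
theorem dim_formula {k : Type u} [Field k] {S : Scheme.{u}} [Subsingleton S] [Nonempty S]
    (i : Spec (CommRingCat.of k) ⟶ S) [IsClosedImmersion i] [Surjective i]
    (G H : Over S) [GrpObj G] [GrpObj H] [LocallyOfFiniteType H.hom] (u : G ⟶ H) [IsMonHom u]
    [LocallyOfFiniteType u.left] (hcl : IsClosed (Set.range u.left.base)) :
    topologicalKrullDim G.left = topologicalKrullDim ↥(Set.range u.left.base) +
      topologicalKrullDim ↥(pullback u.left η[H].left) := by
  obtain ⟨n, hn⟩ := exists_fibreDim u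
  rw [dim_ker u n hn]
  have sq := Groth.Agent.H1.GrpImg.isPullback_map_left i u
  haveI : LocallyOfFiniteType ((Over.pullback i).map u).left :=
    MorphismProperty.of_isPullback (P := @LocallyOfFiniteType) sq.flip inferInstance
  haveI : LocallyOfFiniteType (pullback.snd H.hom i) :=
    MorphismProperty.pullback_snd (P := @LocallyOfFiniteType) _ _ ‹_›
  have hn' : ∀ g' : ((Over.pullback i).obj G).left,
      FlatMor.fibreDimAt ((Over.pullback i).map u).left g' = n := fun g' =>
    (Groth.Agent.H1.FibDimBC.fibreDimAt_eq_of_isPullback u.left (pullback.fst H.hom i)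
      (pullback.fst G.hom i) ((Over.pullback i).map u).left sq.flip g').trans (hn _)
  have hr : Set.range ((Over.pullback i).map u).left.base =
      (pullback.fst H.hom i).base ⁻¹' Set.range u.left.base :=
    range_eq_preimage_of_isPullback sq
  have hclk : IsClosed (Set.range ((Over.pullback i).map u).left.base) := by
    rw [hr]
    exact hcl.preimage (pullback.fst H.hom i).continuous
  have key := dim_eq_dim_range_add_of_isClosed (pullback.snd H.hom i)
    ((Over.pullback i).map u).left hclk n hn'
  haveI : IsClosedImmersion (pullback.fst G.hom i) :=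
    MorphismProperty.pullback_fst (P := @IsClosedImmersion) _ _ ‹_›
  haveI : Surjective (pullback.fst G.hom i) :=
    MorphismProperty.pullback_fst (P := @Surjective) _ _ ‹_›
  haveI : IsClosedImmersion (pullback.fst H.hom i) :=
    MorphismProperty.pullback_fst (P := @IsClosedImmersion) _ _ ‹_›
  haveI : Surjective (pullback.fst H.hom i) :=
    MorphismProperty.pullback_fst (P := @Surjective) _ _ ‹_›
  have e1 : topologicalKrullDim ↥((Over.pullback i).obj G).left = topologicalKrullDim ↥G.left :=
    IsHomeomorph.topologicalKrullDim_eq _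
      (isHomeomorph_of_isClosedImmersion_surjective (pullback.fst G.hom i))
  have e2 : topologicalKrullDim ↥(Set.range ((Over.pullback i).map u).left.base) =
      topologicalKrullDim ↥(Set.range u.left.base) := by
    rw [hr]
    exact dim_preimage_eq_of_isHomeomorph _
      (isHomeomorph_of_isClosedImmersion_surjective (pullback.fst H.hom i)) _
  rw [← e1, ← e2]
  exact key

theorem s3016 (A : Type u) [CommRing A] [IsArtinianRing A] [IsLocalRing A]
    (G H : Over (Spec (CommRingCat.of A))) [GrpObj G] [GrpObj H] [LocallyOfFiniteType G.hom]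
    [LocallyOfFiniteType H.hom]
    (u : G ⟶ H) [IsMonHom u] [QuasiCompact u.left] :
    IsClosed (Set.range u.left.base) ∧
    topologicalKrullDim G.left =
      topologicalKrullDim (Set.range u.left.base) +
        topologicalKrullDim ↥(Limits.pullback u.left
          (η[H] : 𝟙_ (Over (Spec (CommRingCat.of A))) ⟶ H).left) := by
  obtain ⟨K, _, _, t, hts, hti⟩ := Groth.Agent.H1.GrpImg.exists_geom_point A
  haveI : LocallyOfFiniteType u.left := by
    haveI : LocallyOfFiniteType (u.left ≫ H.hom) := by rw [Over.w u]; infer_instance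
    exact locallyOfFiniteType_of_comp u.left H.hom
  have hcl : IsClosed (Set.range u.left.base) := isClosed_range_of_geom t G H u
  refine ⟨hcl, ?_⟩
  haveI : Subsingleton (PrimeSpectrum A) := Ring.KrullDimLE.subsingleton_primeSpectrum A
  haveI : Subsingleton ↥(Spec (CommRingCat.of A)) :=
    inferInstanceAs (Subsingleton (PrimeSpectrum A))
  haveI : Nonempty ↥(Spec (CommRingCat.of A)) := inferInstanceAs (Nonempty (PrimeSpectrum A))
  haveI : IsClosedImmersion (Spec.map (CommRingCat.ofHom (IsLocalRing.residue A))) :=
    IsClosedImmersion.spec_of_surjective _ IsLocalRing.residue_surjective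
  haveI : Surjective (Spec.map (CommRingCat.ofHom (IsLocalRing.residue A))) := by
    constructor
    intro x
    obtain ⟨y⟩ : Nonempty ↥(Spec (CommRingCat.of (IsLocalRing.ResidueField A))) :=
      inferInstanceAs (Nonempty (PrimeSpectrum (IsLocalRing.ResidueField A)))
    exact ⟨y, Subsingleton.elim _ _⟩
  exact dim_formula (Spec.map (CommRingCat.ofHom (IsLocalRing.residue A))) G H u hcl

end Groth.Agent.H1.GrpImgD
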