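import Mathlib
import Groth.Agent.Lib.Helper1.GrpImg
import Groth.Agent.Lib.Helper9.Misc.SchClos
import Groth.Agent.Lib.Helper9.Misc.StdExt

/-! SGA3 VI_B 1.? / Stacks 047T-type (S3024): the schematic image of a quasi-compact homomorphism
of group schemes over a field is a closed subgroup scheme, and the map onto it is surjective
(helper1). -/

set_option autoImplicit false
set_option linter.style.haveILetI false
universe u

namespace Groth.Agent.H1.GrpImgE

open CategoryTheory CategoryTheory.Limits MonoidalCategory CartesianMonoidalCategory MonObj GrpObj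
  AlgebraicGeometry

theorem s3024 (k : Type u) [Field k] (H G : Over (Spec (CommRingCat.of k))) [GrpObj H] [GrpObj G]
    (f : H ⟶ G) [IsMonHom f] [QuasiCompact f.left] :
    ∃ (H' : Over (Spec (CommRingCat.of k))) (_ : GrpObj H') (i : H' ⟶ G) (f' : H ⟶ H'),
      IsMonHom i ∧ IsMonHom f' ∧ f' ≫ i = f ∧ IsClosedImmersion i.left ∧
      f'.left.ker = ⊥ ∧ QuasiCompact f'.left ∧ Surjective f'.left := by
  obtain ⟨H', i, f', hi, hf', hfi⟩ : ∃ (H' : Over (Spec (CommRingCat.of k))) (i : H' ⟶ G)
      (f' : H ⟶ H'), IsClosedImmersion i.left ∧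
      (f'.left.ker = ⊥ ∧ QuasiCompact f'.left ∧ IsDominant f'.left) ∧ f' ≫ i = f := by
    refine ⟨Over.mk (f.left.imageι ≫ G.hom), Over.homMk f.left.imageι rfl,
      Over.homMk f.left.toImage ?_, ?_, ⟨?_, ?_, ?_⟩, ?_⟩
    · show f.left.toImage ≫ f.left.imageι ≫ G.hom = H.hom
      rw [← Category.assoc, f.left.toImage_imageι, Over.w f]
    · show IsClosedImmersion f.left.imageι
      infer_instance
    · exact Groth.Agent.H9.SchClos.ker_toImage_eq_bot f.left
    · show QuasiCompact f.left.toImage
      infer_instance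
    · show IsDominant f.left.toImage
      infer_instance
    · exact Over.OverMorphism.ext f.left.toImage_imageι
  haveI := hi
  obtain ⟨hker, hqc, hdom⟩ := hf'
  haveI := hqc
  haveI := hdom
  haveI hstd : IsSchemeTheoreticallyDominant f'.left := ⟨hker⟩
  haveI : Mono i.left := inferInstance
  haveI : Mono i := (Over.forget _).mono_of_mono_map (inferInstanceAs (Mono i.left))
  haveI : Subsingleton ↥(Spec (CommRingCat.of k)) :=
    inferInstanceAs (Subsingleton (PrimeSpectrum k))
  haveI hflat : ∀ X : Over (Spec (CommRingCat.of k)), Flat X.hom := fun X => inferInstance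
  -- the square of `f'` is scheme-theoretically dominant
  have hstd2 : IsSchemeTheoreticallyDominant (f' ⊗ₘ f').left := by
    have h1 : IsPullback (fst H H).left (f' ▷ H).left f'.left (fst H' H).left :=
      ((Groth.Agent.H1.GrpImg.isPullback_whiskerRight f' H).map (Over.forget _)).flip
    have h2 : IsPullback (snd H' H).left (H' ◁ f').left f'.left (snd H' H').left :=
      ((Groth.Agent.H1.GrpImg.isPullback_whiskerLeft H' f').map (Over.forget _)).flip
    haveI : Flat (fst H' H).left := by rw [Over.fst_left]; infer_instance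
    haveI : Flat (snd H' H').left := by rw [Over.snd_left]; infer_instance
    haveI s1 : IsSchemeTheoreticallyDominant (f' ▷ H).left :=
      IsSchemeTheoreticallyDominant.of_isPullback h1
    haveI s2 : IsSchemeTheoreticallyDominant (H' ◁ f').left :=
      IsSchemeTheoreticallyDominant.of_isPullback h2
    rw [MonoidalCategory.tensorHom_def, Over.comp_left]
    infer_instance
  -- multiplication
  obtain ⟨m, hm⟩ : ∃ m : H' ⊗ H' ⟶ H', m ≫ i = (i ⊗ₘ i) ≫ μ[G] := by
    haveI := hstd2
    have hc : (μ[H] ≫ f').left ≫ i.left = (f' ⊗ₘ f').left ≫ ((i ⊗ₘ i) ≫ μ[G]).left := by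
      rw [← Over.comp_left, ← Over.comp_left]
      congr 1
      rw [Category.assoc, hfi, tensorHom_comp_tensorHom_assoc, hfi, IsMonHom.mul_hom]
    obtain ⟨d, hd⟩ := Groth.Agent.H9.StdExt.exists_factor i.left ((i ⊗ₘ i) ≫ μ[G]).left
      (f' ⊗ₘ f').left (μ[H] ≫ f').left hc
    refine ⟨Over.homMk d ?_, Over.OverMorphism.ext hd⟩
    rw [← Over.w i, ← Category.assoc, hd]
    exact Over.w _
  -- inverse
  obtain ⟨iv, hiv⟩ : ∃ iv : H' ⟶ H', iv ≫ i = i ≫ ι[G] := by
    have hc : (ι[H] ≫ f').left ≫ i.left = f'.left ≫ (i ≫ ι[G]).left := by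
      rw [← Over.comp_left, ← Over.comp_left]
      congr 1
      rw [Category.assoc, hfi, GrpObj.inv_hom, ← Category.assoc, hfi]
    obtain ⟨d, hd⟩ := Groth.Agent.H9.StdExt.exists_factor i.left (i ≫ ι[G]).left f'.left
      (ι[H] ≫ f').left hc
    have hw : d ≫ H'.hom = H'.hom := by
      have h1 : d ≫ i.left ≫ G.hom = H'.hom := by
        rw [← Category.assoc, hd]
        exact Over.w _
      rwa [Over.w i] at h1
    exact ⟨Over.homMk d hw, Over.OverMorphism.ext hd⟩
  have he : (η[H] ≫ f') ≫ i = η[G] := by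
    rw [Category.assoc, hfi, IsMonHom.one_hom]
  letI grpH' : GrpObj H' := Groth.Agent.H9.GZD.grpObjOfMono i (η[H] ≫ f') m iv he hm hiv
  have himon : IsMonHom i := Groth.Agent.H9.GZD.isMonHom_ofMono i (η[H] ≫ f') m iv he hm hiv
  have hf'mon : IsMonHom f' := by
    constructor
    · rfl
    · rw [← cancel_mono i, Category.assoc, Category.assoc, IsMonHom.mul_hom (f := i),
        tensorHom_comp_tensorHom_assoc, hfi]
      exact IsMonHom.mul_hom f
  have hdr : DenseRange f'.left.base := f'.left.denseRange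
  obtain ⟨hsurj, -⟩ := Groth.Agent.H9.FLH.S5355_main H H' f' hdr
  exact ⟨H', grpH', i, f', himon, hf'mon, hfi, hi, hker, hqc, hsurj⟩

end Groth.Agent.H1.GrpImgE
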