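import Mathlib
import Groth.Agent.Lib.Helper1.GrpImgE
import Groth.Agent.Lib.Helper1.SmoothGeom
import Groth.Agent.Lib.Helper9.Misc.GZB2

/-! Helper1: the schematic image of a "pseudo-homomorphism" to a group scheme over a field is a
closed subgroup scheme; application to the product `A · B` of two smooth subgroups with `B`
normalizing `A` (S5362). -/

set_option autoImplicit false
set_option linter.style.haveILetI false
set_option linter.unusedSectionVars false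
set_option linter.unusedVariables false
universe u

namespace Groth.Agent.H1.GrpImgF

open CategoryTheory CategoryTheory.Limits MonoidalCategory CartesianMonoidalCategory MonObj GrpObj
  AlgebraicGeometry

/-- Let `f : H ⟶ G` be a quasi-compact morphism from a `k`-scheme to a `k`-group scheme which is
compatible with a "unit", "multiplication" and "inverse" on `H` (no axioms required). Then the
schematic image of `f` is a closed subgroup scheme of `G` and `H` surjects onto it. -/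
theorem image_of_pseudoHom (k : Type u) [Field k] (H G : Over (Spec (CommRingCat.of k)))
    [GrpObj G] (f : H ⟶ G) [QuasiCompact f.left]
    (e₀ : 𝟙_ (Over (Spec (CommRingCat.of k))) ⟶ H) (he₀ : e₀ ≫ f = η[G])
    (φ : H ⊗ H ⟶ H) (hφ : φ ≫ f = (f ⊗ₘ f) ≫ μ[G])
    (ν : H ⟶ H) (hν : ν ≫ f = f ≫ ι[G]) :
    ∃ (H' : Over (Spec (CommRingCat.of k))) (_ : GrpObj H') (i : H' ⟶ G) (f' : H ⟶ H'),
      IsMonHom i ∧ f' ≫ i = f ∧ IsClosedImmersion i.left ∧
      IsSchemeTheoreticallyDominant f'.left ∧ QuasiCompact f'.left ∧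
      Function.Surjective f'.left.base := by
  obtain ⟨H', i, f', hi, hf', hfi⟩ : ∃ (H' : Over (Spec (CommRingCat.of k))) (i : H' ⟶ G)
      (f' : H ⟶ H'), IsClosedImmersion i.left ∧
      (f'.left.ker = ⊥ ∧ QuasiCompact f'.left ∧ IsDominant f'.left) ∧ f' ≫ i = f := by
    refine ⟨Over.mk (f.left.imageι ≫ G.hom), Over.homMk f.left.imageι rfl,
      Over.homMk f.left.toImage ?_, ?_, ⟨?_, ?_, ?_⟩, ?_⟩
    · show f.left.toImage ≫ f.left.imageι ≫ G.hom = H.hom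
      rw [← Category.assoc, f.left.toImage_imageι, Over.w f]
    · show IsClosedImmersion f.left.imageι
      infer_instance
    · exact Groth.Agent.H9.SchClos.ker_toImage_eq_bot f.left
    · show QuasiCompact f.left.toImage
      infer_instance
    · show IsDominant f.left.toImage
      infer_instance
    · exact Over.OverMorphism.ext f.left.toImage_imageι
  haveI := hi
  obtain ⟨hker, hqc, hdom⟩ := hf'
  haveI := hqc
  haveI := hdom
  haveI hstd : IsSchemeTheoreticallyDominant f'.left := ⟨hker⟩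
  haveI : Mono i.left := inferInstance
  haveI : Mono i := (Over.forget _).mono_of_mono_map (inferInstanceAs (Mono i.left))
  haveI : Subsingleton ↥(Spec (CommRingCat.of k)) :=
    inferInstanceAs (Subsingleton (PrimeSpectrum k))
  haveI hflat : ∀ X : Over (Spec (CommRingCat.of k)), Flat X.hom := fun X => inferInstance
  -- the square of `f'` is scheme-theoretically dominant
  have hstd2 : IsSchemeTheoreticallyDominant (f' ⊗ₘ f').left := by
    have h1 : IsPullback (fst H H).left (f' ▷ H).left f'.left (fst H' H).left :=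
      ((Groth.Agent.H1.GrpImg.isPullback_whiskerRight f' H).map (Over.forget _)).flip
    have h2 : IsPullback (snd H' H).left (H' ◁ f').left f'.left (snd H' H').left :=
      ((Groth.Agent.H1.GrpImg.isPullback_whiskerLeft H' f').map (Over.forget _)).flip
    haveI : Flat (fst H' H).left := by rw [Over.fst_left]; infer_instance
    haveI : Flat (snd H' H').left := by rw [Over.snd_left]; infer_instance
    haveI s1 : IsSchemeTheoreticallyDominant (f' ▷ H).left :=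
      IsSchemeTheoreticallyDominant.of_isPullback h1
    haveI s2 : IsSchemeTheoreticallyDominant (H' ◁ f').left :=
      IsSchemeTheoreticallyDominant.of_isPullback h2
    rw [MonoidalCategory.tensorHom_def, Over.comp_left]
    infer_instance
  -- multiplication
  obtain ⟨m, hm⟩ : ∃ m : H' ⊗ H' ⟶ H', m ≫ i = (i ⊗ₘ i) ≫ μ[G] := by
    haveI := hstd2
    have hc : (φ ≫ f').left ≫ i.left = (f' ⊗ₘ f').left ≫ ((i ⊗ₘ i) ≫ μ[G]).left := by
      rw [← Over.comp_left, ← Over.comp_left]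
      congr 1
      rw [Category.assoc, hfi, tensorHom_comp_tensorHom_assoc, hfi, hφ]
    obtain ⟨d, hd⟩ := Groth.Agent.H9.StdExt.exists_factor i.left ((i ⊗ₘ i) ≫ μ[G]).left
      (f' ⊗ₘ f').left (φ ≫ f').left hc
    refine ⟨Over.homMk d ?_, Over.OverMorphism.ext hd⟩
    rw [← Over.w i, ← Category.assoc, hd]
    exact Over.w _
  -- inverse
  obtain ⟨iv, hiv⟩ : ∃ iv : H' ⟶ H', iv ≫ i = i ≫ ι[G] := by
    have hc : (ν ≫ f').left ≫ i.left = f'.left ≫ (i ≫ ι[G]).left := by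
      rw [← Over.comp_left, ← Over.comp_left]
      congr 1
      rw [Category.assoc, hfi, hν, ← Category.assoc, hfi]
    obtain ⟨d, hd⟩ := Groth.Agent.H9.StdExt.exists_factor i.left (i ≫ ι[G]).left f'.left
      (ν ≫ f').left hc
    have hw : d ≫ H'.hom = H'.hom := by
      have h1 : d ≫ i.left ≫ G.hom = H'.hom := by
        rw [← Category.assoc, hd]
        exact Over.w _
      rwa [Over.w i] at h1
    exact ⟨Over.homMk d hw, Over.OverMorphism.ext hd⟩
  have he : (e₀ ≫ f') ≫ i = η[G] := by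
    rw [Category.assoc, hfi, he₀]
  letI grpH' : GrpObj H' := Groth.Agent.H9.GZD.grpObjOfMono i (e₀ ≫ f') m iv he hm hiv
  have himon : IsMonHom i := Groth.Agent.H9.GZD.isMonHom_ofMono i (e₀ ≫ f') m iv he hm hiv
  have hφ' : φ ≫ f' = (f' ⊗ₘ f') ≫ μ[H'] := by
    rw [← cancel_mono i, Category.assoc, Category.assoc, IsMonHom.mul_hom (f := i),
      tensorHom_comp_tensorHom_assoc, hfi]
    exact hφ
  have hdr : DenseRange f'.left.base := f'.left.denseRange
  have hsurj : Function.Surjective f'.left.base := by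
    intro h
    obtain ⟨z, hz, hz1, hz2⟩ := Groth.Agent.H9.GSD.S5354_main H' h
    rw [Groth.Agent.H9.GSD.isMaxPt_iff] at hz1 hz2
    obtain ⟨a, ha⟩ := Groth.Agent.H9.FLH.mem_range_of_isMaxPt f'.left hdr _ hz1
    obtain ⟨b, hb⟩ := Groth.Agent.H9.FLH.mem_range_of_isMaxPt f'.left hdr _ hz2
    have hzr : z ∈ Set.range (f' ⊗ₘ f').left := by
      rw [Over.tensorHom_left, Scheme.Pullback.range_map]
      exact ⟨⟨a, ha⟩, ⟨b, hb⟩⟩
    obtain ⟨w, hw⟩ := hzr
    refine ⟨φ.left w, ?_⟩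
    rw [← Scheme.Hom.comp_apply, ← Over.comp_left, hφ', Over.comp_left,
      Scheme.Hom.comp_apply, hw]
    exact hz
  exact ⟨H', grpH', i, f', himon, hfi, hi, hstd, hqc, hsurj⟩

section Abstract

universe v₁ u₁

variable {C : Type u₁} [Category.{v₁} C] [CartesianMonoidalCategory C] {G A B : C}
  [GrpObj G] [GrpObj A] [GrpObj B] (a : A ⟶ G) (b : B ⟶ G)

/-- the product map `(x, y) ↦ a(x) b(y)`. -/
def mm : A ⊗ B ⟶ G := (a ⊗ₘ b) ≫ μ[G]

lemma tensor_mul {X Y : C} (p : X ⟶ G) (q : Y ⟶ G) :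
    (p ⊗ₘ q) ≫ μ[G] = (fst X Y ≫ p) * (snd X Y ≫ q) := by
  rw [Hom.mul_def, lift_fst_comp_snd_comp]

lemma mm_eq : mm a b = (fst A B ≫ a) * (snd A B ≫ b) := tensor_mul a b

lemma comp_mm {T : C} (t : T ⟶ A ⊗ B) :
    t ≫ mm a b = (t ≫ fst A B ≫ a) * (t ≫ snd A B ≫ b) := by
  rw [mm_eq, MonObj.comp_mul]

lemma lift_mm {T : C} (x : T ⟶ A) (y : T ⟶ B) : lift x y ≫ mm a b = (x ≫ a) * (y ≫ b) := by
  rw [comp_mm, lift_fst_assoc, lift_snd_assoc]

lemma grp_id1 {Γ : Type*} [Group Γ] (p q r s : Γ) :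
    p * (q * r * q⁻¹) * (q * s) = (p * q) * (r * s) := by group

lemma grp_id2 {Γ : Type*} [Group Γ] (p q : Γ) : (q⁻¹ * p⁻¹ * q⁻¹⁻¹) * q⁻¹ = (p * q)⁻¹ := by group

lemma exists_phi [IsMonHom a] [IsMonHom b]
    (hN : ∀ (T : C) (y : T ⟶ B) (x : T ⟶ A), ∃ x' : T ⟶ A,
      (y ≫ b) * (x ≫ a) * (y ≫ b)⁻¹ = x' ≫ a) :
    ∃ φ : (A ⊗ B) ⊗ (A ⊗ B) ⟶ A ⊗ B, φ ≫ mm a b = (mm a b ⊗ₘ mm a b) ≫ μ[G] := by
  obtain ⟨x'', hx''⟩ := hN ((A ⊗ B) ⊗ (A ⊗ B)) (fst (A ⊗ B) (A ⊗ B) ≫ snd A B)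
    (snd (A ⊗ B) (A ⊗ B) ≫ fst A B)
  refine ⟨lift ((fst (A ⊗ B) (A ⊗ B) ≫ fst A B) * x'')
    ((fst (A ⊗ B) (A ⊗ B) ≫ snd A B) * (snd (A ⊗ B) (A ⊗ B) ≫ snd A B)), ?_⟩
  rw [lift_mm, tensor_mul, comp_mm, comp_mm, MonObj.mul_comp, MonObj.mul_comp, ← hx'']
  simp only [Category.assoc]
  exact grp_id1 _ _ _ _

lemma exists_nu [IsMonHom a] [IsMonHom b]
    (hN : ∀ (T : C) (y : T ⟶ B) (x : T ⟶ A), ∃ x' : T ⟶ A,
      (y ≫ b) * (x ≫ a) * (y ≫ b)⁻¹ = x' ≫ a) :
    ∃ ν : A ⊗ B ⟶ A ⊗ B, ν ≫ mm a b = mm a b ≫ ι[G] := by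
  obtain ⟨x'', hx''⟩ := hN (A ⊗ B) (snd A B)⁻¹ (fst A B)⁻¹
  refine ⟨lift x'' (snd A B)⁻¹, ?_⟩
  rw [lift_mm, ← hx'', ← Hom.inv_def, mm_eq, GrpObj.inv_comp, GrpObj.inv_comp]
  exact grp_id2 _ _

lemma unit_mm [IsMonHom a] [IsMonHom b] : lift η[A] η[B] ≫ mm a b = η[G] := by
  have h1 : (1 : 𝟙_ C ⟶ G) = η[G] := by
    rw [Hom.one_def, toUnit_unique (toUnit (𝟙_ C)) (𝟙 _), Category.id_comp]
  rw [lift_mm, IsMonHom.one_hom, IsMonHom.one_hom, ← h1, _root_.mul_one]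

lemma a_factor [IsMonHom b] : lift (𝟙 A) (toUnit A ≫ η[B]) ≫ mm a b = a := by
  rw [lift_mm, Category.id_comp, Category.assoc, IsMonHom.one_hom, ← Hom.one_def,
    _root_.mul_one]

lemma b_factor [IsMonHom a] : lift (toUnit B ≫ η[A]) (𝟙 B) ≫ mm a b = b := by
  rw [lift_mm, Category.id_comp, Category.assoc, IsMonHom.one_hom, ← Hom.one_def,
    _root_.one_mul]

lemma mm_factor {Γ : C} [GrpObj Γ] (i : Γ ⟶ G) [IsMonHom i] (a' : A ⟶ Γ) (b' : B ⟶ Γ)
    (ha : a' ≫ i = a) (hb : b' ≫ i = b) : ((a' ⊗ₘ b') ≫ μ[Γ]) ≫ i = mm a b := by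
  rw [Category.assoc, IsMonHom.mul_hom, tensorHom_comp_tensorHom_assoc, ha, hb]
  rfl

end Abstract

theorem s5362 (k : Type u) [Field k] (G A B : Over (Spec (CommRingCat.of k))) [GrpObj G]
    [GrpObj A] [GrpObj B] (a : A ⟶ G) [IsMonHom a] (b : B ⟶ G) [IsMonHom b]
    [Smooth A.hom] [QuasiCompact A.hom] [Smooth B.hom] [QuasiCompact B.hom]
    (hN : ∀ (T : Over (Spec (CommRingCat.of k))) (y : T ⟶ B) (x : T ⟶ A), ∃ x' : T ⟶ A,
      (y ≫ b) * (x ≫ a) * (y ≫ b)⁻¹ = x' ≫ a)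
    (Γ : Over (Spec (CommRingCat.of k))) [GrpObj Γ] (i : Γ ⟶ G) [IsMonHom i]
    [IsClosedImmersion i.left]
    (ha : ∃ a' : A ⟶ Γ, a' ≫ i = a) (hb : ∃ b' : B ⟶ Γ, b' ≫ i = b)
    (hmin : ∀ (Γ' : Over (Spec (CommRingCat.of k))) (_ : GrpObj Γ') (i' : Γ' ⟶ G), IsMonHom i' →
        IsClosedImmersion i'.left →
        (∃ a'' : A ⟶ Γ', a'' ≫ i' = a) → (∃ b'' : B ⟶ Γ', b'' ≫ i' = b) →
        ∃ j : Γ ⟶ Γ', j ≫ i' = i) :
    IsReduced Γ.left ∧
      Set.range i.left.base = Set.range ((a ⊗ₘ b) ≫ μ[G]).left.base := by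
  obtain ⟨a', ha'⟩ := ha
  obtain ⟨b', hb'⟩ := hb
  haveI hsep : IsSeparated G.hom := Groth.Agent.H9.GZB.isSeparated_hom G
  haveI hqcAB : QuasiCompact (A ⊗ B).hom := by rw [Over.tensorObj_hom]; infer_instance
  haveI hsmAB : Smooth (A ⊗ B).hom := by rw [Over.tensorObj_hom]; infer_instance
  haveI hredAB : IsReduced (A ⊗ B).left :=
    Groth.Agent.H1.SmoothGeom.isReduced_of_smooth_field k (A ⊗ B).hom
  haveI hqcm : QuasiCompact (mm a b).left := by
    haveI : QuasiCompact ((mm a b).left ≫ G.hom) := by rw [Over.w (mm a b)]; exact hqcAB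
    exact QuasiCompact.of_comp (mm a b).left G.hom
  obtain ⟨φ, hφ⟩ := exists_phi a b hN
  obtain ⟨ν, hν⟩ := exists_nu a b hN
  obtain ⟨H', grpH', i', m', hi'mon, hm'i', hi'cl, hstd, hqc', hsurj⟩ :=
    image_of_pseudoHom k (A ⊗ B) G (mm a b) (lift η[A] η[B]) (unit_mm a b) φ hφ ν hν
  haveI := hi'mon
  haveI := hi'cl
  haveI := hstd
  haveI := hqc'
  haveI hredH' : IsReduced H'.left := IsSchemeTheoreticallyDominant.isReduced m'.left
  obtain ⟨j, hj⟩ := hmin H' grpH' i' hi'mon hi'cl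
    ⟨lift (𝟙 A) (toUnit A ≫ η[B]) ≫ m', by rw [Category.assoc, hm'i', a_factor]⟩
    ⟨lift (toUnit B ≫ η[A]) (𝟙 B) ≫ m', by rw [Category.assoc, hm'i', b_factor]⟩
  have hfac : ((a' ⊗ₘ b') ≫ μ[Γ]) ≫ i = mm a b := mm_factor a b i a' b' ha' hb'
  obtain ⟨d, hd⟩ := Groth.Agent.H9.StdExt.exists_factor i.left i'.left m'.left
    ((a' ⊗ₘ b') ≫ μ[Γ]).left (by rw [← Over.comp_left, ← Over.comp_left, hfac, hm'i'])
  haveI : Mono i.left := inferInstance
  haveI : Mono i'.left := inferInstance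
  have hjd : j.left ≫ d = 𝟙 _ := by
    rw [← cancel_mono i.left, Category.assoc, hd, ← Over.comp_left, hj, Category.id_comp]
  have hdj : d ≫ j.left = 𝟙 _ := by
    rw [← cancel_mono i'.left, Category.assoc, ← Over.comp_left, hj, hd, Category.id_comp]
  haveI : IsIso j.left := ⟨d, hjd, hdj⟩
  refine ⟨isReduced_of_isOpenImmersion j.left, ?_⟩
  show Set.range i.left.base = Set.range (mm a b).left.base
  apply le_antisymm
  · rintro _ ⟨z, rfl⟩
    obtain ⟨w, hw⟩ := hsurj (j.left.base z)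
    refine ⟨w, ?_⟩
    rw [← hm'i', ← hj, Over.comp_left, Over.comp_left, Scheme.Hom.comp_apply,
      Scheme.Hom.comp_apply, hw]
  · rintro _ ⟨w, rfl⟩
    refine ⟨((a' ⊗ₘ b') ≫ μ[Γ]).left.base w, ?_⟩
    rw [← Scheme.Hom.comp_apply, ← Over.comp_left, hfac]

end Groth.Agent.H1.GrpImgF
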