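import Mathlib
import Groth.Prelude.Def_AlgGrp
import Groth.Agent.Lib.Helper9.Misc.GZB2
import Groth.Agent.Lib.Helper1.DVRUnif
import Groth.Agent.Lib.Helper1.SmoothGeom

/-! Helper1: an automorphism of a smooth connected algebraic group which fixes an affine normal
subgroup with proper quotient and induces the identity on the quotient is the identity (S17833). -/

set_option autoImplicit false
set_option linter.style.haveILetI false
set_option linter.unusedSectionVars false
universe u
open CategoryTheory CategoryTheory.Limits AlgebraicGeometry MonoidalCategory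
  CartesianMonoidalCategory MonObj GrpObj

namespace Groth.Agent.H1.GrpRigid

/-- global functions on an integral universally closed scheme over an algebraically closed field
are constants. -/
theorem appTop_surjective (k : Type u) [Field k] [IsAlgClosed k] {X : Scheme.{u}}
    (f : X ⟶ Spec (CommRingCat.of k)) [IsIntegral X] [UniversallyClosed f] :
    Function.Surjective f.appTop.hom := by
  let F := (Scheme.ΓSpecIso (CommRingCat.of k)).inv ≫ f.appTop
  have hF : F.hom.IsIntegral := by
    apply RingHom.isIntegral_respectsIso.2 (e := (Scheme.ΓSpecIso _).symm.commRingCatIsoToRingEquiv)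
    exact isIntegral_appTop_of_universallyClosed f
  let F' : k →+* Γ(X, ⊤) := F.hom
  have hb : Function.Bijective F' := IsAlgClosed.ringHom_bijective_of_isIntegral F' hF
  intro y
  obtain ⟨c, hc⟩ := hb.2 y
  exact ⟨(Scheme.ΓSpecIso (CommRingCat.of k)).inv.hom c, hc⟩

theorem s17833 (k : Type u) [Field k] [IsAlgClosed k]
    (G H Q : Over (Spec (CommRingCat.of k))) [GrpObj G] [GrpObj H] [GrpObj Q]
    [Smooth G.hom] [QuasiCompact G.hom] [ConnectedSpace ↥G.left]
    [IsAffine H.left] [IsProper Q.hom]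
    (j : H ⟶ G) [IsMonHom j] (q : G ⟶ Q) [IsMonHom q] [Flat q.left] [Surjective q.left]
    (hker : AlgGrp.IsKernel j q)
    (u : G ≅ G) [IsMonHom u.hom] (hH : j ≫ u.hom = j) (hQ : u.hom ≫ q = q) :
    u.hom = 𝟙 G := by
  have hker' : IsPullback j (toUnit H) q η[Q] := hker
  -- the scheme Q is integral
  haveI : IsReduced G.left := Groth.Agent.H1.SmoothGeom.isReduced_of_smooth_field k G.hom
  haveI : IsReduced Q.left :=
    Groth.Agent.H1.DVRUnif.isReduced_of_flat_surjective q.left q.left.surjective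
  haveI : ConnectedSpace ↥Q.left :=
    Function.Surjective.connectedSpace q.left.surjective q.left.continuous
  haveI : IrreducibleSpace ↥Q.left := Groth.Agent.H9.GZB.S0348_main Q
  haveI : IsIntegral Q.left := isIntegral_of_irreducibleSpace_of_isReduced Q.left
  have hsurj := appTop_surjective k Q.hom
  -- q is an effective epimorphism
  haveI : CompactSpace ↥G.left := QuasiCompact.compactSpace_of_compactSpace G.hom
  haveI : QuasiSeparatedSpace ↥Q.left := quasiSeparatedSpace_of_quasiSeparated Q.hom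
  haveI : QuasiCompact q.left := inferInstance
  haveI : EffectiveEpi q.left := inferInstance
  -- the morphism φ = u · id⁻¹
  set φ : G ⟶ G := u.hom * (𝟙 G)⁻¹ with hφ
  have hφa : ∀ {T : Over (Spec (CommRingCat.of k))} (a : T ⟶ G),
      a ≫ φ = (a ≫ u.hom) * a⁻¹ := by
    intro T a
    rw [hφ, MonObj.comp_mul, GrpObj.comp_inv, Category.comp_id]
  have hφq : φ ≫ q = 1 := by
    rw [hφ, MonObj.mul_comp, GrpObj.inv_comp, hQ, Category.id_comp, mul_inv_cancel]
  obtain ⟨φ', hφ'⟩ : ∃ φ' : G ⟶ H, φ' ≫ j = φ :=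
    ⟨hker'.lift φ (toUnit G) (by rw [hφq]; rfl), hker'.lift_fst _ _ _⟩
  -- φ' is constant on the fibres of q
  have hdesc : ∀ {Z : Scheme.{u}} (g₁ g₂ : Z ⟶ G.left), g₁ ≫ q.left = g₂ ≫ q.left →
      g₁ ≫ φ'.left = g₂ ≫ φ'.left := by
    intro Z g₁ g₂ hg
    have hw : g₂ ≫ G.hom = g₁ ≫ G.hom := by
      rw [← Over.w q, ← Category.assoc, ← hg, Category.assoc]
    let T : Over (Spec (CommRingCat.of k)) := Over.mk (g₁ ≫ G.hom)
    let a₁ : T ⟶ G := Over.homMk g₁ rfl
    let a₂ : T ⟶ G := Over.homMk g₂ hw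
    have ha : a₁ ≫ q = a₂ ≫ q := Over.OverMorphism.ext hg
    have hc : (a₂⁻¹ * a₁) ≫ q = 1 := by
      rw [MonObj.mul_comp, GrpObj.inv_comp, ha, inv_mul_cancel]
    obtain ⟨h, hh⟩ : ∃ h : T ⟶ H, h ≫ j = a₂⁻¹ * a₁ :=
      ⟨hker'.lift (a₂⁻¹ * a₁) (toUnit T) (by rw [hc]; rfl), hker'.lift_fst _ _ _⟩
    have ha₁ : a₁ = a₂ * (h ≫ j) := by rw [hh, mul_inv_cancel_left]
    have hu : (h ≫ j) ≫ u.hom = h ≫ j := by rw [Category.assoc, hH]
    have key : a₁ ≫ φ = a₂ ≫ φ := by
      rw [hφa, hφa, ha₁, MonObj.mul_comp, hu]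
      group
    have key' : a₁ ≫ φ' = a₂ ≫ φ' := by
      apply hker'.hom_ext
      · rw [Category.assoc, Category.assoc, hφ', key]
      · exact toUnit_unique _ _
    have := congrArg (fun t => t.left) key'
    simpa [a₁, a₂] using this
  let ψ : Q.left ⟶ H.left := EffectiveEpi.desc q.left φ'.left hdesc
  have hψ : q.left ≫ ψ = φ'.left := EffectiveEpi.fac q.left φ'.left hdesc
  -- ψ is constant
  have hη : η[Q].left ≫ Q.hom = 𝟙 _ := by
    have := Over.w η[Q]
    simpa using this
  have hs : ∀ y : Γ(Q.left, ⊤), Q.hom.appTop.hom (η[Q].left.appTop.hom y) = y := by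
    intro y
    obtain ⟨z, rfl⟩ := hsurj y
    have h2 : Q.hom.appTop ≫ η[Q].left.appTop = 𝟙 _ := by
      rw [← Scheme.Hom.comp_appTop, hη]
      rfl
    have h3 : η[Q].left.appTop.hom (Q.hom.appTop.hom z) = z := by
      have := congrArg (fun t => t.hom z) h2
      simpa using this
    rw [h3]
  have hψc : ψ = Q.hom ≫ η[Q].left ≫ ψ := by
    apply ext_of_isAffine
    ext x
    have := hs (ψ.appTop.hom x)
    simp only [Scheme.Hom.comp_appTop, CommRingCat.hom_comp, RingHom.comp_apply]
    exact this.symm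
  -- hence φ is constant
  have hφl : φ.left = G.hom ≫ (η[Q].left ≫ ψ ≫ j.left) := by
    calc φ.left = φ'.left ≫ j.left := by rw [← hφ', Over.comp_left]
      _ = (q.left ≫ ψ) ≫ j.left := by rw [hψ]
      _ = (q.left ≫ (Q.hom ≫ η[Q].left ≫ ψ)) ≫ j.left := by rw [← hψc]
      _ = (q.left ≫ Q.hom) ≫ (η[Q].left ≫ ψ ≫ j.left) := by simp only [Category.assoc]
      _ = G.hom ≫ (η[Q].left ≫ ψ ≫ j.left) := by rw [Over.w q]
  -- evaluate at the unit section
  have hone : η[G] ≫ φ = η[G] := by
    rw [hφa, IsMonHom.one_hom]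
    have e1 : η[G] = (1 : 𝟙_ (Over (Spec (CommRingCat.of k))) ⟶ G) := by
      rw [Hom.one_def, toUnit_unique (toUnit (𝟙_ _)) (𝟙 _), Category.id_comp]
    rw [e1, inv_one, _root_.mul_one]
  have hηG : η[G].left ≫ G.hom = 𝟙 _ := by
    have := Over.w η[G]
    simpa using this
  have hc₀ : η[Q].left ≫ ψ ≫ j.left = η[G].left := by
    have := congrArg (fun t => t.left) hone
    simp only [Over.comp_left] at this
    rw [hφl, ← Category.assoc, hηG, Category.id_comp] at this
    exact this
  have hφ1 : φ = 1 := by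
    apply Over.OverMorphism.ext
    rw [hφl, hc₀, Hom.one_def, Over.comp_left]
    congr 1
  have : u.hom * (𝟙 G)⁻¹ = 1 := hφ1
  exact mul_inv_eq_one.mp this

end Groth.Agent.H1.GrpRigid
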