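import Mathlib
import Groth.Prelude.Def_AGF
import Groth.Prelude.Def_W4bk4grossh111Obs
import Groth.Agent.Lib.Helper1.GrpRigid
import Groth.Agent.Lib.Helper1.ArtProd

/-! Helper1: functions on `G` invariant under `H₁ ⊆ H₂` with `H₂/H₁` proper and irreducible are
invariant under `H₂` (S11198).  Tools: fpqc descent of global functions, flat base change of
global sections, `O(X) = k` for proper integral `X` over an algebraically closed field. -/

set_option autoImplicit false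
set_option linter.style.haveILetI false
set_option linter.unusedSectionVars false
universe u
open CategoryTheory CategoryTheory.Limits AlgebraicGeometry MonoidalCategory
  CartesianMonoidalCategory MonObj GrpObj

namespace Groth.Agent.H1.GrpInvF

/-- descent of global functions along an effective epimorphism of schemes -/
theorem exists_desc_fun {W Z : Scheme.{u}} (π : W ⟶ Z) [EffectiveEpi π] (F : Γ(W, ⊤))
    (h : ∀ {T : Scheme.{u}} (g₁ g₂ : T ⟶ W), g₁ ≫ π = g₂ ≫ π →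
      g₁.appTop.hom F = g₂.appTop.hom F) :
    ∃ F' : Γ(Z, ⊤), π.appTop.hom F' = F := by
  let φ : W ⟶ _ :=
    (AlgebraicGeometry.AffineSpace.toSpecMvPolyIntEquiv PUnit.{u+1}).symm (fun _ => F)
  have hφ0 : AlgebraicGeometry.AffineSpace.toSpecMvPolyIntEquiv PUnit.{u+1} φ = fun _ => F :=
    Equiv.apply_symm_apply _ _
  have hφ : ∀ {T : Scheme.{u}} (g₁ g₂ : T ⟶ W), g₁ ≫ π = g₂ ≫ π → g₁ ≫ φ = g₂ ≫ φ := by
    intro T g₁ g₂ hg
    apply (AlgebraicGeometry.AffineSpace.toSpecMvPolyIntEquiv PUnit.{u+1}).injective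
    funext i
    rw [AlgebraicGeometry.AffineSpace.toSpecMvPolyIntEquiv_comp,
      AlgebraicGeometry.AffineSpace.toSpecMvPolyIntEquiv_comp, hφ0]
    exact h g₁ g₂ hg
  refine ⟨AlgebraicGeometry.AffineSpace.toSpecMvPolyIntEquiv PUnit.{u+1}
    (EffectiveEpi.desc π φ hφ) PUnit.unit, ?_⟩
  have := AlgebraicGeometry.AffineSpace.toSpecMvPolyIntEquiv_comp PUnit.{u+1} π
    (EffectiveEpi.desc π φ hφ) PUnit.unit
  rw [EffectiveEpi.fac, hφ0] at this
  exact this.symm

/-- global functions on an integral universally closed scheme over an algebraically closed field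
are exactly the constants. -/
theorem appTop_bijective (k : Type u) [Field k] [IsAlgClosed k] {X : Scheme.{u}}
    (f : X ⟶ Spec (CommRingCat.of k)) [IsIntegral X] [UniversallyClosed f] :
    Function.Bijective f.appTop.hom := by
  let F := (Scheme.ΓSpecIso (CommRingCat.of k)).inv ≫ f.appTop
  have hF : F.hom.IsIntegral := by
    apply RingHom.isIntegral_respectsIso.2 (e := (Scheme.ΓSpecIso _).symm.commRingCatIsoToRingEquiv)
    exact isIntegral_appTop_of_universallyClosed f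
  let F' : k →+* Γ(X, ⊤) := F.hom
  have hb : Function.Bijective F' := IsAlgClosed.ringHom_bijective_of_isIntegral F' hF
  have he : Function.Bijective (Scheme.ΓSpecIso (CommRingCat.of k)).hom.hom :=
    ConcreteCategory.bijective_of_isIso _
  have : (f.appTop.hom : _ → _) = F' ∘ (Scheme.ΓSpecIso (CommRingCat.of k)).hom.hom := by
    funext x
    simp [F', F]
  rw [this]
  exact hb.comp he

section

variable {K : Scheme.{u}}

/-- flat base change for global sections: if `O(X) = O(K)` then `O(G × X) = O(G)`. -/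
theorem fst_appTop_isIso [IsAffine K] (G X : Over K) [IsAffine G.left] [Flat G.hom]
    [CompactSpace ↥X.left] [QuasiSeparatedSpace ↥X.left] [IsIso X.hom.appTop] :
    IsIso (fst G X).left.appTop := by
  have H : IsPullback (snd G X).left (fst G X).left X.hom G.hom :=
    (IsPullback.of_hasPullback G.hom X.hom).flip
  have hUST : (⊤ : G.left.Opens) ≤ G.hom ⁻¹ᵁ (⊤ : K.Opens) := le_of_eq rfl
  have hUSX : (⊤ : X.left.Opens) ≤ X.hom ⁻¹ᵁ (⊤ : K.Opens) := le_of_eq rfl
  have hUY : (⊤ : (G ⊗ X).left.Opens) = (snd G X).left ⁻¹ᵁ ⊤ ⊓ (fst G X).left ⁻¹ᵁ ⊤ := by simp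
  have h1 := isIso_pushoutSection_of_isQuasiSeparated_of_flat_right H hUST hUSX hUY
      (isAffineOpen_top K) (isAffineOpen_top G.left)
      (by simpa using isCompact_univ) (by simpa using isQuasiSeparated_univ)
  have h2 := (isIso_pushoutSection_iff H hUST hUSX hUY).mp h1
  have e1 : X.hom.appLE ⊤ ⊤ hUSX = X.hom.appTop := by
    simp [Scheme.Hom.appLE]
  haveI : IsIso (X.hom.appLE ⊤ ⊤ hUSX) := by rw [e1]; infer_instance
  have h3 := h2.isIso_inr_of_isIso
  have e2 : ∀ e, (fst G X).left.appLE ⊤ ⊤ e = (fst G X).left.appTop := by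
    intro e
    simp [Scheme.Hom.appLE]
  rwa [e2] at h3

/-- pullback of global functions along a morphism of `K`-schemes -/
noncomputable def pb {A B : Over K} (α : A ⟶ B) (f : Γ(B.left, ⊤)) : Γ(A.left, ⊤) :=
  α.left.appTop.hom f

theorem pb_comp {A B D : Over K} (α : A ⟶ B) (β : B ⟶ D) (f : Γ(D.left, ⊤)) :
    pb (α ≫ β) f = pb α (pb β f) := by
  unfold pb
  rw [Over.comp_left, Scheme.Hom.comp_appTop]
  rfl

theorem pb_id {A : Over K} (f : Γ(A.left, ⊤)) : pb (𝟙 A) f = f := by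
  unfold pb
  rw [Over.id_left]
  simp

theorem comp_whisker_mul {G H T : Over K} [MonObj G] (b : T ⟶ G ⊗ H) (i : H ⟶ G) :
    b ≫ (G ◁ i) ≫ μ[G] = (b ≫ fst G H) * (b ≫ snd G H ≫ i) := by
  rw [Hom.mul_def, ← Category.assoc]
  congr 1
  apply CartesianMonoidalCategory.hom_ext <;> simp

end

theorem s11198 (k : Type u) [Field k] [IsAlgClosed k]
    (G : Over (Spec (CommRingCat.of k))) [GrpObj G] [IsAffine G.left] [Smooth G.hom]
    (H₂ : Over (Spec (CommRingCat.of k))) [GrpObj H₂] [Smooth H₂.hom] (i₂ : H₂ ⟶ G) [IsMonHom i₂]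
    [IsClosedImmersion i₂.left]
    (H₁ : Over (Spec (CommRingCat.of k))) [GrpObj H₁] (i₁ : H₁ ⟶ H₂) [IsMonHom i₁]
    (X : Over (Spec (CommRingCat.of k))) (a : AlgGrp.Action H₂ X)
    (o : 𝟙_ (Over (Spec (CommRingCat.of k))) ⟶ X) (hX : AGF.IsQuotient i₁ X a o)
    [IsProper X.hom] [IrreducibleSpace X.left] :
    AGF.rTransInv (i₁ ≫ i₂) = AGF.rTransInv i₂ := by
  obtain ⟨hlft, hflat, hsurj, hpb⟩ := hX
  obtain ⟨p, hp⟩ : ∃ p : H₂ ⟶ X, p = a.orbitMap o := ⟨_, rfl⟩
  rw [← hp] at hflat hsurj hpb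
  haveI := hflat
  haveI := hsurj
  -- X is integral, hence O(X) = k
  haveI : IsReduced H₂.left := Groth.Agent.H1.SmoothGeom.isReduced_of_smooth_field k H₂.hom
  haveI : IsReduced X.left :=
    Groth.Agent.H1.DVRUnif.isReduced_of_flat_surjective p.left p.left.surjective
  haveI : IsIntegral X.left := isIntegral_of_irreducibleSpace_of_isReduced X.left
  have hbij := appTop_bijective k X.hom
  haveI hiso : IsIso X.hom.appTop := (ConcreteCategory.isIso_iff_bijective _).mpr hbij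
  -- `G ◁ p` is an effective epimorphism
  haveI : IsAffine H₂.left := isAffine_of_isAffineHom i₂.left
  haveI : QuasiSeparatedSpace ↥X.left := quasiSeparatedSpace_of_quasiSeparated X.hom
  haveI : CompactSpace ↥X.left := QuasiCompact.compactSpace_of_compactSpace X.hom
  haveI : QuasiCompact p.left := inferInstance
  have sqπ := Groth.Agent.H1.ArtProd.isPullback_whiskerLeft_left G p
  haveI : Flat (G ◁ p).left := MorphismProperty.of_isPullback (P := @Flat) sqπ hflat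
  haveI : Surjective (G ◁ p).left := MorphismProperty.of_isPullback (P := @Surjective) sqπ hsurj
  haveI : QuasiCompact (G ◁ p).left :=
    MorphismProperty.of_isPullback (P := @QuasiCompact) sqπ inferInstance
  haveI : EffectiveEpi (G ◁ p).left := inferInstance
  -- flat base change: functions on G × X come from G
  haveI : IsIso (fst G X).left.appTop := fst_appTop_isIso G X
  have hfst : Function.Surjective (fst G X).left.appTop.hom :=
    (ConcreteCategory.bijective_of_isIso (fst G X).left.appTop).2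
  ext f
  constructor
  · intro hf
    have hf' : pb ((G ◁ (i₁ ≫ i₂)) ≫ μ[G]) f = pb (fst G H₁) f := hf
    show pb ((G ◁ i₂) ≫ μ[G]) f = pb (fst G H₂) f
    obtain ⟨F, hF⟩ : ∃ F, F = pb ((G ◁ i₂) ≫ μ[G]) f := ⟨_, rfl⟩
    rw [← hF]
    have hinv : ∀ {T : Scheme.{u}} (g₁ g₂ : T ⟶ (G ⊗ H₂).left),
        g₁ ≫ (G ◁ p).left = g₂ ≫ (G ◁ p).left → g₁.appTop.hom F = g₂.appTop.hom F := by
      intro T g₁ g₂ hg
      have hw : g₂ ≫ (G ⊗ H₂).hom = g₁ ≫ (G ⊗ H₂).hom := by
        rw [← Over.w (G ◁ p), ← Category.assoc, ← hg, Category.assoc]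
      let T' : Over (Spec (CommRingCat.of k)) := Over.mk (g₁ ≫ (G ⊗ H₂).hom)
      let b₁ : T' ⟶ G ⊗ H₂ := Over.homMk g₁ rfl
      let b₂ : T' ⟶ G ⊗ H₂ := Over.homMk g₂ hw
      have hb : b₁ ≫ (G ◁ p) = b₂ ≫ (G ◁ p) := Over.OverMorphism.ext hg
      have hx : b₁ ≫ fst G H₂ = b₂ ≫ fst G H₂ := by
        have := congrArg (fun t => t ≫ fst G X) hb
        simp only [Category.assoc, whiskerLeft_fst] at this
        exact this
      have hh : (b₁ ≫ snd G H₂) ≫ p = (b₂ ≫ snd G H₂) ≫ p := by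
        have := congrArg (fun t => t ≫ snd G X) hb
        simp only [Category.assoc, whiskerLeft_snd] at this
        simpa only [Category.assoc] using this
      obtain ⟨c, hc1, hc2⟩ : ∃ c : T' ⟶ H₂ ⊗ H₁, c ≫ fst H₂ H₁ = b₁ ≫ snd G H₂ ∧
          c ≫ (H₂ ◁ i₁) ≫ μ[H₂] = b₂ ≫ snd G H₂ :=
        ⟨hpb.lift _ _ hh, hpb.lift_fst _ _ _, hpb.lift_snd _ _ _⟩
      obtain ⟨n, hn⟩ : ∃ n : T' ⟶ H₁, n = c ≫ snd H₂ H₁ := ⟨_, rfl⟩
      obtain ⟨y, hy⟩ : ∃ y : T' ⟶ G, y = b₁ ≫ (G ◁ i₂) ≫ μ[G] := ⟨_, rfl⟩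
      have h2 : b₂ ≫ snd G H₂ = (b₁ ≫ snd G H₂) * (n ≫ i₁) := by
        rw [← hc2, comp_whisker_mul, hc1, hn, Category.assoc]
      have e1 : b₂ ≫ (G ◁ i₂) ≫ μ[G] = (b₂ ≫ fst G H₂) * (b₂ ≫ snd G H₂ ≫ i₂) :=
        comp_whisker_mul b₂ i₂
      have e2 : lift y n ≫ (G ◁ (i₁ ≫ i₂)) ≫ μ[G] = y * (n ≫ i₁ ≫ i₂) := by
        rw [comp_whisker_mul, lift_fst, lift_snd_assoc]
      have e3 : y = (b₁ ≫ fst G H₂) * (b₁ ≫ snd G H₂ ≫ i₂) := by
        rw [hy]; exact comp_whisker_mul b₁ i₂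
      have e4 : b₂ ≫ snd G H₂ ≫ i₂ = (b₁ ≫ snd G H₂ ≫ i₂) * (n ≫ i₁ ≫ i₂) := by
        rw [← Category.assoc, h2, MonObj.mul_comp]
        simp only [Category.assoc]
      have key : b₂ ≫ (G ◁ i₂) ≫ μ[G] = lift y n ≫ (G ◁ (i₁ ≫ i₂)) ≫ μ[G] := by
        rw [e1, e2, e3, e4, ← hx, _root_.mul_assoc]
      calc g₁.appTop.hom F = pb b₁ F := rfl
        _ = pb y f := by rw [hF, ← pb_comp, hy]
        _ = pb (lift y n ≫ fst G H₁) f := by rw [lift_fst]
        _ = pb (lift y n) (pb (fst G H₁) f) := pb_comp _ _ _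
        _ = pb (lift y n) (pb ((G ◁ (i₁ ≫ i₂)) ≫ μ[G]) f) := by rw [hf']
        _ = pb (lift y n ≫ (G ◁ (i₁ ≫ i₂)) ≫ μ[G]) f := (pb_comp _ _ _).symm
        _ = pb (b₂ ≫ (G ◁ i₂) ≫ μ[G]) f := by rw [key]
        _ = pb b₂ F := by rw [hF, pb_comp]
        _ = g₂.appTop.hom F := rfl
    obtain ⟨F', hF'⟩ := exists_desc_fun (G ◁ p).left F hinv
    obtain ⟨c, hc⟩ := hfst F'
    have hFc : F = pb (fst G H₂) c := by
      have h0 : pb (G ◁ p) (pb (fst G X) c) = F := by
        show (G ◁ p).left.appTop.hom ((fst G X).left.appTop.hom c) = F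
        rw [hc, hF']
      rw [← h0, ← pb_comp, whiskerLeft_fst]
    -- evaluate along the unit section of H₂
    obtain ⟨s, hs⟩ : ∃ s : G ⟶ G ⊗ H₂, s = lift (𝟙 G) (toUnit G ≫ η[H₂]) := ⟨_, rfl⟩
    have hs1 : s ≫ (G ◁ i₂) ≫ μ[G] = 𝟙 G := by
      rw [comp_whisker_mul, hs, lift_fst, lift_snd_assoc, Category.assoc, IsMonHom.one_hom,
        ← Hom.one_def, _root_.mul_one]
    have hs2 : s ≫ fst G H₂ = 𝟙 G := by rw [hs, lift_fst]
    have hcf : c = f := by
      have h1 : pb s F = f := by rw [hF, ← pb_comp, hs1, pb_id]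
      have h2 : pb s F = c := by rw [hFc, ← pb_comp, hs2, pb_id]
      rw [← h2, h1]
    rw [hFc, hcf]
  · intro hf
    have hf' : pb ((G ◁ i₂) ≫ μ[G]) f = pb (fst G H₂) f := hf
    show pb ((G ◁ (i₁ ≫ i₂)) ≫ μ[G]) f = pb (fst G H₁) f
    have e : (G ◁ (i₁ ≫ i₂)) ≫ μ[G] = (G ◁ i₁) ≫ (G ◁ i₂) ≫ μ[G] := by
      rw [MonoidalCategory.whiskerLeft_comp, Category.assoc]
    rw [e, pb_comp, hf', ← pb_comp, whiskerLeft_fst]

end Groth.Agent.H1.GrpInvF
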