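import Mathlib
import Groth.Agent.Lib.Helper1.GrpICons
import Groth.Agent.Lib.Helper5.Lim.ProConsLimit

/-! SGA3 VI_B 3.9: points of the neutral component over a limit come from a finite stage
(helper1). -/

set_option autoImplicit false
set_option linter.style.haveILetI false
universe u

namespace Groth.Agent.H1.GrpLim

open CategoryTheory CategoryTheory.Limits MonoidalCategory CartesianMonoidalCategory MonObj GrpObj
  AlgebraicGeometry

/-- SGA3 VI_B 3.9 (S5401). -/
theorem s5401 {I : Type u} [SmallCategory I] [IsCofiltered I]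
    (D : I ⥤ Scheme.{u}) (c : Limits.Cone D) (hc : Limits.IsLimit c)
    [∀ (i i' : I) (f : i ⟶ i'), IsAffineHom (D.map f)] [∀ i, CompactSpace (D.obj i)]
    [∀ i, QuasiSeparatedSpace (D.obj i)]
    (S₀ : Scheme.{u}) (q : ∀ i, D.obj i ⟶ S₀)
    (hq : ∀ (i i' : I) (f : i ⟶ i'), D.map f ≫ q i' = q i)
    (qlim : c.pt ⟶ S₀) (hqlim : ∀ i, c.π.app i ≫ q i = qlim)
    (G : Over S₀) [GrpObj G] [LocallyOfFinitePresentation G.hom]
    (u : c.pt ⟶ G.left) (hu : u ≫ G.hom = qlim)
    (hN : Set.range u.base ⊆ SGA3x.neutralSet G) :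
    ∃ (i : I) (ui : D.obj i ⟶ G.left), ui ≫ G.hom = q i ∧
      Set.range ui.base ⊆ SGA3x.neutralSet G ∧ c.π.app i ≫ ui = u := by
  haveI : ∀ {i j : I} (f : i ⟶ j), IsAffineHom (D.map f) := fun f => inferInstance
  let t : D ⟶ (Functor.const I).obj S₀ :=
    { app := q
      naturality := fun i i' f => by
        simp only [Functor.const_obj_obj, Functor.const_obj_map, Category.comp_id]
        exact hq i i' f }
  have ha : c.π ≫ t = (Functor.const I).map (u ≫ G.hom) := by
    ext i : 2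
    simp only [NatTrans.comp_app, Functor.const_map_app]
    show c.π.app i ≫ q i = u ≫ G.hom
    rw [hqlim, hu]
  obtain ⟨i₀, g₀, hg₀, hg₀'⟩ :=
    Scheme.exists_π_app_comp_eq_of_locallyOfFinitePresentation D t G.hom c hc u ha
  have hg₀'' : g₀ ≫ G.hom = q i₀ := hg₀'
  -- the diagram over `i₀`
  let D' : Over i₀ ⥤ Scheme.{u} := Over.forget i₀ ⋙ D
  let c' : Cone D' := c.whisker (Over.forget i₀)
  have hc' : IsLimit c' := (Functor.Initial.isLimitWhiskerEquiv (Over.forget i₀) c).symm hc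
  haveI : ∀ (i j : Over i₀) (f : i ⟶ j), IsAffineHom (D'.map f) := fun i j f =>
    inferInstanceAs (IsAffineHom (D.map f.left))
  let k₀ : Over i₀ := Over.mk (𝟙 i₀)
  haveI : CompactSpace (D'.obj k₀) := inferInstanceAs (CompactSpace (D.obj i₀))
  let E : ∀ k : Over i₀, Set (D'.obj k) := fun _ => Set.univ
  let F : ∀ k : Over i₀, Set (D'.obj k) := fun k =>
    (D.map k.hom ≫ g₀).base ⁻¹' SGA3x.neutralSet G
  have hE : ∀ k, ProCons.IsProConstructible (E k) := fun _ =>
    Groth.Agent.H5.Lim.isProConstructible_univ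
  have hF : ∀ k, ProCons.IsIndConstructible (F k) := fun k =>
    Groth.Agent.H2.ProConsLib.isIndConstructible_preimage (D.map k.hom ≫ g₀)
      (GrpICons.isIndConstructible G)
  have hEm : ∀ (i j : Over i₀) (φ : i ⟶ j), E i ⊆ (D'.map φ) ⁻¹' E j :=
    fun _ _ _ _ _ => Set.mem_univ _
  have hFm : ∀ (i j : Over i₀) (φ : i ⟶ j), (D'.map φ) ⁻¹' F j ⊆ F i := by
    intro i j φ x hx
    have e : D.map i.hom = D.map φ.left ≫ D.map j.hom := by
      rw [← Functor.map_comp, Over.w φ]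
    show (D.map i.hom ≫ g₀).base x ∈ SGA3x.neutralSet G
    rw [e]
    exact hx
  have hmain := (Groth.Agent.H5.Lim.sInter_subset_sUnion_iff_eventually D' c' hc' k₀ E F
    hE hF hEm hFm).mp (by
      intro x _
      refine Set.mem_iUnion.mpr ⟨k₀, ?_⟩
      show (D.map (𝟙 i₀) ≫ g₀).base ((c.π.app i₀).base x) ∈ SGA3x.neutralSet G
      rw [D.map_id, Category.id_comp]
      have : g₀.base ((c.π.app i₀).base x) = u.base x :=
        congrArg (fun φ : c.pt ⟶ G.left => φ.base x) hg₀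
      rw [this]
      exact hN ⟨x, rfl⟩)
  obtain ⟨k, -, hk⟩ := hmain
  have hk' := hk k (𝟙 k)
  refine ⟨k.left, D.map k.hom ≫ g₀, ?_, ?_, ?_⟩
  · rw [Category.assoc, hg₀'']
    exact hq _ _ k.hom
  · rintro _ ⟨x, rfl⟩
    exact hk' (Set.mem_univ x)
  · rw [← Category.assoc, c.w, hg₀]

end Groth.Agent.H1.GrpLim
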