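import Mathlib
import Groth.Agent.Lib.Helper5.Lim.DescendIso
import Groth.Agent.Lib.Helper5.Lim.DescendFlat
import Groth.Agent.Lib.Helper5.Lim.DescendSurjective
import Groth.Agent.Lib.Helper5.Lim.FGSub
import Groth.Agent.Lib.Helper1.CritFib2
import Groth.Prelude.Def_ActBC

/-! SGA3 VI_B 10.x: being a torsor (for the fppf topology) descends along a cofiltered limit of
quasi-compact quasi-separated schemes with affine transition maps (S6092) (helper1). -/

set_option autoImplicit false
set_option linter.style.haveILetI false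
universe u

namespace Groth.Agent.H1.GrpLimT

open CategoryTheory CategoryTheory.Limits MonoidalCategory CartesianMonoidalCategory MonObj GrpObj
  AlgebraicGeometry

/-! ### the shear map and its base change -/

section Shear

variable {S T : Scheme.{u}} (t : T ⟶ S) {G X : Over S} [GrpObj G] (a : AlgGrp.Action G X)

/-- the shear map `(g, x) ↦ (g x, x)`. -/
noncomputable abbrev sh : G ⊗ X ⟶ X ⊗ X := lift a.act (snd G X)

/-- the shear map of the base-changed action. -/
noncomputable abbrev shT : Red.bc t G ⊗ Red.bc t X ⟶ Red.bc t X ⊗ Red.bc t X :=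
  lift (Functor.LaxMonoidal.μ (Over.pullback t) G X ≫ (Over.pullback t).map a.act)
    (snd (Red.bc t G) (Red.bc t X))

lemma shT_μ : shT t a ≫ Functor.LaxMonoidal.μ (Over.pullback t) X X =
    Functor.LaxMonoidal.μ (Over.pullback t) G X ≫ (Over.pullback t).map (sh a) := by
  have e1 : shT t a = Functor.LaxMonoidal.μ (Over.pullback t) G X ≫
      lift ((Over.pullback t).map a.act) ((Over.pullback t).map (snd G X)) := by
    rw [comp_lift, Functor.Monoidal.μ_snd]
  rw [e1, Category.assoc, Functor.Monoidal.lift_μ]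

lemma isPullback_map_sh :
    IsPullback ((Over.pullback t).map (sh a)).left (pullback.fst (G ⊗ X).hom t)
      (pullback.fst (X ⊗ X).hom t) (sh a).left := by
  refine IsPullback.of_right ?_ ?_ (IsPullback.of_hasPullback (X ⊗ X).hom t).flip
  · have h1 : ((Over.pullback t).map (sh a)).left ≫ pullback.snd (X ⊗ X).hom t =
        pullback.snd (G ⊗ X).hom t := Over.w ((Over.pullback t).map (sh a))
    have h2 : (sh a).left ≫ (X ⊗ X).hom = (G ⊗ X).hom := Over.w (sh a)
    rw [h1, h2]
    exact (IsPullback.of_hasPullback (G ⊗ X).hom t).flip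
  · exact pullback.lift_fst _ _ _

theorem isIso_shT_iff :
    IsIso (shT t a) ↔ IsIso (pullback.snd (sh a).left (pullback.fst (X ⊗ X).hom t)) := by
  have key := shT_μ t a
  have h1 : IsIso (shT t a) ↔ IsIso ((Over.pullback t).map (sh a)) := by
    constructor
    · intro h
      have e : (Over.pullback t).map (sh a) =
          inv (Functor.LaxMonoidal.μ (Over.pullback t) G X) ≫ shT t a ≫
            Functor.LaxMonoidal.μ (Over.pullback t) X X := by
        rw [key, IsIso.inv_hom_id_assoc]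
      rw [e]
      infer_instance
    · intro h
      have e : shT t a = Functor.LaxMonoidal.μ (Over.pullback t) G X ≫
          (Over.pullback t).map (sh a) ≫ inv (Functor.LaxMonoidal.μ (Over.pullback t) X X) := by
        rw [← Category.assoc, ← key, Category.assoc, IsIso.hom_inv_id, Category.comp_id]
      rw [e]
      infer_instance
  have h2 : IsIso ((Over.pullback t).map (sh a)) ↔ IsIso ((Over.pullback t).map (sh a)).left := by
    constructor
    · intro h
      exact (inferInstance : IsIso ((Over.forget _).map ((Over.pullback t).map (sh a))))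
    · intro h
      haveI : IsIso ((Over.forget _).map ((Over.pullback t).map (sh a))) := h
      exact isIso_of_reflects_iso _ (Over.forget _)
  have hsq := (isPullback_map_sh t a).flip
  have e : hsq.isoPullback.hom ≫ pullback.snd (sh a).left (pullback.fst (X ⊗ X).hom t) =
      ((Over.pullback t).map (sh a)).left := hsq.isoPullback_hom_snd
  have h3 : IsIso ((Over.pullback t).map (sh a)).left ↔
      IsIso (pullback.snd (sh a).left (pullback.fst (X ⊗ X).hom t)) := by
    constructor
    · intro h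
      have e' : pullback.snd (sh a).left (pullback.fst (X ⊗ X).hom t) =
          hsq.isoPullback.inv ≫ ((Over.pullback t).map (sh a)).left :=
        ((Iso.inv_comp_eq _).2 e.symm).symm
      rw [e']
      infer_instance
    · intro h
      have h' : IsIso (hsq.isoPullback.hom ≫
          pullback.snd (sh a).left (pullback.fst (X ⊗ X).hom t)) := inferInstance
      rwa [e] at h'
  exact h1.trans (h2.trans h3)

end Shear

/-! ### stability under further base change -/

theorem isIso_snd_of_comp {S T T₂ A B : Scheme.{u}} (φ : A ⟶ B) (b : B ⟶ S) (t : T ⟶ S)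
    (σ : T₂ ⟶ T) (t₂ : T₂ ⟶ S) (e : σ ≫ t = t₂)
    (h : IsIso (pullback.snd φ (pullback.fst b t))) :
    IsIso (pullback.snd φ (pullback.fst b t₂)) := by
  subst e
  let β : pullback b (σ ≫ t) ⟶ pullback b t :=
    pullback.lift (pullback.fst _ _) (pullback.snd _ _ ≫ σ)
      (by rw [Category.assoc]; exact pullback.condition)
  have hb : pullback.fst b (σ ≫ t) = β ≫ pullback.fst b t := (pullback.lift_fst _ _ _).symm
  have h1 : (MorphismProperty.isomorphisms Scheme.{u})
      (pullback.snd φ (β ≫ pullback.fst b t)) :=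
    Groth.Agent.H5.Lim.bc_of_comp (P := MorphismProperty.isomorphisms Scheme.{u}) _ _ β h
  exact (Groth.Agent.H5.Lim.bc_congr (P := MorphismProperty.isomorphisms Scheme.{u}) _ hb).mpr h1

/-- an fppf covering of `T` factoring through `X ×_S T`, in terms of `X`-valued points. -/
def Cov {S T : Scheme.{u}} (t : T ⟶ S) (X : Over S) : Prop :=
  ∃ (Z : Scheme.{u}) (v : Z ⟶ T) (x : Z ⟶ X.left), x ≫ X.hom = v ≫ t ∧
    Flat v ∧ Surjective v ∧ LocallyOfFinitePresentation v ∧ QuasiCompact v ∧ QuasiSeparated v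

theorem cov_iff {S T : Scheme.{u}} (t : T ⟶ S) (X : Over S) :
    (∃ (Z : Scheme.{u}) (v : Z ⟶ T) (w : Z ⟶ (Red.bc t X).left), w ≫ (Red.bc t X).hom = v ∧
      Flat v ∧ Surjective v ∧ LocallyOfFinitePresentation v ∧ QuasiCompact v ∧
        QuasiSeparated v) ↔ Cov t X := by
  constructor
  · rintro ⟨Z, v, w, hw, h⟩
    have hw' : w ≫ pullback.snd X.hom t = v := hw
    refine ⟨Z, v, w ≫ pullback.fst X.hom t, ?_, h⟩
    rw [Category.assoc, pullback.condition, ← Category.assoc, hw']
  · rintro ⟨Z, v, x, hx, h⟩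
    exact ⟨Z, v, pullback.lift x v hx, pullback.lift_snd _ _ _, h⟩

theorem Cov.comp {S T T₂ : Scheme.{u}} {t : T ⟶ S} {X : Over S} (h : Cov t X) (σ : T₂ ⟶ T)
    (t₂ : T₂ ⟶ S) (e : σ ≫ t = t₂) : Cov t₂ X := by
  subst e
  obtain ⟨Z, v, x, hx, h1, h2, h3, h4, h5⟩ := h
  refine ⟨pullback v σ, pullback.snd v σ, pullback.fst v σ ≫ x, ?_,
    MorphismProperty.pullback_snd (P := @Flat) _ _ h1,
    MorphismProperty.pullback_snd (P := @Surjective) _ _ h2,
    MorphismProperty.pullback_snd (P := @LocallyOfFinitePresentation) _ _ h3,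
    MorphismProperty.pullback_snd (P := @QuasiCompact) _ _ h4,
    MorphismProperty.pullback_snd (P := @QuasiSeparated) _ _ h5⟩
  rw [Category.assoc, hx, ← Category.assoc, pullback.condition, Category.assoc]

/-! ### descent along the limit -/

section Descent

open Groth.Agent.H5.Lim

variable {I : Type u} [SmallCategory I] [IsCofiltered I] (D : I ⥤ Scheme.{u}) (c : Cone D)
  (hc : IsLimit c) [∀ (i i' : I) (f : i ⟶ i'), IsAffineHom (D.map f)]

include hc in
theorem exists_cov [∀ i, CompactSpace (D.obj i)] [∀ i, QuasiSeparatedSpace (D.obj i)] (j : I)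
    (X : Over (D.obj j)) [LocallyOfFinitePresentation X.hom] (h : Cov (c.π.app j) X) :
    ∃ (i : I) (f : i ⟶ j), Cov (D.map f) X := by
  obtain ⟨Z, v, x, hx, h1, h2, h3, h4, h5⟩ := h
  haveI := h3
  haveI := h4
  haveI := h5
  obtain ⟨i₀, ⟨M₀⟩⟩ := exists_model D c hc v
  let k := IsCofiltered.min i₀ j
  let a : k ⟶ i₀ := IsCofiltered.minToLeft i₀ j
  let b : k ⟶ j := IsCofiltered.minToRight i₀ j
  obtain ⟨M⟩ : Nonempty (Model D c v k) := ⟨M₀.bc a⟩
  haveI : ∀ l, CompactSpace ((bcDiagram D M.p).obj l) := fun l =>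
    (M.bc l.hom).compactSpace_Y
  haveI : ∀ l, QuasiSeparatedSpace ((bcDiagram D M.p).obj l) := fun l =>
    (M.bc l.hom).quasiSeparatedSpace_Y
  let tt : bcDiagram D M.p ⟶ (Functor.const (Over k)).obj (D.obj j) :=
    bcDiagramFst D M.p ≫ (Functor.const (Over k)).map (M.p ≫ D.map b)
  obtain ⟨l, (g₀ : (M.bc l.hom).Y ⟶ X.left), hg₁, hg₂⟩ :=
    Scheme.exists_π_app_comp_eq_of_locallyOfFinitePresentation
      (bcDiagram D M.p) tt X.hom M.cone (M.isLimitCone hc) x (by
        ext l
        change M.bcG l.hom ≫ pullback.fst M.p (D.map l.hom) ≫ M.p ≫ D.map b = x ≫ X.hom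
        rw [Model.bcG_fst_assoc, ← Category.assoc, M.pb.w, Category.assoc, c.w, hx])
  have hg₂' : g₀ ≫ X.hom = M.bcFst l.hom ≫ M.p ≫ D.map b := hg₂
  let M1 : Model D c v l.left := M.bc l.hom
  have hg₃ : g₀ ≫ X.hom = M1.p ≫ D.map (l.hom ≫ b) := by
    rw [hg₂', ← Category.assoc, Model.bcFst_p, Category.assoc, ← D.map_comp]
  obtain ⟨k₁, φ₁, hk₁⟩ := M1.exists_property hc affineSystemDescent_flat
    ⟨M1.lfp, M1.qc, M1.qs⟩ h1
  let M2 : Model D c v k₁ := M1.bc φ₁
  obtain ⟨k₂, φ₂, hk₂⟩ := M2.exists_property hc affineSystemDescent_surjective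
    ⟨M2.lfp, M2.qc, M2.qs⟩ h2
  let M3 : Model D c v k₂ := M2.bc φ₂
  have hfl : Flat M3.p := MorphismProperty.pullback_snd (P := @Flat) _ _ hk₁
  refine ⟨k₂, φ₂ ≫ φ₁ ≫ l.hom ≫ b, M3.Y, M3.p, M2.bcFst φ₂ ≫ M1.bcFst φ₁ ≫ g₀, ?_, hfl, hk₂,
    M3.lfp, M3.qc, M3.qs⟩
  rw [Category.assoc, Category.assoc, hg₃, ← Category.assoc (M1.bcFst φ₁), Model.bcFst_p,
    Category.assoc, ← Category.assoc (M2.bcFst φ₂), Model.bcFst_p, Category.assoc,
    ← D.map_comp, ← D.map_comp]

end Descent

/-! ### the statement -/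

theorem s6092 {I : Type u} [SmallCategory I] [IsCofiltered I]
    (D : I ⥤ Scheme.{u}) (c : Limits.Cone D) (hc : Limits.IsLimit c)
    [∀ (i i' : I) (f : i ⟶ i'), IsAffineHom (D.map f)] [∀ i, CompactSpace (D.obj i)]
    [∀ i, QuasiSeparatedSpace (D.obj i)]
    (j : I) (Gj Xj : Over (D.obj j)) [GrpObj Gj] (act : AlgGrp.Action Gj Xj)
    [LocallyOfFinitePresentation Gj.hom] [QuasiCompact Gj.hom] [QuasiSeparated Gj.hom]
    [LocallyOfFinitePresentation Xj.hom] [QuasiCompact Xj.hom] [QuasiSeparated Xj.hom] :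
    (IsIso (shT (c.π.app j) act) ∧
        ∃ (Z : Scheme.{u}) (v : Z ⟶ c.pt) (w : Z ⟶ (Red.bc (c.π.app j) Xj).left),
          w ≫ (Red.bc (c.π.app j) Xj).hom = v ∧
          Flat v ∧ Surjective v ∧ LocallyOfFinitePresentation v ∧ QuasiCompact v ∧
            QuasiSeparated v) ↔
    ∃ (i : I) (f : i ⟶ j), (IsIso (shT (D.map f) act) ∧
        ∃ (Z : Scheme.{u}) (v : Z ⟶ (D.obj i)) (w : Z ⟶ (Red.bc (D.map f) Xj).left),
          w ≫ (Red.bc (D.map f) Xj).hom = v ∧
          Flat v ∧ Surjective v ∧ LocallyOfFinitePresentation v ∧ QuasiCompact v ∧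
            QuasiSeparated v) := by
  haveI : CompactSpace Xj.left := QuasiCompact.compactSpace_of_compactSpace Xj.hom
  haveI : CompactSpace (Xj ⊗ Xj).left := by
    show CompactSpace ↥(pullback Xj.hom Xj.hom)
    infer_instance
  have hXX : (Xj ⊗ Xj).hom = pullback.fst Xj.hom Xj.hom ≫ Xj.hom := rfl
  haveI : LocallyOfFinitePresentation (Xj ⊗ Xj).hom := by rw [hXX]; infer_instance
  haveI : QuasiSeparated (Xj ⊗ Xj).hom := by rw [hXX]; infer_instance
  have hGX : (sh act).left ≫ (Xj ⊗ Xj).hom = pullback.fst Gj.hom Xj.hom ≫ Gj.hom :=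
    Over.w (sh act)
  haveI : LocallyOfFinitePresentation ((sh act).left ≫ (Xj ⊗ Xj).hom) := by
    rw [hGX]; infer_instance
  haveI : QuasiCompact ((sh act).left ≫ (Xj ⊗ Xj).hom) := by rw [hGX]; infer_instance
  haveI : QuasiSeparated ((sh act).left ≫ (Xj ⊗ Xj).hom) := by rw [hGX]; infer_instance
  haveI : LocallyOfFinitePresentation (sh act).left :=
    Groth.Agent.H1.CritFib.locallyOfFinitePresentation_of_comp (sh act).left (Xj ⊗ Xj).hom
  haveI : QuasiCompact (sh act).left := QuasiCompact.of_comp (sh act).left (Xj ⊗ Xj).hom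
  haveI : QuasiSeparated (sh act).left := QuasiSeparated.of_comp (sh act).left (Xj ⊗ Xj).hom
  have hΦ : (@LocallyOfFinitePresentation ⊓ (@QuasiCompact ⊓ @QuasiSeparated) :
      MorphismProperty Scheme.{u}) (sh act).left :=
    ⟨inferInstance, inferInstance, inferInstance⟩
  constructor
  · rintro ⟨h1, h2⟩
    have h1' := (isIso_shT_iff (c.π.app j) act).1 h1
    obtain ⟨k, hk⟩ := Groth.Agent.H5.Lim.exists_descend_core D c hc
      Groth.Agent.H5.Lim.affineSystemDescent_isomorphisms j (sh act).left (Xj ⊗ Xj).hom hΦ h1'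
    obtain ⟨i₂, f₂, hcov⟩ := exists_cov D c hc j Xj ((cov_iff _ _).1 h2)
    obtain ⟨i, g, g', hgg⟩ := IsCofiltered.cospan k.hom f₂
    refine ⟨i, g ≫ k.hom, ?_, ?_⟩
    · exact (isIso_shT_iff _ act).2 (isIso_snd_of_comp (sh act).left (Xj ⊗ Xj).hom
        (D.map k.hom) (D.map g) _ (by rw [← D.map_comp]) hk)
    · exact (cov_iff _ _).2 (hcov.comp (D.map g') _ (by rw [← D.map_comp, hgg]))
  · rintro ⟨i, f, h1, h2⟩
    exact ⟨(isIso_shT_iff _ act).2 (isIso_snd_of_comp _ _ (D.map f) (c.π.app i) _ (c.w f)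
        ((isIso_shT_iff _ act).1 h1)),
      (cov_iff _ _).2 (((cov_iff _ _).1 h2).comp (c.π.app i) _ (c.w f))⟩

end Groth.Agent.H1.GrpLimT
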