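import Mathlib
import Groth.Agent.Lib.Helper1.GrpLimH
import Groth.Agent.Lib.Helper1.GrpLimT

/-! SGA3 VI_B 10.x: a group scheme of finite presentation over a cofiltered limit of quasi-compact
quasi-separated schemes with affine transition maps comes from a group scheme of finite
presentation over a finite stage (S6085) (helper1). -/

set_option autoImplicit false
set_option linter.style.haveILetI false
universe u

namespace Groth.Agent.H1.GrpLimG

open CategoryTheory CategoryTheory.Limits MonoidalCategory CartesianMonoidalCategory MonObj GrpObj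
  AlgebraicGeometry

/-! ### local instances -/

local instance lfp_bc {T T' : Scheme.{u}} (τ : T' ⟶ T) (X : Over T)
    [LocallyOfFinitePresentation X.hom] : LocallyOfFinitePresentation (Red.bc τ X).hom :=
  MorphismProperty.pullback_snd (P := @LocallyOfFinitePresentation) _ _ inferInstance

local instance qc_bc {T T' : Scheme.{u}} (τ : T' ⟶ T) (X : Over T) [QuasiCompact X.hom] :
    QuasiCompact (Red.bc τ X).hom :=
  MorphismProperty.pullback_snd (P := @QuasiCompact) _ _ inferInstance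

local instance qs_bc {T T' : Scheme.{u}} (τ : T' ⟶ T) (X : Over T) [QuasiSeparated X.hom] :
    QuasiSeparated (Red.bc τ X).hom :=
  MorphismProperty.pullback_snd (P := @QuasiSeparated) _ _ inferInstance

local instance qc_tensor {T : Scheme.{u}} (A B : Over T) [QuasiCompact A.hom]
    [QuasiCompact B.hom] : QuasiCompact (A ⊗ B).hom := by
  show QuasiCompact (pullback.fst A.hom B.hom ≫ A.hom)
  infer_instance

local instance qs_tensor {T : Scheme.{u}} (A B : Over T) [QuasiSeparated A.hom]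
    [QuasiSeparated B.hom] : QuasiSeparated (A ⊗ B).hom := by
  show QuasiSeparated (pullback.fst A.hom B.hom ≫ A.hom)
  infer_instance

local instance qc_unit {T : Scheme.{u}} : QuasiCompact (𝟙_ (Over T)).hom := by
  show QuasiCompact (𝟙 T)
  infer_instance

/-! ### pre-group structures and monoidal functors -/

section Abstract

variable {C E : Type*} [Category C] [Category E] [CartesianMonoidalCategory C]
  [CartesianMonoidalCategory E] (Ψ : C ⥤ E) [Ψ.Monoidal] {X : C}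
  (one : 𝟙_ C ⟶ X) (mul : X ⊗ X ⟶ X) (inv : X ⟶ X)

/-- the group axioms for `(one, mul, inv)` hold after applying `Ψ`. -/
structure Ax : Prop where
  one_mul : Ψ.map (one ▷ X ≫ mul) = Ψ.map (λ_ X).hom
  mul_one : Ψ.map (X ◁ one ≫ mul) = Ψ.map (ρ_ X).hom
  mul_assoc : Ψ.map (mul ▷ X ≫ mul) = Ψ.map ((α_ X X X).hom ≫ X ◁ mul ≫ mul)
  left_inv : Ψ.map (lift inv (𝟙 X) ≫ mul) = Ψ.map (toUnit X ≫ one)
  right_inv : Ψ.map (lift (𝟙 X) inv ≫ mul) = Ψ.map (toUnit X ≫ one)

variable {Ψ one mul inv}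

/-- the group structure on `Ψ X` induced by a pre-group structure whose axioms hold after `Ψ`. -/
@[reducible] noncomputable def grpOfAx (h : Ax Ψ one mul inv) : GrpObj (Ψ.obj X) where
  one := Functor.LaxMonoidal.ε Ψ ≫ Ψ.map one
  mul := Functor.LaxMonoidal.μ Ψ X X ≫ Ψ.map mul
  one_mul := by
    rw [comp_whiskerRight, Category.assoc, Functor.LaxMonoidal.μ_natural_left_assoc,
      ← Ψ.map_comp, h.one_mul, Functor.LaxMonoidal.left_unitality]
  mul_one := by
    rw [MonoidalCategory.whiskerLeft_comp, Category.assoc,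
      Functor.LaxMonoidal.μ_natural_right_assoc, ← Ψ.map_comp, h.mul_one,
      Functor.LaxMonoidal.right_unitality]
  mul_assoc := by
    rw [comp_whiskerRight, Category.assoc, Functor.LaxMonoidal.μ_natural_left_assoc,
      ← Ψ.map_comp, h.mul_assoc, Ψ.map_comp, Functor.LaxMonoidal.associativity_assoc,
      MonoidalCategory.whiskerLeft_comp, Category.assoc,
      Functor.LaxMonoidal.μ_natural_right_assoc, ← Ψ.map_comp]
  inv := Ψ.map inv
  left_inv := by
    rw [← Ψ.map_id, Functor.Monoidal.lift_μ_assoc, ← Ψ.map_comp, h.left_inv, Ψ.map_comp,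
      Functor.Monoidal.toUnit_ε_assoc]
  right_inv := by
    rw [← Ψ.map_id, Functor.Monoidal.lift_μ_assoc, ← Ψ.map_comp, h.right_inv, Ψ.map_comp,
      Functor.Monoidal.toUnit_ε_assoc]

variable (Ψ one mul inv)

theorem ax_of_grp [GrpObj (Ψ.obj X)]
    (hη : η[Ψ.obj X] = Functor.LaxMonoidal.ε Ψ ≫ Ψ.map one)
    (hμ : μ[Ψ.obj X] = Functor.LaxMonoidal.μ Ψ X X ≫ Ψ.map mul)
    (hι : ι[Ψ.obj X] = Ψ.map inv) : Ax Ψ one mul inv where
  one_mul := by
    have := MonObj.one_mul (Ψ.obj X)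
    rw [hη, hμ, comp_whiskerRight, Category.assoc, Functor.LaxMonoidal.μ_natural_left_assoc,
      ← Ψ.map_comp, Functor.LaxMonoidal.left_unitality] at this
    exact (cancel_epi _).1 ((cancel_epi _).1 this)
  mul_one := by
    have := MonObj.mul_one (Ψ.obj X)
    rw [hη, hμ, MonoidalCategory.whiskerLeft_comp, Category.assoc,
      Functor.LaxMonoidal.μ_natural_right_assoc, ← Ψ.map_comp,
      Functor.LaxMonoidal.right_unitality] at this
    exact (cancel_epi _).1 ((cancel_epi _).1 this)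
  mul_assoc := by
    have := MonObj.mul_assoc (Ψ.obj X)
    rw [hμ, comp_whiskerRight, Category.assoc, Functor.LaxMonoidal.μ_natural_left_assoc,
      ← Ψ.map_comp, MonoidalCategory.whiskerLeft_comp, Category.assoc,
      Functor.LaxMonoidal.μ_natural_right_assoc, ← Ψ.map_comp,
      ← Functor.LaxMonoidal.associativity_assoc, ← Ψ.map_comp] at this
    exact (cancel_epi _).1 ((cancel_epi _).1 this)
  left_inv := by
    have := GrpObj.left_inv (Ψ.obj X)
    rw [hι, hμ, hη, ← Ψ.map_id, Functor.Monoidal.lift_μ_assoc, ← Ψ.map_comp,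
      Functor.Monoidal.toUnit_ε_assoc, ← Ψ.map_comp] at this
    exact this
  right_inv := by
    have := GrpObj.right_inv (Ψ.obj X)
    rw [hι, hμ, hη, ← Ψ.map_id, Functor.Monoidal.lift_μ_assoc, ← Ψ.map_comp,
      Functor.Monoidal.toUnit_ε_assoc, ← Ψ.map_comp] at this
    exact this

end Abstract

/-! ### compatibilities of the comparison isomorphism of iterated base changes -/

section Kappa

variable {S T T₂ : Scheme.{u}} (σ : T₂ ⟶ T) (τ : T ⟶ S) {τ₂ : T₂ ⟶ S} (h : σ ≫ τ = τ₂)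

@[reassoc]
lemma κ_monoidal (A B : Over S) :
    Functor.LaxMonoidal.μ (Over.pullback σ) (Red.bc τ A) (Red.bc τ B) ≫
      (Over.pullback σ).map (Functor.LaxMonoidal.μ (Over.pullback τ) A B) ≫
        (ActBC.bcCompIso σ τ (A ⊗ B) h).hom =
    ((ActBC.bcCompIso σ τ A h).hom ⊗ₘ (ActBC.bcCompIso σ τ B h).hom) ≫
      Functor.LaxMonoidal.μ (Over.pullback τ₂) A B := by
  rw [← cancel_mono (Functor.OplaxMonoidal.δ (Over.pullback τ₂) A B)]
  apply CartesianMonoidalCategory.hom_ext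
  · simp only [Category.assoc, Functor.OplaxMonoidal.δ_fst, Functor.Monoidal.μ_fst, tensorHom_fst]
    rw [← ActBC.bcCompIso_hom_naturality σ τ h (fst A B), ← Functor.map_comp_assoc,
      Functor.Monoidal.μ_fst, Functor.Monoidal.μ_fst_assoc]
  · simp only [Category.assoc, Functor.OplaxMonoidal.δ_snd, Functor.Monoidal.μ_snd, tensorHom_snd]
    rw [← ActBC.bcCompIso_hom_naturality σ τ h (snd A B), ← Functor.map_comp_assoc,
      Functor.Monoidal.μ_snd, Functor.Monoidal.μ_snd_assoc]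

@[reassoc]
lemma κ_unit :
    Functor.LaxMonoidal.ε (Over.pullback σ) ≫
      (Over.pullback σ).map (Functor.LaxMonoidal.ε (Over.pullback τ)) ≫
        (ActBC.bcCompIso σ τ (𝟙_ (Over S)) h).hom =
    Functor.LaxMonoidal.ε (Over.pullback τ₂) := by
  rw [← cancel_mono (Functor.OplaxMonoidal.η (Over.pullback τ₂))]
  exact toUnit_unique _ _

include h in
lemma map_eq_of_map_eq {A B : Over S} (a b : A ⟶ B)
    (hab : (Over.pullback τ).map a = (Over.pullback τ).map b) :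
    (Over.pullback τ₂).map a = (Over.pullback τ₂).map b := by
  have ha := ActBC.bcCompIso_hom_naturality σ τ h a
  have hb := ActBC.bcCompIso_hom_naturality σ τ h b
  rw [hab] at ha
  exact (cancel_epi (ActBC.bcCompIso σ τ A h).hom).1 (ha.symm.trans hb)

lemma tr_congr {σ' : T₂ ⟶ T} (e : σ = σ') (h' : σ' ≫ τ = τ₂) {A B : Over S}
    (v : Red.bc τ A ⟶ Red.bc τ B) : GrpLimH.tr σ τ h v = GrpLimH.tr σ' τ h' v := by
  subst e
  rfl

lemma tr_tr {T₃ : Scheme.{u}} (σ' : T₃ ⟶ T₂) {τ₃ : T₃ ⟶ S} (h' : σ' ≫ τ₂ = τ₃)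
    (h'' : (σ' ≫ σ) ≫ τ = τ₃) {A B : Over S} (v : Red.bc τ A ⟶ Red.bc τ B) :
    GrpLimH.tr σ' τ₂ h' (GrpLimH.tr σ τ h v) = GrpLimH.tr (σ' ≫ σ) τ h'' v := by
  apply GrpLimH.ext_of_fst
  rw [GrpLimH.tr_adj, GrpLimH.tr_adj, GrpLimH.tr_adj, ← Category.assoc]
  congr 1
  apply pullback.hom_ext
  · rw [Category.assoc, GrpLimH.β_fst, GrpLimH.β_fst, GrpLimH.β_fst]
  · rw [Category.assoc, GrpLimH.β_snd, GrpLimH.β_snd_assoc, GrpLimH.β_snd]

end Kappa

/-! ### descent along the limit -/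

section Descent

open Groth.Agent.H5.Lim

variable {I : Type u} [SmallCategory I] [IsCofiltered I] (D : I ⥤ Scheme.{u}) (c : Cone D)
  (hc : IsLimit c) [∀ (i i' : I) (f : i ⟶ i'), IsAffineHom (D.map f)]

/-- `u` comes from stage `l`. -/
def DescAt {j : I} {A B : Over (D.obj j)}
    (u : Red.bc (c.π.app j) A ⟶ Red.bc (c.π.app j) B) (l : Over j) : Prop :=
  ∃ ul : Red.bc (D.map l.hom) A ⟶ Red.bc (D.map l.hom) B,
    GrpLimH.tr (c.π.app l.left) (D.map l.hom) (c.w l.hom) ul = u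

include hc in
lemma descAt_exists {j : I} {A B : Over (D.obj j)} [CompactSpace A.left]
    [QuasiSeparatedSpace A.left] [LocallyOfFinitePresentation B.hom]
    (u : Red.bc (c.π.app j) A ⟶ Red.bc (c.π.app j) B) : ∃ l : Over j, DescAt D c u l := by
  obtain ⟨l, ul, hul⟩ := GrpLimH.surj D c hc j u
  have hβ : bcProj D c A.hom l =
      GrpLimH.β (c.π.app l.left) (D.map l.hom) (c.w l.hom) A := rfl
  refine ⟨l, ul, ?_⟩
  apply GrpLimH.ext_of_fst
  rw [GrpLimH.tr_adj, ← hβ, hul]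

omit [IsCofiltered I] [∀ (i i' : I) (f : i ⟶ i'), IsAffineHom (D.map f)] in
lemma DescAt.mono {j : I} {A B : Over (D.obj j)}
    {u : Red.bc (c.π.app j) A ⟶ Red.bc (c.π.app j) B} {l l' : Over j} (ψ : l' ⟶ l)
    (hu : DescAt D c u l) : DescAt D c u l' := by
  obtain ⟨ul, hul⟩ := hu
  have hψ : D.map ψ.left ≫ D.map l.hom = D.map l'.hom := by rw [← D.map_comp, Over.w ψ]
  refine ⟨GrpLimH.tr (D.map ψ.left) (D.map l.hom) hψ ul, ?_⟩
  rw [tr_tr (D.map ψ.left) (D.map l.hom) hψ (c.π.app l'.left) (c.w l'.hom)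
      (by rw [c.w, c.w]) ul,
    tr_congr (c.π.app l'.left ≫ D.map ψ.left) (D.map l.hom) _ (c.w ψ.left) (c.w l.hom) ul, hul]

include hc in
theorem exists_grp_of_pre [∀ i, CompactSpace (D.obj i)] [∀ i, QuasiSeparatedSpace (D.obj i)]
    (G : Over c.pt) [GrpObj G] (l : I) (X : Over (D.obj l))
    [LocallyOfFinitePresentation X.hom] [QuasiCompact X.hom] [QuasiSeparated X.hom]
    (θ : G ≅ Red.bc (c.π.app l) X) (one : 𝟙_ (Over (D.obj l)) ⟶ X) (mul : X ⊗ X ⟶ X)
    (inv : X ⟶ X)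
    (hη : η[G] ≫ θ.hom = Functor.LaxMonoidal.ε (Over.pullback (c.π.app l)) ≫
      (Over.pullback (c.π.app l)).map one)
    (hμ : μ[G] ≫ θ.hom = (θ.hom ⊗ₘ θ.hom) ≫
      Functor.LaxMonoidal.μ (Over.pullback (c.π.app l)) X X ≫
        (Over.pullback (c.π.app l)).map mul)
    (hι : ι[G] ≫ θ.hom = θ.hom ≫ (Over.pullback (c.π.app l)).map inv) :
    ∃ (j : I) (Gj : Over (D.obj j)) (_ : GrpObj Gj) (e : G ≅ Red.bc (c.π.app j) Gj),
      IsMonHom e.hom ∧ LocallyOfFinitePresentation Gj.hom ∧ QuasiCompact Gj.hom ∧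
        QuasiSeparated Gj.hom := by
  have hAx : Ax (Over.pullback (c.π.app l)) one mul inv := by
    letI : GrpObj (Red.bc (c.π.app l) X) := GrpObj.ofIso θ
    refine ax_of_grp _ one mul inv ?_ ?_ ?_
    · exact hη
    · show (θ.inv ⊗ₘ θ.inv) ≫ μ[G] ≫ θ.hom = _
      rw [hμ, tensorHom_comp_tensorHom_assoc, Iso.inv_hom_id]
      simp
    · show θ.inv ≫ ι[G] ≫ θ.hom = _
      rw [hι, Iso.inv_hom_id_assoc]
  obtain ⟨k₁, hk₁⟩ := GrpLimH.inj D c hc l _ _ hAx.one_mul
  obtain ⟨k₂, hk₂⟩ := GrpLimH.inj D c hc l _ _ hAx.mul_one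
  obtain ⟨k₃, hk₃⟩ := GrpLimH.inj D c hc l _ _ hAx.mul_assoc
  obtain ⟨k₄, hk₄⟩ := GrpLimH.inj D c hc l _ _ hAx.left_inv
  obtain ⟨k₅, hk₅⟩ := GrpLimH.inj D c hc l _ _ hAx.right_inv
  obtain ⟨n, a₁, a₂, a₃, a₄, a₅, -⟩ : ∃ (n : Over l) (_ : n ⟶ k₁) (_ : n ⟶ k₂) (_ : n ⟶ k₃)
      (_ : n ⟶ k₄) (_ : n ⟶ k₅), True :=
    ⟨IsCofiltered.min (IsCofiltered.min (IsCofiltered.min k₁ k₂) (IsCofiltered.min k₃ k₄)) k₅,
      IsCofiltered.minToLeft _ _ ≫ IsCofiltered.minToLeft _ _ ≫ IsCofiltered.minToLeft _ _,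
      IsCofiltered.minToLeft _ _ ≫ IsCofiltered.minToLeft _ _ ≫ IsCofiltered.minToRight _ _,
      IsCofiltered.minToLeft _ _ ≫ IsCofiltered.minToRight _ _ ≫ IsCofiltered.minToLeft _ _,
      IsCofiltered.minToLeft _ _ ≫ IsCofiltered.minToRight _ _ ≫ IsCofiltered.minToRight _ _,
      IsCofiltered.minToRight _ _, trivial⟩
  have hmono : ∀ {k : Over l} (_ : n ⟶ k) {A B : Over (D.obj l)} (x y : A ⟶ B),
      (Over.pullback (D.map k.hom)).map x = (Over.pullback (D.map k.hom)).map y →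
      (Over.pullback (D.map n.hom)).map x = (Over.pullback (D.map n.hom)).map y :=
    fun {k} a {A B} x y hxy =>
      map_eq_of_map_eq (D.map a.left) (D.map k.hom) (by rw [← D.map_comp, Over.w a]) x y hxy
  have hAxn : Ax (Over.pullback (D.map n.hom)) one mul inv :=
    ⟨hmono a₁ _ _ hk₁, hmono a₂ _ _ hk₂, hmono a₃ _ _ hk₃, hmono a₄ _ _ hk₄, hmono a₅ _ _ hk₅⟩
  have hw : c.π.app n.left ≫ D.map n.hom = c.π.app l := c.w n.hom
  refine ⟨n.left, Red.bc (D.map n.hom) X, grpOfAx hAxn,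
    θ ≪≫ (ActBC.bcCompIso (c.π.app n.left) (D.map n.hom) X hw).symm, ?_,
    inferInstance, inferInstance, inferInstance⟩
  letI : GrpObj (Red.bc (D.map n.hom) X) := grpOfAx hAxn
  apply GrpLimH.isMonHom_of_mul_hom
  have e1 : μ[Red.bc (c.π.app n.left) (Red.bc (D.map n.hom) X)] =
      Functor.LaxMonoidal.μ (Over.pullback (c.π.app n.left)) _ _ ≫
        (Over.pullback (c.π.app n.left)).map
          (Functor.LaxMonoidal.μ (Over.pullback (D.map n.hom)) X X ≫
            (Over.pullback (D.map n.hom)).map mul) := rfl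
  rw [e1, Iso.trans_hom, Iso.symm_hom,
    ← cancel_mono (ActBC.bcCompIso (c.π.app n.left) (D.map n.hom) X hw).hom]
  simp only [Category.assoc, Iso.inv_hom_id, Category.comp_id, Functor.map_comp]
  rw [ActBC.bcCompIso_hom_naturality (c.π.app n.left) (D.map n.hom) hw mul,
    κ_monoidal_assoc, tensorHom_comp_tensorHom_assoc]
  simp only [Category.assoc, Iso.inv_hom_id, Category.comp_id]
  exact hμ

include hc in
theorem main [∀ i, CompactSpace (D.obj i)] [∀ i, QuasiSeparatedSpace (D.obj i)]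
    (G : Over c.pt) [GrpObj G] [LocallyOfFinitePresentation G.hom] [QuasiCompact G.hom]
    [QuasiSeparated G.hom] :
    ∃ (j : I) (Gj : Over (D.obj j)) (_ : GrpObj Gj) (e : G ≅ Red.bc (c.π.app j) Gj),
      IsMonHom e.hom ∧ LocallyOfFinitePresentation Gj.hom ∧ QuasiCompact Gj.hom ∧
        QuasiSeparated Gj.hom := by
  obtain ⟨i₀, ⟨M⟩⟩ := exists_model D c hc G.hom
  obtain ⟨B, hB1, hB2, hB3, ⟨θ₀⟩⟩ : ∃ B : Over (D.obj i₀), LocallyOfFinitePresentation B.hom ∧
      QuasiCompact B.hom ∧ QuasiSeparated B.hom ∧ Nonempty (G ≅ Red.bc (c.π.app i₀) B) :=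
    ⟨Over.mk M.p, M.lfp, M.qc, M.qs,
      ⟨Over.isoMk M.pb.isoPullback M.pb.isoPullback_hom_snd⟩⟩
  haveI := hB1
  haveI := hB2
  haveI := hB3
  haveI : CompactSpace B.left := QuasiCompact.compactSpace_of_compactSpace B.hom
  haveI : QuasiSeparatedSpace B.left := quasiSeparatedSpace_of_quasiSeparated B.hom
  haveI : CompactSpace (B ⊗ B).left := by
    show CompactSpace ↥(pullback B.hom B.hom)
    infer_instance
  haveI : QuasiSeparatedSpace (B ⊗ B).left := quasiSeparatedSpace_of_quasiSeparated (B ⊗ B).hom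
  haveI : CompactSpace (𝟙_ (Over (D.obj i₀))).left := by
    show CompactSpace ↥(D.obj i₀)
    infer_instance
  haveI : QuasiSeparatedSpace (𝟙_ (Over (D.obj i₀))).left := by
    show QuasiSeparatedSpace ↥(D.obj i₀)
    infer_instance
  obtain ⟨l₁, h₁⟩ := descAt_exists D c hc (A := B ⊗ B) (B := B)
    (Functor.OplaxMonoidal.δ (Over.pullback (c.π.app i₀)) B B ≫ (θ₀.inv ⊗ₘ θ₀.inv) ≫ μ[G] ≫
      θ₀.hom)
  obtain ⟨l₂, h₂⟩ := descAt_exists D c hc (A := 𝟙_ (Over (D.obj i₀))) (B := B)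
    (Functor.OplaxMonoidal.η (Over.pullback (c.π.app i₀)) ≫ η[G] ≫ θ₀.hom)
  obtain ⟨l₃, h₃⟩ := descAt_exists D c hc (A := B) (B := B) (θ₀.inv ≫ ι[G] ≫ θ₀.hom)
  obtain ⟨l, b₁, b₂, b₃, -⟩ : ∃ (l : Over i₀) (_ : l ⟶ l₁) (_ : l ⟶ l₂) (_ : l ⟶ l₃), True :=
    ⟨IsCofiltered.min (IsCofiltered.min l₁ l₂) l₃,
      IsCofiltered.minToLeft _ _ ≫ IsCofiltered.minToLeft _ _,
      IsCofiltered.minToLeft _ _ ≫ IsCofiltered.minToRight _ _,
      IsCofiltered.minToRight _ _, trivial⟩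
  obtain ⟨m, hm⟩ := h₁.mono D c b₁
  obtain ⟨e, he⟩ := h₂.mono D c b₂
  obtain ⟨i, hi⟩ := h₃.mono D c b₃
  have hw : c.π.app l.left ≫ D.map l.hom = c.π.app i₀ := c.w l.hom
  have hm' := GrpLimH.map_eq_of_tr (c.π.app l.left) (D.map l.hom) hw m
  rw [hm] at hm'
  have he' := GrpLimH.map_eq_of_tr (c.π.app l.left) (D.map l.hom) hw e
  rw [he] at he'
  have hi' := GrpLimH.map_eq_of_tr (c.π.app l.left) (D.map l.hom) hw i
  rw [hi] at hi'
  refine exists_grp_of_pre D c hc G l.left (Red.bc (D.map l.hom) B)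
    (θ₀ ≪≫ (ActBC.bcCompIso (c.π.app l.left) (D.map l.hom) B hw).symm)
    (Functor.LaxMonoidal.ε (Over.pullback (D.map l.hom)) ≫ e)
    (Functor.LaxMonoidal.μ (Over.pullback (D.map l.hom)) B B ≫ m) i ?_ ?_ ?_
  · rw [Functor.map_comp, he', κ_unit_assoc, Iso.trans_hom, Iso.symm_hom]
    simp only [Category.assoc, Functor.Monoidal.ε_η_assoc]
  · rw [Functor.map_comp, hm', κ_monoidal_assoc, Iso.trans_hom, Iso.symm_hom]
    simp
  · rw [hi']
    simp

end Descent

/-! ### the statement -/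

theorem s6085 {I : Type u} [SmallCategory I] [IsCofiltered I]
    (D : I ⥤ Scheme.{u}) (c : Limits.Cone D) (hc : Limits.IsLimit c)
    [∀ (i i' : I) (f : i ⟶ i'), IsAffineHom (D.map f)] [∀ i, CompactSpace (D.obj i)]
    [∀ i, QuasiSeparatedSpace (D.obj i)]
    (G : Over c.pt) [GrpObj G] [LocallyOfFinitePresentation G.hom] [QuasiCompact G.hom]
    [QuasiSeparated G.hom] :
    ∃ (j : I) (Gj : Over (D.obj j)) (_ : GrpObj Gj) (e : G ≅ Red.bc (c.π.app j) Gj),
      IsMonHom e.hom ∧ LocallyOfFinitePresentation Gj.hom ∧ QuasiCompact Gj.hom ∧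
        QuasiSeparated Gj.hom :=
  main D c hc G

end Groth.Agent.H1.GrpLimG
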