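import Mathlib
import Groth.Agent.Lib.Helper5.Lim.DescendIso
import Groth.Agent.Lib.Helper1.CritFib2
import Groth.Prelude.Def_ActBC

/-! SGA3 VI_B 10.x: being a normal (resp. central) monomorphism descends along a cofiltered limit
of quasi-compact quasi-separated schemes with affine transition maps (S6088) (helper1). -/

set_option autoImplicit false
set_option linter.style.haveILetI false
universe u

namespace Groth.Agent.H1.GrpLimN

open CategoryTheory CategoryTheory.Limits MonoidalCategory CartesianMonoidalCategory MonObj GrpObj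
  AlgebraicGeometry

/-! ### unique lifting of points -/

section Lift

variable {S T : Scheme.{u}} (t : T ⟶ S) {W V G : Over S} (θ : W ⟶ G) (v : V ⟶ G)

/-- every point `w` of `W` with values in an `S`-scheme factoring through `t` has a unique lift
`p` to `V` with `p ≫ v = w ≫ θ`. -/
def LiftAt : Prop :=
  ∀ (T' : Over T) (w : (Over.map t).obj T' ⟶ W),
    ∃! p : (Over.map t).obj T' ⟶ V, p ≫ v = w ≫ θ

/-- the base change to `T` of the projection `W ×_G V ⟶ W`. -/
noncomputable abbrev rho :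
    pullback (pullback.fst θ.left v.left) (pullback.fst W.hom t) ⟶ pullback W.hom t :=
  pullback.snd (pullback.fst θ.left v.left) (pullback.fst W.hom t)

lemma hom_of_eq {A : Scheme.{u}} (x : A ⟶ V.left) (y : A ⟶ W.left)
    (h : x ≫ v.left = y ≫ θ.left) : x ≫ V.hom = y ≫ W.hom := by
  rw [← Over.w v, ← Category.assoc, h, Category.assoc, Over.w θ]

theorem liftAt_of_isIso (h : IsIso (rho t θ v)) : LiftAt t θ v := by
  intro T' w
  haveI := h
  have hw : w.left ≫ W.hom = T'.hom ≫ t := Over.w w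
  let ŵ : T'.left ⟶ pullback W.hom t := pullback.lift w.left T'.hom hw
  have hŵq : ŵ ≫ pullback.fst W.hom t = w.left := pullback.lift_fst _ _ _
  let r : T'.left ⟶ pullback (pullback.fst θ.left v.left) (pullback.fst W.hom t) :=
    ŵ ≫ inv (rho t θ v)
  have hr : r ≫ pullback.snd (pullback.fst θ.left v.left) (pullback.fst W.hom t) = ŵ := by
    show (ŵ ≫ inv (rho t θ v)) ≫ rho t θ v = ŵ
    rw [Category.assoc, IsIso.inv_hom_id, Category.comp_id]
  have hr1 : (r ≫ pullback.fst (pullback.fst θ.left v.left) (pullback.fst W.hom t)) ≫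
      pullback.fst θ.left v.left = w.left := by
    rw [Category.assoc, pullback.condition, ← Category.assoc, hr, hŵq]
  let p₀ : T'.left ⟶ V.left :=
    (r ≫ pullback.fst (pullback.fst θ.left v.left) (pullback.fst W.hom t)) ≫
      pullback.snd θ.left v.left
  have hp₀ : p₀ ≫ v.left = w.left ≫ θ.left := by
    show ((r ≫ pullback.fst (pullback.fst θ.left v.left) (pullback.fst W.hom t)) ≫
      pullback.snd θ.left v.left) ≫ v.left = _
    rw [Category.assoc, ← pullback.condition, ← Category.assoc, hr1]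
  have hp₀' : p₀ ≫ V.hom = T'.hom ≫ t := (hom_of_eq θ v p₀ w.left hp₀).trans hw
  refine ⟨Over.homMk p₀ hp₀', ?_, ?_⟩
  · apply Over.OverMorphism.ext
    exact hp₀
  · intro p' hp'
    have hp'l : p'.left ≫ v.left = w.left ≫ θ.left :=
      congrArg (fun φ : (Over.map t).obj T' ⟶ G => φ.left) hp'
    let r' : T'.left ⟶ pullback (pullback.fst θ.left v.left) (pullback.fst W.hom t) :=
      pullback.lift (pullback.lift w.left p'.left hp'l.symm) ŵ
        (by rw [pullback.lift_fst, hŵq])
    have hr' : r' ≫ pullback.snd (pullback.fst θ.left v.left) (pullback.fst W.hom t) = ŵ :=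
      pullback.lift_snd _ _ _
    have hrr : r' = r := by
      rw [← cancel_mono (rho t θ v)]
      exact hr'.trans hr.symm
    have h1 : (r' ≫ pullback.fst (pullback.fst θ.left v.left) (pullback.fst W.hom t)) ≫
        pullback.snd θ.left v.left = p'.left := by
      rw [pullback.lift_fst, pullback.lift_snd]
    apply Over.OverMorphism.ext
    show p'.left = p₀
    rw [← h1, hrr]

theorem isIso_of_liftAt (h : LiftAt t θ v) : IsIso (rho t θ v) := by
  let T' : Over T := Over.mk (pullback.snd W.hom t)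
  let w : (Over.map t).obj T' ⟶ W := Over.homMk (pullback.fst W.hom t) (by
    show pullback.fst W.hom t ≫ W.hom = pullback.snd W.hom t ≫ t
    exact pullback.condition)
  obtain ⟨p, hp, -⟩ := h T' w
  have hpl : p.left ≫ v.left = pullback.fst W.hom t ≫ θ.left :=
    congrArg (fun φ : (Over.map t).obj T' ⟶ G => φ.left) hp
  let s : pullback W.hom t ⟶ pullback (pullback.fst θ.left v.left) (pullback.fst W.hom t) :=
    pullback.lift (pullback.lift (pullback.fst W.hom t) p.left hpl.symm) (𝟙 _)
      (by rw [pullback.lift_fst, Category.id_comp])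
  have hs : s ≫ rho t θ v = 𝟙 _ := pullback.lift_snd _ _ _
  let T'' : Over T := Over.mk (rho t θ v ≫ pullback.snd W.hom t)
  let w'' : (Over.map t).obj T'' ⟶ W := Over.homMk (rho t θ v ≫ pullback.fst W.hom t) (by
    show (rho t θ v ≫ pullback.fst W.hom t) ≫ W.hom = (rho t θ v ≫ pullback.snd W.hom t) ≫ t
    rw [Category.assoc, Category.assoc, pullback.condition])
  have e1 : (pullback.fst (pullback.fst θ.left v.left) (pullback.fst W.hom t) ≫
      pullback.snd θ.left v.left) ≫ v.left = (rho t θ v ≫ pullback.fst W.hom t) ≫ θ.left := by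
    rw [Category.assoc, ← pullback.condition, ← Category.assoc]
    congr 1
    exact pullback.condition
  have e2 : (rho t θ v ≫ p.left) ≫ v.left = (rho t θ v ≫ pullback.fst W.hom t) ≫ θ.left := by
    rw [Category.assoc, hpl, Category.assoc]
  let p₁ : (Over.map t).obj T'' ⟶ V :=
    Over.homMk (pullback.fst (pullback.fst θ.left v.left) (pullback.fst W.hom t) ≫
      pullback.snd θ.left v.left) ((hom_of_eq θ v _ _ e1).trans (Over.w w''))
  let p₂ : (Over.map t).obj T'' ⟶ V :=
    Over.homMk (rho t θ v ≫ p.left) ((hom_of_eq θ v _ _ e2).trans (Over.w w''))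
  obtain ⟨p₃, -, huniq⟩ := h T'' w''
  have h1 : p₁ = p₃ := huniq p₁ (by apply Over.OverMorphism.ext; exact e1)
  have h2 : p₂ = p₃ := huniq p₂ (by apply Over.OverMorphism.ext; exact e2)
  have e3 : pullback.fst (pullback.fst θ.left v.left) (pullback.fst W.hom t) ≫
      pullback.snd θ.left v.left = rho t θ v ≫ p.left :=
    congrArg (fun φ : (Over.map t).obj T'' ⟶ V => φ.left) (h1.trans h2.symm)
  have hs' : rho t θ v ≫ s = 𝟙 _ := by
    apply pullback.hom_ext
    · rw [Category.assoc, pullback.lift_fst, Category.id_comp]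
      apply pullback.hom_ext
      · rw [Category.assoc, pullback.lift_fst]
        exact pullback.condition.symm
      · rw [Category.assoc, pullback.lift_snd]
        exact e3.symm
    · rw [Category.assoc, pullback.lift_snd, Category.comp_id, Category.id_comp]
  exact ⟨s, hs', hs⟩

theorem isIso_rho_of_comp {T₂ : Scheme.{u}} (σ : T₂ ⟶ T) (t₂ : T₂ ⟶ S) (e : σ ≫ t = t₂)
    (h : IsIso (rho t θ v)) : IsIso (rho t₂ θ v) := by
  subst e
  let b : pullback W.hom (σ ≫ t) ⟶ pullback W.hom t :=
    pullback.lift (pullback.fst _ _) (pullback.snd _ _ ≫ σ)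
      (by rw [Category.assoc]; exact pullback.condition)
  have hb : pullback.fst W.hom (σ ≫ t) = b ≫ pullback.fst W.hom t :=
    (pullback.lift_fst _ _ _).symm
  have h1 : (MorphismProperty.isomorphisms Scheme.{u})
      (pullback.snd (pullback.fst θ.left v.left) (b ≫ pullback.fst W.hom t)) :=
    Groth.Agent.H5.Lim.bc_of_comp (P := MorphismProperty.isomorphisms Scheme.{u}) _ _ b h
  exact (Groth.Agent.H5.Lim.bc_congr (P := MorphismProperty.isomorphisms Scheme.{u}) _ hb).mpr h1

end Lift

/-! ### translation of the properties of the base change into unique lifting -/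

section Trans

variable {S T : Scheme.{u}} (t : T ⟶ S) {G H : Over S} [GrpObj G] [GrpObj H] (u : H ⟶ G)

/-- the adjunction bijection on points. -/
noncomputable abbrev e (T' : Over T) (X : Over S) :
    ((Over.map t).obj T' ⟶ X) ≃ (T' ⟶ Red.bc t X) :=
  (Over.mapPullbackAdj t).homEquiv T' X

omit [GrpObj G] [GrpObj H] in
lemma e_comp {X Y : Over S} (T' : Over T) (h : (Over.map t).obj T' ⟶ X) (φ : X ⟶ Y) :
    e t T' Y (h ≫ φ) = e t T' X h ≫ (Over.pullback t).map φ :=
  Adjunction.homEquiv_naturality_right _ _ _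

omit [GrpObj H] in
lemma e_mul (T' : Over T) (g g' : (Over.map t).obj T' ⟶ G) :
    e t T' G (g * g') = e t T' G g * e t T' G g' := AlgGrp.Action.homEquiv_mul t g g'

/-- the adjunction bijection as a group homomorphism. -/
noncomputable def eHom (T' : Over T) : ((Over.map t).obj T' ⟶ G) →* (T' ⟶ Red.bc t G) :=
  MonoidHom.mk' (e t T' G) (e_mul t T')

omit [GrpObj H] in
lemma e_inv (T' : Over T) (g : (Over.map t).obj T' ⟶ G) :
    e t T' G g⁻¹ = (e t T' G g)⁻¹ := map_inv (eHom t T') g

/-- the conjugation morphism `(g, n) ↦ g u(n) g⁻¹`. -/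
noncomputable def conj : G ⊗ H ⟶ G := fst G H * (snd G H ≫ u) * (fst G H)⁻¹

/-- the commutator morphism `(g, n) ↦ (g u(n)) (u(n) g)⁻¹`. -/
noncomputable def comm : G ⊗ H ⟶ G := (fst G H * (snd G H ≫ u)) * ((snd G H ≫ u) * fst G H)⁻¹

omit [GrpObj H] in
lemma comp_conj {A : Over S} (w : A ⟶ G ⊗ H) :
    w ≫ conj u = (w ≫ fst G H) * (w ≫ snd G H ≫ u) * (w ≫ fst G H)⁻¹ := by
  unfold conj
  rw [MonObj.comp_mul, MonObj.comp_mul, GrpObj.comp_inv]

omit [GrpObj H] in
lemma comp_comm {A : Over S} (w : A ⟶ G ⊗ H) :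
    w ≫ comm u = ((w ≫ fst G H) * (w ≫ snd G H ≫ u)) * ((w ≫ snd G H ≫ u) * (w ≫ fst G H))⁻¹ := by
  unfold comm
  rw [MonObj.comp_mul, MonObj.comp_mul, GrpObj.comp_inv, MonObj.comp_mul]

omit [GrpObj G] [GrpObj H] in
lemma e_snd_u (T' : Over T) (w : (Over.map t).obj T' ⟶ G ⊗ H) :
    e t T' G (w ≫ snd G H ≫ u) = e t T' H (w ≫ snd G H) ≫ (Over.pullback t).map u := by
  rw [← Category.assoc, e_comp]

omit [GrpObj G] [GrpObj H] in
theorem mono_iff_liftAt : Mono ((Over.pullback t).map u) ↔ LiftAt t u u := by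
  constructor
  · intro hm T' w
    refine ⟨w, rfl, fun p hp => ?_⟩
    have h1 : e t T' H p ≫ (Over.pullback t).map u = e t T' H w ≫ (Over.pullback t).map u := by
      rw [← e_comp, ← e_comp, hp]
    exact (e t T' H).injective ((cancel_mono _).1 h1)
  · intro hl
    constructor
    intro T' g h hgh
    obtain ⟨p, -, huniq⟩ := hl T' ((e t T' H).symm h)
    have h1 : (e t T' H).symm g ≫ u = (e t T' H).symm h ≫ u := by
      apply (e t T' G).injective
      rw [e_comp, e_comp, Equiv.apply_symm_apply, Equiv.apply_symm_apply, hgh]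
    have h2 : (e t T' H).symm g = p := huniq _ h1
    have h3 : (e t T' H).symm h = p := huniq _ rfl
    exact (e t T' H).symm.injective (h2.trans h3.symm)

theorem normal_iff_liftAt (hm : LiftAt t u u) :
    AlgGrp.IsNormalHom ((Over.pullback t).map u) ↔ LiftAt t (conj u) u := by
  have hR : ∀ (T' : Over T) (w : (Over.map t).obj T' ⟶ G ⊗ H),
      e t T' G (w ≫ conj u) = e t T' G (w ≫ fst G H) *
        (e t T' H (w ≫ snd G H) ≫ (Over.pullback t).map u) * (e t T' G (w ≫ fst G H))⁻¹ := by
    intro T' w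
    rw [comp_conj, e_mul, e_mul, e_inv, e_snd_u]
  constructor
  · intro hn T' w
    obtain ⟨n', hn'⟩ := hn T' (e t T' G (w ≫ fst G H)) (e t T' H (w ≫ snd G H))
    have key : (e t T' H).symm n' ≫ u = w ≫ conj u := by
      apply (e t T' G).injective
      have hL : e t T' G ((e t T' H).symm n' ≫ u) = n' ≫ (Over.pullback t).map u := by
        rw [e_comp, Equiv.apply_symm_apply]
      exact hL.trans (hn'.symm.trans (hR T' w).symm)
    refine ⟨(e t T' H).symm n', key, fun p hp => ?_⟩
    obtain ⟨p₀, -, huniq⟩ := hm T' p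
    exact (huniq p rfl).trans (huniq _ (key.trans hp.symm)).symm
  · intro hl T' g n
    obtain ⟨p, hp, -⟩ := hl T' (lift ((e t T' G).symm g) ((e t T' H).symm n))
    refine ⟨e t T' H p, ?_⟩
    have h1 := hR T' (lift ((e t T' G).symm g) ((e t T' H).symm n))
    rw [lift_fst, lift_snd, Equiv.apply_symm_apply, Equiv.apply_symm_apply] at h1
    rw [← e_comp, hp, h1]

omit [GrpObj H] in
theorem central_iff_liftAt :
    (∀ (T' : Over T) (g : T' ⟶ Red.bc t G) (n : T' ⟶ Red.bc t H),
      g * (n ≫ (Over.pullback t).map u) = (n ≫ (Over.pullback t).map u) * g) ↔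
    LiftAt t (comm u) η[G] := by
  constructor
  · intro hc T' w
    have key : w ≫ comm u = 1 := by
      rw [comp_comm, mul_inv_eq_one]
      apply (e t T' G).injective
      rw [e_mul, e_mul, e_snd_u]
      exact hc T' _ _
    refine ⟨toUnit _, ?_, fun p _ => toUnit_unique _ _⟩
    rw [key]
    exact Hom.one_def.symm
  · intro hl T' g n
    obtain ⟨p, hp, -⟩ := hl T' (lift ((e t T' G).symm g) ((e t T' H).symm n))
    have h1 : p ≫ η[G] = 1 := by
      rw [toUnit_unique p (toUnit _)]
      exact Hom.one_def.symm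
    rw [h1, comp_comm, eq_comm, mul_inv_eq_one, lift_fst, lift_snd_assoc] at hp
    have h2 := congrArg (e t T' G) hp
    rw [e_mul, e_mul, e_comp, Equiv.apply_symm_apply, Equiv.apply_symm_apply] at h2
    exact h2

end Trans

/-! ### descent along the limit -/

section Descent

variable {I : Type u} [SmallCategory I] [IsCofiltered I] (D : I ⥤ Scheme.{u}) (c : Cone D)
  (hc : IsLimit c) [∀ (i i' : I) (f : i ⟶ i'), IsAffineHom (D.map f)]

include hc in
theorem exists_isIso_rho (j : I) {W V G : Over (D.obj j)} (θ : W ⟶ G) (v : V ⟶ G)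
    [CompactSpace W.left] [LocallyOfFinitePresentation v.left] [QuasiCompact v.left]
    [QuasiSeparated v.left] (h : IsIso (rho (c.π.app j) θ v)) :
    ∃ k : Over j, IsIso (rho (D.map k.hom) θ v) := by
  have hΦ : (@LocallyOfFinitePresentation ⊓ (@QuasiCompact ⊓ @QuasiSeparated) :
      MorphismProperty Scheme.{u}) (pullback.fst θ.left v.left) :=
    ⟨inferInstance, inferInstance, inferInstance⟩
  exact Groth.Agent.H5.Lim.exists_descend_core D c hc
    Groth.Agent.H5.Lim.affineSystemDescent_isomorphisms j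
    (pullback.fst θ.left v.left) W.hom hΦ h

include hc in
theorem pair_descent (j : I) {G W₁ V₁ W₂ V₂ : Over (D.obj j)} (θ₁ : W₁ ⟶ G) (v₁ : V₁ ⟶ G)
    (θ₂ : W₂ ⟶ G) (v₂ : V₂ ⟶ G) [CompactSpace W₁.left] [CompactSpace W₂.left]
    [LocallyOfFinitePresentation v₁.left] [QuasiCompact v₁.left] [QuasiSeparated v₁.left]
    [LocallyOfFinitePresentation v₂.left] [QuasiCompact v₂.left] [QuasiSeparated v₂.left] :
    (IsIso (rho (c.π.app j) θ₁ v₁) ∧ IsIso (rho (c.π.app j) θ₂ v₂)) ↔
      ∃ (i : I) (f : i ⟶ j), IsIso (rho (D.map f) θ₁ v₁) ∧ IsIso (rho (D.map f) θ₂ v₂) := by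
  constructor
  · rintro ⟨h1, h2⟩
    obtain ⟨k₁, hk₁⟩ := exists_isIso_rho D c hc j θ₁ v₁ h1
    obtain ⟨k₂, hk₂⟩ := exists_isIso_rho D c hc j θ₂ v₂ h2
    refine ⟨(IsCofiltered.min k₁ k₂).left, (IsCofiltered.min k₁ k₂).hom, ?_, ?_⟩
    · exact isIso_rho_of_comp (D.map k₁.hom) θ₁ v₁ (D.map (IsCofiltered.minToLeft k₁ k₂).left) _
        (by rw [← D.map_comp, Over.w]) hk₁
    · exact isIso_rho_of_comp (D.map k₂.hom) θ₂ v₂ (D.map (IsCofiltered.minToRight k₁ k₂).left) _
        (by rw [← D.map_comp, Over.w]) hk₂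
  · rintro ⟨i, f, h1, h2⟩
    exact ⟨isIso_rho_of_comp (D.map f) θ₁ v₁ (c.π.app i) _ (c.w f) h1,
      isIso_rho_of_comp (D.map f) θ₂ v₂ (c.π.app i) _ (c.w f) h2⟩

end Descent

/-! ### the statement -/

section Main

variable {S : Scheme.{u}} {G H : Over S} [GrpObj G] [GrpObj H] (u : H ⟶ G)

theorem mono_normal_iff {T : Scheme.{u}} (t : T ⟶ S) :
    (Mono ((Over.pullback t).map u) ∧ AlgGrp.IsNormalHom ((Over.pullback t).map u)) ↔
      (IsIso (rho t u u) ∧ IsIso (rho t (conj u) u)) := by
  constructor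
  · rintro ⟨hm, hn⟩
    have hl := (mono_iff_liftAt t u).1 hm
    exact ⟨isIso_of_liftAt t u u hl, isIso_of_liftAt t _ u ((normal_iff_liftAt t u hl).1 hn)⟩
  · rintro ⟨h1, h2⟩
    have hl := liftAt_of_isIso t u u h1
    exact ⟨(mono_iff_liftAt t u).2 hl, (normal_iff_liftAt t u hl).2 (liftAt_of_isIso t _ u h2)⟩

omit [GrpObj H] in
theorem mono_central_iff {T : Scheme.{u}} (t : T ⟶ S) :
    (Mono ((Over.pullback t).map u) ∧
      (∀ (T' : Over T) (g : T' ⟶ Red.bc t G) (n : T' ⟶ Red.bc t H),
        g * (n ≫ (Over.pullback t).map u) = (n ≫ (Over.pullback t).map u) * g)) ↔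
      (IsIso (rho t u u) ∧ IsIso (rho t (comm u) η[G])) := by
  constructor
  · rintro ⟨hm, hn⟩
    exact ⟨isIso_of_liftAt t u u ((mono_iff_liftAt t u).1 hm),
      isIso_of_liftAt t _ _ ((central_iff_liftAt t u).1 hn)⟩
  · rintro ⟨h1, h2⟩
    exact ⟨(mono_iff_liftAt t u).2 (liftAt_of_isIso t u u h1),
      (central_iff_liftAt t u).2 (liftAt_of_isIso t _ _ h2)⟩

end Main

theorem s6088 {I : Type u} [SmallCategory I] [IsCofiltered I]
    (D : I ⥤ Scheme.{u}) (c : Limits.Cone D) (hc : Limits.IsLimit c)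
    [∀ (i i' : I) (f : i ⟶ i'), IsAffineHom (D.map f)] [∀ i, CompactSpace (D.obj i)]
    [∀ i, QuasiSeparatedSpace (D.obj i)]
    (j : I) (Gj Hj : Over (D.obj j)) [GrpObj Gj] [GrpObj Hj]
    [LocallyOfFinitePresentation Gj.hom] [QuasiCompact Gj.hom] [QuasiSeparated Gj.hom]
    [LocallyOfFinitePresentation Hj.hom] [QuasiCompact Hj.hom] [QuasiSeparated Hj.hom]
    (uj : Hj ⟶ Gj) [IsMonHom uj] :
    ((Mono ((Over.pullback (c.π.app j)).map uj) ∧
        AlgGrp.IsNormalHom ((Over.pullback (c.π.app j)).map uj)) ↔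
      ∃ (i : I) (f : i ⟶ j), Mono ((Over.pullback (D.map f)).map uj) ∧
        AlgGrp.IsNormalHom ((Over.pullback (D.map f)).map uj)) ∧
    ((Mono ((Over.pullback (c.π.app j)).map uj) ∧
        (∀ (T : Over c.pt) (g : T ⟶ (Red.bc (c.π.app j) Gj)) (n : T ⟶ (Red.bc (c.π.app j) Hj)),
          g * (n ≫ ((Over.pullback (c.π.app j)).map uj)) =
            (n ≫ ((Over.pullback (c.π.app j)).map uj)) * g)) ↔
      ∃ (i : I) (f : i ⟶ j), Mono ((Over.pullback (D.map f)).map uj) ∧
        (∀ (T : Over (D.obj i)) (g : T ⟶ (Red.bc (D.map f) Gj)) (n : T ⟶ (Red.bc (D.map f) Hj)),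
          g * (n ≫ ((Over.pullback (D.map f)).map uj)) =
            (n ≫ ((Over.pullback (D.map f)).map uj)) * g)) := by
  haveI : CompactSpace Gj.left := QuasiCompact.compactSpace_of_compactSpace Gj.hom
  haveI : CompactSpace Hj.left := QuasiCompact.compactSpace_of_compactSpace Hj.hom
  haveI : CompactSpace (Gj ⊗ Hj).left := by
    show CompactSpace ↥(pullback Gj.hom Hj.hom)
    infer_instance
  haveI : LocallyOfFinitePresentation (uj.left ≫ Gj.hom) := by rw [Over.w uj]; infer_instance
  haveI : QuasiCompact (uj.left ≫ Gj.hom) := by rw [Over.w uj]; infer_instance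
  haveI : QuasiSeparated (uj.left ≫ Gj.hom) := by rw [Over.w uj]; infer_instance
  haveI : LocallyOfFinitePresentation uj.left :=
    Groth.Agent.H1.CritFib.locallyOfFinitePresentation_of_comp uj.left Gj.hom
  haveI : QuasiCompact uj.left := QuasiCompact.of_comp uj.left Gj.hom
  haveI : QuasiSeparated uj.left := QuasiSeparated.of_comp uj.left Gj.hom
  have hη : η[Gj].left ≫ Gj.hom = 𝟙 _ := Over.w η[Gj]
  haveI : LocallyOfFinitePresentation (η[Gj].left ≫ Gj.hom) := by rw [hη]; infer_instance
  haveI : QuasiCompact (η[Gj].left ≫ Gj.hom) := by rw [hη]; infer_instance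
  haveI : QuasiSeparated (η[Gj].left ≫ Gj.hom) := by rw [hη]; infer_instance
  haveI : LocallyOfFinitePresentation η[Gj].left :=
    Groth.Agent.H1.CritFib.locallyOfFinitePresentation_of_comp η[Gj].left Gj.hom
  haveI : QuasiCompact η[Gj].left := QuasiCompact.of_comp η[Gj].left Gj.hom
  haveI : QuasiSeparated η[Gj].left := QuasiSeparated.of_comp η[Gj].left Gj.hom
  constructor
  · refine (mono_normal_iff uj (c.π.app j)).trans
      ((pair_descent D c hc j uj uj (conj uj) uj).trans ?_)
    exact exists_congr fun i => exists_congr fun f => (mono_normal_iff uj (D.map f)).symm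
  · refine (mono_central_iff uj (c.π.app j)).trans
      ((pair_descent D c hc j uj uj (comm uj) η[Gj]).trans ?_)
    exact exists_congr fun i => exists_congr fun f => (mono_central_iff uj (D.map f)).symm

end Groth.Agent.H1.GrpLimN
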