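import Mathlib
import Groth.Agent.Lib.Helper1.GrpLimH
import Groth.Agent.Lib.Helper1.GrpLimT
import Groth.Agent.Lib.Helper1.FpqcDescent
import Groth.Agent.S0114

/-! SGA3 VI_B 10.x: representability of the quotient of a finitely presented scheme by an fppf
equivalence relation (resp. of a group by a flat subgroup) over a cofiltered limit of quasi-compact
quasi-separated schemes with affine transition maps descends to a finite stage (S6091, S6087)
(helper1). -/

set_option autoImplicit false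
set_option linter.style.haveILetI false
universe u

namespace Groth.Agent.H1.GrpLimQ

open CategoryTheory CategoryTheory.Limits MonoidalCategory CartesianMonoidalCategory MonObj GrpObj
  AlgebraicGeometry

/-! ### generalities -/

local instance lfp_bc {T T' : Scheme.{u}} (τ : T' ⟶ T) (X : Over T) [LocallyOfFinitePresentation X.hom] :
    LocallyOfFinitePresentation (Red.bc τ X).hom :=
  MorphismProperty.pullback_snd (P := @LocallyOfFinitePresentation) _ _ inferInstance

local instance qc_bc {T T' : Scheme.{u}} (τ : T' ⟶ T) (X : Over T) [QuasiCompact X.hom] : QuasiCompact (Red.bc τ X).hom :=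
  MorphismProperty.pullback_snd (P := @QuasiCompact) _ _ inferInstance

local instance qs_bc {T T' : Scheme.{u}} (τ : T' ⟶ T) (X : Over T) [QuasiSeparated X.hom] : QuasiSeparated (Red.bc τ X).hom :=
  MorphismProperty.pullback_snd (P := @QuasiSeparated) _ _ inferInstance



section Gen

theorem isPullback_iff_of_iso {C : Type*} [Category C] {P X Y Z P' X' Y' Z' : C}
    {a : P ⟶ X} {b : P ⟶ Y} {f : X ⟶ Z} {g : Y ⟶ Z}
    {a' : P' ⟶ X'} {b' : P' ⟶ Y'} {f' : X' ⟶ Z'} {g' : Y' ⟶ Z'}
    (e₁ : P ≅ P') (e₂ : X ≅ X') (e₃ : Y ≅ Y') (e₄ : Z ≅ Z')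
    (comma : a ≫ e₂.hom = e₁.hom ≫ a') (commb : b ≫ e₃.hom = e₁.hom ≫ b')
    (commf : f ≫ e₄.hom = e₂.hom ≫ f') (commg : g ≫ e₄.hom = e₃.hom ≫ g') :
    IsPullback a b f g ↔ IsPullback a' b' f' g' := by
  constructor
  · intro h
    exact IsPullback.of_iso h e₁ e₂ e₃ e₄ comma commb commf commg
  · intro h
    refine IsPullback.of_iso h e₁.symm e₂.symm e₃.symm e₄.symm ?_ ?_ ?_ ?_
    · rw [Iso.symm_hom, Iso.symm_hom, Iso.comp_inv_eq, Category.assoc, Iso.eq_inv_comp]
      exact comma.symm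
    · rw [Iso.symm_hom, Iso.symm_hom, Iso.comp_inv_eq, Category.assoc, Iso.eq_inv_comp]
      exact commb.symm
    · rw [Iso.symm_hom, Iso.symm_hom, Iso.comp_inv_eq, Category.assoc, Iso.eq_inv_comp]
      exact commf.symm
    · rw [Iso.symm_hom, Iso.symm_hom, Iso.comp_inv_eq, Category.assoc, Iso.eq_inv_comp]
      exact commg.symm

theorem isIso_map_lift_iff {C E : Type*} [Category C] [Category E] (F : C ⥤ E) {R A B : C}
    (s t : R ⟶ A) (p : A ⟶ B) [HasPullback p p] [PreservesLimit (cospan p p) F]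
    (w : s ≫ p = t ≫ p) :
    IsIso (F.map (pullback.lift s t w)) ↔
      IsPullback (F.map s) (F.map t) (F.map p) (F.map p) := by
  have hP : IsPullback (F.map (pullback.fst p p)) (F.map (pullback.snd p p)) (F.map p)
      (F.map p) := (IsPullback.of_hasPullback p p).map F
  have h1 : F.map (pullback.lift s t w) ≫ F.map (pullback.fst p p) = F.map s := by
    rw [← F.map_comp, pullback.lift_fst]
  have h2 : F.map (pullback.lift s t w) ≫ F.map (pullback.snd p p) = F.map t := by
    rw [← F.map_comp, pullback.lift_snd]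
  constructor
  · intro hi
    haveI := hi
    refine IsPullback.of_iso hP (asIso (F.map (pullback.lift s t w))).symm (Iso.refl _)
      (Iso.refl _) (Iso.refl _) ?_ ?_ ?_ ?_
    · rw [Iso.refl_hom, Category.comp_id, Iso.symm_hom, asIso_inv, IsIso.eq_inv_comp]
      exact h1
    · rw [Iso.refl_hom, Category.comp_id, Iso.symm_hom, asIso_inv, IsIso.eq_inv_comp]
      exact h2
    · simp
    · simp
  · intro hQ
    have e : F.map (pullback.lift s t w) = (hQ.isoIsPullback _ _ hP).hom := by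
      apply hP.hom_ext
      · rw [h1, IsPullback.isoIsPullback_hom_fst]
      · rw [h2, IsPullback.isoIsPullback_hom_snd]
    rw [e]
    infer_instance

end Gen

/-! ### base change of morphisms of `Over` -/

section BC

variable {T T' : Scheme.{u}} (τ : T' ⟶ T) {A B : Over T} (v : A ⟶ B)

lemma isPullback_map_left :
    IsPullback ((Over.pullback τ).map v).left (pullback.fst A.hom τ) (pullback.fst B.hom τ)
      v.left := by
  refine IsPullback.of_right ?_ ?_ (IsPullback.of_hasPullback B.hom τ).flip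
  · have h1 : ((Over.pullback τ).map v).left ≫ pullback.snd B.hom τ = pullback.snd A.hom τ :=
      Over.w ((Over.pullback τ).map v)
    have h2 : v.left ≫ B.hom = A.hom := Over.w v
    rw [h1, h2]
    exact (IsPullback.of_hasPullback A.hom τ).flip
  · exact pullback.lift_fst _ _ _

lemma map_left_iff (P : MorphismProperty Scheme.{u}) [P.RespectsIso] :
    P ((Over.pullback τ).map v).left ↔ P (pullback.snd v.left (pullback.fst B.hom τ)) := by
  have hsq := (isPullback_map_left τ v).flip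
  have e : hsq.isoPullback.hom ≫ pullback.snd v.left (pullback.fst B.hom τ) =
      ((Over.pullback τ).map v).left := hsq.isoPullback_hom_snd
  rw [← e]
  exact P.cancel_left_of_respectsIso _ _

lemma isIso_map_iff :
    IsIso ((Over.pullback τ).map v) ↔
      MorphismProperty.isomorphisms Scheme.{u}
        (pullback.snd v.left (pullback.fst B.hom τ)) := by
  rw [← map_left_iff τ v (MorphismProperty.isomorphisms Scheme.{u})]
  constructor
  · intro h
    exact (inferInstance : IsIso ((Over.forget _).map ((Over.pullback τ).map v)))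
  · intro h
    haveI : IsIso ((Over.forget _).map ((Over.pullback τ).map v)) := h
    exact isIso_of_reflects_iso _ (Over.forget _)

lemma fp_pullback_over [LocallyOfFinitePresentation A.hom] [QuasiCompact A.hom]
    [QuasiSeparated A.hom] [LocallyOfFinitePresentation v.left] [QuasiCompact v.left]
    [QuasiSeparated v.left] :
    LocallyOfFinitePresentation (pullback v v).hom ∧ QuasiCompact (pullback v v).hom ∧
      QuasiSeparated (pullback v v).hom := by
  have hsq : IsPullback (pullback.fst v v).left (pullback.snd v v).left v.left v.left :=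
    (IsPullback.of_hasPullback v v).map (Over.forget _)
  have hw : (pullback.fst v v).left ≫ A.hom = (pullback v v).hom := Over.w (pullback.fst v v)
  haveI : LocallyOfFinitePresentation (pullback.fst v v).left :=
    MorphismProperty.of_isPullback (P := @LocallyOfFinitePresentation) hsq.flip inferInstance
  haveI : QuasiCompact (pullback.fst v v).left :=
    MorphismProperty.of_isPullback (P := @QuasiCompact) hsq.flip inferInstance
  haveI : QuasiSeparated (pullback.fst v v).left :=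
    MorphismProperty.of_isPullback (P := @QuasiSeparated) hsq.flip inferInstance
  rw [← hw]
  exact ⟨inferInstance, inferInstance, inferInstance⟩

end BC

/-! ### the quotient predicate -/

section QP

variable {S : Scheme.{u}} {X R : Over S} (s t : R ⟶ X)

/-- `p` exhibits `Y` as the fppf quotient of `X_T` by `R_T`. -/
def QP {T : Scheme.{u}} (τ : T ⟶ S) (Y : Over T) (p : Red.bc τ X ⟶ Y) : Prop :=
  Flat p.left ∧ Surjective p.left ∧ LocallyOfFinitePresentation p.left ∧
    IsPullback ((Over.pullback τ).map s) ((Over.pullback τ).map t) p p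

/-- the quotient of `X_T` by `R_T` is representable. -/
def Qt {T : Scheme.{u}} (τ : T ⟶ S) : Prop :=
  ∃ (Y : Over T) (p : Red.bc τ X ⟶ Y), QP s t τ Y p

variable {T T₂ : Scheme.{u}} (σ : T₂ ⟶ T) (τ : T ⟶ S) {τ₂ : T₂ ⟶ S} (h : σ ≫ τ = τ₂)

lemma qp_transport {Y₁ Y₂ : Over T₂} (e : Y₁ ≅ Y₂)
    (p₁ : Red.bc σ (Red.bc τ X) ⟶ Y₁) (p₂ : Red.bc τ₂ X ⟶ Y₂)
    (hp : p₁ ≫ e.hom = (ActBC.bcCompIso σ τ X h).hom ≫ p₂) :
    QP ((Over.pullback τ).map s) ((Over.pullback τ).map t) σ Y₁ p₁ ↔ QP s t τ₂ Y₂ p₂ := by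
  have hl : p₁.left ≫ e.hom.left = (ActBC.bcCompIso σ τ X h).hom.left ≫ p₂.left := by
    rw [← Over.comp_left, ← Over.comp_left, hp]
  haveI : IsIso e.hom.left := inferInstanceAs (IsIso ((Over.forget _).map e.hom))
  haveI : IsIso (ActBC.bcCompIso σ τ X h).hom.left :=
    inferInstanceAs (IsIso ((Over.forget _).map (ActBC.bcCompIso σ τ X h).hom))
  have key : ∀ (P : MorphismProperty Scheme.{u}) [P.RespectsIso], P p₁.left ↔ P p₂.left := by
    intro P _
    rw [← P.cancel_right_of_respectsIso p₁.left e.hom.left, hl, P.cancel_left_of_respectsIso]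
  exact and_congr (key @Flat) (and_congr (key @Surjective)
    (and_congr (key @LocallyOfFinitePresentation)
      (isPullback_iff_of_iso (ActBC.bcCompIso σ τ R h) (ActBC.bcCompIso σ τ X h)
        (ActBC.bcCompIso σ τ X h) e (ActBC.bcCompIso_hom_naturality σ τ h s)
        (ActBC.bcCompIso_hom_naturality σ τ h t) hp hp)))

lemma qp_map {Y : Over T} (p : Red.bc τ X ⟶ Y) (hp : QP s t τ Y p) :
    QP ((Over.pullback τ).map s) ((Over.pullback τ).map t) σ (Red.bc σ Y)
      ((Over.pullback σ).map p) := by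
  obtain ⟨h1, h2, h3, h4⟩ := hp
  exact ⟨MorphismProperty.overPullbackMap (P := @Flat) σ p h1,
    MorphismProperty.overPullbackMap (P := @Surjective) σ p h2,
    MorphismProperty.overPullbackMap (P := @LocallyOfFinitePresentation) σ p h3,
    h4.map (Over.pullback σ)⟩

include h in
lemma qt_transport (hq : Qt ((Over.pullback τ).map s) ((Over.pullback τ).map t) σ) :
    Qt s t τ₂ := by
  obtain ⟨Y, p, hp⟩ := hq
  refine ⟨Y, (ActBC.bcCompIso σ τ X h).inv ≫ p, ?_⟩
  refine (qp_transport s t σ τ h (Iso.refl _) p _ ?_).1 hp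
  rw [Iso.refl_hom, Category.comp_id, Iso.hom_inv_id_assoc]

include h in
lemma qt_comp (hq : Qt s t τ) : Qt s t τ₂ := by
  obtain ⟨Y, p, hp⟩ := hq
  exact qt_transport s t σ τ h ⟨_, _, qp_map s t σ τ p hp⟩

lemma map_comp_tr {A B : Over S} (s' : R ⟶ A) (v : Red.bc τ A ⟶ Red.bc τ B) :
    (Over.pullback τ₂).map s' ≫ GrpLimH.tr σ τ h v =
      (ActBC.bcCompIso σ τ R h).inv ≫ (Over.pullback σ).map ((Over.pullback τ).map s' ≫ v) ≫
        (ActBC.bcCompIso σ τ B h).hom := by
  unfold GrpLimH.tr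
  rw [Iso.eq_inv_comp, ← ActBC.bcCompIso_hom_naturality_assoc σ τ h s', Iso.hom_inv_id_assoc,
    Functor.map_comp, Category.assoc]

end QP

/-! ### the quotient is of finite presentation -/

theorem fp_of_quot {S : Scheme.{u}} [CompactSpace S] [QuasiSeparatedSpace S] {X' R' Y : Over S}
    [LocallyOfFinitePresentation X'.hom] [QuasiCompact X'.hom] [QuasiSeparated X'.hom]
    [QuasiCompact R'.hom] (s' t' : R' ⟶ X') (p : X' ⟶ Y) (h1 : Flat p.left)
    (h2 : Surjective p.left) (h3 : LocallyOfFinitePresentation p.left)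
    (h4 : IsPullback s' t' p p) :
    LocallyOfFinitePresentation Y.hom ∧ QuasiCompact Y.hom ∧ QuasiSeparated Y.hom := by
  haveI := h1
  haveI := h2
  haveI := h3
  have hpw : p.left ≫ Y.hom = X'.hom := Over.w p
  haveI : LocallyOfFinitePresentation (p.left ≫ Y.hom) := by rw [hpw]; infer_instance
  haveI : QuasiSeparated (p.left ≫ Y.hom) := by rw [hpw]; infer_instance
  have hlfp : LocallyOfFinitePresentation Y.hom := Groth.Agent.S0114.result p.left Y.hom
  haveI : CompactSpace X'.left := QuasiCompact.compactSpace_of_compactSpace X'.hom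
  haveI : CompactSpace R'.left := QuasiCompact.compactSpace_of_compactSpace R'.hom
  haveI : CompactSpace Y.left := by
    constructor
    rw [← Set.range_eq_univ.2 p.left.surjective]
    exact isCompact_range p.left.continuous
  have hqc : QuasiCompact Y.hom := inferInstance
  refine ⟨hlfp, hqc, ⟨?_⟩⟩
  have hsq := (pullback_map_diagonal_isPullback p.left p.left Y.hom).flip
  haveI := Groth.Agent.H1.descendsAlong_quasiCompact.{u}
  refine MorphismProperty.of_isPullback_of_descendsAlong (P := @QuasiCompact)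
    (Q := @Surjective ⊓ @Flat ⊓ @LocallyOfFinitePresentation) hsq ?_ ?_
  · exact MorphismProperty.pullbackMap
      (P := @Surjective ⊓ @Flat ⊓ @LocallyOfFinitePresentation) ⟨⟨h2, h1⟩, h3⟩ ⟨⟨h2, h1⟩, h3⟩
      rfl rfl
  · have hR : IsPullback s'.left t'.left p.left p.left := h4.map (Over.forget _)
    haveI : CompactSpace ↥(pullback p.left p.left) :=
      QuasiCompact.compactSpace_of_compactSpace hR.isoPullback.inv
    haveI : QuasiSeparatedSpace ↥(pullback (p.left ≫ Y.hom) (p.left ≫ Y.hom)) :=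
      quasiSeparatedSpace_of_quasiSeparated
        (pullback.fst (p.left ≫ Y.hom) (p.left ≫ Y.hom) ≫ p.left ≫ Y.hom)
    infer_instance

/-! ### descent along the limit -/

section Descent

open Groth.Agent.H5.Lim

variable {I : Type u} [SmallCategory I] [IsCofiltered I] (D : I ⥤ Scheme.{u}) (c : Cone D)
  (hc : IsLimit c) [∀ (i i' : I) (f : i ⟶ i'), IsAffineHom (D.map f)]
  [∀ i, CompactSpace (D.obj i)] [∀ i, QuasiSeparatedSpace (D.obj i)]

omit [∀ i, QuasiSeparatedSpace (D.obj i)] in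
include hc in
theorem stage_of_hom (l : I) {A R B : Over (D.obj l)}
    [LocallyOfFinitePresentation A.hom] [QuasiCompact A.hom] [QuasiSeparated A.hom]
    [LocallyOfFinitePresentation R.hom] [QuasiCompact R.hom] [QuasiSeparated R.hom]
    [LocallyOfFinitePresentation B.hom] [QuasiCompact B.hom] [QuasiSeparated B.hom]
    (s t : R ⟶ A) (p : A ⟶ B) (w : s ≫ p = t ≫ p)
    (h : QP s t (c.π.app l) (Red.bc (c.π.app l) B) ((Over.pullback (c.π.app l)).map p)) :
    ∃ n : Over l, QP s t (D.map n.hom) (Red.bc (D.map n.hom) B)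
      ((Over.pullback (D.map n.hom)).map p) := by
  obtain ⟨h1, h2, h3, h4⟩ := h
  have hpw : p.left ≫ B.hom = A.hom := Over.w p
  haveI : LocallyOfFinitePresentation (p.left ≫ B.hom) := by rw [hpw]; infer_instance
  haveI : QuasiCompact (p.left ≫ B.hom) := by rw [hpw]; infer_instance
  haveI : QuasiSeparated (p.left ≫ B.hom) := by rw [hpw]; infer_instance
  haveI : LocallyOfFinitePresentation p.left :=
    Groth.Agent.H1.CritFib.locallyOfFinitePresentation_of_comp p.left B.hom
  haveI : QuasiCompact p.left := QuasiCompact.of_comp p.left B.hom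
  haveI : QuasiSeparated p.left := QuasiSeparated.of_comp p.left B.hom
  have hΦp : (@LocallyOfFinitePresentation ⊓ (@QuasiCompact ⊓ @QuasiSeparated) :
      MorphismProperty Scheme.{u}) p.left := ⟨inferInstance, inferInstance, inferInstance⟩
  haveI : CompactSpace B.left := QuasiCompact.compactSpace_of_compactSpace B.hom
  obtain ⟨k₁, hk₁⟩ := exists_descend_core D c hc affineSystemDescent_flat l p.left B.hom hΦp
    ((map_left_iff (c.π.app l) p @Flat).1 h1)
  obtain ⟨k₂, hk₂⟩ := exists_descend_core D c hc affineSystemDescent_surjective l p.left B.hom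
    hΦp ((map_left_iff (c.π.app l) p @Surjective).1 h2)
  obtain ⟨hP1, hP2, hP3⟩ := fp_pullback_over p
  haveI := hP1
  haveI := hP2
  haveI := hP3
  obtain ⟨ρ, hρ⟩ : ∃ ρ : R ⟶ pullback p p, ρ = pullback.lift s t w := ⟨_, rfl⟩
  have hρw : ρ.left ≫ (pullback p p).hom = R.hom := Over.w ρ
  haveI : LocallyOfFinitePresentation (ρ.left ≫ (pullback p p).hom) := by
    rw [hρw]; infer_instance
  haveI : QuasiCompact (ρ.left ≫ (pullback p p).hom) := by rw [hρw]; infer_instance
  haveI : QuasiSeparated (ρ.left ≫ (pullback p p).hom) := by rw [hρw]; infer_instance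
  haveI : LocallyOfFinitePresentation ρ.left :=
    Groth.Agent.H1.CritFib.locallyOfFinitePresentation_of_comp ρ.left (pullback p p).hom
  haveI : QuasiCompact ρ.left := QuasiCompact.of_comp ρ.left (pullback p p).hom
  haveI : QuasiSeparated ρ.left := QuasiSeparated.of_comp ρ.left (pullback p p).hom
  have hΦρ : (@LocallyOfFinitePresentation ⊓ (@QuasiCompact ⊓ @QuasiSeparated) :
      MorphismProperty Scheme.{u}) ρ.left := ⟨inferInstance, inferInstance, inferInstance⟩
  haveI : CompactSpace (pullback p p).left :=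
    QuasiCompact.compactSpace_of_compactSpace (pullback p p).hom
  have hiso : IsIso ((Over.pullback (c.π.app l)).map ρ) := by
    rw [hρ]
    exact (isIso_map_lift_iff (Over.pullback (c.π.app l)) s t p w).2 h4
  obtain ⟨k₃, hk₃⟩ := exists_descend_core D c hc affineSystemDescent_isomorphisms l ρ.left
    (pullback p p).hom hΦρ ((isIso_map_iff (c.π.app l) ρ).1 hiso)
  obtain ⟨n, a₁, a₂, a₃, -⟩ : ∃ (n : Over l) (_ : n ⟶ k₁) (_ : n ⟶ k₂) (_ : n ⟶ k₃), True :=
    ⟨IsCofiltered.min (IsCofiltered.min k₁ k₂) k₃,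
      IsCofiltered.minToLeft _ _ ≫ IsCofiltered.minToLeft _ _,
      IsCofiltered.minToLeft _ _ ≫ IsCofiltered.minToRight _ _,
      IsCofiltered.minToRight _ _, trivial⟩
  have hiso' : IsIso ((Over.pullback (D.map n.hom)).map ρ) :=
    (isIso_map_iff (D.map n.hom) ρ).2
      (descend_mono (P := MorphismProperty.isomorphisms Scheme.{u}) D ρ.left
        (pullback p p).hom a₃ hk₃)
  rw [hρ] at hiso'
  exact ⟨n, (map_left_iff (D.map n.hom) p @Flat).2
      (descend_mono (P := @Flat) D p.left B.hom a₁ hk₁),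
    (map_left_iff (D.map n.hom) p @Surjective).2
      (descend_mono (P := @Surjective) D p.left B.hom a₂ hk₂),
    MorphismProperty.overPullbackMap (P := @LocallyOfFinitePresentation) (D.map n.hom) p inferInstance,
    (isIso_map_lift_iff (Over.pullback (D.map n.hom)) s t p w).1 hiso'⟩

include hc in
theorem stage_of_bc (j : I) {A R B : Over (D.obj j)}
    [LocallyOfFinitePresentation A.hom] [QuasiCompact A.hom] [QuasiSeparated A.hom]
    [LocallyOfFinitePresentation R.hom] [QuasiCompact R.hom] [QuasiSeparated R.hom]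
    [LocallyOfFinitePresentation B.hom] [QuasiCompact B.hom] [QuasiSeparated B.hom]
    (s t : R ⟶ A) (p' : Red.bc (c.π.app j) A ⟶ Red.bc (c.π.app j) B)
    (h : QP s t (c.π.app j) (Red.bc (c.π.app j) B) p') :
    ∃ (i : I) (f : i ⟶ j), Qt s t (D.map f) := by
  haveI : CompactSpace A.left := QuasiCompact.compactSpace_of_compactSpace A.hom
  haveI : QuasiSeparatedSpace A.left := quasiSeparatedSpace_of_quasiSeparated A.hom
  obtain ⟨l₁, p₁, hp₁⟩ := GrpLimH.surj D c hc j p'
  have hw₁ : c.π.app l₁.left ≫ D.map l₁.hom = c.π.app j := c.w l₁.hom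
  have hβ : bcProj D c A.hom l₁ = GrpLimH.β (c.π.app l₁.left) (D.map l₁.hom) hw₁ A := rfl
  have htr₁ : GrpLimH.tr (c.π.app l₁.left) (D.map l₁.hom) hw₁ p₁ = p' := by
    apply GrpLimH.ext_of_fst
    rw [GrpLimH.tr_adj, ← hβ, hp₁]
  have hmap₁ : (Over.pullback (c.π.app l₁.left)).map p₁ =
      (ActBC.bcCompIso (c.π.app l₁.left) (D.map l₁.hom) A hw₁).hom ≫ p' ≫
        (ActBC.bcCompIso (c.π.app l₁.left) (D.map l₁.hom) B hw₁).inv := by
    rw [GrpLimH.map_eq_of_tr (c.π.app l₁.left) (D.map l₁.hom) hw₁ p₁, htr₁]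
  have hw' : (Over.pullback (c.π.app j)).map s ≫ p' = (Over.pullback (c.π.app j)).map t ≫ p' :=
    h.2.2.2.w
  have heq : (Over.pullback (c.π.app l₁.left)).map ((Over.pullback (D.map l₁.hom)).map s ≫ p₁) =
      (Over.pullback (c.π.app l₁.left)).map ((Over.pullback (D.map l₁.hom)).map t ≫ p₁) := by
    rw [Functor.map_comp, Functor.map_comp, hmap₁,
      ActBC.bcCompIso_hom_naturality_assoc (c.π.app l₁.left) (D.map l₁.hom) hw₁ s,
      ActBC.bcCompIso_hom_naturality_assoc (c.π.app l₁.left) (D.map l₁.hom) hw₁ t,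
      reassoc_of% hw']
  obtain ⟨m, hm⟩ := GrpLimH.inj D c hc l₁.left _ _ heq
  have hw₂ : D.map m.hom ≫ D.map l₁.hom = D.map (m.hom ≫ l₁.hom) := (D.map_comp _ _).symm
  have hw₃ : c.π.app m.left ≫ D.map (m.hom ≫ l₁.hom) = c.π.app j := c.w _
  obtain ⟨p₂, hp₂⟩ : ∃ p₂ : Red.bc (D.map (m.hom ≫ l₁.hom)) A ⟶
      Red.bc (D.map (m.hom ≫ l₁.hom)) B,
      p₂ = GrpLimH.tr (D.map m.hom) (D.map l₁.hom) hw₂ p₁ := ⟨_, rfl⟩
  have w₂ : (Over.pullback (D.map (m.hom ≫ l₁.hom))).map s ≫ p₂ =
      (Over.pullback (D.map (m.hom ≫ l₁.hom))).map t ≫ p₂ := by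
    rw [hp₂, map_comp_tr, map_comp_tr, hm]
  have htr₂ : GrpLimH.tr (c.π.app m.left) (D.map (m.hom ≫ l₁.hom)) hw₃ p₂ = p' := by
    rw [hp₂]
    apply GrpLimH.ext_of_fst
    rw [GrpLimH.tr_adj, GrpLimH.tr_adj, ← hp₁, ← Category.assoc]
    congr 1
    apply pullback.hom_ext
    · rw [Category.assoc, GrpLimH.β_fst, GrpLimH.β_fst, bcProj_fst]
    · rw [Category.assoc, GrpLimH.β_snd, GrpLimH.β_snd_assoc, bcProj_snd, c.w]
  have hcomm : (Over.pullback (c.π.app m.left)).map p₂ ≫
      (ActBC.bcCompIso (c.π.app m.left) (D.map (m.hom ≫ l₁.hom)) B hw₃).hom =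
      (ActBC.bcCompIso (c.π.app m.left) (D.map (m.hom ≫ l₁.hom)) A hw₃).hom ≫ p' := by
    rw [GrpLimH.map_eq_of_tr (c.π.app m.left) (D.map (m.hom ≫ l₁.hom)) hw₃ p₂, htr₂,
      Category.assoc, Category.assoc, Iso.inv_hom_id, Category.comp_id]
  have hC := (qp_transport s t (c.π.app m.left) (D.map (m.hom ≫ l₁.hom)) hw₃
    (ActBC.bcCompIso (c.π.app m.left) (D.map (m.hom ≫ l₁.hom)) B hw₃) _ p' hcomm).2 h
  obtain ⟨n, hn⟩ := stage_of_hom D c hc m.left _ _ p₂ w₂ hC
  exact ⟨n.left, n.hom ≫ m.hom ≫ l₁.hom,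
    qt_transport s t (D.map n.hom) (D.map (m.hom ≫ l₁.hom)) (D.map_comp _ _).symm ⟨_, _, hn⟩⟩

include hc in
theorem core (j : I) {X R : Over (D.obj j)}
    [LocallyOfFinitePresentation X.hom] [QuasiCompact X.hom] [QuasiSeparated X.hom]
    [LocallyOfFinitePresentation R.hom] [QuasiCompact R.hom] [QuasiSeparated R.hom]
    (s t : R ⟶ X) :
    Qt s t (c.π.app j) ↔ ∃ (i : I) (f : i ⟶ j), Qt s t (D.map f) := by
  constructor
  · rintro ⟨Y, p, hp⟩
    haveI : CompactSpace c.pt := Scheme.compactSpace_of_isLimit D c hc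
    haveI : QuasiSeparatedSpace c.pt := quasiSeparatedSpace_of_isLimit D c hc
    obtain ⟨hY1, hY2, hY3⟩ := fp_of_quot (S := c.pt) ((Over.pullback (c.π.app j)).map s)
      ((Over.pullback (c.π.app j)).map t) p hp.1 hp.2.1 hp.2.2.1 hp.2.2.2
    haveI := hY1
    haveI := hY2
    haveI := hY3
    obtain ⟨i₀, ⟨M₀⟩⟩ := exists_model D c hc Y.hom
    obtain ⟨k, a, b, -⟩ : ∃ (k : I) (_ : k ⟶ i₀) (_ : k ⟶ j), True :=
      ⟨IsCofiltered.min i₀ j, IsCofiltered.minToLeft i₀ j, IsCofiltered.minToRight i₀ j, trivial⟩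
    obtain ⟨M⟩ : Nonempty (Model D c Y.hom k) := ⟨M₀.bc a⟩
    obtain ⟨θ⟩ : Nonempty (Y ≅ Red.bc (c.π.app k) (Over.mk M.p)) :=
      ⟨Over.isoMk M.pb.isoPullback M.pb.isoPullback_hom_snd⟩
    haveI : LocallyOfFinitePresentation (Over.mk M.p).hom := M.lfp
    haveI : QuasiCompact (Over.mk M.p).hom := M.qc
    haveI : QuasiSeparated (Over.mk M.p).hom := M.qs
    have hkw : c.π.app k ≫ D.map b = c.π.app j := c.w b
    have hyp : QP ((Over.pullback (D.map b)).map s) ((Over.pullback (D.map b)).map t) (c.π.app k)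
        (Red.bc (c.π.app k) (Over.mk M.p))
        ((ActBC.bcCompIso (c.π.app k) (D.map b) X hkw).hom ≫ p ≫ θ.hom) := by
      refine (qp_transport s t (c.π.app k) (D.map b) hkw θ.symm _ p ?_).2 hp
      rw [Iso.symm_hom, Category.assoc, Category.assoc, Iso.hom_inv_id, Category.comp_id]
    obtain ⟨i, f, hq⟩ := stage_of_bc D c hc k _ _ _ hyp
    exact ⟨i, f ≫ b, qt_transport s t (D.map f) (D.map b) (D.map_comp _ _).symm hq⟩
  · rintro ⟨i, f, hq⟩
    exact qt_comp s t (c.π.app i) (D.map f) (c.w f) hq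

end Descent

/-! ### the statements -/

theorem s6091 {I : Type u} [SmallCategory I] [IsCofiltered I]
    (D : I ⥤ Scheme.{u}) (c : Limits.Cone D) (hc : Limits.IsLimit c)
    [∀ (i i' : I) (f : i ⟶ i'), IsAffineHom (D.map f)] [∀ i, CompactSpace (D.obj i)]
    [∀ i, QuasiSeparatedSpace (D.obj i)]
    (j : I) (Xj Rj : Over (D.obj j))
    [LocallyOfFinitePresentation Xj.hom] [QuasiCompact Xj.hom] [QuasiSeparated Xj.hom]
    [LocallyOfFinitePresentation Rj.hom] [QuasiCompact Rj.hom] [QuasiSeparated Rj.hom]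
    (sj tj : Rj ⟶ Xj) :
    (∃ (Y : Over c.pt) (p : (Red.bc (c.π.app j) Xj) ⟶ Y), Flat p.left ∧ Surjective p.left ∧ LocallyOfFinitePresentation p.left ∧ IsPullback ((Over.pullback (c.π.app j)).map sj) ((Over.pullback (c.π.app j)).map tj) p p) ↔
    ∃ (i : I) (f : i ⟶ j), ∃ (Y : Over (D.obj i)) (p : (Red.bc (D.map f) Xj) ⟶ Y), Flat p.left ∧ Surjective p.left ∧ LocallyOfFinitePresentation p.left ∧ IsPullback ((Over.pullback (D.map f)).map sj) ((Over.pullback (D.map f)).map tj) p p :=
  core D c hc j sj tj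

section Grp

variable {S T : Scheme.{u}} (τ : T ⟶ S) {G G' : Over S} [GrpObj G] [GrpObj G'] (v : G' ⟶ G)

omit [GrpObj G'] in
lemma grp_sq_iff {Q : Over T} (p : Red.bc τ G ⟶ Q) :
    IsPullback ((Red.bc τ G ◁ (Over.pullback τ).map v) ≫ μ[Red.bc τ G])
      (fst (Red.bc τ G) (Red.bc τ G')) p p ↔
    IsPullback ((Over.pullback τ).map ((G ◁ v) ≫ μ[G])) ((Over.pullback τ).map (fst G G'))
      p p := by
  refine isPullback_iff_of_iso (asIso (Functor.LaxMonoidal.μ (Over.pullback τ) G G'))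
    (Iso.refl _) (Iso.refl _) (Iso.refl _) ?_ ?_ (by simp) (by simp)
  · rw [Iso.refl_hom, Category.comp_id, asIso_hom, Functor.map_comp, ← Category.assoc,
      ← Functor.LaxMonoidal.μ_natural_right, Category.assoc]
    rfl
  · rw [Iso.refl_hom, Category.comp_id, asIso_hom, Functor.Monoidal.μ_fst]

omit [GrpObj G'] in
lemma grp_qt_iff :
    (∃ (Q : Over T) (p : Red.bc τ G ⟶ Q), Flat p.left ∧ Surjective p.left ∧
      LocallyOfFinitePresentation p.left ∧
      IsPullback ((Red.bc τ G ◁ (Over.pullback τ).map v) ≫ μ[Red.bc τ G])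
        (fst (Red.bc τ G) (Red.bc τ G')) p p) ↔
    Qt ((G ◁ v) ≫ μ[G]) (fst G G') τ := by
  unfold Qt QP
  refine exists_congr fun Q => exists_congr fun p => ?_
  rw [grp_sq_iff τ v p]

end Grp

theorem s6087 {I : Type u} [SmallCategory I] [IsCofiltered I]
    (D : I ⥤ Scheme.{u}) (c : Limits.Cone D) (hc : Limits.IsLimit c)
    [∀ (i i' : I) (f : i ⟶ i'), IsAffineHom (D.map f)] [∀ i, CompactSpace (D.obj i)]
    [∀ i, QuasiSeparatedSpace (D.obj i)]
    (j : I) (Gj G'j : Over (D.obj j)) [GrpObj Gj] [GrpObj G'j]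
    [LocallyOfFinitePresentation Gj.hom] [QuasiCompact Gj.hom] [QuasiSeparated Gj.hom]
    [LocallyOfFinitePresentation G'j.hom] [QuasiCompact G'j.hom] [QuasiSeparated G'j.hom]
    (uj : G'j ⟶ Gj) :
    (∃ (Q : Over c.pt) (p : (Red.bc (c.π.app j) Gj) ⟶ Q), Flat p.left ∧ Surjective p.left ∧ LocallyOfFinitePresentation p.left ∧
        IsPullback (((Red.bc (c.π.app j) Gj) ◁ ((Over.pullback (c.π.app j)).map uj)) ≫ μ[(Red.bc (c.π.app j) Gj)]) (fst (Red.bc (c.π.app j) Gj) (Red.bc (c.π.app j) G'j)) p p) ↔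
    ∃ (i : I) (f : i ⟶ j), ∃ (Q : Over (D.obj i)) (p : (Red.bc (D.map f) Gj) ⟶ Q), Flat p.left ∧ Surjective p.left ∧ LocallyOfFinitePresentation p.left ∧
        IsPullback (((Red.bc (D.map f) Gj) ◁ ((Over.pullback (D.map f)).map uj)) ≫ μ[(Red.bc (D.map f) Gj)]) (fst (Red.bc (D.map f) Gj) (Red.bc (D.map f) G'j)) p p := by
  have hGG : (Gj ⊗ G'j).hom = pullback.fst Gj.hom G'j.hom ≫ Gj.hom := rfl
  haveI : LocallyOfFinitePresentation (Gj ⊗ G'j).hom := by rw [hGG]; infer_instance
  haveI : QuasiCompact (Gj ⊗ G'j).hom := by rw [hGG]; infer_instance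
  haveI : QuasiSeparated (Gj ⊗ G'j).hom := by rw [hGG]; infer_instance
  refine (grp_qt_iff (c.π.app j) uj).trans ((core D c hc j _ _).trans ?_)
  exact exists_congr fun i => exists_congr fun f => (grp_qt_iff (D.map f) uj).symm

end Groth.Agent.H1.GrpLimQ
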