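import Mathlib
import Groth.Prelude.Def_AGF
import Groth.Prelude.Def_W4bk4grossh111Obs

/-! Helper1: finitely many right-`H`-invariant functions cut out the observable hull (S11199).
Noetherianity of `O(G × G)`: the ideal generated by the functions `f(xg) - f(x)`, `f` invariant,
is finitely generated. -/

set_option autoImplicit false
set_option linter.style.haveILetI false
set_option linter.unusedSectionVars false
universe u
open CategoryTheory CategoryTheory.Limits AlgebraicGeometry MonoidalCategory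
  CartesianMonoidalCategory MonObj GrpObj

namespace Groth.Agent.H1.GrpObsFin

variable {K : Scheme.{u}} {G : Over K} [GrpObj G]

/-- `f(xg) - f(x)` as a function on `G × G` -/
noncomputable def D (f : Γ(G.left, ⊤)) : Γ((G ⊗ G).left, ⊤) :=
  μ[G].left.appTop.hom f - (fst G G).left.appTop.hom f

theorem isRTransInv_iff {T : Over K} (g : T ⟶ G) (f : Γ(G.left, ⊤)) :
    AGF.IsRTransInv g f ↔ (G ◁ g).left.appTop.hom (D f) = 0 := by
  have e1 : ((G ◁ g) ≫ μ[G]).left.appTop.hom f =
      (G ◁ g).left.appTop.hom (μ[G].left.appTop.hom f) := by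
    rw [Over.comp_left, Scheme.Hom.comp_appTop]; rfl
  have e2 : (fst G T).left.appTop.hom f =
      (G ◁ g).left.appTop.hom ((fst G G).left.appTop.hom f) := by
    rw [← whiskerLeft_fst G g, Over.comp_left, Scheme.Hom.comp_appTop]; rfl
  unfold AGF.IsRTransInv D
  rw [map_sub, sub_eq_zero]
  constructor
  · intro h
    rw [← e1, ← e2]; exact h
  · intro h
    have h' : ((G ◁ g) ≫ μ[G]).left.appTop.hom f = (fst G T).left.appTop.hom f := by
      rw [e1, e2]; exact h
    exact h'

theorem exists_finset [IsNoetherianRing Γ((G ⊗ G).left, ⊤)] {H : Over K} (i : H ⟶ G) :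
    ∃ s : Finset Γ(G.left, ⊤), (∀ f ∈ s, AGF.IsRTransInv i f) ∧
      ∀ {T : Over K} (g : T ⟶ G), (∀ f ∈ s, AGF.IsRTransInv g f) →
        ∀ f : Γ(G.left, ⊤), AGF.IsRTransInv i f → AGF.IsRTransInv g f := by
  classical
  let Inv : Set Γ(G.left, ⊤) := {f | AGF.IsRTransInv i f}
  have hfg : (Ideal.span (D '' Inv)).FG := IsNoetherian.noetherian _
  obtain ⟨t, ht1, ht2⟩ := (Submodule.fg_span_iff_fg_span_finset_subset (D '' Inv)).mp hfg
  obtain ⟨s, hs1, hs2⟩ := Finset.subset_set_image_iff.mp ht1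
  refine ⟨s, fun f hf => hs1 hf, ?_⟩
  intro T g hg f hf
  rw [isRTransInv_iff]
  have hle : Ideal.span (D '' Inv) ≤ RingHom.ker (G ◁ g).left.appTop.hom := by
    have h1 : Ideal.span (D '' Inv) = Ideal.span (t : Set Γ((G ⊗ G).left, ⊤)) := ht2
    rw [h1, Ideal.span_le]
    intro b hb
    rw [← hs2] at hb
    obtain ⟨f', hf', rfl⟩ := Finset.mem_image.mp (Finset.mem_coe.mp hb)
    exact (isRTransInv_iff g f').mp (hg f' hf')
  exact hle (Ideal.subset_span ⟨f, hf, rfl⟩)

theorem s11199 (k : Type u) [Field k]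
    (G : Over (Spec (CommRingCat.of k))) [GrpObj G] [IsAffine G.left] [LocallyOfFiniteType G.hom]
    (H : Over (Spec (CommRingCat.of k))) (i : H ⟶ G) :
    ∃ s : Finset Γ(G.left, ⊤), (∀ f ∈ s, AGF.IsRTransInv i f) ∧
      ∀ g : VecGrp.pt k k ⟶ G, (∀ f ∈ s, AGF.IsRTransInv g f) →
        ∀ f : Γ(G.left, ⊤), AGF.IsRTransInv i f → AGF.IsRTransInv g f := by
  haveI : IsAffine (G ⊗ G).left := inferInstanceAs (IsAffine (pullback G.hom G.hom))
  haveI : LocallyOfFiniteType (G ⊗ G).hom := by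
    have : (G ⊗ G).hom = pullback.fst G.hom G.hom ≫ G.hom := (Over.w (fst G G)).symm
    rw [this]; infer_instance
  haveI : IsLocallyNoetherian (G ⊗ G).left := LocallyOfFiniteType.isLocallyNoetherian (G ⊗ G).hom
  haveI : IsNoetherianRing Γ((G ⊗ G).left, ⊤) :=
    IsLocallyNoetherian.component_noetherian ⟨⊤, isAffineOpen_top _⟩
  obtain ⟨s, h1, h2⟩ := exists_finset (G := G) i
  exact ⟨s, h1, fun g hg f hf => h2 g hg f hf⟩

end Groth.Agent.H1.GrpObsFin
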