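import Mathlib
import Groth.Agent.Lib.Helper9.Misc.GSE1

/-! Helper1: a quasi-affine group scheme over a field is affine (S3020).

The group structure of `G` extends to the affinization `G' = Spec O(G)` (Künneth for global
functions over a field); `G` is then a dense open subgroup of `G'`, hence equal to `G'`. -/

set_option autoImplicit false
set_option linter.style.haveILetI false
set_option linter.unusedSectionVars false
universe u
open CategoryTheory CategoryTheory.Limits AlgebraicGeometry MonoidalCategory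
  CartesianMonoidalCategory MonObj GrpObj

namespace Groth.Agent.H1.GrpQAff

/-! ### transport of a group structure along a "dense" morphism -/

section Abstract

variable {C : Type*} [Category C] [CartesianMonoidalCategory C]

theorem exists_grpObj_of_dense {G G' : C} [GrpObj G] (j : G ⟶ G')
    (h1 : ∀ f g : G' ⟶ G', j ≫ f = j ≫ g → f = g)
    (h3 : ∀ f g : (G' ⊗ G') ⊗ G' ⟶ G',
      ((j ⊗ₘ j) ⊗ₘ j) ≫ f = ((j ⊗ₘ j) ⊗ₘ j) ≫ g → f = g)
    (μ' : G' ⊗ G' ⟶ G') (hμ : (j ⊗ₘ j) ≫ μ' = μ[G] ≫ j)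
    (ι' : G' ⟶ G') (hι : j ≫ ι' = ι[G] ≫ j) :
    ∃ inst : GrpObj G', @IsMonHom C _ _ G G' _ inst.toMonObj j := by
  have M : ∀ {T : C} (X : T ⟶ G' ⊗ G') (x y : T ⟶ G), X ≫ fst _ _ = x ≫ j →
      X ≫ snd _ _ = y ≫ j → X ≫ μ' = (x * y) ≫ j := by
    intro T X x y e1 e2
    have hX : X = lift x y ≫ (j ⊗ₘ j) := by
      apply CartesianMonoidalCategory.hom_ext
      · rw [e1, Category.assoc, tensorHom_fst, lift_fst_assoc]
      · rw [e2, Category.assoc, tensorHom_snd, lift_snd_assoc]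
    rw [hX, Category.assoc, hμ, ← Category.assoc, ← Hom.mul_def]
  have hmulfs : ∀ {T : C} (f : T ⟶ G ⊗ G), f ≫ μ[G] = (f ≫ fst _ _) * (f ≫ snd _ _) := by
    intro T f
    rw [Hom.mul_def, lift_comp_fst_snd]
  have ax_one_mul : ((η[G] ≫ j) ▷ G') ≫ μ' = (λ_ G').hom := by
    have key : (λ_ G').inv ≫ ((η[G] ≫ j) ▷ G') ≫ μ' = 𝟙 G' := by
      apply h1
      have := M (j ≫ (λ_ G').inv ≫ ((η[G] ≫ j) ▷ G')) (1 : G ⟶ G) (𝟙 G)
        (by simp [Hom.one_def]) (by simp)
      simp only [Category.assoc] at this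
      rw [this, _root_.one_mul, Category.id_comp, Category.comp_id]
    exact (Iso.inv_comp_eq_id _).mp key
  have ax_mul_one : (G' ◁ (η[G] ≫ j)) ≫ μ' = (ρ_ G').hom := by
    have key : (ρ_ G').inv ≫ (G' ◁ (η[G] ≫ j)) ≫ μ' = 𝟙 G' := by
      apply h1
      have := M (j ≫ (ρ_ G').inv ≫ (G' ◁ (η[G] ≫ j))) (𝟙 G) (1 : G ⟶ G)
        (by simp) (by simp [Hom.one_def])
      simp only [Category.assoc] at this
      rw [this, _root_.mul_one, Category.id_comp, Category.comp_id]
    exact (Iso.inv_comp_eq_id _).mp key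
  have ax_assoc : (μ' ▷ G') ≫ μ' = (α_ G' G' G').hom ≫ (G' ◁ μ') ≫ μ' := by
    apply h3
    have hL := M (((j ⊗ₘ j) ⊗ₘ j) ≫ (μ' ▷ G')) (fst (G ⊗ G) G ≫ μ[G]) (snd (G ⊗ G) G)
      (by simp only [Category.assoc, whiskerRight_fst, tensorHom_fst_assoc, hμ])
      (by simp only [Category.assoc, whiskerRight_snd, tensorHom_snd])
    have hR2 := M (((j ⊗ₘ j) ⊗ₘ j) ≫ (α_ G' G' G').hom ≫ snd _ _)
      (fst (G ⊗ G) G ≫ snd G G) (snd (G ⊗ G) G)
      (by simp only [Category.assoc, associator_hom_snd_fst, tensorHom_fst_assoc, tensorHom_snd])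
      (by simp only [Category.assoc, associator_hom_snd_snd, tensorHom_snd])
    have hR := M (((j ⊗ₘ j) ⊗ₘ j) ≫ (α_ G' G' G').hom ≫ (G' ◁ μ'))
      (fst (G ⊗ G) G ≫ fst G G) ((fst (G ⊗ G) G ≫ snd G G) * snd (G ⊗ G) G)
      (by simp only [Category.assoc, whiskerLeft_fst, associator_hom_fst, tensorHom_fst_assoc,
        tensorHom_fst])
      (by rw [← hR2]; simp only [Category.assoc, whiskerLeft_snd])
    simp only [Category.assoc] at hL hR
    rw [hL, hR, hmulfs, _root_.mul_assoc]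
  have hinv : ι[G] = (𝟙 G)⁻¹ := by rw [Hom.inv_def, Category.id_comp]
  have ax_left_inv : lift ι' (𝟙 G') ≫ μ' = toUnit _ ≫ (η[G] ≫ j) := by
    apply h1
    have := M (j ≫ lift ι' (𝟙 G')) (ι[G]) (𝟙 G)
      (by simp only [Category.assoc, lift_fst, hι])
      (by simp only [Category.assoc, lift_snd, Category.comp_id, Category.id_comp])
    rw [Category.assoc] at this
    rw [this, hinv, inv_mul_cancel, Hom.one_def, comp_toUnit_assoc, Category.assoc]
  have ax_right_inv : lift (𝟙 G') ι' ≫ μ' = toUnit _ ≫ (η[G] ≫ j) := by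
    apply h1
    have := M (j ≫ lift (𝟙 G') ι') (𝟙 G) (ι[G])
      (by simp only [Category.assoc, lift_fst, Category.comp_id, Category.id_comp])
      (by simp only [Category.assoc, lift_snd, hι])
    rw [Category.assoc] at this
    rw [this, hinv, mul_inv_cancel, Hom.one_def, comp_toUnit_assoc, Category.assoc]
  let inst0 : GrpObj G' :=
    { one := η[G] ≫ j
      mul := μ'
      one_mul := ax_one_mul
      mul_one := ax_mul_one
      mul_assoc := ax_assoc
      inv := ι'
      left_inv := ax_left_inv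
      right_inv := ax_right_inv }
  refine ⟨inst0, ?_⟩
  letI := inst0
  exact ⟨rfl, hμ.symm⟩

end Abstract

/-! ### morphisms inducing isomorphisms on global functions -/

theorem exists_ext_of_isIso_appTop {X X' Y : Scheme.{u}} (u : X ⟶ X') [IsIso u.appTop]
    [IsAffine Y] (h : X ⟶ Y) : ∃ h' : X' ⟶ Y, u ≫ h' = h := by
  refine ⟨X'.toSpecΓ ≫ Spec.map (h.appTop ≫ inv u.appTop) ≫ Y.isoSpec.inv, ?_⟩
  have e1 : u ≫ X'.toSpecΓ = X.toSpecΓ ≫ Spec.map u.appTop := Scheme.toSpecΓ_naturality u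
  have e2 : h ≫ Y.toSpecΓ = X.toSpecΓ ≫ Spec.map h.appTop := Scheme.toSpecΓ_naturality h
  have e3 : Spec.map u.appTop ≫ Spec.map (h.appTop ≫ inv u.appTop) = Spec.map h.appTop := by
    rw [← Spec.map_comp, Category.assoc, IsIso.inv_hom_id, Category.comp_id]
  have e4 : Y.toSpecΓ ≫ Y.isoSpec.inv = 𝟙 Y := by rw [← Scheme.isoSpec_hom, Iso.hom_inv_id]
  calc u ≫ X'.toSpecΓ ≫ Spec.map (h.appTop ≫ inv u.appTop) ≫ Y.isoSpec.inv
      = (u ≫ X'.toSpecΓ) ≫ Spec.map (h.appTop ≫ inv u.appTop) ≫ Y.isoSpec.inv := by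
        rw [Category.assoc]
    _ = X.toSpecΓ ≫ (Spec.map u.appTop ≫ Spec.map (h.appTop ≫ inv u.appTop)) ≫
          Y.isoSpec.inv := by rw [e1]; simp only [Category.assoc]
    _ = (X.toSpecΓ ≫ Spec.map h.appTop) ≫ Y.isoSpec.inv := by rw [e3, Category.assoc]
    _ = h ≫ Y.toSpecΓ ≫ Y.isoSpec.inv := by rw [← e2, Category.assoc]
    _ = h := by rw [e4, Category.comp_id]

theorem eq_of_comp_eq_of_isIso_appTop {X X' Y : Scheme.{u}} (u : X ⟶ X') [IsIso u.appTop]
    [IsAffine Y] {f g : X' ⟶ Y} (h : u ≫ f = u ≫ g) : f = g := by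
  apply ext_of_isAffine
  have := congrArg Scheme.Hom.appTop h
  rw [Scheme.Hom.comp_appTop, Scheme.Hom.comp_appTop] at this
  exact (cancel_mono u.appTop).mp this

section Over

variable {K : Scheme.{u}}

/-- a morphism of `K`-schemes inducing an isomorphism on global functions -/
def GIso {X X' : Over K} (u : X ⟶ X') : Prop := IsIso u.left.appTop

theorem GIso.hom_ext {X X' Y : Over K} {u : X ⟶ X'} (hu : GIso u) [IsAffine Y.left]
    {f g : X' ⟶ Y} (h : u ≫ f = u ≫ g) : f = g := by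
  haveI : IsIso u.left.appTop := hu
  apply Over.OverMorphism.ext
  apply eq_of_comp_eq_of_isIso_appTop u.left
  rw [← Over.comp_left, ← Over.comp_left, h]

theorem GIso.exists_ext [IsAffine K] {X X' Y : Over K} {u : X ⟶ X'} (hu : GIso u)
    [IsAffine Y.left] (h : X ⟶ Y) : ∃ h' : X' ⟶ Y, u ≫ h' = h := by
  haveI : IsIso u.left.appTop := hu
  obtain ⟨hl, hhl⟩ := exists_ext_of_isIso_appTop u.left h.left
  have hw : hl ≫ Y.hom = X'.hom := by
    apply eq_of_comp_eq_of_isIso_appTop u.left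
    rw [← Category.assoc, hhl, Over.w h, Over.w u]
  refine ⟨Over.homMk hl hw, ?_⟩
  apply Over.OverMorphism.ext
  simpa using hhl

theorem compactSpace_tensor [IsAffine K] (X Y : Over K) [CompactSpace ↥X.left]
    [CompactSpace ↥Y.left] : CompactSpace ↥(X ⊗ Y).left := by
  haveI : QuasiCompact Y.hom := inferInstance
  haveI : QuasiCompact (pullback.fst X.hom Y.hom) := inferInstance
  exact QuasiCompact.compactSpace_of_compactSpace (pullback.fst X.hom Y.hom)

theorem quasiSeparatedSpace_tensor [IsAffine K] (X Y : Over K) [QuasiSeparatedSpace ↥X.left]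
    [QuasiSeparatedSpace ↥Y.left] : QuasiSeparatedSpace ↥(X ⊗ Y).left := by
  haveI : QuasiSeparated Y.hom := inferInstance
  haveI : QuasiSeparated (pullback.fst X.hom Y.hom) := inferInstance
  exact quasiSeparatedSpace_of_quasiSeparated (pullback.fst X.hom Y.hom)

end Over

/-! ### Künneth formula for global functions over a field -/

theorem ringHom_flat_of_specField (k : Type u) [Field k] {R : CommRingCat.{u}}
    (φ : Γ(Spec (CommRingCat.of k), ⊤) ⟶ R) : φ.hom.Flat := by
  let e := (Scheme.ΓSpecIso (CommRingCat.of k)).commRingCatIsoToRingEquiv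
  have hF : IsField Γ(Spec (CommRingCat.of k), ⊤) :=
    e.toMulEquiv.isField (Field.toIsField k)
  letI := hF.toField
  letI := φ.hom.toAlgebra
  show Module.Flat _ _
  infer_instance

theorem isPushout_appTop (k : Type u) [Field k] (X Y : Over (Spec (CommRingCat.of k)))
    [CompactSpace ↥X.left] [QuasiSeparatedSpace ↥X.left] [CompactSpace ↥Y.left]
    [QuasiSeparatedSpace ↥Y.left] :
    IsPushout X.hom.appTop Y.hom.appTop (fst X Y).left.appTop (snd X Y).left.appTop := by
  have H : IsPullback (fst X Y).left (snd X Y).left X.hom Y.hom :=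
    IsPullback.of_hasPullback X.hom Y.hom
  have hUST : (⊤ : Y.left.Opens) ≤ Y.hom ⁻¹ᵁ (⊤ : (Spec (CommRingCat.of k)).Opens) :=
    le_of_eq rfl
  have hUSX : (⊤ : X.left.Opens) ≤ X.hom ⁻¹ᵁ (⊤ : (Spec (CommRingCat.of k)).Opens) :=
    le_of_eq rfl
  have hUY : (⊤ : (X ⊗ Y).left.Opens) = (fst X Y).left ⁻¹ᵁ ⊤ ⊓ (snd X Y).left ⁻¹ᵁ ⊤ := by simp
  have hflat : (X.hom.appLE ⊤ ⊤ hUSX).hom.Flat := ringHom_flat_of_specField k _
  have h1 := isIso_pushoutSection_of_isCompact_of_flat_right_of_ringHomFlat H hUST hUSX hUY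
      (isAffineOpen_top _) (by simpa using isCompact_univ) (by simpa using isQuasiSeparated_univ)
      (by simpa using isCompact_univ) (by simpa using isQuasiSeparated_univ) hflat
  have h2 := (isIso_pushoutSection_iff H hUST hUSX hUY).mp h1
  convert h2 using 1 <;> simp [Scheme.Hom.appLE]

theorem gIso_tensor (k : Type u) [Field k] {X X' Y Y' : Over (Spec (CommRingCat.of k))}
    [CompactSpace ↥X.left] [QuasiSeparatedSpace ↥X.left] [CompactSpace ↥Y.left]
    [QuasiSeparatedSpace ↥Y.left] [CompactSpace ↥X'.left] [QuasiSeparatedSpace ↥X'.left]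
    [CompactSpace ↥Y'.left] [QuasiSeparatedSpace ↥Y'.left]
    (u : X ⟶ X') (v : Y ⟶ Y') (hu : GIso u) (hv : GIso v) : GIso (u ⊗ₘ v) := by
  haveI : IsIso u.left.appTop := hu
  haveI : IsIso v.left.appTop := hv
  have hP := isPushout_appTop k X Y
  have hP' := isPushout_appTop k X' Y'
  obtain ⟨jj, hjj⟩ : ∃ jj, jj = (u ⊗ₘ v).left.appTop := ⟨_, rfl⟩
  have r1 : (fst X' Y').left.appTop ≫ jj = u.left.appTop ≫ (fst X Y).left.appTop := by
    have := congrArg (fun t : X ⊗ Y ⟶ X' => t.left.appTop) (tensorHom_fst u v)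
    simp only [Over.comp_left, Scheme.Hom.comp_appTop] at this
    rw [hjj]; exact this
  have r2 : (snd X' Y').left.appTop ≫ jj = v.left.appTop ≫ (snd X Y).left.appTop := by
    have := congrArg (fun t : X ⊗ Y ⟶ Y' => t.left.appTop) (tensorHom_snd u v)
    simp only [Over.comp_left, Scheme.Hom.comp_appTop] at this
    rw [hjj]; exact this
  have s1 : X'.hom.appTop ≫ u.left.appTop = X.hom.appTop := by
    rw [← Scheme.Hom.comp_appTop, Over.w u]
  have s2 : Y'.hom.appTop ≫ v.left.appTop = Y.hom.appTop := by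
    rw [← Scheme.Hom.comp_appTop, Over.w v]
  have w : X.hom.appTop ≫ (inv u.left.appTop ≫ (fst X' Y').left.appTop) =
      Y.hom.appTop ≫ (inv v.left.appTop ≫ (snd X' Y').left.appTop) := by
    rw [← s1, ← s2, Category.assoc, Category.assoc, IsIso.hom_inv_id_assoc,
      IsIso.hom_inv_id_assoc, hP'.w]
  show IsIso (u ⊗ₘ v).left.appTop
  rw [← hjj]
  refine ⟨⟨hP.desc _ _ w, ?_, ?_⟩⟩
  · apply hP'.hom_ext
    · rw [← Category.assoc, r1, Category.assoc, hP.inl_desc, IsIso.hom_inv_id_assoc,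
        Category.comp_id]
    · rw [← Category.assoc, r2, Category.assoc, hP.inr_desc, IsIso.hom_inv_id_assoc,
        Category.comp_id]
  · apply hP.hom_ext
    · rw [← Category.assoc, hP.inl_desc, Category.assoc, r1, IsIso.inv_hom_id_assoc,
        Category.comp_id]
    · rw [← Category.assoc, hP.inr_desc, Category.assoc, r2, IsIso.inv_hom_id_assoc,
        Category.comp_id]

/-! ### the main theorem -/

theorem isIso_of_open_affinization (k : Type u) [Field k]
    (G G' : Over (Spec (CommRingCat.of k))) [GrpObj G] [CompactSpace ↥G.left]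
    [IsAffine G'.left] (j : G ⟶ G') [IsOpenImmersion j.left] (hj : IsIso j.left.appTop) :
    IsIso j.left := by
  haveI : QuasiSeparatedSpace ↥G.left := quasiSeparatedSpace_of_quasiSeparated j.left
  haveI : CompactSpace ↥(G ⊗ G).left := compactSpace_tensor G G
  haveI : QuasiSeparatedSpace ↥(G ⊗ G).left := quasiSeparatedSpace_tensor G G
  haveI : CompactSpace ↥(G' ⊗ G').left := compactSpace_tensor G' G'
  haveI : QuasiSeparatedSpace ↥(G' ⊗ G').left := quasiSeparatedSpace_tensor G' G'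
  have E1 : GIso j := hj
  have E2 : GIso (j ⊗ₘ j) := gIso_tensor k j j E1 E1
  have E3 : GIso ((j ⊗ₘ j) ⊗ₘ j) := gIso_tensor k (j ⊗ₘ j) j E2 E1
  obtain ⟨μ', hμ⟩ := E2.exists_ext (μ[G] ≫ j)
  obtain ⟨ι', hι⟩ := E1.exists_ext (ι[G] ≫ j)
  obtain ⟨inst, hmon⟩ := exists_grpObj_of_dense j (fun f g h => E1.hom_ext h)
    (fun f g h => E3.hom_ext h) μ' hμ ι' hι
  letI := inst
  haveI := hmon
  haveI : IsDominant j.left :=
    isDominant_of_of_appTop_injective (ConcreteCategory.bijective_of_isIso j.left.appTop).1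
  obtain ⟨U, hUdef⟩ : ∃ U : G'.left.Opens, U = j.left.opensRange := ⟨_, rfl⟩
  have hUc : (U : Set G'.left) = Set.range j.left.base := by
    rw [hUdef]; exact Scheme.Hom.coe_opensRange j.left
  have hU : Dense (U : Set G'.left) := by
    rw [hUc]; exact j.left.denseRange
  have hsurj : Function.Surjective j.left.base := by
    intro g'
    have h := Groth.Agent.H9.GSE.S7823_main G' U U hU hU
    have hg : g' ∈ (Set.univ : Set G'.left) := Set.mem_univ g'
    rw [← h] at hg
    obtain ⟨z, ⟨h1, h2⟩, h3⟩ := hg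
    have hz : z ∈ Set.range (j ⊗ₘ j).left.base := by
      rw [Over.tensorHom_left, Scheme.Pullback.range_map]
      refine ⟨?_, ?_⟩
      · have : (fst G' G').left.base z ∈ (U : Set G'.left) := h1
        rw [hUc] at this; exact this
      · have : (snd G' G').left.base z ∈ (U : Set G'.left) := h2
        rw [hUc] at this; exact this
    obtain ⟨w, rfl⟩ := hz
    refine ⟨μ[G].left.base w, ?_⟩
    have hmul : μ[G].left ≫ j.left = (j ⊗ₘ j).left ≫ μ[G'].left := by
      rw [← Over.comp_left, IsMonHom.mul_hom, Over.comp_left]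
    rw [← Scheme.Hom.comp_apply, hmul, Scheme.Hom.comp_apply]
    exact h3
  haveI : Surjective j.left := ⟨hsurj⟩
  exact (isIso_iff_isOpenImmersion_and_surjective _).mpr ⟨inferInstance, inferInstance⟩

theorem s3020 (k : Type u) [Field k] (G : Over (Spec (CommRingCat.of k))) [GrpObj G]
    [G.left.IsQuasiAffine] : IsAffine G.left := by
  obtain ⟨φ, hφ⟩ : ∃ φ : CommRingCat.of k ⟶ Γ(G.left, ⊤),
      φ = (Scheme.ΓSpecIso (CommRingCat.of k)).inv ≫ G.hom.appTop := ⟨_, rfl⟩
  have hw : G.left.toSpecΓ ≫ Spec.map φ = G.hom := by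
    apply ext_of_isAffine
    rw [Scheme.Hom.comp_appTop, Scheme.toSpecΓ_appTop, Scheme.ΓSpecIso_naturality, hφ,
      Iso.hom_inv_id_assoc]
  let G' : Over (Spec (CommRingCat.of k)) := Over.mk (Spec.map φ)
  let j : G ⟶ G' := Over.homMk G.left.toSpecΓ hw
  haveI : IsAffine G'.left := inferInstanceAs (IsAffine (Spec _))
  haveI : IsOpenImmersion j.left := inferInstanceAs (IsOpenImmersion G.left.toSpecΓ)
  have hj : IsIso j.left.appTop := by
    show IsIso G.left.toSpecΓ.appTop
    rw [Scheme.toSpecΓ_appTop]; infer_instance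
  haveI := isIso_of_open_affinization k G G' j hj
  exact IsAffine.of_isIso j.left

end Groth.Agent.H1.GrpQAff
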