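import Mathlib
import Groth.Agent.S0114
import Groth.Prelude.Def_AlgGrp

/-! SGA3 VI_A/VII_A: the quotient of a group scheme locally of finite type over a field by a
subgroup with the same underlying space is the spectrum of a finite local algebra with residue
field `k` (S6084) (helper1). -/

set_option autoImplicit false
set_option linter.style.haveILetI false
universe u

namespace Groth.Agent.H1.GrpRedQ

open CategoryTheory CategoryTheory.Limits MonoidalCategory CartesianMonoidalCategory MonObj GrpObj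
  AlgebraicGeometry

section Shear

variable {S : Scheme.{u}} {F G : Over S} [GrpObj G] (u : F ⟶ G)

lemma shear_aux :
    lift (fst G G * (snd G G)⁻¹) (snd G G) ≫ lift μ[G] (snd G G) = 𝟙 (G ⊗ G) := by
  have h : lift (fst G G * (snd G G)⁻¹) (snd G G) ≫ μ[G] = fst G G := by
    rw [← Hom.mul_def, inv_mul_cancel_right]
  rw [comp_lift, lift_snd, h, lift_fst_snd]

theorem surjective_shear_left [Surjective u.left] :
    Surjective (lift ((u ▷ G) ≫ μ[G]) (snd F G)).left := by
  have e : lift ((u ▷ G) ≫ μ[G]) (snd F G) = (u ▷ G) ≫ lift μ[G] (snd G G) := by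
    rw [comp_lift, whiskerRight_snd]
  have h1 : (u ▷ G).left ≫ pullback.snd G.hom G.hom = pullback.snd F.hom G.hom :=
    congrArg (fun φ : F ⊗ G ⟶ G => φ.left) (whiskerRight_snd u G)
  have h2 : (u ▷ G).left ≫ pullback.fst G.hom G.hom = pullback.fst F.hom G.hom ≫ u.left :=
    congrArg (fun φ : F ⊗ G ⟶ G => φ.left) (whiskerRight_fst u G)
  have hsq : IsPullback (u ▷ G).left (pullback.fst F.hom G.hom) (pullback.fst G.hom G.hom)
      u.left := by
    refine IsPullback.of_right ?_ h2 (IsPullback.of_hasPullback G.hom G.hom).flip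
    rw [h1, Over.w u]
    exact (IsPullback.of_hasPullback F.hom G.hom).flip
  haveI : Surjective (u ▷ G).left :=
    MorphismProperty.of_isPullback (P := @Surjective) hsq.flip inferInstance
  haveI : Surjective (lift μ[G] (snd G G)).left := by
    constructor
    intro z
    have h3 : (lift (fst G G * (snd G G)⁻¹) (snd G G)).left ≫ (lift μ[G] (snd G G)).left =
        𝟙 _ := by
      rw [← Over.comp_left, shear_aux, Over.id_left]
    exact ⟨(lift (fst G G * (snd G G)⁻¹) (snd G G)).left.base z,
      congrArg (fun φ : (G ⊗ G).left ⟶ (G ⊗ G).left => φ.base z) h3⟩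
  rw [e, Over.comp_left]
  infer_instance

end Shear

theorem s6084 (k : Type u) [Field k] (F G : Over (Spec (CommRingCat.of k))) [GrpObj G]
    [LocallyOfFiniteType G.hom] (u : F ⟶ G) [Surjective u.left]
    (X : Over (Spec (CommRingCat.of k))) (p : G ⟶ X) [Flat p.left] [Surjective p.left]
    [LocallyOfFinitePresentation p.left]
    (hw : ((u ▷ G) ≫ μ[G]) ≫ p = snd F G ≫ p) :
    IsAffine X.left ∧
      (∃ x : X.left, (Set.univ : Set X.left) = {x} ∧ IsIso (X.hom.residueFieldMap x)) ∧
      ((Scheme.ΓSpecIso (CommRingCat.of k)).inv ≫ X.hom.appTop).hom.Finite := by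
  haveI hS : Subsingleton ↥(Spec (CommRingCat.of k)) :=
    inferInstanceAs (Subsingleton (PrimeSpectrum k))
  -- all points of `G` have the same image in `X`
  have hconst : ∀ g₁ g₂ : G.left, p.left.base g₁ = p.left.base g₂ := by
    intro g₁ g₂
    have hS' : G.hom.base g₁ = G.hom.base g₂ := Subsingleton.elim _ _
    obtain ⟨z, hz₁, hz₂⟩ := Scheme.Pullback.exists_preimage_pullback g₁ g₂ hS'
    obtain ⟨w, rfl⟩ := (surjective_shear_left u).surj z
    have e1 : (lift ((u ▷ G) ≫ μ[G]) (snd F G)).left ≫ pullback.fst G.hom G.hom =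
        ((u ▷ G) ≫ μ[G]).left :=
      congrArg (fun φ : F ⊗ G ⟶ G => φ.left) (lift_fst _ _)
    have e2 : (lift ((u ▷ G) ≫ μ[G]) (snd F G)).left ≫ pullback.snd G.hom G.hom =
        (snd F G).left :=
      congrArg (fun φ : F ⊗ G ⟶ G => φ.left) (lift_snd _ _)
    have e3 : ((u ▷ G) ≫ μ[G]).left ≫ p.left = (snd F G).left ≫ p.left :=
      congrArg (fun φ : F ⊗ G ⟶ X => φ.left) hw
    have h1 : ((u ▷ G) ≫ μ[G]).left.base w = g₁ :=
      (congrArg (fun φ : (F ⊗ G).left ⟶ G.left => φ.base w) e1).symm.trans hz₁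
    have h2 : (snd F G).left.base w = g₂ :=
      (congrArg (fun φ : (F ⊗ G).left ⟶ G.left => φ.base w) e2).symm.trans hz₂
    rw [← h1, ← h2]
    exact congrArg (fun φ : (F ⊗ G).left ⟶ X.left => φ.base w) e3
  haveI hsub : Subsingleton X.left := ⟨fun x₁ x₂ => by
    obtain ⟨g₁, rfl⟩ := p.left.surjective x₁
    obtain ⟨g₂, rfl⟩ := p.left.surjective x₂
    exact hconst g₁ g₂⟩
  -- the structure morphism is finite
  haveI : LocallyOfFinitePresentation (p.left ≫ X.hom) := by
    rw [Over.w p]
    exact LocallyOfFinitePresentation.iff_locallyOfFiniteType.mpr inferInstance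
  haveI : LocallyOfFinitePresentation X.hom := Groth.Agent.S0114.result p.left X.hom
  haveI : CompactSpace X.left := Finite.compactSpace
  haveI : QuasiCompact X.hom := inferInstance
  haveI : LocallyQuasiFinite X.hom :=
    LocallyQuasiFinite.of_injective (fun a b _ => Subsingleton.elim a b)
  haveI : IsLocallyArtinian (Spec (CommRingCat.of k)) :=
    Scheme.isLocallyArtinianScheme_Spec.mpr (inferInstanceAs (IsArtinianRing k))
  haveI : IsFinite X.hom := IsFinite.of_locallyQuasiFinite X.hom
  -- the rational point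
  let T : Scheme.{u} := (𝟙_ (Over (Spec (CommRingCat.of k)))).left
  let σ : T ⟶ X.left := (η[G] ≫ p).left
  have hσ : σ ≫ X.hom = 𝟙 T := Over.w (η[G] ≫ p)
  obtain ⟨t₀⟩ : Nonempty T := inferInstanceAs (Nonempty ↥(Spec (CommRingCat.of k)))
  refine ⟨isAffine_of_isAffineHom X.hom, ⟨σ t₀, ?_, ?_⟩, ?_⟩
  · exact Set.subsingleton_univ.eq_singleton_of_mem (Set.mem_univ _)
  · have h1 : (σ ≫ X.hom).residueFieldMap t₀ =
        X.hom.residueFieldMap (σ t₀) ≫ σ.residueFieldMap t₀ :=
      Scheme.residueFieldMap_comp σ X.hom t₀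
    have hid : ∀ (f : T ⟶ T), f = 𝟙 T → ∀ t, IsIso (f.residueFieldMap t) := by
      intro f hf t
      subst hf
      rw [Scheme.residueFieldMap_id]
      exact IsIso.id _
    have h3 : IsIso (X.hom.residueFieldMap (σ t₀) ≫ σ.residueFieldMap t₀) := by
      rw [← h1]
      exact hid _ hσ t₀
    have hBinj : Function.Injective (σ.residueFieldMap t₀).hom :=
      (σ.residueFieldMap t₀).hom.injective
    have hBsurj : Function.Surjective (σ.residueFieldMap t₀).hom := by
      intro y
      obtain ⟨z, hz⟩ := (ConcreteCategory.bijective_of_isIso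
        (X.hom.residueFieldMap (σ t₀) ≫ σ.residueFieldMap t₀)).2 y
      exact ⟨(X.hom.residueFieldMap (σ t₀)).hom z, hz⟩
    haveI : IsIso (σ.residueFieldMap t₀) :=
      (ConcreteCategory.isIso_iff_bijective _).mpr ⟨hBinj, hBsurj⟩
    have h4 : X.hom.residueFieldMap (σ t₀) =
        (X.hom.residueFieldMap (σ t₀) ≫ σ.residueFieldMap t₀) ≫ inv (σ.residueFieldMap t₀) := by
      rw [Category.assoc, IsIso.hom_inv_id, Category.comp_id]
    rw [h4]
    infer_instance
  · have h1 : X.hom.appTop.hom.Finite := Scheme.Hom.finite_appTop X.hom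
    rw [CommRingCat.hom_comp]
    exact h1.comp (RingHom.Finite.of_surjective _
      (ConcreteCategory.bijective_of_isIso (Scheme.ΓSpecIso (CommRingCat.of k)).inv).2)

end Groth.Agent.H1.GrpRedQ
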