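import Mathlib
import Groth.Prelude.Def_SGA1
import Groth.Agent.Lib.Helper1.Subtr2

set_option autoImplicit false

namespace Groth.Agent.Lib.Helper1.Subtr3

open CategoryTheory CategoryTheory.Limits AlgebraicGeometry HTop Subtr IsLocalRing
open Groth.Agent.Lib.Helper1.ValLift Groth.Agent.Lib.Helper1.ValChain
open Groth.Agent.Lib.Helper1.Subtr1 Groth.Agent.Lib.Helper1.Subtr2 Groth.Agent.H2.ProConsLib

universe u

variable {X Y : Scheme.{u}}

theorem isProConstructible_of_isClosed {A : Set X} (hA : IsClosed A) :
    ProCons.IsProConstructible A := by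
  have := isProConstructible_compl (isIndConstructible_of_isOpen hA.isOpen_compl)
  rwa [compl_compl] at this

/-- For a quasi-compact morphism, the image of a closed set is closed as soon as it is stable
under specialization. -/
theorem isClosed_image_of_stableUnderSpecialization (f : X ⟶ Y) [QuasiCompact f] {A : Set X}
    (hA : IsClosed A) (hst : StableUnderSpecialization (f '' A)) : IsClosed (f '' A) := by
  have hpro : ProCons.IsProConstructible (f '' A) :=
    isProConstructible_image f (isProConstructible_of_isClosed hA)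
  rw [← closure_subset_iff_isClosed]
  intro y hy
  obtain ⟨z, hz, hzy⟩ := exists_specializes_of_mem_closure hpro hy
  exact hst hzy hz

/-- A quasi-compact S-subtrusive morphism is submersive. -/
theorem IsSSubtrusive.isQuotientMap {f : X ⟶ Y} [QuasiCompact f] (hf : IsSSubtrusive f) :
    Topology.IsQuotientMap f := by
  rw [Topology.isQuotientMap_iff_isClosed]
  refine ⟨IsSSubtrusive.surjective hf, fun C => ⟨fun hC => hC.preimage f.continuous, fun hC => ?_⟩⟩
  have himg : f '' (f ⁻¹' C) = C := Set.image_preimage_eq _ (IsSSubtrusive.surjective hf)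
  rw [← himg]
  apply isClosed_image_of_stableUnderSpecialization f hC
  rw [himg]
  intro c t hct hc
  obtain ⟨x, x', hx, h1, h2⟩ := hf hct
  have hx' : x' ∈ f ⁻¹' C := by
    change f x' ∈ C
    rw [h2]; exact hc
  have hxm : x ∈ f ⁻¹' C := hC.stableUnderSpecialization hx hx'
  rw [← h1]
  exact hxm

/-- A quasi-compact universally S-subtrusive morphism is universally submersive. -/
theorem univSubmersive_of_univSSubtrusive {f : X ⟶ Y} [QuasiCompact f] (hf : UnivSSubtrusive f) :
    SGA1.UnivSubmersive f := by
  intro X' Y' i₁ i₂ f' hsq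
  have hqc : QuasiCompact f' := MorphismProperty.of_isPullback hsq.flip inferInstance
  exact IsSSubtrusive.isQuotientMap (hf i₁ i₂ f' hsq)

/-- Universal submersiveness can be tested on valuation rings (quasi-compact case). -/
theorem univSubmersive_of_forall_valuationRing (f : X ⟶ Y) [QuasiCompact f]
    (H : ∀ (V : Type u) [CommRing V] [IsDomain V] [ValuationRing V]
      (g : Spec (CommRingCat.of V) ⟶ Y), Topology.IsQuotientMap (pullback.snd f g)) :
    SGA1.UnivSubmersive f := by
  intro X' Y' i₁ i₂ f' hsq
  have hqc : QuasiCompact f' := MorphismProperty.of_isPullback hsq.flip inferInstance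
  -- the comparison map from the pullback over a valuation ring
  have key : ∀ (V : CommRingCat.{u}) [IsDomain V] [ValuationRing V] (k : Spec V ⟶ Y'),
      ∃ (P : Scheme.{u}) (s : P ⟶ Spec V) (r : P ⟶ X'), Topology.IsQuotientMap s ∧
        r ≫ f' = s ≫ k := by
    intro V _ _ k
    refine ⟨pullback f (k ≫ i₂), pullback.snd f (k ≫ i₂),
      hsq.lift (pullback.snd f (k ≫ i₂) ≫ k) (pullback.fst f (k ≫ i₂)) ?_, H V (k ≫ i₂), ?_⟩
    · rw [Category.assoc, pullback.condition]
    · exact hsq.lift_fst _ _ _
  have hsurj : Function.Surjective f' := by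
    intro t
    obtain ⟨P, s, r, hs, hr⟩ := key (Y'.residueField t) (Y'.fromSpecResidueField t)
    obtain ⟨p, hp⟩ := hs.surjective (closedPoint (Y'.residueField t))
    refine ⟨r p, ?_⟩
    rw [← Scheme.Hom.comp_apply, hr, Scheme.Hom.comp_apply, hp]
    exact Scheme.fromSpecResidueField_apply t _
  change Topology.IsQuotientMap f'
  rw [Topology.isQuotientMap_iff_isClosed]
  refine ⟨hsurj, fun C => ⟨fun hC => hC.preimage f'.continuous, fun hC => ?_⟩⟩
  have himg : f' '' (f' ⁻¹' C) = C := Set.image_preimage_eq _ hsurj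
  rw [← himg]
  apply isClosed_image_of_stableUnderSpecialization f' hC
  rw [himg]
  intro c t hct hc
  obtain ⟨A, q, hq1, hq2⟩ := exists_valuationSubring_of_specializes hct
  have hd : IsDomain (CommRingCat.of A) := inferInstanceAs (IsDomain A)
  have hv : ValuationRing (CommRingCat.of A) := inferInstanceAs (ValuationRing A)
  obtain ⟨P, s, r, hs, hr⟩ := key (.of A) q
  have hcl : IsClosed (s ⁻¹' (q ⁻¹' C)) := by
    have : s ⁻¹' (q ⁻¹' C) = r ⁻¹' (f' ⁻¹' C) := by
      ext p
      simp only [Set.mem_preimage]
      rw [← Scheme.Hom.comp_apply, ← Scheme.Hom.comp_apply, hr]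
    rw [this]
    exact hC.preimage r.continuous
  have hcl' : IsClosed (q ⁻¹' C) := hs.isClosed_preimage.1 hcl
  -- generic point of Spec A maps to c
  have h1 : Spec.map (CommRingCat.ofHom (algebraMap A (Y'.residueField c)))
      (closedPoint (Y'.residueField c)) = (⟨⊥, Ideal.isPrime_bot⟩ : PrimeSpectrum A) := by
    apply PrimeSpectrum.ext
    change Ideal.comap (algebraMap A (Y'.residueField c)) (maximalIdeal _) = ⊥
    rw [IsLocalRing.maximalIdeal_eq_bot, ← RingHom.ker_eq_comap_bot]
    exact (RingHom.injective_iff_ker_eq_bot _).mp (FaithfulSMul.algebraMap_injective _ _)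
  have h2 : q (⟨⊥, Ideal.isPrime_bot⟩ : PrimeSpectrum A) = c := by
    rw [← h1, ← Scheme.Hom.comp_apply]
    have := congrArg (fun m => m (closedPoint (Y'.residueField c))) hq2
    simp only at this
    rw [Scheme.fromSpecResidueField_apply] at this
    exact this
  have hη : (⟨⊥, Ideal.isPrime_bot⟩ : PrimeSpectrum A) ∈ q ⁻¹' C := by
    change q _ ∈ C
    rw [h2]; exact hc
  have hcp : closedPoint A ∈ q ⁻¹' C :=
    hcl'.stableUnderSpecialization (bot_specializes (V := CommRingCat.of A) (closedPoint A)) hη
  rw [← hq1]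
  exact hcp

end Groth.Agent.Lib.Helper1.Subtr3
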