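import Mathlib
import Groth.Agent.Lib.Helper1.GrpRep
import Groth.Agent.Lib.Helper1.GrpSmN
import Groth.Agent.Lib.Helper1.GrpNeutD
import Groth.Agent.Lib.Helper1.Subtr3

/-! FGA / SGA3 VI_B (helper1): over a locally noetherian base, `G⁰` is open over a neighbourhood of
every maximal point of the base, and carries there an open subgroup scheme of finite type with
connected fibres (S5679).  General construction of the open subgroup scheme on `G⁰` when `G⁰`
is open. -/

set_option autoImplicit false
set_option linter.style.haveILetI false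
universe u

namespace Groth.Agent.H1.GrpRepD

open CategoryTheory CategoryTheory.Limits MonoidalCategory CartesianMonoidalCategory MonObj GrpObj
  AlgebraicGeometry Groth.Agent.H1.GrpSmN Groth.Agent.H2.ProConsLib Topology

section Sub

variable {S : Scheme.{u}} (G : Over S) [GrpObj G]

/-- if `G⁰` is open, it underlies an open subgroup scheme, quasi-compact over `S` with connected
fibres. -/
theorem exists_open_subgroup (hopen : IsOpen (SGA3x.neutralSet G)) :
    ∃ (G0 : Over S) (_ : GrpObj G0) (i : G0 ⟶ G), IsMonHom i ∧ IsOpenImmersion i.left ∧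
      Set.range i.left.base = SGA3x.neutralSet G ∧ QuasiCompact G0.hom ∧
      ∀ s : S, _root_.IsConnected (G0.hom.base ⁻¹' {s}) := by
  let Nop : G.left.Opens := ⟨SGA3x.neutralSet G, hopen⟩
  let G0₀ : Over S := Over.mk (Nop.ι ≫ G.hom)
  let i₀ : G0₀ ⟶ G := Over.homMk Nop.ι rfl
  haveI : Mono i₀.left := (inferInstance : Mono Nop.ι)
  haveI : Mono i₀ := Over.mono_of_mono_left i₀
  have hfac : ∀ (T : Over S) (g : T ⟶ G), (Subobject.mk i₀).Factors g ↔
      Set.range g.left.base ⊆ SGA3x.neutralSet G := by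
    intro T g
    constructor
    · intro h
      obtain ⟨h', hh'⟩ := (Subobject.mk_factors_iff i₀ g).1 h
      have hh'' : h' ≫ i₀ = g := hh'
      rintro _ ⟨t, rfl⟩
      rw [← hh'']
      exact (h'.left.base t).2
    · intro hr
      have hr' : Set.range g.left.base ⊆ Set.range Nop.ι.base := by
        rw [Scheme.Opens.range_ι]; exact hr
      let h' : T ⟶ G0₀ := Over.homMk (IsOpenImmersion.lift Nop.ι g.left hr') (by
        show IsOpenImmersion.lift Nop.ι g.left hr' ≫ Nop.ι ≫ G.hom = T.hom
        rw [← Category.assoc, IsOpenImmersion.lift_fac]; exact Over.w g)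
      have hh : h' ≫ i₀ = g := by
        apply Over.OverMorphism.ext
        show IsOpenImmersion.lift Nop.ι g.left hr' ≫ Nop.ι = g.left
        exact IsOpenImmersion.lift_fac _ _ _
      exact (Subobject.mk_factors_iff i₀ g).2 ⟨h', hh⟩
  have hK : IsSubgrp (Subobject.mk i₀) := by
    refine ⟨?_, ?_, ?_⟩
    · refine (hfac _ _).2 ?_
      rintro _ ⟨p, rfl⟩
      exact GrpNeutC.unitSec_mem G p
    · intro T x y hx hy
      have hx' := (hfac _ _).1 hx
      have hy' := (hfac _ _).1 hy
      refine (hfac _ _).2 ?_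
      rintro _ ⟨t, rfl⟩
      have h1 : (x * y).left.base t = μ[G].left.base ((lift x y).left.base t) := by
        rw [Hom.mul_def]; rfl
      rw [h1]
      refine GrpNeutC.mul_mem G _ ?_ ?_
      · have : (fst G G).left.base ((lift x y).left.base t) = x.left.base t :=
          congrArg (fun φ : T ⟶ G => φ.left.base t) (lift_fst x y)
        rw [this]; exact hx' ⟨t, rfl⟩
      · have : (snd G G).left.base ((lift x y).left.base t) = y.left.base t :=
          congrArg (fun φ : T ⟶ G => φ.left.base t) (lift_snd x y)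
        rw [this]; exact hy' ⟨t, rfl⟩
    · intro T x hx
      have hx' := (hfac _ _).1 hx
      refine (hfac _ _).2 ?_
      rintro _ ⟨t, rfl⟩
      have h1 : (x⁻¹).left.base t = ι[G].left.base (x.left.base t) := by
        rw [Hom.inv_def]; rfl
      rw [h1]
      exact GrpNeutC.inv_mem G _ (hx' ⟨t, rfl⟩)
  letI str : GrpObj ((Subobject.mk i₀ : Subobject G) : Over S) := subGrpObj hK
  have hmon : IsMonHom (Subobject.mk i₀).arrow := isMonHom_arrow hK
  have harrow : (Subobject.mk i₀).arrow = (Subobject.underlyingIso i₀).hom ≫ i₀ :=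
    (Subobject.underlyingIso_hom_comp_eq_mk i₀).symm
  have hleft : (Subobject.mk i₀).arrow.left = (Subobject.underlyingIso i₀).hom.left ≫ Nop.ι := by
    rw [harrow]; rfl
  haveI hisoL : IsIso (Subobject.underlyingIso i₀).hom.left :=
    (inferInstance : IsIso ((Over.forget S).map (Subobject.underlyingIso i₀).hom))
  haveI hoi : IsOpenImmersion (Subobject.mk i₀).arrow.left := by
    rw [hleft]; infer_instance
  have hrange : Set.range (Subobject.mk i₀).arrow.left.base = SGA3x.neutralSet G := by
    have hs : Function.Surjective (Subobject.underlyingIso i₀).hom.left.base :=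
      fun y => GrpNeutC.surj_of_isIso _ y
    rw [hleft, Scheme.Hom.comp_base, TopCat.coe_comp, Set.range_comp, hs.range_eq, Set.image_univ]
    exact Scheme.Opens.range_ι Nop
  have hconn : ∀ s : S, _root_.IsConnected
      (((Subobject.mk i₀ : Subobject G) : Over S).hom.base ⁻¹' {s}) := by
    intro s
    have hGj : ∀ z, G.hom.base ((Subobject.mk i₀).arrow.left.base z) =
        ((Subobject.mk i₀ : Subobject G) : Over S).hom.base z := fun z =>
      congrArg (fun ψ : ((Subobject.mk i₀ : Subobject G) : Over S).left ⟶ S => ψ.base z)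
        (Over.w (Subobject.mk i₀).arrow)
    have himg : (Subobject.mk i₀).arrow.left.base ''
        (((Subobject.mk i₀ : Subobject G) : Over S).hom.base ⁻¹' {s}) =
        connectedComponentIn (G.hom.base ⁻¹' {s}) ((GrpFib.unitSec G).base s) := by
      rw [← GrpUO.neutralSet_inter_fibre]
      ext x
      constructor
      · rintro ⟨z, hz, rfl⟩
        refine ⟨?_, ?_⟩
        · rw [← hrange]; exact ⟨z, rfl⟩
        · show G.hom.base _ = s
          rw [hGj]; exact hz
      · rintro ⟨hxN, hxs⟩
        rw [← hrange] at hxN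
        obtain ⟨z, rfl⟩ := hxN
        refine ⟨z, ?_, rfl⟩
        show _ = s
        rw [← hGj]; exact hxs
    have hc : _root_.IsConnected ((Subobject.mk i₀).arrow.left.base ''
        (((Subobject.mk i₀ : Subobject G) : Over S).hom.base ⁻¹' {s})) := by
      rw [himg]
      exact isConnected_connectedComponentIn_iff.2 (GrpFib.hom_unitSec G s)
    exact ⟨hc.nonempty.of_image,
      ((Subobject.mk i₀).arrow.left.isOpenEmbedding.isInducing.isPreconnected_image).1
        hc.isPreconnected⟩
  exact ⟨((Subobject.mk i₀ : Subobject G) : Over S), str, (Subobject.mk i₀).arrow, hmon, hoi,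
    hrange, GrpNeutB.s5324 ((Subobject.mk i₀ : Subobject G) : Over S) hconn, hconn⟩

end Sub

section Noeth

theorem lfp_of_lft {X S : Scheme.{u}} (f : X ⟶ S) [LocallyOfFiniteType f]
    [IsLocallyNoetherian S] : LocallyOfFinitePresentation f := by
  rw [HasRingHomProperty.iff_appLE (P := @LocallyOfFinitePresentation)]
  intro U V e
  have h1 : (f.appLE U.1 V.1 e).hom.FiniteType :=
    HasRingHomProperty.appLE (P := @LocallyOfFiniteType) f inferInstance U V e
  haveI : IsNoetherianRing Γ(S, U.1) := IsLocallyNoetherian.component_noetherian U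
  exact RingHom.FinitePresentation.of_finiteType.mp h1

theorem isProConstructible_inter' {X : Scheme.{u}} {A B : Set X}
    (hA : ProCons.IsProConstructible A) (hB : ProCons.IsProConstructible B) :
    ProCons.IsProConstructible (A ∩ B) := by
  refine isProConstructible_of_cc fun x => ?_
  obtain ⟨V, hV, hxV, -⟩ := exists_affine_nhd x isOpen_univ (Set.mem_univ x)
  obtain ⟨i1, i2, i3, i4⟩ := spectral_of_isAffineOpen hV
  refine ⟨V, hV, hxV, ?_⟩
  have h1 := cc_of_isProConstructible V.isOpen hA
  have h2 := cc_of_isProConstructible V.isOpen hB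
  rw [Set.preimage_inter]
  exact h1.inter h2

variable {S : Scheme.{u}} (G : Over S) [GrpObj G]

/-- a quasi-compact open containing the part of `G⁰` over an affine open of the base -/
theorem exists_compact_open_over (V : S.Opens) (hV : IsAffineOpen V) :
    ∃ Q : G.left.Opens, IsCompact (Q : Set G.left) ∧
      SGA3x.neutralSet G ∩ G.hom.base ⁻¹' (V : Set S) ⊆ Q := by
  haveI : IsAffine (V : Scheme.{u}) := hV
  obtain ⟨Q₀, hQ₀c, hQ₀⟩ := GrpNeutB.s5323 (Red.bc V.ι G)
  rw [GrpNeut.s5322] at hQ₀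
  let Qs : Set G.left := (pullback.fst G.hom V.ι).base '' (Q₀ : Set (Red.bc V.ι G).left)
  have hQs : IsOpen Qs := (pullback.fst G.hom V.ι).isOpenEmbedding.isOpenMap _ Q₀.isOpen
  refine ⟨⟨Qs, hQs⟩, ?_, ?_⟩
  · exact hQ₀c.image (pullback.fst G.hom V.ι).continuous
  · rintro x ⟨hxN, hxV⟩
    have hrange : Set.range (pullback.fst G.hom V.ι).base = G.hom.base ⁻¹' (V : Set S) := by
      rw [Scheme.Pullback.range_fst, Scheme.Opens.range_ι]
    have hx : x ∈ Set.range (pullback.fst G.hom V.ι).base := by rw [hrange]; exact hxV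
    obtain ⟨y, rfl⟩ := hx
    exact ⟨y, hQ₀ hxN, rfl⟩

/-- over a locally noetherian base, `G⁰` is open over a neighbourhood of any maximal point. -/
theorem exists_open_neutral_open [IsLocallyNoetherian S] [LocallyOfFiniteType G.hom] (ξ : S)
    (hξ : ∀ y : S, y ⤳ ξ → y = ξ) :
    ∃ U : S.Opens, ξ ∈ U ∧ IsOpen (SGA3x.neutralSet G ∩ G.hom.base ⁻¹' (U : Set S)) := by
  haveI : LocallyOfFinitePresentation G.hom := lfp_of_lft G.hom
  haveI : IsLocallyNoetherian G.left := LocallyOfFiniteType.isLocallyNoetherian G.hom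
  haveI : QuasiSeparated G.hom := QuasiSeparated.of_quasiSeparatedSpace G.hom
  obtain ⟨V, hV, hξV, -⟩ := exists_affine_nhd ξ isOpen_univ (Set.mem_univ _)
  obtain ⟨Q, hQc, hQ⟩ := exists_compact_open_over G V hV
  have hNlc : IsLocallyConstructible (SGA3x.neutralSet G) := GrpICons.isLocallyConstructible G
  have hNpro : ProCons.IsProConstructible (SGA3x.neutralSet G) :=
    (isLocallyConstructible_iff.mp hNlc).2
  have hNcpro : ProCons.IsProConstructible (SGA3x.neutralSet G)ᶜ :=
    isProConstructible_compl (isLocallyConstructible_iff.mp hNlc).1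
  haveI : CompactSpace (Q : Scheme.{u}) := isCompact_iff_compactSpace.mp hQc
  let m : (Q : Scheme.{u}) ⟶ S := Q.ι ≫ G.hom
  haveI : QuasiCompact m := inferInstance
  let N' : Set (Q : Scheme.{u}) := Q.ι.base ⁻¹' SGA3x.neutralSet G
  have hN'pro : ProCons.IsProConstructible N' := isProConstructible_preimage Q.ι hNpro
  have hN'cpro : ProCons.IsProConstructible N'ᶜ := isProConstructible_preimage Q.ι hNcpro
  let Bad : Set (Q : Scheme.{u}) := N' ∩ closure N'ᶜ
  have hBad : ProCons.IsProConstructible Bad :=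
    isProConstructible_inter' hN'pro
      (Groth.Agent.Lib.Helper1.Subtr3.isProConstructible_of_isClosed isClosed_closure)
  let T : Set S := m.base '' Bad
  have hT : ProCons.IsProConstructible T := isProConstructible_image m hBad
  have hξT : ξ ∉ T := by
    rintro ⟨x', ⟨hx'N, hx'cl⟩, hx'ξ⟩
    obtain ⟨b', hb'N, hb'x'⟩ := exists_specializes_of_mem_closure hN'cpro hx'cl
    have hmb : m.base b' = ξ := by
      apply hξ
      rw [← hx'ξ]
      exact hb'x'.map m.continuous
    obtain ⟨O, -, hO⟩ := GrpNeutD.exists_open_inter (G := G) ξ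
    have hx : Q.ι.base x' ∈ (O : Set G.left) ∩ G.hom.base ⁻¹' {ξ} := by
      rw [hO]; exact ⟨hx'N, hx'ξ⟩
    have hb : Q.ι.base b' ∈ (O : Set G.left) :=
      (hb'x'.map Q.ι.continuous).mem_open O.isOpen hx.1
    have hbN : Q.ι.base b' ∈ SGA3x.neutralSet G ∩ G.hom.base ⁻¹' {ξ} := by
      rw [← hO]; exact ⟨hb, hmb⟩
    exact hb'N hbN.1
  have hξcl : ξ ∉ closure T := by
    intro h
    obtain ⟨t, htT, htξ⟩ := exists_specializes_of_mem_closure hT h
    rw [hξ t htξ] at htT
    exact hξT htT
  let U : S.Opens := V ⊓ ⟨(closure T)ᶜ, isClosed_closure.isOpen_compl⟩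
  refine ⟨U, ⟨hξV, hξcl⟩, ?_⟩
  rw [isOpen_iff_mem_nhds]
  rintro x ⟨hxN, hxU⟩
  have hxV : G.hom.base x ∈ (V : Set S) := hxU.1
  have hxQ : x ∈ (Q : Set G.left) := hQ ⟨hxN, hxV⟩
  let x' : (Q : Scheme.{u}) := ⟨x, hxQ⟩
  have hιx' : Q.ι.base x' = x := rfl
  have hx'Bad : x' ∉ Bad := by
    intro hb
    exact hxU.2 (subset_closure ⟨x', hb, rfl⟩)
  have hx'cl : x' ∉ closure N'ᶜ := fun h => hx'Bad ⟨hxN, h⟩
  let W : Set (Q : Scheme.{u}) := (closure N'ᶜ)ᶜ ∩ m.base ⁻¹' (U : Set S)
  have hWo : IsOpen W := isClosed_closure.isOpen_compl.inter (U.isOpen.preimage m.continuous)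
  have hιW : IsOpen (Q.ι.base '' W) := Q.ι.isOpenEmbedding.isOpenMap W hWo
  refine Filter.mem_of_superset (hιW.mem_nhds ⟨x', ⟨hx'cl, hxU⟩, hιx'⟩) ?_
  rintro _ ⟨w, ⟨hw1, hw2⟩, rfl⟩
  refine ⟨?_, hw2⟩
  by_contra hw
  exact hw1 (subset_closure hw)

/-- S5679. -/
theorem s5679 (S : Scheme.{u}) [IsLocallyNoetherian S] [Nonempty ↥S]
    (G : Over S) [GrpObj G] [LocallyOfFiniteType G.hom] :
    ∃ U : S.Opens, (U : Set ↥S).Nonempty ∧
      ∃ (H : Over (U : Scheme.{u})) (_ : GrpObj H) (i : H ⟶ Red.bc U.ι G), IsMonHom i ∧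
        IsOpenImmersion i.left ∧
        QuasiCompact H.hom ∧ LocallyOfFiniteType H.hom ∧
        (∀ u : ↥(U : Scheme.{u}), _root_.IsConnected (H.hom.base ⁻¹' {u})) ∧
        Set.range (i.left ≫ pullback.fst G.hom U.ι).base =
          SGA3x.neutralSet G ∩ G.hom.base ⁻¹' (U : Set ↥S) := by
  obtain ⟨s₀⟩ := ‹Nonempty ↥S›
  obtain ⟨ξ, -, hξ⟩ := exists_maximal_generization s₀
  obtain ⟨U, hξU, hopen⟩ := exists_open_neutral_open G ξ hξ
  refine ⟨U, ⟨ξ, hξU⟩, ?_⟩
  have hr : Set.range (pullback.fst G.hom U.ι).base = G.hom.base ⁻¹' (U : Set S) := by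
    rw [Scheme.Pullback.range_fst, Scheme.Opens.range_ι]
  have hN' : IsOpen (SGA3x.neutralSet (Red.bc U.ι G)) := by
    rw [GrpNeut.s5322]
    have : (pullback.fst G.hom U.ι).base ⁻¹' SGA3x.neutralSet G =
        (pullback.fst G.hom U.ι).base ⁻¹'
          (SGA3x.neutralSet G ∩ G.hom.base ⁻¹' (U : Set S)) := by
      ext y
      constructor
      · intro hy
        refine ⟨hy, ?_⟩
        rw [← hr]
        exact ⟨y, rfl⟩
      · exact fun hy => hy.1
    rw [this]
    exact hopen.preimage (pullback.fst G.hom U.ι).continuous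
  obtain ⟨H, instH, i, hmon, hoi, hrange, hqc, hconn⟩ :=
    exists_open_subgroup (Red.bc U.ι G) hN'
  refine ⟨H, instH, i, hmon, hoi, hqc, ?_, hconn, ?_⟩
  · haveI := hoi
    haveI : LocallyOfFiniteType (Red.bc U.ι G).hom := by
      show LocallyOfFiniteType (pullback.snd G.hom U.ι)
      infer_instance
    rw [← Over.w i]
    infer_instance
  · rw [Scheme.Hom.comp_base, TopCat.coe_comp, Set.range_comp, hrange, GrpNeut.s5322,
      Set.image_preimage_eq_inter_range, hr]

end Noeth

end Groth.Agent.H1.GrpRepD
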