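import Mathlib
import Groth.Agent.Lib.Helper1.GrpRepD

/-! FGA (helper1): the order function on the torsion-component set of a group scheme locally of
finite type over a locally noetherian base is locally constructible (S5693). -/

set_option autoImplicit false
set_option linter.style.haveILetI false
universe u

namespace Groth.Agent.H1.GrpRepE

open CategoryTheory CategoryTheory.Limits AlgebraicGeometry Topology

theorem isLocallyConstructible_preimage {X Y : Scheme.{u}} (g : Y ⟶ X) {W : Set X}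
    (hW : IsLocallyConstructible W) : IsLocallyConstructible (g.base ⁻¹' W) := by
  intro x
  obtain ⟨U, hxU, hU, hc⟩ := hW (g.base x)
  let U' : X.Opens := ⟨U, hU⟩
  refine ⟨g.base ⁻¹' U, g.continuous.continuousAt.preimage_mem_nhds hxU,
    hU.preimage g.continuous, ?_⟩
  have h1 : IsConstructible ((g ∣_ U').base ⁻¹' (Subtype.val ⁻¹' W : Set ↥U')) :=
    (g ∣_ U').isConstructible_preimage hc
  have e : (Subtype.val ⁻¹' (g.base ⁻¹' W) : Set ↥(g ⁻¹ᵁ U')) =
      (g ∣_ U').base ⁻¹' (Subtype.val ⁻¹' W : Set ↥U') := by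
    ext y
    change g.base y.1 ∈ W ↔ ((g ∣_ U').base y).1 ∈ W
    rw [morphismRestrict_base_coe]
  exact e ▸ h1

theorem s5693 (S : Scheme.{u}) [IsLocallyNoetherian S] (G : Over S) [GrpObj G]
    [LocallyOfFiniteType G.hom] (φ : ℕ → (G.left ⟶ G.left)) (n : ℕ) :
    IsLocallyConstructible {x : ↥G.left | (φ n).base x ∈ SGA3x.neutralSet G ∧
      ∀ d : ℕ, 0 < d → d < n → (φ d).base x ∉ SGA3x.neutralSet G} := by
  haveI : LocallyOfFinitePresentation G.hom := GrpRepD.lfp_of_lft G.hom
  haveI : IsLocallyNoetherian G.left := LocallyOfFiniteType.isLocallyNoetherian G.hom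
  haveI : QuasiSeparated G.hom := QuasiSeparated.of_quasiSeparatedSpace G.hom
  have hN : IsLocallyConstructible (SGA3x.neutralSet G) := GrpICons.isLocallyConstructible G
  have hpre : ∀ d : ℕ, IsLocallyConstructible ((φ d).base ⁻¹' SGA3x.neutralSet G) :=
    fun d => isLocallyConstructible_preimage _ hN
  have heq : {x : ↥G.left | (φ n).base x ∈ SGA3x.neutralSet G ∧
      ∀ d : ℕ, 0 < d → d < n → (φ d).base x ∉ SGA3x.neutralSet G} =
      ((φ n).base ⁻¹' SGA3x.neutralSet G) ∩
        ⋂ d : Fin n, {x : ↥G.left | 0 < d.1 → (φ d.1).base x ∉ SGA3x.neutralSet G} := by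
    ext x
    simp only [Set.mem_ofPred_eq, Set.mem_inter_iff, Set.mem_preimage, Set.mem_iInter]
    constructor
    · rintro ⟨h1, h2⟩
      exact ⟨h1, fun d hd => h2 d.1 hd d.2⟩
    · rintro ⟨h1, h2⟩
      exact ⟨h1, fun d hd hdn => h2 ⟨d, hdn⟩ hd⟩
  rw [heq]
  refine (hpre n).inter (IsLocallyConstructible.iInter fun d => ?_)
  by_cases hd : 0 < d.1
  · have : {x : ↥G.left | 0 < d.1 → (φ d.1).base x ∉ SGA3x.neutralSet G} =
        ((φ d.1).base ⁻¹' SGA3x.neutralSet G)ᶜ := by
      ext x
      simp [hd]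
    rw [this]
    exact Groth.Agent.H1.GIrr.isLocallyConstructible_compl (hpre d.1)
  · have : {x : ↥G.left | 0 < d.1 → (φ d.1).base x ∉ SGA3x.neutralSet G} = Set.univ := by
      ext x
      simp [hd]
    rw [this]
    exact IsLocallyConstructible.univ

end Groth.Agent.H1.GrpRepE
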