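import Mathlib
import Groth.Prelude.Def_AlgGrp
import Groth.Prelude.Def_Curv2
import Groth.Agent.Lib.Helper1.AbAvoid
import Groth.Agent.Lib.Helper1.GrpEquidim
import Groth.Agent.Lib.Helper1.DimZero
import Groth.Agent.Lib.Helper9.Misc.GZC1

/-! A group scheme of finite type over an algebraically closed field has zero tangent space at the
unit iff it is a finite disjoint union of copies of `Spec k` (helper1). -/

set_option autoImplicit false
set_option linter.unusedSectionVars false
universe u

namespace Groth.Agent.H1.GrpTan0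

open CategoryTheory MonoidalCategory CartesianMonoidalCategory MonObj GrpObj AlgebraicGeometry
  TopologicalSpace

variable (k : Type u) [Field k] [IsAlgClosed k]

/-- at a closed point whose local ring is a field, the structure map `k → O_x` is bijective. -/
theorem stalkMap_bijective {X : Scheme.{u}} [X.Over (Spec (CommRingCat.of k))]
    [LocallyOfFiniteType (X ↘ Spec (CommRingCat.of k))] (x : X) (hx : IsClosed ({x} : Set X))
    (hf : IsField (X.presheaf.stalk x)) : Function.Bijective (Curv2.stalkMap k X x) := by
  have hres : Function.Bijective (Curv2.resMap k X x) := by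
    have h1 : CommRingCat.ofHom (Curv2.resMap k X x) =
        (residueFieldIsoBase (X ↘ Spec (CommRingCat.of k)) x hx).inv := by
      apply Spec.map_injective
      rw [Groth.Agent.H9.GZC.specMap_resMap, SpecMap_residueFieldIsoBase_inv]
    have h2 : IsIso (CommRingCat.ofHom (Curv2.resMap k X x)) := by rw [h1]; infer_instance
    exact ConcreteCategory.bijective_of_isIso (CommRingCat.ofHom (Curv2.resMap k X x))
  have hinj : Function.Injective (X.residue x).hom := by
    rw [RingHom.injective_iff_ker_eq_bot]
    show RingHom.ker (IsLocalRing.residue (X.presheaf.stalk x)) = ⊥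
    rw [IsLocalRing.ker_residue]
    exact IsLocalRing.isField_iff_maximalIdeal_eq.mp hf
  refine ⟨(Curv2.stalkMap k X x).injective, fun y => ?_⟩
  obtain ⟨c, hc⟩ := hres.2 ((X.residue x).hom y)
  exact ⟨c, hinj hc⟩

theorem s14059 (G : Over (Spec (CommRingCat.of k))) [GrpObj G] [LocallyOfFiniteType G.hom]
    [QuasiCompact G.hom] (e : G.left) (he : e ∈ Set.range (η[G]).left.base) :
    letI : G.left.Over (Spec (CommRingCat.of k)) := ⟨G.hom⟩
    Subsingleton (IsLocalRing.CotangentSpace (G.left.presheaf.stalk e)) ↔
      (Finite G.left ∧ DiscreteTopology G.left ∧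
        ∀ g : G.left, Function.Bijective (Curv2.stalkMap k G.left g)) := by
  letI : G.left.Over (Spec (CommRingCat.of k)) := ⟨G.hom⟩
  haveI : LocallyOfFiniteType (G.left ↘ Spec (CommRingCat.of k)) := ‹LocallyOfFiniteType G.hom›
  haveI : IsLocallyNoetherian G.left := LocallyOfFiniteType.isLocallyNoetherian G.hom
  rw [IsLocalRing.subsingleton_cotangentSpace_iff]
  constructor
  · intro hfe
    obtain ⟨t, rfl⟩ := he
    have ht : t = (IsLocalRing.closedPoint k : PrimeSpectrum k) :=
      @Subsingleton.elim (PrimeSpectrum k) inferInstance _ _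
    have he1 : η[G].left.base t = AbAvoid.P k G 1 := by
      unfold AbAvoid.P
      rw [← MonObj.one_eq_one, ht]
    have hce : IsClosed ({η[G].left.base t} : Set G.left) := by
      have := ((pointEquivClosedPoint G.hom) ⟨η[G].left, Over.w η[G]⟩).2
      rw [ht]
      exact this
    have hdim : topologicalKrullDim G.left ≤ 0 := by
      rw [← Groth.Agent.H1.GrpEquidim.s0354 k G _ hce, ringKrullDim_eq_zero_of_isField hfe]
    haveI : CompactSpace G.left := QuasiCompact.compactSpace_of_compactSpace G.hom
    haveI : IsNoetherian G.left := {}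
    haveI : T2Space G.left := Groth.Agent.H1.DimZero.t2Space_of_dim hdim
    refine ⟨NoetherianSpace.finite, NoetherianSpace.discrete, fun g => ?_⟩
    have hcg : IsClosed ({g} : Set G.left) := isClosed_singleton
    obtain ⟨x, hx⟩ := AbAvoid.exists_pt g hcg
    obtain ⟨c, hc⟩ : ∃ c : G ⟶ G, c = toUnit G ≫ x := ⟨_, rfl⟩
    have hfc : ∀ f : G ⟶ G, f ≫ c = c := by
      intro f
      rw [hc, ← Category.assoc, toUnit_unique (f ≫ toUnit G) (toUnit G)]
    have h1 : (𝟙 G * c) ≫ (𝟙 G * c⁻¹) = 𝟙 G := by
      rw [MonObj.comp_mul, GrpObj.comp_inv, hfc, Category.comp_id]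
      group
    have h2 : (𝟙 G * c⁻¹) ≫ (𝟙 G * c) = 𝟙 G := by
      rw [MonObj.comp_mul, hfc, Category.comp_id]
      group
    haveI : IsIso (𝟙 G * c).left :=
      ⟨⟨(𝟙 G * c⁻¹).left, by rw [← Over.comp_left, h1]; rfl, by rw [← Over.comp_left, h2]; rfl⟩⟩
    have hmap : (𝟙 G * c).left.base (η[G].left.base t) = g := by
      rw [he1, AbAvoid.P_comp, MonObj.comp_mul, Category.comp_id, hc, ← Category.assoc,
        AbAvoid.toUnit_comp_pt, Category.id_comp, _root_.one_mul, hx]
    have hfield : IsField (G.left.presheaf.stalk ((𝟙 G * c).left.base (η[G].left.base t))) :=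
      MulEquiv.isField hfe
        (asIso ((𝟙 G * c).left.stalkMap (η[G].left.base t))).commRingCatIsoToRingEquiv.toMulEquiv
    rw [hmap] at hfield
    exact stalkMap_bijective k g hcg hfield
  · rintro ⟨-, -, h⟩
    exact MulEquiv.isField (Field.toIsField k) (RingEquiv.ofBijective _ (h e)).symm.toMulEquiv

end Groth.Agent.H1.GrpTan0
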