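import Mathlib
import Groth.Agent.Lib.Helper1.GrpSepB
import Groth.Agent.Lib.Helper1.GrpRepD

/-! FGA / SGA6 XIII: universal openness of the torsion component set at points of the
identity-component set (S5697) (helper1). -/

set_option autoImplicit false
set_option linter.style.haveILetI false
universe u

namespace Groth.Agent.H1.GrpTau

open CategoryTheory CategoryTheory.Limits MonoidalCategory CartesianMonoidalCategory MonObj GrpObj
  AlgebraicGeometry

variable {S : Scheme.{u}} (G : Over S) [GrpObj G]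

/-- from "open at the points of the neutral set after every base change" to `IsUnivOpenAt`. -/
theorem isUnivOpenAt_bc
    (hopen : ∀ (S' : Scheme.{u}) (g : S' ⟶ S) (x' : ↥(Red.bc g G).left),
      x' ∈ SGA3x.neutralSet (Red.bc g G) →
      ∀ U : Set ↥(Red.bc g G).left, IsOpen U → x' ∈ U →
        (Red.bc g G).hom.base '' U ∈ nhds ((Red.bc g G).hom.base x'))
    {S' : Scheme.{u}} (g : S' ⟶ S) :
    ∀ x ∈ SGA3x.neutralSet (Red.bc g G), EGA43.IsUnivOpenAt (Red.bc g G).hom x := by
  intro x hx Y' g' x'' hx'' V hV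
  obtain ⟨O, hOV, hO, hxO⟩ := mem_nhds_iff.mp hV
  let e := pullbackLeftPullbackSndIso G.hom g g'
  have h1 : e.hom ≫ pullback.fst G.hom (g' ≫ g) =
      pullback.fst (pullback.snd G.hom g) g' ≫ pullback.fst G.hom g :=
    pullbackLeftPullbackSndIso_hom_fst G.hom g g'
  have h2 : (pullback.fst G.hom (g' ≫ g)).base (e.hom.base x'') =
      (pullback.fst G.hom g).base ((pullback.fst (pullback.snd G.hom g) g').base x'') :=
    congrArg (fun φ : pullback (pullback.snd G.hom g) g' ⟶ G.left => φ.base x'') h1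
  have hmem : e.hom.base x'' ∈ SGA3x.neutralSet (Red.bc (g' ≫ g) G) := by
    rw [GrpNeut.s5322 G (g' ≫ g)]
    rw [GrpNeut.s5322 G g] at hx
    show (pullback.fst G.hom (g' ≫ g)).base (e.hom.base x'') ∈ SGA3x.neutralSet G
    rw [h2]
    have hx3 : (pullback.fst (pullback.snd G.hom g) g').base x'' = x := hx''
    rw [hx3]
    exact hx
  have hO' : IsOpen (e.hom.base '' O) := e.hom.isOpenEmbedding.isOpenMap _ hO
  have h3 : e.hom ≫ pullback.snd G.hom (g' ≫ g) = pullback.snd (pullback.snd G.hom g) g' :=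
    pullbackLeftPullbackSndIso_hom_snd G.hom g g'
  have h4 : ∀ w, (pullback.snd G.hom (g' ≫ g)).base (e.hom.base w) =
      (pullback.snd (pullback.snd G.hom g) g').base w := fun w =>
    congrArg (fun φ : pullback (pullback.snd G.hom g) g' ⟶ Y' => φ.base w) h3
  have h5 := hopen Y' (g' ≫ g) (e.hom.base x'') hmem (e.hom.base '' O) hO' ⟨x'', hxO, rfl⟩
  have h6 : (pullback.snd (pullback.snd G.hom g) g').base '' O ∈
      nhds ((pullback.snd (pullback.snd G.hom g) g').base x'') := by
    have e1 : (pullback.snd G.hom (g' ≫ g)).base '' (e.hom.base '' O) =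
        (pullback.snd (pullback.snd G.hom g) g').base '' O := by
      rw [Set.image_image]
      exact Set.image_congr (fun w _ => h4 w)
    have h7 : (pullback.snd G.hom (g' ≫ g)).base '' (e.hom.base '' O) ∈
        nhds ((pullback.snd G.hom (g' ≫ g)).base (e.hom.base x'')) := h5
    rw [e1, h4] at h7
    exact h7
  exact Filter.mem_of_superset h6 (Set.image_mono hOV)

/-- S5697, for any set containing the neutral set. -/
theorem s5697 [IsLocallyNoetherian S] [LocallyOfFiniteType G.hom]
    (hopen : ∀ (S' : Scheme.{u}) (g : S' ⟶ S) (x' : ↥(Red.bc g G).left),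
      x' ∈ SGA3x.neutralSet (Red.bc g G) →
      ∀ U : Set ↥(Red.bc g G).left, IsOpen U → x' ∈ U →
        (Red.bc g G).hom.base '' U ∈ nhds ((Red.bc g G).hom.base x'))
    (S' : Scheme.{u}) (g : S' ⟶ S) (x' : ↥(Red.bc g G).left)
    (hx' : x' ∈ SGA3x.neutralSet (Red.bc g G))
    (U : Set ↥(Red.bc g G).left) (hU : IsOpen U) (hxU : x' ∈ U)
    (T : Set ↥(Red.bc g G).left) (hT : SGA3x.neutralSet (Red.bc g G) ⊆ T) :
    (Red.bc g G).hom.base '' (U ∩ T) ∈ nhds ((Red.bc g G).hom.base x') := by
  haveI : LocallyOfFinitePresentation G.hom := GrpRepD.lfp_of_lft G.hom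
  haveI : LocallyOfFinitePresentation (Red.bc g G).hom := by
    show LocallyOfFinitePresentation (pullback.snd G.hom g)
    infer_instance
  have hUO := isUnivOpenAt_bc G hopen g
  have h1 := GrpSep.isOpen_image_neutralSet_inter (Red.bc g G) hUO U hU
  refine Filter.mem_of_superset (h1.mem_nhds ⟨x', ⟨hx', hxU⟩, rfl⟩) ?_
  rintro _ ⟨w, ⟨hw1, hw2⟩, rfl⟩
  exact ⟨w, ⟨hw2, hT hw1⟩, rfl⟩

end Groth.Agent.H1.GrpTau
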