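import Mathlib
import Groth.Agent.Lib.Helper9.Misc.LFP1

/-! Helper1: the universal word morphisms `X^n ⟶ H`, and bounded word length by compactness of
the constructible topology + Chevalley (S6076). -/

set_option autoImplicit false
set_option linter.style.haveILetI false
set_option linter.unusedSectionVars false
set_option linter.unusedVariables false

namespace Groth.Agent.H1.GrpWord

universe u v w

open CategoryTheory CategoryTheory.Limits MonoidalCategory CartesianMonoidalCategory MonObj GrpObj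
  AlgebraicGeometry Topology

section Abstract

variable {C : Type w} [Category.{v} C] [CartesianMonoidalCategory C]

/-- the `n`-fold power of `X`. -/
def Pw (X : C) : ℕ → C
  | 0 => 𝟙_ C
  | n + 1 => X ⊗ Pw X n

/-- the projections. -/
def pr (X : C) : (n : ℕ) → Fin n → (Pw X n ⟶ X)
  | 0 => fun j => j.elim0
  | n + 1 => fun j => Fin.cases (fst X (Pw X n)) (fun j' => snd X (Pw X n) ≫ pr X n j') j

/-- the lift of a family of points. -/
def liftN {X T : C} : (n : ℕ) → (Fin n → (T ⟶ X)) → (T ⟶ Pw X n)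
  | 0 => fun _ => toUnit T
  | n + 1 => fun x => lift (x 0) (liftN n (fun j => x j.succ))

lemma pr_zero (X : C) (n : ℕ) : pr X (n + 1) 0 = fst X (Pw X n) := rfl

lemma pr_succ (X : C) (n : ℕ) (j : Fin n) :
    pr X (n + 1) j.succ = snd X (Pw X n) ≫ pr X n j := rfl

lemma liftN_pr {X T : C} (n : ℕ) (x : Fin n → (T ⟶ X)) (j : Fin n) :
    liftN n x ≫ pr X n j = x j := by
  induction n with
  | zero => exact j.elim0
  | succ n ih =>
    refine Fin.cases ?_ (fun j' => ?_) j
    · rw [pr_zero]
      exact lift_fst _ _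
    · rw [pr_succ]
      show lift (x 0) (liftN n fun j => x j.succ) ≫ snd X (Pw X n) ≫ pr X n j' = x j'.succ
      rw [lift_snd_assoc]
      exact ih (fun j => x j.succ) j'

variable {H X : C} [GrpObj H]

/-- precomposition as a group homomorphism on points of a group object. -/
def precomp {T T' : C} (t : T' ⟶ T) : (T ⟶ H) →* (T' ⟶ H) where
  toFun w := t ≫ w
  map_one' := MonObj.comp_one t
  map_mul' a b := MonObj.comp_mul t a b

/-- the word in `f` at points `x` with signs `ε`. -/
def wordOf {T : C} (f : X ⟶ H) (n : ℕ) (x : Fin n → (T ⟶ X)) (ε : Fin n → Bool) : T ⟶ H :=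
  (List.ofFn fun j : Fin n => if ε j then x j ≫ f else (x j ≫ f)⁻¹).prod

lemma comp_wordOf {T T' : C} (t : T' ⟶ T) (f : X ⟶ H) (n : ℕ) (x : Fin n → (T ⟶ X))
    (ε : Fin n → Bool) : t ≫ wordOf f n x ε = wordOf f n (fun j => t ≫ x j) ε := by
  unfold wordOf
  have h := map_list_prod (precomp (H := H) t)
    (List.ofFn fun j : Fin n => if ε j then x j ≫ f else (x j ≫ f)⁻¹)
  refine h.trans ?_
  rw [List.map_ofFn]
  congr 2
  funext j
  show t ≫ (if ε j then x j ≫ f else (x j ≫ f)⁻¹) =
    if ε j then (t ≫ x j) ≫ f else ((t ≫ x j) ≫ f)⁻¹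
  by_cases hj : ε j = true
  · rw [if_pos hj, if_pos hj, Category.assoc]
  · rw [if_neg hj, if_neg hj, GrpObj.comp_inv, Category.assoc]

/-- the universal word. -/
def uw (f : X ⟶ H) (n : ℕ) (ε : Fin n → Bool) : Pw X n ⟶ H := wordOf f n (pr X n) ε

lemma liftN_uw {T : C} (f : X ⟶ H) (n : ℕ) (x : Fin n → (T ⟶ X)) (ε : Fin n → Bool) :
    liftN n x ≫ uw f n ε = wordOf f n x ε := by
  unfold uw
  rw [comp_wordOf]
  congr 1
  funext j
  exact liftN_pr n x j

end Abstract

section Top

variable {Z : Type*} [TopologicalSpace Z]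

lemma isClopen_preimage_of_isConstructible [CompactSpace Z] {s : Set Z} (hs : IsConstructible s) :
    IsClopen ((WithTopology.ofTopology (t := constructibleTopology Z)) ⁻¹' s) := by
  induction hs using IsConstructible.empty_union_induction with
  | open_retrocompact U hUo hUc =>
    have hU : IsCompact U := by simpa using hUc isCompact_univ isOpen_univ
    refine ⟨?_, ?_⟩
    · rw [← isOpen_compl_iff]
      refine (WithTopology.isOpen_iff _).mpr ?_
      exact IsCompact.isOpen_constructibleTopology_of_isClosed (s := Uᶜ)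
        (by rwa [compl_compl]) hUo.isClosed_compl
    · exact (WithTopology.isOpen_iff _).mpr (hU.isOpen_constructibleTopology_of_isOpen hUo)
  | union s hs t ht hs' ht' =>
    rw [Set.preimage_union]
    exact hs'.union ht'
  | compl s hs hs' =>
    rw [Set.preimage_compl]
    exact hs'.compl

lemma exists_finset_of_isConstructible [CompactSpace Z] [QuasiSober Z] [PrespectralSpace Z]
    [QuasiSeparatedSpace Z] {σ : Type*} (A : σ → Set Z) (hA : ∀ i, IsConstructible (A i))
    (hcov : ∀ x, ∃ i, x ∈ A i) : ∃ t : Finset σ, ∀ x, ∃ i ∈ t, x ∈ A i := by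
  obtain ⟨t, ht⟩ := (isCompact_univ (X := WithConstructibleTopology Z)).elim_finite_subcover
    (fun i => (WithTopology.ofTopology (t := constructibleTopology Z)) ⁻¹' A i)
    (fun i => (isClopen_preimage_of_isConstructible (hA i)).isOpen)
    (fun x _ => by
      obtain ⟨i, hi⟩ := hcov (WithTopology.ofTopology x)
      exact Set.mem_iUnion.mpr ⟨i, hi⟩)
  refine ⟨t, fun x => ?_⟩
  have hx := ht (Set.mem_univ (WithTopology.toTopology (constructibleTopology Z) x))
  simp only [Set.mem_iUnion, Set.mem_preimage] at hx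
  obtain ⟨i, hi, hxi⟩ := hx
  exact ⟨i, hi, hxi⟩

end Top

section Sch

/-- finitely many members of a jointly surjective family of locally finitely presented morphisms
cover a given affine open. -/
lemma exists_finset_cover_affine {Y : Scheme.{u}} {I : Type*} (P : I → Scheme.{u})
    (g : ∀ i, P i ⟶ Y) [∀ i, LocallyOfFinitePresentation (g i)]
    (hcov : ∀ y : Y, ∃ i, y ∈ Set.range (g i).base) (V : Y.Opens) (hV : IsAffineOpen V) :
    ∃ F : Finset I, ∀ y : Y, y ∈ V → ∃ i ∈ F, y ∈ Set.range (g i).base := by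
  classical
  haveI : IsAffine (V : Scheme.{u}) := hV
  let σ := Σ i : I, {U : (P i).Opens // IsAffineOpen U ∧ U ≤ (g i) ⁻¹ᵁ V}
  let A : σ → Set ↥(V : Scheme.{u}) := fun s => Set.range ((g s.1).resLE V s.2.1 s.2.2.2).base
  have hA : ∀ s, IsConstructible (A s) := by
    rintro ⟨i, U, hU, hle⟩
    haveI : IsAffine (U : Scheme.{u}) := hU
    haveI : QuasiCompact ((g i).resLE V U hle) :=
      (HasAffineProperty.iff_of_isAffine (P := @QuasiCompact)).mpr inferInstance
    have h := Scheme.Hom.isConstructible_image ((g i).resLE V U hle) IsConstructible.univ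
    rwa [Set.image_univ] at h
  have hc : ∀ v : ↥(V : Scheme.{u}), ∃ s, v ∈ A s := by
    intro v
    obtain ⟨i, q, hq⟩ := hcov v.1
    have hqV : q ∈ (g i) ⁻¹ᵁ V := by
      show (g i).base q ∈ V
      rw [hq]
      exact v.2
    obtain ⟨_, ⟨U, hU, rfl⟩, hqU, hUle⟩ :=
      (P i).isBasis_affineOpens.exists_subset_of_mem_open hqV ((g i) ⁻¹ᵁ V).isOpen
    refine ⟨⟨i, U, hU, hUle⟩, ⟨q, hqU⟩, ?_⟩
    apply Subtype.ext
    have e := congrArg (fun φ => φ.base ⟨q, hqU⟩) (Scheme.Hom.resLE_comp_ι (g i) (U := V) (V := U) hUle)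
    exact e.trans hq
  obtain ⟨t, ht⟩ := exists_finset_of_isConstructible A hA hc
  refine ⟨t.image Sigma.fst, fun y hy => ?_⟩
  obtain ⟨s, hs, u, hu⟩ := ht ⟨y, hy⟩
  refine ⟨s.1, Finset.mem_image_of_mem _ hs, u.1, ?_⟩
  have e := congrArg (fun φ => φ.base u)
    (Scheme.Hom.resLE_comp_ι (g s.1) (U := V) (V := s.2.1) s.2.2.2)
  have e2 : ((g s.1).resLE V s.2.1 s.2.2.2).base u = ⟨y, hy⟩ := hu
  exact e.symm.trans (congrArg Subtype.val e2)

/-- finitely many members of a jointly surjective family of locally finitely presented morphisms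
to a quasi-compact scheme are jointly surjective. -/
lemma exists_finset_cover {Y : Scheme.{u}} [CompactSpace Y] {I : Type*} (P : I → Scheme.{u})
    (g : ∀ i, P i ⟶ Y) [∀ i, LocallyOfFinitePresentation (g i)]
    (hcov : ∀ y : Y, ∃ i, y ∈ Set.range (g i).base) :
    ∃ F : Finset I, ∀ y : Y, ∃ i ∈ F, y ∈ Set.range (g i).base := by
  classical
  have hb : ∀ y : Y, ∃ V : Y.Opens, IsAffineOpen V ∧ y ∈ V := fun y => by
    obtain ⟨_, ⟨V, hV, rfl⟩, hyV, -⟩ :=
      Y.isBasis_affineOpens.exists_subset_of_mem_open (Set.mem_univ y) isOpen_univ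
    exact ⟨V, hV, hyV⟩
  choose V hV hyV using hb
  obtain ⟨t, ht⟩ := isCompact_univ.elim_finite_subcover (fun y => (V y : Set Y))
    (fun y => (V y).isOpen) (fun y _ => Set.mem_iUnion.mpr ⟨y, hyV y⟩)
  choose FV hFV using fun y => exists_finset_cover_affine P g hcov (V y) (hV y)
  refine ⟨t.biUnion FV, fun y => ?_⟩
  have hy := ht (Set.mem_univ y)
  simp only [Set.mem_iUnion] at hy
  obtain ⟨y', hy't, hyy'⟩ := hy
  obtain ⟨i, hi, hyi⟩ := hFV y' y hyy'
  exact ⟨i, Finset.mem_biUnion.mpr ⟨y', hy't, hi⟩, hyi⟩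

variable {S : Scheme.{u}}

lemma lfp_Pw (X : Over S) [LocallyOfFinitePresentation X.hom] :
    ∀ n, LocallyOfFinitePresentation (Pw X n).hom
  | 0 => by
      show LocallyOfFinitePresentation (𝟙_ (Over S)).hom
      rw [Over.tensorUnit_hom]
      haveI : IsOpenImmersion (𝟙 S) := inferInstance
      exact locallyOfFinitePresentation_of_isOpenImmersion (𝟙 S)
  | n + 1 => by
      have h := lfp_Pw X n
      show LocallyOfFinitePresentation (X ⊗ Pw X n).hom
      rw [Over.tensorObj_hom]
      have : LocallyOfFinitePresentation (pullback.fst X.hom (Pw X n).hom) :=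
        MorphismProperty.pullback_fst _ _ h
      infer_instance

lemma lfp_uw {X H : Over S} [GrpObj H] [LocallyOfFinitePresentation X.hom]
    [LocallyOfFinitePresentation H.hom] (f : X ⟶ H) (n : ℕ) (ε : Fin n → Bool) :
    LocallyOfFinitePresentation (uw f n ε).left := by
  have h1 : LocallyOfFinitePresentation (Pw X n).hom := lfp_Pw X n
  haveI h2 : LocallyOfFinitePresentation ((uw f n ε).left ≫ H.hom) := by
    rw [Over.w]
    exact h1
  exact Groth.Agent.H9.LFP.lfp_of_comp (uw f n ε).left H.hom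

theorem s6076 (S : Scheme.{u}) (X H : Over S) [GrpObj H]
    [LocallyOfFinitePresentation X.hom] [LocallyOfFinitePresentation H.hom]
    [CompactSpace H.left] (f : X ⟶ H)
    (hsurj : ∀ h : H.left, ∃ (n : ℕ) (T : Over S) (p : T.left) (x : Fin n → (T ⟶ X))
      (ε : Fin n → Bool),
      ((List.ofFn fun j : Fin n => if ε j then x j ≫ f else (x j ≫ f)⁻¹).prod : T ⟶ H).left.base p
        = h) :
    ∃ n : ℕ, ∀ h : H.left, ∃ (m : ℕ) (_ : m ≤ n) (T : Over S) (p : T.left)
      (x : Fin m → (T ⟶ X)) (ε : Fin m → Bool),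
      ((List.ofFn fun j : Fin m => if ε j then x j ≫ f else (x j ≫ f)⁻¹).prod : T ⟶ H).left.base p
        = h := by
  classical
  let I := Σ n : ℕ, (Fin n → Bool)
  let P : I → Scheme.{u} := fun i => (Pw X i.1).left
  let g : ∀ i : I, P i ⟶ H.left := fun i => (uw f i.1 i.2).left
  haveI : ∀ i, LocallyOfFinitePresentation (g i) := fun i => lfp_uw f i.1 i.2
  have hcov : ∀ y : H.left, ∃ i, y ∈ Set.range (g i).base := by
    intro y
    obtain ⟨n, T, p, x, ε, hp⟩ := hsurj y
    refine ⟨⟨n, ε⟩, (liftN n x).left.base p, ?_⟩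
    have e : liftN n x ≫ uw f n ε = wordOf f n x ε := liftN_uw f n x ε
    have e2 : (wordOf f n x ε).left.base p = y := hp
    rw [← e] at e2
    exact e2
  obtain ⟨F, hF⟩ := exists_finset_cover P g hcov
  refine ⟨F.sup (fun i => i.1), fun h => ?_⟩
  obtain ⟨i, hi, q, hq⟩ := hF h
  exact ⟨i.1, Finset.le_sup (f := fun i : I => i.1) hi, Pw X i.1, q, pr X i.1, i.2, hq⟩

end Sch

end Groth.Agent.H1.GrpWord
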