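import Mathlib
import Groth.Agent.Lib.Helper1.GrpWord
import Groth.Agent.Lib.Helper1.GrpGenC

/-! Helper1: translates, extension of words, and the generated subgroup as a finite union of
translates of a closed subgroup contained in the image (S6077). -/

set_option autoImplicit false
set_option linter.style.haveILetI false
set_option linter.unusedSectionVars false
set_option linter.unusedVariables false

namespace Groth.Agent.H1.GrpWordB

universe u v w

open CategoryTheory CategoryTheory.Limits MonoidalCategory CartesianMonoidalCategory MonObj GrpObj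
  AlgebraicGeometry Topology
open Groth.Agent.H1.GrpWord Groth.Agent.H1.GrpGen

section Abstract

variable {C : Type w} [Category.{v} C] [CartesianMonoidalCategory C] {G X : C} [GrpObj G]

/-- left translation by a global point. -/
def tau (a : 𝟙_ C ⟶ G) : G ⟶ G := (λ_ G).inv ≫ (a ▷ G) ≫ μ[G]

lemma comp_tau {T : C} (b : T ⟶ G) (a : 𝟙_ C ⟶ G) : b ≫ tau a = (toUnit T ≫ a) * b := by
  unfold tau
  rw [Hom.mul_def]
  have e : b ≫ (λ_ G).inv ≫ (a ▷ G) = lift (toUnit T ≫ a) b := by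
    apply CartesianMonoidalCategory.hom_ext
    · simp only [Category.assoc, whiskerRight_fst, lift_fst]
      rw [leftUnitor_inv_fst_assoc, ← Category.assoc, comp_toUnit]
    · simp only [Category.assoc, whiskerRight_snd, lift_snd, leftUnitor_inv_snd, Category.comp_id]
  rw [← e]
  simp only [Category.assoc]

lemma tau_eq (a : 𝟙_ C ⟶ G) : tau a = (toUnit G ≫ a) * 𝟙 G := by
  rw [← comp_tau, Category.id_comp]

lemma tau_inv_tau (a : 𝟙_ C ⟶ G) : tau a⁻¹ ≫ tau a = 𝟙 G := by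
  rw [comp_tau, tau_eq a⁻¹, ← _root_.mul_assoc, ← MonObj.comp_mul, _root_.mul_inv_cancel,
    MonObj.comp_one, _root_.one_mul]

lemma tau_tau_inv (a : 𝟙_ C ⟶ G) : tau a ≫ tau a⁻¹ = 𝟙 G := by
  rw [comp_tau, tau_eq a, ← _root_.mul_assoc, ← MonObj.comp_mul, _root_.inv_mul_cancel,
    MonObj.comp_one, _root_.one_mul]

lemma wordOf_snoc {T : C} (f : X ⟶ G) (n : ℕ) (x : Fin n → (T ⟶ X)) (ε : Fin n → Bool)
    (z : T ⟶ X) :
    wordOf f (n + 1) (Fin.snoc (α := fun _ => T ⟶ X) x z) (Fin.snoc (α := fun _ => Bool) ε true) =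
      wordOf f n x ε * (z ≫ f) := by
  unfold wordOf
  rw [List.ofFn_succ', List.concat_eq_append, List.prod_append, List.prod_singleton]
  simp [Fin.snoc_castSucc, Fin.snoc_last]

end Abstract

section Field

variable (k : Type u) [Field k] {G X : Over (Spec (CommRingCat.of k))} [GrpObj G]

local notation "Sk" => Over (Spec (CommRingCat.of k))

/-- points of `G` under a word of length `n` in `f`. -/
def UW (f : X ⟶ G) (n : ℕ) : Set G.left :=
  {g | ∃ (T : Sk) (p : T.left) (x : Fin n → (T ⟶ X)) (ε : Fin n → Bool),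
    ((List.ofFn fun j : Fin n => if ε j then x j ≫ f else (x j ≫ f)⁻¹).prod : T ⟶ G).left.base p
      = g}

lemma UW_subset_range {Γ : Sk} [GrpObj Γ] (f : X ⟶ G) (i : Γ ⟶ G) [IsMonHom i] (f' : X ⟶ Γ)
    (hf' : f' ≫ i = f) (n : ℕ) : UW k f n ⊆ Set.range i.left.base := by
  rintro g ⟨T, p, x, ε, h⟩
  have hw : (List.ofFn fun j : Fin n => if ε j then x j ≫ f else (x j ≫ f)⁻¹).prod ∈ Wd f T :=
    (mem_Wd_iff f T _).2 ⟨n, x, ε, rfl⟩
  obtain ⟨w'', hw''⟩ := Groth.Agent.H1.GrpGenB.exists_factor_of_mem_Wd f i f' hf' T _ hw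
  refine ⟨w''.left.base p, ?_⟩
  rw [← Scheme.Hom.comp_apply, ← Over.comp_left, hw'']
  exact h

lemma exists_point_fst (T T₁ : Sk) (p : T.left) (h₁ : Nonempty T₁.left) :
    ∃ p' : (T ⊗ T₁).left, (fst T T₁).left.base p' = p := by
  obtain ⟨p₁⟩ := h₁
  obtain ⟨z, hz1, -⟩ := Scheme.Pullback.exists_preimage_pullback (f := T.hom) (g := T₁.hom) p p₁
    (Subsingleton.elim _ _)
  exact ⟨z, hz1⟩

lemma exists_point_snd (T T₁ : Sk) (h : Nonempty T.left) (p₁ : T₁.left) :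
    ∃ p' : (T ⊗ T₁).left, (snd T T₁).left.base p' = p₁ := by
  obtain ⟨p⟩ := h
  obtain ⟨z, -, hz2⟩ := Scheme.Pullback.exists_preimage_pullback (f := T.hom) (g := T₁.hom) p p₁
    (Subsingleton.elim _ _)
  exact ⟨z, hz2⟩

lemma mem_UW_succ (f : X ⟶ G) (n : ℕ) (T T₁ : Sk) (x : Fin n → (T ⟶ X)) (ε : Fin n → Bool)
    (z : T₁ ⟶ X) (p' : (T ⊗ T₁).left) :
    ((fst T T₁ ≫ wordOf f n x ε) * (snd T T₁ ≫ z ≫ f)).left.base p' ∈ UW k f (n + 1) := by
  refine ⟨T ⊗ T₁, p', Fin.snoc (α := fun _ => (T ⊗ T₁ ⟶ X)) (fun j => fst T T₁ ≫ x j) (snd T T₁ ≫ z),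
    Fin.snoc (α := fun _ => Bool) ε true, ?_⟩
  have e := wordOf_snoc f n (fun j => fst T T₁ ≫ x j) ε (snd T T₁ ≫ z)
  rw [← comp_wordOf, Category.assoc] at e
  exact congrArg (fun w : T ⊗ T₁ ⟶ G => w.left.base p') e

lemma UW_mono_succ (f : X ⟶ G)
    (hunit : ∃ (ξ₀ : X.left) (p₀ : (𝟙_ Sk).left), f.left.base ξ₀ = η[G].left.base p₀) (n : ℕ) :
    UW k f n ⊆ UW k f (n + 1) := by
  rintro g ⟨T, p, x, ε, h⟩
  obtain ⟨ξ₀, p₀, h0⟩ := hunit
  have hne : Nonempty (pbOver f η[G]).left := nonempty_pbOver f η[G] ξ₀ p₀ h0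
  obtain ⟨p', hp'⟩ := exists_point_fst k T (pbOver f η[G]) p hne
  have hm := mem_UW_succ k f n T (pbOver f η[G]) x ε (pbFst f η[G]) p'
  have e : (fst T (pbOver f η[G]) ≫ wordOf f n x ε) * (snd T (pbOver f η[G]) ≫ pbFst f η[G] ≫ f) =
      fst T (pbOver f η[G]) ≫ wordOf f n x ε := by
    rw [pbFst_comp, ← Category.assoc, comp_toUnit, ← Hom.one_def, _root_.mul_one]
  rw [e, Over.comp_left, Scheme.Hom.comp_apply, hp'] at hm
  have h' : (wordOf f n x ε).left.base p = g := h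
  rw [h'] at hm
  exact hm

lemma UW_mono (f : X ⟶ G)
    (hunit : ∃ (ξ₀ : X.left) (p₀ : (𝟙_ Sk).left), f.left.base ξ₀ = η[G].left.base p₀)
    {n m : ℕ} (h : n ≤ m) : UW k f n ⊆ UW k f m := by
  induction m, h using Nat.le_induction with
  | base => exact subset_rfl
  | succ m _ ih => exact ih.trans (UW_mono_succ k f hunit m)

lemma tau_mem_UW (f : X ⟶ G) (a : 𝟙_ Sk ⟶ G) (p₀ : (𝟙_ Sk).left) (n : ℕ)
    (ha : a.left.base p₀ ∈ UW k f n) (ξ : X.left) :
    (tau a).left.base (f.left.base ξ) ∈ UW k f (n + 1) := by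
  obtain ⟨T, p, x, ε, h⟩ := ha
  have h' : (wordOf f n x ε).left.base p = a.left.base p₀ := h
  have hne : Nonempty (pbOver (wordOf f n x ε) a).left := nonempty_pbOver _ a p p₀ h'
  obtain ⟨p', hp'⟩ := exists_point_snd k (pbOver (wordOf f n x ε) a) X hne ξ
  have hm := mem_UW_succ k f n (pbOver (wordOf f n x ε) a) X
    (fun j => pbFst (wordOf f n x ε) a ≫ x j) ε (𝟙 X) p'
  rw [← comp_wordOf, pbFst_comp, ← Category.assoc, comp_toUnit, Category.id_comp, ← comp_tau,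
    Category.assoc, Over.comp_left, Over.comp_left, Scheme.Hom.comp_apply, Scheme.Hom.comp_apply,
    hp'] at hm
  exact hm

lemma lft_Pw {S : Scheme.{u}} (X : Over S) [LocallyOfFiniteType X.hom] :
    ∀ n, LocallyOfFiniteType (Pw X n).hom
  | 0 => by
      show LocallyOfFiniteType (𝟙_ (Over S)).hom
      rw [Over.tensorUnit_hom]
      haveI : IsOpenImmersion (𝟙 S) := inferInstance
      exact locallyOfFiniteType_of_isOpenImmersion (𝟙 S)
  | n + 1 => by
      have h := lft_Pw X n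
      show LocallyOfFiniteType (X ⊗ Pw X n).hom
      rw [Over.tensorObj_hom]
      have : LocallyOfFiniteType (pullback.fst X.hom (Pw X n).hom) :=
        MorphismProperty.pullback_fst _ _ h
      infer_instance

lemma UW_subset_of_closed [IsAlgClosed k] [LocallyOfFiniteType X.hom] (f : X ⟶ G)
    (Z : Set G.left) (hZc : IsClosed Z)
    (hZ : ∀ (g : 𝟙_ Sk ⟶ G) (p₀ : (𝟙_ Sk).left), (∃ n, g.left.base p₀ ∈ UW k f n) →
      g.left.base p₀ ∈ Z) (n : ℕ) : UW k f n ⊆ Z := by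
  rintro g ⟨T, p, x, ε, h⟩
  by_contra hgZ
  have h' : (wordOf f n x ε).left.base p = g := h
  rw [← liftN_uw, Over.comp_left, Scheme.Hom.comp_apply] at h'
  set q := (liftN n x).left.base p with hq
  haveI : LocallyOfFiniteType (Pw X n).hom := lft_Pw X n
  haveI : JacobsonSpace (Pw X n).left := LocallyOfFiniteType.jacobsonSpace (Pw X n).hom
  have hUo : IsOpen ((uw f n ε).left.base ⁻¹' Zᶜ) :=
    hZc.isOpen_compl.preimage (uw f n ε).left.continuous
  have hqU : q ∈ (uw f n ε).left.base ⁻¹' Zᶜ := by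
    show (uw f n ε).left.base q ∈ Zᶜ
    rw [h']
    exact hgZ
  obtain ⟨z, hzU, hz⟩ := nonempty_inter_closedPoints ⟨q, hqU⟩ hUo.isLocallyClosed
  obtain ⟨x₀, hx₀⟩ := Groth.Agent.H9.ORB3.exists_point_of_closed k (Pw X n) {z}
    ((mem_closedPoints_iff).mp hz) ⟨z, rfl⟩
  obtain ⟨p₀⟩ : Nonempty (𝟙_ Sk).left := inferInstanceAs (Nonempty ↥(Spec (CommRingCat.of k)))
  have hx₀' : x₀.left.base p₀ = z := hx₀ ⟨p₀, rfl⟩
  have hmem : (x₀ ≫ uw f n ε).left.base p₀ ∈ Z := by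
    refine hZ _ p₀ ⟨n, 𝟙_ Sk, p₀, fun j => x₀ ≫ pr X n j, ε, ?_⟩
    show (wordOf f n (fun j => x₀ ≫ pr X n j) ε).left.base p₀ = _
    rw [← comp_wordOf]
    rfl
  rw [Over.comp_left, Scheme.Hom.comp_apply, hx₀'] at hmem
  exact hzU hmem

lemma isClosed_tau_image (a : 𝟙_ Sk ⟶ G) (C : Set G.left) (hC : IsClosed C) :
    IsClosed ((fun z => (tau a).left.base z) '' C) := by
  have h1 : ∀ z, (tau a).left.base ((tau a⁻¹).left.base z) = z := fun z => by
    rw [← Scheme.Hom.comp_apply, ← Over.comp_left, tau_inv_tau]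
    rfl
  have h2 : ∀ z, (tau a⁻¹).left.base ((tau a).left.base z) = z := fun z => by
    rw [← Scheme.Hom.comp_apply, ← Over.comp_left, tau_tau_inv]
    rfl
  have e : (fun z => (tau a).left.base z) '' C = (tau a⁻¹).left.base ⁻¹' C := by
    ext z
    constructor
    · rintro ⟨c, hc, rfl⟩
      show (tau a⁻¹).left.base ((tau a).left.base c) ∈ C
      rw [h2]
      exact hc
    · intro hz
      exact ⟨_, hz, h1 z⟩
  rw [e]
  exact hC.preimage (tau a⁻¹).left.continuous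

theorem s6077 [IsAlgClosed k]
    (G X H : Over (Spec (CommRingCat.of k))) [GrpObj G] [GrpObj H]
    [LocallyOfFiniteType X.hom] [GeometricallyReduced X.hom] (f : X ⟶ G)
    (h : H ⟶ G) [IsMonHom h] [IsClosedImmersion h.left]
    (hH : Set.range h.left.base ⊆ Set.range f.left.base)
    (Γ : Over (Spec (CommRingCat.of k))) [GrpObj Γ] (i : Γ ⟶ G) [IsMonHom i]
    [IsClosedImmersion i.left]
    (hf : ∃ f' : X ⟶ Γ, f' ≫ i = f)
    (hmin : ∀ (Γ' : Over (Spec (CommRingCat.of k))) (_ : GrpObj Γ') (i' : Γ' ⟶ G), IsMonHom i' →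
      IsClosedImmersion i'.left → (∃ f'' : X ⟶ Γ', f'' ≫ i' = f) → ∃ j : Γ ⟶ Γ', j ≫ i' = i)
    (hfin : ∃ F : Finset (𝟙_ (Over (Spec (CommRingCat.of k))) ⟶ G),
      (∀ a ∈ F, ∃ (n : ℕ) (T : Over (Spec (CommRingCat.of k))) (p : T.left)
        (p₀ : (𝟙_ (Over (Spec (CommRingCat.of k)))).left) (x : Fin n → (T ⟶ X)) (ε : Fin n → Bool),
        ((List.ofFn fun j : Fin n => if ε j then x j ≫ f else (x j ≫ f)⁻¹).prod :
          T ⟶ G).left.base p = a.left.base p₀) ∧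
      ∀ g : 𝟙_ (Over (Spec (CommRingCat.of k))) ⟶ G,
        (∃ (n : ℕ) (T : Over (Spec (CommRingCat.of k))) (p : T.left)
          (p₀ : (𝟙_ (Over (Spec (CommRingCat.of k)))).left) (x : Fin n → (T ⟶ X))
          (ε : Fin n → Bool),
          ((List.ofFn fun j : Fin n => if ε j then x j ≫ f else (x j ≫ f)⁻¹).prod :
            T ⟶ G).left.base p = g.left.base p₀) →
        ∃ a ∈ F, ∃ y : 𝟙_ (Over (Spec (CommRingCat.of k))) ⟶ H, g = a * (y ≫ h)) :
    (∃ m : ℕ, Set.range i.left.base =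
      {g : G.left | ∃ (T : Over (Spec (CommRingCat.of k))) (p : T.left) (x : Fin m → (T ⟶ X))
        (ε : Fin m → Bool),
        ((List.ofFn fun j : Fin m => if ε j then x j ≫ f else (x j ≫ f)⁻¹).prod :
          T ⟶ G).left.base p = g}) ∧
    ∃ F : Finset (𝟙_ (Over (Spec (CommRingCat.of k))) ⟶ G), Set.range i.left.base =
      ⋃ a ∈ F, (fun z => ((λ_ G).inv ≫ (a ▷ G) ≫ μ[G]).left.base z) '' Set.range h.left.base := by
  classical
  obtain ⟨F, hF1, hF2⟩ := hfin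
  obtain ⟨f', hf'⟩ := hf
  obtain ⟨p₀⟩ : Nonempty (𝟙_ Sk).left := inferInstanceAs (Nonempty ↥(Spec (CommRingCat.of k)))
  have hp₀ : ∀ p : (𝟙_ Sk).left, p = p₀ := fun p =>
    Subsingleton.elim (α := ↥(Spec (CommRingCat.of k))) p p₀
  set Z : Set G.left := ⋃ a ∈ F, (fun z => (tau a).left.base z) '' Set.range h.left.base with hZdef
  have hZc : IsClosed Z := by
    refine isClosed_biUnion_finset fun a _ => ?_
    exact isClosed_tau_image k a _ h.left.isClosedEmbedding.isClosed_range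
  -- unit point in the image of f
  have hunit : ∃ (ξ₀ : X.left) (p₀ : (𝟙_ Sk).left), f.left.base ξ₀ = η[G].left.base p₀ := by
    have h1 : η[G].left.base p₀ ∈ Set.range h.left.base := by
      refine ⟨η[H].left.base p₀, ?_⟩
      rw [← Scheme.Hom.comp_apply, ← Over.comp_left, IsMonHom.one_hom]
    obtain ⟨ξ₀, hξ₀⟩ := hH h1
    exact ⟨ξ₀, p₀, hξ₀⟩
  -- rational points under words lie in Z
  have hZ : ∀ (g : 𝟙_ Sk ⟶ G) (q₀ : (𝟙_ Sk).left), (∃ n, g.left.base q₀ ∈ UW k f n) →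
      g.left.base q₀ ∈ Z := by
    rintro g q₀ ⟨n, T, p, x, ε, hg⟩
    obtain ⟨a, haF, y, hy⟩ := hF2 g ⟨n, T, p, q₀, x, ε, hg⟩
    have e : g = (y ≫ h) ≫ tau a := by
      have hu : toUnit (𝟙_ Sk) = 𝟙 _ := toUnit_unique _ _
      rw [comp_tau, hu, Category.id_comp, hy]
    refine Set.mem_biUnion haF ⟨h.left.base (y.left.base q₀), ⟨_, rfl⟩, ?_⟩
    show (tau a).left.base (h.left.base (y.left.base q₀)) = g.left.base q₀
    rw [e]
    simp only [Over.comp_left, Scheme.Hom.comp_apply]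
  have hUWZ : ∀ n, UW k f n ⊆ Z := UW_subset_of_closed k f Z hZc hZ
  -- range i ⊆ Z
  have hiZ : Set.range i.left.base ⊆ Z := by
    rw [(Groth.Agent.H1.GrpGenC.fam_of_min f Γ i ⟨f', hf'⟩ hmin).2]
    refine closure_minimal ?_ hZc
    rintro g ⟨T, hT, w, hw, t, rfl⟩
    obtain ⟨n, x, ε, hx⟩ := (mem_Wd_iff f T w).1 hw
    exact hUWZ n ⟨T, t, x, ε, by rw [hx]⟩
  -- bound
  have hex : ∀ a ∈ F, ∃ n, a.left.base p₀ ∈ UW k f n := by
    intro a ha
    obtain ⟨n, T, p, q₀, x, ε, hh⟩ := hF1 a ha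
    exact ⟨n, T, p, x, ε, by rw [hh, hp₀ q₀]⟩
  let nF : (𝟙_ Sk ⟶ G) → ℕ := fun a => if ha : a ∈ F then Classical.choose (hex a ha) else 0
  have hnF : ∀ a ∈ F, a.left.base p₀ ∈ UW k f (nF a) := by
    intro a ha
    have := Classical.choose_spec (hex a ha)
    simp only [nF, dif_pos ha]
    exact this
  let N := F.sup nF
  have hN : ∀ a ∈ F, a.left.base p₀ ∈ UW k f N := fun a ha =>
    UW_mono k f hunit (Finset.le_sup (f := nF) ha) (hnF a ha)
  have hZUW : Z ⊆ UW k f (N + 1) := by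
    intro gg hgg
    simp only [hZdef, Set.mem_iUnion] at hgg
    obtain ⟨a, haF, c, hc, rfl⟩ := hgg
    obtain ⟨ξ, hξ⟩ := hH hc
    rw [← hξ]
    exact tau_mem_UW k f a p₀ N (hN a haF) ξ
  have hUWi : UW k f (N + 1) ⊆ Set.range i.left.base := UW_subset_range k f i f' hf' (N + 1)
  refine ⟨⟨N + 1, ?_⟩, F, ?_⟩
  · exact subset_antisymm (hiZ.trans hZUW) hUWi
  · exact subset_antisymm hiZ (hZUW.trans hUWi)

end Field

end Groth.Agent.H1.GrpWordB
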