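import Mathlib
import Groth.Prelude
import Groth.Agent.Lib.Helper1.CMQF
import Groth.Agent.Lib.Helper1.CMBaseChange
import Groth.Agent.Lib.Helper1.FibreStalk
import Groth.Agent.Lib.Helper6.Liai3

set_option autoImplicit false
universe u
open CategoryTheory CategoryTheory.Limits AlgebraicGeometry

namespace Groth.Agent.H1.GrpdCM

theorem isCMAt_iff {X Y : Scheme.{u}} (f : X ⟶ Y) (x : X) :
    Grpd.IsCMAt f x ↔ MoreMor.IsCMAt f x := by
  unfold Grpd.IsCMAt MoreMor.IsCMAt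
  refine and_congr Iff.rfl ?_
  constructor
  · intro h
    haveI := h
    exact Groth.Agent.H6.Liai.cmLocal_of_ringEquiv (Groth.Agent.H1.FibreStalk.fiberStalkEquiv f x)
  · intro h
    haveI := h
    exact Groth.Agent.H6.Liai.cmLocal_of_ringEquiv
      (Groth.Agent.H1.FibreStalk.fiberStalkEquiv f x).symm

variable {S : Scheme.{u}} (G : Grpd.GroupoidScheme S)

theorem lift_congr {T : Scheme.{u}} {α α' β β' : T ⟶ G.R} (hα : α = α') (hβ : β = β')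
    (h : α ≫ G.s = β ≫ G.t) (h' : α' ≫ G.s = β' ≫ G.t) :
    pullback.lift α β h = pullback.lift α' β' h' := by
  subst hα hβ
  rfl

theorem comp_e' {T : Scheme.{u}} (α β : T ⟶ G.R) (hβ : β = α ≫ G.s ≫ G.e)
    (h : α ≫ G.s = β ≫ G.t) : pullback.lift α β h ≫ G.c = α := by
  subst hβ
  exact G.comp_e α

theorem e_comp' {T : Scheme.{u}} (α β : T ⟶ G.R) (hβ : β = α ≫ G.t ≫ G.e)
    (h : β ≫ G.s = α ≫ G.t) : pullback.lift β α h ≫ G.c = α := by
  subst hβ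
  exact G.e_comp α

theorem i_comp' {T : Scheme.{u}} (α β : T ⟶ G.R) (hβ : β = α ≫ G.i)
    (h : β ≫ G.s = α ≫ G.t) : pullback.lift β α h ≫ G.c = α ≫ G.s ≫ G.e := by
  subst hβ
  exact G.i_comp α

theorem comp_i' {T : Scheme.{u}} (α β : T ⟶ G.R) (hβ : β = α ≫ G.i)
    (h : α ≫ G.s = β ≫ G.t) : pullback.lift α β h ≫ G.c = α ≫ G.t ≫ G.e := by
  subst hβ
  exact G.comp_i α

theorem i_i_apply {T : Scheme.{u}} (α : T ⟶ G.R) : (α ≫ G.i) ≫ G.i = α := by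
  have hs' : (α ≫ G.i) ≫ G.s = α ≫ G.t := by rw [Category.assoc, G.i_s]
  have ht' : (α ≫ G.i) ≫ G.t = α ≫ G.s := by rw [Category.assoc, G.i_t]
  have hs'' : ((α ≫ G.i) ≫ G.i) ≫ G.s = α ≫ G.s := by rw [Category.assoc, G.i_s, ht']
  have h₁ : ((α ≫ G.i) ≫ G.i) ≫ G.s = (α ≫ G.i) ≫ G.t := by rw [hs'', ht']
  have h₂ : (α ≫ G.i) ≫ G.s = α ≫ G.t := hs'
  have k1 : pullback.lift ((α ≫ G.i) ≫ G.i) (α ≫ G.i) h₁ ≫ G.c = α ≫ G.t ≫ G.e := by
    rw [i_comp' G (α ≫ G.i) ((α ≫ G.i) ≫ G.i) rfl h₁, ← Category.assoc, hs', Category.assoc]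
  have k2 : pullback.lift (α ≫ G.i) α h₂ ≫ G.c = α ≫ G.s ≫ G.e := i_comp' G α (α ≫ G.i) rfl h₂
  have h₃ : (pullback.lift ((α ≫ G.i) ≫ G.i) (α ≫ G.i) h₁ ≫ G.c) ≫ G.s = α ≫ G.t :=
    (G.comp_s _ _ h₁).trans h₂
  have h₄ : ((α ≫ G.i) ≫ G.i) ≫ G.s = (pullback.lift (α ≫ G.i) α h₂ ≫ G.c) ≫ G.t :=
    h₁.trans (G.comp_t _ _ h₂).symm
  have k3 : pullback.lift (pullback.lift ((α ≫ G.i) ≫ G.i) (α ≫ G.i) h₁ ≫ G.c) α h₃ ≫ G.c =
      pullback.lift ((α ≫ G.i) ≫ G.i) (pullback.lift (α ≫ G.i) α h₂ ≫ G.c) h₄ ≫ G.c :=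
    G.assoc _ _ _ h₁ h₂
  have k4 : pullback.lift (pullback.lift ((α ≫ G.i) ≫ G.i) (α ≫ G.i) h₁ ≫ G.c) α h₃ ≫ G.c = α :=
    e_comp' G α _ k1 h₃
  have k5 : pullback.lift ((α ≫ G.i) ≫ G.i) (pullback.lift (α ≫ G.i) α h₂ ≫ G.c) h₄ ≫ G.c =
      (α ≫ G.i) ≫ G.i :=
    comp_e' G _ _ (by
      have : ((α ≫ G.i) ≫ G.i) ≫ G.s ≫ G.e = α ≫ G.s ≫ G.e := by
        rw [← Category.assoc, hs'', Category.assoc]
      rw [k2, this]) h₄
  exact k5.symm.trans (k3.symm.trans k4)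

theorem i_i : G.i ≫ G.i = 𝟙 G.R := by
  have := i_i_apply G (𝟙 G.R)
  rwa [Category.id_comp] at this

instance : IsIso G.i := ⟨G.i, i_i G, i_i G⟩

theorem isPullback_i : IsPullback G.i G.s G.t (𝟙 G.U) :=
  IsPullback.of_horiz_isIso ⟨by rw [G.i_t, Category.comp_id]⟩

theorem c_t : G.c ≫ G.t = pullback.fst G.s G.t ≫ G.t := by
  have := G.comp_t (pullback.fst G.s G.t) (pullback.snd G.s G.t) pullback.condition
  have h : pullback.lift (pullback.fst G.s G.t) (pullback.snd G.s G.t) pullback.condition =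
      𝟙 _ := by
    apply pullback.hom_ext <;> simp
  rwa [h, Category.id_comp] at this

theorem isPullback_c : IsPullback G.c (pullback.fst G.s G.t) G.t G.t := by
  refine ⟨⟨c_t G⟩, ⟨PullbackCone.IsLimit.mk _
    (fun s => pullback.lift s.snd (pullback.lift (s.snd ≫ G.i) s.fst
      (by rw [Category.assoc, G.i_s, s.condition]) ≫ G.c)
      (by rw [G.comp_t, Category.assoc, G.i_t])) ?_ ?_ ?_⟩⟩
  · intro s
    have ha : (s.snd ≫ G.i) ≫ G.s = s.fst ≫ G.t := by rw [Category.assoc, G.i_s, s.condition]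
    have hb : s.snd ≫ G.s = (s.snd ≫ G.i) ≫ G.t := by rw [Category.assoc, G.i_t]
    have k1 : pullback.lift s.snd (s.snd ≫ G.i) hb ≫ G.c = s.fst ≫ G.t ≫ G.e := by
      rw [comp_i' G s.snd (s.snd ≫ G.i) rfl hb, ← Category.assoc, ← s.condition, Category.assoc]
    have h₃ : (pullback.lift s.snd (s.snd ≫ G.i) hb ≫ G.c) ≫ G.s = s.fst ≫ G.t :=
      (G.comp_s _ _ hb).trans ha
    have h₄ : s.snd ≫ G.s = (pullback.lift (s.snd ≫ G.i) s.fst ha ≫ G.c) ≫ G.t :=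
      hb.trans (G.comp_t _ _ ha).symm
    have k3 : pullback.lift (pullback.lift s.snd (s.snd ≫ G.i) hb ≫ G.c) s.fst h₃ ≫ G.c =
        pullback.lift s.snd (pullback.lift (s.snd ≫ G.i) s.fst ha ≫ G.c) h₄ ≫ G.c :=
      G.assoc _ _ _ hb ha
    have k4 : pullback.lift (pullback.lift s.snd (s.snd ≫ G.i) hb ≫ G.c) s.fst h₃ ≫ G.c = s.fst :=
      e_comp' G s.fst _ k1 h₃
    exact k3.symm.trans k4
  · intro s
    exact pullback.lift_fst _ _ _
  · intro s m hm1 hm2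
    have ha : (s.snd ≫ G.i) ≫ G.s = s.fst ≫ G.t := by rw [Category.assoc, G.i_s, s.condition]
    have hcond : s.snd ≫ G.s = (m ≫ pullback.snd G.s G.t) ≫ G.t := by
      rw [← hm2, Category.assoc, Category.assoc, pullback.condition]
    have hm : m = pullback.lift s.snd (m ≫ pullback.snd G.s G.t) hcond := by
      apply pullback.hom_ext
      · rw [pullback.lift_fst, hm2]
      · rw [pullback.lift_snd]
    have hfst : s.fst = pullback.lift s.snd (m ≫ pullback.snd G.s G.t) hcond ≫ G.c := by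
      rw [← hm1]
      congr 1
    -- β = (α⁻¹)(αβ)
    have hb : (s.snd ≫ G.i) ≫ G.s = s.snd ≫ G.t := by rw [Category.assoc, G.i_s]
    have k1 : pullback.lift (s.snd ≫ G.i) s.snd hb ≫ G.c =
        (m ≫ pullback.snd G.s G.t) ≫ G.t ≫ G.e := by
      rw [i_comp' G s.snd (s.snd ≫ G.i) rfl hb, ← Category.assoc, hcond, Category.assoc]
    have h₃ : (pullback.lift (s.snd ≫ G.i) s.snd hb ≫ G.c) ≫ G.s =
        (m ≫ pullback.snd G.s G.t) ≫ G.t := (G.comp_s _ _ hb).trans hcond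
    have h₄ : (s.snd ≫ G.i) ≫ G.s =
        (pullback.lift s.snd (m ≫ pullback.snd G.s G.t) hcond ≫ G.c) ≫ G.t :=
      hb.trans (G.comp_t _ _ hcond).symm
    have k3 : pullback.lift (pullback.lift (s.snd ≫ G.i) s.snd hb ≫ G.c)
        (m ≫ pullback.snd G.s G.t) h₃ ≫ G.c =
        pullback.lift (s.snd ≫ G.i)
          (pullback.lift s.snd (m ≫ pullback.snd G.s G.t) hcond ≫ G.c) h₄ ≫ G.c :=
      G.assoc _ _ _ hb hcond
    have k4 : pullback.lift (pullback.lift (s.snd ≫ G.i) s.snd hb ≫ G.c)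
        (m ≫ pullback.snd G.s G.t) h₃ ≫ G.c = m ≫ pullback.snd G.s G.t :=
      e_comp' G _ _ k1 h₃
    have key : pullback.lift (s.snd ≫ G.i) s.fst ha ≫ G.c = m ≫ pullback.snd G.s G.t := by
      rw [← k4, k3]
      congr 1
      exact lift_congr G rfl hfst _ _
    apply pullback.hom_ext
    · rw [pullback.lift_fst, hm2]
    · rw [pullback.lift_snd, key]

section main
variable [Flat G.t] [LocallyOfFinitePresentation G.t]

theorem cm_t_iff (r : G.R) : MoreMor.IsCMAt G.t r ↔ MoreMor.IsCMAt G.t (G.e (G.s r)) := by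
  have hA : {z | MoreMor.IsCMAt (pullback.fst G.s G.t) z} =
      (pullback.snd G.s G.t) ⁻¹' {x | MoreMor.IsCMAt G.t x} :=
    Groth.Agent.H1.CMBC.s1342 G.t (pullback.fst G.s G.t) (pullback.snd G.s G.t) G.s
      (IsPullback.of_hasPullback G.s G.t).flip
  have hB : {z | MoreMor.IsCMAt (pullback.fst G.s G.t) z} =
      G.c ⁻¹' {x | MoreMor.IsCMAt G.t x} :=
    Groth.Agent.H1.CMBC.s1342 G.t (pullback.fst G.s G.t) G.c G.t (isPullback_c G)
  have hz : G.i ≫ G.s = 𝟙 G.R ≫ G.t := by rw [G.i_s, Category.id_comp]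
  have h1 : pullback.lift G.i (𝟙 G.R) hz ≫ pullback.snd G.s G.t = 𝟙 G.R :=
    pullback.lift_snd _ _ _
  have h2 : pullback.lift G.i (𝟙 G.R) hz ≫ G.c = G.s ≫ G.e := by
    rw [i_comp' G (𝟙 G.R) G.i (Category.id_comp _).symm hz, Category.id_comp]
  have := Set.ext_iff.mp (hA.symm.trans hB) (pullback.lift G.i (𝟙 G.R) hz r)
  simp only [Set.mem_preimage, Set.mem_ofPred_eq] at this
  rw [← Scheme.Hom.comp_apply, ← Scheme.Hom.comp_apply, h1, h2, Scheme.Hom.comp_apply] at this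
  simpa using this

theorem main [Flat G.s] [LocallyOfFinitePresentation G.s] :
    ∃ U' : G.U.Opens, (G.t ⁻¹ᵁ U' : Set G.R) = {r | Grpd.IsCMAt G.s r} ∧
      (G.s ⁻¹ᵁ U' : Set G.R) = {r | Grpd.IsCMAt G.t r} ∧
      ⇑G.t '' (G.s ⁻¹ᵁ U' : Set G.R) = Set.univ ∧
      ⇑G.s '' (G.t ⁻¹ᵁ U' : Set G.R) = Set.univ := by
  obtain ⟨hopen, hdense⟩ := Groth.Agent.H1.CMQF.s1341 G.t
  let W : G.R.Opens := ⟨{r | MoreMor.IsCMAt G.t r}, hopen⟩
  have hs_t : ∀ r : G.R, MoreMor.IsCMAt G.s r ↔ MoreMor.IsCMAt G.t (G.i r) := by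
    intro r
    have := Set.ext_iff.mp
      (Groth.Agent.H1.CMBC.s1342 G.t G.s G.i (𝟙 G.U) (isPullback_i G)) r
    exact this
  have hii : ∀ r : G.R, G.i (G.i r) = r := by
    intro r
    rw [← Scheme.Hom.comp_apply, i_i G]
    rfl
  have his : ∀ r : G.R, G.s (G.i r) = G.t r := by
    intro r
    rw [← Scheme.Hom.comp_apply, G.i_s]
  have h2 : ∀ r : G.R, r ∈ (G.s ⁻¹ᵁ (G.e ⁻¹ᵁ W) : Set G.R) ↔ Grpd.IsCMAt G.t r := by
    intro r
    rw [isCMAt_iff, cm_t_iff G r]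
    exact Iff.rfl
  have h1 : ∀ r : G.R, r ∈ (G.t ⁻¹ᵁ (G.e ⁻¹ᵁ W) : Set G.R) ↔ Grpd.IsCMAt G.s r := by
    intro r
    rw [isCMAt_iff, hs_t, cm_t_iff G (G.i r), his]
    exact Iff.rfl
  have h3 : ∀ u : G.U, ∃ r : G.R, G.t r = u ∧ MoreMor.IsCMAt G.t r := by
    intro u
    have hne : Nonempty ↥(G.t.fiber u) := by
      have : G.e u ∈ Set.range (G.t.fiberι u) := by
        rw [Scheme.Hom.range_fiberι]
        show G.t (G.e u) = u
        rw [← Scheme.Hom.comp_apply, G.e_t]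
        rfl
      obtain ⟨w, -⟩ := this
      exact ⟨w⟩
    obtain ⟨w, hw⟩ := (hdense u).nonempty
    refine ⟨G.t.fiberι u w, ?_, hw⟩
    have : G.t.fiberι u w ∈ G.t ⁻¹' {u} := by
      rw [← Scheme.Hom.range_fiberι]
      exact ⟨w, rfl⟩
    exact this
  refine ⟨G.e ⁻¹ᵁ W, Set.ext h1, Set.ext h2, ?_, ?_⟩
  · rw [Set.eq_univ_iff_forall]
    intro u
    obtain ⟨r, hr, hcm⟩ := h3 u
    exact ⟨r, (h2 r).mpr ((isCMAt_iff _ _).mpr hcm), hr⟩
  · rw [Set.eq_univ_iff_forall]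
    intro u
    obtain ⟨r, hr, hcm⟩ := h3 u
    refine ⟨G.i r, (h1 _).mpr ((isCMAt_iff _ _).mpr ((hs_t _).mpr ?_)), ?_⟩
    · rw [hii]
      exact hcm
    · rw [his, hr]

end main

end Groth.Agent.H1.GrpdCM
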