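import Mathlib
import Groth.Prelude.Def_Grpd
import Groth.Agent.Lib.Helper3.OmGrpd
import Groth.Agent.Lib.Helper1.FibDimBC
import Groth.Agent.Lib.Helper1.CMQF
import Groth.Agent.Lib.Helper1.DimFormula4
import Groth.Agent.Lib.Helper1.DimFormula3
import Groth.Agent.Lib.Helper1.RelDim
import Groth.Agent.Lib.Helper3.TopDim

/-! Groupoid schemes over a field with `s`, `t` locally of finite type are equidimensional
(helper1), via helper3's cartesian square for `(α, β) ↦ α⁻¹ ∘ β`. -/

set_option autoImplicit false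
universe u

namespace Groth.Agent.H1.GrpdEquidim

open CategoryTheory AlgebraicGeometry Limits

variable (S : Scheme.{u}) (G : Grpd.GroupoidScheme S) (k : Type u) [Field k]
  (eU : G.U ≅ Spec (CommRingCat.of k)) [LocallyOfFiniteType G.t]

include eU in
theorem fibreDimAt_t (x : G.R) : FlatMor.fibreDimAt G.t x = FlatMor.localDim G.R x := by
  rw [← CMQF.fibreDimAt_comp_iso G.t eU.hom x, DimFormula.fibreDimAt_eq_localDim_of_field]

include eU in
theorem localDim_eq (r : G.R) :
    FlatMor.localDim G.R r = FlatMor.localDim G.R (G.e (G.s r)) := by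
  have hsq1 : IsPullback (pullback.snd G.t G.t) (pullback.fst G.t G.t) G.t G.t :=
    (IsPullback.of_hasPullback G.t G.t).flip
  have hsq2 := Groth.Agent.H3.Om.isPullback_grpdDiv G
  have h1 := FibDimBC.fibreDimAt_eq_of_isPullback G.t G.t (pullback.snd G.t G.t)
    (pullback.fst G.t G.t) hsq1 ((pullback.diagonal G.t) r)
  have h2 := FibDimBC.fibreDimAt_eq_of_isPullback G.t G.s (Groth.Agent.H3.Om.grpdDiv G)
    (pullback.fst G.t G.t) hsq2 ((pullback.diagonal G.t) r)
  rw [h1] at h2
  have e1 : (pullback.snd G.t G.t) ((pullback.diagonal G.t) r) = r := by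
    rw [← Scheme.Hom.comp_apply, pullback.diagonal_snd]
    rfl
  have e2 : (Groth.Agent.H3.Om.grpdDiv G) ((pullback.diagonal G.t) r) = G.e (G.s r) := by
    rw [← Scheme.Hom.comp_apply, Groth.Agent.H3.Om.diagonal_grpdDiv, Scheme.Hom.comp_apply]
  rw [e1, e2, fibreDimAt_t S G k eU, fibreDimAt_t S G k eU] at h2
  exact h2

include eU in
theorem localDim_const (r r' : G.R) : FlatMor.localDim G.R r = FlatMor.localDim G.R r' := by
  rw [localDim_eq S G k eU r, localDim_eq S G k eU r']
  congr 2
  apply eU.hom.homeomorph.injective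
  exact @Subsingleton.elim (PrimeSpectrum k) inferInstance _ _

include eU in
theorem s7518 :
    (∀ Z ∈ irreducibleComponents ↥G.R, topologicalKrullDim ↥Z = topologicalKrullDim ↥G.R) ∧
      ∀ r : G.R, FlatMor.localDim ↥G.R r = topologicalKrullDim ↥G.R := by
  have h2 : ∀ g : G.R, FlatMor.localDim ↥G.R g = topologicalKrullDim ↥G.R := by
    intro g
    rw [Groth.Agent.H3.TopDim.dim_eq_iSup_localDim]
    have hfun : (fun x : G.R => FlatMor.localDim ↥G.R x) =
        fun _ => FlatMor.localDim ↥G.R g := funext fun x => localDim_const S G k eU x g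
    haveI : Nonempty G.R := ⟨g⟩
    rw [hfun, iSup_const]
  exact ⟨(RelDim.forall_dim_irreducibleComponents_iff (G.t ≫ eU.hom) _).mpr h2, h2⟩

include eU in
theorem s1887 (r : G.R) (hr : IsClosed ({r} : Set G.R)) :
    (ringKrullDim (G.R.presheaf.stalk r) : WithBot ℕ∞) = topologicalKrullDim G.R := by
  rw [← (s7518 S G k eU).2 r]
  exact (DimFormula.localDim_eq_stalk_of_isClosed (G.t ≫ eU.hom) r hr).symm

end Groth.Agent.H1.GrpdEquidim
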