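import Mathlib
import Groth.Prelude.Def_HTop
import Groth.Agent.Lib.Helper1.VCov

set_option autoImplicit false

namespace Groth.Agent.Lib.Helper1.HCov

open CategoryTheory CategoryTheory.Limits AlgebraicGeometry HTop TopologicalSpace IsLocalRing
open Groth.Agent.Lib.Helper1.ValLift

universe v w w' u

/-- a universally closed surjective quasi-compact morphism is a V covering -/
theorem isVCover_singleton_of_univClosed_surjective {X Y : Scheme.{u}} (f : Y ⟶ X)
    [UniversallyClosed f] [Surjective f] [QuasiCompact f] :
    IsVCover (PreZeroHypercover.singleton.{w} f) := by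
  apply isVCover_singleton_of_hasValLift
  intro V _ _ g
  obtain ⟨W, hd, hv, φ, hφ, q, hq⟩ := exists_lift_of_univClosed_surjective g f
  exact ⟨W, hd, hv, φ, hφ, PUnit.unit, q, hq⟩

/-- a proper surjective morphism locally of finite presentation is an h covering -/
theorem isHCover_singleton_of_proper_surjective {X Y : Scheme.{u}} (f : Y ⟶ X) [IsProper f]
    [Surjective f] [LocallyOfFinitePresentation f] :
    IsHCover (PreZeroHypercover.singleton.{w} f) :=
  ⟨fun _ => ‹LocallyOfFinitePresentation f›, isVCover_singleton_of_univClosed_surjective f⟩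

theorem bijective_of_mono_of_isSheafFor_singleton {C : Type*} [Category C] {P : Cᵒᵖ ⥤ Type v}
    {X Y : C} (f : X ⟶ Y) [Mono f] (h : Presieve.IsSheafFor P (Presieve.singleton f)) :
    Function.Bijective (P.map f.op) := by
  rw [Presieve.isSheafFor_singleton] at h
  have h' : ∀ x : P.obj (Opposite.op X), ∃! y, P.map f.op y = x := fun x =>
    h x (fun p₁ p₂ hp => by rw [(cancel_mono f).mp hp])
  constructor
  · intro a b hab
    exact (h' (P.map f.op b)).unique hab rfl
  · intro x
    exact (h' x).exists

theorem generate_singleton_mem_over {C : Type*} [Category C] (J : GrothendieckTopology C) {S : C}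
    {X X' : Over S} (f : X ⟶ X')
    (h : Sieve.generate (Presieve.singleton f.left) ∈ J X'.left) :
    Sieve.generate (Presieve.singleton f) ∈ (J.over S) X' := by
  rw [GrothendieckTopology.mem_over_iff, Sieve.overEquiv_generate]
  refine J.superset_covering ?_ h
  rw [Sieve.generate_le_iff]
  rintro _ _ ⟨⟩
  apply Sieve.le_generate
  exact ⟨X, f, 𝟙 _, Presieve.singleton.mk, by simp⟩

end Groth.Agent.Lib.Helper1.HCov
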