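import Mathlib
import Groth.Prelude.Def_HTop
import Groth.Agent.Lib.Helper1.HCov

set_option autoImplicit false

namespace Groth.Agent.Lib.Helper1.HCov

open CategoryTheory CategoryTheory.Limits AlgebraicGeometry HTop TopologicalSpace IsLocalRing
open Groth.Agent.Lib.Helper1.ValLift

universe v w w' u

/-- a proper surjective morphism is a ph covering -/
theorem isPhCover_singleton_of_proper_surjective {X Y : Scheme.{u}} (f : Y ⟶ X) [IsProper f]
    [Surjective f] : IsPhCover (PreZeroHypercover.singleton.{w} f) := by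
  refine ⟨fun _ => (inferInstance : LocallyOfFiniteType f), ?_⟩
  rintro ⟨U, (hU : IsAffineOpen U)⟩
  obtain ⟨n, W, hW, hWle, hWcov⟩ := exists_fin_affineOpens_of_isCompact (f ⁻¹ᵁ U)
    (QuasiCompact.isCompact_preimage (f := f) _ U.2 hU.isCompact)
  have hrange : ∀ k : Fin n, Set.range ((W k).ι ≫ f) ⊆ Set.range U.ι := by
    intro k
    rintro _ ⟨x, rfl⟩
    rw [Scheme.Opens.range_ι]
    exact hWle k x.2
  let F : PreZeroHypercover.{0} (U : Scheme.{u}) :=
    { I₀ := Fin n
      X := fun k => (W k : Scheme.{u})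
      f := fun k => IsOpenImmersion.lift U.ι ((W k).ι ≫ f) (hrange k) }
  have hFf : ∀ k : Fin n, F.f k ≫ U.ι = (W k).ι ≫ f := fun k => IsOpenImmersion.lift_fac _ _ _
  refine ⟨F, ⟨hU, inferInstanceAs (Finite (Fin n)), fun k => hW k, ?_⟩, ?_⟩
  · refine ⟨(f ⁻¹ᵁ U : Scheme.{u}), f ∣_ U, fun k => Y.homOfLE (hWle k), ?_, ?_, ?_, ?_, ?_⟩
    · exact IsZariskiLocalAtTarget.restrict ‹IsProper f› U
    · exact IsZariskiLocalAtTarget.restrict ‹Surjective f› U
    · intro k; infer_instance
    · intro k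
      rw [← cancel_mono U.ι, Category.assoc, morphismRestrict_ι, ← Category.assoc,
        Scheme.homOfLE_ι, hFf k]
    · intro x
      obtain ⟨k, hk⟩ := hWcov x.1 x.2
      refine ⟨k, ⟨x.1, hk⟩, ?_⟩
      apply Subtype.ext
      exact Scheme.homOfLE_apply _ _
  · intro k
    exact ⟨PUnit.unit, (W k).ι, (hFf k).symm⟩

end Groth.Agent.Lib.Helper1.HCov
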