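import Mathlib
import Groth.Prelude.Def_HTop
import Groth.Agent.Lib.Helper1.PhCov

set_option autoImplicit false

namespace Groth.Agent.Lib.Helper1.HCov

open CategoryTheory CategoryTheory.Limits AlgebraicGeometry HTop TopologicalSpace IsLocalRing
open Groth.Agent.Lib.Helper1.ValLift

universe v w w' u

/-- Lifting through a universally closed morphism whose image contains the image of the generic
point. -/
theorem exists_lift_of_univClosed_of_mem_range {V : CommRingCat.{u}} [IsDomain V]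
    [ValuationRing V] {T U : Scheme.{u}} (g : Spec V ⟶ T) (f : U ⟶ T) [UniversallyClosed f]
    (hmem : g (⟨⊥, Ideal.isPrime_bot⟩ : PrimeSpectrum V) ∈ Set.range f) :
    ∃ (W : CommRingCat.{u}) (_ : IsDomain W) (_ : ValuationRing W) (φ : V ⟶ W),
      IsExtVal V W φ ∧ ∃ g' : Spec W ⟶ U, g' ≫ f = Spec.map φ ≫ g := by
  obtain ⟨x, hx⟩ := hmem
  obtain ⟨z', hz', -⟩ := Scheme.Pullback.exists_preimage_pullback (f := g) (g := f)
    (⟨⊥, Ideal.isPrime_bot⟩ : PrimeSpectrum V) x hx.symm
  have hsp : SpecializingMap (pullback.fst g f) :=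
    (pullback.fst g f).isClosedMap.specializingMap
  obtain ⟨z, hz'z, hz⟩ := hsp (a := z') (b := closedPoint V) (by
    rw [hz']; exact bot_specializes _)
  obtain ⟨W, hd, hv, φ, hφ, q, hq, -⟩ := exists_extVal_lift (pullback.fst g f) hz'z
    (by rw [hz']) hz
  refine ⟨W, hd, hv, φ, hφ, q ≫ pullback.snd g f, ?_⟩
  rw [Category.assoc, ← pullback.condition, ← Category.assoc, hq]

/-- a jointly surjective family of universally closed morphisms has the valuative lifting
property -/
theorem hasValLift_of_univClosed_of_surjective {T : Scheme.{u}} (E : PreZeroHypercover.{w} T)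
    (hcl : ∀ k, UniversallyClosed (E.f k)) (hsurj : ∀ t : T, ∃ k, t ∈ Set.range (E.f k)) :
    HasValLift E := by
  intro V _ _ g
  obtain ⟨k, hk⟩ := hsurj (g (⟨⊥, Ideal.isPrime_bot⟩ : PrimeSpectrum V))
  have := hcl k
  obtain ⟨W, hd, hv, φ, hφ, g', hg'⟩ := exists_lift_of_univClosed_of_mem_range g (E.f k) hk
  exact ⟨W, hd, hv, φ, hφ, k, g', hg'⟩

/-- a finite family of quasi-compact morphisms with the valuative lifting property is a V
covering -/
theorem isVCover_of_hasValLift_of_quasiCompact {Y : Scheme.{u}} (E : PreZeroHypercover.{w} Y)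
    (hfin : Finite E.I₀) (hqc : ∀ k, QuasiCompact (E.f k)) (hE : HasValLift E) : IsVCover E := by
  rintro ⟨U, (hU : IsAffineOpen U)⟩
  obtain ⟨m, ⟨e⟩⟩ := Finite.exists_equiv_fin E.I₀
  have hex : ∀ k : E.I₀, ∃ (n : ℕ) (W : Fin n → (E.X k).Opens), (∀ l, IsAffineOpen (W l)) ∧
      (∀ l, W l ≤ E.f k ⁻¹ᵁ U) ∧ ∀ x ∈ E.f k ⁻¹ᵁ U, ∃ l, x ∈ W l := fun k =>
    exists_fin_affineOpens_of_isCompact (E.f k ⁻¹ᵁ U)
      (QuasiCompact.isCompact_preimage (f := E.f k) _ U.2 hU.isCompact)
  choose n W hW hWle hWcov using hex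
  have hrange : ∀ (k : E.I₀) (l : Fin (n k)), Set.range ((W k l).ι ≫ E.f k) ⊆ Set.range U.ι := by
    intro k l
    rintro _ ⟨x, rfl⟩
    rw [Scheme.Opens.range_ι]
    exact hWle k l x.2
  let F : PreZeroHypercover.{0} (U : Scheme.{u}) :=
    { I₀ := Σ a : Fin m, Fin (n (e.symm a))
      X := fun p => (W (e.symm p.1) p.2 : Scheme.{u})
      f := fun p => IsOpenImmersion.lift U.ι ((W (e.symm p.1) p.2).ι ≫ E.f (e.symm p.1))
        (hrange _ _) }
  have hFf : ∀ p : F.I₀, F.f p ≫ U.ι = (W (e.symm p.1) p.2).ι ≫ E.f (e.symm p.1) := fun p =>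
    IsOpenImmersion.lift_fac _ _ _
  refine ⟨F, ⟨hU, inferInstanceAs (Finite (Σ a : Fin m, Fin (n (e.symm a)))),
    fun p => hW _ _, ?_⟩, ?_⟩
  · intro V _ _ g
    obtain ⟨R, hd, hv, φ, hφ, k, g', hg'⟩ := hE V (g ≫ U.ι)
    have : IsLocalRing R := inferInstance
    obtain ⟨a, rfl⟩ := e.symm.surjective k
    have hmem : g' (closedPoint R) ∈ E.f (e.symm a) ⁻¹ᵁ U := by
      change E.f (e.symm a) (g' (closedPoint R)) ∈ U
      rw [← Scheme.Hom.comp_apply, hg']
      simp only [Scheme.Hom.comp_base, TopCat.coe_comp, Function.comp_apply]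
      have := Set.mem_range_self (f := U.ι) (g (Spec.map φ (closedPoint R)))
      rwa [Scheme.Opens.range_ι] at this
    obtain ⟨l, hl⟩ := hWcov _ _ hmem
    obtain ⟨g'', hg''⟩ := exists_lift_opens (W (e.symm a) l) g' hl
    refine ⟨R, hd, hv, φ, hφ, ⟨a, l⟩, g'', ?_⟩
    rw [← cancel_mono U.ι, Category.assoc, hFf ⟨a, l⟩, ← Category.assoc, hg'', hg',
      Category.assoc]
  · intro p
    exact ⟨e.symm p.1, (W (e.symm p.1) p.2).ι, (hFf p).symm⟩

/-- a finite jointly surjective family of proper morphisms locally of finite presentation is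
an h covering -/
theorem isHCover_of_proper_of_surjective {Y : Scheme.{u}} (E : PreZeroHypercover.{w} Y)
    (hfin : Finite E.I₀) (hp : ∀ k, IsProper (E.f k))
    (hfp : ∀ k, LocallyOfFinitePresentation (E.f k))
    (hsurj : ∀ t : Y, ∃ k, t ∈ Set.range (E.f k)) : IsHCover E :=
  ⟨hfp, isVCover_of_hasValLift_of_quasiCompact E hfin (fun k => by have := hp k; infer_instance)
    (hasValLift_of_univClosed_of_surjective E (fun k => by have := hp k; infer_instance) hsurj)⟩

theorem generate_ofArrows_mem_over {C : Type*} [Category C] (J : GrothendieckTopology C) {S : C}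
    {X' : Over S} {I : Type*} (Z : I → Over S) (g : ∀ i, Z i ⟶ X')
    (h : Sieve.ofArrows (fun i => (Z i).left) (fun i => (g i).left) ∈ J X'.left) :
    Sieve.ofArrows Z g ∈ (J.over S) X' := by
  rw [GrothendieckTopology.mem_over_iff, Sieve.overEquiv_ofArrows]
  exact h

end Groth.Agent.Lib.Helper1.HCov
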