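import Mathlib

namespace Groth.Agent.Lib.Helper1.HS

/-- Binomial sums `∑_{k<s} c_k C(n+k,k)`. -/
def bsum (s : ℕ) (c : ℕ → ℤ) (n : ℕ) : ℤ :=
  ∑ k ∈ Finset.range s, c k * ((n + k).choose k : ℤ)

lemma bsum_sub (s : ℕ) (c c' : ℕ → ℤ) (n : ℕ) :
    bsum s (fun k => c k - c' k) n = bsum s c n - bsum s c' n := by
  unfold bsum
  rw [← Finset.sum_sub_distrib]
  exact Finset.sum_congr rfl fun k _ => by ring

lemma bsum_add (s : ℕ) (c c' : ℕ → ℤ) (n : ℕ) :
    bsum s (fun k => c k + c' k) n = bsum s c n + bsum s c' n := by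
  unfold bsum
  rw [← Finset.sum_add_distrib]
  exact Finset.sum_congr rfl fun k _ => by ring

lemma bsum_zero (c : ℕ → ℤ) (n : ℕ) : bsum 0 c n = 0 := by simp [bsum]

/-- Discrete integration in the binomial basis. -/
lemma bsum_summation (s : ℕ) (a : ℕ → ℤ) (e : ℕ → ℤ) (n₁ : ℕ)
    (h : ∀ n, n₁ ≤ n → a (n + 1) - a n = bsum s e n) :
    ∃ d : ℕ → ℤ, ∀ n, n₁ ≤ n → a n = bsum (s + 1) d n := by
  classical
  set G : ℕ → ℤ := fun n => ∑ k ∈ Finset.range s, e k * ((n + k).choose (k + 1) : ℤ) with hG
  have hGs : ∀ n, G (n + 1) - G n = bsum s e n := by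
    intro n
    simp only [hG, bsum]
    rw [← Finset.sum_sub_distrib]
    refine Finset.sum_congr rfl fun k _ => ?_
    have : (n + 1 + k).choose (k + 1) = (n + k).choose k + (n + k).choose (k + 1) := by
      rw [show n + 1 + k = (n + k) + 1 by ring, Nat.choose_succ_succ']
    rw [this]; push_cast; ring
  have hconst : ∀ n, n₁ ≤ n → a n - G n = a n₁ - G n₁ := by
    intro n hn
    induction n, hn using Nat.le_induction with
    | base => rfl
    | succ n hn ih =>
      have h1 := h n hn
      have h2 := hGs n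
      linarith
  set κ := a n₁ - G n₁ with hκ
  set e' : ℕ → ℤ := fun k => if k < s then e k else 0 with he'
  refine ⟨fun j => Nat.casesOn j (κ - e' 0) (fun k => e' k - e' (k + 1)), fun n hn => ?_⟩
  have hG' : G n = ∑ k ∈ Finset.range s, (e' k * ((n + (k + 1)).choose (k + 1) : ℤ)
      - e' k * ((n + k).choose k : ℤ)) := by
    simp only [hG]
    refine Finset.sum_congr rfl fun k hk => ?_
    have hk' : k < s := Finset.mem_range.mp hk
    have : (n + (k + 1)).choose (k + 1) = (n + k).choose k + (n + k).choose (k + 1) := by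
      rw [show n + (k + 1) = (n + k) + 1 by ring, Nat.choose_succ_succ']
    simp only [he', hk', if_true]
    rw [this]; push_cast; ring
  have h3 : a n = κ + G n := by have := hconst n hn; linarith
  rw [h3, hG', bsum, Finset.sum_range_succ', Finset.sum_sub_distrib]
  simp only [Nat.choose_zero_right, Nat.cast_one, mul_one, add_zero]
  have h4 : ∑ k ∈ Finset.range s, (e' k - e' (k + 1)) * ((n + (k + 1)).choose (k + 1) : ℤ)
      = ∑ k ∈ Finset.range s, e' k * ((n + (k + 1)).choose (k + 1) : ℤ)
        - ∑ k ∈ Finset.range s, e' (k + 1) * ((n + (k + 1)).choose (k + 1) : ℤ) := by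
    rw [← Finset.sum_sub_distrib]
    exact Finset.sum_congr rfl fun k _ => by ring
  have h5 : ∑ k ∈ Finset.range s, e' (k + 1) * ((n + (k + 1)).choose (k + 1) : ℤ) + e' 0
      = ∑ k ∈ Finset.range s, e' k * ((n + k).choose k : ℤ) := by
    have := Finset.sum_range_succ' (fun k => e' k * ((n + k).choose k : ℤ)) s
    simp only [Nat.choose_zero_right, Nat.cast_one, mul_one, add_zero] at this
    rw [← this, Finset.sum_range_succ]
    simp [he']
  rw [h4]
  simp only [Nat.rec_zero]
  linarith


universe u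

open DirectSum

section NL

variable {A₀ : Type u} [CommRing A₀] {s : ℕ} (N : ℕ → Type u) [∀ n, AddCommGroup (N n)]
  [∀ n, Module A₀ (N n)] (φ : Fin s → ∀ n, N n →ₗ[A₀] N (n + 1))

/-- The total operator on `⨁ N n`. -/
noncomputable def Phi (i : Fin s) : (⨁ n, N n) →ₗ[A₀] (⨁ n, N n) :=
  DirectSum.toModule A₀ ℕ _ (fun n => (DirectSum.lof A₀ ℕ N (n + 1)).comp (φ i n))

lemma Phi_lof (i : Fin s) (n : ℕ) (x : N n) :
    Phi N φ i (DirectSum.lof A₀ ℕ N n x) = DirectSum.lof A₀ ℕ N (n + 1) (φ i n x) := by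
  simp [Phi]

lemma Phi_comm (hcomm : ∀ i j n x, φ i (n + 1) (φ j n x) = φ j (n + 1) (φ i n x)) (i j : Fin s) :
    Phi N φ i * Phi N φ j = Phi N φ j * Phi N φ i := by
  refine DirectSum.linearMap_ext _ fun n => LinearMap.ext fun x => ?_
  simp [Module.End.mul_apply, Phi_lof, hcomm]

open scoped IsMulCommutative in
/-- The ring hom from the polynomial ring to endomorphisms of the total module. -/
noncomputable def rho (hcomm : ∀ i j n x, φ i (n + 1) (φ j n x) = φ j (n + 1) (φ i n x)) :
    MvPolynomial (Fin s) A₀ →ₐ[A₀] Module.End A₀ (⨁ n, N n) :=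
  have : IsMulCommutative (Algebra.adjoin A₀ (Set.range (Phi N φ))) :=
    Algebra.isMulCommutative_adjoin A₀ (by
      rintro _ ⟨i, rfl⟩ _ ⟨j, rfl⟩
      exact Phi_comm N φ hcomm i j)
  (Algebra.adjoin A₀ (Set.range (Phi N φ))).val.comp
    (MvPolynomial.aeval (fun i => (⟨Phi N φ i, Algebra.subset_adjoin ⟨i, rfl⟩⟩ :
      Algebra.adjoin A₀ (Set.range (Phi N φ)))))

lemma Phi_apply_succ (i : Fin s) (t : ⨁ n, N n) (n : ℕ) :
    DirectSum.component A₀ ℕ N (n + 1) (Phi N φ i t) = φ i n (DirectSum.component A₀ ℕ N n t) := by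
  induction t using DirectSum.induction_on with
  | zero => simp
  | of m x =>
    rw [← DirectSum.lof_eq_of A₀, Phi_lof]
    by_cases h : m = n
    · subst h; simp
    · rw [DirectSum.component.of, DirectSum.component.of, dif_neg h, dif_neg (by omega)]
      simp
  | add x y hx hy => simp [hx, hy]

lemma Phi_apply_zero (i : Fin s) (t : ⨁ n, N n) :
    DirectSum.component A₀ ℕ N 0 (Phi N φ i t) = 0 := by
  induction t using DirectSum.induction_on with
  | zero => simp
  | of m x =>
    rw [← DirectSum.lof_eq_of A₀, Phi_lof, DirectSum.component.of, dif_neg (by omega)]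
  | add x y hx hy => simp [hx, hy]

lemma rho_X (hcomm : ∀ i j n x, φ i (n + 1) (φ j n x) = φ j (n + 1) (φ i n x)) (i : Fin s) :
    rho N φ hcomm (MvPolynomial.X i) = Phi N φ i := by
  simp [rho]

/-- Type synonym for the total module, carrying the polynomial ring action. -/
@[nolint unusedArguments]
def Tot (_hcomm : ∀ i j n x, φ i (n + 1) (φ j n x) = φ j (n + 1) (φ i n x)) : Type u := ⨁ n, N n

section Tot

variable (hcomm : ∀ i j n x, φ i (n + 1) (φ j n x) = φ j (n + 1) (φ i n x))

noncomputable instance : AddCommGroup (Tot N φ hcomm) := inferInstanceAs (AddCommGroup (⨁ n, N n))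
noncomputable instance : Module A₀ (Tot N φ hcomm) := inferInstanceAs (Module A₀ (⨁ n, N n))
noncomputable instance : Module (MvPolynomial (Fin s) A₀) (Tot N φ hcomm) :=
  Module.compHom (⨁ n, N n) (rho N φ hcomm).toRingHom

/-- The identity map from the direct sum to the total module. -/
def toTot : (⨁ n, N n) ≃ₗ[A₀] Tot N φ hcomm := LinearEquiv.refl _ _

lemma smul_def (p : MvPolynomial (Fin s) A₀) (t : Tot N φ hcomm) :
    p • t = toTot N φ hcomm (rho N φ hcomm p ((toTot N φ hcomm).symm t)) := rfl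

lemma X_smul (i : Fin s) (t : Tot N φ hcomm) :
    (MvPolynomial.X i : MvPolynomial (Fin s) A₀) • t
      = toTot N φ hcomm (Phi N φ i ((toTot N φ hcomm).symm t)) := by
  rw [smul_def, rho_X]

lemma C_smul (a : A₀) (t : Tot N φ hcomm) :
    (MvPolynomial.C a : MvPolynomial (Fin s) A₀) • t = a • t := by
  rw [smul_def]
  have : (MvPolynomial.C a : MvPolynomial (Fin s) A₀) = algebraMap A₀ _ a := rfl
  rw [this, AlgHom.commutes]
  rfl

instance : IsScalarTower A₀ (MvPolynomial (Fin s) A₀) (Tot N φ hcomm) :=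
  IsScalarTower.of_algebraMap_smul fun a t => C_smul N φ hcomm a t

/-- The component maps. -/
def comp (n : ℕ) : Tot N φ hcomm →ₗ[A₀] N n := DirectSum.component A₀ ℕ N n

/-- The inclusion maps. -/
def incl (n : ℕ) : N n →ₗ[A₀] Tot N φ hcomm := DirectSum.lof A₀ ℕ N n

lemma comp_incl_self (n : ℕ) (x : N n) : comp N φ hcomm n (incl N φ hcomm n x) = x :=
  DirectSum.component.lof_self A₀ n x

lemma comp_incl_of_ne (n m : ℕ) (h : n ≠ m) (x : N n) :
    comp N φ hcomm m (incl N φ hcomm n x) = 0 :=
  (DirectSum.component.of A₀ m n x).trans (dif_neg h)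

lemma X_smul_incl (i : Fin s) (n : ℕ) (x : N n) :
    (MvPolynomial.X i : MvPolynomial (Fin s) A₀) • incl N φ hcomm n x
      = incl N φ hcomm (n + 1) (φ i n x) := by
  rw [X_smul]
  exact Phi_lof N φ i n x

lemma comp_X_smul_succ (i : Fin s) (t : Tot N φ hcomm) (n : ℕ) :
    comp N φ hcomm (n + 1) ((MvPolynomial.X i : MvPolynomial (Fin s) A₀) • t)
      = φ i n (comp N φ hcomm n t) := by
  rw [X_smul]
  exact Phi_apply_succ N φ i t n

lemma comp_X_smul_zero (i : Fin s) (t : Tot N φ hcomm) :
    comp N φ hcomm 0 ((MvPolynomial.X i : MvPolynomial (Fin s) A₀) • t) = 0 := by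
  rw [X_smul]
  exact Phi_apply_zero N φ i t

@[elab_as_elim]
lemma tot_induction {P : Tot N φ hcomm → Prop} (t : Tot N φ hcomm) (h0 : P 0)
    (hincl : ∀ n x, P (incl N φ hcomm n x)) (hadd : ∀ x y, P x → P y → P (x + y)) : P t :=
  DirectSum.induction_on (motive := P) t h0 hincl hadd

lemma exists_comp_eq_zero (t : Tot N φ hcomm) : ∃ m, ∀ n, m ≤ n → comp N φ hcomm n t = 0 := by
  induction t using tot_induction with
  | h0 => exact ⟨0, fun n _ => map_zero _⟩
  | hincl k x =>
    exact ⟨k + 1, fun n hn => comp_incl_of_ne N φ hcomm k n (by omega) x⟩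
  | hadd x y hx hy =>
    obtain ⟨m₁, h₁⟩ := hx
    obtain ⟨m₂, h₂⟩ := hy
    exact ⟨max m₁ m₂, fun n hn => by
      rw [map_add, h₁ n (le_trans (le_max_left _ _) hn), h₂ n (le_trans (le_max_right _ _) hn),
        add_zero]⟩

lemma incl_mem_span [IsNoetherianRing A₀] (n₀ : ℕ)
    (hgen : ∀ n, n₀ ≤ n → ⨆ i, LinearMap.range (φ i n) = ⊤)
    (g : ∀ n, Finset (N n)) (hg : ∀ n, Submodule.span A₀ (g n : Set (N n)) = ⊤) (n : ℕ) (x : N n) :
    incl N φ hcomm n x ∈ Submodule.span (MvPolynomial (Fin s) A₀)
      (⋃ k ∈ Finset.range (n₀ + 1), (incl N φ hcomm k '' (g k : Set (N k)))) := by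
  set G := (⋃ k ∈ Finset.range (n₀ + 1), (incl N φ hcomm k '' (g k : Set (N k)))) with hG
  have hsmall : ∀ k, k ≤ n₀ → ∀ x : N k, incl N φ hcomm k x ∈
      Submodule.span (MvPolynomial (Fin s) A₀) G := by
    intro k hk x
    have hx : x ∈ Submodule.span A₀ (g k : Set (N k)) := by rw [hg]; trivial
    have h1 : incl N φ hcomm k x ∈ Submodule.span A₀ (incl N φ hcomm k '' (g k : Set (N k))) := by
      rw [← Submodule.map_span]; exact Submodule.mem_map_of_mem hx
    have h2 : Submodule.span A₀ (incl N φ hcomm k '' (g k : Set (N k))) ≤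
        (Submodule.span (MvPolynomial (Fin s) A₀) G).restrictScalars A₀ := by
      rw [Submodule.span_le]
      intro y hy
      refine Submodule.subset_span ?_
      rw [hG]
      simp only [Set.mem_iUnion]
      exact ⟨k, Finset.mem_range.mpr (by omega), hy⟩
    exact h2 h1
  induction n with
  | zero => exact hsmall 0 (Nat.zero_le _) x
  | succ n ih =>
    by_cases hn : n + 1 ≤ n₀
    · exact hsmall _ hn x
    · have hx : x ∈ ⨆ i, LinearMap.range (φ i n) := by rw [hgen n (by omega)]; trivial
      induction hx using Submodule.iSup_induction' with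
      | mem i y hy =>
        obtain ⟨z, rfl⟩ := hy
        rw [← X_smul_incl]
        exact Submodule.smul_mem _ _ (ih z)
      | zero => rw [map_zero]; exact Submodule.zero_mem _
      | add y z _ _ hy hz => rw [map_add]; exact Submodule.add_mem _ hy hz

lemma finite_tot [IsNoetherianRing A₀] (hfg : ∀ n, Module.Finite A₀ (N n))
    (hgen : ∃ n₀, ∀ n, n₀ ≤ n → ⨆ i, LinearMap.range (φ i n) = ⊤) :
    Module.Finite (MvPolynomial (Fin s) A₀) (Tot N φ hcomm) := by
  classical
  obtain ⟨n₀, hgen⟩ := hgen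
  choose g hg using fun n => (hfg n).fg_top
  refine ⟨⟨(Finset.range (n₀ + 1)).biUnion (fun k => (g k).image (incl N φ hcomm k)), ?_⟩⟩
  rw [eq_top_iff]
  rintro t -
  have hset : (((Finset.range (n₀ + 1)).biUnion (fun k => (g k).image (incl N φ hcomm k)) :
      Finset (Tot N φ hcomm)) : Set (Tot N φ hcomm))
      = ⋃ k ∈ Finset.range (n₀ + 1), (incl N φ hcomm k '' (g k : Set (N k))) := by
    ext y; simp
  rw [hset]
  induction t using tot_induction with
  | h0 => exact Submodule.zero_mem _
  | hincl n x => exact incl_mem_span N φ hcomm n₀ hgen g hg n x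
  | hadd x y hx hy => exact Submodule.add_mem _ hx hy

include hcomm in
/-- **Noetherian lemma**: a stable family of submodules is eventually generated. -/
theorem exists_forall_le_iSup_map [IsNoetherianRing A₀] (hfg : ∀ n, Module.Finite A₀ (N n))
    (hgen : ∃ n₀, ∀ n, n₀ ≤ n → ⨆ i, LinearMap.range (φ i n) = ⊤)
    (K : ∀ n, Submodule A₀ (N n)) (hK : ∀ i n, (K n).map (φ i n) ≤ K (n + 1)) :
    ∃ m, ∀ n, m ≤ n → K (n + 1) ≤ ⨆ i, (K n).map (φ i n) := by
  classical
  have hfin := finite_tot N φ hcomm hfg hgen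
  have hnoeth : IsNoetherian (MvPolynomial (Fin s) A₀) (Tot N φ hcomm) := inferInstance
  -- closure of the componentwise condition under the polynomial action
  have hX : ∀ (i : Fin s) (t : Tot N φ hcomm), (∀ n, comp N φ hcomm n t ∈ K n) →
      ∀ n, comp N φ hcomm n ((MvPolynomial.X i : MvPolynomial (Fin s) A₀) • t) ∈ K n := by
    intro i t ht n
    cases n with
    | zero => rw [comp_X_smul_zero]; exact Submodule.zero_mem _
    | succ n => rw [comp_X_smul_succ]; exact hK i n (Submodule.mem_map_of_mem (ht n))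
  have hsmul : ∀ (p : MvPolynomial (Fin s) A₀) (t : Tot N φ hcomm),
      (∀ n, comp N φ hcomm n t ∈ K n) → ∀ n, comp N φ hcomm n (p • t) ∈ K n := by
    intro p
    induction p using MvPolynomial.induction_on with
    | C a =>
      intro t ht n
      rw [C_smul, map_smul]; exact Submodule.smul_mem _ _ (ht n)
    | add p q hp hq =>
      intro t ht n
      rw [add_smul, map_add]; exact Submodule.add_mem _ (hp t ht n) (hq t ht n)
    | mul_X p i hp =>
      intro t ht n
      rw [mul_smul]; exact hp _ (hX i t ht) n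
  let Ktot : Submodule (MvPolynomial (Fin s) A₀) (Tot N φ hcomm) :=
    { carrier := {t | ∀ n, comp N φ hcomm n t ∈ K n}
      add_mem' := fun {a b} ha hb n => by rw [map_add]; exact Submodule.add_mem _ (ha n) (hb n)
      zero_mem' := fun n => by rw [map_zero]; exact Submodule.zero_mem _
      smul_mem' := fun p t ht => hsmul p t ht }
  obtain ⟨G, hG⟩ := (isNoetherian_def.mp hnoeth) Ktot
  choose mt hmt using exists_comp_eq_zero N φ hcomm
  refine ⟨G.sup mt, fun n hn x hx => ?_⟩
  set m := G.sup mt with hm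
  -- the auxiliary property
  let D : Tot N φ hcomm → Prop := fun t => (∀ n, comp N φ hcomm n t ∈ K n) ∧
    ∀ n, m ≤ n → comp N φ hcomm (n + 1) t ∈ ⨆ i, (K n).map (φ i n)
  have hDX : ∀ (i : Fin s) (t : Tot N φ hcomm), D t →
      D ((MvPolynomial.X i : MvPolynomial (Fin s) A₀) • t) := by
    intro i t ht
    refine ⟨hX i t ht.1, fun n _ => ?_⟩
    rw [comp_X_smul_succ]
    exact (le_iSup (fun i => (K n).map (φ i n)) i) (Submodule.mem_map_of_mem (ht.1 n))
  have hDsmul : ∀ (p : MvPolynomial (Fin s) A₀) (t : Tot N φ hcomm), D t → D (p • t) := by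
    intro p
    induction p using MvPolynomial.induction_on with
    | C a =>
      intro t ht
      refine ⟨hsmul _ t ht.1, fun n hn => ?_⟩
      rw [C_smul, map_smul]; exact Submodule.smul_mem _ _ (ht.2 n hn)
    | add p q hp hq =>
      intro t ht
      refine ⟨hsmul _ t ht.1, fun n hn => ?_⟩
      rw [add_smul, map_add]; exact Submodule.add_mem _ ((hp t ht).2 n hn) ((hq t ht).2 n hn)
    | mul_X p i hp =>
      intro t ht
      rw [mul_smul]; exact hp _ (hDX i t ht)
  have hKD : ∀ t ∈ Ktot, D t := by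
    intro t ht
    rw [← hG] at ht
    induction ht using Submodule.span_induction with
    | mem y hy =>
      have hyK : y ∈ Ktot := by rw [← hG]; exact Submodule.subset_span hy
      refine ⟨hyK, fun n hn => ?_⟩
      rw [hmt y (n + 1) (le_trans (Finset.le_sup (f := mt) hy) (by omega))]
      exact Submodule.zero_mem _
    | zero =>
      exact ⟨fun n => by rw [map_zero]; exact Submodule.zero_mem _,
        fun n _ => by rw [map_zero]; exact Submodule.zero_mem _⟩
    | add y z _ _ hy hz =>
      exact ⟨fun n => by rw [map_add]; exact Submodule.add_mem _ (hy.1 n) (hz.1 n),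
        fun n hn => by rw [map_add]; exact Submodule.add_mem _ (hy.2 n hn) (hz.2 n hn)⟩
    | smul p y _ hy => exact hDsmul p y hy
  have hmem : incl N φ hcomm (n + 1) x ∈ Ktot := by
    intro k
    by_cases hk : n + 1 = k
    · subst hk; rw [comp_incl_self]; exact hx
    · rw [comp_incl_of_ne _ _ _ _ _ hk]; exact Submodule.zero_mem _
  have := (hKD _ hmem).2 n hn
  rwa [comp_incl_self] at this

end Tot

end NL


section HilbertSerre

variable {A₀ : Type u} [CommRing A₀]

/-- Length of a ker/coker: `ℓ(N') + ℓ(ker) = ℓ(N) + ℓ(coker)` for `ψ : N → N'`. -/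
lemma length_ker_coker {N N' : Type*} [AddCommGroup N] [Module A₀ N] [AddCommGroup N']
    [Module A₀ N'] (ψ : N →ₗ[A₀] N') :
    Module.length A₀ N' + Module.length A₀ (LinearMap.ker ψ)
      = Module.length A₀ N + Module.length A₀ (N' ⧸ LinearMap.range ψ) := by
  have h1 := Module.length_eq_add_of_exact (LinearMap.ker ψ).subtype ψ.rangeRestrict
    (Submodule.subtype_injective _) ψ.surjective_rangeRestrict (by
      rw [LinearMap.exact_iff]
      ext x
      simp)
  have h2 := Module.length_eq_add_of_exact (LinearMap.range ψ).subtype (LinearMap.range ψ).mkQ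
    (Submodule.subtype_injective _) (Submodule.mkQ_surjective _) (by
      rw [LinearMap.exact_iff]; simp)
  rw [h1, h2]
  abel

theorem hilbertSerre [IsNoetherianRing A₀] : ∀ (s : ℕ) (N : ℕ → Type u) [∀ n, AddCommGroup (N n)]
    [∀ n, Module A₀ (N n)] (φ : Fin s → ∀ n, N n →ₗ[A₀] N (n + 1))
    (_ : ∀ i j n x, φ i (n + 1) (φ j n x) = φ j (n + 1) (φ i n x))
    (_ : ∀ n, IsFiniteLength A₀ (N n))
    (_ : ∃ n₀, ∀ n, n₀ ≤ n → ⨆ i, LinearMap.range (φ i n) = ⊤),
    ∃ c : ℕ → ℤ, ∃ n₁, ∀ n, n₁ ≤ n → ((Module.length A₀ (N n)).toNat : ℤ) = bsum s c n := by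
  intro s
  induction s with
  | zero =>
    intro N _ _ φ hcomm hfin ⟨n₀, hgen⟩
    refine ⟨fun _ => 0, n₀ + 1, fun n hn => ?_⟩
    obtain ⟨n, rfl⟩ : ∃ k, n = k + 1 := ⟨n - 1, by omega⟩
    have := hgen n (by omega)
    simp only [iSup_of_empty] at this
    have hss : Subsingleton (N (n + 1)) := by
      have h2 : Subsingleton (Submodule A₀ (N (n + 1))) := subsingleton_of_bot_eq_top this
      exact (Submodule.subsingleton_iff A₀).mp h2
    rw [Module.length_eq_zero_iff.mpr hss]
    simp [bsum]
  | succ s ih =>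
    intro N _ _ φ hcomm hfin hgen
    set ψ : ∀ n, N n →ₗ[A₀] N (n + 1) := φ (Fin.last s) with hψ
    have hK1 : ∀ (i : Fin (s + 1)) (n : ℕ), ∀ x ∈ LinearMap.ker (ψ n),
        φ i n x ∈ LinearMap.ker (ψ (n + 1)) := by
      intro i n x hx
      rw [LinearMap.mem_ker] at hx ⊢
      rw [hψ, hcomm, ← hψ, hx, map_zero]
    have hC1 : ∀ (i : Fin (s + 1)) (n : ℕ), LinearMap.range (ψ n) ≤
        (LinearMap.range (ψ (n + 1))).comap (φ i (n + 1)) := by
      rintro i n _ ⟨x, rfl⟩
      rw [Submodule.mem_comap, hψ, ← hcomm]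
      exact LinearMap.mem_range_self _ _
    -- the two derived systems
    let φK : Fin s → ∀ n, LinearMap.ker (ψ n) →ₗ[A₀] LinearMap.ker (ψ (n + 1)) :=
      fun i n => (φ i.castSucc n).restrict (hK1 i.castSucc n)
    let φC : Fin s → ∀ n, (N (n + 1) ⧸ LinearMap.range (ψ n)) →ₗ[A₀]
        (N (n + 1 + 1) ⧸ LinearMap.range (ψ (n + 1))) :=
      fun i n => Submodule.mapQ _ _ (φ i.castSucc (n + 1)) (hC1 i.castSucc n)
    have hfinK : ∀ n, IsFiniteLength A₀ (LinearMap.ker (ψ n)) := fun n =>
      IsFiniteLength.of_injective (hfin n) (Submodule.subtype_injective _)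
    have hfinC : ∀ n, IsFiniteLength A₀ (N (n + 1) ⧸ LinearMap.range (ψ n)) := fun n =>
      IsFiniteLength.of_surjective (hfin (n + 1)) (Submodule.mkQ_surjective _)
    have hcommK : ∀ i j n x, φK i (n + 1) (φK j n x) = φK j (n + 1) (φK i n x) := by
      intro i j n x
      apply Subtype.ext
      simp only [φK, LinearMap.coe_restrict_apply]
      exact hcomm _ _ _ _
    have hcommC : ∀ i j n x, φC i (n + 1) (φC j n x) = φC j (n + 1) (φC i n x) := by
      intro i j n x
      obtain ⟨x, rfl⟩ := Submodule.mkQ_surjective _ x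
      simp only [φC, Submodule.mkQ_apply, Submodule.mapQ_apply]
      rw [hcomm]
    have hfg : ∀ n, Module.Finite A₀ (N n) := fun n => by
      have := (isFiniteLength_iff_isNoetherian_isArtinian.mp (hfin n)).1
      infer_instance
    have hgenC : ∃ n₀, ∀ n, n₀ ≤ n → ⨆ i, LinearMap.range (φC i n) = ⊤ := by
      obtain ⟨n₀, hgen⟩ := hgen
      refine ⟨n₀, fun n hn => ?_⟩
      rw [eq_top_iff]
      rintro x -
      obtain ⟨x, rfl⟩ := Submodule.mkQ_surjective _ x
      have hx : x ∈ ⨆ i, LinearMap.range (φ i (n + 1)) := by rw [hgen (n + 1) (by omega)]; trivial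
      induction hx using Submodule.iSup_induction' with
      | mem i y hy =>
        obtain ⟨z, rfl⟩ := hy
        induction i using Fin.lastCases with
        | last =>
          have : (LinearMap.range (ψ (n + 1))).mkQ (φ (Fin.last s) (n + 1) z) = 0 := by
            rw [Submodule.mkQ_apply, Submodule.Quotient.mk_eq_zero]
            exact LinearMap.mem_range_self _ _
          rw [this]; exact Submodule.zero_mem _
        | cast i =>
          refine (le_iSup (fun i => LinearMap.range (φC i n)) i) ?_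
          exact ⟨(LinearMap.range (ψ n)).mkQ z, by simp [φC]⟩
      | zero => rw [map_zero]; exact Submodule.zero_mem _
      | add y z _ _ hy hz => rw [map_add]; exact Submodule.add_mem _ hy hz
    have hgenK : ∃ n₀, ∀ n, n₀ ≤ n → ⨆ i, LinearMap.range (φK i n) = ⊤ := by
      obtain ⟨m, hm⟩ := exists_forall_le_iSup_map N φ hcomm hfg hgen
        (fun n => LinearMap.ker (ψ n)) (by
          rintro i n _ ⟨x, hx, rfl⟩
          exact hK1 i n x hx)
      refine ⟨m, fun n hn => ?_⟩
      rw [eq_top_iff]
      rintro ⟨x, hx⟩ -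
      have hx' := hm n hn hx
      -- transport
      have key : ∀ y ∈ ⨆ i, (LinearMap.ker (ψ n)).map (φ i n), ∀ hy : y ∈ LinearMap.ker (ψ (n + 1)),
          (⟨y, hy⟩ : LinearMap.ker (ψ (n + 1))) ∈ ⨆ i, LinearMap.range (φK i n) := by
        intro y hy
        induction hy using Submodule.iSup_induction' with
        | mem i y hy =>
          intro hy'
          obtain ⟨z, hz, rfl⟩ := hy
          induction i using Fin.lastCases with
          | last =>
            have : (⟨φ (Fin.last s) n z, hy'⟩ : LinearMap.ker (ψ (n + 1))) = 0 := by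
              apply Subtype.ext
              exact hz
            rw [this]; exact Submodule.zero_mem _
          | cast i =>
            refine (le_iSup (fun i => LinearMap.range (φK i n)) i) ?_
            exact ⟨⟨z, hz⟩, Subtype.ext (by simp [φK])⟩
        | zero => intro hy'; exact Submodule.zero_mem _
        | add y z hy1 hz1 hy hz =>
          intro hy'
          have hyk : y ∈ LinearMap.ker (ψ (n + 1)) := by
            have : ⨆ i, (LinearMap.ker (ψ n)).map (φ i n) ≤ LinearMap.ker (ψ (n + 1)) :=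
              iSup_le fun i => by
                rintro _ ⟨x, hx, rfl⟩
                exact hK1 i n x hx
            exact this hy1
          have hzk : z ∈ LinearMap.ker (ψ (n + 1)) := by
            have : ⨆ i, (LinearMap.ker (ψ n)).map (φ i n) ≤ LinearMap.ker (ψ (n + 1)) :=
              iSup_le fun i => by
                rintro _ ⟨x, hx, rfl⟩
                exact hK1 i n x hx
            exact this hz1
          have : (⟨y + z, hy'⟩ : LinearMap.ker (ψ (n + 1))) = ⟨y, hyk⟩ + ⟨z, hzk⟩ := rfl
          rw [this]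
          exact Submodule.add_mem _ (hy hyk) (hz hzk)
      exact key x hx' hx
    obtain ⟨cK, nK, hcK⟩ := ih (fun n => LinearMap.ker (ψ n)) φK hcommK hfinK hgenK
    obtain ⟨cC, nC, hcC⟩ := ih (fun n => N (n + 1) ⧸ LinearMap.range (ψ n)) φC hcommC hfinC hgenC
    obtain ⟨d, hd⟩ := bsum_summation s (fun n => ((Module.length A₀ (N n)).toNat : ℤ))
      (fun k => cC k - cK k) (max nK nC) (by
        intro n hn
        rw [bsum_sub, ← hcK n (le_trans (le_max_left _ _) hn),
          ← hcC n (le_trans (le_max_right _ _) hn)]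
        have h := length_ker_coker (ψ n)
        have e1 := ENat.natCast_toNat (Module.length_ne_top_iff.mpr (hfin n))
        have e2 := ENat.natCast_toNat (Module.length_ne_top_iff.mpr (hfin (n + 1)))
        have e3 := ENat.natCast_toNat (Module.length_ne_top_iff.mpr (hfinK n))
        have e4 := ENat.natCast_toNat (Module.length_ne_top_iff.mpr (hfinC n))
        rw [← e1, ← e2, ← e3, ← e4] at h
        have h' : (Module.length A₀ (N (n + 1))).toNat + (Module.length A₀ (LinearMap.ker (ψ n))).toNat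
            = (Module.length A₀ (N n)).toNat
              + (Module.length A₀ (N (n + 1) ⧸ LinearMap.range (ψ n))).toNat := by
          exact_mod_cast h
        omega)
    exact ⟨d, max nK nC, hd⟩

end HilbertSerre

end Groth.Agent.Lib.Helper1.HS
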