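import Groth.Agent.Lib.Helper1.HS1

namespace Groth.Agent.Lib.Helper1.HS

universe u

section Generic

variable {A : Type*} [CommRing A]

/-- Transport of generation along restriction. -/
lemma mem_iSup_range_restrict {ι : Type*} {M M' : Type*} [AddCommGroup M] [Module A M]
    [AddCommGroup M'] [Module A M'] (P : Submodule A M) (Q : Submodule A M')
    (f : ι → M →ₗ[A] M') (hf : ∀ i, ∀ x ∈ P, f i x ∈ Q) (y : M')
    (hy : y ∈ ⨆ i, P.map (f i)) (hyQ : y ∈ Q) :
    (⟨y, hyQ⟩ : Q) ∈ ⨆ i, LinearMap.range ((f i).restrict (hf i)) := by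
  have hle : ⨆ i, P.map (f i) ≤ Q := iSup_le fun i => by
    rintro _ ⟨z, hz, rfl⟩
    exact hf i z hz
  revert hyQ
  induction hy using Submodule.iSup_induction' with
  | mem i y hy =>
    intro hy'
    obtain ⟨z, hz, rfl⟩ := hy
    exact (le_iSup (fun i => LinearMap.range ((f i).restrict (hf i))) i) ⟨⟨z, hz⟩, Subtype.ext rfl⟩
  | zero => intro _; exact Submodule.zero_mem _
  | add y z hy1 hz1 hy hz =>
    intro hy'
    have : (⟨y + z, hy'⟩ : Q) = ⟨y, hle hy1⟩ + ⟨z, hle hz1⟩ := rfl
    rw [this]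
    exact Submodule.add_mem _ (hy _) (hz _)

/-- Additivity of length for a chain `P ≤ Q` of submodules. -/
lemma length_quotient_of_le {M : Type*} [AddCommGroup M] [Module A M] {P Q : Submodule A M}
    (h : P ≤ Q) :
    Module.length A (M ⧸ P) = Module.length A (↥Q ⧸ P.submoduleOf Q) + Module.length A (M ⧸ Q) := by
  refine Module.length_eq_add_of_exact
    (Submodule.mapQ (P.submoduleOf Q) P Q.subtype le_rfl) (Submodule.mapQ P Q LinearMap.id h)
    ?_ ?_ ?_
  · rw [← LinearMap.ker_eq_bot, Submodule.mapQ, Submodule.ker_liftQ, LinearMap.ker_comp,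
      Submodule.ker_mkQ]
    show Submodule.map (P.submoduleOf Q).mkQ (Submodule.comap Q.subtype P) = ⊥
    rw [Submodule.submoduleOf]
    simp
  · intro x
    obtain ⟨x, rfl⟩ := Submodule.mkQ_surjective _ x
    exact ⟨P.mkQ x, by simp⟩
  · rw [LinearMap.exact_iff]
    rw [Submodule.mapQ, Submodule.ker_liftQ, Submodule.mapQ, Submodule.range_liftQ,
      LinearMap.ker_comp, Submodule.ker_mkQ, LinearMap.range_comp, Submodule.range_subtype]
    simp

/-- Finite length propagates along a system generated in degree zero. -/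
lemma isFiniteLength_of_gen {s : ℕ} (N : ℕ → Type*) [∀ n, AddCommGroup (N n)]
    [∀ n, Module A (N n)] (φ : Fin s → ∀ n, N n →ₗ[A] N (n + 1))
    (h0 : IsFiniteLength A (N 0)) (hgen : ∀ n, ⨆ i, LinearMap.range (φ i n) = ⊤) :
    ∀ n, IsFiniteLength A (N n) := by
  intro n
  induction n with
  | zero => exact h0
  | succ n ih =>
    have hr : ∀ i, IsFiniteLength A (LinearMap.range (φ i n)) := fun i =>
      IsFiniteLength.of_surjective ih (φ i n).surjective_rangeRestrict
    have h1 : ∀ i, IsNoetherian A (LinearMap.range (φ i n)) := fun i =>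
      (isFiniteLength_iff_isNoetherian_isArtinian.mp (hr i)).1
    have h2 : ∀ i, IsArtinian A (LinearMap.range (φ i n)) := fun i =>
      (isFiniteLength_iff_isNoetherian_isArtinian.mp (hr i)).2
    have h3 : IsFiniteLength A ↥(⨆ i, LinearMap.range (φ i n)) :=
      isFiniteLength_iff_isNoetherian_isArtinian.mpr ⟨isNoetherian_iSup, isArtinian_iSup⟩
    rw [hgen n] at h3
    exact IsFiniteLength.of_surjective h3 (Submodule.topEquiv (R := A) (M := N (n + 1))).surjective

end Generic

section Gr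

variable {A : Type u} [CommRing A] (I : Ideal A) (M : Type u) [AddCommGroup M] [Module A M]

/-- The `I`-adic filtration. -/
def F (n : ℕ) : Submodule A M := I ^ n • ⊤

lemma F_succ_le (n : ℕ) : F I M (n + 1) ≤ F I M n :=
  Submodule.smul_mono_left (Ideal.pow_le_pow_right (Nat.le_succ n))

lemma F_succ (n : ℕ) : F I M (n + 1) = I • F I M n := by
  rw [F, F, pow_succ', mul_smul]

variable {I M} in
lemma smul_mem_F_succ {a : A} (ha : a ∈ I) {n : ℕ} {x : M} (hx : x ∈ F I M n) :
    a • x ∈ F I M (n + 1) := by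
  rw [F_succ]; exact Submodule.smul_mem_smul ha hx

/-- The graded pieces `IⁿM / Iⁿ⁺¹M`. -/
abbrev Gr (n : ℕ) : Type u := ↥(F I M n) ⧸ (F I M (n + 1)).submoduleOf (F I M n)

/-- Multiplication by an element of `I` on the filtration. -/
def mulF (a : A) (ha : a ∈ I) (n : ℕ) : F I M n →ₗ[A] F I M (n + 1) :=
  (LinearMap.lsmul A M a).restrict (fun _ hx => smul_mem_F_succ ha hx)

lemma coe_mulF (a : A) (ha : a ∈ I) (n : ℕ) (x : F I M n) :
    ((mulF I M a ha n x : F I M (n + 1)) : M) = a • (x : M) := rfl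

/-- Multiplication by an element of `I` on the graded pieces. -/
def mulGr (a : A) (ha : a ∈ I) (n : ℕ) : Gr I M n →ₗ[A] Gr I M (n + 1) :=
  Submodule.mapQ _ _ (mulF I M a ha n) (by
    intro x hx
    rw [Submodule.mem_comap]
    exact smul_mem_F_succ (n := n + 1) ha hx)

lemma mulGr_mk (a : A) (ha : a ∈ I) (n : ℕ) (x : F I M n) :
    mulGr I M a ha n (Submodule.Quotient.mk x) = Submodule.Quotient.mk (mulF I M a ha n x) := rfl

lemma mulGr_comm (a b : A) (ha : a ∈ I) (hb : b ∈ I) (n : ℕ) (x : Gr I M n) :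
    mulGr I M a ha (n + 1) (mulGr I M b hb n x) = mulGr I M b hb (n + 1) (mulGr I M a ha n x) := by
  obtain ⟨x, rfl⟩ := Submodule.mkQ_surjective _ x
  simp only [Submodule.mkQ_apply, mulGr_mk]
  congr 1
  apply Subtype.ext
  simp only [coe_mulF]
  exact smul_comm _ _ _

variable {s : ℕ} (g : Fin s → A)

lemma F_succ_le_iSup_map (hI : I = Ideal.span (Set.range g)) (n : ℕ) :
    F I M (n + 1) ≤ ⨆ i, (F I M n).map (LinearMap.lsmul A M (g i)) := by
  rw [F_succ]
  intro y hy
  refine Submodule.smul_induction_on hy ?_ (fun y z hy hz => Submodule.add_mem _ hy hz)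
  intro r hr x hx
  rw [hI] at hr
  revert x
  induction hr using Submodule.span_induction with
  | mem r hr =>
    obtain ⟨i, rfl⟩ := hr
    intro x hx
    exact (le_iSup (fun i => (F I M n).map (LinearMap.lsmul A M (g i))) i)
      (Submodule.mem_map_of_mem hx)
  | zero => intro x _; rw [zero_smul]; exact Submodule.zero_mem _
  | add r r' _ _ hr hr' =>
    intro x hx; rw [add_smul]; exact Submodule.add_mem _ (hr x hx) (hr' x hx)
  | smul c r _ hr =>
    intro x hx
    rw [smul_eq_mul, mul_comm, mul_smul]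
    exact hr _ (Submodule.smul_mem _ _ hx)

lemma gen_Gr (hI : I = Ideal.span (Set.range g)) (hg : ∀ i, g i ∈ I) (n : ℕ) :
    ⨆ i, LinearMap.range (mulGr I M (g i) (hg i) n) = ⊤ := by
  rw [eq_top_iff]
  rintro x -
  obtain ⟨⟨y, hy⟩, rfl⟩ := Submodule.mkQ_surjective _ x
  have h1 := mem_iSup_range_restrict (F I M n) (F I M (n + 1))
    (fun i => LinearMap.lsmul A M (g i)) (fun i _ hx => smul_mem_F_succ (hg i) hx) y
    (F_succ_le_iSup_map I M g hI n hy) hy
  have h2 : (⨆ i, LinearMap.range ((LinearMap.lsmul A M (g i)).restrict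
      (fun _ hx => smul_mem_F_succ (n := n) (hg i) hx))).map
      ((F I M (n + 1 + 1)).submoduleOf (F I M (n + 1))).mkQ
      ≤ ⨆ i, LinearMap.range (mulGr I M (g i) (hg i) n) := by
    rw [Submodule.map_iSup]
    refine iSup_mono fun i => ?_
    rintro _ ⟨_, ⟨z, rfl⟩, rfl⟩
    exact ⟨Submodule.Quotient.mk z, rfl⟩
  exact h2 (Submodule.mem_map_of_mem h1)

lemma isFiniteLength_Gr (hI : I = Ideal.span (Set.range g))
    (h : IsFiniteLength A (M ⧸ (I • ⊤ : Submodule A M))) (n : ℕ) : IsFiniteLength A (Gr I M n) := by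
  have hg : ∀ i, g i ∈ I := fun i => by rw [hI]; exact Ideal.subset_span ⟨i, rfl⟩
  refine isFiniteLength_of_gen (fun n => Gr I M n) (fun i n => mulGr I M (g i) (hg i) n) ?_
    (gen_Gr I M g hI hg) n
  have h1 := length_quotient_of_le (F_succ_le I M 0)
  have h2 : Module.length A (M ⧸ F I M (0 + 1)) ≠ ⊤ := by
    rw [F, zero_add, pow_one]; exact Module.length_ne_top_iff.mpr h
  rw [← Module.length_ne_top_iff]
  intro h3
  rw [h1, h3, top_add] at h2
  exact h2 rfl

/-- Finite length of all `M/IⁿM`. -/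
lemma isFiniteLength_quotient_F (hI : I = Ideal.span (Set.range g))
    (h : IsFiniteLength A (M ⧸ (I • ⊤ : Submodule A M))) (n : ℕ) :
    IsFiniteLength A (M ⧸ F I M n) := by
  induction n with
  | zero =>
    have : F I M 0 = ⊤ := by rw [F, pow_zero, Ideal.one_eq_top, Submodule.top_smul]
    rw [this]
    exact IsFiniteLength.of_subsingleton
  | succ n ih =>
    rw [← Module.length_ne_top_iff, length_quotient_of_le (F_succ_le I M n)]
    exact WithTop.add_ne_top.mpr ⟨Module.length_ne_top_iff.mpr (isFiniteLength_Gr I M g hI h n),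
      Module.length_ne_top_iff.mpr ih⟩

/-- **Hilbert–Samuel**, binomial form, for the graded pieces. -/
theorem hilbertSamuel_gr [IsNoetherianRing A] (hI : I = Ideal.span (Set.range g))
    (h : IsFiniteLength A (M ⧸ (I • ⊤ : Submodule A M))) :
    ∃ c : ℕ → ℤ, ∃ n₁, ∀ n, n₁ ≤ n →
      ((Module.length A (Gr I M n)).toNat : ℤ) = bsum s c n := by
  have hg : ∀ i, g i ∈ I := fun i => by rw [hI]; exact Ideal.subset_span ⟨i, rfl⟩
  exact hilbertSerre s (fun n => Gr I M n) (fun i n => mulGr I M (g i) (hg i) n)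
    (fun i j n x => mulGr_comm I M _ _ _ _ n x) (isFiniteLength_Gr I M g hI h)
    ⟨0, fun n _ => gen_Gr I M g hI hg n⟩

/-- **Hilbert–Samuel**, binomial form. -/
theorem hilbertSamuel_bsum [IsNoetherianRing A] (hI : I = Ideal.span (Set.range g))
    (h : IsFiniteLength A (M ⧸ (I • ⊤ : Submodule A M))) :
    ∃ d : ℕ → ℤ, ∃ n₁, ∀ n, n₁ ≤ n →
      ((Module.length A (M ⧸ (I ^ n • ⊤ : Submodule A M))).toNat : ℤ) = bsum (s + 1) d n := by
  obtain ⟨c, n₁, hc⟩ := hilbertSamuel_gr I M g hI h
  obtain ⟨d, hd⟩ := bsum_summation s (fun n => ((Module.length A (M ⧸ F I M n)).toNat : ℤ)) c n₁ (by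
    intro n hn
    rw [← hc n hn]
    have h1 := length_quotient_of_le (F_succ_le I M n)
    have e1 := ENat.natCast_toNat (Module.length_ne_top_iff.mpr (isFiniteLength_quotient_F I M g hI h n))
    have e2 := ENat.natCast_toNat
      (Module.length_ne_top_iff.mpr (isFiniteLength_quotient_F I M g hI h (n + 1)))
    have e3 := ENat.natCast_toNat (Module.length_ne_top_iff.mpr (isFiniteLength_Gr I M g hI h n))
    rw [← e1, ← e2, ← e3] at h1
    have h' : (Module.length A (M ⧸ F I M (n + 1))).toNat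
        = (Module.length A (Gr I M n)).toNat + (Module.length A (M ⧸ F I M n)).toNat := by
      exact_mod_cast h1
    omega)
  exact ⟨d, n₁, hd⟩

end Gr

end Groth.Agent.Lib.Helper1.HS
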