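import Groth.Agent.Lib.Helper1.HS2

namespace Groth.Agent.Lib.Helper1.HS

universe u

open Polynomial Filter

section Poly

/-- The polynomial attached to a binomial sum. -/
noncomputable def bpoly (s : ℕ) (c : ℕ → ℤ) : ℚ[X] :=
  ∑ k ∈ Finset.range s, (c k : ℚ) • preHilbertPoly ℚ k 0

lemma eval_bpoly (s : ℕ) (c : ℕ → ℤ) (n : ℕ) : (bpoly s c).eval (n : ℚ) = (bsum s c n : ℚ) := by
  simp only [bpoly, bsum, eval_finsetSum, eval_smul, smul_eq_mul, Int.cast_sum, Int.cast_mul,
    Int.cast_natCast]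
  refine Finset.sum_congr rfl fun k _ => ?_
  rw [preHilbertPoly_eq_choose_sub_add ℚ k (Nat.zero_le n), Nat.sub_zero]

lemma natDegree_bpoly_le (s : ℕ) (c : ℕ → ℤ) : (bpoly (s + 1) c).natDegree ≤ s := by
  refine natDegree_sum_le_of_forall_le _ _ fun k hk => ?_
  refine (natDegree_smul_le _ _).trans ?_
  rw [natDegree_preHilbertPoly]
  exact Nat.lt_succ_iff.mp (Finset.mem_range.mp hk)

/-- Eventual domination on the naturals bounds the degree. -/
lemma natDegree_le_of_eventually_le (P Q : ℚ[X])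
    (h : ∃ n₁ : ℕ, ∀ n : ℕ, n₁ ≤ n → 0 ≤ P.eval (n : ℚ) ∧ P.eval (n : ℚ) ≤ Q.eval (n : ℚ)) :
    P.natDegree ≤ Q.natDegree := by
  by_contra hlt
  rw [not_le] at hlt
  obtain ⟨n₁, h⟩ := h
  have hP0 : P ≠ 0 := by rintro rfl; simp at hlt
  have hdegP : 0 < P.degree := by
    rw [← natDegree_pos_iff_degree_pos]; omega
  have hcast : Tendsto (fun n : ℕ => (n : ℚ)) atTop atTop := tendsto_natCast_atTop_atTop
  rcases lt_or_gt_of_ne (leadingCoeff_ne_zero.mpr hP0) with hneg | hpos
  · have h1 := (P.tendsto_atBot_of_leadingCoeff_nonpos hdegP hneg.le).comp hcast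
    have h2 := (h1.eventually (eventually_lt_atBot (0 : ℚ))).and (eventually_ge_atTop n₁)
    obtain ⟨n, hn1, hn2⟩ := h2.exists
    exact absurd (h n hn2).1 (not_le.mpr hn1)
  · have hdeg : (P - Q).degree = P.degree := degree_sub_eq_left_of_degree_lt (degree_lt_degree hlt)
    have hlc : (P - Q).leadingCoeff = P.leadingCoeff :=
      leadingCoeff_sub_of_degree_lt (degree_lt_degree hlt)
    have h1 := ((P - Q).tendsto_atTop_of_leadingCoeff_nonneg (by rw [hdeg]; exact hdegP)
      (by rw [hlc]; exact hpos.le)).comp hcast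
    have h2 := (h1.eventually (eventually_gt_atTop (0 : ℚ))).and (eventually_ge_atTop n₁)
    obtain ⟨n, hn1, hn2⟩ := h2.exists
    have := (h n hn2).2
    simp only [Function.comp_apply, eval_sub] at hn1
    linarith

lemma natDegree_taylor_sub_le (P : ℚ[X]) (r : ℚ) : (taylor r P - P).natDegree ≤ P.natDegree - 1 := by
  by_cases hP : P = 0
  · subst hP; simp
  by_cases h0 : taylor r P - P = 0
  · rw [h0]; simp
  have hlt : (taylor r P - P).degree < (taylor r P).degree :=
    degree_sub_lt_left (degree_taylor P r) (by simpa using hP) (leadingCoeff_taylor ..)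
  rw [degree_taylor] at hlt
  have := natDegree_lt_natDegree h0 hlt
  omega

/-- Two polynomials agreeing at all large naturals are equal. -/
lemma eq_of_eventually_eval_eq (P Q : ℚ[X])
    (h : ∃ n₁ : ℕ, ∀ n : ℕ, n₁ ≤ n → P.eval (n : ℚ) = Q.eval (n : ℚ)) : P = Q := by
  obtain ⟨n₁, h⟩ := h
  refine Polynomial.eq_of_infinite_eval_eq P Q ?_
  refine Set.infinite_of_injective_forall_mem (f := fun n : ℕ => ((n + n₁ : ℕ) : ℚ)) ?_ ?_
  · intro a b hab
    simpa using hab
  · intro n
    exact h _ (Nat.le_add_left _ _)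

end Poly

section HSPoly

variable {A : Type u} [CommRing A]

/-- The Hilbert–Samuel function. -/
noncomputable def chi (I : Ideal A) (M : Type u) [AddCommGroup M] [Module A M] (n : ℕ) : ℕ :=
  (Module.length A (M ⧸ (I ^ n • ⊤ : Submodule A M))).toNat

/-- `P` is the Hilbert–Samuel polynomial of `M` with respect to `I`. -/
def IsHSPoly (I : Ideal A) (M : Type u) [AddCommGroup M] [Module A M] (P : ℚ[X]) : Prop :=
  ∃ n₁ : ℕ, ∀ n : ℕ, n₁ ≤ n → (chi I M n : ℚ) = P.eval (n : ℚ)

/-- The Hilbert–Samuel polynomial (zero if it does not exist). -/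
noncomputable def hsPoly (I : Ideal A) (M : Type u) [AddCommGroup M] [Module A M] : ℚ[X] :=
  open Classical in if h : ∃ P, IsHSPoly I M P then h.choose else 0

variable {I : Ideal A} {M : Type u} [AddCommGroup M] [Module A M]

lemma IsHSPoly.eq_hsPoly {P : ℚ[X]} (h : IsHSPoly I M P) : P = hsPoly I M := by
  have hex : ∃ P, IsHSPoly I M P := ⟨P, h⟩
  rw [hsPoly, dif_pos hex]
  obtain ⟨n₁, h₁⟩ := h
  obtain ⟨n₂, h₂⟩ := hex.choose_spec
  exact eq_of_eventually_eval_eq _ _ ⟨max n₁ n₂, fun n hn => by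
    rw [← h₁ n (le_trans (le_max_left _ _) hn), ← h₂ n (le_trans (le_max_right _ _) hn)]⟩

lemma IsHSPoly.hsPoly {P : ℚ[X]} (h : IsHSPoly I M P) : IsHSPoly I M (hsPoly I M) := by
  rw [← h.eq_hsPoly]; exact h

theorem exists_isHSPoly_of_span [IsNoetherianRing A] {s : ℕ} (g : Fin s → A)
    (hI : I = Ideal.span (Set.range g)) (h : IsFiniteLength A (M ⧸ (I • ⊤ : Submodule A M))) :
    ∃ P, IsHSPoly I M P ∧ P.natDegree ≤ s := by
  obtain ⟨d, n₁, hd⟩ := hilbertSamuel_bsum I M g hI h
  refine ⟨bpoly (s + 1) d, ⟨n₁, fun n hn => ?_⟩, natDegree_bpoly_le s d⟩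
  rw [eval_bpoly, ← hd n hn, chi]
  norm_cast

theorem isHSPoly_hsPoly [IsNoetherianRing A]
    (h : IsFiniteLength A (M ⧸ (I • ⊤ : Submodule A M))) : IsHSPoly I M (hsPoly I M) := by
  obtain ⟨s, g, hg⟩ := Submodule.fg_iff_exists_fin_generating_family.mp
    (IsNoetherian.noetherian I)
  obtain ⟨P, hP, -⟩ := exists_isHSPoly_of_span g hg.symm h
  exact hP.hsPoly

theorem natDegree_hsPoly_le_of_span [IsNoetherianRing A] {s : ℕ} (g : Fin s → A)
    (hI : I = Ideal.span (Set.range g)) (h : IsFiniteLength A (M ⧸ (I • ⊤ : Submodule A M))) :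
    (hsPoly I M).natDegree ≤ s := by
  obtain ⟨P, hP, hdeg⟩ := exists_isHSPoly_of_span g hI h
  rwa [← hP.eq_hsPoly]

lemma isFiniteLength_quotient_pow [IsNoetherianRing A]
    (h : IsFiniteLength A (M ⧸ (I • ⊤ : Submodule A M))) (n : ℕ) :
    IsFiniteLength A (M ⧸ (I ^ n • ⊤ : Submodule A M)) := by
  obtain ⟨s, g, hg⟩ := Submodule.fg_iff_exists_fin_generating_family.mp
    (IsNoetherian.noetherian I)
  exact isFiniteLength_quotient_F I M g hg.symm h n

lemma chi_cast [IsNoetherianRing A]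
    (h : IsFiniteLength A (M ⧸ (I • ⊤ : Submodule A M))) (n : ℕ) :
    (chi I M n : ℕ∞) = Module.length A (M ⧸ (I ^ n • ⊤ : Submodule A M)) :=
  ENat.natCast_toNat (Module.length_ne_top_iff.mpr (isFiniteLength_quotient_pow h n))

/-- `M/IM` has finite length as soon as `A/I` does and `M` is finite. -/
lemma isFiniteLength_quotient_smul_top [IsNoetherianRing A] (hI : IsFiniteLength A (A ⧸ I))
    (N : Type u) [AddCommGroup N] [Module A N] [Module.Finite A N] :
    IsFiniteLength A (N ⧸ (I • ⊤ : Submodule A N)) := by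
  have h1 : IsArtinian A (A ⧸ I) := (isFiniteLength_iff_isNoetherian_isArtinian.mp hI).2
  have h2 : IsArtinianRing (A ⧸ I) := isArtinian_of_tower A h1
  have h3 : Module.Finite (A ⧸ I) (N ⧸ (I • ⊤ : Submodule A N)) :=
    Module.Finite.of_restrictScalars_finite A _ _
  rw [← Module.length_ne_top_iff,
    Module.length_eq_of_surjective (R := A ⧸ I) (Ideal.Quotient.mk_surjective (I := I)),
    Module.length_ne_top_iff, isFiniteLength_iff_isNoetherian_isArtinian]
  exact ⟨inferInstance, inferInstance⟩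

end HSPoly

end Groth.Agent.Lib.Helper1.HS
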