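import Groth.Agent.Lib.Helper1.HS3

namespace Groth.Agent.Lib.Helper1.HS

universe u

open Polynomial Filter

section Compare

variable {A : Type u} [CommRing A]

lemma mapQ_injective_of_comap_eq {M N : Type*} [AddCommGroup M] [Module A M] [AddCommGroup N]
    [Module A N] (f : N →ₗ[A] M) (q : Submodule A M) :
    Function.Injective (Submodule.mapQ (q.comap f) q f le_rfl) := by
  rw [← LinearMap.ker_eq_bot, Submodule.mapQ, Submodule.ker_liftQ, LinearMap.ker_comp,
    Submodule.ker_mkQ]
  simp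

variable {I : Ideal A} {M N : Type u} [AddCommGroup M] [Module A M] [AddCommGroup N] [Module A N]

/-- (C1) monotonicity in the ideal. -/
lemma chi_le_of_le {J : Ideal A} (hJI : J ≤ I) (n : ℕ)
    (hfin : IsFiniteLength A (M ⧸ (J ^ n • ⊤ : Submodule A M))) : chi I M n ≤ chi J M n := by
  have hle : (J ^ n • ⊤ : Submodule A M) ≤ I ^ n • ⊤ :=
    Submodule.smul_mono_left (Ideal.pow_right_mono hJI n)
  refine ENat.toNat_le_toNat ?_ (Module.length_ne_top_iff.mpr hfin)
  exact Module.length_le_of_surjective (Submodule.mapQ _ _ LinearMap.id hle) (by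
    intro x
    obtain ⟨x, rfl⟩ := Submodule.mkQ_surjective _ x
    exact ⟨Submodule.Quotient.mk x, rfl⟩)

/-- Artin–Rees for an injective map. -/
lemma exists_comap_le [IsNoetherianRing A] [Module.Finite A M] (I : Ideal A) (f : N →ₗ[A] M)
    (hf : Function.Injective f) :
    ∃ c : ℕ, ∀ n : ℕ, (I ^ (n + c) • ⊤ : Submodule A M).comap f ≤ I ^ n • ⊤ := by
  obtain ⟨c, hc⟩ := Ideal.exists_pow_inf_eq_pow_smul I (LinearMap.range f)
  refine ⟨c, fun n y hy => ?_⟩
  have h1 : f y ∈ (I ^ (n + c) • ⊤ : Submodule A M) ⊓ LinearMap.range f :=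
    ⟨hy, LinearMap.mem_range_self f y⟩
  rw [hc (n + c) (Nat.le_add_left _ _), Nat.add_sub_cancel] at h1
  have h2 : I ^ n • (I ^ c • ⊤ ⊓ LinearMap.range f) ≤ (I ^ n • ⊤ : Submodule A N).map f := by
    rw [Submodule.map_smul'', Submodule.map_top]
    exact Submodule.smul_mono le_rfl inf_le_right
  obtain ⟨z, hz, hzy⟩ := h2 h1
  rwa [← hf hzy]

/-- (C2) comparison for submodules. -/
lemma exists_chi_le_of_injective [IsNoetherianRing A] [Module.Finite A M] (f : N →ₗ[A] M)
    (hf : Function.Injective f) (hfin : ∀ n, IsFiniteLength A (M ⧸ (I ^ n • ⊤ : Submodule A M))) :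
    ∃ c : ℕ, ∀ n : ℕ, chi I N n ≤ chi I M (n + c) := by
  obtain ⟨c, hc⟩ := exists_comap_le I f hf
  refine ⟨c, fun n => ?_⟩
  refine ENat.toNat_le_toNat ?_ (Module.length_ne_top_iff.mpr (hfin _))
  have h1 : Module.length A (N ⧸ (I ^ n • ⊤ : Submodule A N)) ≤
      Module.length A (N ⧸ (I ^ (n + c) • ⊤ : Submodule A M).comap f) :=
    Module.length_le_of_surjective (Submodule.mapQ _ _ LinearMap.id (hc n)) (by
      intro x
      obtain ⟨x, rfl⟩ := Submodule.mkQ_surjective _ x
      exact ⟨Submodule.Quotient.mk x, rfl⟩)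
  exact h1.trans (Module.length_le_of_injective _ (mapQ_injective_of_comap_eq f _))

/-- (C3) comparison for the quotient by a regular element. -/
lemma exists_chi_quotSMulTop_le [IsNoetherianRing A] [Module.Finite A N] (x : A)
    (hreg : IsSMulRegular N x) (hfin : ∀ n, IsFiniteLength A (N ⧸ (I ^ n • ⊤ : Submodule A N))) :
    ∃ c : ℕ, ∀ n : ℕ, chi I (QuotSMulTop x N) (n + c) + chi I N n ≤ chi I N (n + c) := by
  obtain ⟨c, hc⟩ := exists_comap_le I (LinearMap.lsmul A N x) hreg
  refine ⟨c, fun n => ?_⟩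
  set m := n + c with hm
  -- the projection
  have hπ : (I ^ m • ⊤ : Submodule A N) ≤
      (I ^ m • ⊤ : Submodule A (QuotSMulTop x N)).comap (Submodule.mkQ _) := by
    rw [← Submodule.map_le_iff_le_comap, Submodule.map_smul'']
    exact Submodule.smul_mono le_rfl le_top
  let π : (N ⧸ (I ^ m • ⊤ : Submodule A N)) →ₗ[A]
      (QuotSMulTop x N ⧸ (I ^ m • ⊤ : Submodule A (QuotSMulTop x N))) :=
    Submodule.mapQ _ _ (Submodule.mkQ _) hπ
  have hπs : Function.Surjective π := by
    intro y
    obtain ⟨y, rfl⟩ := Submodule.mkQ_surjective _ y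
    obtain ⟨y, rfl⟩ := Submodule.mkQ_surjective _ y
    exact ⟨Submodule.Quotient.mk y, rfl⟩
  have h1 := Module.length_eq_add_of_exact (LinearMap.ker π).subtype π
    (Submodule.subtype_injective _) hπs (LinearMap.exact_subtype_ker_map π)
  -- the multiplication map
  let ψ := Submodule.mapQ ((I ^ m • ⊤ : Submodule A N).comap (LinearMap.lsmul A N x)) _
    (LinearMap.lsmul A N x) le_rfl
  have hψ : Function.Injective ψ := mapQ_injective_of_comap_eq _ _
  have hψπ : ∀ y, ψ y ∈ LinearMap.ker π := by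
    intro y
    obtain ⟨y, rfl⟩ := Submodule.mkQ_surjective _ y
    rw [LinearMap.mem_ker]
    show Submodule.Quotient.mk (Submodule.Quotient.mk (x • y)) = 0
    have : (Submodule.Quotient.mk (x • y) : QuotSMulTop x N) = 0 := by
      rw [Submodule.Quotient.mk_eq_zero]
      exact Submodule.smul_mem_pointwise_smul _ _ _ Submodule.mem_top
    rw [this]; rfl
  have h2 : Module.length A (N ⧸ (I ^ m • ⊤ : Submodule A N).comap (LinearMap.lsmul A N x))
      ≤ Module.length A (LinearMap.ker π) :=
    Module.length_le_of_injective (LinearMap.codRestrict (LinearMap.ker π) ψ hψπ)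
      (fun a b hab => hψ (by simpa using congrArg Subtype.val hab))
  have h3 : Module.length A (N ⧸ (I ^ n • ⊤ : Submodule A N)) ≤
      Module.length A (N ⧸ (I ^ m • ⊤ : Submodule A N).comap (LinearMap.lsmul A N x)) :=
    Module.length_le_of_surjective (Submodule.mapQ _ _ LinearMap.id (hc n)) (by
      intro y
      obtain ⟨y, rfl⟩ := Submodule.mkQ_surjective _ y
      exact ⟨Submodule.Quotient.mk y, rfl⟩)
  have h4 : Module.length A (QuotSMulTop x N ⧸ (I ^ m • ⊤ : Submodule A (QuotSMulTop x N)))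
      + Module.length A (N ⧸ (I ^ n • ⊤ : Submodule A N))
      ≤ Module.length A (N ⧸ (I ^ m • ⊤ : Submodule A N)) := by
    rw [h1, add_comm]
    exact add_le_add_left (h3.trans h2) _
  have hne := Module.length_ne_top_iff.mpr (hfin m)
  have h5 := ENat.toNat_le_toNat h4 hne
  rwa [ENat.toNat_add (fun h => hne (top_le_iff.mp (h ▸ le_self_add.trans h4)))
    (fun h => hne (top_le_iff.mp (h ▸ le_add_self.trans h4)))] at h5

end Compare

end Groth.Agent.Lib.Helper1.HS
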