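import Groth.Agent.Lib.Helper1.HS4
import Groth.Agent.Lib.Helper6.SemiLocalDim

namespace Groth.Agent.Lib.Helper1.HS

universe u

open Polynomial Filter Module

section Degree

variable {A : Type u} [CommRing A] [IsNoetherianRing A] {I : Ideal A}
  {M N : Type u} [AddCommGroup M] [Module A M] [AddCommGroup N] [Module A N]

/-- (P1) -/
lemma natDegree_hsPoly_le_of_le {J : Ideal A} (hJI : J ≤ I)
    (hI : IsFiniteLength A (M ⧸ (I • ⊤ : Submodule A M)))
    (hJ : IsFiniteLength A (M ⧸ (J • ⊤ : Submodule A M))) :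
    (hsPoly I M).natDegree ≤ (hsPoly J M).natDegree := by
  obtain ⟨n₁, h₁⟩ := isHSPoly_hsPoly hI
  obtain ⟨n₂, h₂⟩ := isHSPoly_hsPoly hJ
  refine natDegree_le_of_eventually_le _ _ ⟨max n₁ n₂, fun n hn => ?_⟩
  rw [← h₁ n (le_trans (le_max_left _ _) hn), ← h₂ n (le_trans (le_max_right _ _) hn)]
  exact ⟨Nat.cast_nonneg _, by exact_mod_cast chi_le_of_le hJI n (isFiniteLength_quotient_pow hJ n)⟩

/-- (P2) -/
lemma natDegree_hsPoly_le_of_injective [Module.Finite A M] (f : N →ₗ[A] M)
    (hf : Function.Injective f)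
    (hM : IsFiniteLength A (M ⧸ (I • ⊤ : Submodule A M)))
    (hN : IsFiniteLength A (N ⧸ (I • ⊤ : Submodule A N))) :
    (hsPoly I N).natDegree ≤ (hsPoly I M).natDegree := by
  obtain ⟨n₁, h₁⟩ := isHSPoly_hsPoly hM
  obtain ⟨n₂, h₂⟩ := isHSPoly_hsPoly hN
  obtain ⟨c, hc⟩ := exists_chi_le_of_injective f hf (isFiniteLength_quotient_pow hM)
  rw [← natDegree_taylor (hsPoly I M) (c : ℚ)]
  refine natDegree_le_of_eventually_le _ _ ⟨max n₁ n₂, fun n hn => ?_⟩
  rw [taylor_eval, ← h₂ n (le_trans (le_max_right _ _) hn)]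
  have := h₁ (n + c) (le_trans (le_trans (le_max_left _ _) hn) (Nat.le_add_right _ _))
  rw [Nat.cast_add] at this
  rw [← this]
  exact ⟨Nat.cast_nonneg _, by exact_mod_cast hc n⟩

/-- (P3) -/
lemma natDegree_hsPoly_quotSMulTop_le [Module.Finite A N] (x : A) (hreg : IsSMulRegular N x)
    (hN : IsFiniteLength A (N ⧸ (I • ⊤ : Submodule A N)))
    (hN' : IsFiniteLength A (QuotSMulTop x N ⧸ (I • ⊤ : Submodule A (QuotSMulTop x N)))) :
    (hsPoly I (QuotSMulTop x N)).natDegree ≤ (hsPoly I N).natDegree - 1 := by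
  obtain ⟨n₁, h₁⟩ := isHSPoly_hsPoly hN
  obtain ⟨n₂, h₂⟩ := isHSPoly_hsPoly hN'
  obtain ⟨c, hc⟩ := exists_chi_quotSMulTop_le x hreg (isFiniteLength_quotient_pow hN)
  rw [← natDegree_taylor (hsPoly I (QuotSMulTop x N)) (c : ℚ)]
  refine le_trans ?_ (natDegree_taylor_sub_le (hsPoly I N) (c : ℚ))
  refine natDegree_le_of_eventually_le _ _ ⟨max n₁ n₂, fun n hn => ?_⟩
  rw [taylor_eval, eval_sub, taylor_eval, ← h₁ n (le_trans (le_max_left _ _) hn)]
  have e1 := h₁ (n + c) (le_trans (le_trans (le_max_left _ _) hn) (Nat.le_add_right _ _))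
  have e2 := h₂ (n + c) (le_trans (le_trans (le_max_right _ _) hn) (Nat.le_add_right _ _))
  rw [Nat.cast_add] at e1 e2
  rw [← e1, ← e2]
  refine ⟨Nat.cast_nonneg _, ?_⟩
  have := hc n
  rw [le_sub_iff_add_le]
  exact_mod_cast this

/-- (L5) degree zero forces finite length. -/
lemma isFiniteLength_of_natDegree_hsPoly_eq_zero [Module.Finite A M] (hIr : I ≤ Ring.jacobson A)
    (hM : IsFiniteLength A (M ⧸ (I • ⊤ : Submodule A M)))
    (hdeg : (hsPoly I M).natDegree = 0) : IsFiniteLength A M := by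
  obtain ⟨n₁, h₁⟩ := isHSPoly_hsPoly hM
  rw [eq_C_of_natDegree_eq_zero hdeg] at h₁
  simp only [eval_C] at h₁
  have h2 : chi I M (n₁ + 1) = chi I M n₁ := by
    have := (h₁ (n₁ + 1) (Nat.le_succ _)).trans (h₁ n₁ le_rfl).symm
    exact_mod_cast this
  have h3 := length_quotient_of_le (F_succ_le I M n₁)
  have e1 := chi_cast hM n₁
  have e2 := chi_cast hM (n₁ + 1)
  rw [F, F, ← e1, ← e2, h2] at h3
  have h4 : Module.length A (Gr I M n₁) = 0 := by
    by_contra hne
    have hpos : 0 < Module.length A (Gr I M n₁) := pos_iff_ne_zero.mpr hne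
    have : (chi I M n₁ : ℕ∞) < Module.length A (Gr I M n₁) + (chi I M n₁ : ℕ∞) :=
      ENat.lt_add_left (ENat.natCast_ne_top _) hpos
    exact absurd h3 this.ne
  have h5 : Subsingleton (Gr I M n₁) := Module.length_eq_zero_iff.mp h4
  have h6 : F I M n₁ ≤ F I M (n₁ + 1) := by
    rw [Submodule.Quotient.subsingleton_iff, Submodule.submoduleOf_eq_top] at h5
    exact h5
  have h7 : F I M n₁ = ⊥ := by
    refine Submodule.eq_bot_of_le_smul_of_le_jacobson_bot I _ (IsNoetherian.noetherian _) ?_ ?_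
    · rw [← F_succ]; exact h6
    · rw [Ideal.jacobson_bot]; exact hIr
  have h8 := isFiniteLength_quotient_pow hM n₁
  rw [show (I ^ n₁ • ⊤ : Submodule A M) = ⊥ from h7] at h8
  exact (Submodule.quotEquivOfEqBot (⊥ : Submodule A M) rfl).isFiniteLength h8

/-- (L6) the dimension is bounded by the degree of the Hilbert–Samuel polynomial. -/
theorem supportDim_le_of_natDegree_hsPoly_le (hI : IsFiniteLength A (A ⧸ I))
    (hIr : I ≤ Ring.jacobson A) (d : ℕ) :
    ∀ (M : Type u) [AddCommGroup M] [Module A M] [Module.Finite A M],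
      (hsPoly I M).natDegree ≤ d → supportDim A M ≤ d := by
  induction d with
  | zero =>
    intro M _ _ _ hdeg
    have := isFiniteLength_of_natDegree_hsPoly_eq_zero hIr
      (isFiniteLength_quotient_smul_top hI M) (Nat.le_zero.mp hdeg)
    exact_mod_cast (Groth.Agent.H6.SLD.isFiniteLength_iff_supportDim_le_zero A M).mp this
  | succ d ih =>
    intro M _ _ _ hdeg
    refine iSup_le_iff.mpr (fun p => ?_)
    by_cases hp0 : p.length = 0
    · rw [hp0]; exact_mod_cast (Nat.zero_le (d + 1))
    -- the minimal prime below the head of the chain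
    have hhead : Module.annihilator A M ≤ p.head.1.asIdeal :=
      Module.mem_support_iff_of_finite.mp p.head.2
    obtain ⟨q, hqmin, hq⟩ := Ideal.exists_minimalPrimes_le hhead
    have hqprime : q.IsPrime := hqmin.1.1
    have hqass : q ∈ associatedPrimes A M :=
      Module.associatedPrimes.minimalPrimes_annihilator_subset_associatedPrimes A M hqmin
    obtain ⟨-, f, hf⟩ := (isAssociatedPrime_iff_exists_injective_linearMap q M).mp hqass
    have hdN : (hsPoly I (A ⧸ q)).natDegree ≤ d + 1 :=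
      (natDegree_hsPoly_le_of_injective f hf (isFiniteLength_quotient_smul_top hI M)
        (isFiniteLength_quotient_smul_top hI (A ⧸ q))).trans hdeg
    -- the second prime of the chain
    have h1lt : 1 < p.length + 1 := by omega
    have hlt : p.head < p ⟨1, h1lt⟩ := p.strictMono (by
      rw [Fin.lt_def]; simp [RelSeries.head])
    have hq1 : q < (p ⟨1, h1lt⟩).1.asIdeal := lt_of_le_of_lt hq hlt
    obtain ⟨x, hx1, hxq⟩ := SetLike.exists_of_lt hq1
    have hreg : IsSMulRegular (A ⧸ q) x := by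
      have hdom : IsDomain (A ⧸ q) := Ideal.Quotient.isDomain q
      have hx0 : (Ideal.Quotient.mk q x) ≠ 0 := by rwa [Ne, Ideal.Quotient.eq_zero_iff_mem]
      intro a b hab
      have h : Ideal.Quotient.mk q x * a = Ideal.Quotient.mk q x * b := by
        simpa [Algebra.smul_def] using hab
      exact mul_left_cancel₀ hx0 h
    have hdN' : (hsPoly I (QuotSMulTop x (A ⧸ q))).natDegree ≤ d :=
      (natDegree_hsPoly_quotSMulTop_le x hreg (isFiniteLength_quotient_smul_top hI _)
        (isFiniteLength_quotient_smul_top hI _)).trans (by omega)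
    have hdim := ih (QuotSMulTop x (A ⧸ q)) hdN'
    -- the shifted chain
    let q' : LTSeries (Module.support A (QuotSMulTop x (A ⧸ q))) :=
      LTSeries.mk (p.length - 1)
        (fun i => ⟨(p ⟨i.1 + 1, by have := i.2; omega⟩).1, by
          have hmono : p ⟨1, h1lt⟩ ≤ p ⟨i.1 + 1, by have := i.2; omega⟩ :=
            p.monotone (by rw [Fin.le_def]; simp)
          rw [Module.support_quotSMulTop]
          refine ⟨?_, ?_⟩
          · rw [Module.mem_support_iff_of_finite, Ideal.annihilator_quotient]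
            exact hq1.le.trans hmono
          · rw [PrimeSpectrum.mem_zeroLocus, Set.singleton_subset_iff]
            exact hmono hx1⟩)
        (fun i j hij => p.strictMono (by rw [Fin.lt_def] at hij ⊢; simpa using hij))
    have hlen : (q'.length : WithBot ℕ∞) ≤ d :=
      (le_iSup (fun q : LTSeries (Module.support A (QuotSMulTop x (A ⧸ q))) =>
        (q.length : WithBot ℕ∞)) q').trans hdim
    have hlen' : p.length - 1 ≤ d := by exact_mod_cast hlen
    have : p.length ≤ d + 1 := by omega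
    exact_mod_cast this

end Degree

end Groth.Agent.Lib.Helper1.HS
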