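import Groth.Agent.Lib.Helper1.HS5

namespace Groth.Agent.Lib.Helper1.HS

universe u

open Polynomial Filter Module

section Exact

variable {A : Type u} [CommRing A] {I : Ideal A}
  {M' M M'' : Type u} [AddCommGroup M'] [Module A M'] [AddCommGroup M] [Module A M]
  [AddCommGroup M''] [Module A M'']

lemma pow_smul_top_le_comap (f : M' →ₗ[A] M) (t : ℕ) :
    (I ^ t • ⊤ : Submodule A M') ≤ (I ^ t • ⊤ : Submodule A M).comap f := by
  rw [← Submodule.map_le_iff_le_comap, Submodule.map_smul'']
  exact Submodule.smul_mono le_rfl le_top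

/-- Sandwich for the Hilbert–Samuel function of the middle term of a short exact sequence. -/
lemma exists_chi_exact [IsNoetherianRing A] [Module.Finite A M] (f : M' →ₗ[A] M) (g : M →ₗ[A] M'')
    (hf : Function.Injective f) (hg : Function.Surjective g)
    (hfg : LinearMap.range f = LinearMap.ker g)
    (hfin : ∀ n, IsFiniteLength A (M ⧸ (I ^ n • ⊤ : Submodule A M)))
    (hfin' : ∀ n, IsFiniteLength A (M' ⧸ (I ^ n • ⊤ : Submodule A M')))
    (hfin'' : ∀ n, IsFiniteLength A (M'' ⧸ (I ^ n • ⊤ : Submodule A M''))) :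
    ∃ c : ℕ, ∀ t : ℕ, chi I M'' (t + c) + chi I M' t ≤ chi I M (t + c) ∧
      chi I M t ≤ chi I M'' t + chi I M' t := by
  obtain ⟨c, hc⟩ := exists_comap_le I f hf
  -- the basic exact sequence at level `m`
  have key : ∀ m : ℕ, ∃ K : Submodule A (M ⧸ (I ^ m • ⊤ : Submodule A M)),
      Module.length A (M ⧸ (I ^ m • ⊤ : Submodule A M)) =
        Module.length A K + Module.length A (M'' ⧸ (I ^ m • ⊤ : Submodule A M'')) ∧
      Module.length A K ≤ Module.length A (M' ⧸ (I ^ m • ⊤ : Submodule A M')) ∧
      Module.length A (M' ⧸ (I ^ m • ⊤ : Submodule A M).comap f) ≤ Module.length A K := by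
    intro m
    let gb : (M ⧸ (I ^ m • ⊤ : Submodule A M)) →ₗ[A] (M'' ⧸ (I ^ m • ⊤ : Submodule A M'')) :=
      Submodule.mapQ _ _ g (pow_smul_top_le_comap g m)
    have hgb : Function.Surjective gb := by
      intro y
      obtain ⟨y, rfl⟩ := Submodule.mkQ_surjective _ y
      obtain ⟨x, rfl⟩ := hg y
      exact ⟨Submodule.Quotient.mk x, rfl⟩
    let fb : (M' ⧸ (I ^ m • ⊤ : Submodule A M')) →ₗ[A] (M ⧸ (I ^ m • ⊤ : Submodule A M)) :=
      Submodule.mapQ _ _ f (pow_smul_top_le_comap f m)
    have hgf : ∀ y, g (f y) = 0 := fun y => by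
      have : f y ∈ LinearMap.ker g := by rw [← hfg]; exact LinearMap.mem_range_self f y
      exact this
    have hfbK : ∀ y, fb y ∈ LinearMap.ker gb := by
      intro y
      obtain ⟨y, rfl⟩ := Submodule.mkQ_surjective _ y
      rw [LinearMap.mem_ker]
      show Submodule.Quotient.mk (g (f y)) = 0
      rw [hgf, Submodule.Quotient.mk_zero]
    have hfbs : Function.Surjective (LinearMap.codRestrict (LinearMap.ker gb) fb hfbK) := by
      rintro ⟨x, hx⟩
      obtain ⟨x, rfl⟩ := Submodule.mkQ_surjective _ x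
      rw [LinearMap.mem_ker] at hx
      have hx' : g x ∈ (I ^ m • ⊤ : Submodule A M'') :=
        (Submodule.Quotient.mk_eq_zero _).mp hx
      have h1 : (I ^ m • ⊤ : Submodule A M'') = (I ^ m • ⊤ : Submodule A M).map g := by
        rw [Submodule.map_smul'', Submodule.map_top, LinearMap.range_eq_top.mpr hg]
      rw [h1] at hx'
      obtain ⟨x₁, hx₁, hx₁g⟩ := hx'
      have h2 : x - x₁ ∈ LinearMap.range f := by
        rw [hfg, LinearMap.mem_ker, map_sub, hx₁g, sub_self]
      obtain ⟨y, hy⟩ := h2
      refine ⟨Submodule.Quotient.mk y, Subtype.ext ?_⟩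
      show Submodule.Quotient.mk (f y) = Submodule.Quotient.mk x
      rw [hy, Submodule.Quotient.eq]
      simpa using Submodule.neg_mem _ hx₁
    let ψ := Submodule.mapQ ((I ^ m • ⊤ : Submodule A M).comap f) _ f le_rfl
    have hψ : Function.Injective ψ := mapQ_injective_of_comap_eq _ _
    have hψK : ∀ y, ψ y ∈ LinearMap.ker gb := by
      intro y
      obtain ⟨y, rfl⟩ := Submodule.mkQ_surjective _ y
      rw [LinearMap.mem_ker]
      show Submodule.Quotient.mk (g (f y)) = 0
      rw [hgf, Submodule.Quotient.mk_zero]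
    refine ⟨LinearMap.ker gb, ?_, ?_, ?_⟩
    · exact Module.length_eq_add_of_exact (LinearMap.ker gb).subtype gb
        (Submodule.subtype_injective _) hgb (LinearMap.exact_subtype_ker_map gb)
    · exact Module.length_le_of_surjective _ hfbs
    · exact Module.length_le_of_injective (LinearMap.codRestrict (LinearMap.ker gb) ψ hψK)
        (fun a b hab => hψ (by simpa using congrArg Subtype.val hab))
  refine ⟨c, fun t => ⟨?_, ?_⟩⟩
  · obtain ⟨K, h1, -, h3⟩ := key (t + c)
    have h4 : Module.length A (M' ⧸ (I ^ t • ⊤ : Submodule A M')) ≤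
        Module.length A (M' ⧸ (I ^ (t + c) • ⊤ : Submodule A M).comap f) :=
      Module.length_le_of_surjective (Submodule.mapQ _ _ LinearMap.id (hc t)) (by
        intro y
        obtain ⟨y, rfl⟩ := Submodule.mkQ_surjective _ y
        exact ⟨Submodule.Quotient.mk y, rfl⟩)
    have h5 : Module.length A (M'' ⧸ (I ^ (t + c) • ⊤ : Submodule A M''))
        + Module.length A (M' ⧸ (I ^ t • ⊤ : Submodule A M'))
        ≤ Module.length A (M ⧸ (I ^ (t + c) • ⊤ : Submodule A M)) := by
      rw [h1, add_comm]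
      exact add_le_add_left (h4.trans h3) _
    have hne := Module.length_ne_top_iff.mpr (hfin (t + c))
    have h6 := ENat.toNat_le_toNat h5 hne
    rwa [ENat.toNat_add (Module.length_ne_top_iff.mpr (hfin'' _))
      (Module.length_ne_top_iff.mpr (hfin' _))] at h6
  · obtain ⟨K, h1, h2, -⟩ := key t
    have h5 : Module.length A (M ⧸ (I ^ t • ⊤ : Submodule A M)) ≤
        Module.length A (M'' ⧸ (I ^ t • ⊤ : Submodule A M''))
        + Module.length A (M' ⧸ (I ^ t • ⊤ : Submodule A M')) := by
      rw [h1, add_comm]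
      exact add_le_add_right h2 _
    have hne : Module.length A (M'' ⧸ (I ^ t • ⊤ : Submodule A M''))
        + Module.length A (M' ⧸ (I ^ t • ⊤ : Submodule A M')) ≠ ⊤ :=
      WithTop.add_ne_top.mpr ⟨Module.length_ne_top_iff.mpr (hfin'' _),
        Module.length_ne_top_iff.mpr (hfin' _)⟩
    have h6 := ENat.toNat_le_toNat h5 hne
    rwa [ENat.toNat_add (Module.length_ne_top_iff.mpr (hfin'' _))
      (Module.length_ne_top_iff.mpr (hfin' _))] at h6

end Exact

section FiniteLength

variable {A : Type u} [CommRing A] [IsNoetherianRing A]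

/-- `A/I` has finite length when every prime over `I` is maximal. -/
lemma isFiniteLength_quotient_of_forall_isMaximal (I : Ideal A)
    (h : ∀ Q : Ideal A, Q.IsPrime → I ≤ Q → Q.IsMaximal) : IsFiniteLength A (A ⧸ I) := by
  rw [Groth.Agent.H6.SLD.isFiniteLength_iff_supportDim_le_zero,
    Module.supportDim_quotient_eq_ringKrullDim]
  have : Ring.KrullDimLE 0 (A ⧸ I) := by
    rw [Ring.krullDimLE_zero_iff]
    intro P hP
    have hsurj : Function.Surjective (Ideal.Quotient.mk I) := Ideal.Quotient.mk_surjective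
    have hQ : (P.comap (Ideal.Quotient.mk I)).IsMaximal := by
      refine h _ inferInstance ?_
      intro a ha
      rw [Ideal.mem_comap, Ideal.Quotient.eq_zero_iff_mem.mpr ha]
      exact P.zero_mem
    rw [← Ideal.map_comap_of_surjective _ hsurj P]
    refine (Ideal.map_eq_top_or_isMaximal_of_surjective _ hsurj hQ).resolve_left ?_
    rw [Ideal.map_comap_of_surjective _ hsurj P]
    exact hP.ne_top
  exact_mod_cast Ring.krullDimLE_iff.mp this

/-- Ideals of definition of a local ring have finite colength. -/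
lemma isFiniteLength_quotient_of_pow_le [IsLocalRing A] (I : Ideal A)
    (h : ∃ n : ℕ, IsLocalRing.maximalIdeal A ^ n ≤ I) : IsFiniteLength A (A ⧸ I) := by
  obtain ⟨n, hn⟩ := h
  refine isFiniteLength_quotient_of_forall_isMaximal I fun Q hQ hIQ => ?_
  have h1 : IsLocalRing.maximalIdeal A ≤ Q := hQ.le_of_pow_le (hn.trans hIQ)
  have h2 : Q = IsLocalRing.maximalIdeal A :=
    le_antisymm (IsLocalRing.le_maximalIdeal hQ.ne_top) h1
  rw [h2]; infer_instance

/-- The Jacobson radical of a semilocal ring has finite colength. -/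
lemma isFiniteLength_quotient_jacobson [Finite (MaximalSpectrum A)] :
    IsFiniteLength A (A ⧸ Ring.jacobson A) :=
  isFiniteLength_quotient_of_forall_isMaximal _ fun Q _ hQ =>
    Groth.Agent.H6.SLD.isMaximal_of_jacobson_le Q hQ

end FiniteLength

end Groth.Agent.Lib.Helper1.HS
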