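import Groth.Agent.Lib.Helper1.HS7
import Groth.Agent.Lib.Helper6.SkKit

namespace Groth.Agent.Lib.Helper1.HS

universe u

open Polynomial Filter Module

section LocalLength

variable {A : Type u} [CommRing A]

/-- Additivity of local lengths along a short exact sequence. -/
lemma length_localizedModule_of_exact {N₁ N₂ N₃ : Type u} [AddCommGroup N₁] [Module A N₁]
    [AddCommGroup N₂] [Module A N₂] [AddCommGroup N₃] [Module A N₃]
    (f : N₁ →ₗ[A] N₂) (g : N₂ →ₗ[A] N₃) (hf : Function.Injective f) (hg : Function.Surjective g)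
    (hfg : Function.Exact f g) (S : Submonoid A) :
    Module.length (Localization S) (LocalizedModule S N₂) =
      Module.length (Localization S) (LocalizedModule S N₁) +
        Module.length (Localization S) (LocalizedModule S N₃) :=
  Module.length_eq_add_of_exact (LocalizedModule.map S f) (LocalizedModule.map S g)
    (LocalizedModule.map_injective S f hf) (LocalizedModule.map_surjective S g hg)
    (LocalizedModule.map_exact S f g hfg)

/-- Finite length of the localization at a prime that is minimal in the support. -/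
lemma isFiniteLength_localizedModule [IsNoetherianRing A] (N : Type u) [AddCommGroup N]
    [Module A N] [Module.Finite A N] (p : Ideal A) [hp : p.IsPrime]
    (hmin : ∀ q : PrimeSpectrum A, q ∈ Module.support A N → q.asIdeal ≤ p → q.asIdeal = p) :
    IsFiniteLength (Localization.AtPrime p) (LocalizedModule p.primeCompl N) := by
  have hfin : Module.Finite (Localization.AtPrime p) (LocalizedModule p.primeCompl N) :=
    Module.Finite.of_isLocalizedModule p.primeCompl (LocalizedModule.mkLinearMap p.primeCompl N)
  rw [Groth.Agent.H6.SLD.isFiniteLength_iff_supportDim_le_zero]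
  refine iSup_le_iff.mpr (fun c => ?_)
  by_contra hlen
  have hpos : 0 < c.length := by
    by_contra h0
    apply hlen
    have : c.length = 0 := by omega
    rw [this]; rfl
  have hlt : c ⟨0, by omega⟩ < c ⟨1, by omega⟩ := c.strictMono (by rw [Fin.lt_def]; exact Nat.zero_lt_one)
  have key : ∀ Q : Module.support (Localization.AtPrime p) (LocalizedModule p.primeCompl N),
      (PrimeSpectrum.comap (algebraMap A (Localization.AtPrime p)) Q.1).asIdeal = p := by
    intro Q
    refine hmin _ ((Groth.Agent.H6.Sk.mem_support_localizedModule_iff N p Q.1).mp Q.2) ?_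
    have h1 : Q.1.asIdeal ≤ IsLocalRing.maximalIdeal (Localization.AtPrime p) :=
      IsLocalRing.le_maximalIdeal Q.1.2.ne_top
    have h2 := Ideal.comap_mono (f := algebraMap A (Localization.AtPrime p)) h1
    have h3 : Ideal.comap (algebraMap A (Localization.AtPrime p))
        (IsLocalRing.maximalIdeal (Localization.AtPrime p)) = p :=
      IsLocalization.AtPrime.under_maximalIdeal (Localization.AtPrime p) p
    rw [h3] at h2
    exact h2
  have heq : (c ⟨0, by omega⟩).1 = (c ⟨1, by omega⟩).1 := by
    apply PrimeSpectrum.localization_comap_injective (Localization.AtPrime p) p.primeCompl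
    ext1
    rw [key, key]
  exact hlt.ne (Subtype.ext heq)

/-- The localization of `A/q` at a prime not containing `q` vanishes. -/
lemma subsingleton_localizedModule_quotient (q p : Ideal A) [hp : p.IsPrime] (h : ¬ q ≤ p) :
    Subsingleton (LocalizedModule p.primeCompl (A ⧸ q)) := by
  have : (⟨p, hp⟩ : PrimeSpectrum A) ∉ Module.support A (A ⧸ q) := by
    rw [Module.mem_support_iff_of_finite, Ideal.annihilator_quotient]
    exact h
  exact Module.notMem_support_iff.mp this

/-- The localization of `A/q` at `q` has length one. -/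
lemma length_localizedModule_quotient_self (q : Ideal A) [hq : q.IsPrime] :
    Module.length (Localization.AtPrime q) (LocalizedModule q.primeCompl (A ⧸ q)) = 1 := by
  rw [Module.length_eq_one_iff, isSimpleModule_iff_toSpanSingleton_surjective]
  have hnt : Nontrivial (LocalizedModule q.primeCompl (A ⧸ q)) := by
    have : (⟨q, hq⟩ : PrimeSpectrum A) ∈ Module.support A (A ⧸ q) := by
      rw [Module.mem_support_iff_of_finite, Ideal.annihilator_quotient]
    exact Module.mem_support_iff.mp this
  refine ⟨hnt, ?_⟩
  set x₀ : LocalizedModule q.primeCompl (A ⧸ q) := LocalizedModule.mk 1 1 with hx₀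
  have hcyc : ∀ y : LocalizedModule q.primeCompl (A ⧸ q),
      ∃ ρ : Localization.AtPrime q, y = ρ • x₀ := by
    intro y
    induction y using LocalizedModule.induction_on with
    | h m s =>
      obtain ⟨a, rfl⟩ := Ideal.Quotient.mk_surjective m
      refine ⟨Localization.mk a s, ?_⟩
      rw [hx₀, LocalizedModule.mk_smul_mk, mul_one]
      congr 1
      rw [Algebra.smul_def, mul_one]; rfl
  have hkill : ∀ ρ ∈ IsLocalRing.maximalIdeal (Localization.AtPrime q), ρ • x₀ = 0 := by
    intro ρ hρ
    obtain ⟨a, s, rfl⟩ := IsLocalization.exists_mk'_eq q.primeCompl ρ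
    rw [IsLocalization.AtPrime.mk'_mem_maximal_iff (Localization.AtPrime q) q] at hρ
    rw [← Localization.mk_eq_mk', hx₀, LocalizedModule.mk_smul_mk]
    have : a • (1 : A ⧸ q) = 0 := by
      rw [Algebra.smul_def, mul_one]
      exact Ideal.Quotient.eq_zero_iff_mem.mpr hρ
    rw [this, LocalizedModule.zero_mk]
  intro x hx y
  obtain ⟨ρ, rfl⟩ := hcyc x
  obtain ⟨σ, rfl⟩ := hcyc y
  have hρ : IsUnit ρ := by
    by_contra hnu
    exact hx (hkill ρ ((IsLocalRing.mem_maximalIdeal ρ).mpr hnu))
  obtain ⟨u, rfl⟩ := hρ
  refine ⟨σ * ↑u⁻¹, ?_⟩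
  rw [LinearMap.toSpanSingleton_apply, smul_smul, mul_assoc, Units.inv_mul, mul_one]

end LocalLength

section DimFacts

variable {A : Type u} [CommRing A]

/-- `dim A/p + 1 ≤ dim A/q` for primes `q < p`. -/
lemma ringKrullDim_quotient_succ_le_of_lt (q p : Ideal A) [hq : q.IsPrime] (hqp : q < p) :
    ringKrullDim (A ⧸ p) + 1 ≤ ringKrullDim (A ⧸ q) := by
  obtain ⟨x, hxp, hxq⟩ := SetLike.exists_of_lt hqp
  have hdom : IsDomain (A ⧸ q) := Ideal.Quotient.isDomain q
  have hx0 : Ideal.Quotient.mk q x ≠ 0 := by rwa [Ne, Ideal.Quotient.eq_zero_iff_mem]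
  have h1 := ringKrullDim_quotient_succ_le_of_nonZeroDivisor
    (mem_nonZeroDivisors_of_ne_zero hx0)
  refine le_trans ?_ h1
  have hker : Ideal.span {Ideal.Quotient.mk q x} ≤
      RingHom.ker (Ideal.Quotient.factor hqp.le) := by
    rw [Ideal.span_le, Set.singleton_subset_iff, SetLike.mem_coe, RingHom.mem_ker,
      Ideal.Quotient.factor_mk]
    exact Ideal.Quotient.eq_zero_iff_mem.mpr hxp
  have hsurj : Function.Surjective (Ideal.Quotient.lift _ (Ideal.Quotient.factor hqp.le)
      (fun a ha => hker ha)) := by
    intro y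
    obtain ⟨a, rfl⟩ := Ideal.Quotient.mk_surjective y
    exact ⟨Ideal.Quotient.mk _ (Ideal.Quotient.mk q a), by simp⟩
  exact add_le_add_left (ringKrullDim_le_of_surjective _ hsurj) 1

/-- A local ring is semilocal. -/
lemma finite_maximalSpectrum_of_isLocalRing (O : Type*) [CommRing O] [IsLocalRing O] :
    Finite (MaximalSpectrum O) := by
  have : Subsingleton (MaximalSpectrum O) := by
    constructor
    intro a b
    ext1
    rw [IsLocalRing.eq_maximalIdeal a.isMaximal, IsLocalRing.eq_maximalIdeal b.isMaximal]
  infer_instance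

/-- **Degree = dimension** for an ideal of definition of a Noetherian local ring. -/
theorem natDegree_hsPoly_of_local [IsNoetherianRing A] [IsLocalRing A] (I : Ideal A)
    (hI : I ≤ IsLocalRing.maximalIdeal A ∧ ∃ n : ℕ, IsLocalRing.maximalIdeal A ^ n ≤ I)
    (N : Type u) [AddCommGroup N] [Module A N] [Module.Finite A N] [Nontrivial N] :
    ((hsPoly I N).natDegree : WithBot ℕ∞) = Module.supportDim A N := by
  have := finite_maximalSpectrum_of_isLocalRing A
  have hjac : Ring.jacobson A = IsLocalRing.maximalIdeal A := by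
    rw [← Ideal.jacobson_bot]
    exact IsLocalRing.jacobson_eq_maximalIdeal ⊥ bot_ne_top
  obtain ⟨n, hn⟩ := hI.2
  have hAI := isFiniteLength_quotient_of_pow_le I ⟨n, hn⟩
  rw [natDegree_hsPoly_eq_of_pow_le hI.1 hn N (isFiniteLength_quotient_smul_top hAI N), ← hjac]
  exact natDegree_hsPoly_jacobson N

end DimFacts

end Groth.Agent.Lib.Helper1.HS
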