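import Groth.Agent.Lib.Helper1.HS8

namespace Groth.Agent.Lib.Helper1.HS

universe u

open Polynomial Filter Module

section Reduction

variable {A : Type*} [CommRing A]

/-- One step: adjoining an integral element. -/
lemma pow_le_mul_pow_of_integral (b I : Ideal A) (hbI : b ≤ I) (x : A) (n : ℕ) (hn : 1 ≤ n)
    (hx : x ^ n ∈ b * (I ⊔ Ideal.span {x}) ^ (n - 1)) :
    (I ⊔ Ideal.span {x}) ^ n ≤ I * (I ⊔ Ideal.span {x}) ^ (n - 1) := by
  set K := I ⊔ Ideal.span {x} with hK
  have hxK : x ∈ K := Ideal.mem_sup_right (Ideal.mem_span_singleton_self x)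
  have key : ∀ k : ℕ, K ^ (k + 1) ≤ I * K ^ k ⊔ Ideal.span {x ^ (k + 1)} := by
    intro k
    induction k with
    | zero => simp [hK]
    | succ k ih =>
      calc K ^ (k + 1 + 1) = K * K ^ (k + 1) := pow_succ' K (k + 1)
        _ ≤ K * (I * K ^ k ⊔ Ideal.span {x ^ (k + 1)}) := Ideal.mul_mono_right ih
        _ = K * (I * K ^ k) ⊔ K * Ideal.span {x ^ (k + 1)} := Ideal.mul_sup _ _ _
        _ ≤ I * K ^ (k + 1) ⊔ Ideal.span {x ^ (k + 1 + 1)} := by
          refine sup_le ?_ ?_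
          · refine le_sup_of_le_left ?_
            rw [← mul_assoc, mul_comm K I, mul_assoc, ← pow_succ']
          · rw [hK, Ideal.sup_mul]
            refine sup_le ?_ ?_
            · refine le_sup_of_le_left ?_
              refine Ideal.mul_mono_right ?_
              rw [Ideal.span_singleton_le_iff_mem]
              exact Ideal.pow_mem_pow hxK _
            · refine le_sup_of_le_right ?_
              rw [Ideal.span_singleton_mul_span_singleton, ← pow_succ']
  obtain ⟨k, rfl⟩ : ∃ k, n = k + 1 := ⟨n - 1, by omega⟩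
  rw [Nat.add_sub_cancel] at hx ⊢
  refine (key k).trans (sup_le le_rfl ?_)
  rw [Ideal.span_singleton_le_iff_mem]
  exact Ideal.mul_mono_left hbI hx

/-- Iterating a reduction relation. -/
lemma pow_add_le_pow_mul_pow (I K : Ideal A) (k : ℕ) (h : K ^ (k + 1) ≤ I * K ^ k) (j : ℕ) :
    K ^ (k + j) ≤ I ^ j * K ^ k := by
  induction j with
  | zero => simp
  | succ j ih =>
    calc K ^ (k + (j + 1)) = K ^ (k + j) * K := by rw [← add_assoc, pow_succ]
      _ ≤ I ^ j * K ^ k * K := Ideal.mul_mono_left ih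
      _ = I ^ j * K ^ (k + 1) := by rw [mul_assoc, ← pow_succ]
      _ ≤ I ^ j * (I * K ^ k) := Ideal.mul_mono_right h
      _ = I ^ (j + 1) * K ^ k := by rw [← mul_assoc, ← pow_succ]

/-- Transitivity of reductions. -/
lemma reduction_trans (b I K : Ideal A) (hIK : I ≤ K) (r k : ℕ) (h1 : I ^ (r + 1) ≤ b * I ^ r)
    (h2 : K ^ (k + 1) ≤ I * K ^ k) : K ^ (k + r + 1) ≤ b * K ^ (k + r) := by
  calc K ^ (k + r + 1) = K ^ (k + (r + 1)) := by rw [add_assoc]
    _ ≤ I ^ (r + 1) * K ^ k := pow_add_le_pow_mul_pow I K k h2 (r + 1)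
    _ ≤ b * I ^ r * K ^ k := Ideal.mul_mono_left h1
    _ ≤ b * K ^ r * K ^ k := Ideal.mul_mono_left (Ideal.mul_mono_right (Ideal.pow_right_mono hIK r))
    _ = b * K ^ (k + r) := by rw [mul_assoc, ← pow_add, add_comm]

/-- Ideal-theoretic integrality of an element over `b`. -/
def IsIntegralOverIdeal (b : Ideal A) (x : A) : Prop :=
  ∃ n : ℕ, 0 < n ∧ ∃ c : Fin n → A,
    (∀ i : Fin n, c i ∈ b ^ ((i : ℕ) + 1)) ∧ x ^ n + ∑ i : Fin n, c i * x ^ (n - 1 - (i : ℕ)) = 0

lemma pow_mem_of_isIntegralOverIdeal (b K : Ideal A) (hbK : b ≤ K) (x : A) (hxK : x ∈ K)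
    (hx : IsIntegralOverIdeal b x) : ∃ n : ℕ, 1 ≤ n ∧ x ^ n ∈ b * K ^ (n - 1) := by
  obtain ⟨n, hn, c, hc, heq⟩ := hx
  refine ⟨n, hn, ?_⟩
  have : x ^ n = -∑ i : Fin n, c i * x ^ (n - 1 - (i : ℕ)) := eq_neg_of_add_eq_zero_left heq
  rw [this]
  refine Ideal.neg_mem_iff _ |>.mpr (Ideal.sum_mem _ fun i _ => ?_)
  have h1 : c i ∈ b * K ^ (i : ℕ) := by
    have := hc i
    rw [pow_succ'] at this
    exact Ideal.mul_mono_right (Ideal.pow_right_mono hbK _) this
  have h2 : x ^ (n - 1 - (i : ℕ)) ∈ K ^ (n - 1 - (i : ℕ)) := Ideal.pow_mem_pow hxK _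
  have h3 := Ideal.mul_mem_mul h1 h2
  rwa [mul_assoc, ← pow_add, show (i : ℕ) + (n - 1 - (i : ℕ)) = n - 1 by have := i.2; omega] at h3

/-- **Reduction**: if `a` is finitely generated and integral over `b ≤ a`, then `b` is a reduction
of `a`. -/
theorem exists_pow_succ_le_mul_pow (b a : Ideal A) (hba : b ≤ a) (hfg : a.FG)
    (hint : ∀ x ∈ a, IsIntegralOverIdeal b x) : ∃ r : ℕ, a ^ (r + 1) ≤ b * a ^ r := by
  classical
  obtain ⟨T, hT⟩ := hfg
  have key : ∀ T : Finset A, (∀ x ∈ T, x ∈ a) →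
      ∃ r : ℕ, (b ⊔ Ideal.span (T : Set A)) ^ (r + 1) ≤ b * (b ⊔ Ideal.span (T : Set A)) ^ r := by
    intro T
    induction T using Finset.induction_on with
    | empty =>
      intro _
      refine ⟨0, ?_⟩
      simp
    | insert x T hxT ih =>
      intro hTa
      obtain ⟨r, hr⟩ := ih (fun y hy => hTa y (Finset.mem_insert_of_mem hy))
      set I := b ⊔ Ideal.span (T : Set A) with hI
      have hK : b ⊔ Ideal.span ((insert x T : Finset A) : Set A) = I ⊔ Ideal.span {x} := by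
        rw [Finset.coe_insert, Ideal.span_insert, hI, sup_assoc, sup_comm (Ideal.span {x})]
      rw [hK]
      have hbI : b ≤ I := le_sup_left
      have hxK : x ∈ I ⊔ Ideal.span {x} := Ideal.mem_sup_right (Ideal.mem_span_singleton_self x)
      obtain ⟨n, hn, hxn⟩ := pow_mem_of_isIntegralOverIdeal b (I ⊔ Ideal.span {x})
        (hbI.trans le_sup_left) x hxK (hint x (hTa x (Finset.mem_insert_self x T)))
      have h2 := pow_le_mul_pow_of_integral b I hbI x n hn hxn
      obtain ⟨k, rfl⟩ : ∃ k, n = k + 1 := ⟨n - 1, by omega⟩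
      rw [Nat.add_sub_cancel] at h2
      exact ⟨k + r, reduction_trans b I _ le_sup_left r k hr h2⟩
  obtain ⟨r, hr⟩ := key T (fun x hx => by rw [← hT]; exact Ideal.subset_span hx)
  have : b ⊔ Ideal.span (T : Set A) = a := by
    rw [hT]; exact sup_eq_right.mpr hba
  rw [this] at hr
  exact ⟨r, hr⟩

lemma pow_add_le_pow_of_reduction (b a : Ideal A) (r : ℕ) (h : a ^ (r + 1) ≤ b * a ^ r) (m : ℕ) :
    a ^ (r + m) ≤ b ^ m :=
  (pow_add_le_pow_mul_pow b a r h m).trans Ideal.mul_le_left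

end Reduction

section RingQuot

variable {A : Type u} [CommRing A]

lemma length_ring_quot (J : Ideal A) :
    Module.length A (A ⧸ J) = Module.length A (A ⧸ (J • ⊤ : Submodule A A)) := by
  have h : (J • ⊤ : Submodule A A) = J := by
    show J • (⊤ : Ideal A) = J
    rw [smul_eq_mul, Ideal.mul_top]
  exact (Submodule.quotEquivOfEq _ _ h).length_eq.symm

lemma toNat_length_ring_quot_pow (J : Ideal A) (k : ℕ) :
    (Module.length A (A ⧸ J ^ k)).toNat = chi J A k := by
  rw [chi, length_ring_quot]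

end RingQuot

end Groth.Agent.Lib.Helper1.HS
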