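import Mathlib
import Groth.Agent.Lib.Helper8.Hens.HenselianFinite

set_option autoImplicit false
universe u

namespace Groth.Agent.H1.HensFin

open IsLocalRing AlgebraicGeometry CategoryTheory Limits

section Ring

/-- over a henselian local ring, a quasi-finite algebra of finite type is finite on a basic open
neighbourhood of any prime over the maximal ideal. -/
theorem exists_away_finite (R : Type u) [CommRing R] [HenselianLocalRing R] (S : Type u)
    [CommRing S] [Algebra R S] [Algebra.FiniteType R S] [Algebra.QuasiFinite R S]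
    (p : Ideal S) [p.IsPrime] (hp : p.comap (algebraMap R S) = maximalIdeal R) :
    ∃ g : S, g ∉ p ∧ Module.Finite R (Localization.Away g) := by
  classical
  obtain ⟨S', hS', r, hrp, hbij⟩ :=
    Algebra.QuasiFiniteAt.exists_fg_and_exists_notMem_and_awayMap_bijective (R := R) p
  haveI : Module.Finite R S' := ⟨(Submodule.fg_top _).mpr hS'⟩
  obtain ⟨n, ε, hε, hloc⟩ := Groth.Agent.H8.Hens.exists_completeOrthogonalIdempotents_of_finite R S'
  let p' : Ideal S' := p.comap S'.val.toRingHom
  haveI hp'prime : p'.IsPrime := Ideal.comap_isPrime _ _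
  -- the index of the factor containing `p'`
  obtain ⟨i₀, hi₀⟩ : ∃ i, ε i ∉ p' := by
    by_contra hcon
    push Not at hcon
    have : (1 : S') ∈ p' := by
      rw [← hε.complete]
      exact Ideal.sum_mem _ (fun i _ => hcon i)
    exact hp'prime.ne_top ((Ideal.eq_top_iff_one _).mpr this)
  have hone : 1 - ε i₀ ∈ p' := by
    have h1 : ε i₀ * (1 - ε i₀) = 0 := by
      rw [mul_sub, mul_one, (hε.idem i₀).eq, sub_self]
    have h2 : ε i₀ * (1 - ε i₀) ∈ p' := by rw [h1]; exact Ideal.zero_mem _
    exact (hp'prime.mem_or_mem h2).resolve_left hi₀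
  -- `p'` is maximal
  have hp'comap : p'.comap (algebraMap R S') = maximalIdeal R := by
    rw [← hp]
    ext a
    rfl
  haveI hp'max : p'.IsMaximal := by
    haveI : (p'.comap (algebraMap R S')).IsMaximal := by
      rw [hp'comap]; infer_instance
    exact Ideal.isMaximal_of_isIntegral_of_isMaximal_comap (R := R) p' inferInstance
  let I : Ideal S' := Ideal.span {1 - ε i₀}
  let L := S' ⧸ I
  haveI : IsLocalRing L := hloc i₀
  have hIp' : I ≤ p' := by
    rw [Ideal.span_le, Set.singleton_subset_iff]; exact hone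
  -- `r` is a unit in `L`
  have hcomapM : (maximalIdeal L).comap (Ideal.Quotient.mk I) = p' := by
    have h1 : p'.map (Ideal.Quotient.mk I) ≠ ⊤ := by
      intro h
      have h2 := Ideal.comap_map_of_surjective (Ideal.Quotient.mk I) Ideal.Quotient.mk_surjective p'
      rw [h, Ideal.comap_top, ← RingHom.ker_eq_comap_bot, Ideal.mk_ker] at h2
      have : p' ⊔ I = p' := sup_eq_left.mpr hIp'
      rw [this] at h2
      exact hp'max.ne_top h2.symm
    have h3 : p'.map (Ideal.Quotient.mk I) ≤ maximalIdeal L := IsLocalRing.le_maximalIdeal h1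
    have h4 : p' ≤ (maximalIdeal L).comap (Ideal.Quotient.mk I) :=
      Ideal.map_le_iff_le_comap.mp h3
    have h5 : (maximalIdeal L).comap (Ideal.Quotient.mk I) ≠ ⊤ :=
      (Ideal.comap_isPrime _ _).ne_top
    exact (hp'max.eq_of_le h5 h4).symm
  have hrunit : IsUnit (Ideal.Quotient.mk I r) := by
    rw [← IsLocalRing.notMem_maximalIdeal]
    intro h
    have : r ∈ (maximalIdeal L).comap (Ideal.Quotient.mk I) := h
    rw [hcomapM] at this
    exact hrp this
  have hε1 : Ideal.Quotient.mk I (ε i₀) = 1 := by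
    have : Ideal.Quotient.mk I (1 - ε i₀) = 0 :=
      Ideal.Quotient.eq_zero_iff_mem.mpr (Ideal.subset_span rfl)
    rw [map_sub, map_one, sub_eq_zero] at this
    exact this.symm
  let g' : S' := r * ε i₀
  have hg'unit : IsUnit (Ideal.Quotient.mk I g') := by
    change IsUnit (Ideal.Quotient.mk I (r * ε i₀))
    rw [map_mul, hε1, mul_one]
    exact hrunit
  haveI hloc' : IsLocalization.Away g' L := by
    change IsLocalization (Submonoid.powers g') L
    rw [isLocalization_iff]
    refine ⟨?_, ?_, ?_⟩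
    · rintro ⟨_, k, rfl⟩
      change IsUnit (Ideal.Quotient.mk I (g' ^ k))
      rw [map_pow]
      exact hg'unit.pow k
    · intro z
      obtain ⟨x, rfl⟩ := Ideal.Quotient.mk_surjective z
      refine ⟨(x, 1), ?_⟩
      change Ideal.Quotient.mk I x * Ideal.Quotient.mk I 1 = Ideal.Quotient.mk I x
      rw [map_one, mul_one]
    · intro x y hxy
      have hxy' : Ideal.Quotient.mk I x = Ideal.Quotient.mk I y := hxy
      rw [Ideal.Quotient.eq, Ideal.mem_span_singleton'] at hxy'
      obtain ⟨a, ha⟩ := hxy'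
      refine ⟨⟨g', 1, pow_one _⟩, ?_⟩
      change r * ε i₀ * x = r * ε i₀ * y
      have h0 : r * ε i₀ * (x - y) = 0 := by
        rw [← ha]
        have : r * ε i₀ * (a * (1 - ε i₀)) = r * a * (ε i₀ - ε i₀ * ε i₀) := by ring
        rw [this, (hε.idem i₀).eq, sub_self, mul_zero]
      rw [mul_sub, sub_eq_zero] at h0
      exact h0
  -- finiteness of `Localization.Away g'`
  have hfin1 : Module.Finite R L :=
    Module.Finite.of_surjective (Ideal.Quotient.mkₐ R I).toLinearMap
      (Ideal.Quotient.mkₐ_surjective R I)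
  let e : Localization.Away g' ≃ₐ[S'] L :=
    IsLocalization.algEquiv (Submonoid.powers g') (Localization.Away g') L
  have hfin2 : Module.Finite R (Localization.Away g') :=
    Module.Finite.equiv (e.symm.toLinearEquiv.restrictScalars R)
  have hbij' : Function.Bijective (Localization.awayMap S'.val.toRingHom g') :=
    Localization.awayMap_bijective_of_dvd _ (Dvd.intro _ rfl) hbij
  refine ⟨S'.val g', ?_, ?_⟩
  · change (r * ε i₀ : S').1 ∉ p
    intro h
    have h' : (r * ε i₀ : S') ∈ p' := h
    rcases hp'prime.mem_or_mem h' with h1 | h1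
    · exact hrp h1
    · exact hi₀ h1
  · exact Module.Finite.of_surjective (Localization.awayMapₐ S'.val g').toLinearMap hbij'.2

end Ring

section Scheme

/-- a point over the closed point of a henselian local affine base has an open neighbourhood finite
over the base. -/
theorem exists_finite_open_nbhd {S X : Scheme.{u}} [IsAffine S] [HenselianLocalRing Γ(S, ⊤)]
    (f : X ⟶ S) [LocallyQuasiFinite f] [LocallyOfFiniteType f] (x : X)
    (hx : ((isAffineOpen_top S).primeIdealOf ⟨f x, trivial⟩).asIdeal = maximalIdeal Γ(S, ⊤)) :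
    ∃ W : X.Opens, x ∈ W ∧ IsFinite (W.ι ≫ f) := by
  have hU := isAffineOpen_top S
  obtain ⟨_, ⟨V, hV : IsAffineOpen V, rfl⟩, hxV, -⟩ :=
    X.isBasis_affineOpens.exists_subset_of_mem_open (Set.mem_univ x) isOpen_univ
  have hUV : V ≤ f ⁻¹ᵁ ⊤ := le_top
  let φ := f.appLE ⊤ V hUV
  have hft : φ.hom.FiniteType := f.finiteType_appLE hU hV hUV
  have hqf : φ.hom.QuasiFinite := LocallyQuasiFinite.quasiFinite_appLE hU hV hUV
  algebraize [φ.hom]
  have hlies : (hV.primeIdealOf ⟨x, hxV⟩).asIdeal.LiesOver
      (hU.primeIdealOf ⟨f x, trivial⟩).asIdeal := by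
    suffices hU.primeIdealOf ⟨f x, trivial⟩ =
        Spec.map (f.appLE ⊤ V hUV) (hV.primeIdealOf ⟨x, hxV⟩) from ⟨congr(($this).1)⟩
    apply hU.isoSpec.inv.homeomorph.injective
    apply Subtype.ext
    simp only [IsAffineOpen.primeIdealOf, Scheme.Hom.homeomorph_apply,
      ← Scheme.Hom.comp_apply, ← Scheme.Opens.ι_apply, IsAffineOpen.isoSpec_hom]
    simp
  have hp : (hV.primeIdealOf ⟨x, hxV⟩).asIdeal.comap (algebraMap Γ(S, ⊤) Γ(X, V)) =
      maximalIdeal Γ(S, ⊤) := by
    rw [← hx]
    exact (hlies.over).symm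
  obtain ⟨g, hgp, hfin⟩ := exists_away_finite Γ(S, ⊤) Γ(X, V) (hV.primeIdealOf ⟨x, hxV⟩).asIdeal hp
  let s4 := Spec.map (CommRingCat.ofHom (algebraMap Γ(X, V) (Localization.Away g)))
  let ι := s4 ≫ hV.fromSpec
  refine ⟨ι.opensRange, ?_, ?_⟩
  · have h𝔮 : hV.primeIdealOf ⟨x, hxV⟩ ∈ Set.range s4 := by
      have := PrimeSpectrum.localization_away_comap_range (Localization.Away g) g
      change hV.primeIdealOf ⟨x, hxV⟩ ∈
        Set.range (PrimeSpectrum.comap (algebraMap Γ(X, V) (Localization.Away g)))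
      rw [this]
      exact hgp
    obtain ⟨w, hw⟩ := h𝔮
    refine ⟨w, ?_⟩
    rw [Scheme.Hom.comp_apply, hw]
    exact hV.fromSpec_primeIdealOf ⟨x, hxV⟩
  · rw [← MorphismProperty.cancel_left_of_respectsIso @IsFinite (Scheme.Hom.isoOpensRange ι).hom]
    have h1 : (Scheme.Hom.isoOpensRange ι).hom ≫ ι.opensRange.ι ≫ f = ι ≫ f := by
      rw [← Category.assoc, Scheme.Hom.isoOpensRange_hom_ι]
    rw [h1]
    have h2 : ι ≫ f = Spec.map (CommRingCat.ofHom
        ((algebraMap Γ(X, V) (Localization.Away g)).comp (algebraMap Γ(S, ⊤) Γ(X, V)))) ≫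
        hU.fromSpec := by
      rw [Category.assoc, ← IsAffineOpen.SpecMap_appLE_fromSpec f hU hV hUV, ← Category.assoc,
        ← Spec.map_comp]
      rfl
    rw [h2]
    haveI : IsIso hU.fromSpec := by
      rw [IsAffineOpen.fromSpec_top]; infer_instance
    haveI : IsFinite (Spec.map (CommRingCat.ofHom
        ((algebraMap Γ(X, V) (Localization.Away g)).comp (algebraMap Γ(S, ⊤) Γ(X, V))))) := by
      rw [IsFinite.SpecMap_iff]
      change ((algebraMap Γ(X, V) (Localization.Away g)).comp (algebraMap Γ(S, ⊤) Γ(X, V))).Finite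
      rw [← IsScalarTower.algebraMap_eq]
      exact RingHom.finite_algebraMap.mpr hfin
    infer_instance

end Scheme

end Groth.Agent.H1.HensFin
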