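import Mathlib
import Groth.Agent.Lib.Helper1.HensFin

set_option autoImplicit false
universe u

namespace Groth.Agent.H1.HensFin

open IsLocalRing AlgebraicGeometry CategoryTheory Limits

/-- Transport of the henselian property along a ring isomorphism. -/
theorem henselianLocalRing_of_ringEquiv {R S : Type*} [CommRing R] [CommRing S]
    [hR : HenselianLocalRing R] (e : R ≃+* S) : HenselianLocalRing S := by
  haveI : IsLocalRing S := e.isLocalRing
  let φ : S →+* R := e.symm.toRingHom
  let ψ : R →+* S := e.toRingHom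
  have hψφ : ∀ x, ψ (φ x) = x := fun x => e.apply_symm_apply x
  have hφψ : ∀ x, φ (ψ x) = x := fun x => e.symm_apply_apply x
  have hloc : ∀ x : S, x ∈ maximalIdeal S → φ x ∈ maximalIdeal R := by
    intro x hx
    rw [mem_maximalIdeal, mem_nonunits_iff] at hx ⊢
    intro hu
    apply hx
    have := hu.map ψ
    rwa [hψφ] at this
  have hloc' : ∀ x : R, x ∈ maximalIdeal R → ψ x ∈ maximalIdeal S := by
    intro x hx
    rw [mem_maximalIdeal, mem_nonunits_iff] at hx ⊢
    intro hu
    apply hx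
    have := hu.map φ
    rwa [hφψ] at this
  refine ⟨fun f hf a₀ h₁ h₂ => ?_⟩
  have hf' : (f.map φ).Monic := hf.map _
  have h₁' : (f.map φ).eval (φ a₀) ∈ maximalIdeal R := by
    rw [Polynomial.eval_map, Polynomial.eval₂_at_apply]
    exact hloc _ h₁
  have h₂' : IsUnit ((f.map φ).derivative.eval (φ a₀)) := by
    rw [Polynomial.derivative_map, Polynomial.eval_map, Polynomial.eval₂_at_apply]
    exact h₂.map φ
  obtain ⟨a, ha1, ha2⟩ := hR.is_henselian _ hf' (φ a₀) h₁' h₂'
  have hcomp : ψ.comp φ = RingHom.id S := RingHom.ext hψφ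
  refine ⟨ψ a, ?_, ?_⟩
  · rw [Polynomial.IsRoot.def] at ha1 ⊢
    have h3 : ψ ((f.map φ).eval a) = f.eval (ψ a) := by
      rw [Polynomial.eval_map, Polynomial.hom_eval₂, hcomp, Polynomial.eval₂_id]
    rw [← h3, ha1, map_zero]
  · have := hloc' _ ha2
    rwa [map_sub, hψφ] at this

instance (R : Type u) [CommRing R] [HenselianLocalRing R] :
    HenselianLocalRing Γ(Spec (CommRingCat.of R), ⊤) :=
  henselianLocalRing_of_ringEquiv
    (Scheme.ΓSpecIso (CommRingCat.of R)).symm.commRingCatIsoToRingEquiv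

theorem primeIdealOf_closedPoint (R : Type u) [CommRing R] [IsLocalRing R]
    [IsLocalRing Γ(Spec (CommRingCat.of R), ⊤)] :
    ((isAffineOpen_top (Spec (CommRingCat.of R))).primeIdealOf
      ⟨closedPoint R, trivial⟩).asIdeal = maximalIdeal Γ(Spec (CommRingCat.of R), ⊤) := by
  set hU := isAffineOpen_top (Spec (CommRingCat.of R))
  have h1 : IsClosed ({closedPoint R} : Set (Spec (CommRingCat.of R))) :=
    (PrimeSpectrum.isClosed_singleton_iff_isMaximal _).mpr (maximalIdeal.isMaximal R)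
  have h2 : IsClosed ({⟨closedPoint R, trivial⟩} :
      Set ((⊤ : (Spec (CommRingCat.of R)).Opens) : Type u)) := by
    have : ({⟨closedPoint R, trivial⟩} :
      Set ((⊤ : (Spec (CommRingCat.of R)).Opens) : Type u)) = Subtype.val ⁻¹' {closedPoint R} := by
      ext ⟨z, hz⟩
      exact Subtype.ext_iff
    rw [this]
    exact h1.preimage continuous_subtype_val
  have h3 : IsClosed ({hU.primeIdealOf ⟨closedPoint R, trivial⟩} :
      Set (PrimeSpectrum Γ(Spec (CommRingCat.of R), ⊤))) := by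
    have := (hU.isoSpec.hom.homeomorph).isClosed_image.mpr h2
    rwa [Set.image_singleton] at this
  have h4 := (PrimeSpectrum.isClosed_singleton_iff_isMaximal _).mp h3
  exact IsLocalRing.eq_maximalIdeal h4

section Main

variable (R : Type u) [CommRing R] [HenselianLocalRing R] {X : Scheme.{u}}
  (f : X ⟶ Spec (CommRingCat.of R))

theorem exists_finite_open_nbhd_spec [LocallyQuasiFinite f] [LocallyOfFiniteType f] (x : X)
    (hx : f x = closedPoint R) : ∃ W : X.Opens, x ∈ W ∧ IsFinite (W.ι ≫ f) := by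
  apply exists_finite_open_nbhd f x
  have : (⟨f x, trivial⟩ : ((⊤ : (Spec (CommRingCat.of R)).Opens) : Type u)) =
      ⟨closedPoint R, trivial⟩ := Subtype.ext hx
  rw [this]
  exact primeIdealOf_closedPoint R

omit [HenselianLocalRing R] in
theorem isClosed_of_isFinite {Y : Scheme.{u}} (f : X ⟶ Y) [IsSeparated f] (W : X.Opens)
    (hW : IsFinite (W.ι ≫ f)) : IsClosed (W : Set X) := by
  haveI : IsProper W.ι := IsProper.of_comp W.ι f
  have h := W.ι.isClosedMap.isClosed_range
  rwa [Scheme.Opens.range_ι] at h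

omit [HenselianLocalRing R] in
theorem isFinite_sup {Y : Scheme.{u}} (f : X ⟶ Y) [IsSeparated f] [LocallyQuasiFinite f]
    [LocallyOfFiniteType f] (W₁ W₂ : X.Opens) (h₁ : IsFinite (W₁.ι ≫ f))
    (h₂ : IsFinite (W₂.ι ≫ f)) : IsFinite ((W₁ ⊔ W₂).ι ≫ f) := by
  let j₁ : (W₁ : Scheme) ⟶ (W₁ ⊔ W₂ : X.Opens) := X.homOfLE le_sup_left
  let j₂ : (W₂ : Scheme) ⟶ (W₁ ⊔ W₂ : X.Opens) := X.homOfLE le_sup_right
  let g : (W₁ : Scheme) ⨿ (W₂ : Scheme) ⟶ (W₁ ⊔ W₂ : X.Opens) := coprod.desc j₁ j₂
  have hg : g ≫ (W₁ ⊔ W₂).ι ≫ f = coprod.desc (W₁.ι ≫ f) (W₂.ι ≫ f) := by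
    apply coprod.hom_ext
    · rw [coprod.inl_desc, ← Category.assoc, coprod.inl_desc, ← Category.assoc, X.homOfLE_ι]
    · rw [coprod.inr_desc, ← Category.assoc, coprod.inr_desc, ← Category.assoc, X.homOfLE_ι]
  haveI : Surjective g := by
    constructor
    rintro ⟨y, hy⟩
    rcases hy with hy | hy
    · refine ⟨(coprod.inl : (W₁ : Scheme) ⟶ (W₁ : Scheme) ⨿ (W₂ : Scheme)) ⟨y, hy⟩, ?_⟩
      rw [← Scheme.Hom.comp_apply]
      simp only [g, coprod.inl_desc]
      exact X.homOfLE_apply' _ _ _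
    · refine ⟨(coprod.inr : (W₂ : Scheme) ⟶ (W₁ : Scheme) ⨿ (W₂ : Scheme)) ⟨y, hy⟩, ?_⟩
      rw [← Scheme.Hom.comp_apply]
      simp only [g, coprod.inr_desc]
      exact X.homOfLE_apply' _ _ _
  haveI : IsFinite (g ≫ (W₁ ⊔ W₂).ι ≫ f) := by rw [hg]; infer_instance
  haveI : UniversallyClosed ((W₁ ⊔ W₂).ι ≫ f) := UniversallyClosed.of_comp_surjective g _
  haveI : IsProper ((W₁ ⊔ W₂).ι ≫ f) := {}
  exact (IsFinite.iff_isProper_and_locallyQuasiFinite _).mpr ⟨inferInstance, inferInstance⟩

theorem exists_finite_part [LocallyQuasiFinite f] [LocallyOfFiniteType f] [QuasiCompact f]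
    [IsSeparated f] :
    ∃ W : X.Opens, IsClosed (W : Set X) ∧ IsFinite (W.ι ≫ f) ∧
      ∀ x : X, f x = closedPoint R → x ∈ W := by
  classical
  have hfin : (f ⁻¹' {closedPoint R}).Finite := f.finite_preimage_singleton _
  choose! W hxW hWfin using
    fun x (hx : f x = closedPoint R) => exists_finite_open_nbhd_spec R f x hx
  have key : ∀ s : Finset X, (∀ x ∈ s, f x = closedPoint R) → IsFinite ((s.sup W).ι ≫ f) := by
    intro s
    induction s using Finset.induction_on with
    | empty =>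
      intro _
      rw [Finset.sup_empty]
      haveI : IsEmpty ((⊥ : X.Opens) : Scheme.{u}) :=
        ⟨fun x => x.2.elim⟩
      infer_instance
    | insert a s ha ih =>
      intro h
      rw [Finset.sup_insert]
      exact isFinite_sup f _ _ (hWfin a (h a (Finset.mem_insert_self _ _)))
        (ih fun x hx => h x (Finset.mem_insert_of_mem hx))
  have hk := key hfin.toFinset (fun x hx => hfin.mem_toFinset.mp hx)
  refine ⟨hfin.toFinset.sup W, isClosed_of_isFinite f _ hk, hk, ?_⟩
  intro x hx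
  have h1 : x ∈ hfin.toFinset := hfin.mem_toFinset.mpr hx
  exact (Finset.le_sup h1 : W x ≤ _) (hxW x hx)

omit [HenselianLocalRing R] in
/-- a point of a scheme whose structure map to a local scheme is closed specializes to a point over
the closed point. -/
theorem exists_specializes_closedPoint [IsLocalRing R] {P : Scheme.{u}}
    (h : P ⟶ Spec (CommRingCat.of R)) (hcl : IsClosedMap h) (w : P) :
    ∃ w₀ : P, w ⤳ w₀ ∧ h w₀ = closedPoint R := by
  have h1 : IsClosed (h '' closure {w}) := hcl _ isClosed_closure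
  have h2 : h w ∈ h '' closure {w} := ⟨w, subset_closure rfl, rfl⟩
  have h3 : closedPoint R ∈ h '' closure {w} :=
    (specializes_closedPoint (R := R) (h w)).mem_closed h1 h2
  obtain ⟨w₀, hw₀, hw₀'⟩ := h3
  exact ⟨w₀, specializes_iff_mem_closure.mpr hw₀, hw₀'⟩

omit [HenselianLocalRing R] in
/-- a morphism over a local base carries a part that is closed over the base into any open
containing the special fibre. -/
theorem map_mem_of_closedMap [IsLocalRing R] {P Y : Scheme.{u}} (h : P ⟶ Spec (CommRingCat.of R))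
    (hcl : IsClosedMap h) (f' : Y ⟶ Spec (CommRingCat.of R)) (g : P ⟶ Y) (hg : g ≫ f' = h)
    (WY : Y.Opens) (hWY : ∀ y : Y, f' y = closedPoint R → y ∈ WY) (w : P) : g w ∈ WY := by
  obtain ⟨w₀, hw, hw₀⟩ := exists_specializes_closedPoint R h hcl w
  have h1 : g w ⤳ g w₀ := hw.map g.continuous
  have h2 : g w₀ ∈ WY := by
    apply hWY
    rw [← Scheme.Hom.comp_apply, hg, hw₀]
  exact h1.mem_open WY.2 h2

end Main

end Groth.Agent.H1.HensFin
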