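import Mathlib
import Groth.Agent.Lib.Helper8.Hens.Pointed

set_option autoImplicit false
universe u

namespace Groth.Agent.H1.HensFin

open IsLocalRing AlgebraicGeometry CategoryTheory Limits

/-- existence of sections of étale morphisms over a henselian local ring through a rational point
of the special fibre. -/
theorem exists_section (R : Type u) [CommRing R] [HenselianLocalRing R] {X : Scheme.{u}}
    (f : X ⟶ Spec (CommRingCat.of R)) [Etale f]
    (t : Spec (CommRingCat.of (ResidueField R)) ⟶ X)
    (ht : t ≫ f = Spec.map (CommRingCat.ofHom (residue R))) :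
    ∃ s : Spec (CommRingCat.of R) ⟶ X,
      s ≫ f = 𝟙 _ ∧ Spec.map (CommRingCat.ofHom (residue R)) ≫ s = t := by
  let y₀ : Spec (CommRingCat.of (ResidueField R)) := closedPoint (ResidueField R)
  obtain ⟨_, ⟨V, hV : IsAffineOpen V, rfl⟩, hxV, -⟩ :=
    X.isBasis_affineOpens.exists_subset_of_mem_open (Set.mem_univ (t y₀)) isOpen_univ
  have hrange : Set.range t ⊆ Set.range hV.fromSpec := by
    rw [hV.range_fromSpec]
    rintro _ ⟨y, rfl⟩
    have : y = y₀ := Subsingleton.elim _ _
    rw [this]
    exact hxV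
  let φ : CommRingCat.of R ⟶ Γ(X, V) := Spec.preimage (hV.fromSpec ≫ f)
  have hφ : Spec.map φ = hV.fromSpec ≫ f := Spec.map_preimage _
  let t' : Spec (CommRingCat.of (ResidueField R)) ⟶ Spec Γ(X, V) :=
    IsOpenImmersion.lift hV.fromSpec t hrange
  have ht' : t' ≫ hV.fromSpec = t := IsOpenImmersion.lift_fac _ _ _
  let σ₀ : Γ(X, V) ⟶ CommRingCat.of (ResidueField R) := Spec.preimage t'
  have hσ₀ : Spec.map σ₀ = t' := Spec.map_preimage _
  have hφσ : φ ≫ σ₀ = CommRingCat.ofHom (residue R) := by
    apply Spec.map_injective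
    rw [Spec.map_comp, hσ₀, hφ, ← Category.assoc, ht', ht]
  have hét : φ.hom.Etale := by
    have : Etale (Spec.map φ) := by rw [hφ]; infer_instance
    exact (HasRingHomProperty.Spec_iff (P := @Etale)).mp this
  algebraize [φ.hom]
  let σ : Γ(X, V) →ₐ[R] ResidueField R :=
    { σ₀.hom with commutes' := fun r => congr($(hφσ).hom r) }
  obtain ⟨g, hg⟩ := Groth.Agent.H8.Hens.exists_algHom_of_henselian σ (AlgHom.id R (ResidueField R))
  have hg1 : φ ≫ CommRingCat.ofHom g.toRingHom = 𝟙 _ := by
    ext r
    exact g.commutes r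
  have hg2 : CommRingCat.ofHom g.toRingHom ≫ CommRingCat.ofHom (residue R) = σ₀ := by
    ext x
    exact hg x
  refine ⟨Spec.map (CommRingCat.ofHom g.toRingHom) ≫ hV.fromSpec, ?_, ?_⟩
  · rw [Category.assoc, ← hφ, ← Spec.map_comp, hg1, Spec.map_id]
  · rw [← Category.assoc, ← Spec.map_comp, hg2, hσ₀, ht']

/-- uniqueness of sections of unramified morphisms over a local ring through a given point of the
special fibre. -/
theorem section_unique (R : Type u) [CommRing R] [IsLocalRing R] {X : Scheme.{u}}
    (f : X ⟶ Spec (CommRingCat.of R)) [IsOpenImmersion (pullback.diagonal f)]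
    (s s' : Spec (CommRingCat.of R) ⟶ X) (hs : s ≫ f = 𝟙 _) (hs' : s' ≫ f = 𝟙 _)
    (h : Spec.map (CommRingCat.ofHom (residue R)) ≫ s =
      Spec.map (CommRingCat.ofHom (residue R)) ≫ s') : s = s' := by
  let l : Spec (CommRingCat.of R) ⟶ pullback f f := pullback.lift s s' (by rw [hs, hs'])
  let Δ := pullback.diagonal f
  have hcl : closedPoint R ∈ l ⁻¹ᵁ Δ.opensRange := by
    let y₀ : Spec (CommRingCat.of (ResidueField R)) := closedPoint (ResidueField R)
    have h1 : Spec.map (CommRingCat.ofHom (residue R)) y₀ = closedPoint R :=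
      IsLocalRing.PrimeSpectrum.comap_residue R y₀
    have h2 : Spec.map (CommRingCat.ofHom (residue R)) ≫ l =
        (Spec.map (CommRingCat.ofHom (residue R)) ≫ s) ≫ Δ := by
      apply pullback.hom_ext
      · rw [Category.assoc, Category.assoc, pullback.diagonal_fst, Category.comp_id]
        congr 1
        exact pullback.lift_fst _ _ _
      · rw [Category.assoc, Category.assoc, pullback.diagonal_snd, Category.comp_id, h]
        congr 1
        exact pullback.lift_snd _ _ _
    change l (closedPoint R) ∈ Set.range Δ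
    rw [← h1, ← Scheme.Hom.comp_apply, h2, Scheme.Hom.comp_apply]
    exact ⟨_, rfl⟩
  have htop : l ⁻¹ᵁ Δ.opensRange = ⊤ := (closedPoint_mem_iff _).mp hcl
  have hrange : Set.range l ⊆ Set.range Δ := by
    rintro _ ⟨y, rfl⟩
    have : y ∈ l ⁻¹ᵁ Δ.opensRange := by rw [htop]; trivial
    exact this
  let m := IsOpenImmersion.lift Δ l hrange
  have hm : m ≫ Δ = l := IsOpenImmersion.lift_fac _ _ _
  have e1 : s = m := by
    have : l ≫ pullback.fst f f = s := pullback.lift_fst _ _ _
    rw [← this, ← hm, Category.assoc, pullback.diagonal_fst, Category.comp_id]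
  have e2 : s' = m := by
    have : l ≫ pullback.snd f f = s' := pullback.lift_snd _ _ _
    rw [← this, ← hm, Category.assoc, pullback.diagonal_snd, Category.comp_id]
  rw [e1, e2]

end Groth.Agent.H1.HensFin
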