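import Mathlib
import Groth.Agent.Lib.Helper1.HensFin2
import Groth.Agent.Lib.Helper1.HensFin4

set_option autoImplicit false
universe u

namespace Groth.Agent.H1.HensFin

open IsLocalRing AlgebraicGeometry CategoryTheory Limits

/-- over a henselian local base, a point over the closed point at which `f` is quasi-finite has an
affine open neighbourhood finite over the base whose ring of sections is the local ring. -/
theorem exists_local_finite_open_nbhd (R : Type u) [CommRing R] [HenselianLocalRing R]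
    {X : Scheme.{u}} (f : X ⟶ Spec (CommRingCat.of R)) [LocallyOfFiniteType f] (x : X)
    (hx : f x = closedPoint R) (hq : f.QuasiFiniteAt x) :
    ∃ (U : X.Opens) (_ : IsAffineOpen U) (hxU : x ∈ U),
      (f.appLE ⊤ U le_top).hom.Finite ∧ IsFinite (U.ι ≫ f) ∧
        Function.Bijective (X.presheaf.germ U x hxU).hom := by
  have hS := isAffineOpen_top (Spec (CommRingCat.of R))
  obtain ⟨_, ⟨V, hV : IsAffineOpen V, rfl⟩, hxV, -⟩ :=
    X.isBasis_affineOpens.exists_subset_of_mem_open (Set.mem_univ x) isOpen_univ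
  have hSV : V ≤ f ⁻¹ᵁ ⊤ := le_top
  let φ := f.appLE ⊤ V hSV
  have hft : φ.hom.FiniteType := f.finiteType_appLE hS hV hSV
  have hqf : φ.hom.QuasiFiniteAt (hV.primeIdealOf ⟨x, hxV⟩).asIdeal :=
    hq.quasiFiniteAt hV hS hSV hxV
  algebraize [φ.hom]
  haveI : Algebra.QuasiFiniteAt Γ(Spec (CommRingCat.of R), ⊤) (hV.primeIdealOf ⟨x, hxV⟩).asIdeal :=
    hqf
  have hmax : (hS.primeIdealOf ⟨f x, trivial⟩).asIdeal =
      maximalIdeal Γ(Spec (CommRingCat.of R), ⊤) := by
    have : (⟨f x, trivial⟩ : ((⊤ : (Spec (CommRingCat.of R)).Opens) : Type u)) =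
        ⟨closedPoint R, trivial⟩ := Subtype.ext hx
    rw [this]
    exact primeIdealOf_closedPoint R
  have hcomap : ∀ (W : X.Opens) (hW : IsAffineOpen W) (hxW : x ∈ W),
      (hW.primeIdealOf ⟨x, hxW⟩).asIdeal.comap (f.appLE ⊤ W le_top).hom =
        maximalIdeal Γ(Spec (CommRingCat.of R), ⊤) := by
    intro W hW hxW
    rw [← hmax]
    suffices hS.primeIdealOf ⟨f x, trivial⟩ =
        Spec.map (f.appLE ⊤ W le_top) (hW.primeIdealOf ⟨x, hxW⟩) from (congr(($this).1)).symm
    apply hS.isoSpec.inv.homeomorph.injective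
    apply Subtype.ext
    simp only [IsAffineOpen.primeIdealOf, Scheme.Hom.homeomorph_apply,
      ← Scheme.Hom.comp_apply, ← Scheme.Opens.ι_apply, IsAffineOpen.isoSpec_hom]
    simp
  have hp : (hV.primeIdealOf ⟨x, hxV⟩).asIdeal.comap
      (algebraMap Γ(Spec (CommRingCat.of R), ⊤) Γ(X, V)) =
      maximalIdeal Γ(Spec (CommRingCat.of R), ⊤) := hcomap V hV hxV
  obtain ⟨g, hgp, hfin, hloc⟩ := exists_away_finite_local Γ(Spec (CommRingCat.of R), ⊤) Γ(X, V)
    (hV.primeIdealOf ⟨x, hxV⟩).asIdeal hp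
  let U := X.basicOpen g
  have hU : IsAffineOpen U := hV.basicOpen g
  have hxU : x ∈ U := by
    rw [← PrimeSpectrum.mem_basicOpen, ← hV.fromSpec_preimage_basicOpen] at hgp
    have h1 : hV.fromSpec (hV.primeIdealOf ⟨x, hxV⟩) ∈ X.basicOpen g := hgp
    rwa [hV.fromSpec_primeIdealOf ⟨x, hxV⟩] at h1
  haveI hlocU := hV.isLocalization_basicOpen g
  let e : Localization.Away g ≃ₐ[Γ(X, V)] Γ(X, U) :=
    IsLocalization.algEquiv (.powers g) _ _
  haveI : IsLocalRing Γ(X, U) := e.toRingEquiv.isLocalRing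
  have hfac : (f.appLE ⊤ U le_top).hom = (e.toRingEquiv.toRingHom).comp
      (algebraMap Γ(Spec (CommRingCat.of R), ⊤) (Localization.Away g)) := by
    ext r
    have h1 : algebraMap Γ(Spec (CommRingCat.of R), ⊤) (Localization.Away g) r =
        algebraMap Γ(X, V) (Localization.Away g) (φ.hom r) := by
      rw [IsScalarTower.algebraMap_apply Γ(Spec (CommRingCat.of R), ⊤) Γ(X, V)
        (Localization.Away g)]
      rfl
    rw [RingHom.comp_apply, h1]
    change _ = e (algebraMap _ _ (φ.hom r))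
    rw [e.commutes]
    have h2 := Scheme.Hom.appLE_map f hSV (homOfLE (X.basicOpen_le g)).op
    rw [← h2]
    rfl
  have hfinU : (f.appLE ⊤ U le_top).hom.Finite := by
    rw [hfac]
    exact (RingHom.Finite.of_surjective _ e.toRingEquiv.surjective).comp
      (RingHom.finite_algebraMap.mpr hfin)
  have hfinU' : IsFinite (U.ι ≫ f) := by
    have h1 : U.ι ≫ f = hU.isoSpec.hom ≫ Spec.map (f.appLE ⊤ U le_top) ≫ hS.fromSpec := by
      rw [IsAffineOpen.SpecMap_appLE_fromSpec f hS hU le_top, ← Category.assoc,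
        hU.isoSpec_hom_fromSpec]
    rw [h1]
    haveI : IsIso hS.fromSpec := by
      rw [IsAffineOpen.fromSpec_top]; infer_instance
    haveI : IsFinite (Spec.map (f.appLE ⊤ U le_top)) := (IsFinite.SpecMap_iff _).mpr hfinU
    infer_instance
  refine ⟨U, hU, hxU, hfinU, hfinU', ?_⟩
  -- the prime of `x` in `Γ(X, U)` is the maximal ideal
  set q := (hU.primeIdealOf ⟨x, hxU⟩).asIdeal with hq
  have hqmax : q.IsMaximal := by
    letI := (f.appLE ⊤ U le_top).hom.toAlgebra
    haveI : Algebra.IsIntegral Γ(Spec (CommRingCat.of R), ⊤) Γ(X, U) := ⟨hfinU.to_isIntegral⟩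
    haveI : (q.comap (algebraMap Γ(Spec (CommRingCat.of R), ⊤) Γ(X, U))).IsMaximal := by
      have := hcomap U hU hxU
      change q.comap (f.appLE ⊤ U le_top).hom = _ at this
      change (q.comap (f.appLE ⊤ U le_top).hom).IsMaximal
      rw [this]
      infer_instance
    exact Ideal.isMaximal_of_isIntegral_of_isMaximal_comap (R := Γ(Spec (CommRingCat.of R), ⊤)) q
      inferInstance
  have hqeq : q = maximalIdeal Γ(X, U) := IsLocalRing.eq_maximalIdeal hqmax
  letI := TopCat.Presheaf.algebra_section_stalk X.presheaf (⟨x, hxU⟩ : U)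
  haveI := hU.isLocalization_stalk ⟨x, hxU⟩
  have hunits : q.primeCompl ≤ IsUnit.submonoid Γ(X, U) := by
    intro y hy
    have : y ∉ maximalIdeal Γ(X, U) := by rw [← hqeq]; exact hy
    exact IsLocalRing.notMem_maximalIdeal.mp this
  exact (IsLocalization.atUnits Γ(X, U) q.primeCompl (S := X.presheaf.stalk x) hunits).bijective

end Groth.Agent.H1.HensFin
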