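import Mathlib
import Groth.Agent.Lib.Helper1.MLProj
import Groth.Agent.Lib.Helper8.Hens.HenselianFinite

/-!
# Countably generated Mittag-Leffler modules over henselian local rings
-/

set_option autoImplicit false
universe u
open scoped Classical

namespace Groth.Agent.H1.HensML

section H

theorem unit_lemma {B : Type u} [CommRing B] (ε b : B) (hε : IsIdempotentElem ε)
    (h : IsUnit (Ideal.Quotient.mk (Ideal.span {1 - ε}) b)) : ∃ u, ε * u * b = ε := by
  obtain ⟨cb, hc⟩ := h.exists_right_inv
  obtain ⟨u, rfl⟩ := Ideal.Quotient.mk_surjective cb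
  rw [← map_mul, ← map_one (Ideal.Quotient.mk (Ideal.span {1 - ε})), Ideal.Quotient.eq,
    Ideal.mem_span_singleton'] at hc
  obtain ⟨c, hc⟩ := hc
  refine ⟨u, ?_⟩
  have h1 : ε * (b * u - 1) = 0 := by
    rw [← hc]
    have : ε * (c * (1 - ε)) = c * (ε - ε * ε) := by ring
    rw [this, hε.eq, sub_self, mul_zero]
  have h2 : ε * u * b = ε * (b * u - 1) + ε := by ring
  rw [h2, h1, zero_add]

theorem exists_idem (R : Type u) [CommRing R] [HenselianLocalRing R] (B : Type u) [CommRing B]
    [Algebra R B] [Module.Finite R B] (t : B) :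
    ∃ e w y : B, e * e = e ∧ e = w * t ∧ 1 - e = y * (1 - t) := by
  obtain ⟨n, ε, hε, hloc⟩ :=
    Groth.Agent.H8.Hens.exists_completeOrthogonalIdempotents_of_finite R B
  let A : Finset (Fin n) :=
    Finset.univ.filter fun i => IsUnit (Ideal.Quotient.mk (Ideal.span {1 - ε i}) (1 - t))
  have hu : ∀ i, i ∈ A → ∃ u, ε i * u * (1 - t) = ε i := by
    intro i hi
    exact unit_lemma (ε i) (1 - t) (hε.idem i) (Finset.mem_filter.mp hi).2
  have hv : ∀ i, i ∉ A → ∃ v, ε i * v * t = ε i := by
    intro i hi
    haveI := hloc i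
    have h1 : ¬ IsUnit (Ideal.Quotient.mk (Ideal.span {1 - ε i}) (1 - t)) := by
      intro h
      exact hi (Finset.mem_filter.mpr ⟨Finset.mem_univ _, h⟩)
    have h2 := IsLocalRing.isUnit_or_isUnit_one_sub_self
      (Ideal.Quotient.mk (Ideal.span {1 - ε i}) t)
    rw [← map_one (Ideal.Quotient.mk (Ideal.span {1 - ε i})), ← map_sub] at h2
    rcases h2 with h2 | h2
    · exact unit_lemma (ε i) t (hε.idem i) h2
    · exact absurd h2 h1
  choose! u hu using hu
  choose! v hv using hv
  refine ⟨∑ i ∈ Aᶜ, ε i, ∑ i ∈ Aᶜ, ε i * v i, ∑ i ∈ A, ε i * u i, ?_, ?_, ?_⟩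
  · exact hε.toOrthogonalIdempotents.isIdempotentElem_sum.eq
  · rw [Finset.sum_mul]
    exact Finset.sum_congr rfl fun i hi => (hv i (Finset.mem_compl.mp hi)).symm
  · have h1 : ∑ i ∈ A, ε i + ∑ i ∈ Aᶜ, ε i = 1 := by
      rw [Finset.sum_add_sum_compl]
      exact hε.complete
    rw [Finset.sum_mul]
    rw [Finset.sum_congr rfl fun i hi => hu i hi]
    rw [← h1]
    ring

end H


section FP

variable {R : Type u} [CommRing R] {M : Type u} [AddCommGroup M] [Module R M]

open Groth.Agent.LD.ML

/-- a finitely generated Mittag-Leffler module is finitely presented -/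
theorem finitePresentation_of_finite_ML [Module.Finite R M] (hM : CAlg.IsMittagLeffler R M) :
    Module.FinitePresentation R M := by
  obtain ⟨n, f, hf⟩ := Module.Finite.exists_fin' R M
  obtain ⟨Q, _, _, _, g, hker⟩ := exists_dominating_of_isML hM f
  haveI : Module.FinitePresentation R (Q ⧸ LinearMap.range g) := fp_quotient_range g
  obtain ⟨h, hh⟩ := (S6359 R g f).mp (fun N _ _ => (hker N).ge)
  have hfh : ∀ v, f v = h (g v) := fun v => LinearMap.congr_fun hh v
  have hkk : LinearMap.ker f = LinearMap.ker g := MD.ker_eq (a := f) (b := g) hker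
  have hsurj : Function.Surjective h := by
    intro m
    obtain ⟨v, rfl⟩ := hf m
    exact ⟨g v, (hfh v).symm⟩
  have hcompl : IsCompl (LinearMap.range g) (LinearMap.ker h) := by
    constructor
    · rw [Submodule.disjoint_def]
      rintro _ ⟨v, rfl⟩ hv
      rw [LinearMap.mem_ker, ← hfh] at hv
      have : v ∈ LinearMap.ker g := by rw [← hkk]; exact hv
      exact this
    · rw [codisjoint_iff, eq_top_iff]
      intro q _
      obtain ⟨v, hv⟩ := hf (h q)
      have : q = g v + (q - g v) := by abel
      rw [this]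
      refine Submodule.add_mem_sup ⟨v, rfl⟩ ?_
      rw [LinearMap.mem_ker, map_sub, ← hfh, hv, sub_self]
  haveI : Module.Finite R (LinearMap.ker h) :=
    Module.Finite.equiv (Submodule.quotientEquivOfIsCompl _ _ hcompl)
  exact Module.finitePresentation_of_surjective h hsurj (Module.Finite.iff_fg.mp inferInstance)

end FP


section Claim

variable {R : Type u} [CommRing R] {M : Type u} [AddCommGroup M] [Module R M]

open Polynomial

theorem pow_comp_intertwine {P : Type u} [AddCommGroup P] [Module R P] (i : P →ₗ[R] M)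
    (π : M →ₗ[R] P) (n : ℕ) :
    ((i ∘ₗ π : Module.End R M) ^ n) ∘ₗ i = i ∘ₗ ((π ∘ₗ i : Module.End R P) ^ n) := by
  induction n with
  | zero => simp [Module.End.one_eq_id]
  | succ n ih =>
    rw [pow_succ, pow_succ, Module.End.mul_eq_comp, Module.End.mul_eq_comp, LinearMap.comp_assoc,
      LinearMap.comp_assoc i π i, ← LinearMap.comp_assoc _ i, ih, LinearMap.comp_assoc]

theorem aeval_comp_intertwine {P : Type u} [AddCommGroup P] [Module R P] (i : P →ₗ[R] M)
    (π : M →ₗ[R] P) (q : R[X]) :
    (aeval (i ∘ₗ π : Module.End R M) q) ∘ₗ i = i ∘ₗ (aeval (π ∘ₗ i : Module.End R P) q) := by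
  induction q using Polynomial.induction_on' with
  | add p q hp hq =>
    rw [map_add, map_add, LinearMap.add_comp, LinearMap.comp_add, hp, hq]
  | monomial n c =>
    rw [aeval_monomial, aeval_monomial, Algebra.algebraMap_eq_smul_one,
      Algebra.algebraMap_eq_smul_one, smul_mul_assoc, smul_mul_assoc, one_mul, one_mul,
      LinearMap.smul_comp, LinearMap.comp_smul, pow_comp_intertwine]

theorem aeval_X_mul_eq_zero {P : Type u} [AddCommGroup P] [Module R P] (i : P →ₗ[R] M)
    (π : M →ₗ[R] P) (q : R[X]) (hq : aeval (π ∘ₗ i : Module.End R P) q = 0) :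
    aeval (i ∘ₗ π : Module.End R M) (X * q) = 0 := by
  rw [mul_comm, map_mul, aeval_X, Module.End.mul_eq_comp, ← LinearMap.comp_assoc,
    aeval_comp_intertwine, hq, LinearMap.comp_zero, LinearMap.zero_comp]

noncomputable def liftEnd (f : R[X]) (α : Module.End R M) (h : aeval α f = 0) :
    AdjoinRoot f →ₐ[R] Module.End R M :=
  Ideal.Quotient.liftₐ (Ideal.span {f}) (aeval α) (by
    intro a ha
    obtain ⟨b, rfl⟩ := Ideal.mem_span_singleton.mp ha
    rw [map_mul, h, zero_mul])

theorem liftEnd_root (f : R[X]) (α : Module.End R M) (h : aeval α f = 0) :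
    liftEnd f α h (AdjoinRoot.root f) = α := by
  change Ideal.Quotient.liftₐ (Ideal.span {f}) (aeval α) _ (Ideal.Quotient.mk _ X) = α
  rw [Ideal.Quotient.liftₐ_apply]
  refine (Ideal.Quotient.lift_mk (Ideal.span {f})
    ((aeval α : R[X] →ₐ[R] Module.End R M) : R[X] →+* Module.End R M) _).trans ?_
  simp

/-- the splitting-off claim over a henselian local ring -/
theorem exists_idempotent_end [HenselianLocalRing R] (hML : CAlg.IsMittagLeffler R M)
    (hc : CAlg.IsCountablyGenerated R M) (x : M) :
    ∃ e : M →ₗ[R] M, e ∘ₗ e = e ∧ e x = x ∧ (LinearMap.range e).FG := by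
  obtain ⟨P, _, _, _, π, i, hα⟩ :=
    Groth.Agent.LD.ML.S6361 R M hML hc (LinearMap.toSpanSingleton R M x)
  have hαx : i (π x) = x := by
    have := LinearMap.congr_fun hα 1
    simpa using this
  obtain ⟨p, hp, hpa⟩ := LinearMap.exists_monic_and_aeval_eq_zero R (π ∘ₗ i : Module.End R P)
  set α : Module.End R M := i ∘ₗ π with hαdef
  have hf : (X * p).Monic := monic_X.mul hp
  have haeval : aeval α (X * p) = 0 := aeval_X_mul_eq_zero i π p hpa
  haveI : Module.Finite R (AdjoinRoot (X * p)) := hf.finite_adjoinRoot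
  let φ : AdjoinRoot (X * p) →ₐ[R] Module.End R M := liftEnd (X * p) α haeval
  have hφt : φ (AdjoinRoot.root (X * p)) = α := liftEnd_root (X * p) α haeval
  obtain ⟨e, w, y, he, hew, hey⟩ :=
    exists_idem R (AdjoinRoot (X * p)) (AdjoinRoot.root (X * p))
  have hE : φ e ∘ₗ φ e = φ e := by
    rw [← Module.End.mul_eq_comp, ← map_mul, he]
  have hEw : φ e = φ w ∘ₗ α := by
    rw [hew, map_mul, hφt, Module.End.mul_eq_comp]
  have hEy : LinearMap.id - φ e = φ y ∘ₗ (LinearMap.id - α) := by
    have := congrArg φ hey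
    rw [map_sub, map_one, map_mul, map_sub, map_one, hφt, Module.End.mul_eq_comp,
      Module.End.one_eq_id] at this
    exact this
  refine ⟨φ e, hE, ?_, ?_⟩
  · have h1 := LinearMap.congr_fun hEy x
    simp only [LinearMap.sub_apply, LinearMap.id_apply, LinearMap.comp_apply] at h1
    have h2 : α x = x := hαx
    rw [h2, sub_self, map_zero, sub_eq_zero] at h1
    exact h1.symm
  · set ψ : P →ₗ[R] M := φ e ∘ₗ φ w ∘ₗ i with hψ
    have h1 : φ e = ψ ∘ₗ π := by
      calc φ e = φ e ∘ₗ φ e := hE.symm
        _ = φ e ∘ₗ (φ w ∘ₗ (i ∘ₗ π)) := by rw [← hαdef, ← hEw]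
        _ = ψ ∘ₗ π := by rw [hψ]; simp only [LinearMap.comp_assoc]
    have h2 : LinearMap.range (φ e) = LinearMap.range ψ := by
      apply le_antisymm
      · rw [h1]
        exact LinearMap.range_comp_le_range _ _
      · rw [hψ]
        exact LinearMap.range_comp_le_range _ _
    rw [h2, LinearMap.range_eq_map]
    exact Module.Finite.fg_top.map ψ

end Claim


section Seq

variable {R : Type u} [CommRing R] [HenselianLocalRing R] {M : Type u} [AddCommGroup M]
  [Module R M]

open Groth.Agent.LD.ML

omit [HenselianLocalRing R] in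
theorem isCountablyGenerated_of_surjective {A B : Type u} [AddCommGroup A] [Module R A]
    [AddCommGroup B] [Module R B] (f : A →ₗ[R] B) (hf : Function.Surjective f)
    (h : CAlg.IsCountablyGenerated R A) : CAlg.IsCountablyGenerated R B := by
  obtain ⟨s, hs, hspan⟩ := h
  refine ⟨f '' s, hs.image _, ?_⟩
  rw [← Submodule.map_span, hspan, Submodule.map_top, LinearMap.range_eq_top]
  exact hf

theorem step (hML : CAlg.IsMittagLeffler R M) (hc : CAlg.IsCountablyGenerated R M)
    (G Q : Submodule R M) (h : IsCompl G Q) (x : M) :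
    ∃ F Q' : Submodule R M, F ≤ Q ∧ IsCompl (G ⊔ F) Q' ∧ Module.FinitePresentation R F ∧
      x ∈ G ⊔ F := by
  have hr : (Q.projectionOnto G h.symm) ∘ₗ Q.subtype = LinearMap.id :=
    Submodule.projectionOnto_comp_subtype h.symm
  have hQML : CAlg.IsMittagLeffler R Q :=
    isML_of_universallyInjective Q.subtype (universallyInjective_of_leftInverse _ _ hr) hML
  have hQc : CAlg.IsCountablyGenerated R Q :=
    isCountablyGenerated_of_surjective (Q.projectionOnto G h.symm)
      (Submodule.projectionOnto_surjective h.symm) hc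
  obtain ⟨g, hg, q, hq, rfl⟩ : ∃ g ∈ G, ∃ q ∈ Q, g + q = x := by
    have : x ∈ G ⊔ Q := by rw [h.sup_eq_top]; exact Submodule.mem_top
    exact Submodule.mem_sup.mp this
  obtain ⟨e, he, heq, hfg⟩ := exists_idempotent_end hQML hQc (⟨q, hq⟩ : Q)
  have hidem : IsIdempotentElem e := he
  have hcompl : IsCompl (LinearMap.range e) (LinearMap.ker e) :=
    LinearMap.IsIdempotentElem.isCompl hidem
  refine ⟨(LinearMap.range e).map Q.subtype, (LinearMap.ker e).map Q.subtype, ?_, ?_, ?_, ?_⟩
  · rintro _ ⟨z, -, rfl⟩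
    exact z.2
  · have hsup : (LinearMap.range e).map Q.subtype ⊔ (LinearMap.ker e).map Q.subtype = Q := by
      rw [← Submodule.map_sup, hcompl.sup_eq_top, Submodule.map_top, Submodule.range_subtype]
    have hdisj : Disjoint ((LinearMap.range e).map Q.subtype) ((LinearMap.ker e).map Q.subtype) :=
      Submodule.disjoint_map Q.injective_subtype hcompl.disjoint
    constructor
    · refine Disjoint.disjoint_sup_left_of_disjoint_sup_right hdisj ?_
      rw [hsup]
      exact h.disjoint
    · rw [codisjoint_iff, sup_assoc, hsup]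
      exact h.sup_eq_top
  · haveI : Module.Finite R (LinearMap.range e) := Module.Finite.iff_fg.mpr hfg
    have hret : e.rangeRestrict ∘ₗ (LinearMap.range e).subtype = LinearMap.id := by
      apply LinearMap.ext
      rintro ⟨_, z, rfl⟩
      apply Subtype.ext
      exact LinearMap.congr_fun he z
    have hrML : CAlg.IsMittagLeffler R (LinearMap.range e) :=
      isML_of_universallyInjective (LinearMap.range e).subtype
        (universallyInjective_of_leftInverse _ _ hret) hQML
    haveI : Module.FinitePresentation R (LinearMap.range e) :=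
      finitePresentation_of_finite_ML hrML
    exact Module.FinitePresentation.of_equiv
      (Submodule.equivMapOfInjective Q.subtype Q.injective_subtype (LinearMap.range e))
  · refine Submodule.add_mem_sup hg ?_
    exact ⟨⟨q, hq⟩, ⟨⟨q, hq⟩, heq⟩, rfl⟩

theorem exists_seq (hML : CAlg.IsMittagLeffler R M) (hc : CAlg.IsCountablyGenerated R M) :
    ∃ F : ℕ → Submodule R M, DirectSum.IsInternal F ∧ ∀ n, Module.FinitePresentation R (F n) := by
  obtain ⟨s, hs, hspan⟩ := id hc
  have hne : (insert (0 : M) s).Nonempty := ⟨0, Set.mem_insert _ _⟩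
  obtain ⟨x, hx⟩ := (hs.insert 0).exists_eq_range hne
  have hx' : Submodule.span R (Set.range x) = ⊤ := by
    rw [← hx, eq_top_iff, ← hspan]
    exact Submodule.span_mono (Set.subset_insert _ _)
  have hstep : ∀ (s : {p : Submodule R M × Submodule R M // IsCompl p.1 p.2}) (z : M),
      ∃ (s' : {p : Submodule R M × Submodule R M // IsCompl p.1 p.2}) (F : Submodule R M),
        F ≤ s.1.2 ∧ s'.1.1 = s.1.1 ⊔ F ∧ Module.FinitePresentation R F ∧ z ∈ s'.1.1 := by
    intro s z
    obtain ⟨F, Q', h1, h2, h3, h4⟩ := step hML hc s.1.1 s.1.2 s.2 z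
    exact ⟨⟨(s.1.1 ⊔ F, Q'), h2⟩, F, h1, rfl, h3, h4⟩
  choose next Fof h1 h2 h3 h4 using hstep
  let s0 : {p : Submodule R M × Submodule R M // IsCompl p.1 p.2} := ⟨(⊥, ⊤), isCompl_bot_top⟩
  let seq : ℕ → {p : Submodule R M × Submodule R M // IsCompl p.1 p.2} :=
    fun n => Nat.rec s0 (fun n s => next s (x n)) n
  let F : ℕ → Submodule R M := fun n => Fof (seq n) (x n)
  let G : ℕ → Submodule R M := fun n => (seq n).1.1
  have hG0 : G 0 = ⊥ := rfl
  have hGs : ∀ n, G (n + 1) = G n ⊔ F n := fun n => h2 (seq n) (x n)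
  have hFQ : ∀ n, Disjoint (G n) (F n) := fun n =>
    (seq n).2.disjoint.mono_right (h1 (seq n) (x n))
  have hxG : ∀ n, x n ∈ G (n + 1) := fun n => h4 (seq n) (x n)
  have hGsup : ∀ n, G n = (Finset.range n).sup F := by
    intro n
    induction n with
    | zero => simp [hG0]
    | succ n ih => rw [hGs, ih, Finset.range_add_one, Finset.sup_insert, sup_comm]
  have hind : ∀ n, (Finset.range n).SupIndep F := by
    intro n
    induction n with
    | zero => simp
    | succ n ih =>
      rw [Finset.range_add_one]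
      exact ih.insert (by rw [← hGsup]; exact (hFQ n).symm)
  have hindep : iSupIndep F := by
    rw [iSupIndep_iff_supIndep]
    intro s
    obtain ⟨n, hn⟩ := s.exists_nat_subset_range
    exact (hind n).subset hn
  have htop : ⨆ n, F n = ⊤ := by
    rw [eq_top_iff, ← hx', Submodule.span_le]
    rintro _ ⟨n, rfl⟩
    have h5 : x n ∈ (Finset.range (n + 1)).sup F := (hGsup (n + 1)).le (hxG n)
    exact (Finset.sup_le fun i _ => le_iSup F i) h5
  exact ⟨F, (DirectSum.isInternal_submodule_iff_iSupIndep_and_iSup_eq_top F).mpr ⟨hindep, htop⟩,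
    fun n => h3 (seq n) (x n)⟩

/-- **Stacks 05D?**: over a henselian local ring a countably generated Mittag-Leffler module is a
direct sum of finitely presented modules. -/
theorem main (hc : CAlg.IsCountablyGenerated R M) (hML : CAlg.IsMittagLeffler R M) :
    ∃ (ι : Type u) (N : ι → Submodule R M), DirectSum.IsInternal N ∧
      ∀ i, Module.FinitePresentation R (N i) := by
  obtain ⟨F, hF, hfp⟩ := exists_seq hML hc
  refine ⟨ULift.{u} ℕ, fun i => F i.down, ?_, fun i => hfp i.down⟩
  rw [DirectSum.isInternal_submodule_iff_iSupIndep_and_iSup_eq_top] at hF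
  letI : DecidableEq (ULift.{u} ℕ) := fun a b => Classical.propDecidable (a = b)
  refine (DirectSum.isInternal_submodule_iff_iSupIndep_and_iSup_eq_top _).mpr
    ⟨hF.1.comp ULift.down_injective, ?_⟩
  rw [← hF.2]
  exact Equiv.ulift.iSup_comp (g := F)

end Seq

end Groth.Agent.H1.HensML
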