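import Mathlib
import Groth.Agent.Lib.Helper1.Herbrand
import Groth.Agent.Lib.Helper1.LatDist

/-!
# Herbrand quotients of `(M, φ^i, φ^(n-i))` for nilpotent `φ` (helper1)
-/

set_option autoImplicit false
set_option linter.style.haveILetI false
set_option linter.unusedSectionVars false
universe u v

namespace Groth.Agent.H1.HerbNil
open CycAlg Groth.Agent.H1.Herbrand Groth.Agent.H1.LatDist

section G
variable {R : Type u} [CommRing R] {M : Type v} [AddCommGroup M] [Module R M]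

theorem rl_self' (A : Submodule R M) : rl A A = 0 := by
  unfold rl
  rw [Module.length_eq_zero_iff, Submodule.submoduleOf_self]
  infer_instance

theorem rl_bot_left (B : Submodule R M) : rl (⊥ : Submodule R M) B = 0 := by
  unfold rl
  rw [Module.length_eq_zero_iff]
  infer_instance

theorem rl_of_le {A B : Submodule R M} (h : A ≤ B) : rl A B = 0 := by
  rw [← rl_inf_right, inf_eq_left.mpr h, rl_self']

/-- antitone in the second argument. -/
theorem rl_anti (A : Submodule R M) {B B' : Submodule R M} (h : B' ≤ B) : rl A B ≤ rl A B' := by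
  rw [← rl_inf_right A B, ← rl_inf_right A B',
    rl_tower (inf_le_inf_left A h) (inf_le_left : A ⊓ B ≤ A)]
  exact le_self_add

/-- second isomorphism theorem. -/
theorem rl_sup_left (A B : Submodule R M) : rl (A ⊔ B) B = rl A B := by
  unfold rl
  have h1 : Submodule.comap A.subtype A ⊓ Submodule.comap A.subtype B = B.submoduleOf A := by
    rw [Submodule.comap_subtype_self, top_inf_eq]
    rfl
  have h2 := (LinearMap.quotientInfEquivSupQuotient A B).length_eq
  have h3 := (Submodule.quotEquivOfEq _ _ h1).length_eq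
  exact h2.symm.trans h3

/-- first isomorphism theorem. -/
theorem rl_map (f : M →ₗ[R] M) (Q P' : Submodule R M) :
    rl (Q.map f) P' = rl Q (P'.comap f) := by
  unfold rl
  let g : ↥Q →ₗ[R] (↥(Q.map f) ⧸ P'.submoduleOf (Q.map f)) :=
    (P'.submoduleOf (Q.map f)).mkQ ∘ₗ (f.restrict (p := Q) (q := Q.map f)
      (fun x hx => Submodule.mem_map_of_mem hx))
  have hg : Function.Surjective g := by
    intro y
    induction y using Submodule.Quotient.induction_on with
    | H y =>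
      obtain ⟨y, x, hx, rfl⟩ := y
      exact ⟨⟨x, hx⟩, rfl⟩
  have hk : LinearMap.ker g = (P'.comap f).submoduleOf Q := by
    ext x
    rw [LinearMap.mem_ker]
    change (Submodule.Quotient.mk _ : ↥(Q.map f) ⧸ P'.submoduleOf (Q.map f)) = 0 ↔ _
    rw [Submodule.Quotient.mk_eq_zero]
    rfl
  rw [← (g.quotKerEquivOfSurjective hg).length_eq]
  exact (Submodule.quotEquivOfEq _ _ hk).length_eq

theorem four_term (f : M →ₗ[R] M) (P Q P' Q' : Submodule R M) (hPQ : P ≤ Q) (hP'Q' : P' ≤ Q')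
    (hQ : Q.map f ≤ Q') (hP : P.map f ≤ P') :
    ∃ r : ℕ∞, rl Q P = rl (Q ⊓ P'.comap f) P + r ∧ rl Q' P' = r + rl Q' (Q.map f ⊔ P') := by
  refine ⟨rl Q (Q ⊓ P'.comap f), ?_, ?_⟩
  · rw [rl_tower (le_inf hPQ (Submodule.map_le_iff_le_comap.mp hP)) inf_le_left, add_comm]
  · rw [rl_tower (le_sup_right : P' ≤ Q.map f ⊔ P') (sup_le hQ hP'Q'), rl_sup_left, rl_map,
      rl_inf_right, add_comm]

end G
section Nil
variable {R : Type u} [CommRing R] {M : Type v} [AddCommGroup M] [Module R M] (φ : M →ₗ[R] M)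

/-- `ker φ^i`. -/
def K (i : ℕ) : Submodule R M := LinearMap.ker (φ ^ i)
/-- `im φ^j`. -/
def I (j : ℕ) : Submodule R M := LinearMap.range (φ ^ j)

variable {φ}
theorem mem_K {i : ℕ} {m : M} : m ∈ K φ i ↔ (φ ^ i) m = 0 := LinearMap.mem_ker
theorem mem_I {j : ℕ} {m : M} : m ∈ I φ j ↔ ∃ y, (φ ^ j) y = m := LinearMap.mem_range
variable (φ)

theorem pow_add_apply (a b : ℕ) (m : M) : (φ ^ (a + b)) m = (φ ^ a) ((φ ^ b) m) := by
  rw [pow_add]; rfl

theorem pow_succ_apply (a : ℕ) (m : M) : (φ ^ (a + 1)) m = (φ ^ a) (φ m) := by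
  rw [pow_add_apply, pow_one]

theorem pow_succ_apply' (a : ℕ) (m : M) : (φ ^ (a + 1)) m = φ ((φ ^ a) m) := by
  rw [add_comm, pow_add_apply, pow_one]

theorem K_mono {i j : ℕ} (h : i ≤ j) : K φ i ≤ K φ j := by
  intro m hm
  rw [mem_K] at hm ⊢
  obtain ⟨k, rfl⟩ := Nat.exists_eq_add_of_le h
  rw [add_comm, pow_add_apply, hm, map_zero]

theorem K_zero : K φ 0 = ⊥ := by
  ext m
  rw [mem_K, pow_zero, Submodule.mem_bot]
  rfl

theorem I_zero : I φ 0 = ⊤ := by
  ext m
  rw [mem_I, pow_zero]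
  exact ⟨fun _ => trivial, fun _ => ⟨m, rfl⟩⟩

theorem K_inf_I (i j : ℕ) : K φ i ⊓ I φ j = (K φ (i + j)).map (φ ^ j) := by
  ext m
  constructor
  · rintro ⟨h1, h2⟩
    rw [SetLike.mem_coe, mem_I] at h2
    obtain ⟨y, rfl⟩ := h2
    rw [SetLike.mem_coe, mem_K, ← pow_add_apply] at h1
    exact ⟨y, mem_K.mpr h1, rfl⟩
  · rintro ⟨y, hy, rfl⟩
    have hy' := mem_K.mp hy
    refine ⟨?_, mem_I.mpr ⟨y, rfl⟩⟩
    rw [SetLike.mem_coe, mem_K, ← pow_add_apply]
    exact hy'

theorem map_K_le (i j : ℕ) : (K φ (i + j)).map (φ ^ j) ≤ K φ i := by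
  rw [← K_inf_I]; exact inf_le_left

theorem map_K_le' (i : ℕ) : (K φ (i + 1)).map φ ≤ K φ i := by
  have := map_K_le φ i 1
  rwa [pow_one] at this

theorem map_I (j : ℕ) : (I φ j).map φ = I φ (j + 1) := by
  ext m
  constructor
  · rintro ⟨y, hy, rfl⟩
    obtain ⟨z, rfl⟩ := mem_I.mp hy
    exact mem_I.mpr ⟨z, pow_succ_apply' φ j z⟩
  · intro hm
    obtain ⟨z, rfl⟩ := mem_I.mp hm
    exact ⟨(φ ^ j) z, mem_I.mpr ⟨z, rfl⟩, (pow_succ_apply' φ j z).symm⟩

variable {n : ℕ} (hφ : φ ^ n = 0)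
include hφ

theorem I_le_K {i j : ℕ} (h : n ≤ i + j) : I φ j ≤ K φ i := by
  intro m hm
  obtain ⟨y, rfl⟩ := mem_I.mp hm
  rw [mem_K, ← pow_add_apply]
  obtain ⟨k, hk⟩ := Nat.exists_eq_add_of_le h
  rw [hk, add_comm n k, pow_add_apply, hφ]
  simp

theorem K_eq_top {i : ℕ} (h : n ≤ i) : K φ i = ⊤ := by
  rw [eq_top_iff, ← I_zero φ]
  exact I_le_K φ hφ (by omega)

omit hφ

/-- `a_i`. -/
noncomputable def a (n i : ℕ) : ℕ∞ := rl (K φ i) (I φ (n - i))
/-- `b_i`. -/
noncomputable def b (i : ℕ) : ℕ∞ := rl (K φ i) ((K φ (i + 1)).map φ)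
/-- `c_i`. -/
noncomputable def c (i : ℕ) : ℕ∞ := rl (K φ 1) ((K φ (i + 1)).map (φ ^ i))

theorem b_zero : b φ 0 = 0 := by
  unfold b
  rw [K_zero]; exact rl_bot_left _

theorem c_zero : c φ 0 = 0 := by
  unfold c
  rw [pow_zero]
  apply rl_of_le
  intro m hm
  exact ⟨m, hm, rfl⟩

theorem a_zero (n : ℕ) : a φ n 0 = 0 := by
  unfold a
  rw [K_zero]; exact rl_bot_left _

include hφ in
theorem a_self : a φ n n = 0 := by
  unfold a
  rw [Nat.sub_self, I_zero]
  exact rl_of_le le_top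

/-- the second exact sequence. -/
theorem E2 (i : ℕ) : ∃ s : ℕ∞, b φ (i + 1) = b φ i + s ∧ c φ (i + 1) = s + c φ i := by
  obtain ⟨s, h1, h2⟩ := four_term (φ ^ i) ((K φ (i + 2)).map φ) (K φ (i + 1))
    ((K φ (i + 2)).map (φ ^ (i + 1))) (K φ 1) (map_K_le' φ (i + 1))
    (by have := map_K_le φ 1 (i + 1); rwa [add_comm 1 (i + 1)] at this)
    (by have := map_K_le φ 1 i; rwa [add_comm 1 i] at this)
    (by
      rintro _ ⟨_, ⟨y, hy, rfl⟩, rfl⟩
      exact ⟨y, hy, pow_succ_apply φ i y⟩)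
  refine ⟨s, ?_, ?_⟩
  · have hk : K φ (i + 1) ⊓ ((K φ (i + 2)).map (φ ^ (i + 1))).comap (φ ^ i) =
        K φ i ⊔ (K φ (i + 2)).map φ := by
      apply le_antisymm
      · rintro y ⟨hy1, z, hz, hzy⟩
        have hzy' : (φ ^ i) (φ z) = (φ ^ i) y := by rw [← pow_succ_apply]; exact hzy
        rw [Submodule.mem_sup]
        refine ⟨y - φ z, ?_, φ z, ⟨z, hz, rfl⟩, by abel⟩
        rw [mem_K, map_sub, hzy', sub_self]
      · apply sup_le
        · intro y hy
          refine ⟨K_mono φ (Nat.le_succ i) hy, ?_⟩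
          rw [SetLike.mem_coe, Submodule.mem_comap, mem_K.mp hy]
          exact Submodule.zero_mem _
        · rintro _ ⟨z, hz, rfl⟩
          refine ⟨map_K_le' φ (i + 1) ⟨z, hz, rfl⟩, z, hz, ?_⟩
          exact pow_succ_apply φ i z
    have hb : rl (K φ i ⊔ (K φ (i + 2)).map φ) ((K φ (i + 2)).map φ) = b φ i := by
      rw [rl_sup_left, ← rl_inf_right]
      unfold b
      congr 1
      apply le_antisymm
      · rintro y ⟨hy1, z, hz, rfl⟩
        refine ⟨z, ?_, rfl⟩
        rw [SetLike.mem_coe, mem_K, pow_succ_apply]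
        exact mem_K.mp hy1
      · apply le_inf (map_K_le' φ i)
        exact Submodule.map_mono (K_mono φ (Nat.le_succ (i + 1)))
    rw [hk, hb] at h1
    exact h1
  · have hc : (K φ (i + 1)).map (φ ^ i) ⊔ (K φ (i + 2)).map (φ ^ (i + 1)) =
        (K φ (i + 1)).map (φ ^ i) := by
      apply sup_eq_left.mpr
      rintro _ ⟨z, hz, rfl⟩
      refine ⟨φ z, ?_, (pow_succ_apply φ i z).symm⟩
      exact map_K_le' φ (i + 1) ⟨z, hz, rfl⟩
    rw [hc] at h2
    exact h2

theorem b_eq_c (i : ℕ) : b φ i = c φ i := by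
  induction i with
  | zero => rw [b_zero, c_zero]
  | succ i ih =>
    obtain ⟨s, h1, h2⟩ := E2 φ i
    rw [h1, h2, ih, add_comm]

include hφ in
/-- the first exact sequence. -/
theorem E1 (i : ℕ) (hi : i < n) :
    ∃ r : ℕ∞, a φ n (i + 1) = c φ (n - i - 1) + r ∧ a φ n i = r + b φ i := by
  have hn1 : n - i = (n - i - 1) + 1 := by omega
  obtain ⟨r, h1, h2⟩ := four_term φ (I φ (n - i - 1)) (K φ (i + 1)) (I φ (n - i)) (K φ i)
    (I_le_K φ hφ (by omega)) (I_le_K φ hφ (by omega)) (map_K_le' φ i)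
    (by rw [map_I, ← hn1])
  refine ⟨r, ?_, ?_⟩
  · have hk : K φ (i + 1) ⊓ (I φ (n - i)).comap φ = K φ 1 ⊔ I φ (n - i - 1) := by
      apply le_antisymm
      · rintro y ⟨hy1, hy2⟩
        rw [SetLike.mem_coe, Submodule.mem_comap, mem_I, hn1] at hy2
        obtain ⟨z, hz⟩ := hy2
        rw [pow_succ_apply'] at hz
        rw [Submodule.mem_sup]
        refine ⟨y - (φ ^ (n - i - 1)) z, ?_, (φ ^ (n - i - 1)) z, mem_I.mpr ⟨z, rfl⟩, by abel⟩
        rw [mem_K, pow_one, map_sub, hz, sub_self]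
      · apply sup_le
        · intro y hy
          refine ⟨K_mono φ (by omega) hy, ?_⟩
          rw [SetLike.mem_coe, Submodule.mem_comap]
          have := mem_K.mp hy
          rw [pow_one] at this
          rw [this]
          exact Submodule.zero_mem _
        · intro y hy
          refine ⟨I_le_K φ hφ (by omega) hy, ?_⟩
          rw [SetLike.mem_coe, Submodule.mem_comap, hn1, ← map_I]
          exact ⟨y, hy, rfl⟩
    have hc : rl (K φ 1 ⊔ I φ (n - i - 1)) (I φ (n - i - 1)) = c φ (n - i - 1) := by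
      rw [rl_sup_left, ← rl_inf_right, K_inf_I]
      unfold c
      rw [add_comm 1 (n - i - 1)]
    rw [hk, hc] at h1
    unfold a
    rw [show n - (i + 1) = n - i - 1 by omega]
    exact h1
  · have hb : (K φ (i + 1)).map φ ⊔ I φ (n - i) = (K φ (i + 1)).map φ := by
      apply sup_eq_left.mpr
      rw [hn1, ← map_I]
      exact Submodule.map_mono (I_le_K φ hφ (by omega))
    rw [hb] at h2
    exact h2

end Nil

section Concl
variable {R : Type u} [CommRing R] {M : Type v} [AddCommGroup M] [Module R M] (φ : M →ₗ[R] M)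
  {n : ℕ} (hφ : φ ^ n = 0)
include hφ

theorem c_le (j : ℕ) (hj : j < n) : c φ j ≤ a φ n 1 := by
  unfold c a
  apply rl_anti
  intro m hm
  obtain ⟨y, rfl⟩ := mem_I.mp hm
  refine ⟨(φ ^ (n - 1 - j)) y, ?_, ?_⟩
  · rw [SetLike.mem_coe, mem_K, ← pow_add_apply, show j + 1 + (n - 1 - j) = n by omega, hφ]; rfl
  · rw [← pow_add_apply, show j + (n - 1 - j) = n - 1 by omega]

theorem b_lt_top (h1 : a φ n 1 < ⊤) (j : ℕ) (hj : j < n) : b φ j < ⊤ := by
  rw [b_eq_c]; exact lt_of_le_of_lt (c_le φ hφ j hj) h1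

theorem a_lt_top (h1 : a φ n 1 < ⊤) (i : ℕ) (hi : i ≤ n) : a φ n i < ⊤ := by
  induction i with
  | zero => rw [a_zero]; exact ENat.top_pos
  | succ i ih =>
    obtain ⟨r, e1, e2⟩ := E1 φ hφ i (by omega)
    have hr : r < ⊤ := lt_of_le_of_lt (by rw [e2]; exact le_self_add) (ih (by omega))
    rw [e1]
    exact ENat.add_lt_top.mpr ⟨lt_of_le_of_lt (c_le φ hφ _ (by omega)) h1, hr⟩

theorem D (i : ℕ) (hi : i < n) : a φ n (i + 1) + b φ i = b φ (n - 1 - i) + a φ n i := by
  obtain ⟨r, e1, e2⟩ := E1 φ hφ i hi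
  rw [e1, e2, b_eq_c φ (n - 1 - i), show n - i - 1 = n - 1 - i by omega, add_assoc]

theorem a_symm (h1 : a φ n 1 < ⊤) (j : ℕ) (hj : j ≤ n) : a φ n j = a φ n (n - j) := by
  induction j with
  | zero => rw [a_zero, Nat.sub_zero, a_self φ hφ]
  | succ j ih =>
    have d1 := D φ hφ j (by omega)
    have d2 := D φ hφ (n - j - 1) (by omega)
    rw [show n - j - 1 + 1 = n - j by omega, show n - 1 - (n - j - 1) = j by omega] at d2
    rw [ih (by omega), show n - 1 - j = n - j - 1 by omega, add_comm (b φ (n - j - 1)), d2] at d1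
    have hb := (b_lt_top φ hφ h1 j (by omega)).ne
    rw [add_comm (b φ j)] at d1
    rw [show n - (j + 1) = n - j - 1 by omega]
    exact (ENat.add_left_injective_of_ne_top hb) d1

end Concl


end Groth.Agent.H1.HerbNil
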