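import Mathlib
import Groth.Agent.Lib.Helper1.RelDim
import Groth.Agent.Lib.Helper1.ClosedDim
import Groth.Agent.Lib.Helper1.UOVal
import Groth.Agent.Lib.Helper1.GenPts
import Groth.Agent.Lib.Helper1.DimLocF
import Groth.Agent.Lib.Helper1.FlatRelDim
import Groth.Agent.Lib.Helper1.DimSubA
import Groth.Agent.Lib.Helper2.QCClosure
import Groth.Agent.Lib.Helper6.TD1
import Groth.Agent.Lib.Helper3.TopDim

/-! The image of a morphism of finite type over a field has the dimension of its closure
(helper1), with an application (S14901). -/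

set_option autoImplicit false
universe u

namespace Groth.Agent.H1.ImgDim

open AlgebraicGeometry CategoryTheory TopologicalSpace Topology

/-- in an irreducible space a constructible set or its complement contains a nonempty open. -/
theorem exists_isOpen_subset_or_subset_compl {T : Type*} [TopologicalSpace T] [IrreducibleSpace T]
    {s : Set T} (hs : IsConstructible s) :
    (∃ U : Set T, IsOpen U ∧ U.Nonempty ∧ U ⊆ s) ∨
      (∃ U : Set T, IsOpen U ∧ U.Nonempty ∧ U ⊆ sᶜ) := by
  induction hs using IsConstructible.empty_union_induction with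
  | open_retrocompact U hUo hUc =>
    by_cases hne : U.Nonempty
    · exact Or.inl ⟨U, hUo, hne, subset_rfl⟩
    · right
      refine ⟨Set.univ, isOpen_univ, Set.univ_nonempty, ?_⟩
      rw [Set.not_nonempty_iff_eq_empty.mp hne, Set.compl_empty]
  | union s hs t ht hs' ht' =>
    rcases hs' with ⟨U, hU, hne, hsub⟩ | ⟨U, hU, hne, hsub⟩
    · exact Or.inl ⟨U, hU, hne, hsub.trans Set.subset_union_left⟩
    · rcases ht' with ⟨V, hV, hVne, hVsub⟩ | ⟨V, hV, hVne, hVsub⟩
      · exact Or.inl ⟨V, hV, hVne, hVsub.trans Set.subset_union_right⟩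
      · right
        refine ⟨U ∩ V, hU.inter hV, nonempty_preirreducible_inter hU hV hne hVne, ?_⟩
        rw [Set.compl_union]
        exact Set.inter_subset_inter hsub hVsub
  | compl s hs hs' =>
    rcases hs' with h | h
    · right
      rwa [compl_compl]
    · left
      exact h

/-- Chevalley: the image of a morphism of finite type to a Noetherian scheme contains a nonempty
open subset of the closure of the image of any point. -/
theorem exists_open_inter_closure_subset_range {S X : Scheme.{u}} [IsLocallyNoetherian X]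
    [CompactSpace X] (f : S ⟶ X) [LocallyOfFiniteType f] [QuasiCompact f] (a : S) :
    ∃ N : X.Opens, f a ∈ N ∧ (N : Set X) ∩ closure {f a} ⊆ Set.range f := by
  haveI : IsNoetherian X := {}
  have hcons : IsConstructible (Set.range f) := by
    rw [← Set.image_univ]
    exact f.isConstructible_image IsConstructible.univ
  have hTc : IsClosed (closure ({f a} : Set X)) := isClosed_closure
  have hTi : IsIrreducible (closure ({f a} : Set X)) := isIrreducible_singleton.closure
  haveI : IrreducibleSpace ↥(closure ({f a} : Set X)) := Subtype.irreducibleSpace hTi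
  have hcons' : IsConstructible
      ((Subtype.val : ↥(closure ({f a} : Set X)) → X) ⁻¹' Set.range f) :=
    hcons.preimage_of_isClosedEmbedding hTc.isClosedEmbedding_subtypeVal
      (NoetherianSpace.isCompact _)
  have hgen : ∀ U : Set ↥(closure ({f a} : Set X)), IsOpen U → U.Nonempty →
      (⟨f a, subset_closure rfl⟩ : ↥(closure ({f a} : Set X))) ∈ U := by
    rintro U hU ⟨u, hu⟩
    obtain ⟨U', hU', rfl⟩ := isOpen_induced_iff.mp hU
    have hu2 : u.1 ∈ closure ({f a} : Set X) := u.2
    obtain ⟨y, hyU, hy⟩ := mem_closure_iff.mp hu2 U' hU' hu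
    rw [Set.mem_singleton_iff] at hy
    rw [hy] at hyU
    exact hyU
  rcases exists_isOpen_subset_or_subset_compl hcons' with
    ⟨U, hU, hne, hsub⟩ | ⟨U, hU, hne, hsub⟩
  · obtain ⟨U', hU', rfl⟩ := isOpen_induced_iff.mp hU
    refine ⟨⟨U', hU'⟩, hgen _ hU hne, ?_⟩
    rintro y ⟨hyU, hyT⟩
    exact hsub (show (⟨y, hyT⟩ : ↥(closure ({f a} : Set X))) ∈ Subtype.val ⁻¹' U' from hyU)
  · exfalso
    exact hsub (hgen U hU hne) ⟨a, rfl⟩

/-- the closure of the image of a morphism of finite type between schemes of finite type over a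
field has the dimension of the image. -/
theorem dim_closure_range_le {k : Type u} [Field k] {S X : Scheme.{u}}
    (pX : X ⟶ Spec (CommRingCat.of k)) [LocallyOfFiniteType pX] [CompactSpace X]
    (f : S ⟶ X) [LocallyOfFiniteType f] [QuasiCompact f] :
    topologicalKrullDim ↥(closure (Set.range f)) ≤ topologicalKrullDim ↥(Set.range f) := by
  haveI : IsLocallyNoetherian X := LocallyOfFiniteType.isLocallyNoetherian pX
  refine (ClosedDim.dim_le_iSup_closure _ isClosed_closure).trans (iSup_le ?_)
  rintro ⟨x, hx⟩
  have hx' : x ∈ closure (f '' Set.univ) := by rwa [Set.image_univ]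
  obtain ⟨a, -, hax⟩ :=
    Groth.Agent.H2.exists_specializes_of_mem_closure_image f isClosed_univ hx'
  obtain ⟨N, hN, hsub⟩ := exists_open_inter_closure_subset_range f a
  have h1 : closure ({x} : Set X) ⊆ closure {f a} := by
    apply isClosed_closure.closure_subset_iff.mpr
    rw [Set.singleton_subset_iff]
    exact specializes_iff_mem_closure.mp hax
  have h2 := RelDim.dim_inter_eq_dim pX (closure {f a}) isIrreducible_singleton.closure
    isClosed_closure N ⟨f a, hN, subset_closure rfl⟩
  calc topologicalKrullDim ↥(closure ({x} : Set X))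
      ≤ topologicalKrullDim ↥(closure ({f a} : Set X)) := UOVal.dim_mono' h1
    _ = topologicalKrullDim ↥((N : Set X) ∩ closure {f a}) := h2.symm
    _ ≤ _ := UOVal.dim_mono' hsub

theorem s14901 (k : Type u) [Field k] (S X : Scheme.{u})
    (pS : S ⟶ Spec (CommRingCat.of k)) (pX : X ⟶ Spec (CommRingCat.of k))
    [IsSeparated pS] [LocallyOfFiniteType pS] [QuasiCompact pS]
    [IsSeparated pX] [LocallyOfFiniteType pX] [QuasiCompact pX]
    (f : S ⟶ X) (hf : f ≫ pX = pS) (Z : Set X)
    (h : ∀ s : S, f.base s ∈ Z →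
      topologicalKrullDim (Set.range f.base) + 1 ≤ ringKrullDim (S.presheaf.stalk s)) :
    f.base ⁻¹' Z = ∅ := by
  by_contra hne
  obtain ⟨s₁, hs₁⟩ := Set.nonempty_iff_ne_empty.mpr hne
  haveI : LocallyOfFiniteType (f ≫ pX) := by rw [hf]; infer_instance
  haveI : QuasiCompact (f ≫ pX) := by rw [hf]; infer_instance
  haveI : LocallyOfFiniteType f := locallyOfFiniteType_of_comp f pX
  haveI : QuasiCompact f := QuasiCompact.of_comp f pX
  haveI : IsLocallyNoetherian X := LocallyOfFiniteType.isLocallyNoetherian pX
  haveI : IsLocallyNoetherian S := LocallyOfFiniteType.isLocallyNoetherian pS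
  haveI : CompactSpace X := QuasiCompact.compactSpace_of_compactSpace pX
  have hgi : f.toImage ≫ f.imageι = f := f.toImage_imageι
  haveI : LocallyOfFiniteType (f.toImage ≫ f.imageι) := by rw [hgi]; infer_instance
  haveI : LocallyOfFiniteType f.toImage := locallyOfFiniteType_of_comp f.toImage f.imageι
  haveI : IsLocallyNoetherian f.image :=
    LocallyOfFiniteType.isLocallyNoetherian (f.imageι ≫ pX)
  obtain ⟨ξ', hξ'spec, hξ'0⟩ :=
    GenPts.exists_generization_stalk_dim_eq_zero (f.toImage.asFiber s₁)
  set s := f.toImage.fiberι (f.toImage s₁) ξ' with hs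
  have hgs : f.toImage s = f.toImage s₁ := (f.toImage.range_fiberι (f.toImage s₁)).le ⟨ξ', rfl⟩
  have hfs : f.base s ∈ Z := by
    have e : ∀ t : S, f.imageι (f.toImage t) = f t := fun t => by
      rw [← Scheme.Hom.comp_apply, hgi]
    have e3 : f s = f s₁ := by rw [← e s, ← e s₁, hgs]
    show f s ∈ Z
    rw [e3]
    exact hs₁
  have h1 : topologicalKrullDim ↥(Set.range f) + 1 ≤ ringKrullDim (S.presheaf.stalk s) :=
    h s hfs
  have h2 := DimLoc.stalk_dim_le_add_fiber f.toImage s
  rw [← FlatRelDim.ringKrullDim_fiber_stalk_congr f.toImage s (f.toImage s₁) hgs ξ' rfl, hξ'0,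
    add_zero] at h2
  have h3 : ringKrullDim (f.image.presheaf.stalk (f.toImage s)) ≤ topologicalKrullDim f.image :=
    Groth.Agent.H6.TD.ringKrullDim_stalk_le _ _
  have h4 : topologicalKrullDim f.image = topologicalKrullDim ↥(closure (Set.range f)) := by
    have hr : Set.range f.imageι = closure (Set.range f) := by
      rw [Scheme.IdealSheafData.range_subschemeι, Scheme.Hom.support_ker]
    rw [← hr]
    exact IsHomeomorph.topologicalKrullDim_eq _
      (f.imageι.isEmbedding.toHomeomorph).isHomeomorph
  have h5 := dim_closure_range_le pX f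
  have hA : ringKrullDim (S.presheaf.stalk s) ≤ topologicalKrullDim ↥(Set.range f) :=
    h2.trans (h3.trans (h4.le.trans h5))
  have hlt : ringKrullDim (S.presheaf.stalk s) < ⊤ := ringKrullDim_lt_top
  haveI : Nonempty ↥(Set.range f) := ⟨⟨f s, s, rfl⟩⟩
  have h0 : (0 : WithBot ℕ∞) ≤ topologicalKrullDim ↥(Set.range f) :=
    Groth.Agent.H3.TopDim.dim_nonneg
  have hle : topologicalKrullDim ↥(Set.range f) ≤ topologicalKrullDim ↥(Set.range f) + 1 :=
    le_add_of_nonneg_right zero_le_one
  have htop : topologicalKrullDim ↥(Set.range f) ≠ ⊤ := by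
    intro htop
    have : (⊤ : WithBot ℕ∞) ≤ ringKrullDim (S.presheaf.stalk s) := by
      rw [← htop]
      exact hle.trans h1
    exact absurd hlt (not_lt.mpr this)
  obtain ⟨n, hn⟩ := DimSub.exists_nat_of_ne_top h0 htop
  have h6 := h1.trans hA
  rw [hn] at h6
  have : (n + 1 : ℕ) ≤ n := by exact_mod_cast h6
  omega

end Groth.Agent.H1.ImgDim
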