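import Mathlib
import Groth.Prelude.Def_AlgGrp
import Groth.Prelude.Def_ChGrp
import Groth.Agent.Lib.Helper1.GrpImg
import Groth.Agent.Lib.Helper1.ImgDim
import Groth.Agent.Lib.Helper9.AlgGrpAct
import Groth.Agent.Lib.Helper9.Misc.ORB3

/-! Geometric points of schemes over a field, restriction of an action along a monomorphism,
and the open part of the image of a dominant morphism (towards S14638) (helper1). -/

set_option autoImplicit false
set_option linter.style.haveILetI false
universe u

namespace Groth.Agent.H1.HomogA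

open CategoryTheory CategoryTheory.Limits MonoidalCategory CartesianMonoidalCategory MonObj GrpObj
  AlgebraicGeometry Topology

section Sub

variable {S : Scheme.{u}} {G X E : Over S} [GrpObj G]

/-- an action restricts along a monomorphism through which it factors -/
noncomputable def subAction (a : AlgGrp.Action G X) (φ : E ⟶ X) [Mono φ]
    (actE : G ⊗ E ⟶ E) (h : actE ≫ φ = (G ◁ φ) ≫ a.act) : AlgGrp.Action G E where
  act := actE
  one_act := by
    rw [← cancel_mono φ]
    apply AlgGrp.Action.hom_ext_lift₂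
    intro T u e
    have hu : u ≫ η[G] = 1 := by rw [Hom.one_def, toUnit_unique (toUnit T) u]
    calc lift u e ≫ (η[G] ▷ E ≫ actE) ≫ φ
        = lift u e ≫ η[G] ▷ E ≫ (actE ≫ φ) := by simp only [Category.assoc]
      _ = lift u e ≫ η[G] ▷ E ≫ (G ◁ φ) ≫ a.act := by rw [h]
      _ = lift (1 : T ⟶ G) (e ≫ φ) ≫ a.act := by
          rw [lift_whiskerRight_assoc, lift_whiskerLeft_assoc, hu]
      _ = e ≫ φ := AlgGrp.Action.lift_one_act a _
      _ = lift u e ≫ (λ_ E).hom ≫ φ := by rw [leftUnitor_hom, lift_snd_assoc]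
  mul_act := by
    rw [← cancel_mono φ]
    apply AlgGrp.Action.hom_ext_lift₃
    intro T g g' e
    have h' : ∀ {T' : Over S} (x : T' ⟶ G) (y : T' ⟶ E),
        lift x y ≫ actE ≫ φ = lift x (y ≫ φ) ≫ a.act := by
      intro T' x y
      rw [h, lift_whiskerLeft_assoc]
    calc lift (lift g g') e ≫ (μ[G] ▷ E ≫ actE) ≫ φ
        = lift (lift g g') e ≫ μ[G] ▷ E ≫ actE ≫ φ := by simp only [Category.assoc]
      _ = lift (g * g') e ≫ actE ≫ φ := by rw [lift_whiskerRight_assoc, ← Hom.mul_def]
      _ = lift (g * g') (e ≫ φ) ≫ a.act := h' _ _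
      _ = lift g (lift g' (e ≫ φ) ≫ a.act) ≫ a.act := AlgGrp.Action.lift_mul_act a _ _ _
      _ = lift g (lift g' e ≫ actE ≫ φ) ≫ a.act := by rw [h']
      _ = lift g ((lift g' e ≫ actE) ≫ φ) ≫ a.act := by simp only [Category.assoc]
      _ = lift g (lift g' e ≫ actE) ≫ actE ≫ φ := (h' _ _).symm
      _ = lift (lift g g') e ≫ ((α_ G G E).hom ≫ G ◁ actE ≫ actE) ≫ φ := by
          simp only [Category.assoc]
          rw [lift_lift_associator_hom_assoc, lift_whiskerLeft_assoc]

@[simp] lemma subAction_act (a : AlgGrp.Action G X) (φ : E ⟶ X) [Mono φ]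
    (actE : G ⊗ E ⟶ E) (h : actE ≫ φ = (G ◁ φ) ≫ a.act) : (subAction a φ actE h).act = actE := rfl

end Sub

section Field

variable {k : Type u} [Field k]

/-- every point of a `k`-scheme is the image of a geometric point -/
theorem exists_geomPoint (Y : Over (Spec (CommRingCat.of k))) (y : Y.left) :
    ∃ (Ω : Type u) (_ : Field Ω) (_ : IsAlgClosed Ω)
      (t : Spec (CommRingCat.of Ω) ⟶ Spec (CommRingCat.of k)) (yb : Over.mk t ⟶ Y),
      ∀ pt, yb.left pt = y := by
  obtain ⟨i, hi⟩ : ∃ i : Spec (CommRingCat.of (AlgebraicClosure (Y.left.residueField y))) ⟶ Y.left,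
      i = Spec.map (CommRingCat.ofHom (algebraMap (Y.left.residueField y)
        (AlgebraicClosure (Y.left.residueField y)))) ≫ Y.left.fromSpecResidueField y := ⟨_, rfl⟩
  refine ⟨AlgebraicClosure (Y.left.residueField y), inferInstance, inferInstance, i ≫ Y.hom,
    Over.homMk i rfl, ?_⟩
  intro pt
  show i pt = y
  have h : i pt ∈ Set.range (Y.left.fromSpecResidueField y) := by
    rw [hi, Scheme.Hom.comp_apply]
    exact ⟨_, rfl⟩
  rw [Scheme.range_fromSpecResidueField] at h
  exact h

/-- geometric points lift along morphisms locally of finite type, into a prescribed open -/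
theorem exists_lift_geomPoint {Ω : Type u} [Field Ω] [IsAlgClosed Ω]
    (t : Spec (CommRingCat.of Ω) ⟶ Spec (CommRingCat.of k))
    {Y' Y : Over (Spec (CommRingCat.of k))} (f : Y' ⟶ Y) [LocallyOfFiniteType f.left]
    (V : Set Y'.left) (hV : IsOpen V) (yb : Over.mk t ⟶ Y) (pt : Spec (CommRingCat.of Ω))
    (h : yb.left pt ∈ f.left '' V) :
    ∃ yb' : Over.mk t ⟶ Y', yb' ≫ f = yb ∧ ∀ pt', yb'.left pt' ∈ V := by
  obtain ⟨v, hvV, hv⟩ := h
  obtain ⟨z, hz1, hz2⟩ := Scheme.Pullback.exists_preimage_pullback (f := yb.left) (g := f.left)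
    pt v hv.symm
  obtain ⟨W, hW⟩ : ∃ W : (pullback yb.left f.left).Opens,
      (SetLike.coe W) = pullback.snd yb.left f.left ⁻¹' V :=
    ⟨⟨_, hV.preimage (pullback.snd yb.left f.left).continuous⟩, rfl⟩
  have hzW : z ∈ W := by
    show z ∈ (SetLike.coe W)
    rw [hW]
    show pullback.snd yb.left f.left z ∈ V
    rw [hz2]; exact hvV
  obtain ⟨WO, hWO⟩ : ∃ WO : Over (Spec (CommRingCat.of Ω)),
      WO = Over.mk (W.ι ≫ pullback.fst yb.left f.left) := ⟨_, rfl⟩
  haveI : LocallyOfFiniteType WO.hom := by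
    rw [hWO]
    show LocallyOfFiniteType (W.ι ≫ pullback.fst yb.left f.left)
    infer_instance
  obtain ⟨x, -⟩ := Groth.Agent.H9.ORB3.exists_point_of_closed Ω WO Set.univ isClosed_univ
    (by
      rw [hWO]
      exact @Set.univ_nonempty _ ⟨(⟨z, hzW⟩ : ↥W)⟩)
  subst hWO
  have hx : x.left ≫ W.ι ≫ pullback.fst yb.left f.left = 𝟙 _ := Over.w x
  obtain ⟨l, hl0⟩ : ∃ l : Spec (CommRingCat.of Ω) ⟶ Y'.left,
      l = x.left ≫ W.ι ≫ pullback.snd yb.left f.left := ⟨_, rfl⟩
  have hl : l ≫ f.left = yb.left := by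
    calc l ≫ f.left = x.left ≫ W.ι ≫ (pullback.snd yb.left f.left ≫ f.left) := by
          rw [hl0]; simp only [Category.assoc]
      _ = x.left ≫ W.ι ≫ (pullback.fst yb.left f.left ≫ yb.left) := by rw [pullback.condition]
      _ = (x.left ≫ W.ι ≫ pullback.fst yb.left f.left) ≫ yb.left := by simp only [Category.assoc]
      _ = yb.left := by rw [hx, Category.id_comp]
  have hlw : l ≫ Y'.hom = t := by
    rw [← Over.w f, ← Category.assoc, hl]
    exact Over.w yb
  refine ⟨Over.homMk l hlw, ?_, ?_⟩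
  · apply Over.OverMorphism.ext
    exact hl
  · intro pt'
    show l pt' ∈ V
    have h1 : W.ι (x.left pt') ∈ W := by
      have := Set.mem_range_self (f := W.ι) (x.left pt')
      rwa [Scheme.Opens.range_ι] at this
    have h2 : W.ι (x.left pt') ∈ (SetLike.coe W) := h1
    rw [hW] at h2
    rw [hl0, Scheme.Hom.comp_apply, Scheme.Hom.comp_apply]
    exact h2

/-- a dominant morphism of finite type to an irreducible noetherian scheme contains a nonempty
open subset in its image -/
theorem exists_open_subset_range {A B : Scheme.{u}} (f : A ⟶ B) [LocallyOfFiniteType f]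
    [QuasiCompact f] [IsLocallyNoetherian B] [CompactSpace B] [IrreducibleSpace B]
    (hf : DenseRange f) :
    ∃ W : Set B, IsOpen W ∧ W.Nonempty ∧ W ⊆ Set.range f := by
  haveI : IsNoetherian B := {}
  have hcons : IsConstructible (Set.range f) := by
    rw [← Set.image_univ]
    exact f.isConstructible_image IsConstructible.univ
  rcases Groth.Agent.H1.ImgDim.exists_isOpen_subset_or_subset_compl hcons with
    ⟨U, hU, hne, hsub⟩ | ⟨U, hU, hne, hsub⟩
  · exact ⟨U, hU, hne, hsub⟩
  · exfalso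
    obtain ⟨_, hxU, ⟨x, rfl⟩⟩ := (dense_iff_inter_open.mp hf) U hU hne
    exact hsub hxU ⟨x, rfl⟩

end Field

end Groth.Agent.H1.HomogA
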