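import Mathlib
import Groth.Agent.Lib.Helper1.HomogA
import Groth.Agent.Lib.Helper9.Misc.FLH2

/-! Key lemma for S14638: two points of `G · U₀` are conjugate, where `U₀` is the first projection
of an open subset of the image of the graph morphism (geometric points argument) (helper1). -/

set_option autoImplicit false
set_option linter.style.haveILetI false
universe u

namespace Groth.Agent.H1.HomogB

open CategoryTheory CategoryTheory.Limits MonoidalCategory CartesianMonoidalCategory MonObj GrpObj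
  AlgebraicGeometry Topology Groth.Agent.H1.HomogA Groth.Agent.H9.FLH

variable {k : Type u} [Field k] {G X : Over (Spec (CommRingCat.of k))}

set_option maxHeartbeats 800000 in
/-- given two geometric points `u₁ u₂` of `X` landing in `U₀`, there is a geometric point `z`
with `(u₁, z)` and `(u₂, z)` in `W`. -/
theorem exists_common [LocallyOfFiniteType X.hom] [GeometricallyIntegral X.hom]
    {Ω : Type u} [Field Ω] [IsAlgClosed Ω] (t : Spec (CommRingCat.of Ω) ⟶ Spec (CommRingCat.of k))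
    (W : Set (X ⊗ X).left) (hWo : IsOpen W) (U₀ : Set X.left)
    (hU₀W : ∀ u ∈ U₀, ∃ w ∈ W, (fst X X).left w = u)
    (u₁ u₂ : Over.mk t ⟶ X) (pt : Spec (CommRingCat.of Ω))
    (h₁ : u₁.left pt ∈ U₀) (h₂ : u₂.left pt ∈ U₀) :
    ∃ z : Over.mk t ⟶ X, (lift u₁ z).left pt ∈ W ∧ (lift u₂ z).left pt ∈ W := by
  haveI : IsIntegral ((Over.mk t) ⊗ X).left := by
    show IsIntegral (pullback t X.hom)
    exact GeometricallyIntegral.geometrically_isIntegral (f := X.hom) t (pullback.snd t X.hom)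
      (pullback.fst t X.hom) (IsPullback.of_hasPullback t X.hom).flip
  have hne : ∀ u : Over.mk t ⟶ X, u.left pt ∈ U₀ → ((u ▷ X).left ⁻¹' W).Nonempty := by
    intro u hu
    obtain ⟨w, hwW, hw⟩ := hU₀W _ hu
    have hpb := (Groth.Agent.H1.GrpImg.isPullback_whiskerRight u X).map (Over.forget _)
    obtain ⟨q, hq1, hq2⟩ := Scheme.exists_preimage_of_isPullback hpb w pt hw
    have hq1' : (u ▷ X).left q = w := hq1
    exact ⟨q, by show (u ▷ X).left q ∈ W; rw [hq1']; exact hwW⟩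
  have hop : ∀ u : Over.mk t ⟶ X, IsOpen ((u ▷ X).left ⁻¹' W) :=
    fun u => hWo.preimage (u ▷ X).left.continuous
  obtain ⟨q, hq⟩ := nonempty_preirreducible_inter (hop u₁) (hop u₂) (hne u₁ h₁) (hne u₂ h₂)
  obtain ⟨Wo, hWo'⟩ : ∃ Wo : ((Over.mk t) ⊗ X).left.Opens,
      SetLike.coe Wo = (u₁ ▷ X).left ⁻¹' W ∩ (u₂ ▷ X).left ⁻¹' W :=
    ⟨⟨_, (hop u₁).inter (hop u₂)⟩, rfl⟩
  have hqWo : q ∈ Wo := by
    show q ∈ SetLike.coe Wo
    rw [hWo']; exact hq
  obtain ⟨WO, hWO⟩ : ∃ WO : Over (Spec (CommRingCat.of Ω)),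
      WO = Over.mk (Wo.ι ≫ (fst (Over.mk t) X).left) := ⟨_, rfl⟩
  haveI : LocallyOfFiniteType WO.hom := by
    rw [hWO]
    show LocallyOfFiniteType (Wo.ι ≫ pullback.fst t X.hom)
    infer_instance
  obtain ⟨x, -⟩ := Groth.Agent.H9.ORB3.exists_point_of_closed Ω WO Set.univ isClosed_univ
    (by
      rw [hWO]
      exact @Set.univ_nonempty _ ⟨(⟨q, hqWo⟩ : ↥Wo)⟩)
  subst hWO
  have hx : x.left ≫ Wo.ι ≫ (fst (Over.mk t) X).left = 𝟙 _ := Over.w x
  obtain ⟨s, hs0⟩ : ∃ s : Spec (CommRingCat.of Ω) ⟶ ((Over.mk t) ⊗ X).left,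
      s = x.left ≫ Wo.ι := ⟨_, rfl⟩
  have hs1 : s ≫ (fst (Over.mk t) X).left = 𝟙 _ := by
    rw [hs0, Category.assoc]; exact hx
  have hsW : ∀ pt', s pt' ∈ (u₁ ▷ X).left ⁻¹' W ∩ (u₂ ▷ X).left ⁻¹' W := by
    intro pt'
    have h1 : Wo.ι (x.left pt') ∈ Wo := by
      have := Set.mem_range_self (f := Wo.ι) (x.left pt')
      rwa [Scheme.Opens.range_ι] at this
    have h2 : Wo.ι (x.left pt') ∈ SetLike.coe Wo := h1
    rw [hWo'] at h2
    rw [hs0, Scheme.Hom.comp_apply]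
    exact h2
  have hsw : s ≫ ((Over.mk t) ⊗ X).hom = t := by
    rw [Over.tensorObj_hom, ← Category.assoc]
    have : s ≫ pullback.fst (Over.mk t).hom X.hom = 𝟙 _ := hs1
    rw [this, Category.id_comp]
    rfl
  obtain ⟨sT, hsT⟩ : ∃ sT : Over.mk t ⟶ (Over.mk t) ⊗ X, sT.left = s :=
    ⟨Over.homMk s hsw, rfl⟩
  have hsT1 : sT ≫ fst (Over.mk t) X = 𝟙 _ := by
    apply Over.OverMorphism.ext
    rw [Over.comp_left, hsT, hs1]
    rfl
  have e : ∀ u : Over.mk t ⟶ X, lift u (sT ≫ snd (Over.mk t) X) = sT ≫ (u ▷ X) := by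
    intro u
    apply CartesianMonoidalCategory.hom_ext
    · rw [lift_fst, Category.assoc, whiskerRight_fst, ← Category.assoc, hsT1, Category.id_comp]
    · rw [lift_snd, Category.assoc, whiskerRight_snd]
  refine ⟨sT ≫ snd (Over.mk t) X, ?_, ?_⟩
  · rw [e, Over.comp_left, Scheme.Hom.comp_apply, hsT]
    exact (hsW pt).1
  · rw [e, Over.comp_left, Scheme.Hom.comp_apply, hsT]
    exact (hsW pt).2

variable [GrpObj G] (a : AlgGrp.Action G X)

set_option maxHeartbeats 800000 in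
theorem mem_range_graph [LocallyOfFiniteType G.hom] [LocallyOfFiniteType X.hom]
    [GeometricallyIntegral X.hom]
    (W : Set (X ⊗ X).left) (hWo : IsOpen W)
    (hWI : W ⊆ Set.range (lift (snd G X) a.act).left)
    (U₀ : Set X.left) (hU₀ : IsOpen U₀) (hU₀W : ∀ u ∈ U₀, ∃ w ∈ W, (fst X X).left w = u)
    (p : (X ⊗ X).left)
    (h1 : (fst X X).left p ∈ a.act.left '' ((snd G X).left ⁻¹' U₀))
    (h2 : (snd X X).left p ∈ a.act.left '' ((snd G X).left ⁻¹' U₀)) :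
    p ∈ Set.range (lift (snd G X) a.act).left := by
  obtain ⟨Ω, _, _, t, pb, hpb⟩ := exists_geomPoint (X ⊗ X) p
  obtain ⟨pt⟩ : Nonempty (Spec (CommRingCat.of Ω)) := inferInstance
  obtain ⟨xb, hxb⟩ : ∃ xb : Over.mk t ⟶ X, xb = pb ≫ fst X X := ⟨_, rfl⟩
  obtain ⟨yb, hyb⟩ : ∃ yb : Over.mk t ⟶ X, yb = pb ≫ snd X X := ⟨_, rfl⟩
  have hxpt : xb.left pt = (fst X X).left p := by
    rw [hxb, Over.comp_left, Scheme.Hom.comp_apply, hpb]
  have hypt : yb.left pt = (snd X X).left p := by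
    rw [hyb, Over.comp_left, Scheme.Hom.comp_apply, hpb]
  haveI : LocallyOfFiniteType a.act.left :=
    Groth.Agent.H9.AlgGrpAct.act_left_of_property a @LocallyOfFiniteType inferInstance
  haveI hΓlft : LocallyOfFiniteType (lift (snd G X) a.act).left := by
    have : LocallyOfFiniteType ((lift (snd G X) a.act).left ≫ (X ⊗ X).hom) := by
      rw [Over.w, Over.tensorObj_hom]
      infer_instance
    exact locallyOfFiniteType_of_comp (lift (snd G X) a.act).left (X ⊗ X).hom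
  obtain ⟨t₁, ht₁, ht₁V⟩ := exists_lift_geomPoint t a.act ((snd G X).left ⁻¹' U₀)
    (hU₀.preimage (snd G X).left.continuous) xb pt (by rw [hxpt]; exact h1)
  obtain ⟨t₂, ht₂, ht₂V⟩ := exists_lift_geomPoint t a.act ((snd G X).left ⁻¹' U₀)
    (hU₀.preimage (snd G X).left.continuous) yb pt (by rw [hypt]; exact h2)
  obtain ⟨g₁, hg₁⟩ : ∃ g₁ : Over.mk t ⟶ G, g₁ = t₁ ≫ fst G X := ⟨_, rfl⟩
  obtain ⟨u₁, hu₁⟩ : ∃ u₁ : Over.mk t ⟶ X, u₁ = t₁ ≫ snd G X := ⟨_, rfl⟩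
  obtain ⟨g₂, hg₂⟩ : ∃ g₂ : Over.mk t ⟶ G, g₂ = t₂ ≫ fst G X := ⟨_, rfl⟩
  obtain ⟨u₂, hu₂⟩ : ∃ u₂ : Over.mk t ⟶ X, u₂ = t₂ ≫ snd G X := ⟨_, rfl⟩
  have hlift₁ : lift g₁ u₁ = t₁ := by
    rw [hg₁, hu₁, ← comp_lift, lift_fst_snd, Category.comp_id]
  have hlift₂ : lift g₂ u₂ = t₂ := by
    rw [hg₂, hu₂, ← comp_lift, lift_fst_snd, Category.comp_id]
  have hx' : smul a g₁ u₁ = xb := by unfold smul; rw [hlift₁, ht₁]
  have hy' : smul a g₂ u₂ = yb := by unfold smul; rw [hlift₂, ht₂]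
  have hu₁U : u₁.left pt ∈ U₀ := by
    rw [hu₁, Over.comp_left, Scheme.Hom.comp_apply]; exact ht₁V pt
  have hu₂U : u₂.left pt ∈ U₀ := by
    rw [hu₂, Over.comp_left, Scheme.Hom.comp_apply]; exact ht₂V pt
  obtain ⟨zb, hz₁, hz₂⟩ := exists_common t W hWo U₀ hU₀W u₁ u₂ pt hu₁U hu₂U
  obtain ⟨τ₁, hτ₁, -⟩ := exists_lift_geomPoint t (lift (snd G X) a.act) Set.univ isOpen_univ
    (lift u₁ zb) pt (by rw [Set.image_univ]; exact hWI hz₁)
  obtain ⟨τ₂, hτ₂, -⟩ := exists_lift_geomPoint t (lift (snd G X) a.act) Set.univ isOpen_univ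
    (lift u₂ zb) pt (by rw [Set.image_univ]; exact hWI hz₂)
  have hτ₁s : τ₁ ≫ snd G X = u₁ := by
    have := congrArg (· ≫ fst X X) hτ₁
    simpa using this
  have hτ₁a : τ₁ ≫ a.act = zb := by
    have := congrArg (· ≫ snd X X) hτ₁
    simpa using this
  have hτ₂s : τ₂ ≫ snd G X = u₂ := by
    have := congrArg (· ≫ fst X X) hτ₂
    simpa using this
  have hτ₂a : τ₂ ≫ a.act = zb := by
    have := congrArg (· ≫ snd X X) hτ₂
    simpa using this
  obtain ⟨h₁, hh₁⟩ : ∃ h₁ : Over.mk t ⟶ G, h₁ = τ₁ ≫ fst G X := ⟨_, rfl⟩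
  obtain ⟨h₂, hh₂⟩ : ∃ h₂ : Over.mk t ⟶ G, h₂ = τ₂ ≫ fst G X := ⟨_, rfl⟩
  have hz' : smul a h₁ u₁ = zb := by
    unfold smul
    have : lift h₁ u₁ = τ₁ := by
      rw [hh₁, ← hτ₁s, ← comp_lift, lift_fst_snd, Category.comp_id]
    rw [this, hτ₁a]
  have hz'' : smul a h₂ u₂ = zb := by
    unfold smul
    have : lift h₂ u₂ = τ₂ := by
      rw [hh₂, ← hτ₂s, ← comp_lift, lift_fst_snd, Category.comp_id]
    rw [this, hτ₂a]
  have key : ∀ (g h : Over.mk t ⟶ G) (u v w : Over.mk t ⟶ X), smul a g u = v → smul a h u = w →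
      smul a (g * h⁻¹) w = v := by
    intro g h u v w hv hw
    rw [← hw, ← Groth.Agent.H9.FLH.mul_smul, _root_.mul_assoc, _root_.inv_mul_cancel, _root_.mul_one, hv]
  have e1 := key g₁ h₁ u₁ xb zb hx' hz'
  have e2 := key g₂ h₂ u₂ yb zb hy' hz''
  have e3 := key _ _ zb yb xb e2 e1
  have hfin : lift ((g₂ * h₂⁻¹) * (g₁ * h₁⁻¹)⁻¹) xb ≫ lift (snd G X) a.act = pb := by
    have hp : pb = lift xb yb := by
      rw [hxb, hyb, ← comp_lift, lift_fst_snd, Category.comp_id]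
    rw [hp]
    apply CartesianMonoidalCategory.hom_ext
    · simp
    · rw [Category.assoc, lift_snd, lift_snd]
      exact e3
  refine ⟨(lift ((g₂ * h₂⁻¹) * (g₁ * h₁⁻¹)⁻¹) xb).left pt, ?_⟩
  rw [← Scheme.Hom.comp_apply, ← Over.comp_left, hfin, hpb]

end Groth.Agent.H1.HomogB
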