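import Mathlib
import Groth.Agent.Lib.Helper1.HomogB

/-! S14638: almost homogeneous iff there is a nonempty stable homogeneous open (helper1). -/

set_option autoImplicit false
set_option linter.style.haveILetI false
universe u

namespace Groth.Agent.H1.HomogC

open CategoryTheory CategoryTheory.Limits MonoidalCategory CartesianMonoidalCategory MonObj GrpObj
  AlgebraicGeometry Topology Groth.Agent.H1.HomogA Groth.Agent.H1.HomogB

variable {k : Type u} [Field k] {G X : Over (Spec (CommRingCat.of k))} [GrpObj G]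
  (a : AlgGrp.Action G X)

theorem graph_sq {Xt : Over (Spec (CommRingCat.of k))} (νO : Xt ⟶ X) (actXt : G ⊗ Xt ⟶ Xt)
    (hb : (G ◁ νO) ≫ a.act = actXt ≫ νO) :
    (lift (snd G Xt) actXt).left ≫ (νO ⊗ₘ νO).left =
      (G ◁ νO).left ≫ (lift (snd G X) a.act).left := by
  have hsq : lift (snd G Xt) actXt ≫ (νO ⊗ₘ νO) = (G ◁ νO) ≫ lift (snd G X) a.act := by
    apply CartesianMonoidalCategory.hom_ext
    · simp
    · simp [hb]
  rw [← Over.comp_left, ← Over.comp_left, hsq]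

theorem mem_opens_ι {Y : Scheme.{u}} (U : Y.Opens) (p : ↥U) : U.ι p ∈ U := by
  have := Set.mem_range_self (f := U.ι) p
  rwa [Scheme.Opens.range_ι] at this

theorem denseRange_ι [IsIntegral X.left] (U : X.left.Opens) (hUne : (U : Set X.left).Nonempty) :
    DenseRange (Over.homMk U.ι rfl : Over.mk (U.ι ≫ X.hom) ⟶ X).left := by
  have hd : Dense (U : Set X.left) := U.isOpen.dense hUne
  refine hd.mono ?_
  intro x hx
  exact ⟨⟨x, hx⟩, rfl⟩

/-- `⇐` -/
theorem dominant_of_open [IsIntegral X.left] (U : X.left.Opens) (hUne : (U : Set X.left).Nonempty)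
    (actU : G ⊗ Over.mk (U.ι ≫ X.hom) ⟶ Over.mk (U.ι ≫ X.hom))
    (hb : (G ◁ (Over.homMk U.ι rfl : Over.mk (U.ι ≫ X.hom) ⟶ X)) ≫ a.act =
      actU ≫ Over.homMk U.ι rfl)
    (hs : Surjective (lift (snd G (Over.mk (U.ι ≫ X.hom))) actU).left) :
    IsDominant (lift (snd G X) a.act).left := by
  have hjd := denseRange_ι (X := X) U hUne
  haveI : IsDominant ((Over.homMk U.ι rfl : Over.mk (U.ι ≫ X.hom) ⟶ X) ⊗ₘ
      (Over.homMk U.ι rfl : Over.mk (U.ι ≫ X.hom) ⟶ X)).left :=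
    ⟨Groth.Agent.H1.GrpImg.denseRange_tensorHom _ _ hjd hjd⟩
  haveI : IsDominant ((G ◁ (Over.homMk U.ι rfl : Over.mk (U.ι ≫ X.hom) ⟶ X)).left ≫
      (lift (snd G X) a.act).left) := by
    rw [← graph_sq a _ actU hb]
    infer_instance
  exact IsDominant.of_comp (G ◁ (Over.homMk U.ι rfl : Over.mk (U.ι ≫ X.hom) ⟶ X)).left
    (lift (snd G X) a.act).left

set_option maxHeartbeats 800000 in
/-- uniqueness half -/
theorem le_of_homog [IsIntegral X.left] (U U' : X.left.Opens) (hUne : (U : Set X.left).Nonempty)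
    (hU'ne : (U' : Set X.left).Nonempty)
    (actU : G ⊗ Over.mk (U.ι ≫ X.hom) ⟶ Over.mk (U.ι ≫ X.hom))
    (hb : (G ◁ (Over.homMk U.ι rfl : Over.mk (U.ι ≫ X.hom) ⟶ X)) ≫ a.act =
      actU ≫ Over.homMk U.ι rfl)
    (hs : Surjective (lift (snd G (Over.mk (U.ι ≫ X.hom))) actU).left)
    (actU' : G ⊗ Over.mk (U'.ι ≫ X.hom) ⟶ Over.mk (U'.ι ≫ X.hom))
    (hb' : (G ◁ (Over.homMk U'.ι rfl : Over.mk (U'.ι ≫ X.hom) ⟶ X)) ≫ a.act =
      actU' ≫ Over.homMk U'.ι rfl) : U ≤ U' := by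
  intro y hy
  obtain ⟨x, hxU, hxU'⟩ := nonempty_preirreducible_inter U.isOpen U'.isOpen hUne hU'ne
  obtain ⟨UO, hUO⟩ : ∃ UO : Over (Spec (CommRingCat.of k)), UO = Over.mk (U.ι ≫ X.hom) := ⟨_, rfl⟩
  obtain ⟨jU, hjU⟩ : ∃ jU : Over.mk (U.ι ≫ X.hom) ⟶ X, jU = Over.homMk U.ι rfl := ⟨_, rfl⟩
  obtain ⟨jU', hjU'⟩ : ∃ jU' : Over.mk (U'.ι ≫ X.hom) ⟶ X, jU' = Over.homMk U'.ι rfl := ⟨_, rfl⟩
  rw [← hjU] at hb
  rw [← hjU'] at hb'
  obtain ⟨q, hq1, hq2⟩ := Scheme.Pullback.exists_preimage_pullback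
    (f := (Over.mk (U.ι ≫ X.hom)).hom) (g := (Over.mk (U.ι ≫ X.hom)).hom)
    (⟨x, hxU⟩ : ↥U) (⟨y, hy⟩ : ↥U) (Subsingleton.elim _ _)
  obtain ⟨z', hz'⟩ := hs.surj q
  have e1 : (snd G (Over.mk (U.ι ≫ X.hom))).left z' = (⟨x, hxU⟩ : ↥U) := by
    have h : (lift (snd G (Over.mk (U.ι ≫ X.hom))) actU).left ≫
        (fst (Over.mk (U.ι ≫ X.hom)) (Over.mk (U.ι ≫ X.hom))).left =
        (snd G (Over.mk (U.ι ≫ X.hom))).left := by
      rw [← Over.comp_left, lift_fst]
    rw [← h, Scheme.Hom.comp_apply, hz']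
    exact hq1
  have e2 : actU.left z' = (⟨y, hy⟩ : ↥U) := by
    have h : (lift (snd G (Over.mk (U.ι ≫ X.hom))) actU).left ≫
        (snd (Over.mk (U.ι ≫ X.hom)) (Over.mk (U.ι ≫ X.hom))).left = actU.left := by
      rw [← Over.comp_left, lift_snd]
    rw [← h, Scheme.Hom.comp_apply, hz']
    exact hq2
  have e3 : (snd G X).left ((G ◁ jU).left z') = x := by
    rw [← Scheme.Hom.comp_apply, ← Over.comp_left, whiskerLeft_snd, Over.comp_left,
      Scheme.Hom.comp_apply, e1, hjU]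
    rfl
  have hr : (G ◁ jU).left z' ∈ Set.range (G ◁ jU').left := by
    rw [Over.whiskerLeft_left, Scheme.Pullback.range_map]
    refine ⟨⟨_, rfl⟩, ?_⟩
    show (snd G X).left ((G ◁ jU).left z') ∈ Set.range jU'.left
    rw [e3, hjU']
    exact ⟨⟨x, hxU'⟩, rfl⟩
  obtain ⟨z'', hz''⟩ := hr
  have e4 : a.act.left ((G ◁ jU).left z') = y := by
    have h : (G ◁ jU).left ≫ a.act.left = actU.left ≫ jU.left := by
      rw [← Over.comp_left, ← Over.comp_left, hb]
    rw [← Scheme.Hom.comp_apply, h, Scheme.Hom.comp_apply, e2, hjU]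
    rfl
  have e5 : a.act.left ((G ◁ jU').left z'') ∈ U' := by
    have h : (G ◁ jU').left ≫ a.act.left = actU'.left ≫ jU'.left := by
      rw [← Over.comp_left, ← Over.comp_left, hb']
    rw [← Scheme.Hom.comp_apply, h, Scheme.Hom.comp_apply, hjU']
    exact mem_opens_ι U' _
  rw [hz'', e4] at e5
  exact e5

set_option maxHeartbeats 1600000 in
/-- `⇒` -/
theorem exists_open_homog [LocallyOfFiniteType G.hom] [QuasiCompact G.hom]
    [LocallyOfFiniteType X.hom] [QuasiCompact X.hom] [GeometricallyIntegral X.hom]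
    (hΓ : IsDominant (lift (snd G X) a.act).left) :
    ∃ U : X.left.Opens, (U : Set X.left).Nonempty ∧
      ∃ b : AlgGrp.Action G (Over.mk (U.ι ≫ X.hom)),
        (G ◁ (Over.homMk U.ι rfl : Over.mk (U.ι ≫ X.hom) ⟶ X)) ≫ a.act =
          b.act ≫ Over.homMk U.ι rfl ∧
        Surjective (lift (snd G (Over.mk (U.ι ≫ X.hom))) b.act).left := by
  haveI : IsIntegral X.left := GeometricallyIntegral.isIntegral_of_subsingleton X.hom
  haveI : IsLocallyNoetherian X.left := LocallyOfFiniteType.isLocallyNoetherian X.hom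
  haveI : IsIntegral (X ⊗ X).left := by
    show IsIntegral (pullback X.hom X.hom)
    infer_instance
  haveI : LocallyOfFiniteType (X ⊗ X).hom := by rw [Over.tensorObj_hom]; infer_instance
  haveI : QuasiCompact (X ⊗ X).hom := by rw [Over.tensorObj_hom]; infer_instance
  haveI : LocallyOfFiniteType (G ⊗ X).hom := by rw [Over.tensorObj_hom]; infer_instance
  haveI : QuasiCompact (G ⊗ X).hom := by rw [Over.tensorObj_hom]; infer_instance
  haveI : IsLocallyNoetherian (X ⊗ X).left := LocallyOfFiniteType.isLocallyNoetherian (X ⊗ X).hom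
  haveI : CompactSpace (X ⊗ X).left := QuasiCompact.compactSpace_of_compactSpace (X ⊗ X).hom
  haveI : CompactSpace (G ⊗ X).left := QuasiCompact.compactSpace_of_compactSpace (G ⊗ X).hom
  haveI hΓlft : LocallyOfFiniteType (lift (snd G X) a.act).left := by
    have : LocallyOfFiniteType ((lift (snd G X) a.act).left ≫ (X ⊗ X).hom) := by
      rw [Over.w]; infer_instance
    exact locallyOfFiniteType_of_comp (lift (snd G X) a.act).left (X ⊗ X).hom
  haveI : QuasiCompact (lift (snd G X) a.act).left := inferInstance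
  obtain ⟨W, hWo, hWne, hWI⟩ := exists_open_subset_range (lift (snd G X) a.act).left hΓ.1
  haveI : UniversallyOpen (fst X X).left := by rw [Over.fst_left]; infer_instance
  haveI : UniversallyOpen (snd G X).left := by rw [Over.snd_left]; infer_instance
  haveI : UniversallyOpen a.act.left :=
    Groth.Agent.H9.AlgGrpAct.act_left_of_property a @UniversallyOpen inferInstance
  obtain ⟨U₀, hU₀def⟩ : ∃ U₀ : Set X.left, U₀ = (fst X X).left '' W := ⟨_, rfl⟩
  have hU₀ : IsOpen U₀ := by rw [hU₀def]; exact (fst X X).left.isOpenMap _ hWo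
  have hU₀W : ∀ u ∈ U₀, ∃ w ∈ W, (fst X X).left w = u := by
    intro u hu
    rw [hU₀def] at hu
    obtain ⟨w, hw, e⟩ := hu
    exact ⟨w, hw, e⟩
  have hU₀ne : U₀.Nonempty := by
    obtain ⟨w, hw⟩ := hWne
    exact ⟨(fst X X).left w, by rw [hU₀def]; exact ⟨w, hw, rfl⟩⟩
  obtain ⟨U, hUdef⟩ : ∃ U : X.left.Opens,
      SetLike.coe U = a.act.left '' ((snd G X).left ⁻¹' U₀) :=
    ⟨⟨_, a.act.left.isOpenMap _ (hU₀.preimage (snd G X).left.continuous)⟩, rfl⟩
  have hmemU : ∀ x : X.left, x ∈ U ↔ x ∈ a.act.left '' ((snd G X).left ⁻¹' U₀) := by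
    intro x
    rw [← hUdef]; rfl
  have hUne : (U : Set X.left).Nonempty := by
    obtain ⟨u, hu⟩ := hU₀ne
    refine ⟨u, ?_⟩
    show u ∈ SetLike.coe U
    rw [hUdef]
    exact Groth.Agent.H9.AlgGrpAct.subset_image_act a U₀ hu
  have hstab : ∀ z : (G ⊗ X).left, (snd G X).left z ∈ U → a.act.left z ∈ U := by
    intro z hz
    rw [hmemU] at hz ⊢
    exact Groth.Agent.H9.AlgGrpAct.image_act_image_act_subset a U₀ ⟨z, hz, rfl⟩
  obtain ⟨jU, hjU⟩ : ∃ jU : Over.mk (U.ι ≫ X.hom) ⟶ X, jU = Over.homMk U.ι rfl := ⟨_, rfl⟩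
  have hjUl : jU.left = U.ι := by rw [hjU]; rfl
  haveI : IsOpenImmersion jU.left := by rw [hjUl]; infer_instance
  haveI : Mono jU.left := inferInstance
  haveI : Mono jU := (Over.forget _).mono_of_mono_map (inferInstanceAs (Mono jU.left))
  have hjmem : ∀ p : (Over.mk (U.ι ≫ X.hom)).left, jU.left p ∈ U := by
    intro p
    rw [hjUl]
    exact mem_opens_ι U p
  have hrange : Set.range ((G ◁ jU) ≫ a.act).left ⊆ Set.range U.ι := by
    rintro _ ⟨z, rfl⟩
    rw [Scheme.Opens.range_ι]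
    show ((G ◁ jU) ≫ a.act).left z ∈ U
    rw [Over.comp_left, Scheme.Hom.comp_apply]
    apply hstab
    rw [← Scheme.Hom.comp_apply, ← Over.comp_left, whiskerLeft_snd, Over.comp_left,
      Scheme.Hom.comp_apply]
    exact hjmem _
  obtain ⟨actU0, hactU0⟩ : ∃ actU0 : (G ⊗ Over.mk (U.ι ≫ X.hom)).left ⟶ (U : Scheme.{u}),
      actU0 ≫ U.ι = ((G ◁ jU) ≫ a.act).left :=
    ⟨IsOpenImmersion.lift U.ι ((G ◁ jU) ≫ a.act).left hrange, IsOpenImmersion.lift_fac _ _ _⟩
  have hactU0w : actU0 ≫ (Over.mk (U.ι ≫ X.hom)).hom = (G ⊗ Over.mk (U.ι ≫ X.hom)).hom := by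
    show actU0 ≫ U.ι ≫ X.hom = _
    rw [← Category.assoc, hactU0]
    exact Over.w _
  obtain ⟨actU, hactU⟩ : ∃ actU : G ⊗ Over.mk (U.ι ≫ X.hom) ⟶ Over.mk (U.ι ≫ X.hom),
      actU.left = actU0 := ⟨Over.homMk actU0 hactU0w, rfl⟩
  have hbU : actU ≫ jU = (G ◁ jU) ≫ a.act := by
    apply Over.OverMorphism.ext
    rw [Over.comp_left, hactU, hjUl]
    exact hactU0
  refine ⟨U, hUne, subAction a jU actU hbU, ?_, ⟨fun q => ?_⟩⟩
  · rw [subAction_act, ← hjU]
    exact hbU.symm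
  · rw [subAction_act]
    have hsq := graph_sq a jU actU hbU.symm
    have h1 : (jU ⊗ₘ jU).left ≫ (fst X X).left =
        (fst (Over.mk (U.ι ≫ X.hom)) (Over.mk (U.ι ≫ X.hom))).left ≫ jU.left := by
      rw [← Over.comp_left, ← Over.comp_left, tensorHom_fst]
    have h2 : (jU ⊗ₘ jU).left ≫ (snd X X).left =
        (snd (Over.mk (U.ι ≫ X.hom)) (Over.mk (U.ι ≫ X.hom))).left ≫ jU.left := by
      rw [← Over.comp_left, ← Over.comp_left, tensorHom_snd]
    have hp1 : (fst X X).left ((jU ⊗ₘ jU).left q) ∈ a.act.left '' ((snd G X).left ⁻¹' U₀) := by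
      rw [← hmemU, ← Scheme.Hom.comp_apply, h1, Scheme.Hom.comp_apply]
      exact hjmem _
    have hp2 : (snd X X).left ((jU ⊗ₘ jU).left q) ∈ a.act.left '' ((snd G X).left ⁻¹' U₀) := by
      rw [← hmemU, ← Scheme.Hom.comp_apply, h2, Scheme.Hom.comp_apply]
      exact hjmem _
    obtain ⟨z, hz⟩ := mem_range_graph a W hWo hWI U₀ hU₀ hU₀W _ hp1 hp2
    have hzs : (snd G X).left z ∈ U := by
      have h : (lift (snd G X) a.act).left ≫ (fst X X).left = (snd G X).left := by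
        rw [← Over.comp_left, lift_fst]
      rw [← h, Scheme.Hom.comp_apply, hz, hmemU]
      exact hp1
    have hzr : z ∈ Set.range (G ◁ jU).left := by
      rw [Over.whiskerLeft_left, Scheme.Pullback.range_map]
      refine ⟨⟨_, rfl⟩, ?_⟩
      show (snd G X).left z ∈ Set.range jU.left
      rw [hjUl, Scheme.Opens.range_ι]
      exact hzs
    obtain ⟨z', hz'⟩ := hzr
    refine ⟨z', ?_⟩
    haveI : IsOpenImmersion (jU ⊗ₘ jU).left := by
      rw [Over.tensorHom_left]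
      exact MorphismProperty.pullbackMap (P := @IsOpenImmersion) ‹_› ‹_› (Over.w jU).symm
        (Over.w jU).symm
    apply (jU ⊗ₘ jU).left.isOpenEmbedding.injective
    rw [← Scheme.Hom.comp_apply, hsq, Scheme.Hom.comp_apply, hz', hz]

end Groth.Agent.H1.HomogC
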