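import Mathlib
import Groth.Agent.Lib.Helper1.HomogC
import Groth.Agent.Lib.Helper1.GrpComm

/-! S14640: homogeneity under a smooth group and under its identity component
(geometric points, finiteness of the component group, normality of the identity component)
(helper1). -/

set_option autoImplicit false
set_option linter.style.haveILetI false
universe u

namespace Groth.Agent.H1.HomogD

open CategoryTheory CategoryTheory.Limits MonoidalCategory CartesianMonoidalCategory MonObj
  AlgebraicGeometry Topology Groth.Agent.H1.HomogA Groth.Agent.H1.HomogB Groth.Agent.H9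

section Points

theorem exists_sec {k : Type u} [Field k] {Ω : Type u} [Field Ω]
    (t : Spec (CommRingCat.of Ω) ⟶ Spec (CommRingCat.of k))
    {Y : Over (Spec (CommRingCat.of k))}
    (s : Spec (CommRingCat.of Ω) ⟶ ((Over.mk t) ⊗ Y).left)
    (hs1 : s ≫ (fst (Over.mk t) Y).left = 𝟙 _) :
    ∃ z : Over.mk t ⟶ Y, (lift (𝟙 (Over.mk t)) z).left = s := by
  have hsw : s ≫ ((Over.mk t) ⊗ Y).hom = t := by
    rw [Over.tensorObj_hom, ← Category.assoc]
    have : s ≫ pullback.fst (Over.mk t).hom Y.hom = 𝟙 _ := hs1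
    rw [this, Category.id_comp]
    rfl
  obtain ⟨sT, hsT⟩ : ∃ sT : Over.mk t ⟶ (Over.mk t) ⊗ Y, sT.left = s :=
    ⟨Over.homMk s hsw, rfl⟩
  have hsT1 : sT ≫ fst (Over.mk t) Y = 𝟙 _ := by
    apply Over.OverMorphism.ext
    rw [Over.comp_left, hsT, hs1]
    rfl
  refine ⟨sT ≫ snd (Over.mk t) Y, ?_⟩
  have e : lift (𝟙 (Over.mk t)) (sT ≫ snd (Over.mk t) Y) = sT := by
    apply CartesianMonoidalCategory.hom_ext
    · rw [lift_fst, hsT1]
    · rw [lift_snd]
  rw [e, hsT]

theorem exists_sec_mem_open {k : Type u} [Field k] {Ω : Type u} [Field Ω] [IsAlgClosed Ω]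
    (t : Spec (CommRingCat.of Ω) ⟶ Spec (CommRingCat.of k))
    {Y : Over (Spec (CommRingCat.of k))} [LocallyOfFiniteType Y.hom]
    (A : Set ((Over.mk t) ⊗ Y).left) (hA : IsOpen A) (hne : A.Nonempty)
    (pt : Spec (CommRingCat.of Ω)) :
    ∃ z : Over.mk t ⟶ Y, (lift (𝟙 (Over.mk t)) z).left pt ∈ A := by
  obtain ⟨q, hq⟩ := hne
  obtain ⟨Wo, hWo'⟩ : ∃ Wo : ((Over.mk t) ⊗ Y).left.Opens, SetLike.coe Wo = A := ⟨⟨_, hA⟩, rfl⟩
  have hqWo : q ∈ Wo := by
    show q ∈ SetLike.coe Wo
    rw [hWo']; exact hq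
  obtain ⟨WO, hWO⟩ : ∃ WO : Over (Spec (CommRingCat.of Ω)),
      WO = Over.mk (Wo.ι ≫ (fst (Over.mk t) Y).left) := ⟨_, rfl⟩
  haveI : LocallyOfFiniteType WO.hom := by
    rw [hWO]
    show LocallyOfFiniteType (Wo.ι ≫ pullback.fst t Y.hom)
    infer_instance
  obtain ⟨x, -⟩ := Groth.Agent.H9.ORB3.exists_point_of_closed Ω WO Set.univ isClosed_univ
    (by
      rw [hWO]
      exact @Set.univ_nonempty _ ⟨(⟨q, hqWo⟩ : ↥Wo)⟩)
  subst hWO
  have hx : x.left ≫ Wo.ι ≫ (fst (Over.mk t) Y).left = 𝟙 _ := Over.w x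
  obtain ⟨z, hz⟩ := exists_sec t (x.left ≫ Wo.ι) (by rw [Category.assoc]; exact hx)
  refine ⟨z, ?_⟩
  rw [hz, Scheme.Hom.comp_apply]
  have h1 : Wo.ι (x.left pt) ∈ Wo := by
    have := Set.mem_range_self (f := Wo.ι) (x.left pt)
    rwa [Scheme.Opens.range_ι] at this
  have h2 : Wo.ι (x.left pt) ∈ SetLike.coe Wo := h1
  rw [hWo'] at h2
  exact h2

theorem exists_sec_mem_closed {k : Type u} [Field k] {Ω : Type u} [Field Ω] [IsAlgClosed Ω]
    (t : Spec (CommRingCat.of Ω) ⟶ Spec (CommRingCat.of k))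
    {Y : Over (Spec (CommRingCat.of k))} [LocallyOfFiniteType Y.hom]
    (F : Set ((Over.mk t) ⊗ Y).left) (hF : IsClosed F) (hne : F.Nonempty)
    (pt : Spec (CommRingCat.of Ω)) :
    ∃ z : Over.mk t ⟶ Y, (lift (𝟙 (Over.mk t)) z).left pt ∈ F := by
  haveI : LocallyOfFiniteType
      (Over.mk ((fst (Over.mk t) Y).left) : Over (Spec (CommRingCat.of Ω))).hom := by
    show LocallyOfFiniteType (pullback.fst t Y.hom)
    infer_instance
  obtain ⟨x, hx⟩ := Groth.Agent.H9.ORB3.exists_point_of_closed Ω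
    (Over.mk ((fst (Over.mk t) Y).left) : Over (Spec (CommRingCat.of Ω))) F hF hne
  have hx1 : x.left ≫ (fst (Over.mk t) Y).left = 𝟙 _ := Over.w x
  obtain ⟨z, hz⟩ := exists_sec t x.left hx1
  exact ⟨z, by rw [hz]; exact hx ⟨pt, rfl⟩⟩

theorem exists_smul_eq_of_mem_range {k : Type u} [Field k] {Ω : Type u} [Field Ω] [IsAlgClosed Ω]
    (t : Spec (CommRingCat.of Ω) ⟶ Spec (CommRingCat.of k))
    {H X : Over (Spec (CommRingCat.of k))} [GrpObj H]
    (c : AlgGrp.Action H X) [LocallyOfFiniteType H.hom] [LocallyOfFiniteType X.hom]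
    (x y : Over.mk t ⟶ X) (pt : Spec (CommRingCat.of Ω))
    (h : (lift x y).left pt ∈ Set.range (lift (snd H X) c.act).left) :
    ∃ g : Over.mk t ⟶ H, FLH.smul c g x = y := by
  haveI : LocallyOfFiniteType c.act.left :=
    Groth.Agent.H9.AlgGrpAct.act_left_of_property c @LocallyOfFiniteType inferInstance
  haveI hΓlft : LocallyOfFiniteType (lift (snd H X) c.act).left := by
    have : LocallyOfFiniteType ((lift (snd H X) c.act).left ≫ (X ⊗ X).hom) := by
      rw [Over.w, Over.tensorObj_hom]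
      infer_instance
    exact locallyOfFiniteType_of_comp (lift (snd H X) c.act).left (X ⊗ X).hom
  obtain ⟨t₁, ht₁, -⟩ := exists_lift_geomPoint t (lift (snd H X) c.act) Set.univ isOpen_univ
    (lift x y) pt (by rw [Set.image_univ]; exact h)
  refine ⟨t₁ ≫ fst H X, ?_⟩
  have h1 : t₁ ≫ snd H X = x := by
    have := congrArg (· ≫ fst X X) ht₁
    simp only [Category.assoc, lift_fst] at this
    exact this
  have h2 : t₁ ≫ c.act = y := by
    have := congrArg (· ≫ snd X X) ht₁
    simp only [Category.assoc, lift_snd] at this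
    exact this
  unfold FLH.smul
  rw [← h1, ← comp_lift, lift_fst_snd, Category.comp_id, h2]

theorem mem_range_of_smul_eq {k : Type u} [Field k] {Ω : Type u} [Field Ω]
    (t : Spec (CommRingCat.of Ω) ⟶ Spec (CommRingCat.of k))
    {H X : Over (Spec (CommRingCat.of k))} [GrpObj H]
    (c : AlgGrp.Action H X) (x : Over.mk t ⟶ X) (g : Over.mk t ⟶ H)
    (pt : Spec (CommRingCat.of Ω)) :
    (lift x (FLH.smul c g x)).left pt ∈ Set.range (lift (snd H X) c.act).left := by
  have e : lift g x ≫ lift (snd H X) c.act = lift x (FLH.smul c g x) := by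
    unfold FLH.smul
    rw [comp_lift, lift_snd]
  rw [← e, Over.comp_left, Scheme.Hom.comp_apply]
  exact ⟨_, rfl⟩

theorem exists_factor_of_mem_range {k : Type u} [Field k] {Ω : Type u} [Field Ω]
    (t : Spec (CommRingCat.of Ω) ⟶ Spec (CommRingCat.of k))
    {G0 G : Over (Spec (CommRingCat.of k))} (i : G0 ⟶ G)
    [IsOpenImmersion i.left] (c : Over.mk t ⟶ G) (pt : Spec (CommRingCat.of Ω))
    (h : c.left pt ∈ Set.range i.left) : ∃ c0 : Over.mk t ⟶ G0, c0 ≫ i = c := by
  have hr : Set.range c.left ⊆ Set.range i.left := by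
    rintro _ ⟨pt', rfl⟩
    rw [@Subsingleton.elim (Spec (CommRingCat.of Ω)) _ pt' pt]
    exact h
  have hfac : IsOpenImmersion.lift i.left c.left hr ≫ i.left = c.left :=
    IsOpenImmersion.lift_fac _ _ _
  have hw : IsOpenImmersion.lift i.left c.left hr ≫ G0.hom = (Over.mk t).hom := by
    rw [← Over.w i, ← Category.assoc, hfac, Over.w c]
  refine ⟨Over.homMk (IsOpenImmersion.lift i.left c.left hr) hw, ?_⟩
  apply Over.OverMorphism.ext
  rw [Over.comp_left]
  exact hfac

end Points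

section Normal

theorem range_conj_subset {k : Type u} [Field k]
    {G G0 : Over (Spec (CommRingCat.of k))} [GrpObj G] [GrpObj G0]
    (i : G0 ⟶ G) [IsMonHom i] [ConnectedSpace ↥G0.left]
    (hi : Set.range i.left.base =
      connectedComponent ((η[G]).left.base (IsLocalRing.closedPoint k))) :
    Set.range ((fst G G0) * (snd G G0 ≫ i) * (fst G G0)⁻¹ : G ⊗ G0 ⟶ G).left ⊆
      Set.range i.left := by
  haveI : GeometricallyConnected G0.hom :=
    Groth.Agent.H1.GrpComm.geometricallyConnected_of_connected G0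
  haveI : GeometricallyConnected (fst G G0).left := by
    show GeometricallyConnected (pullback.fst G.hom G0.hom)
    infer_instance
  obtain ⟨c, hc⟩ : ∃ c : G ⊗ G0 ⟶ G, c = (fst G G0) * (snd G G0 ≫ i) * (fst G G0)⁻¹ :=
    ⟨_, rfl⟩
  rw [← hc]
  rintro _ ⟨q, rfl⟩
  obtain ⟨gm, hgm⟩ : ∃ gm, gm = (fst G G0).left q := ⟨_, rfl⟩
  have hconn := (fst G G0).left.isConnected_preimage_singleton gm
  obtain ⟨σ, hσ⟩ : ∃ σ : G ⟶ G ⊗ G0, σ = lift (𝟙 G) (toUnit G ≫ η[G0]) := ⟨_, rfl⟩
  have hσ1 : σ ≫ fst G G0 = 𝟙 G := by rw [hσ, lift_fst]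
  have hσB : σ ≫ (snd G G0 ≫ i) = (1 : G ⟶ G) := by
    rw [hσ, lift_snd_assoc, Category.assoc, IsMonHom.one_hom i, Hom.one_def]
  have hσc : σ ≫ c = (1 : G ⟶ G) := by
    rw [hc, MonObj.comp_mul, MonObj.comp_mul, GrpObj.comp_inv, hσ1, hσB, _root_.mul_one,
      _root_.mul_inv_cancel]
  have hi' : Set.range i.left =
      connectedComponent ((η[G]).left (IsLocalRing.closedPoint k)) := hi
  have himg : c.left '' ((fst G G0).left ⁻¹' {gm}) ⊆
      connectedComponent ((η[G]).left (IsLocalRing.closedPoint k)) := by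
    apply IsPreconnected.subset_connectedComponent
    · exact (hconn.image _ c.left.continuous.continuousOn).isPreconnected
    · refine ⟨σ.left gm, ?_, ?_⟩
      · show (fst G G0).left (σ.left gm) ∈ ({gm} : Set G.left)
        rw [← Scheme.Hom.comp_apply, ← Over.comp_left, hσ1]
        simp
      · have hpt : (toUnit G).left gm = IsLocalRing.closedPoint k :=
          @Subsingleton.elim (Spec (CommRingCat.of k)) _ _ _
        rw [← Scheme.Hom.comp_apply, ← Over.comp_left, hσc, Hom.one_def, Over.comp_left,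
          Scheme.Hom.comp_apply, hpt]
  rw [← hi'] at himg
  exact himg ⟨q, by simp [hgm], rfl⟩

theorem exists_conj_pt {k : Type u} [Field k] {Ω : Type u} [Field Ω]
    (t : Spec (CommRingCat.of Ω) ⟶ Spec (CommRingCat.of k))
    {G G0 : Over (Spec (CommRingCat.of k))} [GrpObj G] [GrpObj G0]
    (i : G0 ⟶ G) [IsMonHom i] [IsOpenImmersion i.left] [ConnectedSpace ↥G0.left]
    (hi : Set.range i.left.base =
      connectedComponent ((η[G]).left.base (IsLocalRing.closedPoint k)))
    (g : Over.mk t ⟶ G) (h : Over.mk t ⟶ G0) (pt : Spec (CommRingCat.of Ω)) :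
    ∃ h' : Over.mk t ⟶ G0, h' ≫ i = g * (h ≫ i) * g⁻¹ := by
  apply exists_factor_of_mem_range t i _ pt
  have e : g * (h ≫ i) * g⁻¹ =
      lift g h ≫ ((fst G G0) * (snd G G0 ≫ i) * (fst G G0)⁻¹ : G ⊗ G0 ⟶ G) := by
    rw [MonObj.comp_mul, MonObj.comp_mul, GrpObj.comp_inv, lift_fst, lift_snd_assoc]
  rw [e, Over.comp_left, Scheme.Hom.comp_apply]
  exact range_conj_subset i hi ⟨_, rfl⟩

end Normal

section Cosets

theorem exists_finset_cosets {k : Type u} [Field k] {Ω : Type u} [Field Ω] [IsAlgClosed Ω]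
    (t : Spec (CommRingCat.of Ω) ⟶ Spec (CommRingCat.of k))
    {G G0 : Over (Spec (CommRingCat.of k))} [GrpObj G] [GrpObj G0]
    [LocallyOfFiniteType G.hom] [QuasiCompact G.hom]
    (i : G0 ⟶ G) [IsMonHom i] [IsOpenImmersion i.left] (pt : Spec (CommRingCat.of Ω)) :
    ∃ fs : Finset (Over.mk t ⟶ G), ∀ h : Over.mk t ⟶ G,
      ∃ g ∈ fs, ∃ c0 : Over.mk t ⟶ G0, h = g * (c0 ≫ i) := by
  haveI hqc : QuasiCompact (fst (Over.mk t) G).left := by
    show QuasiCompact (pullback.fst t G.hom)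
    infer_instance
  haveI hcs : CompactSpace ((Over.mk t) ⊗ G).left :=
    @QuasiCompact.compactSpace_of_compactSpace _ _ (fst (Over.mk t) G).left hqc
      (inferInstanceAs (CompactSpace (Spec (CommRingCat.of Ω))))
  obtain ⟨ψ, hψ⟩ : ∃ ψ : (Over.mk t ⟶ G) → ((Over.mk t) ⊗ G ⟶ G),
      ∀ g, ψ g = (fst (Over.mk t) G ≫ g)⁻¹ * snd (Over.mk t) G := ⟨fun g => _, fun g => rfl⟩
  have hψ_sec : ∀ (g h : Over.mk t ⟶ G), lift (𝟙 (Over.mk t)) h ≫ ψ g = g⁻¹ * h := by
    intro g h
    rw [hψ g, MonObj.comp_mul, GrpObj.comp_inv, lift_snd, lift_fst_assoc, Category.id_comp]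
  have hopen : ∀ g, IsOpen ((ψ g).left ⁻¹' Set.range i.left) := fun g =>
    i.left.isOpenEmbedding.isOpen_range.preimage (ψ g).left.continuous
  have hcover : (Set.univ : Set ((Over.mk t) ⊗ G).left) ⊆
      ⋃ g, (ψ g).left ⁻¹' Set.range i.left := by
    by_contra hnot
    have hne : ((⋃ g, (ψ g).left ⁻¹' Set.range i.left)ᶜ :
        Set ((Over.mk t) ⊗ G).left).Nonempty := by
      rw [Set.not_subset] at hnot
      obtain ⟨q, -, hq⟩ := hnot
      exact ⟨q, hq⟩
    obtain ⟨z, hz⟩ := exists_sec_mem_closed t _ (isOpen_iUnion hopen).isClosed_compl hne pt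
    apply hz
    refine Set.mem_iUnion.mpr ⟨z, ?_⟩
    show (ψ z).left ((lift (𝟙 (Over.mk t)) z).left pt) ∈ Set.range i.left
    rw [← Scheme.Hom.comp_apply, ← Over.comp_left, hψ_sec, _root_.inv_mul_cancel, Hom.one_def,
      ← IsMonHom.one_hom i, ← Category.assoc, Over.comp_left, Scheme.Hom.comp_apply]
    exact ⟨_, rfl⟩
  obtain ⟨fs, hfs⟩ := isCompact_univ.elim_finite_subcover _ hopen hcover
  refine ⟨fs, fun h => ?_⟩
  obtain ⟨g, hg, hq⟩ := Set.mem_iUnion₂.mp
    (hfs (Set.mem_univ ((lift (𝟙 (Over.mk t)) h).left pt)))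
  have hq' : (g⁻¹ * h).left pt ∈ Set.range i.left := by
    have h2 : (ψ g).left ((lift (𝟙 (Over.mk t)) h).left pt) ∈ Set.range i.left := hq
    rwa [← Scheme.Hom.comp_apply, ← Over.comp_left, hψ_sec] at h2
  obtain ⟨c0, hc0⟩ := exists_factor_of_mem_range t i (g⁻¹ * h) pt hq'
  refine ⟨g, hg, c0, ?_⟩
  rw [hc0, _root_.mul_inv_cancel_left]

lemma exists_dense_of_biUnion {B : Type*} [TopologicalSpace B] [IrreducibleSpace B] {J : Type*}
    (fs : Finset J) (S : J → Set B) (h : Dense (⋃ j ∈ fs, S j)) : ∃ j ∈ fs, Dense (S j) := by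
  classical
  have hirr : IsIrreducible (Set.univ : Set B) := IrreducibleSpace.isIrreducible_univ B
  have key := (isIrreducible_iff_sUnion_isClosed.mp hirr) (fs.image (fun j => closure (S j)))
    (by
      intro z hz
      obtain ⟨j, -, rfl⟩ := Finset.mem_image.mp hz
      exact isClosed_closure)
    (by
      intro b _
      have hb : b ∈ closure (⋃ j ∈ fs, S j) := h b
      rw [Finset.closure_biUnion] at hb
      obtain ⟨j, hj, hbj⟩ := Set.mem_iUnion₂.mp hb
      exact Set.mem_sUnion.mpr ⟨closure (S j),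
        Finset.mem_coe.mpr (Finset.mem_image.mpr ⟨j, hj, rfl⟩), hbj⟩)
  obtain ⟨z, hz, hzu⟩ := key
  obtain ⟨j, hj, rfl⟩ := Finset.mem_image.mp hz
  exact ⟨j, hj, fun b => hzu (Set.mem_univ b)⟩

end Cosets

section Orbit

set_option maxHeartbeats 1600000 in
theorem orbit_eq {k : Type u} [Field k] {Ω : Type u} [Field Ω] [IsAlgClosed Ω]
    (t : Spec (CommRingCat.of Ω) ⟶ Spec (CommRingCat.of k))
    {G G0 X : Over (Spec (CommRingCat.of k))} [GrpObj G] [GrpObj G0]
    [LocallyOfFiniteType G.hom] [QuasiCompact G.hom]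
    (i : G0 ⟶ G) [IsMonHom i] [IsOpenImmersion i.left] [ConnectedSpace ↥G0.left]
    (hi : Set.range i.left.base =
      connectedComponent ((η[G]).left.base (IsLocalRing.closedPoint k)))
    [LocallyOfFiniteType X.hom] [QuasiCompact X.hom] [GeometricallyIntegral X.hom]
    (a : AlgGrp.Action G X) (pt : Spec (CommRingCat.of Ω))
    (U : Set X.left) (hUo : IsOpen U)
    (htrans : ∀ x y : Over.mk t ⟶ X, x.left pt ∈ U → y.left pt ∈ U →
      ∃ g : Over.mk t ⟶ G, FLH.smul a g x = y)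
    (x y : Over.mk t ⟶ X) (hx : x.left pt ∈ U) (hy : y.left pt ∈ U) :
    ∃ g0 : Over.mk t ⟶ G0, FLH.smul a (g0 ≫ i) x = y := by
  haveI hG0lft : LocallyOfFiniteType G0.hom := by rw [← Over.w i]; infer_instance
  haveI hG0qc : QuasiCompact G0.hom := Groth.Agent.H1.GrpComm.quasiCompact_of_connected G0
  haveI hint : IsIntegral ((Over.mk t) ⊗ X).left := by
    show IsIntegral (pullback t X.hom)
    exact GeometricallyIntegral.geometrically_isIntegral (f := X.hom) t (pullback.snd t X.hom)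
      (pullback.fst t X.hom) (IsPullback.of_hasPullback t X.hom).flip
  haveI hXlft : LocallyOfFiniteType (fst (Over.mk t) X).left := by
    show LocallyOfFiniteType (pullback.fst t X.hom)
    infer_instance
  haveI hXqc : QuasiCompact (fst (Over.mk t) X).left := by
    show QuasiCompact (pullback.fst t X.hom)
    infer_instance
  haveI hXnoe : IsLocallyNoetherian ((Over.mk t) ⊗ X).left :=
    @LocallyOfFiniteType.isLocallyNoetherian _ _ (fst (Over.mk t) X).left hXlft
      (inferInstanceAs (IsLocallyNoetherian (Spec (CommRingCat.of Ω))))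
  haveI hXc : CompactSpace ((Over.mk t) ⊗ X).left :=
    @QuasiCompact.compactSpace_of_compactSpace _ _ (fst (Over.mk t) X).left hXqc
      (inferInstanceAs (CompactSpace (Spec (CommRingCat.of Ω))))
  haveI hG0lft' : LocallyOfFiniteType (fst (Over.mk t) G0).left := by
    show LocallyOfFiniteType (pullback.fst t G0.hom)
    infer_instance
  haveI hG0qc' : QuasiCompact (fst (Over.mk t) G0).left := by
    show QuasiCompact (pullback.fst t G0.hom)
    infer_instance
  haveI hG0noe : IsLocallyNoetherian ((Over.mk t) ⊗ G0).left :=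
    @LocallyOfFiniteType.isLocallyNoetherian _ _ (fst (Over.mk t) G0).left hG0lft'
      (inferInstanceAs (IsLocallyNoetherian (Spec (CommRingCat.of Ω))))
  haveI hG0c : CompactSpace ((Over.mk t) ⊗ G0).left :=
    @QuasiCompact.compactSpace_of_compactSpace _ _ (fst (Over.mk t) G0).left hG0qc'
      (inferInstanceAs (CompactSpace (Spec (CommRingCat.of Ω))))
  haveI : IsNoetherian ((Over.mk t) ⊗ G0).left := {}
  haveI : IrreducibleSpace ((Over.mk t) ⊗ X).left := inferInstance
  -- the orbit maps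
  obtain ⟨o, ho⟩ : ∃ o : (Over.mk t ⟶ G) → ((Over.mk t) ⊗ G0 ⟶ (Over.mk t) ⊗ X),
      ∀ g, o g = lift (fst (Over.mk t) G0)
        (FLH.smul a ((fst (Over.mk t) G0 ≫ g) * (snd (Over.mk t) G0 ≫ i))
          (fst (Over.mk t) G0 ≫ x)) := ⟨fun g => _, fun g => rfl⟩
  have ho_fst : ∀ g, o g ≫ fst (Over.mk t) X = fst (Over.mk t) G0 := by
    intro g; rw [ho g]; exact lift_fst _ _
  have ho_sec : ∀ (g : Over.mk t ⟶ G) (c0 : Over.mk t ⟶ G0),
      lift (𝟙 (Over.mk t)) c0 ≫ o g =
        lift (𝟙 (Over.mk t)) (FLH.smul a (g * (c0 ≫ i)) x) := by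
    intro g c0
    rw [ho g]
    simp only [comp_lift, lift_fst, FLH.comp_smul, MonObj.comp_mul, lift_fst_assoc,
      lift_snd_assoc, Category.id_comp]
  -- translations
  obtain ⟨τ, hτ⟩ : ∃ τ : (Over.mk t ⟶ G) → ((Over.mk t) ⊗ X ⟶ (Over.mk t) ⊗ X),
      ∀ gm, τ gm = lift (fst (Over.mk t) X)
        (FLH.smul a (fst (Over.mk t) X ≫ gm) (snd (Over.mk t) X)) := ⟨fun gm => _, fun gm => rfl⟩
  have hτ_sec : ∀ (gm : Over.mk t ⟶ G) (z : Over.mk t ⟶ X),
      lift (𝟙 (Over.mk t)) z ≫ τ gm = lift (𝟙 (Over.mk t)) (FLH.smul a gm z) := by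
    intro gm z
    rw [hτ gm]
    simp only [comp_lift, lift_fst, FLH.comp_smul, lift_fst_assoc, lift_snd, Category.id_comp]
  -- finitely many cosets
  obtain ⟨fs, hfs⟩ := exists_finset_cosets t i pt
  have hdense : Dense (⋃ g ∈ fs, Set.range (o g).left) := by
    rw [dense_iff_inter_open]
    intro A hA hAne
    have hB : IsOpen ((snd (Over.mk t) X).left ⁻¹' U) :=
      hUo.preimage (snd (Over.mk t) X).left.continuous
    have hBne : ((snd (Over.mk t) X).left ⁻¹' U).Nonempty := by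
      refine ⟨(lift (𝟙 (Over.mk t)) x).left pt, ?_⟩
      show (snd (Over.mk t) X).left ((lift (𝟙 (Over.mk t)) x).left pt) ∈ U
      rw [← Scheme.Hom.comp_apply, ← Over.comp_left, lift_snd]
      exact hx
    obtain ⟨z, hz⟩ := exists_sec_mem_open t (A ∩ (snd (Over.mk t) X).left ⁻¹' U) (hA.inter hB)
      (nonempty_preirreducible_inter hA hB hAne hBne) pt
    have hzU : z.left pt ∈ U := by
      have h2 := hz.2
      change (snd (Over.mk t) X).left ((lift (𝟙 (Over.mk t)) z).left pt) ∈ U at h2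
      rwa [← Scheme.Hom.comp_apply, ← Over.comp_left, lift_snd] at h2
    obtain ⟨h, hh⟩ := htrans x z hx hzU
    obtain ⟨g, hg, c0, hc0⟩ := hfs h
    refine ⟨(lift (𝟙 (Over.mk t)) z).left pt, hz.1, ?_⟩
    refine Set.mem_iUnion₂.mpr ⟨g, hg, ⟨(lift (𝟙 (Over.mk t)) c0).left pt, ?_⟩⟩
    rw [← Scheme.Hom.comp_apply, ← Over.comp_left, ho_sec, ← hc0, hh]
  obtain ⟨g₁, hg₁, hd₁⟩ := exists_dense_of_biUnion fs (fun g => Set.range (o g).left) hdense
  haveI hlft_o : LocallyOfFiniteType (o g₁).left := by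
    have : LocallyOfFiniteType ((o g₁).left ≫ (fst (Over.mk t) X).left) := by
      rw [← Over.comp_left, ho_fst]
      exact hG0lft'
    exact locallyOfFiniteType_of_comp (o g₁).left (fst (Over.mk t) X).left
  haveI hqc_o : QuasiCompact (o g₁).left := inferInstance
  obtain ⟨W, hWo, hWne, hWsub⟩ := exists_open_subset_range (o g₁).left hd₁
  -- section points in the range of `o g₁`
  have hmem_o : ∀ z : Over.mk t ⟶ X,
      (lift (𝟙 (Over.mk t)) z).left pt ∈ Set.range (o g₁).left →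
      ∃ c : Over.mk t ⟶ G0, z = FLH.smul a (g₁ * (c ≫ i)) x := by
    intro z hz
    obtain ⟨t₁, ht₁, -⟩ := exists_lift_geomPoint t (o g₁) Set.univ isOpen_univ
      (lift (𝟙 (Over.mk t)) z) pt (by rw [Set.image_univ]; exact hz)
    have h1 : t₁ ≫ fst (Over.mk t) G0 = 𝟙 _ := by
      have := congrArg (· ≫ fst (Over.mk t) X) ht₁
      simp only [Category.assoc, lift_fst, ho_fst] at this
      exact this
    have h2 : t₁ = lift (𝟙 (Over.mk t)) (t₁ ≫ snd (Over.mk t) G0) := by
      apply CartesianMonoidalCategory.hom_ext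
      · rw [lift_fst, h1]
      · rw [lift_snd]
    refine ⟨t₁ ≫ snd (Over.mk t) G0, ?_⟩
    have h3 := ht₁
    rw [h2, ho_sec] at h3
    have h4 := congrArg (· ≫ snd (Over.mk t) X) h3
    simp only [lift_snd] at h4
    exact h4.symm
  -- the translate
  obtain ⟨δ, hδ⟩ := htrans x y hx hy
  obtain ⟨gm, hgm⟩ : ∃ gm : Over.mk t ⟶ G, gm = g₁ * δ * g₁⁻¹ := ⟨_, rfl⟩
  have hW2o : IsOpen ((τ gm).left ⁻¹' W) := hWo.preimage (τ gm).left.continuous
  have hW2ne : ((τ gm).left ⁻¹' W).Nonempty := by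
    obtain ⟨v, hv⟩ := exists_sec_mem_open t W hWo hWne pt
    refine ⟨(lift (𝟙 (Over.mk t)) (FLH.smul a gm⁻¹ v)).left pt, ?_⟩
    show (τ gm).left ((lift (𝟙 (Over.mk t)) (FLH.smul a gm⁻¹ v)).left pt) ∈ W
    rw [← Scheme.Hom.comp_apply, ← Over.comp_left, hτ_sec, ← FLH.mul_smul,
      _root_.mul_inv_cancel, FLH.one_smul]
    exact hv
  obtain ⟨z, hz⟩ := exists_sec_mem_open t (W ∩ (τ gm).left ⁻¹' W) (hWo.inter hW2o)
    (nonempty_preirreducible_inter hWo hW2o hWne hW2ne) pt
  obtain ⟨c, hc⟩ := hmem_o z (hWsub hz.1)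
  have hz2 : (lift (𝟙 (Over.mk t)) (FLH.smul a gm z)).left pt ∈ W := by
    have h2 := hz.2
    change (τ gm).left ((lift (𝟙 (Over.mk t)) z).left pt) ∈ W at h2
    rwa [← Scheme.Hom.comp_apply, ← Over.comp_left, hτ_sec] at h2
  obtain ⟨c', hc'⟩ := hmem_o _ (hWsub hz2)
  obtain ⟨c'', hc''⟩ := exists_conj_pt t i hi δ c pt
  have hstar : FLH.smul a (δ * (c ≫ i)) x = FLH.smul a (c' ≫ i) x := by
    have h1 : FLH.smul a (gm * (g₁ * (c ≫ i))) x = FLH.smul a (g₁ * (c' ≫ i)) x := by
      rw [FLH.mul_smul a gm (g₁ * (c ≫ i)) x, ← hc, hc']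
    have h2 := congrArg (FLH.smul a g₁⁻¹) h1
    rw [← FLH.mul_smul, ← FLH.mul_smul] at h2
    have e1 : g₁⁻¹ * (gm * (g₁ * (c ≫ i))) = δ * (c ≫ i) := by rw [hgm]; group
    have e2 : g₁⁻¹ * (g₁ * (c' ≫ i)) = c' ≫ i := by group
    rw [e1, e2] at h2
    exact h2
  refine ⟨c''⁻¹ * c', ?_⟩
  rw [MonObj.mul_comp, GrpObj.inv_comp, hc'', FLH.mul_smul, ← hstar, ← FLH.mul_smul, ← hδ]
  congr 1
  group

end Orbit

section Main

set_option maxHeartbeats 1600000 in
theorem main (k : Type u) [Field k]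
    (G G0 X : Over (Spec (CommRingCat.of k))) [GrpObj G] [Smooth G.hom] [QuasiCompact G.hom]
    [GrpObj G0] (i : G0 ⟶ G) [IsMonHom i] [IsOpenImmersion i.left] [ConnectedSpace ↥G0.left]
    (hi : Set.range i.left.base =
      connectedComponent ((η[G]).left.base (IsLocalRing.closedPoint k)))
    [IsSeparated X.hom] [LocallyOfFiniteType X.hom] [QuasiCompact X.hom]
    [GeometricallyIntegral X.hom]
    (a : AlgGrp.Action G X) (a0 : AlgGrp.Action G0 X) (ha0 : a0.act = (i ▷ X) ≫ a.act) :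
    (Surjective (lift (snd G X) a.act).left ↔ Surjective (lift (snd G0 X) a0.act).left) ∧
    (IsDominant (lift (snd G X) a.act).left ↔
      IsDominant (lift (snd G0 X) a0.act).left) := by
  have hΓ0 : lift (snd G0 X) a0.act = (i ▷ X) ≫ lift (snd G X) a.act := by
    rw [comp_lift, whiskerRight_snd, ha0]
  have hΓ0L : (lift (snd G0 X) a0.act).left = (i ▷ X).left ≫ (lift (snd G X) a.act).left := by
    rw [hΓ0, Over.comp_left]
  have hsm : ∀ {T : Over (Spec (CommRingCat.of k))} (g0 : T ⟶ G0) (x : T ⟶ X),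
      FLH.smul a0 g0 x = FLH.smul a (g0 ≫ i) x := by
    intro T g0 x
    unfold FLH.smul
    rw [ha0, ← Category.assoc, lift_whiskerRight]
  haveI : LocallyOfFiniteType G.hom := inferInstance
  have key : ∀ (U : Set X.left), IsOpen U →
      (∀ p : (X ⊗ X).left, (fst X X).left p ∈ U → (snd X X).left p ∈ U →
        p ∈ Set.range (lift (snd G X) a.act).left) →
      ∀ p : (X ⊗ X).left, (fst X X).left p ∈ U → (snd X X).left p ∈ U →
        p ∈ Set.range (lift (snd G0 X) a0.act).left := by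
    intro U hUo hG p hp1 hp2
    obtain ⟨Ω, _, _, t, pb, hpb⟩ := exists_geomPoint (X ⊗ X) p
    obtain ⟨pt⟩ : Nonempty (Spec (CommRingCat.of Ω)) := inferInstance
    obtain ⟨xb, hxb⟩ : ∃ xb : Over.mk t ⟶ X, xb = pb ≫ fst X X := ⟨_, rfl⟩
    obtain ⟨yb, hyb⟩ : ∃ yb : Over.mk t ⟶ X, yb = pb ≫ snd X X := ⟨_, rfl⟩
    have hlift : lift xb yb = pb := by
      rw [hxb, hyb, ← comp_lift, lift_fst_snd, Category.comp_id]
    have hxpt : xb.left pt = (fst X X).left p := by
      rw [hxb, Over.comp_left, Scheme.Hom.comp_apply, hpb]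
    have hypt : yb.left pt = (snd X X).left p := by
      rw [hyb, Over.comp_left, Scheme.Hom.comp_apply, hpb]
    have htrans : ∀ x y : Over.mk t ⟶ X, x.left pt ∈ U → y.left pt ∈ U →
        ∃ g : Over.mk t ⟶ G, FLH.smul a g x = y := by
      intro x y hx hy
      apply exists_smul_eq_of_mem_range t a x y pt
      apply hG
      · rw [← Scheme.Hom.comp_apply, ← Over.comp_left, lift_fst]; exact hx
      · rw [← Scheme.Hom.comp_apply, ← Over.comp_left, lift_snd]; exact hy
    obtain ⟨g0, hg0⟩ := orbit_eq t i hi a pt U hUo htrans xb yb (by rw [hxpt]; exact hp1)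
      (by rw [hypt]; exact hp2)
    have h1 := mem_range_of_smul_eq t a0 xb g0 pt
    rw [hsm, hg0, hlift, hpb] at h1
    exact h1
  constructor
  · constructor
    · intro hs
      refine ⟨fun p => ?_⟩
      exact key Set.univ isOpen_univ (fun p _ _ => hs.surj p) p trivial trivial
    · intro hs
      rw [hΓ0L] at hs
      exact Surjective.of_comp (i ▷ X).left (lift (snd G X) a.act).left
  · constructor
    · intro hd
      haveI : IsIntegral X.left := GeometricallyIntegral.isIntegral_of_subsingleton X.hom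
      obtain ⟨U, hUne, b, hbU, hsU⟩ := Groth.Agent.H1.HomogC.exists_open_homog a hd
      have hG : ∀ p : (X ⊗ X).left, (fst X X).left p ∈ (U : Set X.left) →
          (snd X X).left p ∈ (U : Set X.left) →
          p ∈ Set.range (lift (snd G X) a.act).left := by
        intro p hp1 hp2
        obtain ⟨Ω, _, _, t, pb, hpb⟩ := exists_geomPoint (X ⊗ X) p
        obtain ⟨pt⟩ : Nonempty (Spec (CommRingCat.of Ω)) := inferInstance
        obtain ⟨xb, hxb⟩ : ∃ xb : Over.mk t ⟶ X, xb = pb ≫ fst X X := ⟨_, rfl⟩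
        obtain ⟨yb, hyb⟩ : ∃ yb : Over.mk t ⟶ X, yb = pb ≫ snd X X := ⟨_, rfl⟩
        have hlift : lift xb yb = pb := by
          rw [hxb, hyb, ← comp_lift, lift_fst_snd, Category.comp_id]
        have hxpt : xb.left pt = (fst X X).left p := by
          rw [hxb, Over.comp_left, Scheme.Hom.comp_apply, hpb]
        have hypt : yb.left pt = (snd X X).left p := by
          rw [hyb, Over.comp_left, Scheme.Hom.comp_apply, hpb]
        obtain ⟨j, hj⟩ : ∃ j : Over.mk (U.ι ≫ X.hom) ⟶ X, j = Over.homMk U.ι rfl := ⟨_, rfl⟩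
        haveI : IsOpenImmersion j.left := by
          rw [hj]; exact inferInstanceAs (IsOpenImmersion U.ι)
        have hrj : Set.range j.left = (U : Set X.left) := by
          rw [hj]; exact Scheme.Opens.range_ι U
        have hbj : (G ◁ j) ≫ a.act = b.act ≫ j := by rw [hj]; exact hbU
        obtain ⟨x', hx'⟩ := exists_factor_of_mem_range t j xb pt
          (by rw [hrj, hxpt]; exact hp1)
        obtain ⟨y', hy'⟩ := exists_factor_of_mem_range t j yb pt
          (by rw [hrj, hypt]; exact hp2)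
        haveI : LocallyOfFiniteType (Over.mk (U.ι ≫ X.hom)).hom :=
          inferInstanceAs (LocallyOfFiniteType (U.ι ≫ X.hom))
        obtain ⟨g, hg⟩ := exists_smul_eq_of_mem_range t b x' y' pt (hsU.surj _)
        have hgx : FLH.smul a g xb = yb := by
          calc FLH.smul a g xb = lift g (x' ≫ j) ≫ a.act := by rw [hx']; rfl
            _ = (lift g x' ≫ (G ◁ j)) ≫ a.act := by rw [lift_whiskerLeft]
            _ = lift g x' ≫ ((G ◁ j) ≫ a.act) := Category.assoc _ _ _
            _ = lift g x' ≫ (b.act ≫ j) := by rw [hbj]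
            _ = (lift g x' ≫ b.act) ≫ j := (Category.assoc _ _ _).symm
            _ = y' ≫ j := by rw [← hg]; rfl
            _ = yb := hy'
        have h1 := mem_range_of_smul_eq t a xb g pt
        rw [hgx, hlift, hpb] at h1
        exact h1
      haveI : IsLocallyNoetherian X.left := LocallyOfFiniteType.isLocallyNoetherian X.hom
      haveI : IsIntegral (X ⊗ X).left := by
        show IsIntegral (pullback X.hom X.hom)
        infer_instance
      have hD : ((fst X X).left ⁻¹' (U : Set X.left) ∩ (snd X X).left ⁻¹' (U : Set X.left)) ⊆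
          Set.range (lift (snd G0 X) a0.act).left :=
        fun p hp => key U U.isOpen hG p hp.1 hp.2
      have hDo : IsOpen ((fst X X).left ⁻¹' (U : Set X.left) ∩
          (snd X X).left ⁻¹' (U : Set X.left)) :=
        (U.isOpen.preimage (fst X X).left.continuous).inter
          (U.isOpen.preimage (snd X X).left.continuous)
      have hDne : ((fst X X).left ⁻¹' (U : Set X.left) ∩
          (snd X X).left ⁻¹' (U : Set X.left)).Nonempty := by
        obtain ⟨u, hu⟩ := hUne
        refine ⟨(lift (𝟙 X) (𝟙 X)).left u, ?_, ?_⟩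
        · show (fst X X).left ((lift (𝟙 X) (𝟙 X)).left u) ∈ (U : Set X.left)
          rw [← Scheme.Hom.comp_apply, ← Over.comp_left, lift_fst]
          simpa using hu
        · show (snd X X).left ((lift (𝟙 X) (𝟙 X)).left u) ∈ (U : Set X.left)
          rw [← Scheme.Hom.comp_apply, ← Over.comp_left, lift_snd]
          simpa using hu
      exact ⟨(hDo.dense hDne).mono hD⟩
    · intro hd
      rw [hΓ0L] at hd
      exact IsDominant.of_comp (i ▷ X).left (lift (snd G X) a.act).left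

end Main

end Groth.Agent.H1.HomogD
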