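import Mathlib

set_option autoImplicit false
universe u

namespace Groth.Agent.Lib.Helper1.Hyp

open Matrix

section MF

variable {S : Type u} [CommRing S] [IsDomain S]

/-- A left inverse up to `f` gives injectivity. -/
lemma mulVec_injective_of_mul_eq {b : ℕ} (f : S) (hf : f ≠ 0) (A B : Matrix (Fin b) (Fin b) S)
    (hBA : B * A = f • (1 : Matrix (Fin b) (Fin b) S)) :
    Function.Injective A.mulVec := by
  intro v w hvw
  have h1 : (B * A) *ᵥ v = (B * A) *ᵥ w := by
    rw [← Matrix.mulVec_mulVec, ← Matrix.mulVec_mulVec, hvw]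
  rw [hBA, Matrix.smul_mulVec, Matrix.smul_mulVec, Matrix.one_mulVec, Matrix.one_mulVec] at h1
  funext i
  have := congrFun h1 i
  simp only [Pi.smul_apply, smul_eq_mul] at this
  exact mul_left_cancel₀ hf this

/-- Existence of a matrix factorization from a presentation with free kernel. -/
theorem exists_matrixFactorization (f : S) (hf : f ≠ 0) {M : Type u} [AddCommGroup M] [Module S M]
    (hfM : ∀ m : M, f • m = 0) (b : ℕ) (p : (Fin b → S) →ₗ[S] M)
    [Module.Free S (LinearMap.ker p)] [Module.Finite S (LinearMap.ker p)] :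
    ∃ φ ψ : Matrix (Fin b) (Fin b) S, φ * ψ = f • (1 : Matrix (Fin b) (Fin b) S) ∧
      ψ * φ = f • (1 : Matrix (Fin b) (Fin b) S) ∧
      LinearMap.range φ.mulVecLin = LinearMap.ker p := by
  classical
  set K := LinearMap.ker p with hK
  have hfK : ∀ v : Fin b → S, f • v ∈ K := by
    intro v
    rw [hK, LinearMap.mem_ker, map_smul, hfM]
  let μ : (Fin b → S) →ₗ[S] K := LinearMap.codRestrict K (f • LinearMap.id) hfK
  have hμ : Function.Injective μ := by
    intro v w hvw
    have : f • v = f • w := congrArg Subtype.val hvw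
    funext i
    have := congrFun this i
    simp only [Pi.smul_apply, smul_eq_mul] at this
    exact mul_left_cancel₀ hf this
  have hrank : Module.finrank S K = b := by
    apply le_antisymm
    · have := Submodule.finrank_le K
      simpa using this
    · have := LinearMap.finrank_le_finrank_of_injective hμ
      simpa using this
  let bas := Module.finBasisOfFinrankEq S K hrank
  let e : (Fin b → S) ≃ₗ[S] K := bas.equivFun.symm
  let φ' : (Fin b → S) →ₗ[S] (Fin b → S) := K.subtype ∘ₗ e.toLinearMap
  let ψ' : (Fin b → S) →ₗ[S] (Fin b → S) := e.symm.toLinearMap ∘ₗ μ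
  refine ⟨LinearMap.toMatrix' φ', LinearMap.toMatrix' ψ', ?_, ?_, ?_⟩
  · rw [← LinearMap.toMatrix'_comp]
    have : φ' ∘ₗ ψ' = f • LinearMap.id := by
      apply LinearMap.ext
      intro v
      simp only [φ', ψ', LinearMap.coe_comp, LinearEquiv.coe_coe, Function.comp_apply,
        LinearEquiv.apply_symm_apply, Submodule.coe_subtype]
      rfl
    rw [this, map_smul, LinearMap.toMatrix'_id]
  · rw [← LinearMap.toMatrix'_comp]
    have : ψ' ∘ₗ φ' = f • LinearMap.id := by
      apply LinearMap.ext
      intro v
      simp only [φ', ψ', LinearMap.coe_comp, LinearEquiv.coe_coe, Function.comp_apply,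
        Submodule.coe_subtype]
      have : μ (e v : Fin b → S) = f • e v := by
        apply Subtype.ext
        rfl
      rw [this, map_smul, LinearEquiv.symm_apply_apply]
      rfl
    rw [this, map_smul, LinearMap.toMatrix'_id]
  · have h : (LinearMap.toMatrix' φ').mulVecLin = φ' := by
      apply LinearMap.ext
      intro v
      rw [Matrix.mulVecLin_apply, LinearMap.toMatrix'_mulVec]
    rw [h]
    simp only [φ']
    rw [LinearMap.range_comp, LinearEquiv.range, Submodule.map_top, Submodule.range_subtype]

end MF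

section Red

variable {S R : Type u} [CommRing S] [IsDomain S] [CommRing R]

/-- Exactness of the reduction of a matrix factorization. -/
theorem ker_map_eq_range_map (π : S →+* R) (hπ : Function.Surjective π) (f : S) (hf : f ≠ 0)
    (hker : RingHom.ker π = Ideal.span {f}) {b : ℕ} (A B : Matrix (Fin b) (Fin b) S)
    (hAB : A * B = f • (1 : Matrix (Fin b) (Fin b) S))
    (hBA : B * A = f • (1 : Matrix (Fin b) (Fin b) S)) :
    LinearMap.ker (A.map π).mulVecLin = LinearMap.range (B.map π).mulVecLin := by
  have hπf : π f = 0 := by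
    rw [← RingHom.mem_ker, hker]; exact Ideal.mem_span_singleton_self f
  apply le_antisymm
  · intro v hv
    rw [LinearMap.mem_ker, Matrix.mulVecLin_apply] at hv
    choose v' hv' using fun i => hπ (v i)
    have hvv : π ∘ v' = v := funext hv'
    have h1 : ∀ i, (A *ᵥ v') i ∈ Ideal.span {f} := by
      intro i
      rw [← hker, RingHom.mem_ker, RingHom.map_mulVec, hvv, hv]
      rfl
    choose w hw using fun i => Ideal.mem_span_singleton'.1 (h1 i)
    have h2 : A *ᵥ v' = A *ᵥ (B *ᵥ w) := by
      rw [Matrix.mulVec_mulVec, hAB, Matrix.smul_mulVec, Matrix.one_mulVec]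
      funext i
      rw [Pi.smul_apply, smul_eq_mul, mul_comm, hw i]
    have h3 : v' = B *ᵥ w := mulVec_injective_of_mul_eq f hf A B hBA h2
    refine ⟨π ∘ w, ?_⟩
    rw [Matrix.mulVecLin_apply, ← hvv, h3]
    funext i
    rw [Function.comp_apply, RingHom.map_mulVec]
  · rintro _ ⟨w, rfl⟩
    rw [LinearMap.mem_ker, Matrix.mulVecLin_apply, Matrix.mulVecLin_apply, Matrix.mulVec_mulVec,
      ← Matrix.map_mul, hAB]
    have : (f • (1 : Matrix (Fin b) (Fin b) S)).map π = 0 := by
      ext i j
      simp [Matrix.map_apply, hπf]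
    rw [this, Matrix.zero_mulVec]

end Red

end Groth.Agent.Lib.Helper1.Hyp
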