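import Mathlib
import Groth.Agent.Lib.Helper1.Hyp1
import Groth.Agent.Lib.Helper1.AusBuchReg
import Groth.Agent.Lib.Helper9.MultCrvExt
import Groth.Agent.Lib.Helper7.Reg1

set_option autoImplicit false
universe u

namespace Groth.Agent.Lib.Helper1.Hyp

open CategoryTheory IsLocalRing

section FreeKer

variable (S : Type u) [CommRing S] [IsRegularLocalRing S]

/-- Over a two-dimensional regular local ring, a finite module with a regular element in the
maximal ideal has projective dimension `≤ 1`. -/
theorem hasProjectiveDimensionLT_two (hS : ringKrullDim S = 2)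
    (M : Type u) [AddCommGroup M] [Module S M] [Module.Finite S M] (x : S)
    (hx : x ∈ maximalIdeal S) (hreg : IsSMulRegular M x) :
    HasProjectiveDimensionLT (ModuleCat.of S M) 2 := by
  by_cases hM : Nontrivial M
  · have hS' : ringKrullDim S = ((2 : ℕ) : WithBot ℕ∞) := by rw [hS]; rfl
    obtain ⟨e, -, h1, h2⟩ := Groth.Agent.H1.AB.exists_pd 2 hS' M
    have hab := Groth.Agent.H1.AB.auslander_buchsbaum M e h1 h2
    rw [Groth.Agent.H1.AB.depth_eq_of_isRegularLocalRing 2 hS'] at hab
    have hd := Groth.Agent.H1.AB.depth_ne_zero_of_isSMulRegular M x hx hreg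
    have he : e ≤ 1 := by
      by_contra hcon
      push Not at hcon
      have h2e : (2 : ℕ∞) ≤ (e : ℕ∞) := by exact_mod_cast hcon
      have : (1 : ℕ∞) ≤ LocCoh.depth S M := Order.one_le_iff_pos.mpr (pos_iff_ne_zero.mpr hd)
      have h3 : (2 : ℕ∞) + 1 ≤ (e : ℕ∞) + LocCoh.depth S M := add_le_add h2e this
      rw [← hab] at h3
      norm_num at h3
    exact hasProjectiveDimensionLT_of_ge _ (e + 1) 2 (by omega)
  · rw [not_nontrivial_iff_subsingleton] at hM
    have hz : Limits.IsZero (ModuleCat.of S M) := ModuleCat.isZero_of_subsingleton _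
    haveI := hz.hasProjectiveDimensionLT_zero
    exact hasProjectiveDimensionLT_of_ge _ 0 2 (by omega)

theorem free_ker (hS : ringKrullDim S = 2)
    (M : Type u) [AddCommGroup M] [Module S M] [Module.Finite S M] (x : S)
    (hx : x ∈ maximalIdeal S) (hreg : IsSMulRegular M x)
    (b : ℕ) (p : (Fin b → S) →ₗ[S] M) (hp : Function.Surjective p) :
    Module.Free S (LinearMap.ker p) := by
  have hpd := hasProjectiveDimensionLT_two S hS M x hx hreg
  have hSE := Groth.Agent.H9.MC.kerSC_shortExact p hp
  haveI : Projective (Groth.Agent.H9.MC.kerSC p).X₂ :=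
    (IsProjective.iff_projective (R := S) (Fin b → S)).mp inferInstance
  have h2 : HasProjectiveDimensionLT (Groth.Agent.H9.MC.kerSC p).X₂ 1 :=
    projective_iff_hasProjectiveDimensionLT_one.mp inferInstance
  have h1 : HasProjectiveDimensionLT (Groth.Agent.H9.MC.kerSC p).X₁ 1 :=
    hSE.hasProjectiveDimensionLT_X₁ 1 h2 hpd
  have hP : Projective (ModuleCat.of S (LinearMap.ker p)) :=
    projective_iff_hasProjectiveDimensionLT_one.mpr h1
  haveI : Module.Projective S (LinearMap.ker p) :=
    (IsProjective.iff_projective (R := S) (P := LinearMap.ker p)).mpr hP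
  exact Module.free_of_flat_of_isLocalRing

end FreeKer

end Groth.Agent.Lib.Helper1.Hyp
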