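import Mathlib
import Groth.Agent.Lib.Helper1.Hyp2
import Groth.Agent.Lib.Helper2.MatRes

set_option autoImplicit false
universe u

namespace Groth.Agent.Lib.Helper1.Hyp

open CategoryTheory IsLocalRing Matrix

/-- The data of a 2-periodic free resolution. -/
structure PerData (R : Type u) [CommRing R] (M : Type u) [AddCommGroup M] [Module R M] where
  b : ℕ
  A : Matrix (Fin b) (Fin b) R
  B : Matrix (Fin b) (Fin b) R
  aug : Fin b → M
  aug_surj : Function.Surjective (Fintype.linearCombination R aug)
  exact_zero : LinearMap.ker (Fintype.linearCombination R aug) = LinearMap.range A.mulVecLin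
  exact_A : LinearMap.ker A.mulVecLin = LinearMap.range B.mulVecLin
  exact_B : LinearMap.ker B.mulVecLin = LinearMap.range A.mulVecLin
  ann : ∀ a : R, (∀ m : M, a • m = 0) → ∃ C : Matrix (Fin b) (Fin b) R,
    C * A = a • (1 : Matrix (Fin b) (Fin b) R) ∧ A * C = a • (1 : Matrix (Fin b) (Fin b) R)

namespace PerData

variable {R : Type u} [CommRing R] {M : Type u} [AddCommGroup M] [Module R M] (D : PerData R M)

/-- The associated matrix resolution. -/
noncomputable def matRes : Groth.Agent.H2.MatRes R M where
  rk := fun _ => D.b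
  d := fun i => if i % 2 = 0 then D.A else D.B
  aug := D.aug
  aug_surjective := D.aug_surj
  exact_zero := by
    simp only [Nat.zero_mod, if_true]
    exact D.exact_zero
  exact_succ := fun i => by
    rcases Nat.mod_two_eq_zero_or_one i with h | h
    · have h' : (i + 1) % 2 = 1 := by omega
      simp only [h, h', if_true, one_ne_zero, if_false]
      exact D.exact_A
    · have h' : (i + 1) % 2 = 0 := by omega
      simp only [h, h', if_true, one_ne_zero, if_false]
      exact D.exact_B

end PerData

section Exists

variable (S : Type u) [CommRing S] [IsRegularLocalRing S] (R : Type u) [CommRing R] [IsLocalRing R]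

theorem nonempty_perData (hS : ringKrullDim S = 2) (f : S) (hf : f ≠ 0)
    (π : S →+* R) (hπ : Function.Surjective π) (hker : RingHom.ker π = Ideal.span {f})
    (M : Type u) [AddCommGroup M] [Module R M] [Module.Finite R M] (x : R)
    (hx : x ∈ maximalIdeal R) (hxM : IsSMulRegular M x) : Nonempty (PerData R M) := by
  classical
  letI : Algebra S R := π.toAlgebra
  letI : Module S M := Module.compHom M (algebraMap S R)
  haveI : IsScalarTower S R M := IsScalarTower.of_algebraMap_smul (fun _ _ => rfl)
  have hsm : ∀ (s : S) (m : M), s • m = π s • m := fun _ _ => rfl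
  haveI : Module.Finite S R := Module.Finite.of_surjective (Algebra.linearMap S R) hπ
  haveI : Module.Finite S M := Module.Finite.trans R M
  haveI : IsDomain S := Groth.Agent.H7.Reg.isDomain S
  obtain ⟨x', rfl⟩ := hπ x
  have hx' : x' ∈ maximalIdeal S := by
    rw [mem_maximalIdeal, mem_nonunits_iff] at hx ⊢
    intro hu
    exact hx (hu.map π)
  have hreg' : IsSMulRegular M x' := by
    intro m₁ m₂ h
    exact hxM h
  obtain ⟨b, p, hp⟩ := Module.Finite.exists_fin' S M
  haveI : Module.Free S (LinearMap.ker p) := free_ker S hS M x' hx' hreg' b p hp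
  have hπf : π f = 0 := by
    rw [← RingHom.mem_ker, hker]; exact Ideal.mem_span_singleton_self f
  have hfM : ∀ m : M, f • m = 0 := by
    intro m
    rw [hsm, hπf, zero_smul]
  obtain ⟨φ, ψ, hφψ, hψφ, hrange⟩ := exists_matrixFactorization f hf hfM b p
  -- the augmentation
  set aug : Fin b → M := fun i => p (Pi.single i 1) with haug
  have hlc : ∀ v' : Fin b → S, Fintype.linearCombination R aug (π ∘ v') = p v' := by
    intro v'
    rw [Fintype.linearCombination_apply, LinearMap.pi_apply_eq_sum_univ p v']
    refine Finset.sum_congr rfl fun i _ => ?_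
    rw [hsm]
    have : (fun j => if i = j then (1 : S) else 0) = Pi.single i 1 := by
      funext j
      rw [Pi.single_apply]
      simp only [eq_comm]
    rw [this]
    rfl
  have hlift : ∀ v : Fin b → R, ∃ v' : Fin b → S, π ∘ v' = v := by
    intro v
    choose v' hv' using fun i => hπ (v i)
    exact ⟨v', funext hv'⟩
  refine ⟨⟨b, φ.map π, ψ.map π, aug, ?_, ?_,
    ker_map_eq_range_map π hπ f hf hker φ ψ hφψ hψφ,
    ker_map_eq_range_map π hπ f hf hker ψ φ hψφ hφψ, ?_⟩⟩
  · intro m
    obtain ⟨v', rfl⟩ := hp m
    exact ⟨π ∘ v', hlc v'⟩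
  · apply le_antisymm
    · intro v hv
      obtain ⟨v', rfl⟩ := hlift v
      rw [LinearMap.mem_ker, hlc] at hv
      have : v' ∈ LinearMap.range φ.mulVecLin := by rw [hrange]; exact hv
      obtain ⟨w, rfl⟩ := this
      refine ⟨π ∘ w, ?_⟩
      rw [Matrix.mulVecLin_apply, Matrix.mulVecLin_apply]
      funext i
      rw [Function.comp_apply, RingHom.map_mulVec]
    · rintro _ ⟨w, rfl⟩
      obtain ⟨w', rfl⟩ := hlift w
      have : (φ.map π).mulVecLin (π ∘ w') = π ∘ (φ *ᵥ w') := by
        rw [Matrix.mulVecLin_apply]
        funext i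
        rw [Function.comp_apply, RingHom.map_mulVec]
      rw [this, LinearMap.mem_ker, hlc]
      have : φ *ᵥ w' ∈ LinearMap.ker p := by rw [← hrange]; exact ⟨w', rfl⟩
      exact this
  · intro a ha
    obtain ⟨a', rfl⟩ := hπ a
    have hmem : ∀ j : Fin b, a' • (Pi.single j (1 : S) : Fin b → S) ∈ LinearMap.range φ.mulVecLin := by
      intro j
      rw [hrange, LinearMap.mem_ker, map_smul, hsm]
      exact ha _
    choose c hc using hmem
    set C : Matrix (Fin b) (Fin b) S := Matrix.of fun i j => c j i with hC
    have hφC : φ * C = a' • (1 : Matrix (Fin b) (Fin b) S) := by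
      ext i j
      have := congrFun (hc j) i
      rw [Matrix.mulVecLin_apply] at this
      rw [Matrix.mul_apply]
      simp only [Matrix.mulVec, dotProduct] at this
      simp only [hC, Matrix.of_apply, Matrix.smul_apply, Matrix.one_apply, smul_eq_mul]
      rw [this, Pi.smul_apply, Pi.single_apply, smul_eq_mul]
    have hinj := mulVec_injective_of_mul_eq f hf φ ψ hψφ
    have hCφ : C * φ = a' • (1 : Matrix (Fin b) (Fin b) S) := by
      have h1 : φ * (C * φ) = φ * (a' • (1 : Matrix (Fin b) (Fin b) S)) := by
        rw [← Matrix.mul_assoc, hφC, Matrix.smul_mul, Matrix.one_mul, Matrix.mul_smul,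
          Matrix.mul_one]
      ext i j
      have h2 : φ *ᵥ (fun i => (C * φ) i j) =
          φ *ᵥ (fun i => (a' • (1 : Matrix (Fin b) (Fin b) S)) i j) := by
        funext k
        have := congrFun (congrFun h1 k) j
        simpa [Matrix.mul_apply, Matrix.mulVec, dotProduct] using this
      exact congrFun (hinj h2) i
    have hmap : (a' • (1 : Matrix (Fin b) (Fin b) S)).map π =
        π a' • (1 : Matrix (Fin b) (Fin b) R) := by
      ext i j
      simp [Matrix.map_apply, Matrix.one_apply]
      split_ifs <;> simp
    refine ⟨C.map π, ?_, ?_⟩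
    · rw [← Matrix.map_mul, hCφ, hmap]
    · rw [← Matrix.map_mul, hφC, hmap]

end Exists

end Groth.Agent.Lib.Helper1.Hyp
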