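import Mathlib
import Groth.Prelude.Def_EGA43
import Groth.Agent.Lib.Helper1.HypSecC
import Groth.Agent.Lib.Helper1.DimLocE

/-!
# EGA IV 13.3.x: irreducible closed subsets of the right codimension in an equidimensional
morphism (helper1)
-/

set_option autoImplicit false
set_option linter.style.haveILetI false
universe u

namespace Groth.Agent.H1.HypSec

open AlgebraicGeometry CategoryTheory CategoryTheory.Limits TopologicalSpace Topology
open Groth.Agent.H1.DimFormula Groth.Agent.H1.UO14 Groth.Agent.H1.DimLoc Groth.Agent.H1.DimIneq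

variable {X Y : Scheme.{u}}

theorem withBot_nat_sandwich (L : WithBot ℕ∞) (t n e : ℕ) (h1 : (t : WithBot ℕ∞) ≤ L)
    (h2 : L + n ≤ e) (h3 : t + n = e) : L = t := by
  induction L using WithBot.recBotCoe with
  | bot => exact absurd h1 (by simp)
  | coe l =>
    induction l using ENat.recTopCoe with
    | top =>
      exfalso
      have h4 : ((⊤ : ℕ∞) : WithBot ℕ∞) + (n : WithBot ℕ∞) = ((⊤ : ℕ∞) : WithBot ℕ∞) := by
        rw [show (n : WithBot ℕ∞) = ((n : ℕ∞) : WithBot ℕ∞) from rfl, ← WithBot.coe_add, top_add]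
      rw [h4] at h2
      have h5 : (⊤ : ℕ∞) ≤ (e : ℕ∞) := by exact_mod_cast h2
      exact absurd h5 (by simp)
    | coe m =>
      have h1' : t ≤ m := by exact_mod_cast h1
      have h2' : m + n ≤ e := by exact_mod_cast h2
      have : m = t := by omega
      rw [this]; rfl

theorem s4943_aux [IrreducibleSpace Y] [IsLocallyNoetherian Y] (f : X ⟶ Y)
    [LocallyOfFiniteType f] (x : X) (hf : EGA43.IsEquidimAt f x)
    (X' : TopologicalSpace.Closeds X) (x' : X) (hx' : closure ({x'} : Set X) = (X' : Set X))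
    (hx : x ∈ X') (n : ℕ) (hcodim : ringKrullDim (X.presheaf.stalk x') ≤ n)
    (hdim : FlatMor.localDim ↥((X' : Set X) ∩ f.base ⁻¹' {f.base x}) ⟨x, ⟨hx, rfl⟩⟩ + n ≤
      FlatMor.fibreDimAt f x)
    {T : Scheme.{u}} (ι : T ⟶ X) [IsClosedImmersion ι] (hr : Set.range ι.base = (X' : Set X)) :
    ringKrullDim (X.presheaf.stalk x') = n ∧
      FlatMor.localDim ↥((X' : Set X) ∩ f.base ⁻¹' {f.base x}) ⟨x, ⟨hx, rfl⟩⟩ + n =
        FlatMor.fibreDimAt f x ∧
      ∀ w : T, ι.base w = x → EGA43.IsEquidimAt (ι ≫ f) w := by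
  haveI : IsLocallyNoetherian X := LocallyOfFiniteType.isLocallyNoetherian f
  have hemb : IsEmbedding ι.base := ι.isEmbedding
  obtain ⟨w, rfl⟩ : ∃ w : T, ι.base w = x := (Set.ext_iff.mp hr x).mpr hx
  obtain ⟨e, U, hxU, hfd, hgen0⟩ := exists_generic_of_isEquidimAt f (ι.base w) hf
  have hx'x : x' ⤳ ι.base w := by rw [specializes_iff_mem_closure, hx']; exact hx
  have hx'U : x' ∈ U := hx'x.mem_open U.isOpen hxU
  obtain ⟨xT, hxT⟩ : ∃ xT : T, ι.base xT = x' :=
    (Set.ext_iff.mp hr x').mpr (by rw [← hx']; exact subset_closure rfl)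
  have hca : ∀ t : T, (ι ≫ f).base t = f.base (ι.base t) := fun t => Scheme.Hom.comp_apply ι f t
  have hspec : ∀ t : T, xT ⤳ t := by
    intro t
    refine hemb.isInducing.specializes_iff.mp ?_
    show ι.base xT ⤳ ι.base t
    rw [hxT, specializes_iff_mem_closure, hx', ← hr]
    exact ⟨t, rfl⟩
  have hxTmax : ∀ t : T, t ⤳ xT → t = xT := fun t ht => (ht.antisymm (hspec t)).eq
  -- (a)
  obtain ⟨tx, htx, hdx⟩ := fibreDimAt_comp_eq_resTrdeg ι f xT (fun t' _ h2 => hxTmax t' h2)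
  rw [hxT] at htx
  have htx' : @Algebra.trdeg (Y.residueField (f x')) (X.residueField x') _ _
      (f.residueFieldMap x').hom.toAlgebra = tx := htx
  -- (b)
  have hsemi : ((tx : ℕ) : WithBot ℕ∞) ≤ FlatMor.fibreDimAt (ι ≫ f) w := by
    rw [← hdx]
    exact Groth.Agent.H1.EquidimLoc.fibreDimAt_le_of_specializes (ι ≫ f) (hspec w)
  have hE : FlatMor.fibreDimAt (ι ≫ f) w =
      FlatMor.localDim ↥((X' : Set X) ∩ f.base ⁻¹' {f.base (ι.base w)}) ⟨ι.base w, ⟨hx, rfl⟩⟩ := by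
    have hE0 := fibreDimAt_comp_of_isEmbedding ι hemb f w
    have hS : Set.range ι.base ∩ f.base ⁻¹' {f.base (ι.base w)} =
        (X' : Set X) ∩ f.base ⁻¹' {f.base (ι.base w)} := by rw [hr]
    exact hE0.trans (localDim_congr_set hS (ι.base w) ⟨⟨w, rfl⟩, rfl⟩)
  rw [← hE, hfd _ hxU] at hdim
  -- (c)
  obtain ⟨z, hfz, hzx', hzmax, hzdim⟩ :=
    Groth.Agent.H1.FibGen.exists_fibre_generic_fibreDimAt_eq f x'
  obtain ⟨tz, htz, hdz⟩ := fibreDimAt_eq_trdeg_of_generic f z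
    (fun t' h1 h2 => hzmax t' (h1.trans hfz) h2)
  have htze : tz = e := by
    have h1 : ((tz : ℕ) : WithBot ℕ∞) = e := by rw [← hdz, hzdim, hfd _ hx'U]
    exact_mod_cast h1
  obtain ⟨V, hV, hxV, -⟩ := Groth.Agent.H1.DVRCrit.exists_affine_nhd_le (f.base x') ⊤ trivial
  obtain ⟨W, hW, hx'W, hWV⟩ := Groth.Agent.H1.DVRCrit.exists_affine_nhd_le x' (f ⁻¹ᵁ V) hxV
  have hzW : z ∈ W := hzx'.mem_open W.isOpen hx'W
  have key := chart_fibre_eq_enat f hW hV hWV x' z hx'W hzW hzx' hfz tx tz htx' htz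
  haveI : (hW.primeIdealOf ⟨x', hx'W⟩).asIdeal.IsPrime := (hW.primeIdealOf ⟨x', hx'W⟩).2
  haveI : (hW.primeIdealOf ⟨z, hzW⟩).asIdeal.IsPrime := (hW.primeIdealOf ⟨z, hzW⟩).2
  have hadd := height_add_height_map_mk_le (hW.primeIdealOf ⟨z, hzW⟩).asIdeal
    (hW.primeIdealOf ⟨x', hx'W⟩).asIdeal (primeIdealOf_le_of_specializes hW x' z hx'W hzW hzx')
  have hPx := Groth.Agent.H1.DimIneq.ringKrullDim_stalk_eq_height hW x' hx'W
  have hPz := Groth.Agent.H1.DimIneq.ringKrullDim_stalk_eq_height hW z hzW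
  rw [hPx] at hcodim
  -- arithmetic
  generalize hP : (hW.primeIdealOf ⟨x', hx'W⟩).asIdeal.height = P at hadd hcodim hPx
  generalize ha : (hW.primeIdealOf ⟨z, hzW⟩).asIdeal.height = a at hadd hPz
  generalize hh : ((hW.primeIdealOf ⟨x', hx'W⟩).asIdeal.map
    (Ideal.Quotient.mk (hW.primeIdealOf ⟨z, hzW⟩).asIdeal)).height = h at hadd key
  have hPn : P ≤ (n : ℕ∞) := by exact_mod_cast hcodim
  have hPtop : P ≠ ⊤ := ne_top_of_le_ne_top (ENat.coe_ne_top n) hPn
  have hatop : a ≠ ⊤ := ne_top_of_le_ne_top hPtop (le_self_add.trans hadd)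
  have hhtop : h ≠ ⊤ := ne_top_of_le_ne_top hPtop (le_add_self.trans hadd)
  lift P to ℕ using hPtop
  lift a to ℕ using hatop
  lift h to ℕ using hhtop
  have hPn' : P ≤ n := by exact_mod_cast hPn
  have hadd' : a + h ≤ P := by exact_mod_cast hadd
  have key' : h + tx = tz := by exact_mod_cast key
  have htn : tx + n ≤ e := by
    have h1 : ((tx + n : ℕ) : WithBot ℕ∞) ≤ e := by
      push_cast
      exact (add_le_add hsemi le_rfl).trans hdim
    exact_mod_cast h1
  have hhn : h = n := by omega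
  have ha0 : a = 0 := by omega
  have hPeq : P = n := by omega
  have htne : tx + n = e := by omega
  have hL : FlatMor.fibreDimAt (ι ≫ f) w = ((tx : ℕ) : WithBot ℕ∞) :=
    withBot_nat_sandwich _ tx n e hsemi hdim htne
  -- (f) `z` is a maximal point of `X`
  have hdz0 : ringKrullDim (X.presheaf.stalk z) = 0 := by
    rw [hPz, ha0]; rfl
  have hzmaxX : ∀ ζ : X, ζ ⤳ z → ζ = z := by
    intro ζ hζ
    by_contra hne
    have hlt := ringKrullDim_stalk_lt_of_specializes hζ hne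
    rw [hdz0] at hlt
    have h0 : (0 : WithBot ℕ∞) ≤ ringKrullDim (X.presheaf.stalk ζ) :=
      ringKrullDim_nonneg_of_nontrivial
    exact absurd (lt_of_le_of_lt h0 hlt) (lt_irrefl _)
  have hzU : z ∈ U := hzx'.mem_open U.isOpen hx'U
  have hcompz := hgen0 z hzU hzmaxX
  refine ⟨?_, ?_, ?_⟩
  · rw [hPx, hPeq]; rfl
  · rw [← hE, hL, hfd _ hxU]
    exact_mod_cast htne
  · intro w' hw'
    have hww : w' = w := hemb.injective hw'
    subst hww
    refine Groth.Agent.H1.EquidimLoc.isEquidimAt_of_generic (ι ≫ f) w'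
      ⟨{t | FlatMor.fibreDimAt (ι ≫ f) t ≤ ((tx : ℕ) : WithBot ℕ∞)},
        Groth.Agent.H1.Chev.isOpen_fibreDimAt_le (ι ≫ f) tx⟩ hL.le tx ?_ ?_
    · intro t ht
      refine le_antisymm ht ?_
      rw [← hdx]
      exact Groth.Agent.H1.EquidimLoc.fibreDimAt_le_of_specializes (ι ≫ f) (hspec t)
    · intro ξ _ hξ
      have hξx : xT = ξ := hξ xT (hspec ξ)
      have h3 : (ι ≫ f) ξ = f.base z := by
        show (ι ≫ f).base ξ = f.base z
        rw [hca, ← hξx, hxT]; exact hfz.symm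
      rw [h3]
      exact ⟨hcompz, mem_closure_of_mem_irreducibleComponents _ hcompz _⟩

theorem s4943 [IrreducibleSpace Y] [IsLocallyNoetherian Y] (f : X ⟶ Y)
    [LocallyOfFiniteType f] (x : X) (hf : EGA43.IsEquidimAt f x)
    (X' : TopologicalSpace.Closeds X) (x' : X) (hx' : closure ({x'} : Set X) = (X' : Set X)) (hx : x ∈ X') (n : ℕ)
    (hcodim : ringKrullDim (X.presheaf.stalk x') ≤ n)
    (hdim : FlatMor.localDim ↥((X' : Set X) ∩ f.base ⁻¹' {f.base x}) ⟨x, ⟨hx, rfl⟩⟩ + n ≤ FlatMor.fibreDimAt f x) :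
    ringKrullDim (X.presheaf.stalk x') = n ∧
      FlatMor.localDim ↥((X' : Set X) ∩ f.base ⁻¹' {f.base x}) ⟨x, ⟨hx, rfl⟩⟩ + n = FlatMor.fibreDimAt f x ∧
      ∀ w : ↥(Scheme.IdealSheafData.vanishingIdeal X').subscheme,
        (Scheme.IdealSheafData.vanishingIdeal X').subschemeι.base w = x →
        EGA43.IsEquidimAt ((Scheme.IdealSheafData.vanishingIdeal X').subschemeι ≫ f) w :=
  s4943_aux f x hf X' x' hx' hx n hcodim hdim (Scheme.IdealSheafData.vanishingIdeal X').subschemeι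
    ((Scheme.IdealSheafData.range_subschemeι _).trans
      (Scheme.IdealSheafData.coe_support_vanishingIdeal _))

end Groth.Agent.H1.HypSec
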