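import Mathlib

set_option autoImplicit false
universe u
open TensorProduct AlgebraicGeometry CategoryTheory Limits

namespace Groth.Agent.H1.InfNbhd

set_option backward.isDefEq.respectTransparency false in
theorem of_comp_openImm (P : MorphismProperty Scheme.{u}) [P.IsStableUnderBaseChange]
    {X Y Z : Scheme.{u}} (a : X ⟶ Y) (c : Y ⟶ Z) [IsOpenImmersion c]
    (h : P (a ≫ c)) : P a :=
  MorphismProperty.of_postcomp (W := P) (W' := @IsOpenImmersion) a c inferInstance h

/-- The affine chart of the base change of `f` to the closed subscheme `V(I)`. -/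
theorem exists_factor {X S : Scheme.{u}} (f : X ⟶ S) (I : S.IdealSheafData)
    (V : S.Opens) (hV : IsAffineOpen V) (U : X.Opens) (hU : IsAffineOpen U) (hUV : U ≤ f ⁻¹ᵁ V)
    [Algebra Γ(S, V) Γ(X, U)] (halg : algebraMap Γ(S, V) Γ(X, U) = (f.appLE V U hUV).hom) :
    ∃ (c : Spec (CommRingCat.of (Γ(S, V) ⧸ I.ideal ⟨V, hV⟩)) ⟶ I.subscheme)
      (g : Spec (CommRingCat.of (Γ(X, U) ⊗[Γ(S, V)] (Γ(S, V) ⧸ I.ideal ⟨V, hV⟩))) ⟶
        pullback f I.subschemeι),
      IsOpenImmersion c ∧ IsOpenImmersion g ∧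
        g ≫ pullback.snd f I.subschemeι =
          Spec.map (CommRingCat.ofHom (Algebra.TensorProduct.includeRight :
            (Γ(S, V) ⧸ I.ideal ⟨V, hV⟩) →ₐ[Γ(S, V)]
              Γ(X, U) ⊗[Γ(S, V)] (Γ(S, V) ⧸ I.ideal ⟨V, hV⟩)).toRingHom) ≫ c := by
  let A := Γ(S, V)
  let B := Γ(X, U)
  let J : Ideal A := I.ideal ⟨V, hV⟩
  let c : Spec (CommRingCat.of (A ⧸ J)) ⟶ I.subscheme := I.subschemeCover.f ⟨V, hV⟩
  have hc : c ≫ I.subschemeι =
      Spec.map (CommRingCat.ofHom (algebraMap A (A ⧸ J))) ≫ hV.fromSpec := by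
    have h1 := I.subschemeCover_map_subschemeι ⟨V, hV⟩
    rw [I.glueDataObjι_ι] at h1
    exact h1
  have e₁ : Spec.map (CommRingCat.ofHom (algebraMap A B)) ≫ hV.fromSpec = hU.fromSpec ≫ f := by
    rw [halg]
    exact IsAffineOpen.SpecMap_appLE_fromSpec f hV hU hUV
  haveI : IsOpenImmersion c := I.subschemeCover.map_prop ⟨V, hV⟩
  haveI := hU.isOpenImmersion_fromSpec
  haveI := hV.isOpenImmersion_fromSpec
  let g : Spec (CommRingCat.of (B ⊗[A] (A ⧸ J))) ⟶ pullback f I.subschemeι :=
    (pullbackSpecIso A B (A ⧸ J)).inv ≫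
      pullback.map _ _ f I.subschemeι hU.fromSpec c hV.fromSpec e₁ hc.symm
  refine ⟨c, g, inferInstance, inferInstance, ?_⟩
  simp only [g, Category.assoc, pullback.lift_snd]
  rw [← Category.assoc, pullbackSpecIso_inv_snd]
  rfl

/-- transfer of a ring hom property from the base change to `V(I)` to the affine chart. -/
theorem prop_includeRight (P : MorphismProperty Scheme.{u})
    (Q : ∀ {R S : Type u} [CommRing R] [CommRing S], (R →+* S) → Prop)
    [HasRingHomProperty P Q] [P.IsStableUnderBaseChange] [P.IsStableUnderComposition]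
    (hopen : ∀ {X Y : Scheme.{u}} (j : X ⟶ Y) [IsOpenImmersion j], P j)
    {X S : Scheme.{u}} (f : X ⟶ S) (I : S.IdealSheafData)
    (V : S.Opens) (hV : IsAffineOpen V) (U : X.Opens) (hU : IsAffineOpen U) (hUV : U ≤ f ⁻¹ᵁ V)
    [Algebra Γ(S, V) Γ(X, U)] (halg : algebraMap Γ(S, V) Γ(X, U) = (f.appLE V U hUV).hom)
    (h : P (pullback.snd f I.subschemeι)) :
    Q (Algebra.TensorProduct.includeRight :
            (Γ(S, V) ⧸ I.ideal ⟨V, hV⟩) →ₐ[Γ(S, V)]
              Γ(X, U) ⊗[Γ(S, V)] (Γ(S, V) ⧸ I.ideal ⟨V, hV⟩)).toRingHom := by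
  obtain ⟨c, g, hc, hg, hfac⟩ := exists_factor f I V hV U hU hUV halg
  have h1 : P (g ≫ pullback.snd f I.subschemeι) := P.comp_mem _ _ (hopen g) h
  rw [hfac] at h1
  have h2 := of_comp_openImm P _ c h1
  rwa [HasRingHomProperty.Spec_iff (P := P)] at h2

end Groth.Agent.H1.InfNbhd

namespace Groth.Agent.H1.InfNbhd

section algU

variable {A B : Type u} [CommRing A] [CommRing B] [Algebra A B]

attribute [local instance] Algebra.TensorProduct.rightAlgebra in
/-- If `B/JB` is unramified over `A/J` then `B` is unramified over `A` at all primes containing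
`JB`. -/
theorem isUnramifiedAt_of_quotient [Algebra.FiniteType A B] (J : Ideal A)
    [Algebra.FormallyUnramified (A ⧸ J) ((A ⧸ J) ⊗[A] B)] (q : Ideal B) [q.IsPrime]
    (hq : J.map (algebraMap A B) ≤ q) : Algebra.IsUnramifiedAt A q := by
  have h1 : Subsingleton Ω[((A ⧸ J) ⊗[A] B)⁄(A ⧸ J)] :=
    (Algebra.formallyUnramified_iff _ _).mp inferInstance
  have h2 : Subsingleton ((A ⧸ J) ⊗[A] Ω[B⁄A]) :=
    (KaehlerDifferential.tensorKaehlerEquivBase A (A ⧸ J) B ((A ⧸ J) ⊗[A] B)).toEquiv.subsingleton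
  have h3 : Subsingleton (Ω[B⁄A] ⧸ (J • (⊤ : Submodule A Ω[B⁄A]))) :=
    (TensorProduct.quotTensorEquivQuotSMul Ω[B⁄A] J).symm.toEquiv.subsingleton
  have h4 : (J.map (algebraMap A B)) • (⊤ : Submodule B Ω[B⁄A]) = ⊤ := by
    rw [eq_top_iff]
    intro ω _
    have hω : ω ∈ J • (⊤ : Submodule A Ω[B⁄A]) := by
      rw [← Submodule.Quotient.mk_eq_zero]
      exact Subsingleton.elim _ _
    refine Submodule.smul_induction_on hω ?_ ?_
    · intro j hj m _
      rw [← algebraMap_smul B j m]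
      exact Submodule.smul_mem_smul (Ideal.mem_map_of_mem _ hj) trivial
    · intro x y hx hy
      exact add_mem hx hy
  change (⟨q, inferInstance⟩ : PrimeSpectrum B) ∈ Algebra.unramifiedLocus A B
  rw [Algebra.unramifiedLocus_eq_compl_support, Set.mem_compl_iff]
  intro hmem
  have h5 : (⟨q, inferInstance⟩ : PrimeSpectrum B) ∈ Module.support B
      (Ω[B⁄A] ⧸ ((J.map (algebraMap A B)) • (⊤ : Submodule B Ω[B⁄A]))) := by
    rw [Module.support_quotient]
    exact ⟨hmem, hq⟩
  rw [h4, Module.mem_support_iff] at h5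
  haveI : Subsingleton (Ω[B⁄A] ⧸ (⊤ : Submodule B Ω[B⁄A])) := Submodule.Quotient.subsingleton_iff.mpr rfl
  exact not_subsingleton _ (inferInstance : Subsingleton
    (LocalizedModule q.primeCompl (Ω[B⁄A] ⧸ (⊤ : Submodule B Ω[B⁄A]))))

end algU

end Groth.Agent.H1.InfNbhd

namespace Groth.Agent.H1.InfNbhd

section algS
open Algebra IsLocalRing

variable {R S : Type u} [CommRing R] [CommRing S] [Algebra R S]

local notation "𝓀[" R "]" => ResidueField R

/-- local version of `Algebra.IsSmoothAt.of_formallySmooth_fiber`: flat at `q` and smooth fibre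
over `p` imply smooth at `q`. -/
theorem isSmoothAt_of_flat_of_formallySmooth_fiber'
    [Algebra.FinitePresentation R S] (p : Ideal R) (q : Ideal S)
    [p.IsPrime] [q.IsPrime] [q.LiesOver p] [FormallySmooth p.ResidueField (p.Fiber S)]
    (hflat : letI := Localization.AtPrime.algebraOfLiesOver p q
      Module.Flat (Localization.AtPrime p) (Localization.AtPrime q)) :
    Algebra.IsSmoothAt R q := by
  let Rp := Localization.AtPrime p
  let Sp := Localization (algebraMapSubmonoid S p.primeCompl)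
  let Sq := Localization.AtPrime q
  let := Localization.AtPrime.algebraOfLiesOver p q
  let f : Sp →ₐ[S] Sq := IsLocalization.liftAlgHom (M := algebraMapSubmonoid S p.primeCompl)
        (f := Algebra.ofId _ _) (by
      rintro ⟨_, x, hx, rfl⟩
      simpa using! IsLocalization.map_units (M := q.primeCompl) Sq ⟨algebraMap _ _ x,
        by simp_all [q.over_def p]⟩)
  algebraize [f.toRingHom]
  have : IsScalarTower R Sp Sq := .to₁₃₄ _ S _ _
  have : IsScalarTower Rp Sp Sq := .of_algebraMap_eq' <| by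
    apply IsLocalization.ringHom_ext p.primeCompl
    simp only [RingHom.comp_assoc, ← IsScalarTower.algebraMap_eq]
  have : IsLocalization (algebraMapSubmonoid Sp q.primeCompl) Sq :=
    .isLocalization_of_submonoid_le _ _ (algebraMapSubmonoid S p.primeCompl) _
    (by rintro _ ⟨x, hx, rfl⟩; simp_all [q.over_def p])
  have : FinitePresentation Rp Sp := by
    have : Algebra.IsPushout R Rp S Sp :=
      .symm <| Algebra.isPushout_of_isLocalization p.primeCompl _ _ _
    exact .equiv (Algebra.IsPushout.equiv R Rp S Sp)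
  haveI : Module.Flat Rp Sq := hflat
  have : FormallySmooth 𝓀[Rp] (𝓀[Rp] ⊗[Rp] Sq) := by
    let : Algebra S (𝓀[Rp] ⊗[R] S) := Algebra.TensorProduct.rightAlgebra
    have : FormallySmooth 𝓀[Rp] ((𝓀[Rp] ⊗[R] S) ⊗[S] Sq) :=
      .comp _ (𝓀[Rp] ⊗[R] S) _
    let e : 𝓀[Rp] ⊗[R] S ≃ₐ[S] S ⊗[R] 𝓀[Rp] :=
      { __ := Algebra.TensorProduct.comm _ _ _, commutes' _ := rfl }
    let e' : (𝓀[Rp] ⊗[R] S) ⊗[S] Sq ≃ₐ[R] 𝓀[Rp] ⊗[Rp] Sq :=
      ((Algebra.TensorProduct.comm _ _ _).restrictScalars R).trans <|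
      ((Algebra.TensorProduct.congr (.refl (R := S)) e).restrictScalars R).trans <|
      ((Algebra.TensorProduct.cancelBaseChange _ _ S _ _).restrictScalars R).trans <|
      (Algebra.TensorProduct.comm _ _ _).trans (Algebra.TensorProduct.equivOfCompatibleSMul ..)
    have : e'.toAlgHom.comp (IsScalarTower.toAlgHom R p.ResidueField _) =
        IsScalarTower.toAlgHom _ _ _ := by ext
    let e'' : (𝓀[Rp] ⊗[R] S) ⊗[S] Sq ≃ₐ[𝓀[Rp]] 𝓀[Rp] ⊗[Rp] Sq :=
      { __ := e', commutes' r := congr($this r) }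
    exact .of_equiv e''
  have := FormallySmooth.of_formallySmooth_residueField_tensor
    (R := Rp) (S := Sq) (P := Sp) (algebraMapSubmonoid _ q.primeCompl)
  exact .comp R Rp Sq

/-- If `B/JB` is smooth over `A/J` and `B` is flat over `A` at `q ⊇ JB` then `B` is smooth over
`A` at `q`. -/
theorem isSmoothAt_of_quotient [Algebra.FinitePresentation R S] (J : Ideal R)
    [Algebra.FormallySmooth (R ⧸ J) ((R ⧸ J) ⊗[R] S)] (p : Ideal R) (q : Ideal S)
    [p.IsPrime] [q.IsPrime] [q.LiesOver p] (hJ : J ≤ p)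
    (hflat : letI := Localization.AtPrime.algebraOfLiesOver p q
      Module.Flat (Localization.AtPrime p) (Localization.AtPrime q)) :
    Algebra.IsSmoothAt R q := by
  let k := p.ResidueField
  letI : Algebra (R ⧸ J) k := (Ideal.Quotient.lift J (algebraMap R k) (fun a ha => by
    rw [Ideal.algebraMap_residueField_eq_zero]; exact hJ ha)).toAlgebra
  haveI : IsScalarTower R (R ⧸ J) k := IsScalarTower.of_algebraMap_eq' rfl
  haveI : FormallySmooth k (p.Fiber S) :=
    .of_equiv (Algebra.TensorProduct.cancelBaseChange R (R ⧸ J) k k S)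
  exact isSmoothAt_of_flat_of_formallySmooth_fiber' p q hflat

end algS

end Groth.Agent.H1.InfNbhd

namespace Groth.Agent.H1.InfNbhd

/-- from the right-handed tensor product to the left-handed one -/
theorem algebraMap_of_includeRight
    (Q : ∀ {R S : Type u} [CommRing R] [CommRing S], (R →+* S) → Prop)
    (hQ : RingHom.RespectsIso @Q) {A B T : Type u} [CommRing A] [CommRing B] [CommRing T]
    [Algebra A B] [Algebra A T]
    (h : Q (Algebra.TensorProduct.includeRight : T →ₐ[A] B ⊗[A] T).toRingHom) :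
    Q (algebraMap T (T ⊗[A] B)) := by
  have h1 := hQ.1 _ (Algebra.TensorProduct.comm A B T).toRingEquiv h
  convert h1 using 1
  ext t
  simp

end Groth.Agent.H1.InfNbhd
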