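import Mathlib
import Groth.Prelude.Def_Curv2

set_option autoImplicit false
set_option linter.style.haveILetI false
universe u
open CategoryTheory CategoryTheory.Limits AlgebraicGeometry IsLocalRing TensorProduct TopologicalSpace

namespace Groth.Agent.H1.IntClField

theorem isUnit_of_ne_zero_of_artinian {B : Type*} [CommRing B] [IsArtinianRing B] [IsReduced B]
    (hidem : ∀ e : B, IsIdempotentElem e → e = 0 ∨ e = 1) (b : B) (hb : b ≠ 0) : IsUnit b := by
  classical
  let φ := IsArtinianRing.equivPi B
  have hφb : φ b ≠ 0 := fun h => hb ((EmbeddingLike.map_eq_zero_iff (f := φ)).mp h)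
  obtain ⟨I, hI⟩ : ∃ I, φ b I ≠ 0 := by
    by_contra hcon
    push Not at hcon
    exact hφb (funext hcon)
  have hall : ∀ J, φ b J ≠ 0 := by
    intro J hJ
    have hIJ : I ≠ J := fun h => hI (h ▸ hJ)
    have he : IsIdempotentElem (φ.symm (Pi.single J 1)) := by
      show _ * _ = _
      rw [← map_mul, ← Pi.single_mul, one_mul]
    haveI := J.isMaximal
    haveI := I.isMaximal
    rcases hidem _ he with h0 | h1
    · have h2 : (Pi.single J 1 : ∀ I : MaximalSpectrum B, B ⧸ I.asIdeal) = 0 := by
        have := congrArg φ h0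
        simpa using this
      have h3 := congrFun h2 J
      simp at h3
    · have h2 : (Pi.single J 1 : ∀ I : MaximalSpectrum B, B ⧸ I.asIdeal) = 1 := by
        have := congrArg φ h1
        simpa using this
      have h3 := congrFun h2 I
      rw [Pi.single_eq_of_ne hIJ] at h3
      simp at h3
  have : IsUnit (φ b) := by
    rw [Pi.isUnit_iff]
    intro J
    haveI := J.isMaximal
    letI := Ideal.Quotient.field J.asIdeal
    exact (hall J).isUnit
  exact (MulEquiv.isUnit_map (f := φ.toMulEquiv)).mp this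

theorem isField_integralClosure (k R : Type*) [Field k] [CommRing R] [Algebra k R] [IsReduced R]
    [Nontrivial R]
    (hidem : ∀ e : R, IsIdempotentElem e → e = 0 ∨ e = 1) : IsField (integralClosure k R) := by
  refine ⟨⟨0, 1, zero_ne_one⟩, mul_comm, ?_⟩
  intro a ha
  haveI : Module.Finite k (Algebra.adjoin k {(a : R)}) :=
    Algebra.finite_adjoin_simple_of_isIntegral a.2
  haveI : IsArtinianRing (Algebra.adjoin k {(a : R)}) := IsArtinianRing.of_finite k _
  haveI : IsReduced (Algebra.adjoin k {(a : R)}) :=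
    isReduced_of_injective (Algebra.adjoin k {(a : R)}).val Subtype.val_injective
  have hB : ∀ e : Algebra.adjoin k {(a : R)}, IsIdempotentElem e → e = 0 ∨ e = 1 := by
    intro e he
    rcases hidem e.1 (congrArg Subtype.val he.eq) with h | h
    · left; exact Subtype.ext h
    · right; exact Subtype.ext h
  have hu := isUnit_of_ne_zero_of_artinian hB ⟨a, Algebra.subset_adjoin rfl⟩
    (by intro h; apply ha; ext; exact congrArg (Subtype.val : ↥(Algebra.adjoin k {(a : R)}) → R) h)
  obtain ⟨b, hb⟩ := hu.exists_right_inv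
  have hb' : (a : R) * (b : R) = 1 := congrArg Subtype.val hb
  have hBle : Algebra.adjoin k {(a : R)} ≤ integralClosure k R :=
    Algebra.adjoin_le (by simpa using a.2)
  exact ⟨⟨b.1, hBle b.2⟩, Subtype.ext hb'⟩

theorem idem_trivial (X : Scheme.{u}) [ConnectedSpace ↥X] [IsReduced X] (e : Γ(X, ⊤))
    (he : IsIdempotentElem e) : e = 0 ∨ e = 1 := by
  have hdisj : X.basicOpen e ⊓ X.basicOpen (1 - e) = ⊥ := by
    rw [← Scheme.basicOpen_mul, mul_sub, mul_one, he.eq, sub_self, Scheme.basicOpen_zero]
  have hcov : ∀ x : X, x ∈ X.basicOpen e ∨ x ∈ X.basicOpen (1 - e) := by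
    intro x
    rw [Scheme.mem_basicOpen_top, Scheme.mem_basicOpen_top]
    apply IsLocalRing.isUnit_or_isUnit_of_add_one
    rw [← map_add, add_sub_cancel, map_one]
  have hcompl : ((X.basicOpen e : Set X))ᶜ = (X.basicOpen (1 - e) : Set X) := by
    ext x
    constructor
    · intro hx
      exact (hcov x).resolve_left hx
    · intro hx hx'
      have : x ∈ X.basicOpen e ⊓ X.basicOpen (1 - e) := ⟨hx', hx⟩
      rw [hdisj] at this
      exact this
  have hclopen : IsClopen (X.basicOpen e : Set X) :=
    ⟨by rw [← isOpen_compl_iff, hcompl]; exact (X.basicOpen (1 - e)).2, (X.basicOpen e).2⟩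
  rcases isClopen_iff.mp hclopen with h | h
  · left
    rw [← basicOpen_eq_bot_iff]
    exact Opens.ext h
  · right
    have h2 : X.basicOpen (1 - e) = ⊥ := by
      apply Opens.ext
      rw [← hcompl, h]
      simp
    rw [basicOpen_eq_bot_iff] at h2
    exact (sub_eq_zero.mp h2).symm

theorem s7618 (k : Type u) [Field k] (X : Scheme.{u}) [X.Over (Spec (CommRingCat.of k))]
    [ConnectedSpace ↥X] [IsReduced X] :
    letI := ((X ↘ (Spec (CommRingCat.of k))).appTop.hom.comp
      (Scheme.ΓSpecIso (CommRingCat.of k)).inv.hom : k →+* Γ(X, ⊤)).toAlgebra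
    IsField ↥(integralClosure k ↑Γ(X, ⊤)) := by
  letI := ((X ↘ (Spec (CommRingCat.of k))).appTop.hom.comp
      (Scheme.ΓSpecIso (CommRingCat.of k)).inv.hom : k →+* Γ(X, ⊤)).toAlgebra
  haveI : Nonempty ↥X := inferInstance
  haveI : Nonempty (⊤ : X.Opens) := ⟨⟨Classical.arbitrary X, trivial⟩⟩
  haveI : Nontrivial Γ(X, ⊤) := inferInstance
  exact isField_integralClosure k Γ(X, ⊤) (idem_trivial X)

end Groth.Agent.H1.IntClField
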