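import Mathlib
import Groth.Agent.Lib.Helper1.IntersDim

/-!
# The diagonal of affine space is cut out by `n` equations; S7674
-/

open AlgebraicGeometry CategoryTheory Limits TopologicalSpace Topology

universe u

namespace Groth.Agent.H1.IntersDim

open Groth.Agent.H1.GeoKrull

theorem appTop_eq_zero_of_notMem_basicOpen {X : Scheme.{u}} (x : X) (g : Γ(X, ⊤))
    (h : x ∉ X.basicOpen g) : (X.fromSpecResidueField x).appTop g = 0 := by
  rw [← basicOpen_eq_bot_iff, ← Scheme.preimage_basicOpen_top]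
  refine le_bot_iff.mp (fun s hs => h ?_)
  have h1 : (X.fromSpecResidueField x) s ∈ X.basicOpen g := hs
  rwa [Scheme.fromSpecResidueField_apply] at h1

theorem cutOut_diagonal_affineSpace (S : Scheme.{u}) [IsAffine S] (ι : Type u) [Fintype ι] :
    CutOut (pullback (𝔸(ι; S) ↘ S) (𝔸(ι; S) ↘ S))
      (Set.range (pullback.diagonal (𝔸(ι; S) ↘ S))) (Fintype.card ι) := by
  classical
  intro x _
  have hf : ∀ c : Γ(𝔸(ι; S), ⊤), (pullback.diagonal (𝔸(ι; S) ↘ S)).appTop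
      ((pullback.fst (𝔸(ι; S) ↘ S) (𝔸(ι; S) ↘ S)).appTop c) = c := fun c => by
    have h1 : (pullback.diagonal (𝔸(ι; S) ↘ S) ≫
        pullback.fst (𝔸(ι; S) ↘ S) (𝔸(ι; S) ↘ S)).appTop c = c := by
      rw [pullback.diagonal_fst]; simp
    rw [Scheme.Hom.comp_appTop] at h1
    exact h1
  have hs : ∀ c : Γ(𝔸(ι; S), ⊤), (pullback.diagonal (𝔸(ι; S) ↘ S)).appTop
      ((pullback.snd (𝔸(ι; S) ↘ S) (𝔸(ι; S) ↘ S)).appTop c) = c := fun c => by
    have h1 : (pullback.diagonal (𝔸(ι; S) ↘ S) ≫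
        pullback.snd (𝔸(ι; S) ↘ S) (𝔸(ι; S) ↘ S)).appTop c = c := by
      rw [pullback.diagonal_snd]; simp
    rw [Scheme.Hom.comp_appTop] at h1
    exact h1
  refine ⟨⊤, isAffineOpen_top _, trivial,
    (Finset.univ.toList.map (fun i : ι =>
      (pullback.fst (𝔸(ι; S) ↘ S) (𝔸(ι; S) ↘ S)).appTop (AffineSpace.coord S i) -
      (pullback.snd (𝔸(ι; S) ↘ S) (𝔸(ι; S) ↘ S)).appTop (AffineSpace.coord S i))), ?_, ?_⟩
  · simp
  · intro x' _
    constructor
    · rintro ⟨a, rfl⟩ r hr hmem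
      obtain ⟨i, -, rfl⟩ := List.mem_map.mp hr
      have h1 : a ∈ (pullback.diagonal (𝔸(ι; S) ↘ S)) ⁻¹ᵁ
          (pullback (𝔸(ι; S) ↘ S) (𝔸(ι; S) ↘ S)).basicOpen
            ((pullback.fst (𝔸(ι; S) ↘ S) (𝔸(ι; S) ↘ S)).appTop (AffineSpace.coord S i) -
      (pullback.snd (𝔸(ι; S) ↘ S) (𝔸(ι; S) ↘ S)).appTop (AffineSpace.coord S i)) := hmem
      rw [Scheme.preimage_basicOpen_top, map_sub, hf, hs, sub_self, Scheme.basicOpen_zero] at h1
      exact h1
    · intro h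
      have hz : ∀ i : ι, ((pullback (𝔸(ι; S) ↘ S) (𝔸(ι; S) ↘ S)).fromSpecResidueField x').appTop
          ((pullback.fst (𝔸(ι; S) ↘ S) (𝔸(ι; S) ↘ S)).appTop (AffineSpace.coord S i) -
            (pullback.snd (𝔸(ι; S) ↘ S) (𝔸(ι; S) ↘ S)).appTop (AffineSpace.coord S i)) = 0 :=
        fun i => appTop_eq_zero_of_notMem_basicOpen x' _
          (h _ (List.mem_map.mpr ⟨i, by simp, rfl⟩))
      have hab : (pullback (𝔸(ι; S) ↘ S) (𝔸(ι; S) ↘ S)).fromSpecResidueField x' ≫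
          pullback.fst (𝔸(ι; S) ↘ S) (𝔸(ι; S) ↘ S) =
          (pullback (𝔸(ι; S) ↘ S) (𝔸(ι; S) ↘ S)).fromSpecResidueField x' ≫
          pullback.snd (𝔸(ι; S) ↘ S) (𝔸(ι; S) ↘ S) := by
        apply AffineSpace.hom_ext
        · simp only [Category.assoc]; rw [pullback.condition]
        · intro i
          have := hz i
          rw [map_sub, sub_eq_zero] at this
          rw [Scheme.Hom.comp_appTop, Scheme.Hom.comp_appTop]
          exact this
      have hfac : ((pullback (𝔸(ι; S) ↘ S) (𝔸(ι; S) ↘ S)).fromSpecResidueField x' ≫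
          pullback.fst (𝔸(ι; S) ↘ S) (𝔸(ι; S) ↘ S)) ≫ pullback.diagonal (𝔸(ι; S) ↘ S) =
          (pullback (𝔸(ι; S) ↘ S) (𝔸(ι; S) ↘ S)).fromSpecResidueField x' := by
        apply pullback.hom_ext
        · simp
        · simp [hab]
      let pt : Spec ((pullback (𝔸(ι; S) ↘ S) (𝔸(ι; S) ↘ S)).residueField x') :=
        IsLocalRing.closedPoint _
      refine ⟨((pullback (𝔸(ι; S) ↘ S) (𝔸(ι; S) ↘ S)).fromSpecResidueField x' ≫
          pullback.fst (𝔸(ι; S) ↘ S) (𝔸(ι; S) ↘ S)) pt, ?_⟩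
      have h0 : (((pullback (𝔸(ι; S) ↘ S) (𝔸(ι; S) ↘ S)).fromSpecResidueField x' ≫
          pullback.fst (𝔸(ι; S) ↘ S) (𝔸(ι; S) ↘ S)) ≫ pullback.diagonal (𝔸(ι; S) ↘ S)) pt = x' := by
        rw [hfac]; exact Scheme.fromSpecResidueField_apply x' pt
      exact h0

theorem s7674 (k : Type u) [Field k] (n r s : ℕ)
    (X Y : Set ↥(𝔸(ULift.{u} (Fin n); Spec (CommRingCat.of k)))) (hX : IsClosed X) (hY : IsClosed Y)
    (hXr : ∀ Z ∈ irreducibleComponents X, topologicalKrullDim Z = r)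
    (hYs : ∀ Z ∈ irreducibleComponents Y, topologicalKrullDim Z = s)
    (Z : Set ↥(X ∩ Y)) (hZ : Z ∈ irreducibleComponents ↥(X ∩ Y)) :
    ((r + s : ℕ) : WithBot ℕ∞) ≤ topologicalKrullDim Z + (n : WithBot ℕ∞) := by
  have hΔ := cutOut_diagonal_affineSpace (Spec (CommRingCat.of k)) (ULift.{u} (Fin n))
  have hcard : Fintype.card (ULift.{u} (Fin n)) = n := by simp
  rw [hcard] at hΔ
  exact inter_dim (𝔸(ULift.{u} (Fin n); Spec (CommRingCat.of k)) ↘ Spec (CommRingCat.of k)) n hΔ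
    r s X Y hX hY hXr hYs Z hZ

end Groth.Agent.H1.IntersDim
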