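import Mathlib
import Groth.Agent.Lib.Lead.QC.InvBasis
import Groth.Agent.Lib.Lead.QC.Extend
import Groth.Agent.Lib.Lead.QC.AmpleExt

/-! Restriction of sections of invertible modules: injectivity / bijectivity is inherited from
the structure sheaf. -/

universe u
set_option backward.isDefEq.respectTransparency.types false
open CategoryTheory AlgebraicGeometry TopologicalSpace Opposite
open Groth.Agent.LD.QC

namespace Groth.Agent.H1.InvRes

variable {X : Scheme.{u}} (L : X.Modules) (hL : PicF.IsInvertible L) (U : X.Opens)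

/-- a cover of `V` by opens over which `L` has a basis -/
theorem exists_basis_cover (hL : PicF.IsInvertible L) (V : X.Opens) :
    ∃ (O : {x // x ∈ V} → X.Opens) (e : ∀ i, Γ(L, O i)), (∀ i, O i ≤ V) ∧ (∀ i, i.1 ∈ O i) ∧
      ∀ i, IsBasisOver L (O i) (e i) := by
  have h := (isInvertible_iff_exists_isBasisOver L).mp hL
  choose U' e' hx he using h
  refine ⟨fun i => U' i.1 ⊓ V, fun i => L.presheaf.map (homOfLE inf_le_left).op (e' i.1),
    fun i => inf_le_right, fun i => ⟨hx i.1, i.2⟩, fun i => (he i.1).mono inf_le_left⟩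

lemma IsBasisOver.exists_smul {O : X.Opens} {e : Γ(L, O)} (he : IsBasisOver L O e) {W : X.Opens}
    (h : W ≤ O) (s : Γ(L, W)) : ∃ a : Γ(X, W), a • L.presheaf.map (homOfLE h).op e = s :=
  (he W h).2 s

lemma IsBasisOver.smul_injective {O : X.Opens} {e : Γ(L, O)} (he : IsBasisOver L O e)
    {W : X.Opens} (h : W ≤ O) {a b : Γ(X, W)}
    (hab : a • L.presheaf.map (homOfLE h).op e = b • L.presheaf.map (homOfLE h).op e) : a = b :=
  (he W h).1 hab

include hL in
theorem res_injective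
    (hO : ∀ V : X.Opens,
      Function.Injective (X.presheaf.map (homOfLE (inf_le_left : V ⊓ U ≤ V)).op))
    (V : X.Opens) :
    Function.Injective (L.presheaf.map (homOfLE (inf_le_left : V ⊓ U ≤ V)).op) := by
  obtain ⟨O, e, hOV, hxO, he⟩ := exists_basis_cover L hL V
  intro s t hst
  refine section_ext_of_cover L O hOV ?_ s t ?_
  · intro x hx
    rw [Opens.mem_iSup]
    exact ⟨⟨x, hx⟩, hxO ⟨x, hx⟩⟩
  · intro i
    obtain ⟨a, ha⟩ := IsBasisOver.exists_smul L (he i) le_rfl (L.presheaf.map (homOfLE (hOV i)).op s)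
    obtain ⟨b, hb⟩ := IsBasisOver.exists_smul L (he i) le_rfl (L.presheaf.map (homOfLE (hOV i)).op t)
    rw [← ha, ← hb]
    suffices hab : a = b by rw [hab]
    apply hO (O i)
    apply IsBasisOver.smul_injective L (he i) (inf_le_left : O i ⊓ U ≤ O i)
    have h1 := congrArg (L.presheaf.map (homOfLE (inf_le_left : O i ⊓ U ≤ O i)).op) ha
    have h2 := congrArg (L.presheaf.map (homOfLE (inf_le_left : O i ⊓ U ≤ O i)).op) hb
    rw [Scheme.Modules.map_smul, res_res, res_res] at h1 h2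
    rw [h1, h2]
    have h3 := congrArg (L.presheaf.map
      (homOfLE (inf_le_inf_right U (hOV i) : O i ⊓ U ≤ V ⊓ U)).op) hst
    rw [res_res, res_res] at h3
    exact h3

include hL in
theorem res_bijective
    (hO : ∀ V : X.Opens,
      Function.Bijective (X.presheaf.map (homOfLE (inf_le_left : V ⊓ U ≤ V)).op))
    (V : X.Opens) :
    Function.Bijective (L.presheaf.map (homOfLE (inf_le_left : V ⊓ U ≤ V)).op) := by
  have hinj := res_injective L hL U (fun V => (hO V).1)
  refine ⟨hinj V, ?_⟩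
  obtain ⟨O, e, hOV, hxO, he⟩ := exists_basis_cover L hL V
  have hcov : V ≤ ⨆ i, O i := by
    intro x hx
    rw [Opens.mem_iSup]
    exact ⟨⟨x, hx⟩, hxO ⟨x, hx⟩⟩
  intro t
  have hloc : ∀ i, ∃ s : Γ(L, O i),
      L.presheaf.map (homOfLE (inf_le_left : O i ⊓ U ≤ O i)).op s =
        L.presheaf.map (homOfLE (inf_le_inf_right U (hOV i) : O i ⊓ U ≤ V ⊓ U)).op t := by
    intro i
    obtain ⟨b, hb⟩ := IsBasisOver.exists_smul L (he i) (inf_le_left : O i ⊓ U ≤ O i)
      (L.presheaf.map (homOfLE (inf_le_inf_right U (hOV i) : O i ⊓ U ≤ V ⊓ U)).op t)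
    obtain ⟨a, ha⟩ := (hO (O i)).2 b
    refine ⟨a • e i, ?_⟩
    rw [Scheme.Modules.map_smul, ha, hb]
  choose sf hsf using hloc
  have hcompat : ∀ i j, L.presheaf.map (homOfLE (inf_le_left : O i ⊓ O j ≤ O i)).op (sf i) =
      L.presheaf.map (homOfLE (inf_le_right : O i ⊓ O j ≤ O j)).op (sf j) := by
    intro i j
    apply hinj (O i ⊓ O j)
    rw [res_res, res_res]
    have e1 : (O i ⊓ O j) ⊓ U ≤ O i ⊓ U := inf_le_inf_right U inf_le_left
    have e2 : (O i ⊓ O j) ⊓ U ≤ O j ⊓ U := inf_le_inf_right U inf_le_right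
    have h1 := congrArg (L.presheaf.map (homOfLE e1).op) (hsf i)
    have h2 := congrArg (L.presheaf.map (homOfLE e2).op) (hsf j)
    rw [res_res, res_res] at h1 h2
    exact h1.trans h2.symm
  obtain ⟨s, hs⟩ := exists_glue_section L O V hOV hcov sf hcompat
  refine ⟨s, ?_⟩
  refine section_ext_of_cover L (fun i => O i ⊓ U) (fun i => inf_le_inf_right U (hOV i)) ?_ _ _ ?_
  · rintro x ⟨hxV, hxU⟩
    rw [Opens.mem_iSup]
    exact ⟨⟨x, hxV⟩, hxO ⟨x, hxV⟩, hxU⟩
  · intro i
    rw [res_res, ← hsf i, ← hs i, res_res]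

end Groth.Agent.H1.InvRes
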