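import Mathlib
import Groth.Prelude
import Groth.Agent.Lib.Helper1.FibCompC

set_option autoImplicit false
set_option linter.style.haveILetI false

universe u

namespace Groth.Agent.H1.IrrFibTot

open AlgebraicGeometry CategoryTheory CategoryTheory.Limits TopologicalSpace Topology

theorem s16201 {k : Type u} [Field k] (Y Z : Scheme.{u}) (g : Z ⟶ Spec (CommRingCat.of k))
    (f : Y ⟶ Z)
    [LocallyOfFiniteType g] [QuasiCompact g] [LocallyOfFiniteType f] [QuasiCompact f]
    [IrreducibleSpace Z]
    (hgen : ∃ V : Z.Opens, (V : Set Z).Nonempty ∧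
      ∀ z ∈ V, IsClosed ({z} : Set Z) → IsIrreducible (f.base ⁻¹' {z}))
    (hdom : ∀ W ∈ irreducibleComponents Y, Dense (f.base '' W)) :
    IrreducibleSpace Y := by
  haveI : IsLocallyNoetherian Z := LocallyOfFiniteType.isLocallyNoetherian g
  haveI : CompactSpace Z := QuasiCompact.compactSpace_of_compactSpace g
  haveI : IsNoetherian Z := {}
  haveI : IsLocallyNoetherian Y := LocallyOfFiniteType.isLocallyNoetherian f
  haveI : CompactSpace Y := QuasiCompact.compactSpace_of_compactSpace f
  haveI : IsNoetherian Y := {}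
  haveI : JacobsonSpace Z := LocallyOfFiniteType.jacobsonSpace g
  haveI : LocallyOfFinitePresentation f := inferInstance
  obtain ⟨V, hVne, hV⟩ := hgen
  have hfin : (irreducibleComponents Y).Finite := finite_irreducibleComponents_of_isNoetherian
  set V₀ : Set Z := (V : Set Z) ∩ closedPoints Z with hV₀
  have hV₀dense : closure V₀ = Set.univ := by
    rw [hV₀, JacobsonSpace.closure_inter_closedPoints_eq_closure V.isOpen.isLocallyClosed]
    exact (V.isOpen.dense hVne).closure_eq
  have hcomp : ∀ z ∈ V₀, ∃ W ∈ irreducibleComponents Y, f.base ⁻¹' {z} ⊆ W := by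
    intro z hz
    obtain ⟨W, hW, hzW⟩ := isIrreducible_iff_sUnion_isClosed.mp (hV z hz.1 hz.2) hfin.toFinset
      (fun W hW => isClosed_of_mem_irreducibleComponents W (hfin.mem_toFinset.mp hW))
      (by rw [hfin.coe_toFinset, sUnion_irreducibleComponents]; exact Set.subset_univ _)
    exact ⟨W, hfin.mem_toFinset.mp hW, hzW⟩
  let D : Set Y → Set Z := fun W => {z | z ∈ V₀ ∧ f.base ⁻¹' {z} ⊆ W}
  obtain ⟨W, hW, hDW⟩ : ∃ W ∈ irreducibleComponents Y, closure (D W) = Set.univ := by
    classical
    have hirr : IsIrreducible (Set.univ : Set Z) := IrreducibleSpace.isIrreducible_univ Z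
    obtain ⟨C, hC, hCuniv⟩ := isIrreducible_iff_sUnion_isClosed.mp hirr
      (hfin.toFinset.image (fun W => closure (D W)))
      (by
        intro C hC
        obtain ⟨W, -, rfl⟩ := Finset.mem_image.mp hC
        exact isClosed_closure)
      (by
        rw [← hV₀dense]
        apply closure_minimal
        · intro z hz
          obtain ⟨W, hW, hzW⟩ := hcomp z hz
          refine Set.mem_sUnion.mpr ⟨closure (D W), ?_, subset_closure ⟨hz, hzW⟩⟩
          exact Finset.mem_coe.mpr (Finset.mem_image.mpr ⟨W, hfin.mem_toFinset.mpr hW, rfl⟩)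
        · rw [Set.sUnion_eq_biUnion]
          apply Set.Finite.isClosed_biUnion (Finset.finite_toSet _)
          intro C hC
          obtain ⟨W, -, rfl⟩ := Finset.mem_image.mp (Finset.mem_coe.mp hC)
          exact isClosed_closure)
    obtain ⟨W, hW, rfl⟩ := Finset.mem_image.mp hC
    exact ⟨W, hfin.mem_toFinset.mp hW, Set.eq_univ_of_univ_subset hCuniv⟩
  have claim : ∀ W' ∈ irreducibleComponents Y, W' = W := by
    intro W' hW'
    by_contra hne
    obtain ⟨ξ, hξ⟩ := QuasiSober.sober hW'.1 (isClosed_of_mem_irreducibleComponents W' hW')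
    set O : Set Y := (⋃₀ (irreducibleComponents Y \ {W'}))ᶜ with hO
    have hOopen : IsOpen O := by
      rw [hO, isOpen_compl_iff, Set.sUnion_eq_biUnion]
      exact hfin.sdiff.isClosed_biUnion fun W hW ↦ isClosed_of_mem_irreducibleComponents W hW.1
    have hξO : ξ ∈ O := by
      rintro ⟨W'', ⟨hW'', hne''⟩, hξW''⟩
      have hsub : W' ⊆ W'' := by
        rw [← hξ.def]
        exact (isClosed_of_mem_irreducibleComponents W'' hW'').closure_subset_iff.mpr
          (Set.singleton_subset_iff.mpr hξW'')
      exact hne'' (Set.mem_singleton_iff.mpr (Set.Subset.antisymm (hW'.2 hW''.1 hsub) hsub))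
    have hη : closure ({f.base ξ} : Set Z) = Set.univ := by
      have h1 : f.base '' W' ⊆ closure {f.base ξ} := by
        rw [← hξ.def]
        refine (image_closure_subset_closure_image f.base.hom.continuous).trans ?_
        rw [Set.image_singleton]
      have h2 := (hdom W' hW').closure_eq
      apply Set.eq_univ_of_univ_subset
      rw [← h2]
      exact closure_minimal h1 isClosed_closure
    have hOc : IsLocallyConstructible O :=
      ((NoetherianSpace.isCompact O).isConstructible hOopen).isLocallyConstructible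
    have himg : IsLocallyConstructible (f.base '' O) := f.isLocallyConstructible_image hOc
    have hnhds : f.base '' O ∈ nhds (f.base ξ) := by
      apply Groth.Agent.H1.FibComp.mem_nhds_of_isLocallyConstructible himg
      intro z hz
      have hz2 : f.base ξ ⤳ z := by
        rw [specializes_iff_mem_closure, hη]; trivial
      rw [(hz.antisymm hz2).eq]
      exact ⟨ξ, hξO, rfl⟩
    obtain ⟨U', hU'sub, hU'o, hηU'⟩ := mem_nhds_iff.mp hnhds
    have hDdense : Dense (D W) := dense_iff_closure_eq.mpr hDW
    obtain ⟨z, hzU', hzD⟩ := hDdense.inter_open_nonempty U' hU'o ⟨_, hηU'⟩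
    obtain ⟨y, hyO, hyz⟩ := hU'sub hzU'
    have hyW : y ∈ W := hzD.2 hyz
    apply hyO
    exact Set.mem_sUnion.mpr ⟨W, ⟨hW, fun h => hne (Set.mem_singleton_iff.mp h).symm⟩, hyW⟩
  have hYW : (Set.univ : Set Y) = W := by
    apply Set.Subset.antisymm _ (Set.subset_univ _)
    intro y _
    have := claim _ (irreducibleComponent_mem_irreducibleComponents y)
    rw [← this]; exact mem_irreducibleComponent
  refine (irreducibleSpace_def Y).mpr ?_
  show IsIrreducible (Set.univ : Set Y)
  rw [hYW]; exact hW.1

end Groth.Agent.H1.IrrFibTot
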