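import Mathlib
import Groth.Statements.S16394
import Groth.Agent.Lib.Helper5.EffDec.A

/-!
# A separating family of homomorphisms `X → A` of proper group schemes over a field contains a finite
jointly monomorphic subfamily (S16394): descending chain condition on closed subschemes.
-/

set_option autoImplicit false
universe u
open CategoryTheory AlgebraicGeometry Limits

namespace Groth.Agent.H1.JointMono

section Sch

/-- the ideal sheaf of the kernel of `g` (fibre over the section `eA`). -/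
noncomputable def kerIdeal {Xl Al S : Scheme.{u}} (g : Xl ⟶ Al) (eA : S ⟶ Al) :
    Xl.IdealSheafData :=
  (pullback.fst g eA).ker

theorem killed_iff {Xl Al S T : Scheme.{u}} (cX : Xl ⟶ S) (cA : Al ⟶ S) (g : Xl ⟶ Al)
    (hg : g ≫ cA = cX) (eA : S ⟶ Al) (heA : eA ≫ cA = 𝟙 S) [IsClosedImmersion eA] (x : T ⟶ Xl) :
    x ≫ g = (x ≫ cX) ≫ eA ↔ kerIdeal g eA ≤ x.ker := by
  have hsnd : pullback.snd g eA = pullback.fst g eA ≫ cX := by
    rw [← hg, ← Category.assoc, pullback.condition, Category.assoc, heA, Category.comp_id]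
  constructor
  · intro h
    have h1 : pullback.lift x (x ≫ cX) h ≫ pullback.fst g eA = x := pullback.lift_fst _ _ _
    have h2 := Scheme.Hom.le_ker_comp (pullback.lift x (x ≫ cX) h) (pullback.fst g eA)
    rw [h1] at h2
    exact h2
  · intro H
    obtain ⟨l, hl⟩ : ∃ l, l ≫ pullback.fst g eA = x :=
      ⟨_, IsClosedImmersion.lift_fac (pullback.fst g eA) x H⟩
    calc x ≫ g = (l ≫ pullback.fst g eA) ≫ g := by rw [hl]
      _ = l ≫ pullback.snd g eA ≫ eA := by rw [Category.assoc, pullback.condition]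
      _ = ((l ≫ pullback.fst g eA) ≫ cX) ≫ eA := by rw [hsnd]; simp only [Category.assoc]
      _ = (x ≫ cX) ≫ eA := by rw [hl]

theorem exists_maximal_family {Xl : Scheme.{u}} [IsNoetherian Xl] {ι : Type*}
    (I : ι → Xl.IdealSheafData) :
    ∃ (n : ℕ) (ψ : Fin n → ι), ∀ f : ι, I f ≤ ⨆ i, I (ψ i) := by
  have hne : {J : Xl.IdealSheafData | ∃ (n : ℕ) (ψ : Fin n → ι), J = ⨆ i, I (ψ i)}.Nonempty :=
    ⟨_, 0, Fin.elim0, rfl⟩
  obtain ⟨J0, ⟨n, ψ, rfl⟩, hmax⟩ :=
    WellFounded.has_min (wellFounded_gt (α := Xl.IdealSheafData)) _ hne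
  refine ⟨n, ψ, fun f => ?_⟩
  obtain ⟨ψ', hψ'0, hψ's⟩ : ∃ ψ' : Fin (n + 1) → ι, ψ' 0 = f ∧ ∀ i : Fin n, ψ' i.succ = ψ i :=
    ⟨Fin.cons f ψ, Fin.cons_zero _ _, fun i => Fin.cons_succ _ _ _⟩
  have hle : (⨆ i, I (ψ i)) ≤ ⨆ i, I (ψ' i) := by
    apply iSup_le
    intro i
    rw [← hψ's i]
    exact le_iSup (fun j => I (ψ' j)) i.succ
  have heq : (⨆ i, I (ψ' i)) = ⨆ i, I (ψ i) := by
    by_contra hne'
    exact hmax _ ⟨n + 1, ψ', rfl⟩ (lt_of_le_of_ne hle (Ne.symm hne'))
  rw [← heq, ← hψ'0]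
  exact le_iSup (fun j => I (ψ' j)) 0

end Sch

section Grp

open MonoidalCategory CartesianMonoidalCategory MonObj

theorem main (k : Type u) [Field k] (X A : Over (Spec (CommRingCat.of k))) [GrpObj X]
    [IsCommMonObj X] [IsProper X.hom] [GrpObj A] [IsCommMonObj A] [IsProper A.hom]
    (hsep : ∀ (T : Over (Spec (CommRingCat.of k))) (x : T ⟶ X),
      (∀ f : EndAV.Hom X A, x ≫ f.toHom = 1) → x = 1) :
    ∃ (n : ℕ) (ψ : Fin n → EndAV.Hom X A), ∀ (T : Over (Spec (CommRingCat.of k))) (x y : T ⟶ X),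
      (∀ i, x ≫ (ψ i).toHom = y ≫ (ψ i).toHom) → x = y := by
  obtain ⟨eA, heA⟩ : ∃ eA : Spec (CommRingCat.of k) ⟶ A.left, eA = η[A].left := ⟨_, rfl⟩
  obtain ⟨eX, heX⟩ : ∃ eX : Spec (CommRingCat.of k) ⟶ X.left, eX = η[X].left := ⟨_, rfl⟩
  obtain ⟨cA, hcA⟩ : ∃ cA : A.left ⟶ Spec (CommRingCat.of k), cA = A.hom := ⟨_, rfl⟩
  obtain ⟨cX, hcX⟩ : ∃ cX : X.left ⟶ Spec (CommRingCat.of k), cX = X.hom := ⟨_, rfl⟩
  have h1 : eA ≫ cA = 𝟙 _ := by rw [heA, hcA]; exact Over.w η[A]
  haveI : IsProper cA := by rw [hcA]; infer_instance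
  haveI : IsProper cX := by rw [hcX]; infer_instance
  haveI : IsClosedImmersion (eA ≫ cA) := by rw [h1]; infer_instance
  haveI : IsClosedImmersion eA := IsClosedImmersion.of_comp eA cA
  haveI : IsLocallyNoetherian X.left := LocallyOfFiniteType.isLocallyNoetherian cX
  haveI : CompactSpace X.left := QuasiCompact.compactSpace_of_compactSpace cX
  haveI : IsNoetherian X.left := {}
  have hg : ∀ f : EndAV.Hom X A, f.toHom.left ≫ cA = cX := fun f => by
    rw [hcA, hcX]; exact Over.w f.toHom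
  have hkill : ∀ (f : EndAV.Hom X A) (T : Over (Spec (CommRingCat.of k))) (x : T ⟶ X),
      x ≫ f.toHom = 1 ↔ kerIdeal f.toHom.left eA ≤ x.left.ker := by
    intro f T x
    rw [← killed_iff cX cA f.toHom.left (hg f) eA h1 x.left]
    constructor
    · intro h
      have := congrArg CommaMorphism.left h
      rw [hcX, Over.w x, heA]
      exact this
    · intro h
      apply Over.OverMorphism.ext
      rw [hcX, Over.w x, heA] at h
      exact h
  obtain ⟨n, ψ, hψ⟩ := exists_maximal_family (fun f : EndAV.Hom X A => kerIdeal f.toHom.left eA)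
  refine ⟨n, ψ, ?_⟩
  obtain ⟨J0, hJ0⟩ : ∃ J0 : X.left.IdealSheafData, J0 = ⨆ i, kerIdeal (ψ i).toHom.left eA :=
    ⟨_, rfl⟩
  have hz : J0.subschemeι = (J0.subschemeι ≫ cX) ≫ eX := by
    have h2 := hsep (Over.mk (J0.subschemeι ≫ X.hom)) (Over.homMk J0.subschemeι rfl) (by
      intro f
      rw [hkill]
      show kerIdeal f.toHom.left eA ≤ J0.subschemeι.ker
      rw [Scheme.IdealSheafData.ker_subschemeι, hJ0]
      exact hψ f)
    have h3 := congrArg CommaMorphism.left h2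
    rw [hcX, heX]
    exact h3
  intro T x y hxy
  have hd : ∀ i, (x / y) ≫ (ψ i).toHom = 1 := fun i => by
    rw [GrpObj.div_comp, hxy i, div_self']
  have hle : J0.subschemeι.ker ≤ (x / y).left.ker := by
    rw [Scheme.IdealSheafData.ker_subschemeι, hJ0]
    apply iSup_le
    intro i
    exact (hkill (ψ i) T (x / y)).mp (hd i)
  obtain ⟨l, hl⟩ : ∃ l, l ≫ J0.subschemeι = (x / y).left :=
    ⟨_, IsClosedImmersion.lift_fac J0.subschemeι _ hle⟩
  have h4 : (x / y).left = ((x / y).left ≫ cX) ≫ eX := by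
    rw [← hl, Category.assoc l J0.subschemeι cX, Category.assoc l (J0.subschemeι ≫ cX) eX, ← hz]
  have h5 : x / y = 1 := by
    apply Over.OverMorphism.ext
    calc (x / y).left = ((x / y).left ≫ cX) ≫ eX := h4
      _ = T.hom ≫ η[X].left := by rw [hcX, Over.w (x / y), heX]
      _ = (1 : T ⟶ X).left := rfl
  exact div_eq_one.mp h5

end Grp

end Groth.Agent.H1.JointMono
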