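import Mathlib
import Groth.Prelude.Def_KZero

universe v u v' u'

open CategoryTheory CategoryTheory.Limits KZero ZeroObject

namespace Groth.Agent.H1.K0

section basic

variable {A : Type u} [Category.{v} A] [Abelian A]

lemma cl_rel (S : ShortComplex A) (hS : S.ShortExact) : cl S.X₂ = cl S.X₁ + cl S.X₃ := by
  have h : FreeAbelianGroup.of S.X₂ - FreeAbelianGroup.of S.X₁ - FreeAbelianGroup.of S.X₃
      ∈ relAb A := AddSubgroup.subset_closure ⟨S, hS, rfl⟩
  have h2 := (QuotientAddGroup.eq_zero_iff _).mpr h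
  have h3 : cl S.X₂ - cl S.X₁ - cl S.X₃ = 0 := h2
  rw [sub_sub, sub_eq_zero] at h3
  exact h3

lemma cl_isZero {X : A} (hX : IsZero X) : cl X = 0 := by
  have hS : (ShortComplex.mk (𝟙 X) (0 : X ⟶ X) (by simp)).ShortExact :=
    (ShortComplex.Splitting.ofIsIsoOfIsZero _ (by dsimp; infer_instance) hX).shortExact
  have := cl_rel _ hS
  dsimp at this
  exact (add_eq_left.mp this.symm)

lemma cl_iso {X Y : A} (e : X ≅ Y) : cl X = cl Y := by
  have hS : (ShortComplex.mk e.hom (0 : Y ⟶ 0) (by simp)).ShortExact :=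
    (ShortComplex.Splitting.ofIsIsoOfIsZero _ (by dsimp; infer_instance) (isZero_zero A)).shortExact
  have := cl_rel _ hS
  dsimp at this
  rw [this, cl_isZero (isZero_zero A), add_zero]

lemma cl_biprod (X Y : A) : cl (X ⊞ Y) = cl X + cl Y :=
  cl_rel _ (ShortComplex.Splitting.ofHasBinaryBiproduct X Y).shortExact

lemma cl_ker_coim {X Y : A} (f : X ⟶ Y) : cl X = cl (kernel f) + cl (Abelian.coimage f) := by
  have hS : (ShortComplex.cokernelSequence (kernel.ι f)).ShortExact :=
    { exact := ShortComplex.cokernelSequence_exact _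
      mono_f := show Mono (kernel.ι f) from inferInstance
      epi_g := inferInstance }
  exact cl_rel _ hS

lemma cl_im_coker {X Y : A} (f : X ⟶ Y) : cl Y = cl (Abelian.image f) + cl (cokernel f) := by
  have hS : (ShortComplex.kernelSequence (cokernel.π f)).ShortExact :=
    { exact := ShortComplex.kernelSequence_exact _
      mono_f := inferInstance
      epi_g := show Epi (cokernel.π f) from inferInstance }
  exact cl_rel _ hS

lemma cl_coim_eq_im {X Y : A} (f : X ⟶ Y) : cl (Abelian.coimage f) = cl (Abelian.image f) :=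
  cl_iso (Abelian.coimageIsoImage f)

lemma cl_homology (S : ShortComplex A) :
    cl S.homology = cl S.X₂ - cl (Abelian.coimage S.g) - cl (Abelian.coimage S.f) := by
  set c := kernel.lift S.g S.f S.zero with hc
  have h1 := cl_ker_coim S.g
  have h2 := cl_im_coker c
  have h3 := cl_coim_eq_im c
  have h4 := cl_ker_coim c
  have h5 := cl_ker_coim S.f
  have h6 : cl (kernel c) = cl (kernel S.f) :=
    cl_iso ((kernelCompMono c (kernel.ι S.g)).symm ≪≫ kernelIsoOfEq (kernel.lift_ι _ _ _))
  have h7 : cl S.homology = cl (cokernel c) := cl_iso S.homologyIsoCokernelLift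
  have key : cl (Abelian.coimage c) = cl (Abelian.coimage S.f) := by
    have := h4.symm.trans h5
    rw [h6] at this
    exact add_left_cancel this
  rw [h7, h1, h2, ← h3, key]
  abel

end basic

section sub

variable {A : Type u} [Category.{v} A] [Abelian A] (P : ObjectProperty A) [P.IsSerreClass]

lemma clSub_of {X : A} (hX : P X) :
    clSub P X = QuotientAddGroup.mk (FreeAbelianGroup.of (⟨X, hX⟩ : Subtype P)) := by
  unfold clSub
  rw [dif_pos hX]

lemma clSub_rel (S : ShortComplex A) (hS : S.ShortExact) (h₁ : P S.X₁) (h₂ : P S.X₂)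
    (h₃ : P S.X₃) : clSub P S.X₂ = clSub P S.X₁ + clSub P S.X₃ := by
  have h : FreeAbelianGroup.of (⟨S.X₂, h₂⟩ : Subtype P) - FreeAbelianGroup.of ⟨S.X₁, h₁⟩ -
      FreeAbelianGroup.of ⟨S.X₃, h₃⟩ ∈ relSub P :=
    AddSubgroup.subset_closure ⟨S, h₁, h₂, h₃, hS, rfl⟩
  have h2 := (QuotientAddGroup.eq_zero_iff _).mpr h
  rw [clSub_of P h₁, clSub_of P h₂, clSub_of P h₃]
  rw [QuotientAddGroup.mk_sub, QuotientAddGroup.mk_sub, sub_sub, sub_eq_zero] at h2
  exact h2

lemma clSub_isZero {X : A} (hX : IsZero X) : clSub P X = 0 := by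
  have hP : P X := P.prop_of_isZero hX
  have hS : (ShortComplex.mk (𝟙 X) (0 : X ⟶ X) (by simp)).ShortExact :=
    (ShortComplex.Splitting.ofIsIsoOfIsZero _ (by dsimp; infer_instance) hX).shortExact
  have := clSub_rel P _ hS hP hP hP
  dsimp at this
  exact (add_eq_left.mp this.symm)

lemma clSub_iso {X Y : A} (e : X ≅ Y) (hX : P X) : clSub P X = clSub P Y := by
  have hS : (ShortComplex.mk e.hom (0 : Y ⟶ 0) (by simp)).ShortExact :=
    (ShortComplex.Splitting.ofIsIsoOfIsZero _ (by dsimp; infer_instance) (isZero_zero A)).shortExact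
  have := clSub_rel P _ hS hX (P.prop_of_iso e hX) (P.prop_of_isZero (isZero_zero A))
  dsimp at this
  rw [this, clSub_isZero P (isZero_zero A), add_zero]

lemma clSub_biprod {X Y : A} (hX : P X) (hY : P Y) :
    clSub P (X ⊞ Y) = clSub P X + clSub P Y :=
  clSub_rel P _ (ShortComplex.Splitting.ofHasBinaryBiproduct X Y).shortExact hX
    (P.prop_biprod hX hY) hY

lemma repr (x : K0sub P) : ∃ X Y : A, P X ∧ P Y ∧ x = clSub P X - clSub P Y := by
  obtain ⟨z, rfl⟩ := QuotientAddGroup.mk_surjective x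
  have h0 : P (0 : A) := P.prop_of_isZero (isZero_zero A)
  induction z using FreeAbelianGroup.induction_on with
  | zero => exact ⟨0, 0, h0, h0, by simp⟩
  | of X =>
    obtain ⟨X, hX⟩ := X
    exact ⟨X, 0, hX, h0, by rw [clSub_of P hX, clSub_isZero P (isZero_zero A), sub_zero]⟩
  | neg X _ =>
    obtain ⟨X, hX⟩ := X
    exact ⟨0, X, h0, hX, by
      rw [clSub_of P hX, clSub_isZero P (isZero_zero A), zero_sub]; rfl⟩
  | add a b ha hb =>
    obtain ⟨X, Y, hX, hY, h⟩ := ha
    obtain ⟨X', Y', hX', hY', h'⟩ := hb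
    refine ⟨X ⊞ X', Y ⊞ Y', P.prop_biprod hX hX', P.prop_biprod hY hY', ?_⟩
    rw [clSub_biprod P hX hX', clSub_biprod P hY hY', QuotientAddGroup.mk_add, h, h']
    abel

/-- The map `K₀(P) → K₀(A)`. -/
noncomputable def iota : K0sub P →+ K0 A :=
  QuotientAddGroup.map (relSub P) (relAb A) (FreeAbelianGroup.map Subtype.val)
    ((AddSubgroup.closure_le _).mpr (by
      rintro _ ⟨S, h₁, h₂, h₃, hS, rfl⟩
      refine AddSubgroup.mem_comap.mpr (AddSubgroup.subset_closure ⟨S, hS, ?_⟩)
      simp [FreeAbelianGroup.map_of_apply]))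

lemma iota_clSub {X : A} (hX : P X) : iota P (clSub P X) = cl X := by
  rw [clSub_of P hX]
  rfl

end sub

section lam

variable {A : Type u} [Category.{v} A] [Abelian A]
  {Q : Type u'} [Category.{v'} Q] [Abelian Q]
  (L : A ⥤ Q) [L.Additive] [PreservesFiniteLimits L] [PreservesFiniteColimits L]

/-- The map `K₀(A) → K₀(Q)` induced by an exact functor. -/
noncomputable def lam : K0 A →+ K0 Q :=
  QuotientAddGroup.map (relAb A) (relAb Q) (FreeAbelianGroup.map L.obj)
    ((AddSubgroup.closure_le _).mpr (by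
      rintro _ ⟨S, hS, rfl⟩
      refine AddSubgroup.mem_comap.mpr
        (AddSubgroup.subset_closure ⟨S.map L, hS.map_of_exact L, ?_⟩)
      simp [FreeAbelianGroup.map_of_apply]))

lemma lam_cl (X : A) : lam L (cl X) = cl (L.obj X) := rfl

lemma lam_mk (z : FreeAbelianGroup A) :
    lam L (QuotientAddGroup.mk z) = QuotientAddGroup.mk (FreeAbelianGroup.map L.obj z) := rfl

end lam

end Groth.Agent.H1.K0
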