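import Mathlib
import Groth.Prelude.Def_KZero
import Groth.Agent.Lib.Helper1.K0A

universe v u v' u'

open CategoryTheory CategoryTheory.Limits KZero ZeroObject

namespace Groth.Agent.H1.K0

variable {A : Type u} [Category.{v} A] [Abelian A] (P : ObjectProperty A) [P.IsSerreClass]
  {Q : Type u'} [Category.{v'} Q] [Abelian Q]
  (L : A ⥤ Q) [L.IsLocalization P.isoModSerre] [L.Additive] [PreservesFiniteLimits L]
  [PreservesFiniteColimits L]

lemma cl_sub_mem_of_W {U V : A} (f : U ⟶ V) (hf : P.isoModSerre f) :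
    cl U - cl V ∈ (iota P).range := by
  have h1 := cl_ker_coim f
  have h2 := cl_im_coker f
  have h3 := cl_coim_eq_im f
  have : cl U - cl V = iota P (clSub P (kernel f)) - iota P (clSub P (cokernel f)) := by
    rw [iota_clSub P hf.1, iota_clSub P hf.2, h1, h2, h3]; abel
  rw [this]
  exact sub_mem ⟨_, rfl⟩ ⟨_, rfl⟩

include L in
lemma cl_sub_mem_of_iso {U V : A} (e : L.obj U ≅ L.obj V) : cl U - cl V ∈ (iota P).range := by
  obtain ⟨φ, hφ⟩ := Localization.exists_rightFraction L P.isoModSerre e.hom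
  haveI : IsIso (L.map φ.s) := Localization.inverts L P.isoModSerre _ φ.hs
  have hf : P.isoModSerre φ.f := by
    rw [← ObjectProperty.SerreClassLocalization.isIso_map_iff L P]
    have : L.map φ.f = L.map φ.s ≫ e.hom := by
      rw [hφ]; simp
    rw [this]
    infer_instance
  have h1 := cl_sub_mem_of_W P φ.s φ.hs
  have h2 := cl_sub_mem_of_W P φ.f hf
  have : cl U - cl V = (cl φ.X' - cl V) - (cl φ.X' - cl U) := by abel
  rw [this]; exact sub_mem h2 h1

include P in
lemma lift_ses (E : ShortComplex Q) (hE : E.ShortExact) :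
    ∃ (S : ShortComplex A), S.ShortExact ∧ Nonempty (L.obj S.X₁ ≅ E.X₁) ∧
      Nonempty (L.obj S.X₂ ≅ E.X₂) ∧ Nonempty (L.obj S.X₃ ≅ E.X₃) := by
  haveI := Localization.essSurj L P.isoModSerre
  haveI := hE.mono_f
  haveI := hE.epi_g
  let e₂ := L.objObjPreimageIso E.X₂
  let e₃ := L.objObjPreimageIso E.X₃
  obtain ⟨φ, hφ⟩ := Localization.exists_rightFraction L P.isoModSerre (e₂.hom ≫ E.g ≫ e₃.inv)
  haveI : IsIso (L.map φ.s) := Localization.inverts L P.isoModSerre _ φ.hs
  let a₂ : L.obj φ.X' ≅ E.X₂ := asIso (L.map φ.s) ≪≫ e₂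
  have hf : L.map φ.f = a₂.hom ≫ (E.g ≫ e₃.inv) := by
    have := φ.map_s_comp_map L (Localization.inverts L P.isoModSerre)
    rw [← hφ] at this
    simp [a₂, ← this]
  have hS : (ShortComplex.cokernelSequence (kernel.ι φ.f)).ShortExact :=
    { exact := ShortComplex.cokernelSequence_exact _
      mono_f := show Mono (kernel.ι φ.f) from inferInstance
      epi_g := inferInstance }
  refine ⟨_, hS, ⟨?_⟩, ⟨a₂⟩, ⟨?_⟩⟩
  · exact PreservesKernel.iso L φ.f ≪≫ kernelIsoOfEq hf ≪≫
      kernelIsIsoComp a₂.hom (E.g ≫ e₃.inv) ≪≫ kernelCompMono E.g e₃.inv ≪≫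
      IsLimit.conePointUniqueUpToIso (kernelIsKernel E.g) hE.exact.fIsKernel
  · have hepi : Epi (L.map φ.f) := by rw [hf]; infer_instance
    have hfac : L.map (Abelian.coimage.π φ.f) ≫ L.map (Abelian.factorThruCoimage φ.f) =
        L.map φ.f := by
      rw [← L.map_comp, Abelian.coimage.fac]
    haveI : Epi (L.map (Abelian.factorThruCoimage φ.f)) := by
      rw [← hfac] at hepi
      exact epi_of_epi (L.map (Abelian.coimage.π φ.f)) _
    haveI : Mono (L.map (Abelian.factorThruCoimage φ.f)) := inferInstance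
    have hiso : IsIso (L.map (Abelian.factorThruCoimage φ.f)) := isIso_of_mono_of_epi _
    exact (@asIso _ _ _ _ (L.map (Abelian.factorThruCoimage φ.f)) hiso) ≪≫ e₃

/-- auxiliary map `ℤ[Ob Q] → K₀(A)/im ι`. -/
noncomputable def mfun : FreeAbelianGroup Q →+ K0 A ⧸ (iota P).range :=
  haveI := Localization.essSurj L P.isoModSerre
  FreeAbelianGroup.lift (fun Y => QuotientAddGroup.mk (cl (L.objPreimage Y)))

lemma mfun_of_iso {Y : Q} {X : A} (e : L.obj X ≅ Y) :
    mfun P L (FreeAbelianGroup.of Y) = QuotientAddGroup.mk (cl X) := by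
  haveI := Localization.essSurj L P.isoModSerre
  rw [mfun, FreeAbelianGroup.lift_apply_of]
  refine QuotientAddGroup.eq.mpr ?_
  rw [neg_add_eq_sub]
  exact cl_sub_mem_of_iso P L (e ≪≫ (L.objObjPreimageIso Y).symm)

lemma mfun_rel : relAb Q ≤ (mfun P L).ker := by
  refine (AddSubgroup.closure_le _).mpr ?_
  rintro _ ⟨E, hE, rfl⟩
  obtain ⟨S, hS, ⟨e₁⟩, ⟨e₂⟩, ⟨e₃⟩⟩ := lift_ses P L E hE
  refine (AddMonoidHom.mem_ker).mpr ?_
  rw [map_sub, map_sub, mfun_of_iso P L e₂, mfun_of_iso P L e₁, mfun_of_iso P L e₃,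
    ← QuotientAddGroup.mk_sub, ← QuotientAddGroup.mk_sub, cl_rel S hS]
  simp

lemma mfun_map (z : FreeAbelianGroup A) :
    mfun P L (FreeAbelianGroup.map L.obj z) =
      QuotientAddGroup.mk (QuotientAddGroup.mk z : K0 A) := by
  induction z using FreeAbelianGroup.induction_on with
  | zero => simp
  | of X => rw [FreeAbelianGroup.map_of_apply]; exact mfun_of_iso P L (Iso.refl _)
  | neg X h => rw [map_neg, map_neg, h]; rfl
  | add x y hx hy => rw [map_add, map_add, hx, hy]; rfl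

lemma ker_le : (lam L).ker ≤ (iota P).range := by
  intro x hx
  obtain ⟨z, rfl⟩ := QuotientAddGroup.mk_surjective x
  rw [AddMonoidHom.mem_ker, lam_mk] at hx
  have h1 : FreeAbelianGroup.map L.obj z ∈ relAb Q := (QuotientAddGroup.eq_zero_iff _).mp hx
  have h2 : mfun P L (FreeAbelianGroup.map L.obj z) = 0 := mfun_rel P L h1
  rw [mfun_map] at h2
  exact (QuotientAddGroup.eq_zero_iff _).mp h2

include P in
lemma lam_surj : Function.Surjective (lam L) := by
  haveI := Localization.essSurj L P.isoModSerre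
  intro y
  obtain ⟨z, rfl⟩ := QuotientAddGroup.mk_surjective y
  induction z using FreeAbelianGroup.induction_on with
  | zero => exact ⟨0, map_zero _⟩
  | of Y => exact ⟨cl (L.objPreimage Y), by rw [lam_cl]; exact cl_iso (L.objObjPreimageIso Y)⟩
  | neg Y h => obtain ⟨x, hx⟩ := h; exact ⟨-x, by rw [map_neg, hx]; rfl⟩
  | add a b ha hb =>
    obtain ⟨x, hx⟩ := ha
    obtain ⟨x', hx'⟩ := hb
    exact ⟨x + x', by rw [map_add, hx, hx']; rfl⟩

lemma range_le : (iota P).range ≤ (lam L).ker := by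
  rintro _ ⟨x, rfl⟩
  rw [AddMonoidHom.mem_ker]
  obtain ⟨X, Y, hX, hY, rfl⟩ := repr P x
  rw [map_sub, iota_clSub P hX, iota_clSub P hY, map_sub, lam_cl, lam_cl,
    cl_isZero ((ObjectProperty.SerreClassLocalization.isZero_obj_iff L P X).mpr hX),
    cl_isZero ((ObjectProperty.SerreClassLocalization.isZero_obj_iff L P Y).mpr hY), sub_zero]

lemma ker_eq : (lam L).ker = (iota P).range :=
  le_antisymm (ker_le P L) (range_le P L)

end Groth.Agent.H1.K0
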