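import Mathlib
import Groth.Prelude.Def_KZero
import Groth.Agent.Lib.Helper1.K0A

universe v u

open CategoryTheory CategoryTheory.Limits KZero ZeroObject

namespace Groth.Agent.H1.K0

variable {A : Type u} [Category.{v} A] [Abelian A]

/-- sum of two short complexes -/
noncomputable def ssum (S S' : ShortComplex A) : ShortComplex A :=
  ShortComplex.mk (biprod.map S.f S'.f) (biprod.map S.g S'.g) (by ext <;> simp)

lemma ssum_shortExact {S S' : ShortComplex A} (hS : S.ShortExact) (hS' : S'.ShortExact) :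
    (ssum S S').ShortExact := by
  haveI := hS.mono_f
  haveI := hS'.mono_f
  haveI := hS.epi_g
  haveI := hS'.epi_g
  refine { exact := ?_, mono_f := show Mono (biprod.map S.f S'.f) from inferInstance,
           epi_g := show Epi (biprod.map S.g S'.g) from inferInstance }
  rw [ShortComplex.exact_iff_exact_up_to_refinements]
  intro T (x₂ : T ⟶ S.X₂ ⊞ S'.X₂) (hx₂' : x₂ ≫ biprod.map S.g S'.g = 0)
  have e1 : (x₂ ≫ biprod.fst) ≫ S.g = 0 := by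
    have := congrArg (· ≫ biprod.fst) hx₂'
    simpa using this
  have e2 : (x₂ ≫ biprod.snd) ≫ S'.g = 0 := by
    have := congrArg (· ≫ biprod.snd) hx₂'
    simpa using this
  obtain ⟨T₁, π₁, hπ₁, y₁, hy₁⟩ := hS.exact.exact_up_to_refinements _ e1
  have e2' : (π₁ ≫ x₂ ≫ biprod.snd) ≫ S'.g = 0 := by
    rw [Category.assoc, e2, comp_zero]
  obtain ⟨T₂, π₂, hπ₂, y₂, hy₂⟩ := hS'.exact.exact_up_to_refinements _ e2'
  refine ⟨T₂, π₂ ≫ π₁, epi_comp _ _, biprod.lift (π₂ ≫ y₁) y₂, ?_⟩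
  show (π₂ ≫ π₁) ≫ x₂ = biprod.lift (π₂ ≫ y₁) y₂ ≫ biprod.map S.f S'.f
  apply biprod.hom_ext
  · simp only [Category.assoc, biprod.map_fst, biprod.lift_fst_assoc]
    rw [← hy₁]
  · simp only [Category.assoc, biprod.map_snd, biprod.lift_snd_assoc]
    rw [← hy₂]

lemma homology_iso_of (S : ShortComplex A) {K H : A} (i : K ⟶ S.X₂) (π : K ⟶ H)
    (f' : S.X₁ ⟶ K) (wi : i ≫ S.g = 0) (hi : IsLimit (KernelFork.ofι i wi))
    (hf' : f' ≫ i = S.f) (wπ : f' ≫ π = 0) (hπ : IsColimit (CokernelCofork.ofπ π wπ)) :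
    Nonempty (S.homology ≅ H) := by
  have h : f' = hi.lift (KernelFork.ofι S.f S.zero) :=
    Fork.IsLimit.hom_ext hi (by rw [Fork.IsLimit.lift_ι]; exact hf')
  subst h
  exact ⟨(ShortComplex.LeftHomologyData.mk K H i π wi hi wπ hπ).homologyIso⟩

lemma homology_half {I I' Wp Wm X Y : A} (a : I' ⟶ Wp) (b : Wp ⟶ I) (c : I ⟶ Wm) (d : Wm ⟶ I')
    (hab : a ≫ b = 0) (hcd : c ≫ d = 0)
    (hp : (ShortComplex.mk a b hab).ShortExact) (hm : (ShortComplex.mk c d hcd).ShortExact)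
    (w : (biprod.fst ≫ b ≫ c ≫ biprod.inl : Wp ⊞ X ⟶ Wm ⊞ Y) ≫
      (biprod.fst ≫ d ≫ a ≫ biprod.inl : Wm ⊞ Y ⟶ Wp ⊞ X) = 0) :
    Nonempty ((ShortComplex.mk (biprod.fst ≫ b ≫ c ≫ biprod.inl : Wp ⊞ X ⟶ Wm ⊞ Y)
      (biprod.fst ≫ d ≫ a ≫ biprod.inl : Wm ⊞ Y ⟶ Wp ⊞ X) w).homology ≅ Y) := by
  haveI : Mono a := hp.mono_f
  haveI : Epi b := hp.epi_g
  haveI : Mono c := hm.mono_f
  haveI : Epi d := hm.epi_g
  haveI : Mono (ShortComplex.mk c d hcd).f := hm.mono_f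
  have wi : biprod.map c (𝟙 Y) ≫ (biprod.fst ≫ d ≫ a ≫ biprod.inl : Wm ⊞ Y ⟶ Wp ⊞ X) = 0 := by
    simp [reassoc_of% hcd]
  have hi : IsLimit (KernelFork.ofι (biprod.map c (𝟙 Y)) wi) :=
    KernelFork.IsLimit.ofι' _ _ (fun {T} k hk => by
      have hk' : (k ≫ biprod.fst) ≫ d = 0 := by
        rw [← cancel_mono (a ≫ biprod.inl)]
        simpa using hk
      have hl := hm.exact.lift_f (k ≫ biprod.fst) hk'
      dsimp at hl
      exact ⟨biprod.lift (hm.exact.lift (k ≫ biprod.fst) hk') (k ≫ biprod.snd), by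
        ext
        · simp only [Category.assoc, biprod.map_fst, biprod.lift_fst_assoc]
          exact hl
        · simp⟩)
  have hf' : (biprod.fst ≫ b ≫ biprod.inl : Wp ⊞ X ⟶ I ⊞ Y) ≫ biprod.map c (𝟙 Y) =
      biprod.fst ≫ b ≫ c ≫ biprod.inl := by simp
  have wπ : (biprod.fst ≫ b ≫ biprod.inl : Wp ⊞ X ⟶ I ⊞ Y) ≫ biprod.snd = 0 := by simp
  have hπ : IsColimit (CokernelCofork.ofπ (biprod.snd : I ⊞ Y ⟶ Y) wπ) :=
    isCokernelEpiComp (ShortComplex.Splitting.ofHasBinaryBiproduct I Y).gIsCokernel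
      (biprod.fst ≫ b) (by simp)
  exact homology_iso_of _ (biprod.map c (𝟙 Y)) biprod.snd (biprod.fst ≫ b ≫ biprod.inl)
    wi hi hf' wπ hπ

lemma twist {M N : A} (φ₀ : M ⟶ N) (ψ₀ : N ⟶ M) (w₁ : φ₀ ≫ ψ₀ = 0) (w₂ : ψ₀ ≫ φ₀ = 0)
    (θ : M ≅ N) {X Y : A} (e₁ : (ShortComplex.mk φ₀ ψ₀ w₁).homology ≅ Y)
    (e₂ : (ShortComplex.mk ψ₀ φ₀ w₂).homology ≅ X) :
    ∃ (M' : A) (φ ψ : M' ⟶ M') (h₁ : φ ≫ ψ = 0) (h₂ : ψ ≫ φ = 0),
      Nonempty ((ShortComplex.mk φ ψ h₁).homology ≅ Y) ∧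
      Nonempty ((ShortComplex.mk ψ φ h₂).homology ≅ X) := by
  have h₁ : (φ₀ ≫ θ.inv) ≫ (θ.hom ≫ ψ₀) = 0 := by
    rw [Category.assoc, Iso.inv_hom_id_assoc, w₁]
  have h₂ : (θ.hom ≫ ψ₀) ≫ (φ₀ ≫ θ.inv) = 0 := by
    rw [Category.assoc, reassoc_of% w₂, zero_comp, comp_zero]
  have i1 : ShortComplex.mk (φ₀ ≫ θ.inv) (θ.hom ≫ ψ₀) h₁ ≅ ShortComplex.mk φ₀ ψ₀ w₁ :=
    ShortComplex.isoMk (Iso.refl _) θ (Iso.refl _) (by simp) (by simp)
  have i2 : ShortComplex.mk (θ.hom ≫ ψ₀) (φ₀ ≫ θ.inv) h₂ ≅ ShortComplex.mk ψ₀ φ₀ w₂ :=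
    ShortComplex.isoMk θ (Iso.refl _) θ (by simp) (by simp)
  exact ⟨M, _, _, h₁, h₂, ⟨ShortComplex.homologyMapIso i1 ≪≫ e₁⟩,
    ⟨ShortComplex.homologyMapIso i2 ≪≫ e₂⟩⟩

lemma heller_of_data {I I' Wp Wm X Y : A} (a : I' ⟶ Wp) (b : Wp ⟶ I) (c : I ⟶ Wm)
    (d : Wm ⟶ I') (hab : a ≫ b = 0) (hcd : c ≫ d = 0)
    (hp : (ShortComplex.mk a b hab).ShortExact) (hm : (ShortComplex.mk c d hcd).ShortExact)
    (θ : Wp ⊞ X ≅ Wm ⊞ Y) :
    ∃ (M : A) (φ ψ : M ⟶ M) (h₁ : φ ≫ ψ = 0) (h₂ : ψ ≫ φ = 0),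
      Nonempty ((ShortComplex.mk φ ψ h₁).homology ≅ Y) ∧
      Nonempty ((ShortComplex.mk ψ φ h₂).homology ≅ X) := by
  have w₁ : (biprod.fst ≫ b ≫ c ≫ biprod.inl : Wp ⊞ X ⟶ Wm ⊞ Y) ≫
      (biprod.fst ≫ d ≫ a ≫ biprod.inl : Wm ⊞ Y ⟶ Wp ⊞ X) = 0 := by
    simp [reassoc_of% hcd]
  have w₂ : (biprod.fst ≫ d ≫ a ≫ biprod.inl : Wm ⊞ Y ⟶ Wp ⊞ X) ≫
      (biprod.fst ≫ b ≫ c ≫ biprod.inl : Wp ⊞ X ⟶ Wm ⊞ Y) = 0 := by
    simp [reassoc_of% hab]
  obtain ⟨e₁⟩ := homology_half (X := X) (Y := Y) a b c d hab hcd hp hm w₁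
  obtain ⟨e₂⟩ := homology_half (X := Y) (Y := X) c d a b hcd hab hm hp w₂
  exact twist _ _ w₁ w₂ θ e₁ e₂

/-! ### The monoid of isomorphism classes -/

variable (A) in
/-- isomorphism classes of objects -/
def IsoCl : Type u := Quotient (isIsomorphicSetoid A)

namespace IsoCl

/-- the class of an object -/
def mk (X : A) : IsoCl A := Quotient.mk (isIsomorphicSetoid A) X

lemma mk_eq_iff {X Y : A} : mk X = mk Y ↔ Nonempty (X ≅ Y) := Quotient.eq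

lemma mk_surj (q : IsoCl A) : ∃ X, mk X = q := Quotient.exists_rep q

noncomputable instance : Add (IsoCl A) :=
  ⟨Quotient.map₂ (fun X Y => X ⊞ Y) (by
    rintro X X' ⟨e⟩ Y Y' ⟨e'⟩
    exact ⟨biprod.mapIso e e'⟩)⟩

noncomputable instance : Zero (IsoCl A) := ⟨mk 0⟩

lemma mk_add (X Y : A) : mk X + mk Y = mk (X ⊞ Y) := rfl

lemma mk_zero : mk (0 : A) = 0 := rfl

noncomputable instance : AddCommMonoid (IsoCl A) where
  add := (· + ·)
  zero := 0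
  add_assoc := by
    intro x y z
    obtain ⟨X, rfl⟩ := mk_surj x
    obtain ⟨Y, rfl⟩ := mk_surj y
    obtain ⟨Z, rfl⟩ := mk_surj z
    change mk X + mk Y + mk Z = mk X + (mk Y + mk Z)
    simp only [mk_add]
    exact mk_eq_iff.mpr ⟨biprod.associator X Y Z⟩
  zero_add := by
    intro x
    obtain ⟨X, rfl⟩ := mk_surj x
    change mk 0 + mk X = mk X
    rw [mk_add]
    exact mk_eq_iff.mpr ⟨(isoZeroBiprod (isZero_zero A)).symm⟩
  add_zero := by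
    intro x
    obtain ⟨X, rfl⟩ := mk_surj x
    change mk X + mk 0 = mk X
    rw [mk_add]
    exact mk_eq_iff.mpr ⟨(isoBiprodZero (isZero_zero A)).symm⟩
  add_comm := by
    intro x y
    obtain ⟨X, rfl⟩ := mk_surj x
    obtain ⟨Y, rfl⟩ := mk_surj y
    change mk X + mk Y = mk Y + mk X
    simp only [mk_add]
    exact mk_eq_iff.mpr ⟨biprod.braiding X Y⟩
  nsmul := nsmulRec

end IsoCl

variable (A) in
/-- group completion of the monoid of isomorphism classes -/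
abbrev GN : Type u := Algebra.GrothendieckAddGroup (IsoCl A)

/-- class of an object in `GN A` -/
noncomputable def gof (X : A) : GN A := Algebra.GrothendieckAddGroup.of (IsoCl.mk X)

lemma gof_biprod (X Y : A) : gof (X ⊞ Y) = gof X + gof Y := by
  rw [gof, ← IsoCl.mk_add, map_add]; rfl

lemma gof_eq {X Y : A} (h : gof X = gof Y) : ∃ Z : A, Nonempty (Z ⊞ X ≅ Z ⊞ Y) := by
  have h' : (AddLocalization.addMonoidOf (⊤ : AddSubmonoid (IsoCl A))) (IsoCl.mk X) =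
      (AddLocalization.addMonoidOf (⊤ : AddSubmonoid (IsoCl A))) (IsoCl.mk Y) := h
  obtain ⟨c, hc⟩ := (AddLocalization.addMonoidOf (⊤ : AddSubmonoid (IsoCl A))).eq_iff_exists.mp h'
  obtain ⟨Z, hZ⟩ := IsoCl.mk_surj c.1
  rw [← hZ, IsoCl.mk_add, IsoCl.mk_add] at hc
  exact ⟨Z, IsoCl.mk_eq_iff.mp hc⟩

/-- Heller data -/
structure HDat (A : Type u) [Category.{v} A] [Abelian A] where
  I : A
  I' : A
  Wp : A
  Wm : A
  a : I' ⟶ Wp
  b : Wp ⟶ I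
  c : I ⟶ Wm
  d : Wm ⟶ I'
  hab : a ≫ b = 0
  hcd : c ≫ d = 0
  hp : (ShortComplex.mk a b hab).ShortExact
  hm : (ShortComplex.mk c d hcd).ShortExact

namespace HDat

/-- the value of a Heller datum -/
noncomputable def val (D : HDat A) : GN A := gof D.Wm - gof D.Wp

/-- swap -/
def swap (D : HDat A) : HDat A :=
  ⟨D.I', D.I, D.Wm, D.Wp, D.c, D.d, D.a, D.b, D.hcd, D.hab, D.hm, D.hp⟩

lemma val_swap (D : HDat A) : D.swap.val = - D.val := by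
  simp [val, swap]

/-- sum -/
noncomputable def add (D D' : HDat A) : HDat A where
  I := D.I ⊞ D'.I
  I' := D.I' ⊞ D'.I'
  Wp := D.Wp ⊞ D'.Wp
  Wm := D.Wm ⊞ D'.Wm
  a := biprod.map D.a D'.a
  b := biprod.map D.b D'.b
  c := biprod.map D.c D'.c
  d := biprod.map D.d D'.d
  hab := (ssum (ShortComplex.mk D.a D.b D.hab) (ShortComplex.mk D'.a D'.b D'.hab)).zero
  hcd := (ssum (ShortComplex.mk D.c D.d D.hcd) (ShortComplex.mk D'.c D'.d D'.hcd)).zero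
  hp := ssum_shortExact D.hp D'.hp
  hm := ssum_shortExact D.hm D'.hm

lemma val_add (D D' : HDat A) : (D.add D').val = D.val + D'.val := by
  simp only [val, add, gof_biprod]
  abel

/-- trivial datum -/
noncomputable def triv (Z : A) : HDat A where
  I := 0
  I' := Z
  Wp := Z
  Wm := Z
  a := 𝟙 Z
  b := 0
  c := 0
  d := 𝟙 Z
  hab := by simp
  hcd := by simp
  hp := (ShortComplex.Splitting.ofIsIsoOfIsZero _ (by dsimp; infer_instance)
    (isZero_zero A)).shortExact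
  hm := (ShortComplex.Splitting.ofIsZeroOfIsIso _ (isZero_zero A)
    (by dsimp; infer_instance)).shortExact

lemma val_triv (Z : A) : (triv Z).val = 0 := by
  simp [val, triv]

/-- datum of a short exact sequence -/
noncomputable def ofSES (S : ShortComplex A) (hS : S.ShortExact) : HDat A where
  I := S.X₁
  I' := S.X₃
  Wp := S.X₃ ⊞ S.X₁
  Wm := S.X₂
  a := biprod.inl
  b := biprod.snd
  c := S.f
  d := S.g
  hab := by simp
  hcd := S.zero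
  hp := (ShortComplex.Splitting.ofHasBinaryBiproduct S.X₃ S.X₁).shortExact
  hm := hS

lemma val_ofSES (S : ShortComplex A) (hS : S.ShortExact) :
    (ofSES S hS).val = gof S.X₂ - gof S.X₁ - gof S.X₃ := by
  simp only [val, ofSES, gof_biprod]
  abel

end HDat

variable (A) in
/-- the subgroup of values of Heller data -/
noncomputable def hsub : AddSubgroup (GN A) where
  carrier := Set.range (HDat.val (A := A))
  zero_mem' := ⟨HDat.triv 0, HDat.val_triv 0⟩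
  add_mem' := by
    rintro _ _ ⟨D, rfl⟩ ⟨D', rfl⟩
    exact ⟨D.add D', HDat.val_add D D'⟩
  neg_mem' := by
    rintro _ ⟨D, rfl⟩
    exact ⟨D.swap, HDat.val_swap D⟩

variable (A) in
/-- the map from the free abelian group -/
noncomputable def nu : FreeAbelianGroup A →+ GN A := FreeAbelianGroup.lift (fun X => gof X)

lemma nu_of (X : A) : nu A (FreeAbelianGroup.of X) = gof X := by
  rw [nu, FreeAbelianGroup.lift_apply_of]

lemma relAb_le : relAb A ≤ (hsub A).comap (nu A) := by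
  refine (AddSubgroup.closure_le _).mpr ?_
  rintro _ ⟨S, hS, rfl⟩
  refine AddSubgroup.mem_comap.mpr ⟨HDat.ofSES S hS, ?_⟩
  rw [HDat.val_ofSES, map_sub, map_sub, nu_of, nu_of, nu_of]

theorem heller {X Y : A} (h : cl X = cl Y) :
    ∃ (M : A) (φ ψ : M ⟶ M) (h₁ : φ ≫ ψ = 0) (h₂ : ψ ≫ φ = 0),
      Nonempty ((ShortComplex.mk φ ψ h₁).homology ≅ X) ∧
      Nonempty ((ShortComplex.mk ψ φ h₂).homology ≅ Y) := by
  have h' : (QuotientAddGroup.mk (FreeAbelianGroup.of X) : K0 A) =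
      QuotientAddGroup.mk (FreeAbelianGroup.of Y) := h
  have h1 : -FreeAbelianGroup.of X + FreeAbelianGroup.of Y ∈ relAb A :=
    QuotientAddGroup.eq.mp h'
  obtain ⟨D, hD⟩ := AddSubgroup.mem_comap.mp (relAb_le h1)
  have hD' : gof D.Wm - gof D.Wp = - gof X + gof Y := by
    have : D.val = - gof X + gof Y := by
      rw [hD, map_add, map_neg, nu_of, nu_of]
    exact this
  have h2 : gof (D.Wp ⊞ Y) = gof (D.Wm ⊞ X) := by
    rw [gof_biprod, gof_biprod]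
    have : gof D.Wm = -gof X + gof Y + gof D.Wp := sub_eq_iff_eq_add.mp hD'
    rw [this]; abel
  obtain ⟨Z, ⟨θ₀⟩⟩ := gof_eq h2
  have h3 : IsoCl.mk ((D.Wp ⊞ Z) ⊞ Y) = IsoCl.mk ((D.Wm ⊞ Z) ⊞ X) := by
    have h4 := IsoCl.mk_eq_iff.mpr ⟨θ₀⟩
    simp only [← IsoCl.mk_add] at h4 ⊢
    calc IsoCl.mk D.Wp + IsoCl.mk Z + IsoCl.mk Y
        = IsoCl.mk Z + (IsoCl.mk D.Wp + IsoCl.mk Y) := by abel
      _ = IsoCl.mk Z + (IsoCl.mk D.Wm + IsoCl.mk X) := h4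
      _ = IsoCl.mk D.Wm + IsoCl.mk Z + IsoCl.mk X := by abel
  obtain ⟨θ⟩ := IsoCl.mk_eq_iff.mp h3
  let D' := D.add (HDat.triv Z)
  have θ' : D'.Wp ⊞ Y ≅ D'.Wm ⊞ X := θ
  exact heller_of_data D'.a D'.b D'.c D'.d D'.hab D'.hcd D'.hp D'.hm θ'

end Groth.Agent.H1.K0
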