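import Mathlib
import Groth.Prelude.Def_P1
import Groth.Agent.Lib.Helper5.AG.ProjProper

set_option autoImplicit false
universe u
open CategoryTheory CategoryTheory.Limits AlgebraicGeometry

namespace Groth.Agent.H1.KModP1

theorem isSchemeTheoreticallyDominant_toImage {X Y : Scheme.{u}} (f : X ⟶ Y) [QuasiCompact f] :
    IsSchemeTheoreticallyDominant f.toImage := by
  rw [isSchemeTheoreticallyDominant_iff]
  refine Scheme.IdealSheafData.ext_of_iSup_eq_top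
    (fun U : Y.affineOpens => ⟨f.imageι ⁻¹ᵁ U.1, U.2.preimage f.imageι⟩) ?_ ?_
  · change ⨆ U : Y.affineOpens, f.imageι ⁻¹ᵁ U.1 = ⊤
    rw [← Scheme.Hom.preimage_iSup, iSup_affineOpens_eq_top]
    rfl
  · intro U
    rw [Scheme.Hom.ker_apply]
    simp only [Scheme.IdealSheafData.ideal_bot, Pi.bot_apply]
    exact (RingHom.injective_iff_ker_eq_bot _).mp (f.toImage_app_injective U)

theorem main {S : Scheme.{u}} [CompactSpace S] [QuasiSeparatedSpace S]
    (Kb : Type u) [Field Kb] (ηb : Spec (CommRingCat.of Kb) ⟶ S) (f : Kb) :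
    ∃ (S' : Scheme.{u}) (s : Spec (CommRingCat.of Kb) ⟶ S') (q : S' ⟶ S)
      (F : S' ⟶ CohB1.ProjSpace 1 P1.R0.{u}),
      IsSchemeTheoreticallyDominant s ∧ IsProper q ∧ s ≫ q = ηb ∧
      s ≫ F = Spec.map (CommRingCat.ofHom (P1.chartMap 0 Kb f)) ≫
        Proj.awayι P1.grading (P1.T 0) (P1.X_mem 0) one_pos := by
  obtain ⟨pt, hpt⟩ : ∃ pt : Spec (CommRingCat.of Kb) ⟶ CohB1.ProjSpace 1 P1.R0.{u},
      pt = Spec.map (CommRingCat.ofHom (P1.chartMap 0 Kb f)) ≫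
        Proj.awayι P1.grading (P1.T 0) (P1.X_mem 0) one_pos := ⟨_, rfl⟩
  rw [← hpt]
  obtain ⟨σ, hσ⟩ : ∃ σ : Spec (CommRingCat.of Kb) ⟶ CohB1.ProjSpaceOver 1 S,
      σ = pullback.lift pt ηb (specULiftZIsTerminal.hom_ext _ _) := ⟨_, rfl⟩
  have h1 : σ ≫ pullback.fst _ _ = pt := by rw [hσ]; exact pullback.lift_fst _ _ _
  have h2 : σ ≫ CohB1.ProjSpaceOver.toBase 1 S = ηb := by
    rw [hσ]; exact pullback.lift_snd _ _ _
  haveI hprop : IsProper (CohB1.ProjSpaceOver.toBase 1 S) :=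
    Groth.Agent.H5.AG.isProper_toBase 1 S
  haveI : QuasiCompact ηb := inferInstance
  haveI : QuasiCompact (σ ≫ CohB1.ProjSpaceOver.toBase 1 S) := by rw [h2]; infer_instance
  haveI : QuasiCompact σ := QuasiCompact.of_comp σ (CohB1.ProjSpaceOver.toBase 1 S)
  refine ⟨σ.image, σ.toImage, σ.imageι ≫ CohB1.ProjSpaceOver.toBase 1 S,
    σ.imageι ≫ pullback.fst _ _, isSchemeTheoreticallyDominant_toImage σ, inferInstance, ?_, ?_⟩
  · rw [Scheme.Hom.toImage_imageι_assoc, h2]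
  · rw [Scheme.Hom.toImage_imageι_assoc, h1]

end Groth.Agent.H1.KModP1
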