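import Mathlib
import Groth.Agent.Lib.Helper1.KSmooth
import Groth.Agent.Lib.Helper5.SE.SE1
import Groth.Agent.Lib.Helper5.AlgSp.EtaleMor
import Groth.Agent.Lib.Helper3.AlgSpCov.RedNoeth

/-!
# Smoothness of morphisms of algebraic spaces via lifting along small extensions of Artinian
local rings
-/

set_option autoImplicit false
universe u

open AlgebraicGeometry CategoryTheory Limits

namespace Groth.Agent.H1.KSmall

open _root_.AlgSp Groth.Agent.H1.KGeomA Groth.Agent.H1.KMain Groth.Agent.H5.AlgSp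
  Groth.Agent.H5.Thick Groth.Agent.H7.FOSp1 Groth.Agent.H7.FOSp6

variable {S : Scheme.{u}}

/-- the closed immersion `Spec B → Spec B'` over `S`. -/
noncomputable abbrev jm {B' B : Type u} [CommRing B'] [CommRing B] (π : B' →+* B)
    (s : Spec (CommRingCat.of B') ⟶ S) :
    Over.mk (Spec.map (CommRingCat.ofHom π) ≫ s) ⟶ Over.mk s :=
  Over.homMk (Spec.map (CommRingCat.ofHom π))

/-- lifting against an arbitrary surjection with square zero kernel. -/
theorem lift_surj {B' B : Type u} [CommRing B'] [CommRing B] (π : B' →+* B)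
    (hπ : Function.Surjective π) (hker : RingHom.ker π ^ 2 = ⊥)
    (s : Spec (CommRingCat.of B') ⟶ S) {X Y : Sp S} (hX : IsAlgSpace X) (hY : IsAlgSpace Y)
    (f : X ⟶ Y) (hf : LocP @Smooth f)
    (α : (yon S).obj (Over.mk (Spec.map (CommRingCat.ofHom π) ≫ s)) ⟶ X)
    (β : (yon S).obj (Over.mk s) ⟶ Y)
    (comm : α ≫ f = (yon S).map (jm π s) ≫ β) :
    ∃ γ : (yon S).obj (Over.mk s) ⟶ X, (yon S).map (jm π s) ≫ γ = α ∧ γ ≫ f = β := by
  obtain ⟨e, he⟩ : ∃ e : B' ⧸ RingHom.ker π ≃+* B, ∀ x, e (Ideal.Quotient.mk _ x) = π x :=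
    ⟨RingHom.quotientKerEquivOfSurjective hπ, fun _ => rfl⟩
  have hcomp1 : CommRingCat.ofHom (algebraMap B' (B' ⧸ RingHom.ker π)) ≫
      CommRingCat.ofHom e.toRingHom = CommRingCat.ofHom π := by
    ext x
    exact he x
  have hcomp2 : CommRingCat.ofHom π ≫ CommRingCat.ofHom e.symm.toRingHom =
      CommRingCat.ofHom (algebraMap B' (B' ⧸ RingHom.ker π)) := by
    ext x
    show e.symm (π x) = _
    rw [← he, RingEquiv.symm_apply_apply]
    rfl
  obtain ⟨ι, hι⟩ : ∃ ι : Over.mk (Spec.map (CommRingCat.ofHom π) ≫ s) ⟶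
      ov s (B' ⧸ RingHom.ker π), ι.left = Spec.map (CommRingCat.ofHom e.toRingHom) := by
    refine ⟨Over.homMk (Spec.map (CommRingCat.ofHom e.toRingHom)) ?_, rfl⟩
    show Spec.map (CommRingCat.ofHom e.toRingHom) ≫
      Spec.map (CommRingCat.ofHom (algebraMap B' (B' ⧸ RingHom.ker π))) ≫ s =
        Spec.map (CommRingCat.ofHom π) ≫ s
    rw [← Category.assoc, ← Spec.map_comp, hcomp1]
  obtain ⟨ι', hι'⟩ : ∃ ι' : ov s (B' ⧸ RingHom.ker π) ⟶
      Over.mk (Spec.map (CommRingCat.ofHom π) ≫ s),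
      ι'.left = Spec.map (CommRingCat.ofHom e.symm.toRingHom) := by
    refine ⟨Over.homMk (Spec.map (CommRingCat.ofHom e.symm.toRingHom)) ?_, rfl⟩
    show Spec.map (CommRingCat.ofHom e.symm.toRingHom) ≫ Spec.map (CommRingCat.ofHom π) ≫ s =
      Spec.map (CommRingCat.ofHom (algebraMap B' (B' ⧸ RingHom.ker π))) ≫ s
    rw [← Category.assoc, ← Spec.map_comp, hcomp2]
  have h1 : ι ≫ ι' = 𝟙 _ := by
    apply Over.OverMorphism.ext
    rw [Over.comp_left, hι, hι', ← Spec.map_comp]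
    have : CommRingCat.ofHom e.symm.toRingHom ≫ CommRingCat.ofHom e.toRingHom = 𝟙 _ := by
      ext x
      exact e.apply_symm_apply x
    rw [this, Spec.map_id]
    rfl
  have h2 : ι' ≫ jm π s = ovStr s (B' ⧸ RingHom.ker π) := by
    apply Over.OverMorphism.ext
    rw [Over.comp_left, hι']
    show Spec.map (CommRingCat.ofHom e.symm.toRingHom) ≫ Spec.map (CommRingCat.ofHom π) =
      Spec.map (CommRingCat.ofHom (algebraMap B' (B' ⧸ RingHom.ker π)))
    rw [← Spec.map_comp, hcomp2]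
  obtain ⟨l, hl1, hl2⟩ := lift_of_locP_smooth (RingHom.ker π) hker s hX hY f hf
    ((yon S).map ι' ≫ α) β (by
      rw [Category.assoc, comm, ← Category.assoc, ← CategoryTheory.Functor.map_comp, h2])
  refine ⟨l, ?_, hl2⟩
  have h3 : jm π s = ι ≫ ovStr s (B' ⧸ RingHom.ker π) := by
    rw [← h2, ← Category.assoc, h1, Category.id_comp]
  rw [h3, CategoryTheory.Functor.map_comp, Category.assoc, hl1, ← Category.assoc,
    ← CategoryTheory.Functor.map_comp, h1, CategoryTheory.Functor.map_id, Category.id_comp]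

lemma etale_le_lft : (@Etale : MorphismProperty Scheme.{u}) ≤ @LocallyOfFiniteType :=
  fun _ _ f hf => by
    have : Etale f := hf
    exact (inferInstance : LocallyOfFiniteType f)

lemma locP_etale_of_repWith {F G : Sp S} (b : F ⟶ G) (hb : RepWith @Etale b) :
    LocP @Etale b := by
  intro U' V' a' b' h' ha' hb' comm
  have h1 : RepWith @Etale ((yon S).map h' ≫ b') := by
    rw [← comm]
    exact (RepWith @Etale).comp_mem _ _ ha' hb
  exact (repWith_yon_map_iff @Etale h').1 (repWith_etale_of_comp h1 hb')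

/-- the small extension lifting property of a morphism of sheaves. -/
def SmallLift {X Y : Sp S} (f : X ⟶ Y) : Prop :=
  ∀ (B' B : Type u) [CommRing B'] [CommRing B] [IsLocalRing B'] [IsLocalRing B]
    [IsArtinianRing B'] [IsArtinianRing B] (π : B' →+* B), Function.Surjective π →
    (∃ t : B', RingHom.ker π = Ideal.span {t} ∧ ∀ a ∈ IsLocalRing.maximalIdeal B', a * t = 0) →
    ∀ (s : Spec (CommRingCat.of B') ⟶ S)
      (α : (AlgSp.yon S).obj (Over.mk (Spec.map (CommRingCat.ofHom π) ≫ s)) ⟶ X)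
      (β : (AlgSp.yon S).obj (Over.mk s) ⟶ Y),
      AlgSp.LocP @LocallyOfFiniteType β →
      α ≫ f = (AlgSp.yon S).map
        (Over.homMk (Spec.map (CommRingCat.ofHom π)) :
          Over.mk (Spec.map (CommRingCat.ofHom π) ≫ s) ⟶ Over.mk s) ≫ β →
      ∃ γ : (AlgSp.yon S).obj (Over.mk s) ⟶ X,
        (AlgSp.yon S).map (Over.homMk (Spec.map (CommRingCat.ofHom π)) :
          Over.mk (Spec.map (CommRingCat.ofHom π) ≫ s) ⟶ Over.mk s) ≫ γ = α ∧ γ ≫ f = β

lemma sq_zero_of_small {B' B : Type u} [CommRing B'] [CommRing B] [IsLocalRing B']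
    [Nontrivial B] (π : B' →+* B) (t : B') (hker : RingHom.ker π = Ideal.span {t})
    (hann : ∀ a ∈ IsLocalRing.maximalIdeal B', a * t = 0) : RingHom.ker π ^ 2 = ⊥ := by
  have ht : t ∈ IsLocalRing.maximalIdeal B' := by
    by_contra hne
    have hu : IsUnit t := by
      by_contra h
      exact hne ((IsLocalRing.mem_maximalIdeal t).2 h)
    have h1 : (1 : B') ∈ RingHom.ker π := by
      rw [hker]
      exact Ideal.mem_span_singleton'.2 ⟨↑hu.unit⁻¹, by simp⟩
    rw [RingHom.mem_ker, map_one] at h1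
    exact one_ne_zero h1
  rw [hker, Ideal.span_singleton_pow, pow_two, hann t ht, Ideal.span_singleton_eq_bot]

theorem smallLift_of_smooth {X Y : Sp S} (hX : IsAlgSpace X) (hY : IsAlgSpace Y) (f : X ⟶ Y)
    (hf : LocP @Smooth f) : SmallLift f := by
  intro B' B _ _ _ _ _ _ π hπ ht s α β _ comm
  obtain ⟨t, hker, hann⟩ := ht
  exact lift_surj π hπ (sq_zero_of_small π t hker hann) s hX hY f hf α β comm

theorem smooth_of_smallLift {X Y : Sp S} (hY : IsAlgSpace Y) (f : X ⟶ Y)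
    (hYN : IsLocNoethSp Y) (hft : LocP @LocallyOfFiniteType f) (H : SmallLift f) :
    LocP @Smooth f := by
  intro U V a b h ha hb w
  haveI : IsLocallyNoetherian V.left :=
    Groth.Agent.H3.AlgSpCov.isLocallyNoetherian_of_etale_of_isLocNoethSp hYN b hb
  haveI : LocallyOfFiniteType h.left := hft a b h ha hb w
  rw [_root_.H5.SE.main1417]
  intro B B' _ _ _ _ _ _ φ ε hφ hker hann α₀ β₀ hβ₀ hsq
  have hα₀ : α₀ ≫ U.hom = Spec.map (CommRingCat.ofHom φ) ≫ β₀ ≫ V.hom := by
    rw [← Over.w h, ← Category.assoc, ← hsq, Category.assoc]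
  have hann' : ∀ a ∈ IsLocalRing.maximalIdeal B', a * ε = 0 := fun a ha => by
    rw [mul_comm]; exact hann a ha
  obtain ⟨αo, hαo⟩ : ∃ αo : Over.mk (Spec.map (CommRingCat.ofHom φ) ≫ β₀ ≫ V.hom) ⟶ U,
      αo.left = α₀ := ⟨Over.homMk α₀ hα₀, rfl⟩
  obtain ⟨βo, hβo⟩ : ∃ βo : Over.mk (β₀ ≫ V.hom) ⟶ V, βo.left = β₀ := ⟨Over.homMk β₀ rfl, rfl⟩
  have hαβ : αo ≫ h = jm φ (β₀ ≫ V.hom) ≫ βo := by
    apply Over.OverMorphism.ext
    rw [Over.comp_left, Over.comp_left, hαo, hβo]
    exact hsq.symm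
  have hβloc : LocP @LocallyOfFiniteType ((yon S).map βo ≫ b) := by
    refine locP_comp etale_le_lft (IsAlgSpace.yon_obj _) (IsAlgSpace.yon_obj _) hY ?_ ?_
    · rw [locP_yon_map_iff etale_le_lft, hβo]
      exact hβ₀
    · exact locP_mono etale_le_lft (locP_etale_of_repWith b hb)
  have hαβ' : (yon S).map αo ≫ (yon S).map h =
      (yon S).map (jm φ (β₀ ≫ V.hom)) ≫ (yon S).map βo := by
    rw [← CategoryTheory.Functor.map_comp, ← CategoryTheory.Functor.map_comp, hαβ]
  obtain ⟨γ, hγ1, hγ2⟩ := H B' B φ hφ ⟨ε, hker, hann'⟩ (β₀ ≫ V.hom)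
    ((yon S).map αo ≫ a) ((yon S).map βo ≫ b) hβloc (by
      rw [Category.assoc, w, reassoc_of% hαβ'])
  have hfo : FOThick (jm φ (β₀ ≫ V.hom)).left := by
    have hsq0 := sq_zero_of_small φ ε hker hann'
    refine isFirstOrderThickening_SpecMap (CommRingCat.ofHom φ) ⟨hφ, fun x y hx hy => ?_⟩
    have : x * y ∈ RingHom.ker φ ^ 2 := by
      rw [pow_two]
      exact Ideal.mul_mem_mul hx hy
    rw [hsq0] at this
    exact this
  obtain ⟨l, hl1, hl2⟩ := rep_lift a ha (jm φ (β₀ ≫ V.hom)) hfo ((yon S).map αo) γ hγ1.symm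
  obtain ⟨lU, hlU⟩ := (yon S).map_surjective l
  have e1 : jm φ (β₀ ≫ V.hom) ≫ lU = αo := (yon S).map_injective (by
    rw [CategoryTheory.Functor.map_comp, hlU, hl1])
  have e2 : lU ≫ h = βo := by
    apply (yon S).map_injective
    refine rep_uniq b hb etale_le_formallyUnramified (jm φ (β₀ ≫ V.hom)) hfo _ _ ?_ ?_
    · rw [← CategoryTheory.Functor.map_comp, ← CategoryTheory.Functor.map_comp]
      congr 1
      exact (Category.assoc _ _ _).symm.trans (by rw [e1, hαβ])
    · rw [CategoryTheory.Functor.map_comp, Category.assoc, ← w, hlU, ← hγ2, ← hl2, Category.assoc]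
  refine ⟨lU.left, ?_, ?_⟩
  · exact (congrArg (fun m => m.left) e1).trans hαo
  · exact (congrArg (fun m => m.left) e2).trans hβo

theorem smooth_iff_smallLift {X Y : Sp S} (hX : IsAlgSpace X) (hY : IsAlgSpace Y) (f : X ⟶ Y)
    (hYN : IsLocNoethSp Y) (hft : LocP @LocallyOfFiniteType f) :
    LocP @Smooth f ↔ SmallLift f :=
  ⟨smallLift_of_smooth hX hY f, smooth_of_smallLift hY f hYN hft⟩

end Groth.Agent.H1.KSmall
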