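import Mathlib
import Groth.Agent.Lib.Helper1.KSmall
import Groth.Agent.Lib.Helper5.AlgSp.LocPAt
import Groth.Agent.Lib.Helper5.AlgSp.Points

/-!
# Smoothness at a point of a morphism of algebraic spaces via infinitesimal lifting
-/

set_option autoImplicit false
universe u

open AlgebraicGeometry CategoryTheory Limits

namespace Groth.Agent.H1.KPoint

section Scheme

open IsLocalRing H5.SE H5.LL

variable {X S : Scheme.{u}}

/-- small extension lifting at a point of a scheme (no finiteness condition on the bottom arrow). -/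
def PointSmallLift (f : X ⟶ S) (x : X) : Prop :=
  ∀ (B B' : Type u) [CommRing B] [CommRing B'] [IsArtinianRing B] [IsArtinianRing B']
      [IsLocalRing B] [IsLocalRing B']
      (φ : B' →+* B) (ε : B'), Function.Surjective φ → RingHom.ker φ = Ideal.span {ε} →
      (∀ m ∈ IsLocalRing.maximalIdeal B', ε * m = 0) →
      ∀ (α : Spec (CommRingCat.of B) ⟶ X) (β : Spec (CommRingCat.of B') ⟶ S),
        α.base (closedPoint B) = x →
        Spec.map (CommRingCat.ofHom φ) ≫ β = α ≫ f →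
        ∃ γ : Spec (CommRingCat.of B') ⟶ X, Spec.map (CommRingCat.ofHom φ) ≫ γ = α ∧ γ ≫ f = β

theorem formallySmooth_stalkMap_of_pointSmallLift (f : X ⟶ S) [LocallyOfFiniteType f]
    [IsLocallyNoetherian S] (x : X) (H : PointSmallLift f x) :
    (f.stalkMap x).hom.FormallySmooth := by
  letI := (f.stalkMap x).hom.toAlgebra
  haveI : Algebra.EssFiniteType (S.presheaf.stalk (f.base x)) (X.presheaf.stalk x) :=
    LocallyOfFiniteType.stalkMap f x
  haveI : IsNoetherianRing (X.presheaf.stalk x) :=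
    Algebra.EssFiniteType.isNoetherianRing (S.presheaf.stalk (f.base x)) (X.presheaf.stalk x)
  change Algebra.FormallySmooth (S.presheaf.stalk (f.base x)) (X.presheaf.stalk x)
  apply Groth.Agent.H5.Jac.formallySmooth_of_isAdicFormallySmooth_of_essFiniteType
  apply H5.AL.isAdicFormallySmooth_of_smallLift
  intro A' A₀ _ _ _ _ q₀ hq₀ 𝔐 h𝔐 t ht hkerq hann ψ₀ hψ₀s hψ₀k
  obtain ⟨hlA, haA, hlA₀, haA₀⟩ := H5.AL.small_ext_artinian_local q₀.toRingHom hq₀ 𝔐 t ht hkerq hann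
    ψ₀.toRingHom hψ₀s hψ₀k
  have h𝔐eq : 𝔐 = maximalIdeal A' := IsLocalRing.eq_maximalIdeal h𝔐
  haveI hloc : IsLocalHom ψ₀.toRingHom := IsLocalHom.of_surjective ψ₀.toRingHom hψ₀s
  have hcomp : q₀.toRingHom.comp (algebraMap (S.presheaf.stalk (f.base x)) A') =
      ψ₀.toRingHom.comp (f.stalkMap x).hom := by
    ext r
    change q₀ (algebraMap _ A' r) = ψ₀ (algebraMap _ _ r)
    rw [AlgHom.commutes, AlgHom.commutes]
  have hsq := square_of_comp f x q₀.toRingHom ψ₀.toRingHom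
    (algebraMap (S.presheaf.stalk (f.base x)) A') hcomp
  obtain ⟨γ, hγ1, hγ2⟩ := H A₀ A' q₀.toRingHom t hq₀ hkerq
    (fun m hm => by rw [mul_comm]; exact hann m (h𝔐eq ▸ hm)) _ _
    (closedPoint_of_local x ψ₀.toRingHom) hsq
  obtain ⟨c, hc1, hc2⟩ := lift_of_scheme_lift f x q₀.toRingHom hq₀ ψ₀.toRingHom
    (algebraMap (S.presheaf.stalk (f.base x)) A') γ hγ1 hγ2
  refine ⟨{ c with commutes' := fun r => RingHom.congr_fun hc2 r }, ?_⟩
  ext s
  exact RingHom.congr_fun hc1 s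

end Scheme

open _root_.AlgSp Groth.Agent.H1.KGeomA Groth.Agent.H1.KMain Groth.Agent.H1.KSmall
  Groth.Agent.H5.AlgSp Groth.Agent.H5.Thick Groth.Agent.H7.FOSp1 Groth.Agent.H7.FOSp6

variable {S : Scheme.{u}}

/-- a morphism from the spectrum of a local ring whose closed point lands in an open subspace
factors through it. -/
lemma exists_factor_of_local {B : Type u} [CommRing B] [IsLocalRing B]
    (t : Spec (CommRingCat.of B) ⟶ S) {F' X : Sp S} (j : F' ⟶ X)
    (hj : RepWith @IsOpenImmersion j) (α : (yon S).obj (Over.mk t) ⟶ X)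
    (hx : Points.ofPt α (IsLocalRing.closedPoint B) ∈ Set.range (Points.map j)) :
    ∃ α' : (yon S).obj (Over.mk t) ⟶ F', α' ≫ j = α := by
  obtain ⟨x', hx'⟩ := hx
  have psq := hj.1.isPullback α
  haveI : IsOpenImmersion (hj.1.snd α).left := hj.2 _ _ _ psq
  obtain ⟨v, hv, -⟩ := exists_point_of_isPullback psq x' (IsLocalRing.closedPoint B) hx'
  haveI : IsIso (hj.1.snd α).left := by
    apply isIso_of_isOpenImmersion_of_opensRange_eq_top
    exact (IsLocalRing.closedPoint_mem_iff (R := B)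
      (Scheme.Hom.opensRange (hj.1.snd α).left)).1 ⟨v, hv⟩
  haveI : IsIso (hj.1.snd α) := by
    haveI : IsIso ((Over.forget S).map (hj.1.snd α)) := ‹IsIso (hj.1.snd α).left›
    exact isIso_of_reflects_iso (hj.1.snd α) (Over.forget S)
  refine ⟨(yon S).map (inv (hj.1.snd α)) ≫ hj.1.fst α, ?_⟩
  rw [Category.assoc, psq.w, ← Category.assoc, ← CategoryTheory.Functor.map_comp,
    IsIso.inv_hom_id, CategoryTheory.Functor.map_id, Category.id_comp]

/-- from a lift at the level of sheaves to a lift at the level of a chart diagram. -/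
theorem chart_lift {X Y : Sp S} (f : X ⟶ Y) {U V : Over S} (a : (yon S).obj U ⟶ X)
    (b : (yon S).obj V ⟶ Y) (h : U ⟶ V) (ha : RepWith @Etale a) (hb : RepWith @Etale b)
    (w : a ≫ f = (yon S).map h ≫ b)
    {B' B : Type u} [CommRing B'] [CommRing B] (φ : B' →+* B) (hφ : Function.Surjective φ)
    (hker : RingHom.ker φ ^ 2 = ⊥)
    (α₀ : Spec (CommRingCat.of B) ⟶ U.left) (β₀ : Spec (CommRingCat.of B') ⟶ V.left)
    (hsq : Spec.map (CommRingCat.ofHom φ) ≫ β₀ = α₀ ≫ h.left)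
    (αo : Over.mk (Spec.map (CommRingCat.ofHom φ) ≫ β₀ ≫ V.hom) ⟶ U) (hαo : αo.left = α₀)
    (βo : Over.mk (β₀ ≫ V.hom) ⟶ V) (hβo : βo.left = β₀)
    (γ : (yon S).obj (Over.mk (β₀ ≫ V.hom)) ⟶ X)
    (hγ1 : (yon S).map (jm φ (β₀ ≫ V.hom)) ≫ γ = (yon S).map αo ≫ a)
    (hγ2 : γ ≫ f = (yon S).map βo ≫ b) :
    ∃ γ₀ : Spec (CommRingCat.of B') ⟶ U.left,
      Spec.map (CommRingCat.ofHom φ) ≫ γ₀ = α₀ ∧ γ₀ ≫ h.left = β₀ := by
  have hαβ : αo ≫ h = jm φ (β₀ ≫ V.hom) ≫ βo := by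
    apply Over.OverMorphism.ext
    rw [Over.comp_left, Over.comp_left, hαo, hβo]
    exact hsq.symm
  have hfo : FOThick (jm φ (β₀ ≫ V.hom)).left := by
    refine isFirstOrderThickening_SpecMap (CommRingCat.ofHom φ) ⟨hφ, fun x y hx hy => ?_⟩
    have : x * y ∈ RingHom.ker φ ^ 2 := by
      rw [pow_two]
      exact Ideal.mul_mem_mul hx hy
    rw [hker] at this
    exact this
  obtain ⟨l, hl1, hl2⟩ := rep_lift a ha (jm φ (β₀ ≫ V.hom)) hfo ((yon S).map αo) γ hγ1.symm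
  obtain ⟨lU, hlU⟩ := (yon S).map_surjective l
  have e1 : jm φ (β₀ ≫ V.hom) ≫ lU = αo := (yon S).map_injective (by
    rw [CategoryTheory.Functor.map_comp, hlU, hl1])
  have e2 : lU ≫ h = βo := by
    apply (yon S).map_injective
    refine rep_uniq b hb etale_le_formallyUnramified (jm φ (β₀ ≫ V.hom)) hfo _ _ ?_ ?_
    · rw [← CategoryTheory.Functor.map_comp, ← CategoryTheory.Functor.map_comp]
      congr 1
      exact (Category.assoc _ _ _).symm.trans (by rw [e1, hαβ])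
    · rw [CategoryTheory.Functor.map_comp, Category.assoc, ← w, hlU, ← hγ2, ← hl2, Category.assoc]
  refine ⟨lU.left, ?_, ?_⟩
  · exact (congrArg (fun m => m.left) e1).trans hαo
  · exact (congrArg (fun m => m.left) e2).trans hβo

/-- lifting at `x` along surjections of local rings with square zero kernel. -/
def SqLiftAt {X Y : Sp S} (f : X ⟶ Y) (x : Points X) : Prop :=
  ∀ (B' B : Type u) [CommRing B'] [CommRing B] [IsLocalRing B'] [IsLocalRing B] (π : B' →+* B),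
    Function.Surjective π → RingHom.ker π ^ 2 = ⊥ →
    ∀ (s : Spec (CommRingCat.of B') ⟶ S)
      (α : (AlgSp.yon S).obj (Over.mk (Spec.map (CommRingCat.ofHom π) ≫ s)) ⟶ X)
      (β : (AlgSp.yon S).obj (Over.mk s) ⟶ Y),
      AlgSp.Points.ofPt α (IsLocalRing.closedPoint B) = x →
      α ≫ f = (AlgSp.yon S).map
        (Over.homMk (Spec.map (CommRingCat.ofHom π)) :
          Over.mk (Spec.map (CommRingCat.ofHom π) ≫ s) ⟶ Over.mk s) ≫ β →
      ∃ γ : (AlgSp.yon S).obj (Over.mk s) ⟶ X,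
        (AlgSp.yon S).map (Over.homMk (Spec.map (CommRingCat.ofHom π)) :
          Over.mk (Spec.map (CommRingCat.ofHom π) ≫ s) ⟶ Over.mk s) ≫ γ = α ∧ γ ≫ f = β

/-- lifting at `x` along small extensions of Artinian local rings. -/
def SmallLiftAt {X Y : Sp S} (f : X ⟶ Y) (x : Points X) : Prop :=
  ∀ (B' B : Type u) [CommRing B'] [CommRing B] [IsLocalRing B'] [IsLocalRing B]
    [IsArtinianRing B'] [IsArtinianRing B] (π : B' →+* B), Function.Surjective π →
    (∃ t : B', RingHom.ker π = Ideal.span {t} ∧ ∀ a ∈ IsLocalRing.maximalIdeal B', a * t = 0) →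
    ∀ (s : Spec (CommRingCat.of B') ⟶ S)
      (α : (AlgSp.yon S).obj (Over.mk (Spec.map (CommRingCat.ofHom π) ≫ s)) ⟶ X)
      (β : (AlgSp.yon S).obj (Over.mk s) ⟶ Y),
      AlgSp.Points.ofPt α (IsLocalRing.closedPoint B) = x →
      α ≫ f = (AlgSp.yon S).map
        (Over.homMk (Spec.map (CommRingCat.ofHom π)) :
          Over.mk (Spec.map (CommRingCat.ofHom π) ≫ s) ⟶ Over.mk s) ≫ β →
      ∃ γ : (AlgSp.yon S).obj (Over.mk s) ⟶ X,
        (AlgSp.yon S).map (Over.homMk (Spec.map (CommRingCat.ofHom π)) :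
          Over.mk (Spec.map (CommRingCat.ofHom π) ≫ s) ⟶ Over.mk s) ≫ γ = α ∧ γ ≫ f = β

/-- smoothness at a point, in the neighbourhood-of-a-chart-point form. -/
abbrev SmoothAt {X Y : Sp S} (f : X ⟶ Y) (x : Points X) : Prop :=
  AlgSp.HasAtMor (fun U _ h u => ∃ W : U.Opens, u ∈ W ∧ Smooth (W.ι ≫ h)) f x

theorem sqLiftAt_of_smoothAt {X Y : Sp S} (hX : IsAlgSpace X) (hY : IsAlgSpace Y) (f : X ⟶ Y)
    (x : Points X) (h1 : SmoothAt f x) : SqLiftAt f x := by
  obtain ⟨F', j, hF', hj, hxj, hsm⟩ := (hasAtMor_iff_exists_open etale_le_smooth' hX hY x).1 h1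
  intro B' B _ _ _ _ π hπ hker s α β hα comm
  obtain ⟨α', hα'⟩ := exists_factor_of_local (Spec.map (CommRingCat.ofHom π) ≫ s) j hj α
    (hα ▸ hxj)
  obtain ⟨γ', hγ1, hγ2⟩ := lift_surj π hπ hker s hF' hY (j ≫ f) hsm α' β (by
    rw [← Category.assoc, hα']; exact comm)
  refine ⟨γ' ≫ j, ?_, ?_⟩
  · rw [← Category.assoc]
    exact (congrArg (· ≫ j) hγ1).trans hα'
  · rw [Category.assoc, hγ2]

theorem smallLiftAt_of_sqLiftAt {X Y : Sp S} (f : X ⟶ Y) (x : Points X) (h2 : SqLiftAt f x) :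
    SmallLiftAt f x := by
  intro B' B _ _ _ _ _ _ π hπ ht s α β hα comm
  obtain ⟨t, hker, hann⟩ := ht
  exact h2 B' B π hπ (sq_zero_of_small π t hker hann) s α β hα comm

theorem smoothAt_of_smallLiftAt {X Y : Sp S} (hX : IsAlgSpace X) (hY : IsAlgSpace Y) (f : X ⟶ Y)
    (hYN : IsLocNoethSp Y) (hft : LocP @LocallyOfFiniteType f) (x : Points X)
    (H : SmallLiftAt f x) : SmoothAt f x := by
  obtain ⟨V, b, hbe, hbs⟩ := hY.atlas
  obtain ⟨U, a, h, hae, has, comm⟩ := exists_chart_diagram_surj hX f hbe hbs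
  obtain ⟨u, hu⟩ := ofPt_surjective_of_repWith has x
  haveI : IsLocallyNoetherian V.left :=
    Groth.Agent.H3.AlgSpCov.isLocallyNoetherian_of_etale_of_isLocNoethSp hYN b hbe
  haveI : LocallyOfFiniteType h.left := hft a b h hae hbe comm
  haveI : LocallyOfFinitePresentation h.left := inferInstance
  have hsmu : u ∈ h.left.smoothLocus := by
    rw [Scheme.Hom.mem_smoothLocus]
    apply formallySmooth_stalkMap_of_pointSmallLift
    intro B B' _ _ _ _ _ _ φ ε hφ hker hann α₀ β₀ hα₀u hsq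
    have hα₀ : α₀ ≫ U.hom = Spec.map (CommRingCat.ofHom φ) ≫ β₀ ≫ V.hom := by
      rw [← Over.w h, ← Category.assoc, ← hsq, Category.assoc]
    have hann' : ∀ a ∈ IsLocalRing.maximalIdeal B', a * ε = 0 := fun a ha => by
      rw [mul_comm]; exact hann a ha
    obtain ⟨αo, hαo⟩ : ∃ αo : Over.mk (Spec.map (CommRingCat.ofHom φ) ≫ β₀ ≫ V.hom) ⟶ U,
        αo.left = α₀ := ⟨Over.homMk α₀ hα₀, rfl⟩
    obtain ⟨βo, hβo⟩ : ∃ βo : Over.mk (β₀ ≫ V.hom) ⟶ V, βo.left = β₀ :=
      ⟨Over.homMk β₀ rfl, rfl⟩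
    have hαβ' : (yon S).map αo ≫ (yon S).map h =
        (yon S).map (jm φ (β₀ ≫ V.hom)) ≫ (yon S).map βo := by
      rw [← CategoryTheory.Functor.map_comp, ← CategoryTheory.Functor.map_comp]
      congr 1
      apply Over.OverMorphism.ext
      rw [Over.comp_left, Over.comp_left, hαo, hβo]
      exact hsq.symm
    have hpt : Points.ofPt ((yon S).map αo ≫ a) (IsLocalRing.closedPoint B) = x := by
      rw [ofPt_yon_map_comp, hαo, ← hu]
      congr 1
    obtain ⟨γ, hγ1, hγ2⟩ := H B' B φ hφ ⟨ε, hker, hann'⟩ (β₀ ≫ V.hom)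
      ((yon S).map αo ≫ a) ((yon S).map βo ≫ b) hpt (by
        rw [Category.assoc, comm, reassoc_of% hαβ'])
    exact chart_lift f a b h hae hbe comm φ hφ (sq_zero_of_small φ ε hker hann') α₀ β₀ hsq αo hαo
      βo hβo γ hγ1 hγ2
  refine ⟨U, V, a, b, h, u, hae, hbe, comm, hu, h.left.smoothLocus, hsmu, ?_⟩
  rw [← Scheme.Hom.smoothLocus_eq_top_iff, ← Scheme.Hom.preimage_smoothLocus_eq]
  exact Scheme.Opens.ι_preimage_self _

theorem main {X Y : Sp S} (hX : IsAlgSpace X) (hY : IsAlgSpace Y) (f : X ⟶ Y)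
    (hYN : IsLocNoethSp Y) (hft : LocP @LocallyOfFiniteType f) (x : Points X) :
    (SmoothAt f x ↔ SqLiftAt f x) ∧ (SmoothAt f x ↔ SmallLiftAt f x) :=
  ⟨⟨sqLiftAt_of_smoothAt hX hY f x, fun h2 =>
      smoothAt_of_smallLiftAt hX hY f hYN hft x (smallLiftAt_of_sqLiftAt f x h2)⟩,
    ⟨fun h1 => smallLiftAt_of_sqLiftAt f x (sqLiftAt_of_smoothAt hX hY f x h1),
      smoothAt_of_smallLiftAt hX hY f hYN hft x⟩⟩

end Groth.Agent.H1.KPoint
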