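import Mathlib
import Groth.Agent.H4.KE6

set_option autoImplicit false
universe u
open CategoryTheory CategoryTheory.Limits CochainComplex

namespace Groth.Agent.Lib.Helper1.Serre

open DRing CohIII Groth.Agent.H4.KE1 Groth.Agent.H4.KE5a Groth.Agent.H4.KE5b Groth.Agent.H2.Kos

variable {A : Type u} [CommRing A]

/-- length of the range as an integer -/
noncomputable def rZ {P Q : Type u} [AddCommGroup P] [Module A P] [AddCommGroup Q] [Module A Q]
    (a : P →ₗ[A] Q) : ℤ := ((Module.length A (LinearMap.range a)).toNat : ℤ)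

lemma toNat_length_eq_rZ_add_rZ {P Q R' : Type u} [AddCommGroup P] [Module A P] [AddCommGroup Q]
    [Module A Q] [AddCommGroup R'] [Module A R'] (a : P →ₗ[A] Q) (b : Q →ₗ[A] R')
    (h : Function.Exact a b) (hQ : IsFiniteLength A Q) :
    ((Module.length A Q).toNat : ℤ) = rZ a + rZ b := by
  have h1 := length_eq_range_add_range a b h
  have hne : Module.length A Q ≠ ⊤ := Module.length_ne_top_iff.2 hQ
  rw [h1] at hne
  obtain ⟨h2, h3⟩ := WithTop.add_ne_top.1 hne
  unfold rZ
  rw [h1, ENat.toNat_add h2 h3]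
  push_cast
  rfl

lemma rZ_eq_zero_of_subsingleton_left {P Q : Type u} [AddCommGroup P] [Module A P] [AddCommGroup Q]
    [Module A Q] (a : P →ₗ[A] Q) [Subsingleton P] : rZ a = 0 := by
  unfold rZ
  have : Subsingleton (LinearMap.range a) := by
    constructor
    rintro ⟨_, x, rfl⟩ ⟨_, y, rfl⟩
    rw [Subsingleton.elim x y]
  rw [Module.length_eq_zero_iff.2 this]
  rfl

/-- additivity of the Euler characteristic on short exact sequences of complexes. -/
theorem chi_additive (S : ShortComplex (CochainComplex (ModuleCat.{u} A) ℤ)) (hS : S.ShortExact)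
    (a b : ℤ)
    (hb1 : ∀ n, n < a ∨ b < n → Subsingleton (S.X₁.homology n))
    (hb2 : ∀ n, n < a ∨ b < n → Subsingleton (S.X₂.homology n))
    (hb : ∀ n, n < a ∨ b < n → Subsingleton (S.X₃.homology n))
    (h1 : ∀ n, IsFiniteLength A (S.X₁.homology n))
    (h2 : ∀ n, IsFiniteLength A (S.X₂.homology n))
    (h3 : ∀ n, IsFiniteLength A (S.X₃.homology n)) :
    chi S.X₂ = chi S.X₁ + chi S.X₃ := by
  -- the connecting maps
  let δ : ∀ n : ℤ, S.X₃.homology n →ₗ[A] S.X₁.homology (n + 1) := fun n => (hS.δ n (n + 1) rfl).hom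
  obtain ⟨g, hg⟩ : ∃ g : ℤ → ℤ, ∀ n, g n = rZ (δ n) := ⟨_, fun _ => rfl⟩
  obtain ⟨γ, hγdef⟩ : ∃ γ : ℤ → ℤ, ∀ n, γ n = g (n - 1) := ⟨_, fun _ => rfl⟩
  have e2 : ∀ n, lenZ S.X₂ n = rZ (HomologicalComplex.homologyMap S.f n).hom +
      rZ (HomologicalComplex.homologyMap S.g n).hom := by
    intro n
    have := hS.homology_exact₂ n
    rw [ShortComplex.ShortExact.moduleCat_exact_iff_function_exact] at this
    exact toNat_length_eq_rZ_add_rZ _ _ this (h2 n)
  have e3 : ∀ n, lenZ S.X₃ n = rZ (HomologicalComplex.homologyMap S.g n).hom + g n := by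
    intro n
    have := hS.homology_exact₃ n (n + 1) rfl
    rw [ShortComplex.ShortExact.moduleCat_exact_iff_function_exact] at this
    rw [hg]
    exact toNat_length_eq_rZ_add_rZ _ _ this (h3 n)
  have e1' : ∀ n, lenZ S.X₁ (n + 1) = g n +
      rZ (HomologicalComplex.homologyMap S.f (n + 1)).hom := by
    intro n
    have := hS.homology_exact₁ n (n + 1) rfl
    rw [ShortComplex.ShortExact.moduleCat_exact_iff_function_exact] at this
    rw [hg]
    exact toNat_length_eq_rZ_add_rZ _ _ this (h1 (n + 1))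
  have e1 : ∀ n, lenZ S.X₁ n = γ n + rZ (HomologicalComplex.homologyMap S.f n).hom := by
    intro n
    obtain ⟨m, rfl⟩ : ∃ m, n = m + 1 := ⟨n - 1, by ring⟩
    rw [e1', hγdef, add_sub_cancel_right]
  have hγ : (Function.support γ).Finite := by
    refine finite_support_of_bdd γ (a + 1) (b + 1) (fun n hn => ?_)
    have : Subsingleton (S.X₃.homology (n - 1)) := hb (n - 1) (by omega)
    rw [hγdef, hg]
    exact rZ_eq_zero_of_subsingleton_left _
  have key : ∀ n, lenZ S.X₁ n + lenZ S.X₃ n - lenZ S.X₂ n = γ n + γ (n + 1) := by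
    intro n
    rw [e1, e2, e3, hγdef (n + 1), add_sub_cancel_right]
    ring
  have hsum := chi_shift γ γ hγ hγ
  rw [sub_self] at hsum
  have hfin : ∀ (E : Cx A), (∀ n, n < a ∨ b < n → Subsingleton (E.homology n)) →
      (Function.support fun n => sgn n * lenZ E n).Finite := by
    intro E hE
    refine finite_support_sgn_mul _ (finite_support_of_bdd _ a b (fun n hn => ?_))
    have := hE n hn
    unfold lenZ
    rw [Module.length_eq_zero_iff.2 this]
    rfl
  have f1 := hfin S.X₁ hb1
  have f2 := hfin S.X₂ hb2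
  have f3 := hfin S.X₃ hb
  unfold chi
  rw [← finsum_add_distrib f1 f3]
  have hz : (∑ᶠ n : ℤ, (sgn n * lenZ S.X₁ n + sgn n * lenZ S.X₃ n)) -
      ∑ᶠ n : ℤ, sgn n * lenZ S.X₂ n = 0 := by
    have f13 : (Function.support fun n => sgn n * lenZ S.X₁ n + sgn n * lenZ S.X₃ n).Finite :=
      (f1.union f3).subset (Function.support_add _ _)
    rw [← finsum_sub_distrib f13 f2, ← hsum]
    refine finsum_congr (fun n => ?_)
    rw [← key n]
    ring
  linarith

end Groth.Agent.Lib.Helper1.Serre
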