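import Mathlib
import Groth.Agent.H4.KE6
import Groth.Agent.Lib.Helper1.Serre1

set_option autoImplicit false
universe u
open CategoryTheory CategoryTheory.Limits CochainComplex

namespace Groth.Agent.Lib.Helper1.Serre

open DRing CohIII Groth.Agent.H4.KE1 Groth.Agent.H4.KE2 Groth.Agent.H4.KE4 Groth.Agent.H4.KE5a Groth.Agent.H4.KE5b
  Groth.Agent.H4.KE6 Groth.Agent.H2.Kos Groth.Agent.H4.DNak2

variable {A : Type u} [CommRing A]

/-- additivity of the Koszul Euler characteristic in the module. -/
theorem chi_koszulCx_additive (S : ShortComplex (ModuleCat.{u} A)) (hS : S.ShortExact) (l : List A)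
    (h1 : ∀ n, IsFiniteLength A ((koszulCx S.X₁ l).homology n))
    (h2 : ∀ n, IsFiniteLength A ((koszulCx S.X₂ l).homology n))
    (h3 : ∀ n, IsFiniteLength A ((koszulCx S.X₃ l).homology n)) :
    chi (koszulCx S.X₂ l) = chi (koszulCx S.X₁ l) + chi (koszulCx S.X₃ l) :=
  chi_additive (kSC S l) (kSC_shortExact S hS l) (-(l.length : ℤ)) 0
    (fun n hn => subsingleton_homology_koszulCx _ l n hn)
    (fun n hn => subsingleton_homology_koszulCx _ l n hn)
    (fun n hn => subsingleton_homology_koszulCx _ l n hn) h1 h2 h3

/-- regular head element: the homology of `K(f :: l; M)` is that of `K(l; M/fM)`. -/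
theorem lenZ_cons_of_regular (M : ModuleCat.{u} A) (f : A) (hf : IsSMulRegular M f) (l : List A)
    (n : ℤ) :
    lenZ (koszulCx M (f :: l)) n = lenZ (koszulCx (ModuleCat.of A (QuotSMulTop f M)) l) n := by
  have hS := kSC_shortExact _ hf.smulShortComplex_shortExact l
  have key : ∀ φ : koszulCx M l ⟶ koszulCx M l, φ = (kSC (M.smulShortComplex f) l).f →
      lenZ (mappingCone φ) n = lenZ (koszulCx (ModuleCat.of A (QuotSMulTop f M)) l) n := by
    intro φ hφ
    subst hφ
    have := mappingCone.quasiIso_descShortComplex hS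
    have e := _root_.isoOfQuasiIsoAt (mappingCone.descShortComplex
      (kSC (M.smulShortComplex f) l)) n
    unfold lenZ
    exact congrArg (fun x : ℕ∞ => (x.toNat : ℤ)) e.toLinearEquiv.length_eq
  exact key (f • 𝟙 _) (kmap_smul_id M f l).symm

theorem chi_cons_of_regular (M : ModuleCat.{u} A) (f : A) (hf : IsSMulRegular M f) (l : List A) :
    chi (koszulCx M (f :: l)) = chi (koszulCx (ModuleCat.of A (QuotSMulTop f M)) l) := by
  unfold chi
  exact finsum_congr (fun n => by rw [lenZ_cons_of_regular M f hf l n])

/-- if `f` kills `T`, then the Euler characteristic of `K(f :: l; T)` vanishes. -/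
theorem chi_cons_of_killed (T : ModuleCat.{u} A) (f : A) (hf : f • 𝟙 T = 0) (l : List A)
    (hfl : ∀ n, IsFiniteLength A ((koszulCx T l).homology n)) :
    chi (koszulCx T (f :: l)) = 0 := by
  have h0 : ∀ n, (f • LinearMap.id : (koszulCx T l).homology n →ₗ[A] (koszulCx T l).homology n) = 0 := by
    intro n
    ext y
    exact smul_homology_eq_zero_of_eq_zero _ f (smul_id_koszulCx_eq_zero T l f hf) n y
  have hc : ∀ n, cL (f • LinearMap.id : (koszulCx T l).homology n →ₗ[A] (koszulCx T l).homology n)
      = Module.length A ((koszulCx T l).homology n) := by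
    intro n
    rw [h0 n]
    unfold cL
    rw [LinearMap.range_zero]
    exact (Submodule.quotEquivOfEqBot _ rfl).length_eq
  have hk : ∀ n, kL (f • LinearMap.id : (koszulCx T l).homology n →ₗ[A] (koszulCx T l).homology n)
      = Module.length A ((koszulCx T l).homology n) := by
    intro n
    rw [h0 n]
    unfold kL
    rw [LinearMap.ker_zero]
    exact Module.length_top
  have hne : ∀ n, Module.length A ((koszulCx T l).homology n) ≠ ⊤ := fun n =>
    Module.length_ne_top_iff.2 (hfl n)
  have hlen : ∀ n, lenZ (koszulCx T (f :: l)) n = lenZ (koszulCx T l) n + lenZ (koszulCx T l) (n + 1) := by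
    intro n
    have := lenZ_Kf (koszulCx T l) f n (by rw [hc]; exact hne n) (by rw [hk]; exact hne _)
    rw [show koszulCx T (f :: l) = Kf f (koszulCx T l) from rfl, this]
    unfold cZ kZ lenZ
    rw [hc, hk]
  have hfin : (Function.support (lenZ (koszulCx T l))).Finite := by
    refine finite_support_of_bdd _ (-(l.length : ℤ)) 0 (fun n hn => ?_)
    have := subsingleton_homology_koszulCx T l n hn
    unfold lenZ
    rw [Module.length_eq_zero_iff.2 this]
    rfl
  unfold chi
  rw [finsum_congr (fun n => by rw [hlen n]), chi_shift _ _ hfin hfin, sub_self]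

end Groth.Agent.Lib.Helper1.Serre
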