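import Mathlib
import Groth.Agent.Lib.Helper1.Serre2
import Groth.Agent.Lib.Helper1.Serre4

set_option autoImplicit false
universe u
open CategoryTheory CategoryTheory.Limits CochainComplex Polynomial

namespace Groth.Agent.Lib.Helper1.Serre

open DRing CohIII Groth.Agent.H4.KE1 Groth.Agent.H4.KE2 Groth.Agent.H4.KE4 Groth.Agent.H4.KE5a
  Groth.Agent.H4.KE5b Groth.Agent.H4.KE6 Groth.Agent.H2.Kos Groth.Agent.H4.DNak2
  Groth.Agent.Lib.Helper1.HS

variable {A : Type u} [CommRing A]

/-- the ideal generated by the members of a list. -/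
abbrev idl (l : List A) : Ideal A := Ideal.span {a | a ∈ l}

lemma idl_cons (f : A) (l : List A) : idl (f :: l) = Ideal.span {f} ⊔ idl l := by
  unfold idl
  have : {a | a ∈ f :: l} = insert f {a | a ∈ l} := by
    ext a; simp
  rw [this, Ideal.span_insert]

lemma idl_eq_span_range_get (l : List A) : idl l = Ideal.span (Set.range l.get) := by
  rw [Set.range_list_get]

/-- Serre's identity for the pair `(l, M)`. -/
def SerreAt (l : List A) (M : Type u) [AddCommGroup M] [Module A M] : Prop :=
  (chi (koszulCx (ModuleCat.of A M) l) : ℚ) =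
    (l.length.factorial : ℚ) * (hsPoly (idl l) M).coeff l.length

variable [IsNoetherianRing A]

lemma isFiniteLength_quot_of_support {I : Ideal A} {N M : Type u} [AddCommGroup N] [Module A N]
    [AddCommGroup M] [Module A M] [Module.Finite A N] [Module.Finite A M]
    (h : Module.support A N ⊆ Module.support A M)
    (hM : IsFiniteLength A (M ⧸ (I • ⊤ : Submodule A M))) :
    IsFiniteLength A (N ⧸ (I • ⊤ : Submodule A N)) := by
  refine isFiniteLength_of_support_subset ?_ hM
  rw [Module.support_quotient, Module.support_quotient]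
  exact Set.inter_subset_inter_left _ h

lemma natDegree_hsPoly_idl_le (l : List A) (M : Type u) [AddCommGroup M] [Module A M]
    (hM : IsFiniteLength A (M ⧸ (idl l • ⊤ : Submodule A M))) :
    (hsPoly (idl l) M).natDegree ≤ l.length :=
  natDegree_hsPoly_le_of_span l.get (idl_eq_span_range_get l) hM

/-- (T1) additivity. -/
theorem serreAt_of_exact (l : List A) {M' M M'' : Type u} [AddCommGroup M'] [Module A M']
    [AddCommGroup M] [Module A M] [AddCommGroup M''] [Module A M''] [Module.Finite A M]
    [Module.Finite A M'] [Module.Finite A M'']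
    (f : M' →ₗ[A] M) (g : M →ₗ[A] M'') (hf : Function.Injective f) (hg : Function.Surjective g)
    (hfg : Function.Exact f g)
    (hM : IsFiniteLength A (M ⧸ (idl l • ⊤ : Submodule A M)))
    (h' : SerreAt l M') (h'' : SerreAt l M'') : SerreAt l M := by
  have hM' : IsFiniteLength A (M' ⧸ (idl l • ⊤ : Submodule A M')) :=
    isFiniteLength_quot_of_support (Module.support_subset_of_injective f hf) hM
  have hM'' : IsFiniteLength A (M'' ⧸ (idl l • ⊤ : Submodule A M'')) :=
    isFiniteLength_quot_of_support (Module.support_subset_of_surjective g hg) hM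
  unfold SerreAt at *
  let S : ShortComplex (ModuleCat.{u} A) :=
    ShortComplex.mk (ModuleCat.ofHom f) (ModuleCat.ofHom g) (by
      ext x
      exact hfg.apply_apply_eq_zero x)
  have hS : S.ShortExact :=
    { exact := (ShortComplex.ShortExact.moduleCat_exact_iff_function_exact S).2 hfg
      mono_f := (ModuleCat.mono_iff_injective _).2 hf
      epi_g := (ModuleCat.epi_iff_surjective _).2 hg }
  have hchi := chi_koszulCx_additive S hS l
    (fun n => isFiniteLength_homology_koszulCx M' l (idl l) le_rfl hM' n)
    (fun n => isFiniteLength_homology_koszulCx M l (idl l) le_rfl hM n)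
    (fun n => isFiniteLength_homology_koszulCx M'' l (idl l) le_rfl hM'' n)
  have hco := coeff_hsPoly_additive f g hf hg (LinearMap.exact_iff.1 hfg).symm hM hM' hM''
    l.length (natDegree_hsPoly_idl_le l M hM) (natDegree_hsPoly_idl_le l M' hM')
    (natDegree_hsPoly_idl_le l M'' hM'')
  change chi (koszulCx (ModuleCat.of A M) l) = chi (koszulCx (ModuleCat.of A M') l) +
    chi (koszulCx (ModuleCat.of A M'') l) at hchi
  rw [hchi, hco]
  push_cast
  rw [h', h'']
  ring

/-- (T2) modules killed by the head element. -/
theorem serreAt_cons_of_killed (f : A) (l : List A) (T : Type u) [AddCommGroup T] [Module A T]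
    [Module.Finite A T] (hf : ∀ t : T, f • t = 0)
    (hT : IsFiniteLength A (T ⧸ (idl (f :: l) • ⊤ : Submodule A T))) : SerreAt (f :: l) T := by
  have hT' : IsFiniteLength A (T ⧸ (idl l • ⊤ : Submodule A T)) := by
    have := pow_smul_top_eq_of_killed f (idl_cons f l) hf 1
    rw [pow_one, pow_one] at this
    rw [← this]
    exact hT
  unfold SerreAt
  have h1 : chi (koszulCx (ModuleCat.of A T) (f :: l)) = 0 := by
    refine chi_cons_of_killed (ModuleCat.of A T) f ?_ l
      (fun n => isFiniteLength_homology_koszulCx T l (idl l) le_rfl hT' n)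
    ext t
    exact hf t
  have h2 : hsPoly (idl (f :: l)) T = hsPoly (idl l) T :=
    hsPoly_congr (fun n => chi_eq_of_killed f (idl_cons f l) hf n)
  rw [h1, h2, coeff_eq_zero_of_natDegree_lt]
  · simp
  · exact Nat.lt_succ_of_le (natDegree_hsPoly_idl_le l T hT')

/-- (T3) the head element is regular. -/
theorem serreAt_cons_of_regular (f : A) (l : List A) (M : Type u) [AddCommGroup M] [Module A M]
    [Module.Finite A M] (hreg : IsSMulRegular M f)
    (hM : IsFiniteLength A (M ⧸ (idl (f :: l) • ⊤ : Submodule A M)))
    (ih : SerreAt l (QuotSMulTop f M)) : SerreAt (f :: l) M := by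
  unfold SerreAt at *
  have h1 := chi_cons_of_regular (ModuleCat.of A M) f hreg l
  have hI : idl (f :: l) = Ideal.span {f} ⊔ Ideal.span (Set.range l.get) := by
    rw [idl_cons, idl_eq_span_range_get]
  have h2 := coeff_hsPoly_of_regular (idl (f :: l)) M l.get f hI hreg hM
  rw [← idl_eq_span_range_get] at h2
  rw [h1]
  change (chi (koszulCx (ModuleCat.of A (QuotSMulTop f M)) l) : ℚ) = _
  rw [ih, ← h2, List.length_cons, Nat.factorial_succ]
  push_cast
  ring

end Groth.Agent.Lib.Helper1.Serre
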