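import Mathlib
import Groth.Agent.Lib.Helper1.Serre5

set_option autoImplicit false
universe u
open CategoryTheory CategoryTheory.Limits CochainComplex Polynomial

namespace Groth.Agent.Lib.Helper1.Serre

open DRing CohIII Groth.Agent.H4.KE1 Groth.Agent.H4.KE2 Groth.Agent.H4.KE4 Groth.Agent.H4.KE5a
  Groth.Agent.H4.KE5b Groth.Agent.H4.KE6 Groth.Agent.H2.Kos Groth.Agent.H4.DNak2
  Groth.Agent.Lib.Helper1.HS

variable {A : Type u} [CommRing A] [IsNoetherianRing A]

/-- modules killed by a power of the head element. -/
theorem serreAt_cons_of_pow_killed (f : A) (l : List A) (k : ℕ) :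
    ∀ (T : Type u) [AddCommGroup T] [Module A T] [Module.Finite A T],
      (∀ t : T, f ^ k • t = 0) →
      IsFiniteLength A (T ⧸ (idl (f :: l) • ⊤ : Submodule A T)) → SerreAt (f :: l) T := by
  induction k with
  | zero =>
    intro T _ _ _ hk hT
    refine serreAt_cons_of_killed f l T (fun t => ?_) hT
    have := hk t
    rw [pow_zero, one_smul] at this
    rw [this, smul_zero]
  | succ k ih =>
    intro T _ _ _ hk hT
    haveI : IsNoetherian A T := isNoetherian_of_isNoetherianRing_of_finite A T
    set T₁ : Submodule A T := LinearMap.ker (LinearMap.lsmul A T f) with hT₁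
    have hex : Function.Exact T₁.subtype T₁.mkQ := by
      rw [LinearMap.exact_iff, Submodule.ker_mkQ, Submodule.range_subtype]
    refine serreAt_of_exact (f :: l) T₁.subtype T₁.mkQ (Submodule.subtype_injective _)
      (Submodule.mkQ_surjective _) hex hT ?_ ?_
    · refine serreAt_cons_of_killed f l T₁ (fun t => ?_)
        (isFiniteLength_quot_of_support
          (Module.support_subset_of_injective _ (Submodule.subtype_injective T₁)) hT)
      apply Subtype.ext
      exact t.2
    · refine ih (T ⧸ T₁) (fun t => ?_)
        (isFiniteLength_quot_of_support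
          (Module.support_subset_of_surjective _ (Submodule.mkQ_surjective T₁)) hT)
      obtain ⟨t, rfl⟩ := Submodule.mkQ_surjective _ t
      rw [Submodule.mkQ_apply, ← Submodule.Quotient.mk_smul, Submodule.Quotient.mk_eq_zero]
      change f • (f ^ k • t) = 0
      rw [← mul_smul, ← pow_succ']
      exact hk t

/-- the inductive step. -/
theorem serreAt_cons (f : A) (l : List A)
    (ih : ∀ (N : Type u) [AddCommGroup N] [Module A N] [Module.Finite A N],
      IsFiniteLength A (N ⧸ (idl l • ⊤ : Submodule A N)) → SerreAt l N)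
    (M : Type u) [AddCommGroup M] [Module A M] [Module.Finite A M]
    (hM : IsFiniteLength A (M ⧸ (idl (f :: l) • ⊤ : Submodule A M))) : SerreAt (f :: l) M := by
  haveI : IsNoetherian A M := isNoetherian_of_isNoetherianRing_of_finite A M
  let P : ℕ →o Submodule A M :=
    ⟨fun k => LinearMap.ker (LinearMap.lsmul A M (f ^ k)), by
      intro a b hab x hx
      rw [LinearMap.mem_ker, LinearMap.lsmul_apply] at hx ⊢
      rw [← Nat.sub_add_cancel hab, pow_add, mul_smul, hx, smul_zero]⟩
  obtain ⟨k, hk⟩ := monotone_stabilizes_iff_noetherian.2 ‹IsNoetherian A M› P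
  set Q : Submodule A M := P k with hQ
  have hex : Function.Exact Q.subtype Q.mkQ := by
    rw [LinearMap.exact_iff, Submodule.ker_mkQ, Submodule.range_subtype]
  have hMQ : IsFiniteLength A ((M ⧸ Q) ⧸ (idl (f :: l) • ⊤ : Submodule A (M ⧸ Q))) :=
    isFiniteLength_quot_of_support
      (Module.support_subset_of_surjective _ (Submodule.mkQ_surjective Q)) hM
  refine serreAt_of_exact (f :: l) Q.subtype Q.mkQ (Submodule.subtype_injective _)
    (Submodule.mkQ_surjective _) hex hM ?_ ?_
  · refine serreAt_cons_of_pow_killed f l k Q (fun t => ?_)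
      (isFiniteLength_quot_of_support
        (Module.support_subset_of_injective _ (Submodule.subtype_injective Q)) hM)
    apply Subtype.ext
    exact t.2
  · have hreg : IsSMulRegular (M ⧸ Q) f := by
      rw [isSMulRegular_iff_right_eq_zero_of_smul]
      intro x hx
      obtain ⟨m, rfl⟩ := Submodule.mkQ_surjective _ x
      rw [Submodule.mkQ_apply, ← Submodule.Quotient.mk_smul, Submodule.Quotient.mk_eq_zero] at hx
      rw [Submodule.mkQ_apply, Submodule.Quotient.mk_eq_zero]
      have h1 : m ∈ P (k + 1) := by
        change f ^ (k + 1) • m = 0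
        have : f ^ k • (f • m) = 0 := hx
        rw [pow_succ, mul_smul]
        exact this
      rw [← hk (k + 1) (Nat.le_succ k)] at h1
      exact h1
    refine serreAt_cons_of_regular f l (M ⧸ Q) hreg hMQ (ih _ ?_)
    have h1 := isFiniteLength_quotSMulTop (idl (f :: l)) (M ⧸ Q) f hMQ
    have h2 := pow_smul_top_eq_of_killed f (idl_cons f l) (smul_quotSMulTop_eq_zero (M ⧸ Q) f) 1
    rw [pow_one, pow_one] at h2
    rw [← h2]
    exact h1


/-- the base case: the empty sequence. -/
theorem serreAt_nil (M : Type u) [AddCommGroup M] [Module A M] [Module.Finite A M]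
    (hM : IsFiniteLength A (M ⧸ (idl ([] : List A) • ⊤ : Submodule A M))) : SerreAt ([] : List A) M := by
  have hidl : idl ([] : List A) = ⊥ := by
    unfold idl
    simp
  have hbot : ∀ n : ℕ, 1 ≤ n → ((⊥ : Ideal A) ^ n • ⊤ : Submodule A M) = ⊥ := by
    intro n hn
    rw [← Ideal.zero_eq_bot, zero_pow (by omega), Ideal.zero_eq_bot, Submodule.bot_smul]
  have hchi : ∀ n : ℕ, 1 ≤ n → HS.chi (⊥ : Ideal A) M n = (Module.length A M).toNat := by
    intro n hn
    unfold HS.chi
    rw [(Submodule.quotEquivOfEqBot _ (hbot n hn)).length_eq]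
  have hpoly : hsPoly (⊥ : Ideal A) M = C ((Module.length A M).toNat : ℚ) := by
    symm
    refine IsHSPoly.eq_hsPoly ⟨1, fun n hn => ?_⟩
    rw [hchi n hn, eval_C]
  unfold SerreAt
  rw [hidl, hpoly, List.length_nil, Nat.factorial_zero, Nat.cast_one, one_mul, coeff_C_zero]
  unfold Groth.Agent.H4.KE5b.chi
  rw [finsum_eq_single _ 0 (fun n hn => ?_)]
  · have e : (koszulCx (ModuleCat.of A M) []).homology 0 ≅ ModuleCat.of A M :=
      HomologicalComplex.singleObjHomologySelfIso (ComplexShape.up ℤ) 0 (ModuleCat.of A M)
    unfold lenZ sgn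
    rw [e.toLinearEquiv.length_eq]
    simp
  · have := subsingleton_homology_koszulCx (ModuleCat.of A M) [] n (by
      simp only [List.length_nil, Nat.cast_zero, neg_zero]; omega)
    unfold lenZ
    rw [Module.length_eq_zero_iff.2 this]
    simp

/-- **Serre's theorem**: the Euler characteristic of the Koszul complex is the Samuel multiplicity. -/
theorem serreAt_all : ∀ (l : List A) (M : Type u) [AddCommGroup M] [Module A M] [Module.Finite A M],
    IsFiniteLength A (M ⧸ (idl l • ⊤ : Submodule A M)) → SerreAt l M := by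
  intro l
  induction l with
  | nil => exact fun M _ _ _ hM => serreAt_nil M hM
  | cons f l ih => exact fun M _ _ _ hM => serreAt_cons f l ih M hM

end Groth.Agent.Lib.Helper1.Serre
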