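import Mathlib
import Groth.Prelude.Def_W4stkremschemesLRS

set_option autoImplicit false
universe u

namespace Groth.Agent.H1.LRSCl

open CategoryTheory AlgebraicGeometry TopologicalSpace Opposite

/-- (1) + (2) give a closed immersion of schemes. -/
theorem isClosedImmersion_of {X Y : Scheme.{u}} (f : X ⟶ Y) (h1 : Topology.IsClosedEmbedding f)
    (h2 : TopCat.Presheaf.IsLocallySurjective f.c) : IsClosedImmersion f := by
  refine { stalkMap_surjective := fun x => ?_, isClosedEmbedding := h1 }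
  have hs := (TopCat.Presheaf.locally_surjective_iff_surjective_on_stalks f.c).mp h2 (f x)
  haveI : IsIso (X.presheaf.stalkPushforward CommRingCat f.base x) :=
    TopCat.Presheaf.stalkPushforward.stalkPushforward_iso_of_isInducing CommRingCat h1.isInducing X.presheaf x
  have hb := (ConcreteCategory.bijective_of_isIso
    (X.presheaf.stalkPushforward CommRingCat f.base x)).surjective
  intro t
  obtain ⟨s, hs'⟩ := hb t
  obtain ⟨r, hr⟩ := hs s
  refine ⟨r, ?_⟩
  show (X.presheaf.stalkPushforward CommRingCat f.base x)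
    (((TopCat.Presheaf.stalkFunctor CommRingCat (f x)).map f.c) r) = t
  exact (congrArg (X.presheaf.stalkPushforward CommRingCat f.base x) hr).trans hs'

theorem main {X Y : Scheme.{u}} (f : X ⟶ Y) (h1 : Topology.IsClosedEmbedding f)
    (h2 : TopCat.Presheaf.IsLocallySurjective f.c) :
    LRSImm.IsClosedImmersion f.toLRSHom := by
  refine ⟨h1, h2, ?_⟩
  haveI hci : IsClosedImmersion f := isClosedImmersion_of f h1 h2
  intro y
  obtain ⟨U, hU, hyU⟩ : ∃ U : Y.Opens, IsAffineOpen U ∧ y ∈ U := by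
    obtain ⟨_, ⟨U, hU : IsAffineOpen U, rfl⟩, hyU, -⟩ :=
      Y.isBasis_affineOpens.exists_subset_of_mem_open (Set.mem_univ y) isOpen_univ
    exact ⟨U, hU, hyU⟩
  have hUX : IsAffineOpen (f ⁻¹ᵁ U) := hU.preimage f
  refine ⟨U, hyU, ↥(RingHom.ker (f.app U).hom), fun j => j.1, fun j => j.2, ?_⟩
  intro x' hx'
  apply le_antisymm
  · rw [Ideal.span_le]
    rintro _ ⟨j, rfl⟩
    show (TopCat.Presheaf.stalkFunctor CommRingCat x').map f.c
      (Y.presheaf.germ U x' hx' j.1) = 0
    rw [TopCat.Presheaf.stalkFunctor_map_germ_apply]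
    have hj : f.c.app (op U) j.1 = 0 := j.2
    rw [hj, map_zero]
    rfl
  · intro z hz
    have hz0 : (TopCat.Presheaf.stalkFunctor CommRingCat x').map f.c z = 0 := hz
    obtain ⟨W, hxW, a, rfl⟩ := Y.presheaf.exists_germ_eq z
    rw [TopCat.Presheaf.stalkFunctor_map_germ_apply] at hz0
    obtain ⟨W', hxW', iU, iV, hres⟩ := (f.base _* X.presheaf).germ_eq x' hxW hxW
      (f.c.app (op W) a) 0 (by rw [hz0, map_zero]; rfl)
    rw [map_zero] at hres
    -- a1 = a restricted to W'
    have hnat1 : f.c.app (op W') (Y.presheaf.map iU.op a) = 0 := by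
      have := congr($(f.c.naturality iU.op) a)
      rw [CategoryTheory.comp_apply, CategoryTheory.comp_apply] at this
      rw [this]; exact hres
    obtain ⟨h₀, hle, hxh⟩ := hU.exists_basicOpen_le (V := W') ⟨x', hxW'⟩ hx'
    have hxh' : x' ∈ Y.basicOpen h₀ := hxh
    let a2 : Γ(Y, Y.basicOpen h₀) :=
      Y.presheaf.map (homOfLE hle).op (Y.presheaf.map iU.op a)
    have hnat2 : f.c.app (op (Y.basicOpen h₀)) a2 = 0 := by
      have := congr($(f.c.naturality (homOfLE hle).op) (Y.presheaf.map iU.op a))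
      rw [CategoryTheory.comp_apply, CategoryTheory.comp_apply] at this
      show f.c.app (op (Y.basicOpen h₀)) (Y.presheaf.map (homOfLE hle).op
        (Y.presheaf.map iU.op a)) = 0
      rw [this, hnat1, map_zero]
    have hgerm : Y.presheaf.germ (Y.basicOpen h₀) x' hxh' a2 = Y.presheaf.germ W x' hxW a := by
      show Y.presheaf.germ (Y.basicOpen h₀) x' hxh' (Y.presheaf.map (homOfLE hle).op
        (Y.presheaf.map iU.op a)) = _
      rw [TopCat.Presheaf.germ_res_apply, TopCat.Presheaf.germ_res_apply]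
    haveI := hU.isLocalization_basicOpen h₀
    obtain ⟨n, b, hb⟩ := IsLocalization.Away.surj h₀ a2
    -- on the X side
    have hbres : Y.presheaf.map (homOfLE (Y.basicOpen_le h₀)).op b =
        a2 * (Y.presheaf.map (homOfLE (Y.basicOpen_le h₀)).op h₀) ^ n := hb.symm
    have hzero : f.app (Y.basicOpen h₀) (Y.presheaf.map (homOfLE (Y.basicOpen_le h₀)).op b) = 0 := by
      rw [hbres, map_mul]
      have : f.app (Y.basicOpen h₀) a2 = 0 := hnat2
      rw [this, zero_mul]
    have hleX : X.basicOpen (f.app U h₀) ≤ f ⁻¹ᵁ Y.basicOpen h₀ :=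
      (Scheme.preimage_basicOpen f h₀).ge
    have H : (f.app U b) |_ (X.basicOpen (f.app U h₀)) = 0 := by
      show X.presheaf.map (homOfLE (X.basicOpen_le (f.app U h₀))).op (f.app U b) = 0
      have e1 : (homOfLE (X.basicOpen_le (f.app U h₀))).op =
          (homOfLE (show f ⁻¹ᵁ Y.basicOpen h₀ ≤ f ⁻¹ᵁ U from
            fun _ hx => Y.basicOpen_le h₀ hx)).op ≫ (homOfLE hleX).op := rfl
      rw [e1, Functor.map_comp, CategoryTheory.comp_apply]
      have hn := congr($(f.c.naturality (homOfLE (Y.basicOpen_le h₀)).op) b)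
      rw [CategoryTheory.comp_apply, CategoryTheory.comp_apply] at hn
      have hn' : X.presheaf.map (homOfLE (show f ⁻¹ᵁ Y.basicOpen h₀ ≤ f ⁻¹ᵁ U from
            fun _ hx => Y.basicOpen_le h₀ hx)).op (f.app U b) =
          f.app (Y.basicOpen h₀) (Y.presheaf.map (homOfLE (Y.basicOpen_le h₀)).op b) := hn.symm
      rw [hn', hzero, map_zero]
    obtain ⟨m, hm⟩ := exists_pow_mul_eq_zero_of_res_basicOpen_eq_zero_of_isAffineOpen X hUX
      (f.app U b) (f.app U h₀) H
    have hc : h₀ ^ m * b ∈ RingHom.ker (f.app U).hom := by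
      rw [RingHom.mem_ker]
      show f.app U (h₀ ^ m * b) = 0
      rw [map_mul, map_pow]; exact hm
    -- stalk computation
    have hu : IsUnit (Y.presheaf.germ U x' hx' h₀) := (Y.mem_basicOpen h₀ x' hx').mp hxh'
    have hb' := congrArg (Y.presheaf.germ (Y.basicOpen h₀) x' hxh') hb
    rw [map_mul, map_pow] at hb'
    have e2 : ∀ t : Γ(Y, U), Y.presheaf.germ (Y.basicOpen h₀) x' hxh'
        (algebraMap Γ(Y, U) Γ(Y, Y.basicOpen h₀) t) = Y.presheaf.germ U x' hx' t := fun t =>
      TopCat.Presheaf.germ_res_apply Y.presheaf (homOfLE (Y.basicOpen_le h₀)) x' hxh' t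
    rw [e2, e2, hgerm] at hb'
    -- hb' : z * g h₀ ^ n = g b
    have hmem : Y.presheaf.germ U x' hx' (h₀ ^ m * b) ∈
        Ideal.span (Set.range fun j : ↥(RingHom.ker (f.app U).hom) =>
          Y.presheaf.germ U x' hx' j.1) :=
      Ideal.subset_span ⟨⟨_, hc⟩, rfl⟩
    rw [map_mul, map_pow, ← hb'] at hmem
    have hu2 : IsUnit (Y.presheaf.germ U x' hx' h₀ ^ m * Y.presheaf.germ U x' hx' h₀ ^ n) :=
      (hu.pow m).mul (hu.pow n)
    have hmem2 : Y.presheaf.germ W x' hxW a * (Y.presheaf.germ U x' hx' h₀ ^ m *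
        Y.presheaf.germ U x' hx' h₀ ^ n) ∈ Ideal.span (Set.range
          fun j : ↥(RingHom.ker (f.app U).hom) => Y.presheaf.germ U x' hx' j.1) := by
      convert hmem using 1
      ring
    exact (Ideal.mul_unit_mem_iff_mem _ hu2).mp hmem2

end Groth.Agent.H1.LRSCl
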