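import Mathlib
import Groth.Prelude.Def_FlatCA

/-!
# Directed colimits of rings in the sense of `FlatCA.IsDirectedColimitRing`: finite families,
lifting maps from finitely presented algebras, polynomials
-/

set_option autoImplicit false

universe u

open Function

namespace Groth.Agent.H1.LimColim

variable {ι : Type u} [Preorder ι] {G : ι → Type u} [∀ i, CommRing (G i)]
  {g : ∀ i j, i ≤ j → G i →+* G j} {A : Type u} [CommRing A] [∀ i, Algebra (G i) A]
  (hc : FlatCA.IsDirectedColimitRing G g A)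

include hc

theorem exists_upper_bound (s : Finset ι) : ∃ k, ∀ i ∈ s, i ≤ k := by
  haveI := hc.1
  haveI := hc.2.1
  exact Finset.exists_le s

theorem algebraMap_g (i j : ι) (h : i ≤ j) (x : G i) :
    algebraMap (G j) A (g i j h x) = algebraMap (G i) A x :=
  RingHom.congr_fun (hc.2.2.2.2.1 i j h) x

theorem g_g (i j k : ι) (hij : i ≤ j) (hjk : j ≤ k) (x : G i) :
    g j k hjk (g i j hij x) = g i k (hij.trans hjk) x :=
  RingHom.congr_fun (hc.2.2.2.1 i j k hij hjk) x

theorem exists_of (a : A) : ∃ i, ∃ x : G i, algebraMap (G i) A x = a := hc.2.2.2.2.2.1 a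

theorem exists_eq_zero (i : ι) (x : G i) (h : algebraMap (G i) A x = 0) :
    ∃ j, ∃ hij : i ≤ j, g i j hij x = 0 := hc.2.2.2.2.2.2 i x h

theorem exists_of_family {κ : Type*} [Finite κ] (a : κ → A) :
    ∃ i, ∃ x : κ → G i, ∀ l, algebraMap (G i) A (x l) = a l := by
  classical
  cases nonempty_fintype κ
  choose i₀ x₀ hx₀ using fun l => exists_of hc (a l)
  obtain ⟨i, hi⟩ := exists_upper_bound hc (Finset.univ.image i₀)
  have hle : ∀ l, i₀ l ≤ i := fun l => hi _ (Finset.mem_image_of_mem _ (Finset.mem_univ l))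
  refine ⟨i, fun l => g (i₀ l) i (hle l) (x₀ l), fun l => ?_⟩
  rw [algebraMap_g hc, hx₀]

theorem exists_eq_zero_family {κ : Type*} [Finite κ] (i : ι) (x : κ → G i)
    (h : ∀ l, algebraMap (G i) A (x l) = 0) :
    ∃ j, ∃ hij : i ≤ j, ∀ l, g i j hij (x l) = 0 := by
  classical
  cases nonempty_fintype κ
  choose j₀ hj₀ hx₀ using fun l => exists_eq_zero hc i (x l) (h l)
  obtain ⟨j, hj⟩ := exists_upper_bound hc (insert i (Finset.univ.image j₀))
  have hle : ∀ l, j₀ l ≤ j := fun l =>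
    hj _ (Finset.mem_insert_of_mem (Finset.mem_image_of_mem _ (Finset.mem_univ l)))
  have hij : i ≤ j := hj _ (Finset.mem_insert_self _ _)
  refine ⟨j, hij, fun l => ?_⟩
  rw [← g_g hc i (j₀ l) j (hj₀ l) (hle l), hx₀, map_zero]

/-- a polynomial over a stage dying in the colimit dies at a later stage -/
theorem exists_map_eq_zero_family {σ : Type*} {κ : Type*} [Finite κ] (i : ι)
    (d : κ → MvPolynomial σ (G i))
    (h : ∀ l, MvPolynomial.map (algebraMap (G i) A) (d l) = 0) :
    ∃ j, ∃ hij : i ≤ j, ∀ l, MvPolynomial.map (g i j hij) (d l) = 0 := by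
  classical
  let K := Σ l : κ, ↥(d l).support
  obtain ⟨j, hij, hj⟩ := exists_eq_zero_family hc (κ := K) i (fun x => (d x.1).coeff x.2.1)
    (fun x => by
      have := congrArg (MvPolynomial.coeff x.2.1) (h x.1)
      rw [MvPolynomial.coeff_map, MvPolynomial.coeff_zero] at this
      exact this)
  refine ⟨j, hij, fun l => ?_⟩
  ext m
  rw [MvPolynomial.coeff_map, MvPolynomial.coeff_zero]
  by_cases hm : m ∈ (d l).support
  · exact hj ⟨l, ⟨m, hm⟩⟩
  · rw [MvPolynomial.notMem_support_iff.mp hm, map_zero]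

/-- maps from finitely presented `ℤ`-algebras to the colimit factor through a stage -/
theorem exists_lift_of_finitePresentation (R : Type u) [CommRing R]
    [Algebra.FinitePresentation ℤ R] (φ : R →+* A) :
    ∃ (i : ι) (ψ : R →+* G i), (algebraMap (G i) A).comp ψ = φ := by
  classical
  obtain ⟨n, f, hf, hker⟩ := Algebra.FinitePresentation.out (R := ℤ) (A := R)
  obtain ⟨i₀, y, hy⟩ := exists_of_family hc (fun l : Fin n => φ (f (MvPolynomial.X l)))
  let Ψ₀ : MvPolynomial (Fin n) ℤ →+* G i₀ := MvPolynomial.eval₂Hom (Int.castRingHom _) y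
  have hΨ₀ : (algebraMap (G i₀) A).comp Ψ₀ = φ.comp f.toRingHom := by
    apply MvPolynomial.ringHom_ext
    · intro z
      simp
    · intro l
      simp [Ψ₀, hy]
  obtain ⟨s, hs⟩ := hker
  obtain ⟨j, hij, hj⟩ := exists_eq_zero_family hc (κ := s) i₀ (fun x => Ψ₀ x.1) (fun x => by
    have h1 := RingHom.congr_fun hΨ₀ x.1
    rw [RingHom.comp_apply] at h1
    rw [h1, RingHom.comp_apply]
    have : x.1 ∈ RingHom.ker f.toRingHom := by
      rw [← hs]; exact Ideal.subset_span x.2
    rw [RingHom.mem_ker.mp this, map_zero])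
  let Ψ : MvPolynomial (Fin n) ℤ →+* G j := (g i₀ j hij).comp Ψ₀
  have hkerle : RingHom.ker f.toRingHom ≤ RingHom.ker Ψ := by
    rw [← hs, Ideal.span_le]
    intro x hx
    exact hj ⟨x, hx⟩
  refine ⟨j, RingHom.liftOfSurjective f.toRingHom hf ⟨Ψ, hkerle⟩, ?_⟩
  apply RingHom.ext
  intro x
  obtain ⟨p, rfl⟩ := hf x
  rw [RingHom.comp_apply]
  have h2 : RingHom.liftOfSurjective f.toRingHom hf ⟨Ψ, hkerle⟩ (f p) = Ψ p :=
    RingHom.liftOfRightInverse_comp_apply _ _ _ ⟨Ψ, hkerle⟩ p
  rw [h2]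
  change algebraMap (G j) A (g i₀ j hij (Ψ₀ p)) = _
  rw [algebraMap_g hc]
  exact RingHom.congr_fun hΨ₀ p

end Groth.Agent.H1.LimColim
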