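import Mathlib
import Groth.Prelude.Def_FlatCA

/-!
# A monomorphism locally of finite type to `Spec (lim A_n)` with sections over all `Spec A_n`
is an isomorphism
-/

set_option autoImplicit false

universe u

open AlgebraicGeometry CategoryTheory Limits

namespace Groth.Agent.H1.LimMono

/-- a compact subset of a scheme is contained in a compact open -/
theorem exists_compact_open {T : Scheme.{u}} (K : Set T) (hK : IsCompact K) :
    ∃ U : T.Opens, IsCompact (U : Set T) ∧ K ⊆ (U : Set T) := by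
  have hcov : ∀ x : T, ∃ W : T.Opens, IsAffineOpen W ∧ x ∈ W := fun x => by
    obtain ⟨_, ⟨W : T.Opens, hW, rfl⟩, hxW, -⟩ :=
      T.isBasis_affineOpens.exists_subset_of_mem_open (Set.mem_univ x) isOpen_univ
    exact ⟨W, hW, hxW⟩
  choose W hW hxW using hcov
  obtain ⟨t, -, ht⟩ := hK.elim_nhds_subcover (fun x => (W x : Set T))
    (fun x _ => (W x).isOpen.mem_nhds (hxW x))
  refine ⟨⨆ x ∈ t, W x, ?_, ?_⟩
  · have : ((⨆ x ∈ t, W x : T.Opens) : Set T) = ⋃ x ∈ t, (W x : Set T) := by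
      simp
    rw [this]
    exact t.isCompact_biUnion (fun x _ => (hW x).isCompact)
  · intro x hx
    have := ht hx
    simp only [Set.mem_iUnion] at this
    obtain ⟨y, hy, hxy⟩ := this
    show x ∈ (⨆ y ∈ t, W y : T.Opens)
    simp only [TopologicalSpace.Opens.mem_iSup]
    exact ⟨y, hy, hxy⟩

/-- a surjective ring hom with nil kernel reflects units -/
theorem isUnit_of_map {R S : Type*} [CommRing R] [CommRing S] (φ : R →+* S)
    (hs : Function.Surjective φ) (hn : ∀ x ∈ RingHom.ker φ, IsNilpotent x) (z : R)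
    (hz : IsUnit (φ z)) : IsUnit z := by
  obtain ⟨v, hv⟩ := hz.exists_right_inv
  obtain ⟨w, rfl⟩ := hs v
  have hk : z * w - 1 ∈ RingHom.ker φ := by
    rw [RingHom.mem_ker, map_sub, map_mul, hv, map_one, sub_self]
  have h1 : IsUnit (z * w - 1 + 1) := (hn _ hk).isUnit_add_one
  rw [sub_add_cancel] at h1
  exact isUnit_of_mul_isUnit_left h1

section

variable {A : Type u} [CommRing A] (A' : ℕ → Type u) [∀ n, CommRing (A' n)]
    (φ : ∀ n, A' (n + 1) →+* A' n) (π : ∀ n, A →+* A' n)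

theorem isUnit_of_isUnit_zero (hlim : FlatCA.IsRingLimit A A' φ π)
    (hsurj : ∀ n, Function.Surjective (φ n))
    (hnil : ∀ n, ∀ x ∈ RingHom.ker (φ n), IsNilpotent x)
    (c : A) (hc : IsUnit (π 0 c)) : IsUnit c := by
  have hcomp : ∀ n, φ n (π (n + 1) c) = π n c := fun n => by rw [← hlim.1 n]; rfl
  have hu : ∀ n, IsUnit (π n c) := by
    intro n
    induction n with
    | zero => exact hc
    | succ n ih =>
      apply isUnit_of_map (φ n) (hsurj n) (hnil n)
      rw [hcomp n]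
      exact ih
  obtain ⟨d, hd⟩ := hlim.2.2 (fun n => (↑((hu n).unit⁻¹) : A' n)) (by
    intro n
    have h1 : φ n (↑((hu (n + 1)).unit⁻¹) : A' (n + 1)) * π n c = 1 := by
      rw [← hcomp n, ← map_mul, IsUnit.val_inv_mul, map_one]
    have h2 : (↑((hu n).unit⁻¹) : A' n) * π n c = 1 := IsUnit.val_inv_mul (hu n)
    exact (hu n).mul_left_injective (h1.trans h2.symm))
  refine IsUnit.of_mul_eq_one d ?_
  apply hlim.2.1
  intro n
  rw [map_mul, hd n, map_one, IsUnit.mul_val_inv]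

theorem pi_zero_surjective (hlim : FlatCA.IsRingLimit A A' φ π)
    (hsurj : ∀ n, Function.Surjective (φ n)) : Function.Surjective (π 0) := by
  intro x0
  obtain ⟨x, hx0, hx⟩ : ∃ x : ∀ n, A' n, x 0 = x0 ∧ ∀ n, φ n (x (n + 1)) = x n :=
    ⟨fun n => Nat.rec (motive := fun n => A' n) x0 (fun n xn => (hsurj n xn).choose) n, rfl,
      fun n => (hsurj n _).choose_spec⟩
  obtain ⟨a, ha⟩ := hlim.2.2 x hx
  exact ⟨a, (ha 0).trans hx0⟩

theorem ker_le_of_isMaximal (hlim : FlatCA.IsRingLimit A A' φ π)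
    (hsurj : ∀ n, Function.Surjective (φ n))
    (hnil : ∀ n, ∀ x ∈ RingHom.ker (φ n), IsNilpotent x) (m : Ideal A) (hm : m.IsMaximal) :
    RingHom.ker (π 0) ≤ m := by
  intro a ha
  by_contra ham
  obtain ⟨y, i, hi, hyi⟩ := hm.exists_inv ham
  have h1 : π 0 i = 1 := by
    have := congrArg (π 0) hyi
    rw [map_add, map_mul, (RingHom.mem_ker).mp ha, mul_zero, zero_add, map_one] at this
    exact this
  have hiu : IsUnit i := isUnit_of_isUnit_zero A' φ π hlim hsurj hnil i (by rw [h1]; exact isUnit_one)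
  exact hm.ne_top (Ideal.eq_top_of_isUnit_mem _ hi hiu)

/-- an open of `Spec A` containing the image of `Spec A_0` is everything -/
theorem eq_top_of_range_subset (hlim : FlatCA.IsRingLimit A A' φ π)
    (hsurj : ∀ n, Function.Surjective (φ n))
    (hnil : ∀ n, ∀ x ∈ RingHom.ker (φ n), IsNilpotent x)
    (V : (Spec (CommRingCat.of A)).Opens)
    (hV : Set.range (Spec.map (CommRingCat.ofHom (π 0))) ⊆ (V : Set (Spec (CommRingCat.of A)))) :
    V = ⊤ := by
  rw [eq_top_iff]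
  intro x _
  obtain ⟨m, hm, hxm⟩ := Ideal.exists_le_maximal (x : PrimeSpectrum A).asIdeal
    (x : PrimeSpectrum A).isPrime.ne_top
  have hker := ker_le_of_isMaximal A' φ π hlim hsurj hnil m hm
  have hs0 := pi_zero_surjective A' φ π hlim hsurj
  haveI := hm.isPrime
  obtain ⟨y, hy⟩ : ∃ y : PrimeSpectrum A, y = ⟨m, hm.isPrime⟩ := ⟨_, rfl⟩
  have hyV : (y : Spec (CommRingCat.of A)) ∈ V := by
    apply hV
    refine ⟨(⟨m.map (π 0), Ideal.map_isPrime_of_surjective hs0 hker⟩ : PrimeSpectrum (A' 0)), ?_⟩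
    rw [hy]
    refine PrimeSpectrum.ext ?_
    change Ideal.comap (π 0) (m.map (π 0)) = m
    rw [Ideal.comap_map_of_surjective _ hs0, ← RingHom.ker_eq_comap_bot, sup_eq_left.mpr hker]
  have hsp : @Specializes (PrimeSpectrum A) _ x y :=
    (PrimeSpectrum.le_iff_specializes (R := A) x y).mp (by rw [hy]; exact hxm)
  exact hsp.mem_open V.isOpen hyV

theorem main (hlim : FlatCA.IsRingLimit A A' φ π)
    (hsurj : ∀ n, Function.Surjective (φ n))
    (hnil : ∀ n, ∀ x ∈ RingHom.ker (φ n), IsNilpotent x)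
    {T : Scheme.{u}} (h : T ⟶ Spec (CommRingCat.of A)) [Mono h] [LocallyOfFiniteType h]
    (hsec : ∀ n, ∃ g : Spec (CommRingCat.of (A' n)) ⟶ T,
      g ≫ h = Spec.map (CommRingCat.ofHom (π n))) :
    IsIso h := by
  choose g hg using hsec
  have hφπ : ∀ n, Spec.map (CommRingCat.ofHom (φ n)) ≫ Spec.map (CommRingCat.ofHom (π (n + 1))) =
      Spec.map (CommRingCat.ofHom (π n)) := by
    intro n
    rw [← Spec.map_comp, ← CommRingCat.ofHom_comp, hlim.1 n]
  have hgg : ∀ n, Spec.map (CommRingCat.ofHom (φ n)) ≫ g (n + 1) = g n := by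
    intro n
    rw [← cancel_mono h, Category.assoc, hg, hg, hφπ]
  have hts : ∀ n, Function.Surjective (Spec.map (CommRingCat.ofHom (φ n))) := by
    intro n x
    have hx : (x : PrimeSpectrum (A' (n + 1))) ∈ Set.range (PrimeSpectrum.comap (φ n)) := by
      rw [range_comap_of_surjective _ (φ n) (hsurj n)]
      intro a ha
      obtain ⟨k, hk⟩ := hnil n a ha
      exact (x : PrimeSpectrum (A' (n + 1))).isPrime.mem_of_pow_mem k
        (hk ▸ (x : PrimeSpectrum (A' (n + 1))).asIdeal.zero_mem)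
    obtain ⟨y, hy⟩ := hx
    exact ⟨y, hy⟩
  obtain ⟨U, hUc, hU⟩ := exists_compact_open (Set.range (g 0)) (isCompact_range (g 0).continuous)
  have hrange : ∀ n, Set.range (g n) ⊆ (U : Set T) := by
    intro n
    induction n with
    | zero => exact hU
    | succ n ih =>
      rintro _ ⟨x, rfl⟩
      obtain ⟨y, rfl⟩ := hts n x
      have : g (n + 1) (Spec.map (CommRingCat.ofHom (φ n)) y) = g n y := by
        rw [← Scheme.Hom.comp_apply, hgg n]
      rw [this]
      exact ih ⟨y, rfl⟩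
  haveI : CompactSpace ↥(U : Scheme.{u}) := isCompact_iff_compactSpace.mp hUc
  obtain ⟨h', hh'⟩ : ∃ h' : (U : Scheme.{u}) ⟶ Spec (CommRingCat.of A), h' = U.ι ≫ h := ⟨_, rfl⟩
  haveI : Mono h' := by rw [hh']; infer_instance
  haveI : LocallyOfFiniteType h' := by rw [hh']; infer_instance
  haveI : QuasiCompact h' := quasiCompact_of_compactSpace h'
  obtain ⟨N, tn, fn, hoi, hint, htf⟩ : ∃ (N : Scheme.{u}) (tn : (U : Scheme.{u}) ⟶ N)
      (fn : N ⟶ Spec (CommRingCat.of A)), IsOpenImmersion tn ∧ IsIntegralHom fn ∧ tn ≫ fn = h' :=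
    ⟨h'.normalization, h'.toNormalization, h'.fromNormalization, inferInstance, inferInstance,
      h'.toNormalization_fromNormalization⟩
  haveI := hoi
  haveI := hint
  haveI : IsAffine N := isAffine_of_isAffineHom fn
  have hrange' : ∀ n, Set.range (g n) ⊆ Set.range U.ι := by
    intro n
    rw [Scheme.Opens.range_ι]
    exact hrange n
  obtain ⟨g', hg'⟩ : ∃ g' : ∀ n, Spec (CommRingCat.of (A' n)) ⟶ (U : Scheme.{u}),
      ∀ n, g' n ≫ U.ι = g n :=
    ⟨fun n => IsOpenImmersion.lift U.ι (g n) (hrange' n), fun n => IsOpenImmersion.lift_fac _ _ _⟩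
  have hg'h : ∀ n, g' n ≫ h' = Spec.map (CommRingCat.ofHom (π n)) := by
    intro n
    rw [hh', ← Category.assoc, hg', hg]
  have hg'g' : ∀ n, Spec.map (CommRingCat.ofHom (φ n)) ≫ g' (n + 1) = g' n := by
    intro n
    rw [← cancel_mono U.ι, Category.assoc, hg', hg', hgg]
  obtain ⟨β, hβdef⟩ : ∃ β : ∀ n, Γ(N, ⊤) ⟶ CommRingCat.of (A' n),
      ∀ n, β n = (g' n ≫ tn).appTop ≫ (Scheme.ΓSpecIso (CommRingCat.of (A' n))).hom :=
    ⟨_, fun _ => rfl⟩
  have hβ : ∀ n, β (n + 1) ≫ CommRingCat.ofHom (φ n) = β n := by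
    intro n
    rw [hβdef, hβdef, Category.assoc, ← Scheme.ΓSpecIso_naturality, ← Category.assoc,
      ← Scheme.Hom.comp_appTop, ← Category.assoc, hg'g' n]
  have hβ' : ∀ (b : Γ(N, ⊤)) n, φ n ((β (n + 1)).hom b) = (β n).hom b := by
    intro b n
    rw [← hβ n]
    rfl
  choose βf hβf using fun b : Γ(N, ⊤) => hlim.2.2 (fun n => (β n).hom b) (hβ' b)
  obtain ⟨βr, hβr⟩ : ∃ βr : Γ(N, ⊤) →+* A, ∀ b n, π n (βr b) = (β n).hom b :=
    ⟨{ toFun := βf
       map_one' := hlim.2.1 _ _ (fun n => by rw [hβf, map_one, map_one])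
       map_mul' := fun x y => hlim.2.1 _ _ (fun n => by rw [hβf, map_mul, map_mul, hβf, hβf])
       map_zero' := hlim.2.1 _ _ (fun n => by rw [hβf, map_zero, map_zero])
       map_add' := fun x y => hlim.2.1 _ _ (fun n => by rw [hβf, map_add, map_add, hβf, hβf]) },
      hβf⟩
  obtain ⟨βc, hβc⟩ : ∃ βc : Γ(N, ⊤) ⟶ CommRingCat.of A, ∀ b, βc.hom b = βr b :=
    ⟨CommRingCat.ofHom βr, fun _ => rfl⟩
  obtain ⟨σ, hσdef⟩ : ∃ σ : Spec (CommRingCat.of A) ⟶ N, σ = Spec.map βc ≫ N.isoSpec.inv :=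
    ⟨_, rfl⟩
  have hσ1 : ∀ n, Spec.map (CommRingCat.ofHom (π n)) ≫ σ = g' n ≫ tn := by
    intro n
    have e1 : (g' n ≫ tn) ≫ N.isoSpec.hom = Spec.map (β n) := by
      rw [Scheme.isoSpec_hom, Scheme.toSpecΓ_naturality, ← SpecMap_ΓSpecIso_hom, ← Spec.map_comp,
        hβdef]
    have e2 : Spec.map (CommRingCat.ofHom (π n)) ≫ Spec.map βc = Spec.map (β n) := by
      rw [← Spec.map_comp]
      congr 1
      ext b
      have := hβr b n
      rw [← hβc] at this
      exact this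
    rw [hσdef, ← cancel_mono N.isoSpec.hom, Category.assoc, Category.assoc, Iso.inv_hom_id,
      Category.comp_id, e1, e2]
  have hσ2 : σ ≫ fn = 𝟙 _ := by
    have key : ∀ n, Spec.map (CommRingCat.ofHom (π n)) ≫ (σ ≫ fn) =
        Spec.map (CommRingCat.ofHom (π n)) := by
      intro n
      rw [← Category.assoc, hσ1, Category.assoc, htf, hg'h]
    obtain ⟨ψ, hψdef⟩ : ∃ ψ : CommRingCat.of A ⟶ CommRingCat.of A, Spec.map ψ = σ ≫ fn :=
      ⟨Spec.preimage _, Spec.map_preimage _⟩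
    rw [← hψdef] at key ⊢
    have hψ : ψ = 𝟙 _ := by
      ext a
      apply hlim.2.1
      intro n
      have h1 := key n
      rw [← Spec.map_comp] at h1
      have h2 := Spec.map_injective h1
      exact congrArg (fun f => f.hom a) h2
    rw [hψ, Spec.map_id]
  have hσ3 : Set.range σ ⊆ Set.range tn := by
    have hV : (σ ⁻¹ᵁ tn.opensRange) = ⊤ := by
      apply eq_top_of_range_subset A' φ π hlim hsurj hnil
      rintro _ ⟨y, rfl⟩
      show σ (Spec.map (CommRingCat.ofHom (π 0)) y) ∈ tn.opensRange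
      rw [← Scheme.Hom.comp_apply, hσ1 0, Scheme.Hom.comp_apply]
      exact ⟨_, rfl⟩
    rintro _ ⟨x, rfl⟩
    have hx : x ∈ σ ⁻¹ᵁ tn.opensRange := by rw [hV]; trivial
    exact hx
  obtain ⟨s, hs⟩ : ∃ s : Spec (CommRingCat.of A) ⟶ (U : Scheme.{u}), s ≫ tn = σ :=
    ⟨IsOpenImmersion.lift tn σ hσ3, IsOpenImmersion.lift_fac _ _ _⟩
  have hsh : (s ≫ U.ι) ≫ h = 𝟙 _ := by
    rw [Category.assoc, ← hh', ← htf, ← Category.assoc, hs, hσ2]
  refine ⟨⟨s ≫ U.ι, ?_, hsh⟩⟩
  rw [← cancel_mono h, Category.assoc, hsh, Category.comp_id, Category.id_comp]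

end

end Groth.Agent.H1.LimMono
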