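import Mathlib
open AlgebraicGeometry TopologicalSpace CategoryTheory

namespace Groth.Agent.H1.LN

/-- In a space where every point has a Noetherian open neighbourhood, compact sets are Noetherian
subspaces. -/
theorem noetherianSpace_of_isCompact {X : Type*} [TopologicalSpace X]
    (h : ∀ x : X, ∃ U : Opens X, x ∈ U ∧ NoetherianSpace U) {K : Set X} (hK : IsCompact K) :
    NoetherianSpace K := by
  choose U hxU hU using h
  obtain ⟨t, ht⟩ := hK.elim_finite_subcover (fun x => (U x : Set X)) (fun x => (U x).isOpen)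
    (fun x _ => Set.mem_iUnion.mpr ⟨x, hxU x⟩)
  have hKeq : K = ⋃ x : t, (K ∩ (U x : Set X)) := by
    ext y
    simp only [Set.mem_iUnion, Set.mem_inter_iff]
    constructor
    · intro hy
      have := ht hy
      simp only [Set.mem_iUnion] at this
      obtain ⟨x, hx, hyx⟩ := this
      exact ⟨⟨x, hx⟩, hy, hyx⟩
    · rintro ⟨_, hy, _⟩
      exact hy
  have hN : ∀ x : t, NoetherianSpace (K ∩ (U x : Set X) : Set X) := fun x => by
    haveI : NoetherianSpace ((U x : Opens X) : Set X) := hU x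
    exact NoetherianSpace.inter_of_right K (U x : Set X)
  rw [hKeq]
  exact NoetherianSpace.iUnion _

theorem isCompact_of_subset {X : Type*} [TopologicalSpace X]
    (h : ∀ x : X, ∃ U : Opens X, x ∈ U ∧ NoetherianSpace U) {K s : Set X} (hK : IsCompact K)
    (hs : s ⊆ K) : IsCompact s := by
  haveI := noetherianSpace_of_isCompact h hK
  exact (noetherianSpace_set_iff K).mp this s hs

universe u

set_option backward.isDefEq.respectTransparency.types false in
/-- S4361 -/
theorem quasiCompact_of_comp {X Y Z : Scheme.{u}} (f : X ⟶ Y) (g : Y ⟶ Z) [QuasiCompact (f ≫ g)]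
    (hX : ∀ x : X, ∃ U : X.Opens, x ∈ U ∧ NoetherianSpace U) : QuasiCompact f := by
  let ι := {V : Y.Opens // IsAffineOpen V ∧ ∃ W : Z.Opens, IsAffineOpen W ∧ V ≤ g ⁻¹ᵁ W}
  have hcover : ⨆ i : ι, i.1 = ⊤ := by
    rw [eq_top_iff]
    intro y _
    obtain ⟨_, ⟨W, hW, rfl⟩, hyW, -⟩ := Z.isBasis_affineOpens.exists_subset_of_mem_open
      (Set.mem_univ (g.base y)) isOpen_univ
    obtain ⟨_, ⟨V, hV, rfl⟩, hyV, hVW⟩ := Y.isBasis_affineOpens.exists_subset_of_mem_open
      (show y ∈ (g ⁻¹ᵁ W : Set Y) from hyW) (g ⁻¹ᵁ W).isOpen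
    exact Opens.mem_iSup.mpr ⟨⟨V, hV, W, hW, hVW⟩, hyV⟩
  rw [HasAffineProperty.iff_of_iSup_eq_top (P := @QuasiCompact) (fun i : ι => ⟨i.1, i.2.1⟩) hcover]
  rintro ⟨V, hV, W, hW, hVW⟩
  change CompactSpace ↥(f ⁻¹ᵁ V)
  refine isCompact_iff_compactSpace.mp ?_
  have hK : IsCompact ((f ≫ g) ⁻¹ᵁ W : Set X) :=
    (quasiCompact_iff_forall_isAffineOpen (f := f ≫ g)).mp inferInstance W hW
  refine isCompact_of_subset hX hK ?_
  intro x hx
  exact hVW hx

/-- S4360 -/
theorem quasiCompact_of_isImmersion {X Y : Scheme.{u}} (f : X ⟶ Y) [IsImmersion f]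
    (hY : ∀ y : Y, ∃ U : Y.Opens, y ∈ U ∧ NoetherianSpace U) : QuasiCompact f := by
  rw [quasiCompact_iff]
  intro U hU hUc
  have h1 : IsCompact (U ∩ Set.range f.base) := isCompact_of_subset hY hUc Set.inter_subset_left
  have h2 := f.isEmbedding.isInducing.isCompact_preimage' h1 Set.inter_subset_right
  rwa [Set.preimage_inter, Set.preimage_range, Set.inter_univ] at h2

/-- a locally Noetherian scheme is a locally Noetherian space -/
theorem exists_noetherianSpace_nhd (X : Scheme.{u}) [IsLocallyNoetherian X] (x : X) :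
    ∃ U : X.Opens, x ∈ U ∧ NoetherianSpace U := by
  obtain ⟨_, ⟨U, hU, rfl⟩, hxU, -⟩ := X.isBasis_affineOpens.exists_subset_of_mem_open
    (Set.mem_univ x) isOpen_univ
  refine ⟨U, hxU, ?_⟩
  haveI : IsNoetherianRing Γ(X, U) := IsLocallyNoetherian.component_noetherian ⟨U, hU⟩
  have e : (Spec Γ(X, U) : Type u) ≃ₜ U := (Scheme.homeoOfIso hU.isoSpec).symm
  exact (noetherianSpace_iff_of_homeomorph e).mp inferInstance

end Groth.Agent.H1.LN
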