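import Mathlib
import Groth.Agent.Lib.Helper1.CMQF
import Groth.Agent.Lib.Helper1.EtLoc1
import Groth.Agent.Lib.Helper1.PBU
import Groth.Agent.Lib.Helper3.CotSmSch

set_option autoImplicit false
set_option linter.style.haveILetI false
universe u
open AlgebraicGeometry CategoryTheory CategoryTheory.Limits

namespace Groth.Agent.H1.LocStruct

theorem bijective_of_surjective_residueFieldMap {A B : Scheme.{u}} (e : A ⟶ B) (a : A)
    (h : Function.Surjective (e.residueFieldMap a).hom) :
    Function.Bijective (e.residueFieldMap a).hom :=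
  ⟨(e.residueFieldMap a).hom.injective, h⟩

theorem bijective_residueFieldMap_congr {A B : Scheme.{u}} (e : A ⟶ B) {a a' : A} (h : a = a')
    (hb : Function.Bijective (e.residueFieldMap a).hom) :
    Function.Bijective (e.residueFieldMap a').hom := by
  subst h; exact hb

theorem surjective_residueFieldMap_of_isOpenImmersion {A B : Scheme.{u}} (j : A ⟶ B)
    [IsOpenImmersion j] (a : A) : Function.Surjective (j.residueFieldMap a).hom :=
  (ConcreteCategory.bijective_of_isIso (j.residueFieldMap a)).surjective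

set_option backward.isDefEq.respectTransparency false in
/-- local structure of a morphism locally of finite type: étale-locally on the source it is finite
over a smooth scheme of relative dimension the local fibre dimension. -/
theorem s0442 {X S : Scheme.{u}} (f : X ⟶ S) [LocallyOfFiniteType f] (x : X) (n : ℕ)
    (hn : FlatMor.fibreDimAt f x = n) :
    ∃ (X' Y : Scheme.{u}) (g : X' ⟶ X) (π : X' ⟶ Y) (h : Y ⟶ S) (x' : X'), g ≫ f = π ≫ h ∧
      Etale g ∧ g x' = x ∧
      Function.Surjective (g.residueFieldMap x') ∧ IsFinite π ∧ SmoothOfRelativeDimension n h ∧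
      ∀ z : ↑X', π z = π x' → z = x' := by
  obtain ⟨D, g₀, hxD, hg₀, hlqf⟩ :=
    Groth.Agent.H1.CMQF.exists_locallyQuasiFinite_toAffineSpace f x n hn.le
  haveI := hlqf
  haveI : LocallyOfFiniteType (g₀ ≫ (𝔸(ULift.{u} (Fin n); S) ↘ S)) := by
    rw [hg₀]; infer_instance
  haveI : LocallyOfFiniteType g₀ :=
    locallyOfFiniteType_of_comp g₀ (𝔸(ULift.{u} (Fin n); S) ↘ S)
  have hqf : g₀.QuasiFiniteAt ⟨x, hxD⟩ := g₀.quasiFiniteAt _
  obtain ⟨Y, e, y, he, hey, hsurj, V, v, hvV, hfin, hsnd, hfst, huniq⟩ :=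
    Groth.Agent.H1.EtLoc.exists_finPart g₀ hqf
  haveI := he
  haveI : SmoothOfRelativeDimension n (𝔸(ULift.{u} (Fin n); S) ↘ S) :=
    Groth.Agent.H3.CotSm.smoothOfRelativeDimension_of_fibreDimAt _ n
      (fun y => Groth.Agent.H1.CMQF.fibreDimAt_affineSpace n S y)
  haveI : SmoothOfRelativeDimension (0 + n) (e ≫ (𝔸(ULift.{u} (Fin n); S) ↘ S)) := inferInstance
  refine ⟨V, Y, V.ι ≫ pullback.fst g₀ e ≫ D.ι, V.ι ≫ pullback.snd g₀ e,
    e ≫ (𝔸(ULift.{u} (Fin n); S) ↘ S), ⟨v, hvV⟩, ?_, ?_, ?_, ?_, hfin, ?_, ?_⟩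
  · simp only [Category.assoc]
    rw [← hg₀, pullback.condition_assoc]
  · infer_instance
  · change D.ι (pullback.fst g₀ e v) = x
    rw [hfst]
    rfl
  · -- residue fields
    have hbe : Function.Bijective (e.residueFieldMap (pullback.snd g₀ e v)).hom :=
      bijective_residueFieldMap_congr e hsnd.symm (bijective_of_surjective_residueFieldMap e y hsurj)
    have h1 : Function.Surjective ((pullback.fst g₀ e).residueFieldMap v).hom :=
      (Groth.Agent.H1.PBU.bijective_residueFieldMap_fst v hbe).2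
    have h2 : Function.Surjective ((pullback.fst g₀ e ≫ D.ι).residueFieldMap v).hom :=
      Groth.Agent.H1.EtLoc.surjective_residueFieldMap_comp_openImm _ D.ι v h1
    have h3 : Function.Surjective ((V.ι ≫ pullback.fst g₀ e ≫ D.ι).residueFieldMap ⟨v, hvV⟩).hom := by
      have hcomp : ⇑((V.ι ≫ pullback.fst g₀ e ≫ D.ι).residueFieldMap ⟨v, hvV⟩).hom =
          ⇑(V.ι.residueFieldMap ⟨v, hvV⟩).hom ∘
            ⇑((pullback.fst g₀ e ≫ D.ι).residueFieldMap (V.ι ⟨v, hvV⟩)).hom := by
        rw [Scheme.residueFieldMap_comp]; rfl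
      rw [hcomp]
      exact (surjective_residueFieldMap_of_isOpenImmersion V.ι ⟨v, hvV⟩).comp h2
    exact h3
  · have h0 : SmoothOfRelativeDimension (0 + n) (e ≫ (𝔸(ULift.{u} (Fin n); S) ↘ S)) :=
      inferInstance
    rwa [zero_add] at h0
  · intro z hz
    have hz' : pullback.snd g₀ e (V.ι z) = y := by
      have : pullback.snd g₀ e (V.ι z) = pullback.snd g₀ e (V.ι ⟨v, hvV⟩) := hz
      rw [this]
      exact hsnd
    have := huniq (V.ι z) z.2 hz'
    exact Subtype.ext this

end Groth.Agent.H1.LocStruct
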