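import Mathlib
import Groth.Agent.Lib.Helper1.LocalCriterion

/-!
# Local criterion of flatness, part 4 (helper1): localized form (Stacks 0523)
-/

universe u v w w'
open TensorProduct Function

namespace Groth.Agent.H1

section Hloc

variable {R A : Type*} [CommRing R] [CommRing A] [Algebra R A] (p : Submonoid A)
  {M M' : Type*} [AddCommGroup M] [Module A M] [Module R M] [IsScalarTower R A M]
  [AddCommGroup M'] [Module A M'] [Module R M'] [IsScalarTower R A M']
  (g : M →ₗ[A] M') [IsLocalizedModule p g]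
  {N₁ N₂ N₃ : Type*} [AddCommGroup N₁] [Module R N₁] [AddCommGroup N₂] [Module R N₂]
  [AddCommGroup N₃] [Module R N₃]

include p g in
/-- A "kernel containment" between maps `M ⊗ N₁ → M ⊗ N₂`, `M ⊗ N₁ → M ⊗ N₃` passes to a
localization of `M` (w.r.t. another ring acting on `M`). -/
theorem lTensor_eq_zero_of_isLocalizedModule (φ : N₁ →ₗ[R] N₂) (ψ : N₁ →ₗ[R] N₃)
    (H : ∀ x : M ⊗[R] N₁, φ.lTensor M x = 0 → ψ.lTensor M x = 0)
    (x' : M' ⊗[R] N₁) (hx' : φ.lTensor M' x' = 0) : ψ.lTensor M' x' = 0 := by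
  let G₁ := AlgebraTensorModule.rTensor R N₁ g
  let G₂ := AlgebraTensorModule.rTensor R N₂ g
  let G₃ := AlgebraTensorModule.rTensor R N₃ g
  have hΦ : IsLocalizedModule.map p G₁ G₂ (AlgebraTensorModule.lTensor A M φ) =
      AlgebraTensorModule.lTensor A M' φ := IsLocalizedModule.map_lTensor A p φ g
  have hΨ : IsLocalizedModule.map p G₁ G₃ (AlgebraTensorModule.lTensor A M ψ) =
      AlgebraTensorModule.lTensor A M' ψ := IsLocalizedModule.map_lTensor A p ψ g
  obtain ⟨⟨x, s⟩, rfl⟩ := IsLocalizedModule.mk'_surjective p G₁ x'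
  have h1 : AlgebraTensorModule.lTensor A M' φ (IsLocalizedModule.mk' G₁ x s) = 0 := hx'
  rw [← hΦ, IsLocalizedModule.map_mk',
    IsLocalizedModule.mk'_eq_zero'] at h1
  obtain ⟨t, ht⟩ := h1
  rw [Submonoid.smul_def] at ht
  have h2 : φ.lTensor M ((t : A) • x) = 0 := by
    have : AlgebraTensorModule.lTensor A M φ ((t : A) • x) = 0 := by
      rw [map_smul]; exact ht
    exact this
  have h3 := H _ h2
  have h4 : t • (AlgebraTensorModule.lTensor A M ψ x) = 0 := by
    rw [Submonoid.smul_def, ← map_smul]; exact h3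
  change AlgebraTensorModule.lTensor A M' ψ (IsLocalizedModule.mk' G₁ x s) = 0
  rw [← hΨ, IsLocalizedModule.map_mk', IsLocalizedModule.mk'_eq_zero']
  exact ⟨t, h4⟩

end Hloc


section loc

variable {A : Type*} [CommRing A] {S : Type*} [CommRing S] [Algebra A S]
  {M : Type*} [AddCommGroup M] [Module A M] [Module S M] [IsScalarTower A S M]

/-- Stacks 0523: if `M/IⁿM` is flat over `A/Iⁿ` for all `n ≥ 1` then `M_q` is flat over `A` for every
prime `q ⊇ IS` (`A`, `S` Noetherian, `M` finite over `S`). -/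
theorem flat_localizedModule_of_forall_flat_quotient_pow [IsNoetherianRing A] [IsNoetherianRing S]
    [Module.Finite S M] (I : Ideal A)
    (h : ∀ n : ℕ, 0 < n → Module.Flat (A ⧸ I ^ n) ((A ⧸ I ^ n) ⊗[A] M))
    (q : Ideal S) [q.IsPrime] (hq : I.map (algebraMap A S) ≤ q) :
    Module.Flat A (LocalizedModule q.primeCompl M) := by
  have hI : I.map (algebraMap A (Localization q.primeCompl)) ≤ Ideal.jacobson ⊥ := by
    refine le_trans ?_ (IsLocalRing.maximalIdeal_le_jacobson ⊥)
    rw [IsScalarTower.algebraMap_eq A S (Localization q.primeCompl), ← Ideal.map_map,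
      ← Localization.AtPrime.map_eq_maximalIdeal]
    exact Ideal.map_mono hq
  refine flat_of_forall_mkQ_lTensor_eq_zero (B := Localization q.primeCompl) I hI fun J m x hx ↦ ?_
  refine lTensor_eq_zero_of_isLocalizedModule q.primeCompl
    (LocalizedModule.mkLinearMap q.primeCompl M) J.subtype
    (Submodule.comap J.subtype (I ^ m)).mkQ (fun y hy ↦ ?_) x hx
  rcases Nat.eq_zero_or_pos m with rfl | hm
  · have : Subsingleton (A ⧸ I ^ 0) := by
      rw [pow_zero, Ideal.one_eq_top]
      exact Ideal.Quotient.subsingleton_iff.mpr rfl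
    have := flat_of_subsingleton_ring (R := A ⧸ I ^ 0) ((A ⧸ I ^ 0) ⊗[A] M)
    exact mkQ_lTensor_eq_zero_of_flat_quotient J (I ^ 0) y hy
  · have := h m hm
    exact mkQ_lTensor_eq_zero_of_flat_quotient J (I ^ m) y hy

end loc

end Groth.Agent.H1
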