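import Mathlib

/-! Helper1: minimal primes / irreducible components along flat maps of finite type. -/
open TensorProduct
universe u

namespace Groth.Agent.H1

/-- minimal primes of `B` lie over minimal primes of `A` when going-down holds. -/
theorem under_mem_minimalPrimes_of_hasGoingDown {A B : Type*} [CommRing A] [CommRing B] [Algebra A B]
    [Algebra.HasGoingDown A B] {q : Ideal B} (hq : q ∈ minimalPrimes B) :
    q.under A ∈ minimalPrimes A := by
  have hqp : q.IsPrime := hq.isPrime
  rw [minimalPrimes_eq_minimals] at hq ⊢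
  refine ⟨inferInstance, fun p' hp' hle => ?_⟩
  have : p'.IsPrime := hp'
  obtain ⟨P, hPq, hP, hPo⟩ := Ideal.exists_ideal_le_liesOver_of_le (p := p') (q := q.under A) q hle
  have : P = q := le_antisymm hPq (hq.2 hP hPq)
  subst this
  rw [← hPo.over]

/-- The fibre ring of a finite type algebra over a prime is noetherian. -/
theorem isNoetherianRing_fiber {A B : Type*} [CommRing A] [CommRing B] [Algebra A B]
    [Algebra.FiniteType A B] (p : Ideal A) [p.IsPrime] : IsNoetherianRing (p.Fiber B) := by
  have : Algebra.FiniteType p.ResidueField (p.Fiber B) := inferInstance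
  exact Algebra.FiniteType.isNoetherianRing p.ResidueField (p.Fiber B)

theorem finite_minimalPrimes_over {A B : Type*} [CommRing A] [CommRing B] [Algebra A B]
    [Algebra.FiniteType A B] (p : Ideal A) [p.IsPrime] :
    {q : Ideal B | q ∈ minimalPrimes B ∧ q.under A = p}.Finite := by
  have := isNoetherianRing_fiber (B := B) p
  have hfin := minimalPrimes.finite_of_isNoetherianRing (p.Fiber B)
  let e := PrimeSpectrum.primesOverOrderIsoFiber A B p
  have hfin' : {Q : PrimeSpectrum (p.Fiber B) | Q.asIdeal ∈ minimalPrimes (p.Fiber B)}.Finite :=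
    hfin.preimage (fun Q _ Q' _ h => PrimeSpectrum.ext h)
  refine (hfin'.image (fun Q => ((e.symm Q).1 : Ideal B))).subset ?_
  rintro q ⟨hq, hqp⟩
  have hqprime : q.IsPrime := hq.isPrime
  have hlo : q.LiesOver p := ⟨hqp.symm⟩
  let q' : p.primesOver B := ⟨q, hqprime, hlo⟩
  refine ⟨e q', ?_, by simp [q']⟩
  rw [Set.mem_ofPred_eq, minimalPrimes_eq_minimals]
  refine ⟨(e q').2, fun Q' hQ' hle => ?_⟩
  let Q'' : PrimeSpectrum (p.Fiber B) := ⟨Q', hQ'⟩
  have h1 : Q'' ≤ e q' := hle
  have h2 : e.symm Q'' ≤ q' := by
    rw [← e.symm_apply_apply q']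
    exact e.symm.monotone h1
  have h3 : ((e.symm Q'').1 : Ideal B) = q := by
    rw [minimalPrimes_eq_minimals] at hq
    exact le_antisymm h2 (hq.2 (e.symm Q'').2.1 h2)
  have h4 : e.symm Q'' = q' := Subtype.ext h3
  have h5 : Q'' = e q' := by rw [← h4, e.apply_symm_apply]
  rw [← h5]

theorem finite_minimalPrimes_of_flat_of_finiteType {A B : Type*} [CommRing A] [CommRing B]
    [Algebra A B] [Module.Flat A B] [Algebra.FiniteType A B] (h : (minimalPrimes A).Finite) :
    (minimalPrimes B).Finite := by
  have hsub : minimalPrimes B ⊆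
      ⋃ p ∈ minimalPrimes A, ⋃ (hp : p.IsPrime), {q : Ideal B | q ∈ minimalPrimes B ∧ q.under A = p} := by
    intro q hq
    have hp := under_mem_minimalPrimes_of_hasGoingDown (A := A) hq
    simp only [Set.mem_iUnion]
    exact ⟨q.under A, hp, hp.isPrime, hq, rfl⟩
  refine Set.Finite.subset (h.biUnion fun p hp => ?_) hsub
  apply Set.finite_iUnion
  intro hp'
  exact finite_minimalPrimes_over p

theorem finite_irreducibleComponents_iff (R : Type*) [CommRing R] :
    (irreducibleComponents (PrimeSpectrum R)).Finite ↔ (minimalPrimes R).Finite := by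
  rw [← Set.finite_coe_iff, ← Set.finite_coe_iff]
  exact (minimalPrimes.equivIrreducibleComponents R).toEquiv.symm.finite_iff.trans
    (OrderDual.ofDual.finite_iff) |>.symm |>.symm

end Groth.Agent.H1
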