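import Mathlib
import Groth.Statements.S15609
import Groth.Agent.Lib.Helper1.LocSymComp

/-!
# A homomorphism of finite type `k`-group schemes that is injective on geometric points and on the
tangent space at the identity is a monomorphism (S15609)
-/

set_option autoImplicit false
universe u
open CategoryTheory AlgebraicGeometry Limits

namespace Groth.Agent.H1.MonoTan

section Alg

/-- the algebra core: a finite type `k`-algebra `A` with a single prime, a `k`-point `ψ`, and no
nontrivial tangent vector at `ψ`, is `k`. -/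
theorem alg_main {k : Type u} [Field k] {A : Type u} [CommRing A] (φ : k →+* A) (ψ : A →+* k)
    (hψφ : ψ.comp φ = RingHom.id k) (hft : φ.FiniteType)
    (hsub : ∀ p q : PrimeSpectrum A, p = q)
    (H : ∀ d : A →+* DualNumber k, d.comp φ = algebraMap k (DualNumber k) →
      d = (algebraMap k (DualNumber k)).comp ψ) :
    φ.comp ψ = RingHom.id A := by
  letI : Algebra k A := φ.toAlgebra
  haveI : Algebra.FiniteType k A := hft
  haveI : IsNoetherianRing A := Algebra.FiniteType.isNoetherianRing k A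
  have hψφ' : ∀ c : k, ψ (φ c) = c := fun c => RingHom.congr_fun hψφ c
  obtain ⟨ψa, hψa⟩ : ∃ ψa : A →ₐ[k] k, ∀ a, ψa a = ψ a :=
    ⟨{ ψ with commutes' := fun c => hψφ' c }, fun a => rfl⟩
  obtain ⟨m, hm⟩ : ∃ m : Ideal A, m = RingHom.ker ψ := ⟨_, rfl⟩
  have hmem : ∀ a, a ∈ m ↔ ψ a = 0 := fun a => by rw [hm, RingHom.mem_ker]
  have hprime : m.IsPrime := hm ▸ RingHom.ker_isPrime ψ
  have hsubm : ∀ a : A, a - φ (ψ a) ∈ m := fun a => by
    rw [hmem, map_sub, hψφ', sub_self]
  have hjac : m ≤ Ideal.jacobson ⊥ := by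
    have h1 : m ≤ nilradical A := by
      rw [nilradical_eq_sInf A]
      apply le_sInf
      intro J hJ
      have := hsub ⟨J, hJ⟩ ⟨m, hprime⟩
      have hJm : J = m := congrArg PrimeSpectrum.asIdeal this
      exact hJm.ge
    have h2 : nilradical A ≤ Ideal.jacobson ⊥ := by
      show Ideal.radical (0 : Ideal A) ≤ _
      rw [Ideal.zero_eq_bot]
      exact Ideal.radical_le_jacobson
    exact h1.trans h2
  have hfg : m.FG := IsNoetherian.noetherian m
  have hsq : m ≤ m • m := by
    by_contra hne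
    obtain ⟨x, hxm, hxn⟩ := SetLike.not_le_iff_exists.mp hne
    have hψx : ψ x = 0 := (hmem x).mp hxm
    obtain ⟨lam, hlamx, hlamP⟩ := Submodule.exists_dual_map_eq_bot_of_notMem
      (p := (m • m).restrictScalars k) (x := x) hxn inferInstance
    have hlam0 : ∀ y ∈ m • m, lam y = 0 := by
      intro y hy
      have h1 : lam y ∈ ((m • m).restrictScalars k).map lam := Submodule.mem_map_of_mem hy
      rw [hlamP] at h1
      exact (Submodule.mem_bot k).mp h1
    have hlamsmul : ∀ (c : k) (y : A), lam (φ c * y) = c * lam y := by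
      intro c y
      have : φ c * y = c • y := (Algebra.smul_def c y).symm
      rw [this, map_smul, smul_eq_mul]
    obtain ⟨Δ, hΔ⟩ : ∃ Δ : A →ₗ[k] k, ∀ a, Δ a = lam (a - φ (ψ a)) :=
      ⟨lam.comp (LinearMap.id - (Algebra.linearMap k A).comp ψa.toLinearMap), fun a => by
        show lam (a - algebraMap k A (ψa a)) = _
        rw [hψa]
        rfl⟩
    have hΔmul : ∀ a b, Δ (a * b) = ψ a * Δ b + Δ a * ψ b := by
      intro a b
      rw [hΔ, hΔ, hΔ]
      have hxy : (a - φ (ψ a)) * (b - φ (ψ b)) ∈ m • m := by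
        rw [smul_eq_mul]
        exact Ideal.mul_mem_mul (hsubm a) (hsubm b)
      have hdecomp : a * b - φ (ψ (a * b)) = φ (ψ a) * (b - φ (ψ b)) + φ (ψ b) * (a - φ (ψ a))
          + (a - φ (ψ a)) * (b - φ (ψ b)) := by
        rw [map_mul ψ, map_mul φ]; ring
      rw [hdecomp, map_add, map_add, hlamsmul, hlamsmul, hlam0 _ hxy, add_zero]
      ring
    obtain ⟨L, hLfst, hLsnd⟩ : ∃ L : A →ₗ[k] DualNumber k,
        (∀ a, (L a).fst = ψ a) ∧ (∀ a, (L a).snd = Δ a) :=
      ⟨LinearMap.prod ψa.toLinearMap Δ, fun a => hψa a, fun a => rfl⟩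
    have hone : L 1 = 1 := by
      apply TrivSqZeroExt.ext
      · rw [hLfst, map_one, TrivSqZeroExt.fst_one]
      · rw [hLsnd, hΔ, map_one, map_one, sub_self, map_zero, TrivSqZeroExt.snd_one]
    have hmul : ∀ a b, L (a * b) = L a * L b := by
      intro a b
      apply TrivSqZeroExt.ext
      · rw [TrivSqZeroExt.fst_mul, hLfst, hLfst, hLfst, map_mul]
      · rw [TrivSqZeroExt.snd_mul, hLsnd, hLsnd, hLsnd, hLfst, hLfst, hΔmul]
        simp only [smul_eq_mul, MulOpposite.smul_eq_mul_unop, MulOpposite.unop_op]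
    have hD := H (AlgHom.ofLinearMap L hone hmul).toRingHom (by
      apply RingHom.ext
      intro c
      exact (AlgHom.ofLinearMap L hone hmul).commutes c)
    have h3 : (L x).snd = ((algebraMap k (DualNumber k)) (ψ x)).snd :=
      congrArg (fun d : A →+* DualNumber k => (d x).snd) hD
    have h4 : (L x).snd = lam x := by rw [hLsnd, hΔ, hψx, map_zero, sub_zero]
    have h5 : ((algebraMap k (DualNumber k)) (ψ x)).snd = 0 := by
      simp [TrivSqZeroExt.algebraMap_eq_inl]
    exact hlamx (h4.symm.trans (h3.trans h5))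
  have hbot : m = ⊥ := Submodule.eq_bot_of_le_smul_of_le_jacobson_bot m m hfg hsq hjac
  apply RingHom.ext
  intro a
  have := hsubm a
  rw [hbot, Ideal.mem_bot, sub_eq_zero] at this
  exact this.symm

end Alg

section Sch

variable {k : Type u} [Field k]

/-- the structure morphism of the dual numbers. -/
noncomputable abbrev canD (k : Type u) [Field k] :
    Spec (CommRingCat.of (DualNumber k)) ⟶ Spec (CommRingCat.of k) :=
  Spec.map (CommRingCat.ofHom (algebraMap k (DualNumber k)))

theorem isAffine_of_forall_eq (N : Scheme.{u}) (n0 : N) (h : ∀ n : N, n = n0) : IsAffine N := by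
  obtain ⟨_, ⟨U : N.Opens, hU, rfl⟩, hpU, -⟩ :=
    N.isBasis_affineOpens.exists_subset_of_mem_open (Set.mem_univ n0) isOpen_univ
  have hUtop : U = ⊤ := by
    rw [eq_top_iff]
    intro n _
    rw [h n]
    exact hpU
  subst hUtop
  haveI : IsAffine ((⊤ : N.Opens) : Scheme.{u}) := hU
  exact IsAffine.of_isIso (Scheme.topIso N).inv

theorem exists_geom_point (N : Scheme.{u}) (n : N) :
    ∃ (K : Type u) (_ : Field K) (_ : IsAlgClosed K) (p : Spec (CommRingCat.of K) ⟶ N)
      (z : Spec (CommRingCat.of K)), p.base z = n := by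
  refine ⟨AlgebraicClosure (N.residueField n), inferInstance, inferInstance,
    Spec.map (CommRingCat.ofHom
      (algebraMap (N.residueField n) (AlgebraicClosure (N.residueField n)))) ≫
      N.fromSpecResidueField n, IsLocalRing.closedPoint _, ?_⟩
  exact Scheme.fromSpecResidueField_apply n _

/-- a finite type `k`-scheme with one point, a rational point `e` and no nontrivial tangent vector
at `e` is `Spec k`. -/
theorem retraction_eq_id {N : Scheme.{u}} (π : N ⟶ Spec (CommRingCat.of k))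
    [LocallyOfFiniteType π] (e : Spec (CommRingCat.of k) ⟶ N) (he : e ≫ π = 𝟙 _) (n0 : N)
    (hsub : ∀ n : N, n = n0)
    (H : ∀ t : Spec (CommRingCat.of (DualNumber k)) ⟶ N, t ≫ π = canD k → t = canD k ≫ e) :
    π ≫ e = 𝟙 N := by
  haveI : IsAffine N := isAffine_of_forall_eq N n0 hsub
  obtain ⟨A, i, -⟩ : ∃ (A : CommRingCat.{u}) (i : N ≅ Spec A), True := ⟨_, N.isoSpec, trivial⟩
  obtain ⟨φ, hφ⟩ : ∃ φ : CommRingCat.of k ⟶ A, Spec.map φ = i.inv ≫ π :=
    ⟨Spec.preimage _, Spec.map_preimage _⟩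
  obtain ⟨ψ, hψ⟩ : ∃ ψ : A ⟶ CommRingCat.of k, Spec.map ψ = e ≫ i.hom :=
    ⟨Spec.preimage _, Spec.map_preimage _⟩
  have hφψ : φ ≫ ψ = 𝟙 _ := by
    apply Spec.map_injective
    rw [Spec.map_comp, hφ, hψ, Category.assoc, Iso.hom_inv_id_assoc, he, Spec.map_id]
  haveI : LocallyOfFiniteType (Spec.map φ) := by rw [hφ]; infer_instance
  have hft : φ.hom.FiniteType :=
    (HasRingHomProperty.Spec_iff (P := @LocallyOfFiniteType)).mp inferInstance
  have hsubA : ∀ p q : PrimeSpectrum A, p = q := by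
    intro p q
    have hp : ∀ r : Spec A, i.hom.base (i.inv.base r) = r := fun r => by
      have : (i.inv ≫ i.hom).base r = r := by rw [Iso.inv_hom_id]; rfl
      exact this
    have h1 : i.inv.base p = i.inv.base q := (hsub (i.inv.base p)).trans (hsub (i.inv.base q)).symm
    have h2 : i.hom.base (i.inv.base p) = i.hom.base (i.inv.base q) := by rw [h1]
    exact (hp p).symm.trans (h2.trans (hp q))
  have H' : ∀ d : A →+* DualNumber k, d.comp φ.hom = algebraMap k (DualNumber k) →
      d = (algebraMap k (DualNumber k)).comp ψ.hom := by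
    intro d hd
    have h1 : (Spec.map (CommRingCat.ofHom d) ≫ i.inv) ≫ π = canD k := by
      rw [Category.assoc, ← hφ, ← Spec.map_comp]
      exact congrArg Spec.map (CommRingCat.hom_ext hd)
    have h2 := H _ h1
    have h3 : Spec.map (CommRingCat.ofHom d) =
        Spec.map (ψ ≫ CommRingCat.ofHom (algebraMap k (DualNumber k))) := by
      rw [Spec.map_comp, hψ, ← Category.assoc, ← h2, Category.assoc, Iso.inv_hom_id,
        Category.comp_id]
    exact congrArg CommRingCat.Hom.hom (Spec.map_injective h3)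
  have hmain := alg_main φ.hom ψ.hom (congrArg CommRingCat.Hom.hom hφψ) hft hsubA H'
  have hψφ : ψ ≫ φ = 𝟙 A := CommRingCat.hom_ext hmain
  have h6 : (i.inv ≫ π) ≫ (e ≫ i.hom) = 𝟙 _ := by
    rw [← hφ, ← hψ, ← Spec.map_comp, hψφ, Spec.map_id]
  calc π ≫ e = i.hom ≫ ((i.inv ≫ π) ≫ (e ≫ i.hom)) ≫ i.inv := by simp
    _ = 𝟙 N := by rw [h6]; simp

/-- scheme-level core: the kernel of `φ` is trivial. -/
theorem core {X Y : Scheme.{u}} (cX : X ⟶ Spec (CommRingCat.of k))
    (cY : Y ⟶ Spec (CommRingCat.of k)) [LocallyOfFiniteType cX] (φ : X ⟶ Y) (hφ : φ ≫ cY = cX)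
    (eX : Spec (CommRingCat.of k) ⟶ X) (eY : Spec (CommRingCat.of k) ⟶ Y)
    (heY : eY ≫ cY = 𝟙 _) (hφe : eX ≫ φ = eY)
    (hgeom : ∀ (K : Type u) [Field K] [IsAlgClosed K] (p : Spec (CommRingCat.of K) ⟶ X),
      p ≫ φ = (p ≫ cX) ≫ eY → p = (p ≫ cX) ≫ eX)
    (htan : ∀ t : Spec (CommRingCat.of (DualNumber k)) ⟶ X, t ≫ cX = canD k →
      (∀ x : Spec (CommRingCat.of k) ⟶ Spec (CommRingCat.of (DualNumber k)),
        x ≫ canD k = 𝟙 _ → x ≫ t = eX) → t ≫ φ = canD k ≫ eY → t = canD k ≫ eX)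
    (T : Scheme.{u}) (a : T ⟶ X) (ha : a ≫ φ = (a ≫ cX) ≫ eY) : a = (a ≫ cX) ≫ eX := by
  obtain ⟨N, fst, π, hpb⟩ : ∃ (N : Scheme.{u}) (fst : N ⟶ X) (π : N ⟶ Spec (CommRingCat.of k)),
      IsPullback fst π φ eY := ⟨_, _, _, IsPullback.of_hasPullback φ eY⟩
  haveI : LocallyOfFiniteType (φ ≫ cY) := by rw [hφ]; infer_instance
  haveI : LocallyOfFiniteType φ := locallyOfFiniteType_of_comp φ cY
  haveI : LocallyOfFiniteType π :=
    MorphismProperty.of_isPullback (P := @LocallyOfFiniteType) hpb inferInstance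
  have hfstc : fst ≫ cX = π := by
    rw [← hφ, ← Category.assoc, hpb.w, Category.assoc, heY, Category.comp_id]
  obtain ⟨e, he1, he2⟩ : ∃ e : Spec (CommRingCat.of k) ⟶ N, e ≫ fst = eX ∧ e ≫ π = 𝟙 _ :=
    ⟨hpb.lift eX (𝟙 _) (by rw [hφe, Category.id_comp]), hpb.lift_fst _ _ _, hpb.lift_snd _ _ _⟩
  -- geometric points factor through `e`
  have hK : ∀ (K : Type u) [Field K] [IsAlgClosed K] (p : Spec (CommRingCat.of K) ⟶ N),
      p = (p ≫ π) ≫ e := by
    intro K _ _ p
    have h1 : (p ≫ fst) ≫ φ = ((p ≫ fst) ≫ cX) ≫ eY := by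
      rw [Category.assoc p fst φ, hpb.w, Category.assoc p fst cX, hfstc, Category.assoc p π eY]
    have h2 := hgeom K (p ≫ fst) h1
    rw [Category.assoc p fst cX, hfstc] at h2
    apply hpb.hom_ext
    · rw [Category.assoc (p ≫ π) e fst, he1]
      exact h2
    · rw [Category.assoc (p ≫ π) e π, he2, Category.comp_id]
  obtain ⟨z0, -⟩ : ∃ z0 : Spec (CommRingCat.of k), True := ⟨IsLocalRing.closedPoint k, trivial⟩
  have hz : ∀ z : Spec (CommRingCat.of k), z = z0 := fun z =>
    @Subsingleton.elim (PrimeSpectrum k) _ z z0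
  have hsub : ∀ n : N, n = e.base z0 := by
    intro n
    obtain ⟨K, _, _, p, z, hpz⟩ := exists_geom_point N n
    have hp := hK K p
    have h1 : n = e.base ((p ≫ π).base z) := by
      rw [← hpz]
      exact congrArg (fun q : Spec (CommRingCat.of K) ⟶ N => q.base z) hp
    rw [h1, hz ((p ≫ π).base z)]
  -- tangent vectors are trivial
  have H : ∀ t : Spec (CommRingCat.of (DualNumber k)) ⟶ N, t ≫ π = canD k → t = canD k ≫ e := by
    intro t ht
    have h1 : (t ≫ fst) ≫ cX = canD k := by rw [Category.assoc, hfstc, ht]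
    have h2 : ∀ x : Spec (CommRingCat.of k) ⟶ Spec (CommRingCat.of (DualNumber k)),
        x ≫ canD k = 𝟙 _ → x ≫ (t ≫ fst) = eX := by
      intro x hx
      have hxt : (x ≫ t) ≫ π = 𝟙 _ := by rw [Category.assoc, ht, hx]
      have h3 : (⟨x ≫ t, hxt⟩ : LocSym.Pt π) = ⟨e, he2⟩ := by
        apply Groth.Agent.H1.LocSymComp.pt_injective π
        exact (hsub _).trans (hsub _).symm
      have h4 : x ≫ t = e := congrArg Subtype.val h3
      rw [← Category.assoc, h4, he1]
    have h3 : (t ≫ fst) ≫ φ = canD k ≫ eY := by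
      rw [Category.assoc, hpb.w, ← Category.assoc, ht]
    have h4 := htan (t ≫ fst) h1 h2 h3
    apply hpb.hom_ext
    · rw [h4, Category.assoc, he1]
    · rw [Category.assoc, he2, Category.comp_id]
      exact ht
  have hret : π ≫ e = 𝟙 N := retraction_eq_id π e he2 (e.base z0) hsub H
  obtain ⟨l, hl1, hl2⟩ : ∃ l : T ⟶ N, l ≫ fst = a ∧ l ≫ π = a ≫ cX :=
    ⟨hpb.lift a (a ≫ cX) ha, hpb.lift_fst _ _ _, hpb.lift_snd _ _ _⟩
  calc a = l ≫ fst := hl1.symm
    _ = l ≫ (π ≫ e) ≫ fst := by rw [hret, Category.id_comp]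
    _ = (a ≫ cX) ≫ eX := by rw [Category.assoc, he1, ← Category.assoc, hl2]

end Sch

section Grp

open MonoidalCategory CartesianMonoidalCategory MonObj

theorem mono_of_ker_trivial {C : Type*} [Category C] [CartesianMonoidalCategory C] {G G' : C}
    [GrpObj G] [GrpObj G'] (f : G ⟶ G') [IsMonHom f]
    (hker : ∀ (T : C) (a : T ⟶ G), a ≫ f = toUnit T ≫ η[G'] → a = toUnit T ≫ η[G]) :
    Mono f := by
  constructor
  intro T a b hab
  have h1 : (a / b) ≫ f = 1 := by rw [GrpObj.div_comp, hab, div_self']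
  exact div_eq_one.mp (hker T _ h1)

theorem main (k : Type u) [Field k]
    (G G' : Over (Spec (CommRingCat.of k))) [GrpObj G] [GrpObj G'] [LocallyOfFiniteType G.hom]
    (f : G ⟶ G') [IsMonHom f]
    (hgeom : ∀ (K : Type u) [Field K] [IsAlgClosed K] [Algebra k K],
      Function.Injective
        (fun g : (Over.mk (Spec.map (CommRingCat.ofHom (algebraMap k K)))) ⟶ G => g ≫ f))
    (htan : ∀ g : (Over.mk (Spec.map (CommRingCat.ofHom (algebraMap k (DualNumber k))))) ⟶ G,
      (∀ x : 𝟙_ (Over (Spec (CommRingCat.of k))) ⟶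
          (Over.mk (Spec.map (CommRingCat.ofHom (algebraMap k (DualNumber k))))),
        x ≫ g = η[G]) →
        g ≫ f = toUnit _ ≫ η[G'] → g = toUnit _ ≫ η[G]) :
    Mono f := by
  obtain ⟨eG, heG⟩ : ∃ eG : Spec (CommRingCat.of k) ⟶ G.left, eG = η[G].left := ⟨_, rfl⟩
  obtain ⟨eG', heG'⟩ : ∃ eG' : Spec (CommRingCat.of k) ⟶ G'.left, eG' = η[G'].left := ⟨_, rfl⟩
  obtain ⟨cG, hcG⟩ : ∃ cG : G.left ⟶ Spec (CommRingCat.of k), cG = G.hom := ⟨_, rfl⟩
  obtain ⟨cG', hcG'⟩ : ∃ cG' : G'.left ⟶ Spec (CommRingCat.of k), cG' = G'.hom := ⟨_, rfl⟩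
  have h1 : eG ≫ cG = 𝟙 _ := by rw [heG, hcG]; exact Over.w η[G]
  have h2 : eG' ≫ cG' = 𝟙 _ := by rw [heG', hcG']; exact Over.w η[G']
  have h3 : eG ≫ f.left = eG' := by
    rw [heG, heG']
    exact congrArg CommaMorphism.left (IsMonHom.one_hom (f := f))
  have h4 : f.left ≫ cG' = cG := by rw [hcG, hcG']; exact Over.w f
  haveI : LocallyOfFiniteType cG := by rw [hcG]; infer_instance
  have key := core cG cG' f.left h4 eG eG' h2 h3 (by
      intro K _ _ p hp
      letI : Algebra k K := (Spec.preimage (p ≫ cG)).hom.toAlgebra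
      have hcan : Spec.map (CommRingCat.ofHom (algebraMap k K)) = p ≫ cG :=
        Spec.map_preimage (p ≫ cG)
      have hw1 : p ≫ G.hom = Spec.map (CommRingCat.ofHom (algebraMap k K)) := by
        rw [hcan, hcG]
      have hw2 : ((p ≫ cG) ≫ eG) ≫ G.hom =
          Spec.map (CommRingCat.ofHom (algebraMap k K)) := by
        rw [hcan, Category.assoc, ← hcG, h1, Category.comp_id]
      have h5 := @hgeom K _ _ _ (Over.homMk p hw1) (Over.homMk ((p ≫ cG) ≫ eG) hw2) (by
        apply Over.OverMorphism.ext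
        show p ≫ f.left = ((p ≫ cG) ≫ eG) ≫ f.left
        rw [hp, Category.assoc (p ≫ cG) eG f.left, h3])
      exact congrArg CommaMorphism.left h5) (by
      intro t ht hx htf
      have hw : t ≫ G.hom = canD k := by rw [← hcG]; exact ht
      have h5 := htan (Over.homMk t hw) (by
        intro x
        apply Over.OverMorphism.ext
        show x.left ≫ t = η[G].left
        rw [← heG]
        apply hx
        exact Over.w x) (by
        apply Over.OverMorphism.ext
        show t ≫ f.left = canD k ≫ η[G'].left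
        rw [← heG']
        exact htf)
      have h6 := congrArg CommaMorphism.left h5
      rw [heG]
      exact h6)
  apply mono_of_ker_trivial f
  intro T a ha
  apply Over.OverMorphism.ext
  have h6 := congrArg CommaMorphism.left ha
  have h7 := key T.left a.left (by
    show a.left ≫ f.left = (a.left ≫ cG) ≫ eG'
    rw [heG', hcG, Over.w a]
    exact h6)
  rw [h7, hcG, heG, Over.w a]
  rfl

end Grp

end Groth.Agent.H1.MonoTan
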