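import Mathlib
import Groth.Agent.Lib.Helper1.ClosureDim

/-!
# A closed integral subscheme of `X × B` of full dimension is finite over a component of `X`
iff it is closed in `X × B̂` (helper1)
-/

set_option autoImplicit false

universe u

open CategoryTheory Limits AlgebraicGeometry TopologicalSpace Topology

namespace Groth.Agent.H1.MovFin

/-- a closed map with discrete fibres is injective on nested irreducible closed sets -/
theorem eq_of_image_eq {A B : Type*} [TopologicalSpace A] [TopologicalSpace B]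
    [QuasiSober A] [T0Space B] (f : A → B) (hf : Continuous f) (hcl : IsClosedMap f)
    (hd : ∀ b, _root_.IsDiscrete (f ⁻¹' {b}))
    {C C' : Set A} (hC : IsIrreducible C) (hCc : IsClosed C) (hC' : IsIrreducible C')
    (hCc' : IsClosed C') (hsub : C ⊆ C') (himg : f '' C = f '' C') : C = C' := by
  obtain ⟨ξ, hξ⟩ := QuasiSober.sober hC hCc
  obtain ⟨ξ', hξ'⟩ := QuasiSober.sober hC' hCc'
  have h1 : IsGenericPoint (f ξ) (f '' C) := by
    change closure {f ξ} = f '' C
    rw [← Set.image_singleton, hcl.closure_image_eq_of_continuous hf, hξ.def]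
  have h2 : IsGenericPoint (f ξ') (f '' C) := by
    change closure {f ξ'} = f '' C
    rw [← Set.image_singleton, hcl.closure_image_eq_of_continuous hf, hξ'.def, himg]
  have h3 : f ξ' = f ξ := h2.eq h1
  have hξC' : ξ ∈ closure ({ξ'} : Set A) := by
    rw [hξ'.def]
    apply hsub
    rw [← hξ.def]
    exact subset_closure rfl
  have hsp : ξ' ⤳ ξ := specializes_iff_mem_closure.mpr hξC'
  obtain ⟨u, hu, hu'⟩ := isDiscrete_iff_forall_mem_exists_isOpen.mp (hd (f ξ)) ξ rfl
  have hξu : ξ ∈ u := by
    have : ξ ∈ u ∩ f ⁻¹' {f ξ} := by rw [hu']; rfl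
    exact this.1
  have hξ'u : ξ' ∈ u := hsp.mem_open hu hξu
  have h4 : ξ' ∈ u ∩ f ⁻¹' {f ξ} := ⟨hξ'u, h3⟩
  rw [hu'] at h4
  have h5 : ξ' = ξ := h4
  rw [← hξ.def, ← hξ'.def, h5]

theorem range_mem_irreducibleComponents {k : Type u} [Field k] {X Z : Scheme.{u}}
    (sX : X ⟶ Spec (CommRingCat.of k)) [LocallyOfFiniteType sX]
    (hXeq : ∀ T ∈ irreducibleComponents (X : Type u), topologicalKrullDim T = topologicalKrullDim X)
    [IrreducibleSpace Z] (φ : Z ⟶ X) [IsFinite φ]
    (hZ : topologicalKrullDim Z = topologicalKrullDim X) :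
    Set.range φ.base ∈ irreducibleComponents (X : Type u) := by
  have hclm : IsClosedMap φ.base := φ.isClosedMap
  have hcont : Continuous φ.base := φ.continuous
  have hWirr : IsIrreducible (Set.range φ.base) := by
    rw [← Set.image_univ]
    exact (IrreducibleSpace.isIrreducible_univ Z).image _ hcont.continuousOn
  obtain ⟨T, hTpre, hWT, hTmax⟩ := exists_preirreducible (Set.range φ.base) hWirr.isPreirreducible
  have hTirr : IsIrreducible T := ⟨hWirr.nonempty.mono hWT, hTpre⟩
  have hTmem : T ∈ irreducibleComponents (X : Type u) :=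
    ⟨hTirr, fun u hu htu => (hTmax u hu.isPreirreducible htu).le⟩
  have hTcl : IsClosed T := isClosed_of_mem_irreducibleComponents T hTmem
  by_contra hW
  have hne : Set.range φ.base ≠ T := fun h => hW (h ▸ hTmem)
  -- finiteness of the dimension
  obtain ⟨ξ, hξ⟩ := QuasiSober.sober hTirr hTcl
  obtain ⟨t, -, ht⟩ := Groth.Agent.H1.ClosureDim.exists_trdeg_eq_dim_closure sX ξ
  rw [hξ.def, hXeq T hTmem] at ht
  have hd : ∀ b, _root_.IsDiscrete (φ.base ⁻¹' {b}) := fun b => φ.isDiscrete_preimage_singleton b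
  let G : WithTop (IrreducibleCloseds Z) → IrreducibleCloseds X :=
    WithTop.recTopCoe (C := fun _ => IrreducibleCloseds X) ⟨T, hTirr, hTcl⟩
      (fun C => ⟨φ.base '' (C : Set Z), C.isIrreducible.image _ hcont.continuousOn,
        hclm _ C.isClosed⟩)
  have hG : StrictMono G := by
    intro a b hab
    induction a using WithTop.recTopCoe with
    | top => exact absurd hab not_top_lt
    | coe C =>
      induction b using WithTop.recTopCoe with
      | top =>
        change (⟨φ.base '' (C : Set Z), _, _⟩ : IrreducibleCloseds X) < ⟨T, hTirr, hTcl⟩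
        have hsub : φ.base '' (C : Set Z) ⊆ T := (Set.image_subset_range _ _).trans hWT
        refine lt_of_le_of_ne (SetLike.coe_subset_coe.mp hsub) ?_
        intro h
        have h' : φ.base '' (C : Set Z) = T := congrArg (fun c : IrreducibleCloseds X => (c : Set X)) h
        exact hne (Set.Subset.antisymm hWT (h' ▸ Set.image_subset_range _ _))
      | coe C' =>
        have hCC' : C < C' := WithTop.coe_lt_coe.mp hab
        change (⟨φ.base '' (C : Set Z), _, _⟩ : IrreducibleCloseds X) <
          ⟨φ.base '' (C' : Set Z), _, _⟩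
        have hsub : (C : Set Z) ⊆ C' := SetLike.coe_subset_coe.mpr hCC'.le
        refine lt_of_le_of_ne (SetLike.coe_subset_coe.mp (Set.image_mono hsub)) ?_
        intro h
        have h' : φ.base '' (C : Set Z) = φ.base '' (C' : Set Z) :=
          congrArg (fun c : IrreducibleCloseds X => (c : Set X)) h
        have := eq_of_image_eq φ.base hcont hclm hd C.isIrreducible C.isClosed C'.isIrreducible
          C'.isClosed hsub h'
        exact hCC'.ne (IrreducibleCloseds.ext this)
  haveI : Nonempty (IrreducibleCloseds Z) :=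
    ⟨⟨Set.univ, IrreducibleSpace.isIrreducible_univ Z, isClosed_univ⟩⟩
  have h1 := Order.krullDim_le_of_strictMono G hG
  rw [Order.krullDim_WithTop] at h1
  have h2 : topologicalKrullDim Z + 1 ≤ topologicalKrullDim X := h1
  rw [hZ, ht] at h2
  exact lt_irrefl _ (ENat.WithBot.add_one_le_iff.mp h2)

theorem main {k : Type u} [Field k] {X Bhat Z : Scheme.{u}}
    (sX : X ⟶ Spec (CommRingCat.of k)) (sB : Bhat ⟶ Spec (CommRingCat.of k))
    [IsAffine X] [LocallyOfFiniteType sX]
    (hXeq : ∀ T ∈ irreducibleComponents (X : Type u), topologicalKrullDim T = topologicalKrullDim X)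
    [IsProper sB] (B : Bhat.Opens) (hB : IsAffineOpen B)
    [IsIntegral Z] (ι : Z ⟶ ((pullback.snd sX sB) ⁻¹ᵁ B).toScheme) [IsClosedImmersion ι]
    (hZ : topologicalKrullDim Z = topologicalKrullDim X)
    (j : Z ⟶ pullback sX sB) (hj : j = ι ≫ ((pullback.snd sX sB) ⁻¹ᵁ B).ι) :
    (IsFinite (j ≫ pullback.fst sX sB) ∧
        Set.range (j ≫ pullback.fst sX sB).base ∈ irreducibleComponents (X : Type u)) ↔
      IsClosed (Set.range j.base) := by
  subst hj
  constructor
  · rintro ⟨hfin, -⟩
    haveI : IsProper ((ι ≫ ((pullback.snd sX sB) ⁻¹ᵁ B).ι) ≫ pullback.fst sX sB) := inferInstance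
    haveI : IsProper (ι ≫ ((pullback.snd sX sB) ⁻¹ᵁ B).ι) :=
      IsProper.of_comp _ (pullback.fst sX sB)
    exact (ι ≫ ((pullback.snd sX sB) ⁻¹ᵁ B).ι).isClosedMap.isClosed_range
  · intro hcl
    haveI : IsClosedImmersion (ι ≫ ((pullback.snd sX sB) ⁻¹ᵁ B).ι) :=
      IsClosedImmersion.of_isPreimmersion _ hcl
    haveI : IsAffineHom sX := inferInstance
    haveI : IsAffineHom (pullback.snd sX sB) := MorphismProperty.pullback_snd _ _ ‹_›
    haveI : IsAffine ((pullback.snd sX sB) ⁻¹ᵁ B).toScheme := hB.preimage (pullback.snd sX sB)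
    haveI : IsAffine Z := isAffine_of_isAffineHom ι
    haveI : IsAffineHom ((ι ≫ ((pullback.snd sX sB) ⁻¹ᵁ B).ι) ≫ pullback.fst sX sB) :=
      inferInstance
    haveI : IsProper ((ι ≫ ((pullback.snd sX sB) ⁻¹ᵁ B).ι) ≫ pullback.fst sX sB) := inferInstance
    have hfin : IsFinite ((ι ≫ ((pullback.snd sX sB) ⁻¹ᵁ B).ι) ≫ pullback.fst sX sB) := by
      rw [IsFinite.iff_isProper_and_isAffineHom]
      exact ⟨inferInstance, inferInstance⟩
    exact ⟨hfin, range_mem_irreducibleComponents sX hXeq _ hZ⟩

end Groth.Agent.H1.MovFin
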