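import Mathlib
import Groth.Agent.Lib.Helper1.Chev1
import Groth.Agent.Lib.Helper9.Misc.FinComp

/-!
# Noether normalization on a fibre: algebra (helper1)
-/

set_option autoImplicit false
universe u

namespace Groth.Agent.H1.NNFib

open TensorProduct MvPolynomial

/-- the map induced on fibres by an algebra map is finite as soon as the images of some elements
of the source generate an algebra over which the target fibre is integral. -/
theorem finite_tensorMap (A B C κ : Type u) [CommRing A] [CommRing B] [CommRing C] [Field κ]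
    [Algebra A B] [Algebra A C] [Algebra A κ] [Algebra.FiniteType A B] (φ : C →ₐ[A] B)
    {n : Type*} (c : n → C)
    (hint : (aeval (fun i => (1 : κ) ⊗ₜ[A] φ (c i)) :
      MvPolynomial n κ →ₐ[κ] κ ⊗[A] B).toRingHom.IsIntegral) :
    (Algebra.TensorProduct.map (AlgHom.id κ κ) φ : κ ⊗[A] C →ₐ[κ] κ ⊗[A] B).toRingHom.Finite := by
  set δ : κ ⊗[A] C →ₐ[κ] κ ⊗[A] B := Algebra.TensorProduct.map (AlgHom.id κ κ) φ with hδ
  let ι : MvPolynomial n κ →ₐ[κ] κ ⊗[A] C := aeval (fun i => (1 : κ) ⊗ₜ[A] c i)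
  have hcomp : δ.comp ι = aeval (fun i => (1 : κ) ⊗ₜ[A] φ (c i)) := by
    apply MvPolynomial.algHom_ext
    intro i
    simp [ι, δ]
  have hint' : δ.toRingHom.IsIntegral := by
    have h1 : (δ.toRingHom.comp ι.toRingHom).IsIntegral := by
      have e : δ.toRingHom.comp ι.toRingHom =
          (aeval (fun i => (1 : κ) ⊗ₜ[A] φ (c i)) :
            MvPolynomial n κ →ₐ[κ] κ ⊗[A] B).toRingHom := by
        rw [← hcomp]; rfl
      rw [e]; exact hint
    exact RingHom.IsIntegral.tower_top _ _ h1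
  have hft : δ.toRingHom.FiniteType := by
    have h1 : (algebraMap κ (κ ⊗[A] B)).FiniteType :=
      RingHom.finiteType_algebraMap.mpr inferInstance
    have h2 : algebraMap κ (κ ⊗[A] B) = δ.toRingHom.comp (algebraMap κ (κ ⊗[A] C)) := by
      ext x
      exact (δ.commutes x).symm
    rw [h2] at h1
    exact h1.of_comp_finiteType
  exact hint'.to_finite hft

/-- lifted Noether normalization on a fibre, with exactly `e` (possibly redundant) coordinates. -/
theorem exists_aeval_isIntegral_ulift (A B κ : Type u) [CommRing A] [CommRing B] [Algebra A B]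
    [Algebra.FiniteType A B] [Field κ] [Algebra A κ]
    (hfrac : ∀ z : κ, ∃ a b : A, algebraMap A κ b ≠ 0 ∧ z * algebraMap A κ b = algebraMap A κ a)
    (e : ℕ) (hn : ringKrullDim (κ ⊗[A] B) ≤ e) :
    ∃ b : ULift.{u} (Fin e) → B,
      (aeval (fun i => (1 : κ) ⊗ₜ[A] b i) :
        MvPolynomial (ULift.{u} (Fin e)) κ →ₐ[κ] κ ⊗[A] B).toRingHom.IsIntegral := by
  obtain ⟨m, hm, b, hb⟩ := Groth.Agent.H1.Chev.exists_aeval_isIntegral A B κ hfrac e hn
  let b' : ULift.{u} (Fin e) → B := fun i => if h : i.down.1 < m then b ⟨i.down.1, h⟩ else 0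
  refine ⟨b', ?_⟩
  let ρ : MvPolynomial (Fin m) κ →ₐ[κ] MvPolynomial (ULift.{u} (Fin e)) κ :=
    rename (fun k : Fin m => ULift.up (Fin.castLE hm k))
  have hcomp : (aeval (fun i => (1 : κ) ⊗ₜ[A] b' i) :
      MvPolynomial (ULift.{u} (Fin e)) κ →ₐ[κ] κ ⊗[A] B).comp ρ =
      aeval (fun i => (1 : κ) ⊗ₜ[A] b i) := by
    apply MvPolynomial.algHom_ext
    intro k
    have hk : b' (ULift.up (Fin.castLE hm k)) = b k := by
      change (if h : (Fin.castLE hm k).1 < m then b ⟨(Fin.castLE hm k).1, h⟩ else 0) = b k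
      rw [dif_pos (by simp)]
      rfl
    simp [ρ, hk]
  have h1 : ((aeval (fun i => (1 : κ) ⊗ₜ[A] b' i) :
      MvPolynomial (ULift.{u} (Fin e)) κ →ₐ[κ] κ ⊗[A] B).toRingHom.comp ρ.toRingHom).IsIntegral := by
    have e' : (aeval (fun i => (1 : κ) ⊗ₜ[A] b' i) :
        MvPolynomial (ULift.{u} (Fin e)) κ →ₐ[κ] κ ⊗[A] B).toRingHom.comp ρ.toRingHom =
        (aeval (fun i => (1 : κ) ⊗ₜ[A] b i) :
          MvPolynomial (Fin m) κ →ₐ[κ] κ ⊗[A] B).toRingHom := by
      rw [← hcomp]; rfl
    rw [e']; exact hb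
  exact RingHom.IsIntegral.tower_top _ _ h1

/-- an integral ring map from a domain which preserves the (finite) dimension is injective. -/
theorem injective_of_isIntegral_of_dim (R S : Type u) [CommRing R] [IsDomain R] [CommRing S]
    (δ : R →+* S) (hδ : δ.IsIntegral) (e : ℕ) (hR : ringKrullDim R = e)
    (hS : ringKrullDim S = e) : Function.Injective δ := by
  rw [injective_iff_map_eq_zero]
  intro r hr
  by_contra hr0
  have hnzd : r ∈ nonZeroDivisors R := mem_nonZeroDivisors_of_ne_zero hr0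
  have h1 := ringKrullDim_quotient_succ_le_of_nonZeroDivisor hnzd
  let δ' : R ⧸ Ideal.span {r} →+* S := Ideal.Quotient.lift (Ideal.span {r}) δ (by
    intro a ha
    obtain ⟨c, rfl⟩ := Ideal.mem_span_singleton'.mp ha
    rw [map_mul, hr, mul_zero])
  have hδ' : δ'.IsIntegral := by
    have : δ = δ'.comp (Ideal.Quotient.mk _) := by
      ext x; rfl
    rw [this] at hδ
    exact RingHom.IsIntegral.tower_top _ _ hδ
  letI := δ'.toAlgebra
  haveI : Algebra.IsIntegral (R ⧸ Ideal.span {r}) S := ⟨hδ'⟩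
  have h2 := Groth.Agent.H9.FinComp.ringKrullDim_le_of_isIntegral (R ⧸ Ideal.span {r}) S
  rw [hS] at h2
  rw [hR] at h1
  have h3 : ((e : WithBot ℕ∞)) + 1 ≤ e := (add_le_add_left h2 1).trans h1
  have h4 : ((e + 1 : ℕ) : WithBot ℕ∞) ≤ ((e : ℕ) : WithBot ℕ∞) := by exact_mod_cast h3
  have h5 : e + 1 ≤ e := by exact_mod_cast h4
  omega

/-- an injective integral ring map is surjective on spectra. -/
theorem comap_surjective_of_injective_of_isIntegral (R S : Type u) [CommRing R] [CommRing S]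
    (δ : R →+* S) (hδ : δ.IsIntegral) (hinj : Function.Injective δ) :
    Function.Surjective (PrimeSpectrum.comap δ) := by
  intro P
  letI := δ.toAlgebra
  haveI : Algebra.IsIntegral R S := ⟨hδ⟩
  obtain ⟨Q, -, hQ, hQP⟩ := Ideal.exists_ideal_over_prime_of_isIntegral P.asIdeal (⊥ : Ideal S) (by
    intro x hx
    rw [Ideal.mem_comap, Ideal.mem_bot] at hx
    have : x = 0 := hinj (by rw [map_zero]; exact hx)
    rw [this]; exact zero_mem _)
  exact ⟨⟨Q, hQ⟩, PrimeSpectrum.ext hQP⟩

/-- the polynomial ring over a field in `e` variables (indexed by `ULift (Fin e)`). -/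
theorem ringKrullDim_mvPolynomial_ulift (κ : Type u) [Field κ] (e : ℕ) :
    ringKrullDim (MvPolynomial (ULift.{u} (Fin e)) κ) = e := by
  rw [MvPolynomial.ringKrullDim_of_isNoetherianRing, ringKrullDim_eq_zero_of_field, zero_add,
    Nat.card_congr Equiv.ulift, Nat.card_fin]

end Groth.Agent.H1.NNFib
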