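import Mathlib
import Groth.Agent.Lib.Helper1.NNFibA
import Groth.Agent.Lib.Helper1.GenFib1
import Groth.Agent.Lib.Helper1.GenFibDim1
import Groth.Agent.Lib.Helper1.GenFin

/-!
# Noether normalization on a fibre: geometry (helper1)
-/

set_option autoImplicit false
universe u

namespace Groth.Agent.H1.NNFib

open AlgebraicGeometry CategoryTheory Limits TensorProduct MvPolynomial Groth.Agent.H1.GenFib

variable {X Y : Scheme.{u}}

theorem top_le (f : X ⟶ Y) : (⊤ : X.Opens) ≤ f ⁻¹ᵁ ⊤ := fun _ _ => trivial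

theorem appLE_top (f : X ⟶ Y) : f.appLE ⊤ ⊤ (top_le f) = f.appTop := by
  change f.appLE ⊤ ⊤ (top_le f) = f.app ⊤
  rw [Scheme.Hom.app_eq_appLE]
  rfl

/-- a general criterion for quasi-finiteness at a point: the base change to a subspace through the
image of the point is finite. -/
theorem quasiFiniteAt_of_isFinite_snd {X A Z : Scheme.{u}} (g : X ⟶ A) (i : Z ⟶ A)
    [IsPreimmersion i] [LocallyOfFiniteType g] (hfin : IsFinite (pullback.snd g i)) (x : X)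
    (hx : g x ∈ Set.range i) : g.QuasiFiniteAt x := by
  rw [Scheme.Hom.quasiFiniteAt_iff_isOpen_singleton_asFiber]
  rw [← (g.fiberHomeo (g x)).isOpen_image, Set.image_singleton]
  have hpt : (g.fiberHomeo (g x)) (g.asFiber x) = ⟨x, rfl⟩ := by
    simp [Scheme.Hom.asFiber]
  rw [hpt]
  haveI : IsPreimmersion (pullback.fst g i) := MorphismProperty.pullback_fst _ _ inferInstance
  obtain ⟨t, ht⟩ : x ∈ Set.range (pullback.fst g i) := by
    rw [Scheme.Pullback.range_fst]; exact hx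
  haveI := hfin
  have hdisc := (pullback.snd g i).isDiscrete_preimage_singleton (pullback.snd g i t)
  rw [isDiscrete_iff_discreteTopology] at hdisc
  have hopen : IsOpen ({⟨t, rfl⟩} : Set ((pullback.snd g i) ⁻¹' {pullback.snd g i t})) :=
    isOpen_discrete _
  obtain ⟨O, hO, hOeq⟩ := isOpen_induced_iff.mp hopen
  obtain ⟨O', hO', hO'eq⟩ := (pullback.fst g i).isEmbedding.isInducing.isOpen_iff.mp hO
  rw [isOpen_induced_iff]
  refine ⟨O', hO', ?_⟩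
  ext ⟨x', hx'⟩
  simp only [Set.mem_preimage, Set.mem_singleton_iff, Subtype.mk.injEq]
  have hx'' : g x' = g x := hx'
  constructor
  · intro hx'O
    have hx'r : x' ∈ Set.range (pullback.fst g i) := by
      rw [Scheme.Pullback.range_fst]
      change g x' ∈ Set.range i
      rw [hx'']; exact hx
    obtain ⟨t', rfl⟩ := hx'r
    have ht'O : t' ∈ O := by rw [← hO'eq]; exact hx'O
    have c1 : i (pullback.snd g i t') = g (pullback.fst g i t') := by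
      rw [← Scheme.Hom.comp_apply, ← Scheme.Hom.comp_apply, pullback.condition]
    have c2 : i (pullback.snd g i t) = g (pullback.fst g i t) := by
      rw [← Scheme.Hom.comp_apply, ← Scheme.Hom.comp_apply, pullback.condition]
    have hsnd : pullback.snd g i t' = pullback.snd g i t := by
      apply i.isEmbedding.injective
      rw [c1, c2, ht]; exact hx''
    have h1 : (⟨t', hsnd⟩ : (pullback.snd g i) ⁻¹' {pullback.snd g i t}) ∈
        (Subtype.val ⁻¹' O : Set ((pullback.snd g i) ⁻¹' {pullback.snd g i t})) := ht'O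
    rw [hOeq] at h1
    have h2 : t' = t := congrArg Subtype.val h1
    rw [h2, ht]
  · rintro rfl
    have h1 : (⟨t, rfl⟩ : (pullback.snd g i) ⁻¹' {pullback.snd g i t}) ∈
        (Subtype.val ⁻¹' O : Set ((pullback.snd g i) ⁻¹' {pullback.snd g i t})) := by
      rw [hOeq]; rfl
    have h2 : t ∈ O := h1
    rw [← hO'eq] at h2
    have h3 : pullback.fst g i t ∈ O' := h2
    rwa [ht] at h3

section Affine

variable [IsAffine X] [IsAffine Y] {n : Type u} (f : X ⟶ Y) (y : Y) (g : X ⟶ 𝔸(n; Y))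

/-- the structure map of the coordinate ring of affine space. -/
theorem exists_algHom (hg : g ≫ 𝔸(n; Y) ↘ Y = f) :
    letI := (f.appLE ⊤ ⊤ (top_le f)).hom.toAlgebra
    letI := ((𝔸(n; Y) ↘ Y).appLE ⊤ ⊤ (top_le _)).hom.toAlgebra
    ∃ φ : Γ(𝔸(n; Y), ⊤) →ₐ[Γ(Y, ⊤)] Γ(X, ⊤), ∀ c, φ c = (g.appLE ⊤ ⊤ (top_le g)).hom c := by
  subst hg
  letI := ((g ≫ 𝔸(n; Y) ↘ Y).appLE ⊤ ⊤ (top_le _)).hom.toAlgebra
  letI := ((𝔸(n; Y) ↘ Y).appLE ⊤ ⊤ (top_le _)).hom.toAlgebra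
  refine ⟨{ toRingHom := (g.appLE ⊤ ⊤ (top_le g)).hom, commutes' := ?_ }, fun c => rfl⟩
  intro r
  change (g.appLE ⊤ ⊤ (top_le g)).hom (((𝔸(n; Y) ↘ Y).appLE ⊤ ⊤ (top_le _)).hom r) =
    ((g ≫ 𝔸(n; Y) ↘ Y).appLE ⊤ ⊤ (top_le _)).hom r
  rw [← CommRingCat.comp_apply, Scheme.Hom.appLE_comp_appLE]

/-- the base change of `g` to the fibre of affine space over `y` is the spectrum of the induced map
of fibre rings. -/
theorem exists_isPullback (hg : g ≫ 𝔸(n; Y) ↘ Y = f) :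
    letI := (f.appLE ⊤ ⊤ (top_le f)).hom.toAlgebra
    letI := ((𝔸(n; Y) ↘ Y).appLE ⊤ ⊤ (top_le _)).hom.toAlgebra
    letI := (Y.evaluation ⊤ y (TopologicalSpace.Opens.mem_top y)).hom.toAlgebra
    ∀ (δ : Y.residueField y ⊗[Γ(Y, ⊤)] Γ(𝔸(n; Y), ⊤) →+* Y.residueField y ⊗[Γ(Y, ⊤)] Γ(X, ⊤)),
      (∀ c : Γ(𝔸(n; Y), ⊤), δ (1 ⊗ₜ c) = 1 ⊗ₜ (g.appLE ⊤ ⊤ (top_le g)).hom c) →
      (∀ k : Y.residueField y, δ (k ⊗ₜ 1) = k ⊗ₜ 1) →
      ∃ (a : Spec (CommRingCat.of (Y.residueField y ⊗[Γ(Y, ⊤)] Γ(X, ⊤))) ⟶ X)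
        (jP : Spec (CommRingCat.of (Y.residueField y ⊗[Γ(Y, ⊤)] Γ(𝔸(n; Y), ⊤))) ⟶
          (𝔸(n; Y) ↘ Y).fiber y),
        IsIso jP ∧ IsPullback a (Spec.map (CommRingCat.ofHom δ) ≫ jP) g
          ((𝔸(n; Y) ↘ Y).fiberι y) := by
  subst hg
  letI algAB := ((g ≫ 𝔸(n; Y) ↘ Y).appLE ⊤ ⊤ (top_le _)).hom.toAlgebra
  letI algAC := ((𝔸(n; Y) ↘ Y).appLE ⊤ ⊤ (top_le _)).hom.toAlgebra
  letI algAκ := (Y.evaluation ⊤ y (TopologicalSpace.Opens.mem_top y)).hom.toAlgebra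
  intro δ hδ1 hδ2
  have hX := isAffineOpen_top X
  have hY := isAffineOpen_top Y
  have hA := isAffineOpen_top 𝔸(n; Y)
  have sqX := (CommRingCat.isPushout_tensorProduct Γ(Y, ⊤) (Y.residueField y) Γ(X, ⊤)).flip
  obtain ⟨jX, hjX, hjX1, hjX2, hjXr⟩ := exists_fiberPiece (g ≫ 𝔸(n; Y) ↘ Y) hX hY (top_le _) y
    (TopologicalSpace.Opens.mem_top y) _ _ sqX
  have sqP := (CommRingCat.isPushout_tensorProduct Γ(Y, ⊤) (Y.residueField y) Γ(𝔸(n; Y), ⊤)).flip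
  obtain ⟨jP, hjP, hjP1, hjP2, hjPr⟩ := exists_fiberPiece (𝔸(n; Y) ↘ Y) hA hY (top_le _) y
    (TopologicalSpace.Opens.mem_top y) _ _ sqP
  haveI : IsIso jX := by
    haveI := hjX
    apply isIso_of_isOpenImmersion_of_opensRange_eq_top
    ext1
    rw [Scheme.Hom.coe_opensRange, hjXr]
    rfl
  haveI : IsIso jP := by
    haveI := hjP
    apply isIso_of_isOpenImmersion_of_opensRange_eq_top
    ext1
    rw [Scheme.Hom.coe_opensRange, hjPr]
    rfl
  have h0 : IsPullback ((g ≫ 𝔸(n; Y) ↘ Y).fiberι y)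
      ((g ≫ 𝔸(n; Y) ↘ Y).fiberToSpecResidueField y) (g ≫ 𝔸(n; Y) ↘ Y)
      (Y.fromSpecResidueField y) := IsPullback.of_hasPullback _ _
  have hbig := IsPullback.of_iso h0 (asIso jX).symm (Iso.refl _) (Iso.refl _) (Iso.refl _)
      (fst' := jX ≫ (g ≫ 𝔸(n; Y) ↘ Y).fiberι y)
      (snd' := jX ≫ (g ≫ 𝔸(n; Y) ↘ Y).fiberToSpecResidueField y)
      (f' := g ≫ 𝔸(n; Y) ↘ Y) (g' := Y.fromSpecResidueField y)
      (by rw [Iso.refl_hom, Category.comp_id, Iso.symm_hom, asIso_inv, IsIso.inv_hom_id_assoc])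
      (by rw [Iso.refl_hom, Category.comp_id, Iso.symm_hom, asIso_inv, IsIso.inv_hom_id_assoc])
      (by simp) (by simp)
  rw [hjX1, hjX2] at hbig
  have hv : (Spec.map (CommRingCat.ofHom δ) ≫ jP) ≫
      (𝔸(n; Y) ↘ Y).fiberToSpecResidueField y = Spec.map (CommRingCat.ofHom
        (Algebra.TensorProduct.includeLeftRingHom :
          Y.residueField y →+* Y.residueField y ⊗[Γ(Y, ⊤)] Γ(X, ⊤))) := by
    rw [Category.assoc, hjP2, ← Spec.map_comp]
    congr 1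
    ext k
    exact hδ2 k
  have hcomm : (Spec.map (CommRingCat.ofHom (Algebra.TensorProduct.includeRight.toRingHom :
      Γ(X, ⊤) →+* Y.residueField y ⊗[Γ(Y, ⊤)] Γ(X, ⊤))) ≫ hX.fromSpec) ≫ g =
      (Spec.map (CommRingCat.ofHom δ) ≫ jP) ≫ (𝔸(n; Y) ↘ Y).fiberι y := by
    rw [Category.assoc, Category.assoc, hjP1,
      ← IsAffineOpen.SpecMap_appLE_fromSpec g hA hX (top_le g), ← Category.assoc, ← Category.assoc,
      ← Spec.map_comp, ← Spec.map_comp]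
    congr 2
    ext c
    exact (hδ1 c).symm
  refine ⟨Spec.map (CommRingCat.ofHom (Algebra.TensorProduct.includeRight.toRingHom :
      Γ(X, ⊤) →+* Y.residueField y ⊗[Γ(Y, ⊤)] Γ(X, ⊤))) ≫ hX.fromSpec, jP, inferInstance, ?_⟩
  have hbot : IsPullback ((𝔸(n; Y) ↘ Y).fiberι y) ((𝔸(n; Y) ↘ Y).fiberToSpecResidueField y)
      (𝔸(n; Y) ↘ Y) (Y.fromSpecResidueField y) := IsPullback.of_hasPullback _ _
  exact IsPullback.of_bot (by rw [hv]; exact hbig) hcomm hbot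

/-- finiteness of the base change of `g` to the fibre of affine space, in terms of rings. -/
theorem isFinite_snd_iff (hg : g ≫ 𝔸(n; Y) ↘ Y = f) :
    letI := (f.appLE ⊤ ⊤ (top_le f)).hom.toAlgebra
    letI := ((𝔸(n; Y) ↘ Y).appLE ⊤ ⊤ (top_le _)).hom.toAlgebra
    letI := (Y.evaluation ⊤ y (TopologicalSpace.Opens.mem_top y)).hom.toAlgebra
    ∀ (δ : Y.residueField y ⊗[Γ(Y, ⊤)] Γ(𝔸(n; Y), ⊤) →+* Y.residueField y ⊗[Γ(Y, ⊤)] Γ(X, ⊤)),
      (∀ c : Γ(𝔸(n; Y), ⊤), δ (1 ⊗ₜ c) = 1 ⊗ₜ (g.appLE ⊤ ⊤ (top_le g)).hom c) →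
      (∀ k : Y.residueField y, δ (k ⊗ₜ 1) = k ⊗ₜ 1) →
      (IsFinite (pullback.snd g ((𝔸(n; Y) ↘ Y).fiberι y)) ↔ δ.Finite) := by
  letI algAB := (f.appLE ⊤ ⊤ (top_le f)).hom.toAlgebra
  letI algAC := ((𝔸(n; Y) ↘ Y).appLE ⊤ ⊤ (top_le _)).hom.toAlgebra
  letI algAκ := (Y.evaluation ⊤ y (TopologicalSpace.Opens.mem_top y)).hom.toAlgebra
  intro δ hδ1 hδ2
  obtain ⟨a, jP, hjP, hpb⟩ := exists_isPullback f y g hg δ hδ1 hδ2
  have e1 : hpb.isoPullback.hom ≫ pullback.snd g _ = Spec.map (CommRingCat.ofHom δ) ≫ jP :=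
    hpb.isoPullback_hom_snd
  have hS : IsFinite (Spec.map (CommRingCat.ofHom δ)) ↔ δ.Finite := by
    rw [IsFinite.SpecMap_iff]; rfl
  rw [← hS]
  constructor
  · intro h
    have h2 : IsFinite (Spec.map (CommRingCat.ofHom δ) ≫ jP) := by rw [← e1]; infer_instance
    have h3 : IsFinite ((Spec.map (CommRingCat.ofHom δ) ≫ jP) ≫ inv jP) := inferInstance
    simpa using h3
  · intro h
    have h2 : IsFinite (hpb.isoPullback.hom ≫ pullback.snd g ((𝔸(n; Y) ↘ Y).fiberι y)) := by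
      rw [e1]; infer_instance
    have h3 : IsFinite (hpb.isoPullback.inv ≫ hpb.isoPullback.hom ≫
        pullback.snd g ((𝔸(n; Y) ↘ Y).fiberι y)) := inferInstance
    simpa using h3

/-- the dimension of the fibre ring. -/
theorem ringKrullDim_fibre [LocallyOfFiniteType f] (e : ℕ)
    (he : topologicalKrullDim ↥(f.fiber y) = e) :
    letI := (f.appLE ⊤ ⊤ (top_le f)).hom.toAlgebra
    letI := (Y.evaluation ⊤ y (TopologicalSpace.Opens.mem_top y)).hom.toAlgebra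
    ringKrullDim (Y.residueField y ⊗[Γ(Y, ⊤)] Γ(X, ⊤)) = e := by
  letI algAB := (f.appLE ⊤ ⊤ (top_le f)).hom.toAlgebra
  letI algAκ := (Y.evaluation ⊤ y (TopologicalSpace.Opens.mem_top y)).hom.toAlgebra
  have h1 := topologicalKrullDim_fiberPiece f (isAffineOpen_top X) (isAffineOpen_top Y) (top_le f) y
    (TopologicalSpace.Opens.mem_top y)
  rw [← h1, ← he]
  exact (Homeomorph.Set.univ _).isHomeomorph.topologicalKrullDim_eq

end Affine

end Groth.Agent.H1.NNFib
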