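import Mathlib
import Groth.Agent.Lib.Helper1.NNFibB

/-!
# Noether normalization on a fibre: the statements (helper1)
-/

set_option autoImplicit false
universe u

namespace Groth.Agent.H1.NNFib

open AlgebraicGeometry CategoryTheory Limits TensorProduct MvPolynomial Groth.Agent.H1.GenFib

variable {X Y : Scheme.{u}}

/-- S3394 -/
theorem s3394 [IsAffine X] [IsAffine Y] (f : X ⟶ Y) [LocallyOfFiniteType f] (y : Y) (e : ℕ)
    (he : topologicalKrullDim ↥(f.fiber y) = e) :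
    ∃ g : X ⟶ 𝔸(ULift.{u} (Fin e); Y), g ≫ (𝔸(ULift.{u} (Fin e); Y) ↘ Y) = f ∧
      IsFinite (pullback.snd g ((𝔸(ULift.{u} (Fin e); Y) ↘ Y).fiberι y)) := by
  letI algAB := (f.appLE ⊤ ⊤ (top_le f)).hom.toAlgebra
  letI algAC := ((𝔸(ULift.{u} (Fin e); Y) ↘ Y).appLE ⊤ ⊤ (top_le _)).hom.toAlgebra
  letI algAκ := (Y.evaluation ⊤ y (TopologicalSpace.Opens.mem_top y)).hom.toAlgebra
  haveI : Algebra.FiniteType Γ(Y, ⊤) Γ(X, ⊤) :=
    f.finiteType_appLE (isAffineOpen_top Y) (isAffineOpen_top X) (top_le f)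
  have hdim := ringKrullDim_fibre f y e he
  obtain ⟨b, hb⟩ := exists_aeval_isIntegral_ulift Γ(Y, ⊤) Γ(X, ⊤) (Y.residueField y)
    (fun z => Groth.Agent.H1.GenFin.exists_frac_evaluation (isAffineOpen_top Y) y
      (TopologicalSpace.Opens.mem_top y) z) e hdim.le
  have hg : AffineSpace.homOfVector f b ≫ (𝔸(ULift.{u} (Fin e); Y) ↘ Y) = f :=
    AffineSpace.homOfVector_over f b
  obtain ⟨φ, hφ⟩ := exists_algHom f (AffineSpace.homOfVector f b) hg
  refine ⟨AffineSpace.homOfVector f b, hg, ?_⟩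
  have hφc : ∀ i, φ (AffineSpace.coord Y i) = b i := by
    intro i
    rw [hφ, appLE_top]
    exact AffineSpace.homOfVector_appTop_coord f b i
  have hfin := finite_tensorMap Γ(Y, ⊤) Γ(X, ⊤) Γ(𝔸(ULift.{u} (Fin e); Y), ⊤) (Y.residueField y) φ
    (AffineSpace.coord Y) (by
      have : (fun i => (1 : Y.residueField y) ⊗ₜ[Γ(Y, ⊤)] φ (AffineSpace.coord Y i)) =
          fun i => (1 : Y.residueField y) ⊗ₜ[Γ(Y, ⊤)] b i := by
        funext i; rw [hφc]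
      rw [this]; exact hb)
  refine (isFinite_snd_iff f y (AffineSpace.homOfVector f b) hg _ (fun c => ?_) (fun k => ?_)).mpr hfin
  · change (Algebra.TensorProduct.map (AlgHom.id _ _) φ) (1 ⊗ₜ c) = _
    rw [Algebra.TensorProduct.map_tmul, hφ]
    rfl
  · change (Algebra.TensorProduct.map (AlgHom.id _ _) φ) (k ⊗ₜ 1) = _
    rw [Algebra.TensorProduct.map_tmul, map_one]
    rfl

/-- the fibre ring of affine space is a polynomial ring over the residue field. -/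
theorem nonempty_ringEquiv_tensor_affineSpace [IsAffine Y] (y : Y) (n : Type u) :
    letI := ((𝔸(n; Y) ↘ Y).appLE ⊤ ⊤ (top_le _)).hom.toAlgebra
    letI := (Y.evaluation ⊤ y (TopologicalSpace.Opens.mem_top y)).hom.toAlgebra
    Nonempty (Y.residueField y ⊗[Γ(Y, ⊤)] Γ(𝔸(n; Y), ⊤) ≃+* MvPolynomial n (Y.residueField y)) := by
  letI algAC := ((𝔸(n; Y) ↘ Y).appLE ⊤ ⊤ (top_le _)).hom.toAlgebra
  letI algAκ := (Y.evaluation ⊤ y (TopologicalSpace.Opens.mem_top y)).hom.toAlgebra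
  let ψ : MvPolynomial n Γ(Y, ⊤) →ₐ[Γ(Y, ⊤)] Γ(𝔸(n; Y), ⊤) := aeval (AffineSpace.coord Y)
  have hbij : Function.Bijective ψ := by
    have h1 := AffineSpace.isoOfIsAffine_hom_appTop (n := n) (S := Y)
    have h2 : IsIso (CommRingCat.ofHom
        (eval₂Hom ((𝔸(n; Y) ↘ Y).appTop).hom (AffineSpace.coord Y))) := by
      have h3 : CommRingCat.ofHom (eval₂Hom ((𝔸(n; Y) ↘ Y).appTop).hom (AffineSpace.coord Y)) =
          (Scheme.ΓSpecIso _).inv ≫ (AffineSpace.isoOfIsAffine n Y).hom.appTop := by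
        rw [h1, Iso.inv_hom_id_assoc]
      rw [h3]
      haveI : IsIso ((AffineSpace.isoOfIsAffine n Y).hom.appTop) := by
        change IsIso ((AffineSpace.isoOfIsAffine n Y).hom.app ⊤)
        infer_instance
      infer_instance
    have h4 := ConcreteCategory.bijective_of_isIso (CommRingCat.ofHom
        (eval₂Hom ((𝔸(n; Y) ↘ Y).appTop).hom (AffineSpace.coord Y)))
    have h5 : (ψ : MvPolynomial n Γ(Y, ⊤) → Γ(𝔸(n; Y), ⊤)) =
        (eval₂Hom ((𝔸(n; Y) ↘ Y).appTop).hom (AffineSpace.coord Y) :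
          MvPolynomial n Γ(Y, ⊤) → Γ(𝔸(n; Y), ⊤)) := by
      funext p
      change eval₂ (algebraMap Γ(Y, ⊤) Γ(𝔸(n; Y), ⊤)) (AffineSpace.coord Y) p =
        eval₂ ((𝔸(n; Y) ↘ Y).appTop).hom (AffineSpace.coord Y) p
      have : algebraMap Γ(Y, ⊤) Γ(𝔸(n; Y), ⊤) = ((𝔸(n; Y) ↘ Y).appTop).hom := by
        change ((𝔸(n; Y) ↘ Y).appLE ⊤ ⊤ (top_le _)).hom = _
        rw [appLE_top]
      rw [this]
    rw [h5]
    exact h4
  let ψe : MvPolynomial n Γ(Y, ⊤) ≃ₐ[Γ(Y, ⊤)] Γ(𝔸(n; Y), ⊤) := AlgEquiv.ofBijective ψ hbij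
  exact ⟨((Algebra.TensorProduct.congr (AlgEquiv.refl : Y.residueField y ≃ₐ[Γ(Y, ⊤)] Y.residueField y)
    ψe.symm).toRingEquiv).trans
      (MvPolynomial.algebraTensorAlgEquiv Γ(Y, ⊤) (Y.residueField y)).toRingEquiv⟩

/-- S3395 -/
theorem s3395 [IsAffine X] [IsAffine Y] (f : X ⟶ Y) [LocallyOfFiniteType f] (y : Y) (e : ℕ)
    (he : topologicalKrullDim ↥(f.fiber y) = e) (g : X ⟶ 𝔸(ULift.{u} (Fin e); Y))
    (hg : g ≫ (𝔸(ULift.{u} (Fin e); Y) ↘ Y) = f)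
    (hfin : IsFinite (pullback.snd g ((𝔸(ULift.{u} (Fin e); Y) ↘ Y).fiberι y))) :
    Function.Surjective (pullback.snd g ((𝔸(ULift.{u} (Fin e); Y) ↘ Y).fiberι y)).base ∧
      ∃ U : X.Opens, f.base ⁻¹' {y} ⊆ (U : Set X) ∧ LocallyQuasiFinite (U.ι ≫ g) := by
  haveI : LocallyOfFiniteType g := by
    haveI : LocallyOfFiniteType (g ≫ (𝔸(ULift.{u} (Fin e); Y) ↘ Y)) := by rw [hg]; infer_instance
    exact locallyOfFiniteType_of_comp g (𝔸(ULift.{u} (Fin e); Y) ↘ Y)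
  constructor
  · letI algAB := (f.appLE ⊤ ⊤ (top_le f)).hom.toAlgebra
    letI algAC := ((𝔸(ULift.{u} (Fin e); Y) ↘ Y).appLE ⊤ ⊤ (top_le _)).hom.toAlgebra
    letI algAκ := (Y.evaluation ⊤ y (TopologicalSpace.Opens.mem_top y)).hom.toAlgebra
    have hdim := ringKrullDim_fibre f y e he
    obtain ⟨φ, hφ⟩ := exists_algHom f g hg
    set δ : Y.residueField y ⊗[Γ(Y, ⊤)] Γ(𝔸(ULift.{u} (Fin e); Y), ⊤) →+*
        Y.residueField y ⊗[Γ(Y, ⊤)] Γ(X, ⊤) :=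
      (Algebra.TensorProduct.map (AlgHom.id (Y.residueField y) (Y.residueField y)) φ).toRingHom
      with hδ
    have hδ1 : ∀ c : Γ(𝔸(ULift.{u} (Fin e); Y), ⊤),
        δ (1 ⊗ₜ c) = 1 ⊗ₜ (g.appLE ⊤ ⊤ (top_le g)).hom c := by
      intro c
      change (Algebra.TensorProduct.map (AlgHom.id _ _) φ) (1 ⊗ₜ c) = _
      rw [Algebra.TensorProduct.map_tmul, hφ]
      rfl
    have hδ2 : ∀ k : Y.residueField y, δ (k ⊗ₜ 1) = k ⊗ₜ 1 := by
      intro k
      change (Algebra.TensorProduct.map (AlgHom.id _ _) φ) (k ⊗ₜ 1) = _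
      rw [Algebra.TensorProduct.map_tmul, map_one]
      rfl
    have hδfin : δ.Finite := (isFinite_snd_iff f y g hg δ hδ1 hδ2).mp hfin
    obtain ⟨eq⟩ := nonempty_ringEquiv_tensor_affineSpace y (ULift.{u} (Fin e))
    haveI : IsDomain (Y.residueField y ⊗[Γ(Y, ⊤)] Γ(𝔸(ULift.{u} (Fin e); Y), ⊤)) :=
      MulEquiv.isDomain _ eq.toMulEquiv
    have hdimC : ringKrullDim (Y.residueField y ⊗[Γ(Y, ⊤)] Γ(𝔸(ULift.{u} (Fin e); Y), ⊤)) = e := by
      rw [ringKrullDim_eq_of_ringEquiv eq]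
      exact ringKrullDim_mvPolynomial_ulift _ e
    have hinj := injective_of_isIntegral_of_dim _ _ δ hδfin.to_isIntegral e hdimC hdim
    have hsurj := comap_surjective_of_injective_of_isIntegral _ _ δ hδfin.to_isIntegral hinj
    obtain ⟨a, jP, hjP, hpb⟩ := exists_isPullback f y g hg δ hδ1 hδ2
    have e1 : hpb.isoPullback.hom ≫ pullback.snd g _ = Spec.map (CommRingCat.ofHom δ) ≫ jP :=
      hpb.isoPullback_hom_snd
    intro z
    obtain ⟨w, hw⟩ : ∃ w, jP w = z := ⟨(inv jP) z, by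
      rw [← Scheme.Hom.comp_apply, IsIso.inv_hom_id]; rfl⟩
    obtain ⟨v, hv⟩ := hsurj w
    refine ⟨hpb.isoPullback.hom v, ?_⟩
    change (pullback.snd g _) (hpb.isoPullback.hom v) = z
    rw [← Scheme.Hom.comp_apply, e1, Scheme.Hom.comp_apply, ← hw]
    congr 1
  · refine ⟨g.quasiFiniteLocus, ?_, ?_⟩
    · intro x hx
      have hx' : f x = y := hx
      apply quasiFiniteAt_of_isFinite_snd g ((𝔸(ULift.{u} (Fin e); Y) ↘ Y).fiberι y) hfin x
      rw [Scheme.Hom.range_fiberι]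
      change (𝔸(ULift.{u} (Fin e); Y) ↘ Y) (g x) = y
      rw [← Scheme.Hom.comp_apply, hg, hx']
    · rw [← Scheme.Hom.quasiFiniteLocus_eq_top_iff, Scheme.Hom.quasiFiniteLocus_comp,
        Scheme.Opens.ι_preimage_self]

end Groth.Agent.H1.NNFib
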