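import Mathlib

/-!
# Lifting along a surjection with nilpotent kernel

`R → S` a surjective algebra map with kernel `I`.
* `exists_one_tmul` : every element of `S ⊗[R] M` is `1 ⊗ m`.
* `one_tmul_eq_zero_iff` : `1 ⊗ m = 0 ↔ m ∈ I • ⊤`.
* `nonempty_linearEquiv_self` : `P` f.g. projective over `R`, `I` nilpotent, `S ⊗ P ≃ S` ⇒ `P ≃ R`.
* `exists_lift_projective` : every f.g. projective `S`-module lifts to a f.g. projective `R`-module.
-/

set_option autoImplicit false

namespace Groth.Agent.H1.NilLift

open TensorProduct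

universe u v w

section basics
variable {R : Type u} {S : Type v} [CommRing R] [CommRing S] [Algebra R S]
  (hs : Function.Surjective (algebraMap R S))
  {M : Type w} [AddCommGroup M] [Module R M]

include hs in
theorem exists_one_tmul (z : S ⊗[R] M) : ∃ m : M, (1 : S) ⊗ₜ[R] m = z := by
  induction z with
  | zero => exact ⟨0, tmul_zero _ _⟩
  | tmul a m =>
    obtain ⟨r, rfl⟩ := hs a
    refine ⟨r • m, ?_⟩
    rw [tmul_smul, smul_tmul', Algebra.smul_def, mul_one]
  | add x y hx hy =>
    obtain ⟨m, rfl⟩ := hx
    obtain ⟨m', rfl⟩ := hy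
    exact ⟨m + m', tmul_add _ _ _⟩

theorem one_tmul_eq_zero_of_mem {m : M}
    (hm : m ∈ (RingHom.ker (algebraMap R S)) • (⊤ : Submodule R M)) : (1 : S) ⊗ₜ[R] m = 0 := by
  refine Submodule.smul_induction_on hm ?_ ?_
  · intro r hr n _
    rw [tmul_smul, smul_tmul', Algebra.smul_def, mul_one, (RingHom.mem_ker).mp hr, zero_tmul]
  · intro x y hx hy
    rw [tmul_add, hx, hy, add_zero]

theorem mk_smul_eq_of_algebraMap_eq {r r' : R} (h : algebraMap R S r = algebraMap R S r') (m : M) :
    (Submodule.Quotient.mk (r • m) :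
      M ⧸ ((RingHom.ker (algebraMap R S)) • (⊤ : Submodule R M))) =
      Submodule.Quotient.mk (r' • m) := by
  rw [Submodule.Quotient.eq, ← sub_smul]
  apply Submodule.smul_mem_smul _ Submodule.mem_top
  rw [RingHom.mem_ker, map_sub, h, sub_self]

/-- the map `S ⊗ M → M / I M` -/
noncomputable def toQuot :
    S ⊗[R] M →ₗ[R] M ⧸ ((RingHom.ker (algebraMap R S)) • (⊤ : Submodule R M)) :=
  TensorProduct.lift
    (LinearMap.mk₂ R (fun (s : S) (m : M) => Submodule.Quotient.mk (Function.surjInv hs s • m))
      (by
        intro s s' m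
        rw [← Submodule.Quotient.mk_add, ← add_smul]
        apply mk_smul_eq_of_algebraMap_eq
        rw [map_add, Function.surjInv_eq hs, Function.surjInv_eq hs, Function.surjInv_eq hs])
      (by
        intro c s m
        rw [← Submodule.Quotient.mk_smul, ← mul_smul]
        apply mk_smul_eq_of_algebraMap_eq
        rw [map_mul, Function.surjInv_eq hs, Function.surjInv_eq hs, Algebra.smul_def])
      (by
        intro s m m'
        rw [smul_add, Submodule.Quotient.mk_add])
      (by
        intro c s m
        rw [smul_comm, Submodule.Quotient.mk_smul]))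

theorem toQuot_one_tmul (m : M) : toQuot hs ((1 : S) ⊗ₜ[R] m) = Submodule.Quotient.mk m := by
  rw [toQuot, TensorProduct.lift.tmul, LinearMap.mk₂_apply]
  have h1 : (Submodule.Quotient.mk m :
      M ⧸ ((RingHom.ker (algebraMap R S)) • (⊤ : Submodule R M))) =
      Submodule.Quotient.mk ((1 : R) • m) := by rw [one_smul]
  rw [h1]
  apply mk_smul_eq_of_algebraMap_eq
  rw [Function.surjInv_eq hs, map_one]

include hs in
theorem one_tmul_eq_zero_iff {m : M} :
    (1 : S) ⊗ₜ[R] m = 0 ↔ m ∈ (RingHom.ker (algebraMap R S)) • (⊤ : Submodule R M) := by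
  constructor
  · intro h
    have := toQuot_one_tmul hs m
    rw [h, map_zero] at this
    exact (Submodule.Quotient.mk_eq_zero _).mp this.symm
  · exact one_tmul_eq_zero_of_mem

end basics

section nil
variable {R : Type u} {S : Type v} [CommRing R] [CommRing S] [Algebra R S]

theorem isNilpotent_of_mem {I : Ideal R} (hI : IsNilpotent I) {x : R} (hx : x ∈ I) :
    IsNilpotent x := by
  obtain ⟨n, hn⟩ := hI
  refine ⟨n, ?_⟩
  have := Ideal.pow_mem_pow hx n
  rw [hn] at this
  exact this

theorem le_jacobson_bot {I : Ideal R} (hI : IsNilpotent I) : I ≤ Ideal.jacobson ⊥ := by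
  intro x hx
  rw [Ideal.jacobson_bot]
  exact nilradical_le_jacobson R ((mem_nilradical).mpr (isNilpotent_of_mem hI hx))

end nil

section L1
variable {R : Type u} {S : Type v} [CommRing R] [CommRing S] [Algebra R S]
  (hs : Function.Surjective (algebraMap R S))
  (hI : IsNilpotent (RingHom.ker (algebraMap R S)))
  {P : Type w} [AddCommGroup P] [Module R P] [Module.Finite R P] [Module.Projective R P]

include hs hI in
/-- A f.g. projective module whose reduction modulo a nilpotent ideal is free of rank one
is free of rank one. -/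
theorem nonempty_linearEquiv_self (e : S ⊗[R] P ≃ₗ[S] S) : Nonempty (P ≃ₗ[R] R) := by
  obtain ⟨x, hx⟩ := exists_one_tmul hs (e.symm 1)
  have hex : e ((1 : S) ⊗ₜ[R] x) = 1 := by rw [hx, e.apply_symm_apply]
  have hesmul : ∀ (a : R) (p : P), e ((1 : S) ⊗ₜ[R] (a • p)) = algebraMap R S a * e (1 ⊗ₜ[R] p) := by
    intro a p
    rw [tmul_smul, smul_tmul', Algebra.smul_def, mul_one]
    have : (algebraMap R S a) ⊗ₜ[R] p = (algebraMap R S a) • ((1 : S) ⊗ₜ[R] p) := by
      rw [smul_tmul', smul_eq_mul, mul_one]
    rw [this, map_smul, smul_eq_mul]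
  set g : R →ₗ[R] P := LinearMap.toSpanSingleton R P x with hg
  have hgx : ∀ a, g a = a • x := fun a => rfl
  have hsurj : Function.Surjective g := by
    rw [← LinearMap.range_eq_top, eq_top_iff]
    apply Submodule.le_of_le_smul_of_le_jacobson_bot (Module.Finite.fg_top) (le_jacobson_bot hI)
    rintro p -
    obtain ⟨a, ha⟩ := hs (e (1 ⊗ₜ p))
    have h0 : (1 : S) ⊗ₜ[R] (p - a • x) = 0 := by
      apply e.injective
      rw [map_zero, tmul_sub, map_sub, hesmul, hex, mul_one, ha, sub_self]
    rw [one_tmul_eq_zero_iff hs] at h0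
    have hp : p = a • x + (p - a • x) := by abel
    rw [hp]
    exact Submodule.add_mem_sup (LinearMap.mem_range_self g a) h0
  obtain ⟨s, hs'⟩ := Module.projective_lifting_property g LinearMap.id hsurj
  have hgs : ∀ p, g (s p) = p := fun p => LinearMap.congr_fun hs' p
  set ε := s x with hε
  have hεx : ε • x = x := hgs x
  have hidem : IsIdempotentElem ε := by
    show ε * ε = ε
    calc ε * ε = ε • s x := rfl
      _ = s (ε • x) := (map_smul s ε x).symm
      _ = ε := by rw [hεx]
  have hker : 1 - ε ∈ RingHom.ker (algebraMap R S) := by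
    rw [RingHom.mem_ker]
    have h1 : e ((1 : S) ⊗ₜ[R] ((1 - ε) • x)) = algebraMap R S (1 - ε) := by
      rw [hesmul, hex, mul_one]
    rw [← h1, sub_smul, one_smul, hεx, sub_self, tmul_zero, map_zero]
  have hε1 : (1 : R) = ε :=
    eq_of_isNilpotent_sub_of_isIdempotentElem IsIdempotentElem.one hidem
      (isNilpotent_of_mem hI hker)
  have hinj : Function.Injective g := by
    rw [injective_iff_map_eq_zero]
    intro a ha
    calc a = a * ε := by rw [← hε1, mul_one]
      _ = a • s x := rfl
      _ = s (a • x) := (map_smul s a x).symm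
      _ = s (g a) := rfl
      _ = 0 := by rw [ha, map_zero]
  exact ⟨(LinearEquiv.ofBijective g ⟨hinj, hsurj⟩).symm⟩

end L1

section matrix
variable {R : Type u} [CommRing R]

theorem matrix_pow_mem {n : Type*} [Fintype n] [DecidableEq n] (I : Ideal R) (X : Matrix n n R)
    (hX : ∀ i j, X i j ∈ I) (k : ℕ) : ∀ i j, (X ^ k) i j ∈ I ^ k := by
  induction k with
  | zero => intro i j; simp
  | succ k ih =>
    intro i j
    rw [pow_succ X, Matrix.mul_apply, pow_succ I]
    exact Ideal.sum_mem _ fun l _ => Ideal.mul_mem_mul (ih i l) (hX l j)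

theorem isNilpotent_of_mem_ker_mapMatrix {S : Type v} [CommRing S] (φ : R →+* S)
    (hI : IsNilpotent (RingHom.ker φ)) {n : Type*} [Fintype n] [DecidableEq n]
    (X : Matrix n n R) (hX : X ∈ RingHom.ker (φ.mapMatrix (m := n))) : IsNilpotent X := by
  obtain ⟨k, hk⟩ := hI
  refine ⟨k, ?_⟩
  have hent : ∀ i j, X i j ∈ RingHom.ker φ := by
    intro i j
    rw [RingHom.mem_ker] at hX ⊢
    have := congrFun (congrFun hX i) j
    simpa using this
  ext i j
  have := matrix_pow_mem _ X hent k i j
  rw [hk] at this
  exact this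

end matrix

section Lift
variable {R : Type u} {S : Type v} [CommRing R] [CommRing S] [Algebra R S]
  (hs : Function.Surjective (algebraMap R S))
  (hI : IsNilpotent (RingHom.ker (algebraMap R S)))

/-- coordinatewise reduction -/
def red {n : ℕ} (v : Fin n → R) : Fin n → S := fun j => algebraMap R S (v j)

theorem red_add {n : ℕ} (v w : Fin n → R) : red (S := S) (v + w) = red v + red w := by
  funext j; simp [red]

theorem red_smul {n : ℕ} (r : R) (v : Fin n → R) :
    red (S := S) (r • v) = algebraMap R S r • red v := by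
  funext j; simp [red]

include hs in
theorem red_surjective {n : ℕ} : Function.Surjective (red (R := R) (S := S) (n := n)) := by
  intro w
  refine ⟨fun j => Function.surjInv hs (w j), ?_⟩
  funext j
  exact Function.surjInv_eq hs (w j)

theorem red_toLin' {n : ℕ} (E' : Matrix (Fin n) (Fin n) R) (v : Fin n → R) :
    red (S := S) (Matrix.toLin' E' v) =
      Matrix.toLin' ((algebraMap R S).mapMatrix E') (red v) := by
  funext j
  rw [Matrix.toLin'_apply, Matrix.toLin'_apply]
  exact RingHom.map_mulVec (algebraMap R S) E' v j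

include hs hI in
/-- Finitely generated projective modules lift along a surjection with nilpotent kernel. -/
theorem exists_lift_projective (N : Type w) [AddCommGroup N] [Module S N] [Module.Finite S N]
    [Module.Projective S N] :
    ∃ (M : Type u) (_ : AddCommGroup M) (_ : Module R M) (_ : Module.Finite R M)
      (_ : Module.Projective R M), Nonempty (S ⊗[R] M ≃ₗ[S] N) := by
  classical
  obtain ⟨n, π, hπ⟩ := Module.Finite.exists_fin' S N
  obtain ⟨s, hsπ⟩ := Module.projective_lifting_property π LinearMap.id hπ
  have hπs : ∀ y, π (s y) = y := fun y => LinearMap.congr_fun hsπ y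
  set q : (Fin n → S) →ₗ[S] (Fin n → S) := s ∘ₗ π with hq
  have hqq : q ∘ₗ q = q := by
    apply LinearMap.ext
    intro v
    simp only [hq, LinearMap.comp_apply, hπs]
  set E := LinearMap.toMatrix' q with hE
  have hEE : IsIdempotentElem E := by
    show E * E = E
    rw [hE, ← LinearMap.toMatrix'_comp, hqq]
  have hErange : E ∈ ((algebraMap R S).mapMatrix (m := Fin n)).range := by
    refine ⟨Matrix.of fun i j => Function.surjInv hs (E i j), ?_⟩
    ext i j
    simp [Function.surjInv_eq hs]
  obtain ⟨E', hE'idem, hE'E⟩ := exists_isIdempotentElem_eq_of_ker_isNilpotent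
    ((algebraMap R S).mapMatrix (m := Fin n))
    (fun X hX => isNilpotent_of_mem_ker_mapMatrix (algebraMap R S) hI X hX) E hErange hEE
  set p : (Fin n → R) →ₗ[R] (Fin n → R) := Matrix.toLin' E' with hp
  have hpp : ∀ v, p (p v) = p v := by
    intro v
    have : p ∘ₗ p = p := by rw [hp, ← Matrix.toLin'_mul, hE'idem.eq]
    exact LinearMap.congr_fun this v
  have hredp : ∀ v, red (S := S) (p v) = q (red v) := by
    intro v
    rw [hp, red_toLin', hE'E, hE, Matrix.toLin'_toMatrix']
  -- the lift
  refine ⟨LinearMap.range p, inferInstance, inferInstance, inferInstance, ?_, ?_⟩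
  · exact Module.Projective.of_split (LinearMap.range p).subtype p.rangeRestrict (by
      ext ⟨m, v, rfl⟩
      simp [hpp])
  · letI : Module R N := Module.compHom N (algebraMap R S)
    haveI : IsScalarTower R S N := ⟨fun r a y => by
      show (r • a) • y = algebraMap R S r • (a • y)
      rw [Algebra.smul_def, mul_smul]⟩
    let ψ₀ : LinearMap.range p →ₗ[R] N :=
      { toFun := fun m => π (red m.1)
        map_add' := fun m m' => by
          show π (red (m.1 + m'.1)) = _
          rw [red_add, map_add]
        map_smul' := fun r m => by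
          show π (red (r • m.1)) = algebraMap R S r • π (red m.1)
          rw [red_smul, map_smul] }
    have hψ₀ : ∀ m : LinearMap.range p, ψ₀ m = π (red m.1) := fun m => rfl
    let ψ : S ⊗[R] LinearMap.range p →ₗ[S] N := ψ₀.liftBaseChange S
    have hψ : ∀ m : LinearMap.range p, ψ ((1 : S) ⊗ₜ[R] m) = π (red m.1) := by
      intro m
      show ψ₀.liftBaseChange S ((1 : S) ⊗ₜ[R] m) = _
      rw [LinearMap.liftBaseChange_tmul, one_smul, hψ₀]
    refine ⟨LinearEquiv.ofBijective ψ ⟨?_, ?_⟩⟩
    · -- injective
      rw [injective_iff_map_eq_zero]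
      intro z hz
      obtain ⟨m, rfl⟩ := exists_one_tmul hs z
      rw [hψ] at hz
      obtain ⟨m, v, rfl⟩ := m
      have hm0 : red (S := S) (p v) = 0 := by
        have h1 : red (S := S) (p v) = q (red (p v)) := by rw [← hredp, hpp]
        rw [h1, hq, LinearMap.comp_apply, hz, map_zero]
      have hcoord : ∀ j, p v j ∈ RingHom.ker (algebraMap R S) := by
        intro j
        rw [RingHom.mem_ker]
        exact congrFun hm0 j
      apply one_tmul_eq_zero_of_mem
      -- `p v = Σ (p v)_j • p e_j`
      have hsum : (⟨p v, v, rfl⟩ : LinearMap.range p) =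
          ∑ j, (p v j) •
            (⟨p (fun j' => if j = j' then (1 : R) else 0), _, rfl⟩ : LinearMap.range p) := by
        apply Subtype.ext
        rw [Submodule.coe_sum]
        simp only [Submodule.coe_smul]
        conv_lhs => rw [← hpp v]
        rw [LinearMap.pi_apply_eq_sum_univ p (p v)]
      rw [hsum]
      exact Submodule.sum_mem _ fun j _ => Submodule.smul_mem_smul (hcoord j) Submodule.mem_top
    · -- surjective
      intro y
      obtain ⟨v, hv⟩ := red_surjective hs (s y)
      refine ⟨(1 : S) ⊗ₜ[R] (⟨p v, v, rfl⟩ : LinearMap.range p), ?_⟩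
      rw [hψ]
      show π (red (p v)) = y
      rw [hredp, hv, hq, LinearMap.comp_apply, hπs, hπs]

end Lift

end Groth.Agent.H1.NilLift
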