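import Mathlib
import Groth.Agent.Lib.Helper1.NNFibA
import Groth.Agent.Lib.Helper1.QFDimLe
import Groth.Agent.Lib.Helper1.ClosureDim
import Groth.Agent.Lib.Helper1.AffStratB
import Groth.Agent.Lib.Helper1.FibDimTot
import Groth.Agent.Lib.Helper1.RelDim
import Groth.Agent.Lib.Helper1.UOVal

/-!
# Dimension of a scheme of finite type over a field via maps to affine space — helper1

`dim X ≥ n` (resp. `≤ n`, `= n`) iff some dense open admits a surjective (resp. finite, finite
surjective) `k`-morphism to `𝔸ⁿ_k`.  Noether normalisation on a dense affine open.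
-/

set_option autoImplicit false
set_option linter.style.haveILetI false

universe u

open CategoryTheory CategoryTheory.Limits AlgebraicGeometry Topology TopologicalSpace

namespace Groth.Agent.H1.NoethNormSch

/-! ### ring level -/

section Ring

open MvPolynomial

variable (k : Type u) [Field k]

/-- truncation / extension by zero of the variables. -/
noncomputable def theta (s n : ℕ) :
    MvPolynomial (ULift.{u} (Fin n)) k →ₐ[k] MvPolynomial (Fin s) k :=
  aeval (fun j : ULift.{u} (Fin n) =>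
    if h : j.down.val < s then (X (⟨j.down.val, h⟩ : Fin s) : MvPolynomial (Fin s) k) else 0)

/-- the map in the other direction. -/
noncomputable def rho (s n : ℕ) :
    MvPolynomial (Fin s) k →ₐ[k] MvPolynomial (ULift.{u} (Fin n)) k :=
  aeval (fun j : Fin s =>
    if h : j.val < n then (X (ULift.up (⟨j.val, h⟩ : Fin n)) : MvPolynomial (ULift.{u} (Fin n)) k)
    else 0)

theorem theta_rho (s n : ℕ) (h : s ≤ n) (p : MvPolynomial (Fin s) k) :
    theta k s n (rho k s n p) = p := by
  have : (theta k s n).comp (rho k s n) = AlgHom.id k _ := by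
    apply MvPolynomial.algHom_ext
    intro j
    have h1 : j.val < n := lt_of_lt_of_le j.isLt h
    show theta k s n (rho k s n (X j)) = X j
    have e1 : rho k s n (X j) = X (ULift.up (⟨j.val, h1⟩ : Fin n)) := by
      unfold rho
      rw [aeval_X]
      exact dif_pos h1
    have e2 : theta k s n (X (ULift.up (⟨j.val, h1⟩ : Fin n))) = X j := by
      unfold theta
      rw [aeval_X]
      exact dif_pos j.isLt
    rw [e1, e2]
  exact DFunLike.congr_fun this p

theorem theta_surjective (s n : ℕ) (h : s ≤ n) : Function.Surjective (theta k s n) :=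
  fun p => ⟨rho k s n p, theta_rho k s n h p⟩

theorem rho_theta (s n : ℕ) (h : n ≤ s) (p : MvPolynomial (ULift.{u} (Fin n)) k) :
    rho k s n (theta k s n p) = p := by
  have : (rho k s n).comp (theta k s n) = AlgHom.id k _ := by
    apply MvPolynomial.algHom_ext
    intro j
    have h1 : j.down.val < s := lt_of_lt_of_le j.down.isLt h
    show rho k s n (theta k s n (X j)) = X j
    have e1 : theta k s n (X j) = X (⟨j.down.val, h1⟩ : Fin s) := by
      unfold theta
      rw [aeval_X]
      exact dif_pos h1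
    have e2 : rho k s n (X (⟨j.down.val, h1⟩ : Fin s)) = X j := by
      unfold rho
      rw [aeval_X]
      exact dif_pos j.down.isLt
    rw [e1, e2]
  exact DFunLike.congr_fun this p

/-- **Noether normalisation, all `n` at once**: for a nonzero finitely generated algebra `R` over a
field there is `s` such that for every `n` there is a `k`-algebra map `k[X₁..Xₙ] → R` which is finite
when `s ≤ n` and surjective on spectra when `n ≤ s`. -/
theorem exists_noether (R : Type u) [CommRing R] [Nontrivial R] [Algebra k R]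
    [Algebra.FiniteType k R] :
    ∃ s : ℕ, ∀ n : ℕ, ∃ ψ : MvPolynomial (ULift.{u} (Fin n)) k →+* R,
      ψ.comp MvPolynomial.C = algebraMap k R ∧ (s ≤ n → ψ.Finite) ∧
        (n ≤ s → Function.Surjective (PrimeSpectrum.comap ψ)) := by
  obtain ⟨s, φ, hinj, hfin⟩ := exists_finite_inj_algHom_of_fg k R
  have hφ : Function.Surjective (PrimeSpectrum.comap φ.toRingHom) :=
    Groth.Agent.H1.NNFib.comap_surjective_of_injective_of_isIntegral _ _ φ.toRingHom
      (RingHom.Finite.to_isIntegral hfin) hinj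
  refine ⟨s, fun n => ⟨φ.toRingHom.comp (theta k s n).toRingHom, ?_, ?_, ?_⟩⟩
  · ext a
    show φ (theta k s n (MvPolynomial.C a)) = algebraMap k R a
    rw [← MvPolynomial.algebraMap_eq, AlgHom.commutes, AlgHom.commutes]
  · intro h
    have h1 : (theta k s n).toRingHom.Finite :=
      RingHom.Finite.of_surjective _ (theta_surjective k s n h)
    exact RingHom.Finite.comp hfin h1
  · intro h P
    obtain ⟨Q, hQ⟩ := hφ (PrimeSpectrum.comap (rho k s n).toRingHom P)
    refine ⟨Q, ?_⟩
    have hQ' : ∀ q, φ q ∈ Q.asIdeal ↔ rho k s n q ∈ P.asIdeal := by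
      intro q
      exact SetLike.ext_iff.mp (congrArg PrimeSpectrum.asIdeal hQ) q
    apply PrimeSpectrum.ext
    ext p
    show φ (theta k s n p) ∈ Q.asIdeal ↔ p ∈ P.asIdeal
    rw [hQ', rho_theta k s n h]

end Ring

/-! ### topology -/

section Top

theorem dense_of_meets_components {T : Type*} [TopologicalSpace T] (U : Set T) (hU : IsOpen U)
    (h : ∀ C ∈ irreducibleComponents T, ¬ C ⊆ Uᶜ) : Dense U := by
  intro x
  rw [mem_closure_iff]
  intro W hW hxW
  have hC := irreducibleComponent_mem_irreducibleComponents x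
  have hne := h _ hC
  rw [Set.not_subset] at hne
  obtain ⟨y, hyC, hyU⟩ := hne
  have hyU' : y ∈ U := by
    by_contra hn
    exact hyU hn
  obtain ⟨z, hz⟩ := hC.1.2 W U hW hU ⟨x, mem_irreducibleComponent, hxW⟩ ⟨y, hyC, hyU'⟩
  exact ⟨z, hz.2.1, hz.2.2⟩

theorem dim_eq_bot_of_isEmpty {T : Type*} [TopologicalSpace T] [IsEmpty T] :
    topologicalKrullDim T = ⊥ := by
  haveI : IsEmpty (IrreducibleCloseds T) := ⟨fun Z => by
    obtain ⟨x, _⟩ := Z.isIrreducible.nonempty
    exact isEmptyElim x⟩
  show Order.krullDim (IrreducibleCloseds T) = ⊥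
  exact Order.krullDim_eq_bot

end Top

/-! ### schemes -/

section Sch

variable {k : Type u} [Field k] {X : Scheme.{u}} (f : X ⟶ Spec (CommRingCat.of k))

/-- the structure map `k → Γ(X, U)` of an affine open of a `k`-scheme. -/
noncomputable def structHom {U : X.Opens} (hU : IsAffineOpen U) : CommRingCat.of k ⟶ Γ(X, U) :=
  Spec.preimage (hU.fromSpec ≫ f)

theorem SpecMap_structHom {U : X.Opens} (hU : IsAffineOpen U) :
    Spec.map (structHom f hU) = hU.fromSpec ≫ f := Spec.map_preimage _

theorem finiteType_structHom [LocallyOfFiniteType f] {U : X.Opens} (hU : IsAffineOpen U) :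
    (structHom f hU).hom.FiniteType := by
  have h : LocallyOfFiniteType (Spec.map (structHom f hU)) := by
    rw [SpecMap_structHom]
    infer_instance
  exact (HasRingHomProperty.Spec_iff (P := @LocallyOfFiniteType)).mp h

/-- the morphism from an affine open to affine `n`-space given by a ring map out of the polynomial
ring. -/
noncomputable def toAff {U : X.Opens} (hU : IsAffineOpen U) (n : ℕ)
    (ψ : MvPolynomial (ULift.{u} (Fin n)) k →+* Γ(X, U)) :
    (U : Scheme.{u}) ⟶ 𝔸(ULift.{u} (Fin n); Spec (CommRingCat.of k)) :=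
  hU.isoSpec.hom ≫ Spec.map (CommRingCat.ofHom ψ) ≫
    (AffineSpace.SpecIso (ULift.{u} (Fin n)) (CommRingCat.of k)).inv

theorem toAff_over {U : X.Opens} (hU : IsAffineOpen U) (n : ℕ)
    (ψ : MvPolynomial (ULift.{u} (Fin n)) k →+* Γ(X, U))
    (hψ : ψ.comp MvPolynomial.C = (structHom f hU).hom) :
    toAff hU n ψ ≫ (𝔸(ULift.{u} (Fin n); Spec (CommRingCat.of k)) ↘ Spec (CommRingCat.of k)) =
      U.ι ≫ f := by
  have h1 : CommRingCat.ofHom (MvPolynomial.C (σ := ULift.{u} (Fin n))) ≫ CommRingCat.ofHom ψ =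
      structHom f hU := by
    ext1
    exact hψ
  rw [toAff, Category.assoc, Category.assoc, AffineSpace.SpecIso_inv_over, ← Spec.map_comp, h1,
    SpecMap_structHom, IsAffineOpen.isoSpec_hom_fromSpec_assoc]

theorem isFinite_toAff {U : X.Opens} (hU : IsAffineOpen U) (n : ℕ)
    (ψ : MvPolynomial (ULift.{u} (Fin n)) k →+* Γ(X, U)) (hψ : ψ.Finite) :
    IsFinite (toAff hU n ψ) := by
  haveI : IsFinite (Spec.map (CommRingCat.ofHom ψ)) := (IsFinite.SpecMap_iff _).mpr hψ
  unfold toAff
  infer_instance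

theorem surjective_toAff {U : X.Opens} (hU : IsAffineOpen U) (n : ℕ)
    (ψ : MvPolynomial (ULift.{u} (Fin n)) k →+* Γ(X, U))
    (hψ : Function.Surjective (PrimeSpectrum.comap ψ)) :
    Function.Surjective (toAff hU n ψ).base := by
  haveI : Surjective (Spec.map (CommRingCat.ofHom ψ)) := ⟨hψ⟩
  haveI : Surjective (toAff hU n ψ) := by
    unfold toAff
    infer_instance
  exact (inferInstance : Surjective (toAff hU n ψ)).surj

variable (k) in
theorem dim_affineSpace (n : ℕ) :
    topologicalKrullDim ↥(𝔸(ULift.{u} (Fin n); Spec (CommRingCat.of k))) = (n : WithBot ℕ∞) := by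
  have e := Scheme.homeoOfIso (AffineSpace.SpecIso (ULift.{u} (Fin n)) (CommRingCat.of k))
  rw [← NNFib.ringKrullDim_mvPolynomial_ulift k n,
    ← PrimeSpectrum.topologicalKrullDim_eq_ringKrullDim]
  exact IsHomeomorph.topologicalKrullDim_eq _ e.isHomeomorph

/-- a finite morphism to a locally Noetherian scheme does not raise dimension. -/
theorem dim_le_of_isFinite {X₀ Y₀ : Scheme.{u}} [IsLocallyNoetherian Y₀] (g : X₀ ⟶ Y₀)
    [IsFinite g] : topologicalKrullDim X₀ ≤ topologicalKrullDim Y₀ := by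
  rw [Groth.Agent.H6.TD.topologicalKrullDim_eq_iSup_stalk X₀]
  apply iSup_le
  intro x'
  have key := DimIneq.stalk_dim_add_resTrdeg_le g x' 0 (by
    intro ξ _ _
    rw [JacobsonTrdeg.resTrdeg_eq_zero_of_finite g ξ (g.quasiFiniteAt ξ)])
  have hnn : (0 : WithBot ℕ∞) ≤
      ((Cardinal.toENat (Dual3.resTrdeg g x') : ℕ∞) : WithBot ℕ∞) := by
    rw [← WithBot.coe_zero]
    exact WithBot.coe_le_coe.mpr zero_le
  have h1 : ringKrullDim (X₀.presheaf.stalk x') ≤ ringKrullDim (Y₀.presheaf.stalk (g x')) := by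
    refine (le_add_of_nonneg_right hnn).trans (key.trans ?_)
    simp
  exact h1.trans (Groth.Agent.H6.TD.ringKrullDim_stalk_le _ _)

/-- a surjective morphism of schemes locally of finite type over a field does not lower
dimension. -/
theorem dim_le_of_surjective {Y A : Scheme.{u}} (p : A ⟶ Spec (CommRingCat.of k))
    [LocallyOfFiniteType p] (g : Y ⟶ A) [LocallyOfFiniteType (g ≫ p)]
    (hs : Function.Surjective g.base) :
    topologicalKrullDim A ≤ topologicalKrullDim Y := by
  rw [FibDimTot.dim_eq_iSup_isMaxPt (T := A)]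
  apply iSup_le
  rintro ⟨a, -⟩
  obtain ⟨y, rfl⟩ := hs a
  obtain ⟨t1, ht1, hd1⟩ := ClosureDim.exists_trdeg_eq_dim_closure (g ≫ p) y
  obtain ⟨t2, ht2, hd2⟩ := ClosureDim.exists_trdeg_eq_dim_closure p (g y)
  have hadd := FibDimTot.trdeg_residueField_add p g y
  rw [ht1, ht2] at hadd
  have h : t2 ≤ t1 := by
    have h' : (t2 : Cardinal) ≤ (t1 : Cardinal) := le_of_le_of_eq le_self_add hadd
    exact_mod_cast h'
  refine le_trans ?_ (FibDimTot.dim_closure_le y)
  rw [hd1]
  refine le_trans (le_of_eq hd2) ?_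
  exact_mod_cast h

/-- a dense open subscheme of a scheme of finite type over a field has the same dimension. -/
theorem dim_opens_eq_of_dense [LocallyOfFiniteType f] [QuasiCompact f] (U : X.Opens)
    (hU : Dense (U : Set X)) :
    topologicalKrullDim ↥(U : Scheme.{u}) = topologicalKrullDim X := by
  haveI : IsLocallyNoetherian X := LocallyOfFiniteType.isLocallyNoetherian f
  haveI : CompactSpace X := QuasiCompact.compactSpace_of_compactSpace f
  haveI : IsNoetherian X := {}
  haveI : NoetherianSpace X := inferInstance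
  haveI : NoetherianSpace ↥(U : Scheme.{u}) := U.ι.isEmbedding.isInducing.noetherianSpace
  have hrange : Set.range U.ι = (U : Set X) := Scheme.Opens.range_ι U
  have hdimU : topologicalKrullDim ↥(U : Set X) = topologicalKrullDim ↥(U : Scheme.{u}) := by
    have h := UOVal.dim_range_eq_of_isEmbedding (e := U.ι) U.ι.isEmbedding
    rw [hrange] at h
    exact h
  apply le_antisymm
  · exact U.ι.isEmbedding.isInducing.topologicalKrullDim_le
  · rw [FibDimTot.dim_eq_iSup_isMaxPt (T := X)]
    apply iSup_le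
    rintro ⟨x, hx⟩
    obtain ⟨a, ha⟩ := FibDimTot.exists_eq_of_isMaxPt (e := U.ι) U.ι.continuous
      (by rw [DenseRange, hrange]; exact hU)
      NoetherianSpace.finite_irreducibleComponents x hx
    have hxU : x ∈ (U : Set X) := by
      have h0 : U.ι a ∈ Set.range U.ι := ⟨a, rfl⟩
      rw [hrange, ha] at h0
      exact h0
    have h1 := RelDim.dim_inter_eq_dim f (closure ({x} : Set X)) isIrreducible_singleton.closure
      isClosed_closure U ⟨x, hxU, subset_closure rfl⟩
    show topologicalKrullDim ↥(closure ({x} : Set X)) ≤ _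
    rw [← h1, ← hdimU]
    exact UOVal.dim_mono' Set.inter_subset_left

theorem le_dim_of_surj [LocallyOfFiniteType f] [QuasiCompact f] (n : ℕ) (U : X.Opens)
    (g : (U : Scheme.{u}) ⟶ 𝔸(ULift.{u} (Fin n); Spec (CommRingCat.of k)))
    (hd : Dense (U : Set X))
    (hg : g ≫ (𝔸(ULift.{u} (Fin n); Spec (CommRingCat.of k)) ↘ Spec (CommRingCat.of k)) =
      U.ι ≫ f)
    (hs : Function.Surjective g.base) :
    (n : WithBot ℕ∞) ≤ topologicalKrullDim (X : Type u) := by
  haveI : LocallyOfFiniteType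
      (g ≫ (𝔸(ULift.{u} (Fin n); Spec (CommRingCat.of k)) ↘ Spec (CommRingCat.of k))) := by
    rw [hg]
    infer_instance
  have h1 := dim_le_of_surjective
    (𝔸(ULift.{u} (Fin n); Spec (CommRingCat.of k)) ↘ Spec (CommRingCat.of k)) g hs
  rw [dim_affineSpace k n, dim_opens_eq_of_dense f U hd] at h1
  exact h1

theorem dim_le_of_fin [LocallyOfFiniteType f] [QuasiCompact f] (n : ℕ) (U : X.Opens)
    (g : (U : Scheme.{u}) ⟶ 𝔸(ULift.{u} (Fin n); Spec (CommRingCat.of k)))
    (hd : Dense (U : Set X)) (hfin : IsFinite g) :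
    topologicalKrullDim (X : Type u) ≤ (n : WithBot ℕ∞) := by
  haveI : IsLocallyNoetherian 𝔸(ULift.{u} (Fin n); Spec (CommRingCat.of k)) :=
    LocallyOfFiniteType.isLocallyNoetherian
      (𝔸(ULift.{u} (Fin n); Spec (CommRingCat.of k)) ↘ Spec (CommRingCat.of k))
  have h1 := dim_le_of_isFinite g
  rw [dim_affineSpace k n, dim_opens_eq_of_dense f U hd] at h1
  exact h1

/-- existence of the maps, on a common dense affine open. -/
theorem exists_maps [LocallyOfFiniteType f] [QuasiCompact f] [Nonempty X] :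
    ∃ (U : X.Opens) (s : ℕ), Dense (U : Set X) ∧ ∀ n : ℕ,
      ∃ g : (U : Scheme.{u}) ⟶ 𝔸(ULift.{u} (Fin n); Spec (CommRingCat.of k)),
        g ≫ (𝔸(ULift.{u} (Fin n); Spec (CommRingCat.of k)) ↘ Spec (CommRingCat.of k)) =
            U.ι ≫ f ∧
          (s ≤ n → IsFinite g) ∧ (n ≤ s → Function.Surjective g.base) := by
  haveI : IsLocallyNoetherian X := LocallyOfFiniteType.isLocallyNoetherian f
  haveI : CompactSpace X := QuasiCompact.compactSpace_of_compactSpace f
  haveI : IsNoetherian X := {}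
  obtain ⟨U, hU, -, hC⟩ := AffStratDim.exists_dense_affine (X := X)
  have hd : Dense (U : Set X) := dense_of_meets_components (U : Set X) U.2 hC
  haveI : Nonempty ↥(U : Scheme.{u}) := hd.nonempty.to_subtype
  haveI : Nontrivial Γ(X, U) := Scheme.component_nontrivial X U
  letI : Algebra k Γ(X, U) := (structHom f hU).hom.toAlgebra
  haveI : Algebra.FiniteType k Γ(X, U) := finiteType_structHom f hU
  obtain ⟨s, hs⟩ := exists_noether k Γ(X, U)
  refine ⟨U, s, hd, fun n => ?_⟩
  obtain ⟨ψ, hψC, hψf, hψs⟩ := hs n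
  exact ⟨toAff hU n ψ, toAff_over f hU n ψ hψC, fun h => isFinite_toAff hU n ψ (hψf h),
    fun h => surjective_toAff hU n ψ (hψs h)⟩

end Sch

/-- **S3430.** -/
theorem main (k : Type u) [Field k] {X : Scheme.{u}}
    (f : X ⟶ Spec (CommRingCat.of k)) [LocallyOfFiniteType f] [QuasiCompact f] (n : ℕ) :
    ((n : WithBot ℕ∞) ≤ topologicalKrullDim (X : Type u) ↔
      ∃ (U : X.Opens) (g : (U : Scheme.{u}) ⟶ 𝔸(ULift.{u} (Fin n); Spec (CommRingCat.of k))),
        Dense (U : Set X) ∧ g ≫ (𝔸(ULift.{u} (Fin n); Spec (CommRingCat.of k)) ↘ Spec (CommRingCat.of k)) = U.ι ≫ f ∧ Function.Surjective g.base) ∧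
    (topologicalKrullDim (X : Type u) ≤ n ↔
      ∃ (U : X.Opens) (g : (U : Scheme.{u}) ⟶ 𝔸(ULift.{u} (Fin n); Spec (CommRingCat.of k))),
        Dense (U : Set X) ∧ g ≫ (𝔸(ULift.{u} (Fin n); Spec (CommRingCat.of k)) ↘ Spec (CommRingCat.of k)) = U.ι ≫ f ∧ IsFinite g) ∧
    (topologicalKrullDim (X : Type u) = n ↔
      ∃ (U : X.Opens) (g : (U : Scheme.{u}) ⟶ 𝔸(ULift.{u} (Fin n); Spec (CommRingCat.of k))),
        Dense (U : Set X) ∧ g ≫ (𝔸(ULift.{u} (Fin n); Spec (CommRingCat.of k)) ↘ Spec (CommRingCat.of k)) = U.ι ≫ f ∧ IsFinite g ∧ Function.Surjective g.base) := by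
  have hA : ∀ (U' : X.Opens)
      (g' : (U' : Scheme.{u}) ⟶ 𝔸(ULift.{u} (Fin n); Spec (CommRingCat.of k))),
      Dense (U' : Set X) →
      g' ≫ (𝔸(ULift.{u} (Fin n); Spec (CommRingCat.of k)) ↘ Spec (CommRingCat.of k)) = U'.ι ≫ f →
      Function.Surjective g'.base → (n : WithBot ℕ∞) ≤ topologicalKrullDim (X : Type u) :=
    fun U' g' hd' hg' hs' => le_dim_of_surj f n U' g' hd' hg' hs'
  have hB : ∀ (U' : X.Opens)
      (g' : (U' : Scheme.{u}) ⟶ 𝔸(ULift.{u} (Fin n); Spec (CommRingCat.of k))),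
      Dense (U' : Set X) → IsFinite g' → topologicalKrullDim (X : Type u) ≤ (n : WithBot ℕ∞) :=
    fun U' g' hd' hf' => dim_le_of_fin f n U' g' hd' hf'
  refine ⟨⟨fun h => ?_, fun ⟨U', g', hd', hg', hs'⟩ => hA U' g' hd' hg' hs'⟩,
    ⟨fun h => ?_, fun ⟨U', g', hd', _, hf'⟩ => hB U' g' hd' hf'⟩,
    ⟨fun h => ?_, fun ⟨U', g', hd', hg', hf', hs'⟩ =>
      le_antisymm (hB U' g' hd' hf') (hA U' g' hd' hg' hs')⟩⟩
  · by_cases hX : Nonempty X
    · obtain ⟨U, s, hd, H⟩ := exists_maps f
      have hdim : topologicalKrullDim (X : Type u) = (s : WithBot ℕ∞) := by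
        obtain ⟨g, hg, hfin, hsurj⟩ := H s
        exact le_antisymm (dim_le_of_fin f s U g hd (hfin le_rfl))
          (le_dim_of_surj f s U g hd hg (hsurj le_rfl))
      rw [hdim] at h
      have hns : n ≤ s := by exact_mod_cast h
      obtain ⟨g, hg, -, hsurj⟩ := H n
      exact ⟨U, g, hd, hg, hsurj hns⟩
    · haveI : IsEmpty X := not_nonempty_iff.mp hX
      have hdim : topologicalKrullDim (X : Type u) = ⊥ := dim_eq_bot_of_isEmpty
      rw [hdim] at h
      exact absurd (le_bot_iff.mp h) (WithBot.natCast_ne_bot n)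
  · by_cases hX : Nonempty X
    · obtain ⟨U, s, hd, H⟩ := exists_maps f
      have hdim : topologicalKrullDim (X : Type u) = (s : WithBot ℕ∞) := by
        obtain ⟨g, hg, hfin, hsurj⟩ := H s
        exact le_antisymm (dim_le_of_fin f s U g hd (hfin le_rfl))
          (le_dim_of_surj f s U g hd hg (hsurj le_rfl))
      rw [hdim] at h
      have hsn : s ≤ n := by exact_mod_cast h
      obtain ⟨g, hg, hfin, -⟩ := H n
      exact ⟨U, g, hd, hg, hfin hsn⟩
    · haveI : IsEmpty X := not_nonempty_iff.mp hX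
      haveI : IsEmpty ↥((⊥ : X.Opens) : Scheme.{u}) :=
        ⟨fun a => isEmptyElim ((⊥ : X.Opens).ι a)⟩
      exact ⟨⊥, AffineSpace.homOfVector ((⊥ : X.Opens).ι ≫ f) (fun _ => 0),
        fun x => isEmptyElim x, AffineSpace.homOfVector_over _ _, inferInstance⟩
  · by_cases hX : Nonempty X
    · obtain ⟨U, s, hd, H⟩ := exists_maps f
      have hdim : topologicalKrullDim (X : Type u) = (s : WithBot ℕ∞) := by
        obtain ⟨g, hg, hfin, hsurj⟩ := H s
        exact le_antisymm (dim_le_of_fin f s U g hd (hfin le_rfl))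
          (le_dim_of_surj f s U g hd hg (hsurj le_rfl))
      rw [hdim] at h
      have hsn : s = n := by exact_mod_cast h
      obtain ⟨g, hg, hfin, hsurj⟩ := H n
      exact ⟨U, g, hd, hg, hfin hsn.le, hsurj hsn.ge⟩
    · haveI : IsEmpty X := not_nonempty_iff.mp hX
      have hdim : topologicalKrullDim (X : Type u) = ⊥ := dim_eq_bot_of_isEmpty
      rw [hdim] at h
      exact absurd h.symm (WithBot.natCast_ne_bot n)

end Groth.Agent.H1.NoethNormSch
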