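import Mathlib
import Groth.Prelude.Def_AlgGrp
import Groth.Prelude.Def_Curv2
import Groth.Agent.Lib.Helper9.AlgGrpAct
import Groth.Agent.Lib.Helper6.NormVar

/-! Lifting an action to the normalization: the action square is cartesian and the kernels agree
(S14648) (helper1). -/

set_option autoImplicit false
set_option linter.style.haveILetI false
universe u

namespace Groth.Agent.H1.NormAct

open CategoryTheory CategoryTheory.Limits MonoidalCategory CartesianMonoidalCategory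
  AlgebraicGeometry MonObj

open Groth.Agent.H9.AlgGrpAct

/-- two morphisms into a separated target that agree after a scheme-theoretically dominant map are
equal -/
lemma ext_of_schDom {W X Y Z : Scheme.{u}} {f g : X ⟶ Y}
    (s : Y ⟶ Z) [IsSeparated s] (h : f ≫ s = g ≫ s)
    (i : W ⟶ X) [IsSchemeTheoreticallyDominant i] (hU : i ≫ f = i ≫ g) : f = g := by
  let X' : Over Z := Over.mk (f ≫ s)
  let Y' : Over Z := Over.mk s
  let U' : Over Z := Over.mk (i ≫ f ≫ s)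
  let f' : X' ⟶ Y' := Over.homMk f
  let g' : X' ⟶ Y' := Over.homMk g
  let i' : U' ⟶ X' := Over.homMk i
  have : IsSeparated Y'.hom := ‹_›
  have hcond : i' ≫ f' = i' ≫ g' := by ext1; exact hU
  have hfac : (equalizer.lift i' hcond).left ≫ (equalizer.ι f' g').left = i := by
    rw [← Over.comp_left, equalizer.lift_ι]
    rfl
  have hker : (equalizer.ι f' g').left.ker = ⊥ := by
    have h1 := Scheme.Hom.le_ker_comp (equalizer.lift i' hcond).left (equalizer.ι f' g').left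
    rw [hfac, i.ker_eq_bot] at h1
    exact le_bot_iff.mp h1
  have hiso : IsIso (equalizer.ι f' g').left := IsClosedImmersion.isIso_iff_ker_eq_bot.mpr hker
  rw [← cancel_epi (equalizer.ι f' g').left]
  exact congr($(equalizer.condition f' g').left)

variable {S : Scheme.{u}}

lemma triv_iff_univ {G X : Over S} [GrpObj G] (a : AlgGrp.Action G X) {T : Over S} (g : T ⟶ G) :
    (∀ (T' : Over S) (s : T' ⟶ T) (x : T' ⟶ X), lift (s ≫ g) x ≫ a.act = x) ↔
      (g ▷ X) ≫ a.act = snd T X := by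
  constructor
  · intro h
    have h1 := h (T ⊗ X) (fst T X) (snd T X)
    have h2 : g ▷ X = lift (fst T X ≫ g) (snd T X) := by
      apply CartesianMonoidalCategory.hom_ext
      · rw [whiskerRight_fst, lift_fst]
      · rw [whiskerRight_snd, lift_snd]
    rw [h2]; exact h1
  · intro h T' s x
    have h2 : lift (s ≫ g) x = lift s x ≫ (g ▷ X) := by
      rw [lift_whiskerRight]
    rw [h2, Category.assoc, h, lift_snd]

lemma isPullback_snd_whiskerLeft (M : Over S) {Y X : Over S} (ν : Y ⟶ X) :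
    IsPullback (snd M Y) (M ◁ ν) ν (snd M X) := by
  have w : snd M Y ≫ ν = (M ◁ ν) ≫ snd M X := by rw [whiskerLeft_snd]
  exact IsPullback.of_map (Over.forget S) w (isPullback_whiskerLeft M ν).flip

lemma isPullback_act {G X Y : Over S} [GrpObj G] (a : AlgGrp.Action G X) (b : AlgGrp.Action G Y)
    (ν : Y ⟶ X) (hb : (G ◁ ν) ≫ a.act = b.act ≫ ν) :
    IsPullback b.act (G ◁ ν) ν a.act := by
  have hsq : shear b ≫ (G ◁ ν) = (G ◁ ν) ≫ shear a := by
    apply CartesianMonoidalCategory.hom_ext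
    · calc (shear b ≫ (G ◁ ν)) ≫ fst G X = shear b ≫ ((G ◁ ν) ≫ fst G X) := Category.assoc _ _ _
        _ = shear b ≫ fst G Y := by rw [whiskerLeft_fst]
        _ = fst G Y := shear_fst b
        _ = (G ◁ ν) ≫ fst G X := by rw [whiskerLeft_fst]
        _ = (G ◁ ν) ≫ (shear a ≫ fst G X) := by rw [shear_fst]
        _ = ((G ◁ ν) ≫ shear a) ≫ fst G X := (Category.assoc _ _ _).symm
    · calc (shear b ≫ (G ◁ ν)) ≫ snd G X = shear b ≫ ((G ◁ ν) ≫ snd G X) := Category.assoc _ _ _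
        _ = shear b ≫ (snd G Y ≫ ν) := by rw [whiskerLeft_snd]
        _ = (shear b ≫ snd G Y) ≫ ν := (Category.assoc _ _ _).symm
        _ = b.act ≫ ν := by rw [shear_snd]
        _ = (G ◁ ν) ≫ a.act := hb.symm
        _ = (G ◁ ν) ≫ (shear a ≫ snd G X) := by rw [shear_snd]
        _ = ((G ◁ ν) ≫ shear a) ≫ snd G X := (Category.assoc _ _ _).symm
  have h1 : IsPullback (shear b) (G ◁ ν) (G ◁ ν) (shear a) := IsPullback.of_horiz_isIso ⟨hsq⟩
  have h2 := h1.paste_horiz (isPullback_snd_whiskerLeft G ν)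
  rw [shear_snd, shear_snd] at h2
  exact h2

/-- if `g` acts trivially upstairs then it acts trivially downstairs -/
lemma triv_of_triv_cover {G X Y : Over S} [GrpObj G] (a : AlgGrp.Action G X)
    (b : AlgGrp.Action G Y) (ν : Y ⟶ X) (hb : (G ◁ ν) ≫ a.act = b.act ≫ ν)
    (hsep : IsSeparated X.hom)
    (hsd : IsSchemeTheoreticallyDominant ν.left) (hqc : QuasiCompact ν.left)
    {T : Over S} [Flat T.hom] (g : T ⟶ G)
    (h : (g ▷ Y) ≫ b.act = snd T Y) : (g ▷ X) ≫ a.act = snd T X := by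
  haveI := hsep
  haveI := hsd
  haveI := hqc
  have hflat : Flat (snd T X).left := by
    change Flat (pullback.snd T.hom X.hom)
    infer_instance
  have hpb : IsPullback (snd T Y).left (T ◁ ν).left ν.left (snd T X).left :=
    (isPullback_whiskerLeft T ν).flip
  haveI : IsSchemeTheoreticallyDominant (T ◁ ν).left :=
    IsSchemeTheoreticallyDominant.of_isPullback hpb
  have hcomp : (T ◁ ν) ≫ ((g ▷ X) ≫ a.act) = (T ◁ ν) ≫ snd T X := by
    calc (T ◁ ν) ≫ ((g ▷ X) ≫ a.act) = ((T ◁ ν) ≫ (g ▷ X)) ≫ a.act :=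
          (Category.assoc _ _ _).symm
      _ = ((g ▷ Y) ≫ (G ◁ ν)) ≫ a.act := by rw [whisker_exchange]
      _ = (g ▷ Y) ≫ ((G ◁ ν) ≫ a.act) := Category.assoc _ _ _
      _ = (g ▷ Y) ≫ (b.act ≫ ν) := by rw [hb]
      _ = ((g ▷ Y) ≫ b.act) ≫ ν := (Category.assoc _ _ _).symm
      _ = snd T Y ≫ ν := by rw [h]
      _ = (T ◁ ν) ≫ snd T X := by rw [whiskerLeft_snd]
  apply Over.OverMorphism.ext
  refine ext_of_schDom X.hom ?_ (T ◁ ν).left ?_
  · rw [Over.w, Over.w]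
  · rw [← Over.comp_left, ← Over.comp_left, hcomp]

/-- if `g` acts trivially downstairs then it acts trivially upstairs, when `ν` is an isomorphism
over a dense open -/
lemma triv_cover_of_triv {G X Y : Over S} [GrpObj G] (a : AlgGrp.Action G X)
    (b : AlgGrp.Action G Y) (ν : Y ⟶ X) (hb : (G ◁ ν) ≫ a.act = b.act ≫ ν)
    (hsep : IsSeparated Y.hom) (hred : IsReduced Y.left) (hirr : IrreducibleSpace Y.left)
    (hnoe : IsLocallyNoetherian Y.left)
    (V : X.left.Opens) (hne : ((ν.left ⁻¹ᵁ V : Y.left.Opens) : Set Y.left).Nonempty)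
    (hiso : IsIso (ν.left ∣_ V))
    {T : Over S} [Flat T.hom] (g : T ⟶ G)
    (h : (g ▷ X) ≫ a.act = snd T X) : (g ▷ Y) ≫ b.act = snd T Y := by
  haveI := hsep
  haveI := hred
  haveI := hirr
  haveI := hnoe
  haveI := hiso
  have huv : ((g ▷ Y) ≫ b.act) ≫ ν = snd T Y ≫ ν := by
    calc ((g ▷ Y) ≫ b.act) ≫ ν = (g ▷ Y) ≫ (b.act ≫ ν) := Category.assoc _ _ _
      _ = (g ▷ Y) ≫ ((G ◁ ν) ≫ a.act) := by rw [hb]
      _ = ((g ▷ Y) ≫ (G ◁ ν)) ≫ a.act := (Category.assoc _ _ _).symm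
      _ = ((T ◁ ν) ≫ (g ▷ X)) ≫ a.act := by rw [whisker_exchange]
      _ = (T ◁ ν) ≫ ((g ▷ X) ≫ a.act) := Category.assoc _ _ _
      _ = (T ◁ ν) ≫ snd T X := by rw [h]
      _ = snd T Y ≫ ν := by rw [whiskerLeft_snd]
  have huvL : ((g ▷ Y) ≫ b.act).left ≫ ν.left = (snd T Y).left ≫ ν.left := by
    rw [← Over.comp_left, ← Over.comp_left, huv]
  have hWu : (snd T Y).left ⁻¹ᵁ (ν.left ⁻¹ᵁ V) = ((g ▷ Y) ≫ b.act).left ⁻¹ᵁ (ν.left ⁻¹ᵁ V) := by
    rw [← Scheme.Hom.comp_preimage, ← Scheme.Hom.comp_preimage, huvL]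
  have hu' : ((g ▷ Y) ≫ b.act).left.resLE (ν.left ⁻¹ᵁ V)
      ((snd T Y).left ⁻¹ᵁ (ν.left ⁻¹ᵁ V)) hWu.le ≫ (ν.left ⁻¹ᵁ V).ι =
      ((snd T Y).left ⁻¹ᵁ (ν.left ⁻¹ᵁ V)).ι ≫ ((g ▷ Y) ≫ b.act).left :=
    Scheme.Hom.resLE_comp_ι _ _
  have hv' : (snd T Y).left.resLE (ν.left ⁻¹ᵁ V)
      ((snd T Y).left ⁻¹ᵁ (ν.left ⁻¹ᵁ V)) le_rfl ≫ (ν.left ⁻¹ᵁ V).ι =
      ((snd T Y).left ⁻¹ᵁ (ν.left ⁻¹ᵁ V)).ι ≫ (snd T Y).left :=
    Scheme.Hom.resLE_comp_ι _ _
  have hrestr : (ν.left ⁻¹ᵁ V).ι ≫ ν.left = (ν.left ∣_ V) ≫ V.ι :=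
    (morphismRestrict_ι ν.left V).symm
  have heq : ((g ▷ Y) ≫ b.act).left.resLE (ν.left ⁻¹ᵁ V)
      ((snd T Y).left ⁻¹ᵁ (ν.left ⁻¹ᵁ V)) hWu.le =
      (snd T Y).left.resLE (ν.left ⁻¹ᵁ V) ((snd T Y).left ⁻¹ᵁ (ν.left ⁻¹ᵁ V)) le_rfl := by
    have h3 : (((g ▷ Y) ≫ b.act).left.resLE (ν.left ⁻¹ᵁ V)
        ((snd T Y).left ⁻¹ᵁ (ν.left ⁻¹ᵁ V)) hWu.le ≫ (ν.left ∣_ V)) ≫ V.ι =
        ((snd T Y).left.resLE (ν.left ⁻¹ᵁ V) ((snd T Y).left ⁻¹ᵁ (ν.left ⁻¹ᵁ V)) le_rfl ≫
          (ν.left ∣_ V)) ≫ V.ι := by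
      rw [Category.assoc, Category.assoc, ← hrestr, ← Category.assoc, ← Category.assoc, hu', hv',
        Category.assoc, Category.assoc, huvL]
    exact (cancel_mono (ν.left ∣_ V)).mp ((cancel_mono V.ι).mp h3)
  have hWeq : ((snd T Y).left ⁻¹ᵁ (ν.left ⁻¹ᵁ V)).ι ≫ ((g ▷ Y) ≫ b.act).left =
      ((snd T Y).left ⁻¹ᵁ (ν.left ⁻¹ᵁ V)).ι ≫ (snd T Y).left := by
    rw [← hu', ← hv', heq]
  have hflat : Flat (snd T Y).left := by
    change Flat (pullback.snd T.hom Y.hom)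
    infer_instance
  haveI : IsDominant (ν.left ⁻¹ᵁ V).ι := by
    rw [isDominant_iff, DenseRange, Scheme.Opens.range_ι]
    exact (ν.left ⁻¹ᵁ V).isOpen.dense hne
  haveI : IsSchemeTheoreticallyDominant (ν.left ⁻¹ᵁ V).ι :=
    IsSchemeTheoreticallyDominant.of_isDominant _
  have hpb := isPullback_morphismRestrict (snd T Y).left (ν.left ⁻¹ᵁ V)
  haveI : IsSchemeTheoreticallyDominant ((snd T Y).left ⁻¹ᵁ (ν.left ⁻¹ᵁ V)).ι :=
    IsSchemeTheoreticallyDominant.of_isPullback hpb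
  apply Over.OverMorphism.ext
  refine ext_of_schDom Y.hom ?_ ((snd T Y).left ⁻¹ᵁ (ν.left ⁻¹ᵁ V)).ι hWeq
  rw [Over.w, Over.w]

theorem main (k : Type u) [Field k]
    (G X : Over (Spec (CommRingCat.of k))) [GrpObj G]
    [IsSeparated X.hom] [LocallyOfFiniteType X.hom] [IsIntegral X.left]
    [QuasiCompact (X.left.fromSpecStalk (genericPoint ↥X.left))]
    [QuasiSeparated (X.left.fromSpecStalk (genericPoint ↥X.left))]
    (a : AlgGrp.Action G X) (b : AlgGrp.Action G (Over.mk (Curv2.normalizationι X.left ≫ X.hom)))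
    (hb : (G ◁ (Over.homMk (Curv2.normalizationι X.left) rfl :
      Over.mk (Curv2.normalizationι X.left ≫ X.hom) ⟶ X)) ≫ a.act =
        b.act ≫ Over.homMk (Curv2.normalizationι X.left) rfl) :
    IsPullback b.act (G ◁ (Over.homMk (Curv2.normalizationι X.left) rfl :
        Over.mk (Curv2.normalizationι X.left ≫ X.hom) ⟶ X))
      (Over.homMk (Curv2.normalizationι X.left) rfl :
        Over.mk (Curv2.normalizationι X.left ≫ X.hom) ⟶ X) a.act ∧
    ∀ (T : Over (Spec (CommRingCat.of k))) (g : T ⟶ G),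
      (∀ (T' : Over (Spec (CommRingCat.of k))) (s : T' ⟶ T) (x : T' ⟶ X),
        lift (s ≫ g) x ≫ a.act = x) ↔
      (∀ (T' : Over (Spec (CommRingCat.of k))) (s : T' ⟶ T)
        (y : T' ⟶ Over.mk (Curv2.normalizationι X.left ≫ X.hom)),
        lift (s ≫ g) y ≫ b.act = y) := by
  obtain ⟨hfin, hdom, ⟨V, hVne, hViso⟩, hint, -⟩ :=
    @Groth.Agent.H6.NormVar.s1585 k _ X.left ⟨X.hom⟩ _
      (inferInstanceAs (LocallyOfFiniteType X.hom)) _ _
  refine ⟨isPullback_act a b _ hb, fun T g => ?_⟩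
  rw [triv_iff_univ a g, triv_iff_univ b g]
  haveI : Flat T.hom := inferInstance
  have hsepY : IsSeparated (Curv2.normalizationι X.left ≫ X.hom) := inferInstance
  have hlftY : LocallyOfFiniteType (Curv2.normalizationι X.left ≫ X.hom) := inferInstance
  have hnoe : IsLocallyNoetherian (Curv2.normalization X.left) :=
    LocallyOfFiniteType.isLocallyNoetherian (Curv2.normalizationι X.left ≫ X.hom)
  have hred : IsReduced (Curv2.normalization X.left) := inferInstance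
  have hirr : IrreducibleSpace (Curv2.normalization X.left) := inferInstance
  have hsd : IsSchemeTheoreticallyDominant (Curv2.normalizationι X.left) :=
    IsSchemeTheoreticallyDominant.of_isDominant _
  have hqc : QuasiCompact (Curv2.normalizationι X.left) := inferInstance
  have hne : ((Curv2.normalizationι X.left ⁻¹ᵁ V : (Curv2.normalization X.left).Opens) :
      Set (Curv2.normalization X.left)).Nonempty := by
    obtain ⟨v, hv⟩ := hVne
    obtain ⟨_, hv', ⟨x, rfl⟩⟩ := (dense_iff_inter_open.mp hdom.1) V V.isOpen ⟨v, hv⟩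
    exact ⟨x, hv'⟩
  constructor
  · intro h
    exact triv_cover_of_triv a b _ hb hsepY hred hirr hnoe V hne hViso g h
  · intro h
    exact triv_of_triv_cover a b _ hb inferInstance hsd hqc g h

end Groth.Agent.H1.NormAct
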