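import Mathlib
import Groth.Agent.Lib.Helper1.GrpImg
import Groth.Agent.Lib.Helper6.NormVar

/-! Almost homogeneity passes to and from a birational cover which is an isomorphism over a dense
open (S14636) (helper1). -/

set_option autoImplicit false
set_option linter.style.haveILetI false
universe u

namespace Groth.Agent.H1.NormDom

open CategoryTheory CategoryTheory.Limits MonoidalCategory CartesianMonoidalCategory
  AlgebraicGeometry

variable {k : Type u} [Field k]

set_option maxHeartbeats 800000 in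
theorem core (G X Xt : Over (Spec (CommRingCat.of k))) (νO : Xt ⟶ X)
    [IsIntegral X.left] [IsIntegral Xt.left] [hdom : IsDominant νO.left]
    (V : X.left.Opens) (hVne : (V : Set X.left).Nonempty) [hiso : IsIso (νO.left ∣_ V)]
    (actX : G ⊗ X ⟶ X) (actXt : G ⊗ Xt ⟶ Xt)
    (hb : (G ◁ νO) ≫ actX = actXt ≫ νO) :
    IsDominant (lift (snd G X) actX).left ↔ IsDominant (lift (snd G Xt) actXt).left := by
  have hsq : lift (snd G Xt) actXt ≫ (νO ⊗ₘ νO) = (G ◁ νO) ≫ lift (snd G X) actX := by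
    apply CartesianMonoidalCategory.hom_ext
    · simp
    · simp [hb]
  have hsqL : (lift (snd G Xt) actXt).left ≫ (νO ⊗ₘ νO).left =
      (G ◁ νO).left ≫ (lift (snd G X) actX).left := by
    rw [← Over.comp_left, ← Over.comp_left, hsq]
  constructor
  · intro hΓ
    refine ⟨?_⟩
    -- the rational section
    let VO : Over (Spec (CommRingCat.of k)) := Over.mk (V.ι ≫ X.hom)
    let jV : VO ⟶ X := Over.homMk V.ι rfl
    let s0 : (V : Scheme.{u}) ⟶ Xt.left := inv (νO.left ∣_ V) ≫ (νO.left ⁻¹ᵁ V).ι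
    have hs0 : s0 ≫ νO.left = V.ι := by
      simp only [s0, Category.assoc]
      rw [← morphismRestrict_ι, IsIso.inv_hom_id_assoc]
    have hs0X : s0 ≫ Xt.hom = V.ι ≫ X.hom := by
      rw [← Over.w νO, ← Category.assoc, hs0]
    let s : VO ⟶ Xt := Over.homMk s0 hs0X
    have hsν : s ≫ νO = jV := by
      apply Over.OverMorphism.ext
      exact hs0
    have hrange_s : ∀ x : Xt.left, νO.left x ∈ V → x ∈ Set.range s.left := by
      intro x hx
      refine ⟨(νO.left ∣_ V) ⟨x, hx⟩, ?_⟩
      show s0 _ = x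
      simp only [s0]
      rw [← Scheme.Hom.comp_apply, IsIso.hom_inv_id_assoc]
      rfl
    have hsd : DenseRange s.left := by
      have hne : (νO.left ⁻¹' (V : Set X.left)).Nonempty := by
        obtain ⟨v, hv⟩ := hVne
        obtain ⟨_, hv', ⟨x, rfl⟩⟩ := (dense_iff_inter_open.mp hdom.1) V V.isOpen ⟨v, hv⟩
        exact ⟨x, hv'⟩
      have hop : IsOpen (νO.left ⁻¹' (V : Set X.left)) := V.isOpen.preimage νO.left.continuous
      have hd : Dense (νO.left ⁻¹' (V : Set X.left)) := hop.dense hne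
      exact hd.mono (fun x hx => hrange_s x hx)
    have hjd : DenseRange jV.left := by
      have hd : Dense (V : Set X.left) := V.isOpen.dense hVne
      refine hd.mono ?_
      intro x hx
      exact ⟨⟨x, hx⟩, rfl⟩
    have hGj : DenseRange (G ◁ jV).left := by
      have hid : DenseRange (𝟙 G : G ⟶ G).left := fun x => subset_closure ⟨x, by simp⟩
      have := Groth.Agent.H1.GrpImg.denseRange_tensorHom (𝟙 G) jV hid hjd
      rwa [MonoidalCategory.id_tensorHom] at this
    have hss : DenseRange (s ⊗ₘ s).left :=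
      Groth.Agent.H1.GrpImg.denseRange_tensorHom s s hsd hsd
    haveI : IsOpenImmersion jV.left := by
      show IsOpenImmersion V.ι
      infer_instance
    haveI hjj : IsOpenImmersion (jV ⊗ₘ jV).left := by
      rw [Over.tensorHom_left]
      exact MorphismProperty.pullbackMap (P := @IsOpenImmersion) ‹_› ‹_› (Over.w jV).symm
        (Over.w jV).symm
    have e1 : (G ◁ s).left ≫ (lift (snd G Xt) actXt).left ≫ (νO ⊗ₘ νO).left =
        (G ◁ jV).left ≫ (lift (snd G X) actX).left := by
      rw [hsqL, ← Category.assoc, ← Over.comp_left, ← MonoidalCategory.whiskerLeft_comp, hsν]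
    have e3 : (s ⊗ₘ s).left ≫ (νO ⊗ₘ νO).left = (jV ⊗ₘ jV).left := by
      rw [← Over.comp_left, MonoidalCategory.tensorHom_comp_tensorHom, hsν]
    have h1 : (fst Xt Xt).left ≫ νO.left = (νO ⊗ₘ νO).left ≫ (fst X X).left := by
      rw [← Over.comp_left, ← Over.comp_left, tensorHom_fst]
    have h1' : (snd Xt Xt).left ≫ νO.left = (νO ⊗ₘ νO).left ≫ (snd X X).left := by
      rw [← Over.comp_left, ← Over.comp_left, tensorHom_snd]
    have h2 : (jV ⊗ₘ jV).left ≫ (fst X X).left = (fst VO VO).left ≫ jV.left := by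
      rw [← Over.comp_left, ← Over.comp_left, tensorHom_fst]
    have h2' : (jV ⊗ₘ jV).left ≫ (snd X X).left = (snd VO VO).left ≫ jV.left := by
      rw [← Over.comp_left, ← Over.comp_left, tensorHom_snd]
    have hjVmem : ∀ p : VO.left, jV.left p ∈ V := by
      intro p
      have : jV.left p ∈ Set.range V.ι := ⟨p, rfl⟩
      rw [Scheme.Opens.range_ι] at this
      exact this
    rw [DenseRange, dense_iff_inter_open]
    intro O hO hOne
    obtain ⟨_, hw₀O, ⟨w₀, rfl⟩⟩ := dense_iff_inter_open.mp hss O hO hOne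
    have hO' : IsOpen ((s ⊗ₘ s).left ⁻¹' O) := hO.preimage (s ⊗ₘ s).left.continuous
    have hO'' : IsOpen ((jV ⊗ₘ jV).left '' ((s ⊗ₘ s).left ⁻¹' O)) :=
      (jV ⊗ₘ jV).left.isOpenEmbedding.isOpenMap _ hO'
    have hO''ne : ((jV ⊗ₘ jV).left '' ((s ⊗ₘ s).left ⁻¹' O)).Nonempty :=
      ⟨_, ⟨w₀, hw₀O, rfl⟩⟩
    have hcomp : DenseRange ((lift (snd G X) actX).left ∘ (G ◁ jV).left) :=
      hΓ.1.comp hGj (lift (snd G X) actX).left.continuous
    obtain ⟨_, ⟨w, hwO', hw⟩, ⟨z₀, rfl⟩⟩ := dense_iff_inter_open.mp hcomp _ hO'' hO''ne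
    -- the candidate point
    have e2 : (νO ⊗ₘ νO).left ((lift (snd G Xt) actXt).left ((G ◁ s).left z₀)) =
        (jV ⊗ₘ jV).left w := by
      have := congrArg (fun f : (G ⊗ VO).left ⟶ (X ⊗ X).left => f z₀) e1
      simp only [Scheme.Hom.comp_apply] at this
      rw [this, hw]
      rfl
    have hA1 : νO.left ((fst Xt Xt).left ((lift (snd G Xt) actXt).left ((G ◁ s).left z₀))) ∈ V := by
      rw [← Scheme.Hom.comp_apply, h1, Scheme.Hom.comp_apply, e2, ← Scheme.Hom.comp_apply, h2,
        Scheme.Hom.comp_apply]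
      exact hjVmem _
    have hA2 : νO.left ((snd Xt Xt).left ((lift (snd G Xt) actXt).left ((G ◁ s).left z₀))) ∈ V := by
      rw [← Scheme.Hom.comp_apply, h1', Scheme.Hom.comp_apply, e2, ← Scheme.Hom.comp_apply, h2',
        Scheme.Hom.comp_apply]
      exact hjVmem _
    have hA : (lift (snd G Xt) actXt).left ((G ◁ s).left z₀) ∈ Set.range (s ⊗ₘ s).left := by
      rw [Over.tensorHom_left, Scheme.Pullback.range_map]
      exact ⟨hrange_s _ hA1, hrange_s _ hA2⟩
    obtain ⟨w', hw'⟩ := hA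
    have hjw : (jV ⊗ₘ jV).left w' = (jV ⊗ₘ jV).left w := by
      have h3 : (jV ⊗ₘ jV).left w' = (νO ⊗ₘ νO).left ((s ⊗ₘ s).left w') := by
        rw [← Scheme.Hom.comp_apply, e3]
      rw [h3, hw', e2]
    have hww : w' = w := (jV ⊗ₘ jV).left.isOpenEmbedding.injective hjw
    refine ⟨(lift (snd G Xt) actXt).left ((G ◁ s).left z₀), ?_, ⟨_, rfl⟩⟩
    rw [← hw', hww]
    exact hwO'
  · intro hΓt
    haveI : IsDominant (νO ⊗ₘ νO).left :=
      ⟨Groth.Agent.H1.GrpImg.denseRange_tensorHom νO νO hdom.1 hdom.1⟩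
    haveI : IsDominant ((G ◁ νO).left ≫ (lift (snd G X) actX).left) := by
      rw [← hsqL]; infer_instance
    exact IsDominant.of_comp (G ◁ νO).left (lift (snd G X) actX).left

end Groth.Agent.H1.NormDom
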