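import Mathlib
import Groth.Statements.S15384
import Groth.Prelude.Def_GmPts

set_option autoImplicit false
universe u

open CategoryTheory CategoryTheory.Limits AlgebraicGeometry Opposite

namespace Groth.Agent.H1.NormEx

section Alg

open TensorProduct

theorem norm_isPushout {R R' S S' : Type u} [CommRing R] [CommRing R'] [CommRing S] [CommRing S']
    [Algebra R R'] [Algebra R S] [Algebra R' S'] [Algebra S S'] [Algebra R S']
    [IsScalarTower R R' S'] [IsScalarTower R S S'] [Algebra.IsPushout R R' S S']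
    [Module.Free R S] [Module.Finite R S] (s : S) :
    Algebra.norm R' (algebraMap S S' s) = algebraMap R R' (Algebra.norm R s) := by
  have h1 : algebraMap S S' s = Algebra.IsPushout.equiv R R' S S' (1 ⊗ₜ s) := by
    rw [Algebra.IsPushout.equiv_tmul, map_one, one_mul]
  rw [h1, Algebra.norm_eq_of_algEquiv, Algebra.norm_apply, ← Algebra.baseChange_lmul,
    LinearMap.det_baseChange]
  rfl

theorem free_of_away {A : Type u} [CommRing A] {B : Type u} [AddCommGroup B] [Module A B] (r : A)
    [Module.Free (Localization.Away r) (LocalizedModule.Away r B)]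
    (C : Type u) [CommRing C] [Algebra A C] (hr : IsUnit (algebraMap A C r)) :
    Module.Free C (C ⊗[A] B) := by
  letI alg : Algebra (Localization.Away r) C := (IsLocalization.Away.lift r hr).toAlgebra
  haveI : IsScalarTower A (Localization.Away r) C :=
    IsScalarTower.of_algebraMap_eq' (IsLocalization.Away.lift_comp r hr).symm
  have e0 : Localization.Away r ⊗[A] B ≃ₗ[Localization.Away r] LocalizedModule.Away r B :=
    (IsLocalizedModule.isBaseChange (Submonoid.powers r) (Localization.Away r)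
      (LocalizedModule.mkLinearMap (Submonoid.powers r) B)).equiv
  haveI : Module.Free (Localization.Away r) (Localization.Away r ⊗[A] B) :=
    Module.Free.of_equiv e0.symm
  exact Module.Free.of_equiv
    (TensorProduct.AlgebraTensorModule.cancelBaseChange A (Localization.Away r) C C B)

variable {R R' S S' : CommRingCat.{u}} {a : R ⟶ R'} {b : R ⟶ S} {c : R' ⟶ S'} {d : S ⟶ S'}

theorem norm_of_isPushout (h : IsPushout a b c d)
    (hfree : letI := b.hom.toAlgebra; Module.Free R S)
    (hfin : letI := b.hom.toAlgebra; Module.Finite R S) (s : S) :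
    letI := b.hom.toAlgebra
    letI := c.hom.toAlgebra
    Algebra.norm R' (d s) = a (Algebra.norm R s) := by
  letI := a.hom.toAlgebra
  letI := b.hom.toAlgebra
  letI := c.hom.toAlgebra
  letI := d.hom.toAlgebra
  letI : Algebra R S' := (a ≫ c).hom.toAlgebra
  haveI t1 : IsScalarTower R R' S' := IsScalarTower.of_algebraMap_eq' rfl
  haveI t2 : IsScalarTower R S S' :=
    IsScalarTower.of_algebraMap_eq' (congrArg CommRingCat.Hom.hom h.w)
  haveI : Algebra.IsPushout R R' S S' := CommRingCat.isPushout_iff_isPushout.mp h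
  haveI := hfree
  haveI := hfin
  exact norm_isPushout (R := R) (R' := R') (S := S) (S' := S') s

theorem free_of_isPushout (h : IsPushout a b c d) (r : R) (hr : IsUnit (a r))
    (hfree : letI := b.hom.toAlgebra
      Module.Free (Localization.Away r) (LocalizedModule.Away r S)) :
    letI := c.hom.toAlgebra
    Module.Free R' S' := by
  letI := a.hom.toAlgebra
  letI := b.hom.toAlgebra
  letI := c.hom.toAlgebra
  letI := d.hom.toAlgebra
  letI : Algebra R S' := (a ≫ c).hom.toAlgebra
  haveI t1 : IsScalarTower R R' S' := IsScalarTower.of_algebraMap_eq' rfl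
  haveI t2 : IsScalarTower R S S' :=
    IsScalarTower.of_algebraMap_eq' (congrArg CommRingCat.Hom.hom h.w)
  haveI : Algebra.IsPushout R R' S S' := CommRingCat.isPushout_iff_isPushout.mp h
  haveI := hfree
  haveI : Module.Free R' (R' ⊗[R] S) := free_of_away r R' hr
  exact Module.Free.of_equiv (Algebra.IsPushout.equiv R R' S S').toLinearEquiv

end Alg

section Geom

variable {X X' : Scheme.{u}} (f : X' ⟶ X)

/-- The algebra structure of `Γ(T ×_X X')` over `Γ(T)`. -/
noncomputable abbrev alg (T : Over X) :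
    Algebra Γ(T.left, ⊤) Γ(((Over.pullback f).obj T).left, ⊤) :=
  (pullback.fst T.hom f).appTop.hom.toAlgebra

/-- Affine test objects over which the base change of `f` has a finite free algebra of functions. -/
def Good (T : Over X) : Prop :=
  IsAffine T.left ∧
    (letI := alg f T; Module.Finite Γ(T.left, ⊤) Γ(((Over.pullback f).obj T).left, ⊤)) ∧
    (letI := alg f T; Module.Free Γ(T.left, ⊤) Γ(((Over.pullback f).obj T).left, ⊤))

theorem isPullback_map {T' T : Over X} (j : T' ⟶ T) :
    IsPullback (pullback.fst T'.hom f) ((Over.pullback f).map j).left j.left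
      (pullback.fst T.hom f) := by
  have hs : ((Over.pullback f).map j).left ≫ pullback.snd T.hom f = pullback.snd T'.hom f := by
    exact pullback.lift_snd _ _ _
  have hf : ((Over.pullback f).map j).left ≫ pullback.fst T.hom f =
      pullback.fst T'.hom f ≫ j.left := by
    exact pullback.lift_fst _ _ _
  have t : IsPullback (((Over.pullback f).map j).left ≫ pullback.snd T.hom f)
      (pullback.fst T'.hom f) f (j.left ≫ T.hom) := by
    rw [hs, Over.w j]
    exact (IsPullback.of_hasPullback T'.hom f).flip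
  exact (IsPullback.of_right t hf (IsPullback.of_hasPullback T.hom f).flip).flip

theorem isPushout_map [IsAffineHom f] {T' T : Over X} (j : T' ⟶ T)
    [IsAffine T'.left] [IsAffine T.left] :
    IsPushout j.left.appTop (pullback.fst T.hom f).appTop (pullback.fst T'.hom f).appTop
      ((Over.pullback f).map j).left.appTop := by
  haveI : IsAffine (pullback T.hom f) := isAffine_of_isAffineHom (pullback.fst T.hom f)
  exact isPushout_appTop_of_isPullback (isPullback_map f j)

theorem exists_good_core [IsFinite f] [Flat f] (T : Over X) (y : T.left) (Vo : Over X)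
    [IsAffine Vo.left] [IsLocallyNoetherian Vo.left] [IsOpenImmersion Vo.hom]
    (x' : Vo.left) (hx' : Vo.hom x' = T.hom y) :
    ∃ U : T.left.Opens, y ∈ U ∧ Good f (Over.mk (U.ι ≫ T.hom)) := by
  haveI hPaff : IsAffine (pullback Vo.hom f) := isAffine_of_isAffineHom (pullback.fst Vo.hom f)
  letI aV := alg f Vo
  haveI hfin : Module.Finite Γ(Vo.left, ⊤) Γ(((Over.pullback f).obj Vo).left, ⊤) :=
    IsFinite.finite_app (f := pullback.fst Vo.hom f) ⊤ (isAffineOpen_top _)
  haveI hflat : Module.Flat Γ(Vo.left, ⊤) Γ(((Over.pullback f).obj Vo).left, ⊤) :=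
    HasRingHomProperty.appTop @Flat (pullback.fst Vo.hom f) inferInstance
  haveI hnoeth : IsNoetherianRing Γ(Vo.left, ⊤) :=
    IsLocallyNoetherian.component_noetherian ⟨⊤, isAffineOpen_top _⟩
  haveI hfp : Module.FinitePresentation Γ(Vo.left, ⊤) Γ(((Over.pullback f).obj Vo).left, ⊤) :=
    Module.finitePresentation_of_finite _ _
  obtain ⟨φ, hφ⟩ : ∃ φ : Γ(Vo.left, ⊤) →+* Vo.left.presheaf.stalk x',
      φ = (Vo.left.presheaf.germ ⊤ x' trivial).hom := ⟨_, rfl⟩
  obtain ⟨p, hp⟩ : ∃ p : Ideal Γ(Vo.left, ⊤),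
      p = Ideal.comap φ (IsLocalRing.maximalIdeal _) := ⟨_, rfl⟩
  haveI hpp : p.IsPrime := by rw [hp]; infer_instance
  haveI hfreeloc : Module.Free (Localization.AtPrime p)
      (LocalizedModule p.primeCompl Γ(((Over.pullback f).obj Vo).left, ⊤)) :=
    Module.free_of_flat_of_isLocalRing
  obtain ⟨r, hr, hr', -⟩ := Module.FinitePresentation.exists_free_localizedModule_powers
    p.primeCompl
    (LocalizedModule.mkLinearMap p.primeCompl Γ(((Over.pullback f).obj Vo).left, ⊤))
    (Localization.AtPrime p)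
  have hunit : IsUnit (φ r) := by
    apply IsLocalRing.notMem_maximalIdeal.mp
    intro hmem
    apply Ideal.mem_primeCompl_iff.mp hr
    rw [hp]
    exact hmem
  have hxr : x' ∈ Vo.left.basicOpen r := by
    rw [Scheme.mem_basicOpen_top]
    rw [hφ] at hunit
    exact hunit
  obtain ⟨W, hW⟩ : ∃ W : T.left.Opens,
      W = T.hom ⁻¹ᵁ (Vo.hom ''ᵁ (Vo.left.basicOpen r)) := ⟨_, rfl⟩
  have hyW : y ∈ W := by
    rw [hW]
    exact ⟨x', hxr, hx'⟩
  obtain ⟨_, ⟨U : T.left.Opens, hU, rfl⟩, hyU, hUW⟩ :=
    T.left.isBasis_affineOpens.exists_subset_of_mem_open hyW W.2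
  refine ⟨U, hyU, ?_⟩
  have hmemW : ∀ u : U.toScheme, ∃ v : Vo.left, v ∈ Vo.left.basicOpen r ∧
      Vo.hom v = (U.ι ≫ T.hom) u := by
    intro u
    have hu : (U.ι u) ∈ W := hUW u.2
    rw [hW] at hu
    obtain ⟨v, hv, hv2⟩ := hu
    exact ⟨v, hv, hv2⟩
  have hrange : Set.range (U.ι ≫ T.hom) ⊆ Set.range Vo.hom := by
    rintro _ ⟨u, rfl⟩
    obtain ⟨v, -, hv⟩ := hmemW u
    exact ⟨v, hv⟩
  obtain ⟨g, hg⟩ : ∃ g : U.toScheme ⟶ Vo.left, g ≫ Vo.hom = U.ι ≫ T.hom :=
    ⟨IsOpenImmersion.lift Vo.hom (U.ι ≫ T.hom) hrange, IsOpenImmersion.lift_fac _ _ _⟩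
  haveI hUaff : IsAffine (Over.mk (U.ι ≫ T.hom)).left := hU
  refine ⟨hUaff, ?_, ?_⟩
  · exact IsFinite.finite_app (f := pullback.fst (Over.mk (U.ι ≫ T.hom)).hom f) ⊤
      (isAffineOpen_top _)
  · have hpo := isPushout_map f (Over.homMk g hg : Over.mk (U.ι ≫ T.hom) ⟶ Vo)
    refine free_of_isPushout hpo r ?_ hr'
    refine RingedSpace.isUnit_of_isUnit_germ U.toScheme.toLocallyRingedSpace.toRingedSpace ⊤ _
      (fun u _ => ?_)
    refine (Scheme.mem_basicOpen_top U.toScheme (g.appTop r) u).mp ?_
    rw [← Scheme.preimage_basicOpen_top]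
    show g u ∈ Vo.left.basicOpen r
    obtain ⟨v, hv, hv2⟩ := hmemW u
    have hvu : v = g u := by
      apply Vo.hom.isOpenEmbedding.injective
      rw [hv2, ← hg]
      rfl
    rw [← hvu]
    exact hv

theorem exists_good [IsFinite f] [Flat f] [IsLocallyNoetherian X] (T : Over X) (y : T.left) :
    ∃ U : T.left.Opens, y ∈ U ∧ Good f (Over.mk (U.ι ≫ T.hom)) := by
  obtain ⟨_, ⟨V : X.Opens, hV, rfl⟩, hxV, -⟩ :=
    X.isBasis_affineOpens.exists_subset_of_mem_open (Set.mem_univ (T.hom y)) isOpen_univ
  haveI : IsAffine (Over.mk V.ι).left := hV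
  haveI : IsLocallyNoetherian (Over.mk V.ι).left := inferInstanceAs (IsLocallyNoetherian V.toScheme)
  haveI : IsOpenImmersion (Over.mk V.ι).hom := inferInstanceAs (IsOpenImmersion V.ι)
  exact exists_good_core f T y (Over.mk V.ι) ⟨T.hom y, hxV⟩ rfl

end Geom

end Groth.Agent.H1.NormEx
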