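import Mathlib
import Groth.Statements.S15384
import Groth.Prelude.Def_GmPts
import Groth.Agent.Lib.Helper1.NormEx

set_option autoImplicit false
universe u

open CategoryTheory CategoryTheory.Limits AlgebraicGeometry Opposite MonObj MonoidalCategory
  CartesianMonoidalCategory

namespace Groth.Agent.H1.NormEx

variable {X X' : Scheme.{u}} (f : X' ⟶ X)

/-- The point `T ⟶ 𝔾_m` given by the norm of the unit attached to `t'`. -/
noncomputable def nrmPt (T : Over X) (t' : (Over.pullback f).obj T ⟶ Red.Gm X') : T ⟶ Red.Gm X :=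
  letI := alg f T
  GmPts.ptOfUnit (Units.map
    (Algebra.norm Γ(T.left, ⊤) : Γ(((Over.pullback f).obj T).left, ⊤) →* Γ(T.left, ⊤))
    (GmPts.unitOfPt t'))

theorem gmFn_nrmPt (T : Over X) (t' : (Over.pullback f).obj T ⟶ Red.Gm X') :
    Red.gmFn (nrmPt f T t') = (letI := alg f T; Algebra.norm Γ(T.left, ⊤) (Red.gmFn t')) := by
  rw [nrmPt, GmPts.gmFn_ptOfUnit]
  rfl

theorem nrmPt_mul (T : Over X) (t₁ t₂ : (Over.pullback f).obj T ⟶ Red.Gm X') :
    nrmPt f T (t₁ * t₂) = nrmPt f T t₁ * nrmPt f T t₂ := by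
  apply GmPts.gmFn_injective
  change Red.gmFn _ = Red.gmFn _
  rw [GmPts.gmFn_mul, gmFn_nrmPt, gmFn_nrmPt, gmFn_nrmPt, GmPts.gmFn_mul, map_mul]

theorem nrmPt_comp [IsAffineHom f] {T' T : Over X} (j : T' ⟶ T) (hT' : Good f T') (hT : Good f T)
    (t' : (Over.pullback f).obj T ⟶ Red.Gm X') :
    j ≫ nrmPt f T t' = nrmPt f T' ((Over.pullback f).map j ≫ t') := by
  apply GmPts.gmFn_injective
  change Red.gmFn _ = Red.gmFn _
  rw [GmPts.gmFn_comp, gmFn_nrmPt, gmFn_nrmPt, GmPts.gmFn_comp]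
  haveI := hT'.1
  haveI := hT.1
  exact (norm_of_isPushout (isPushout_map f j) hT.2.2 hT.2.1 (Red.gmFn t')).symm

variable (K : Precoverage Scheme.{u})
  [(QuotSh.J K X).Subcanonical] [(QuotSh.J K X').Subcanonical]

/-- The full subcategory of good test objects. -/
def goodSub : ObjectProperty (Over X) := fun T => Good f T

noncomputable def alphaApp (T : Over X) :
    (CGrpSh3.pushGm K f).obj.obj (op T) ⟶ (CGrpSh2.Gm K X).obj.obj (op T) :=
  AddCommGrpCat.ofHom (AddMonoidHom.mk'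
    (fun x : ULift.{u + 1} (Additive ((Over.pullback f).obj T ⟶ Red.Gm X')) =>
      (ULift.up (Additive.ofMul (nrmPt f T x.down.toMul)) :
        ULift.{u + 1} (Additive (T ⟶ Red.Gm X))))
    (fun x y => by
      apply ULift.ext
      exact congrArg Additive.ofMul (nrmPt_mul f T x.down.toMul y.down.toMul)))

noncomputable def alpha [IsAffineHom f] :
    (goodSub f).ι.op ⋙ (CGrpSh3.pushGm K f).obj ⟶ (goodSub f).ι.op ⋙ (CGrpSh2.Gm K X).obj where
  app T := alphaApp f K T.unop.obj
  naturality T₁ T₂ j := by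
    apply ConcreteCategory.hom_ext
    intro x
    apply ULift.ext
    exact congrArg Additive.ofMul
      (nrmPt_comp f j.unop.hom T₂.unop.property T₁.unop.property x.down.toMul).symm

theorem isCoverDense
    (hgood : ∀ (T : Over X) (y : T.left),
      ∃ U : T.left.Opens, y ∈ U ∧ Good f (Over.mk (U.ι ≫ T.hom))) :
    (goodSub f).ι.IsCoverDense (QuotSh.J Scheme.fppfPrecoverage X) := by
  constructor
  intro T
  choose U hyU hU using hgood T
  rw [GrothendieckTopology.mem_over_iff]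
  have hmem : Presieve.ofArrows (fun y => (U y).toScheme) (fun y => (U y).ι) ∈
      Scheme.fppfPrecoverage T.left := by
    show _ ∈ Scheme.precoverage (@Flat ⊓ @LocallyOfFinitePresentation) T.left
    rw [Scheme.ofArrows_mem_precoverage_iff]
    refine ⟨fun y => ⟨y, ⟨⟨y, hyU y⟩, rfl⟩⟩, fun y => ⟨inferInstance, inferInstance⟩⟩
  refine GrothendieckTopology.superset_covering _ ?_
    (Precoverage.generate_mem_toGrothendieck hmem)
  rw [Sieve.generate_le_iff]
  rintro _ _ ⟨y⟩
  rw [Sieve.overEquiv_iff]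
  exact ⟨⟨⟨Over.mk ((U y).ι ≫ T.hom), hU y⟩, 𝟙 _, Over.homMk (U y).ι rfl, Category.id_comp _⟩⟩

/-- The norm map. -/
noncomputable def N [IsAffineHom f] [(goodSub f).ι.IsCoverDense (QuotSh.J K X)] :
    CGrpSh3.pushGm K f ⟶ CGrpSh2.Gm K X :=
  ⟨Functor.IsCoverDense.sheafHom (alpha f K)⟩

theorem isNormMap_N [IsAffineHom f] [(goodSub f).ι.IsCoverDense (QuotSh.J K X)] :
    CGrpSh3.IsNormMap K f (N f K) := by
  intro T hAff alg' hfin hfree halg t'
  have halg' : alg' = alg f T := Algebra.algebra_ext _ _ (fun a => halg a)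
  subst halg'
  have hgood : Good f T := ⟨hAff, hfin, hfree⟩
  have h1 := congrArg (fun β => β.app (op (⟨T, hgood⟩ : (goodSub f).FullSubcategory)))
    (Functor.IsCoverDense.sheafHom_restrict_eq (alpha f K))
  have h2 : CGrpSh3.normPt K f (N f K) T t' = nrmPt f T t' := by
    rw [CGrpSh3.normPt_def]
    have h3 := ConcreteCategory.congr_hom h1 (ULift.up (Additive.ofMul t'))
    exact congrArg (fun y => y.down.toMul) h3
  rw [h2, gmFn_nrmPt]

theorem main (X X' : Scheme.{u}) (f : X' ⟶ X) [IsFinite f] [Flat f] [IsLocallyNoetherian X] :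
    ∃ N : CGrpSh3.pushGm Scheme.fppfPrecoverage f ⟶ CGrpSh2.Gm Scheme.fppfPrecoverage X,
      CGrpSh3.IsNormMap Scheme.fppfPrecoverage f N := by
  haveI := isCoverDense f (exists_good f)
  exact ⟨N f Scheme.fppfPrecoverage, isNormMap_N f Scheme.fppfPrecoverage⟩

end Groth.Agent.H1.NormEx
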