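import Mathlib
import Groth.Prelude.Def_Pi1
import Groth.Agent.Lib.Helper5.AG.NormalAffine

set_option autoImplicit false
universe u
open CategoryTheory CategoryTheory.Limits AlgebraicGeometry TopologicalSpace Opposite

namespace Groth.Agent.Lib.Helper1.NormSections

/-- On a normal integral scheme, a rational function which is integral over the sections on every
nonempty affine open is a global section. -/
theorem exists_section_of_isIntegral {X : Scheme.{u}} [IsIntegral X]
    (hX : Pi1.IsNormalScheme X) (x : X.functionField)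
    (hx : ∀ (V : X.Opens) [Nonempty V], IsAffineOpen V → IsIntegral Γ(X, V) x) :
    ∃ t : Γ(X, ⊤), X.presheaf.germ ⊤ (genericPoint X) trivial t = x := by
  classical
  let ι := {V : X.Opens // IsAffineOpen V ∧ Nonempty V}
  let U : ι → X.Opens := fun i => i.1
  have hloc : ∀ i : ι, ∃ y : Γ(X, i.1), 
      (haveI : Nonempty i.1 := i.2.2; X.germToFunctionField i.1 y) = x := by
    intro i
    haveI : Nonempty i.1 := i.2.2
    haveI : IsIntegrallyClosed Γ(X, i.1) :=
      (Groth.Agent.H5.AG.isNormalScheme_iff_affine X).1 hX i.1 i.2.1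
    haveI := functionField_isFractionRing_of_isAffineOpen X i.1 i.2.1
    exact IsIntegrallyClosed.isIntegral_iff.1 (hx i.1 i.2.1)
  choose sf hsf using hloc
  have hgen : ∀ V : X.Opens, Nonempty V → genericPoint X ∈ V := fun V h =>
    ((genericPoint_spec X).mem_open_set_iff V.isOpen).mpr (by simpa using h)
  have hcompat : TopCat.Presheaf.IsCompatible X.sheaf.1 U sf := by
    intro i j
    have hi := hgen i.1 i.2.2
    have hj := hgen j.1 j.2.2
    have hij : genericPoint X ∈ U i ⊓ U j := ⟨hi, hj⟩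
    apply germ_injective_of_isIntegral X (genericPoint X) hij
    have h1 := TopCat.Presheaf.germ_res_apply X.presheaf (Opens.infLELeft (U i) (U j)) (genericPoint X) hij (sf i)
    have h2 := TopCat.Presheaf.germ_res_apply X.presheaf (Opens.infLERight (U i) (U j)) (genericPoint X) hij (sf j)
    refine h1.trans (Eq.trans ?_ h2.symm)
    exact (hsf i).trans (hsf j).symm
  have hcover : (⊤ : X.Opens) ≤ iSup U := by
    intro y _
    obtain ⟨_, ⟨V, hV, rfl⟩, hyV, -⟩ := X.isBasis_affineOpens.exists_subset_of_mem_open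
      (Set.mem_univ y) isOpen_univ
    exact Opens.mem_iSup.2 ⟨⟨V, hV, ⟨⟨y, hyV⟩⟩⟩, hyV⟩
  obtain ⟨gl, gl_spec, -⟩ :
      ∃ gl : X.presheaf.obj (op ⊤), (∀ i, (X.sheaf.1.map (homOfLE (le_top : U i ≤ ⊤)).op) gl = sf i) ∧ _ :=
    X.sheaf.existsUnique_gluing' U ⊤ (fun i => homOfLE le_top) hcover sf hcompat
  refine ⟨gl, ?_⟩
  obtain ⟨y⟩ : Nonempty X := inferInstance
  obtain ⟨_, ⟨V, hV, rfl⟩, hyV, -⟩ := X.isBasis_affineOpens.exists_subset_of_mem_open
    (Set.mem_univ y) isOpen_univ
  let i : ι := ⟨V, hV, ⟨⟨y, hyV⟩⟩⟩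
  have h3 := TopCat.Presheaf.germ_res_apply X.presheaf (homOfLE (le_top : U i ≤ ⊤)) (genericPoint X)
    (hgen i.1 i.2.2) gl
  have h4 := gl_spec i
  refine h3.symm.trans ?_
  rw [show (X.presheaf.map (homOfLE (le_top : U i ≤ ⊤)).op) gl = sf i from h4]
  exact hsf i

end Groth.Agent.Lib.Helper1.NormSections
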