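import Mathlib
import Groth.Statements.S15383
import Groth.Prelude.Def_GmPts

set_option autoImplicit false
universe u

open CategoryTheory CategoryTheory.Limits AlgebraicGeometry Opposite

namespace Groth.Agent.H1.NormUniq

variable (K : Precoverage Scheme.{u}) {X X' : Scheme.{u}} (f : X' ⟶ X)
  [(QuotSh.J K X).Subcanonical] [(QuotSh.J K X').Subcanonical]

theorem normPt_comp (N : CGrpSh3.pushGm K f ⟶ CGrpSh2.Gm K X) {T₁ T₂ : Over X} (j : T₁ ⟶ T₂)
    (t' : (Over.pullback f).obj T₂ ⟶ Red.Gm X') :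
    j ≫ CGrpSh3.normPt K f N T₂ t' = CGrpSh3.normPt K f N T₁ ((Over.pullback f).map j ≫ t') := by
  have h := ConcreteCategory.congr_hom (N.hom.naturality j.op) (ULift.up (Additive.ofMul t'))
  exact (congrArg (fun y => y.down.toMul) h).symm

theorem map_homOfLE_injective {Y : Scheme.{u}} {U V : Y.Opens} (h : V = U) (hle : V ≤ U) :
    Function.Injective (Y.presheaf.map (homOfLE hle).op) := by
  subst h
  intro a b hab
  have e : Y.presheaf.map (homOfLE hle).op = 𝟙 _ := by
    rw [show homOfLE hle = 𝟙 V from Subsingleton.elim _ _, op_id, Y.presheaf.map_id]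
  rw [e] at hab
  exact hab

theorem section_ext_of_stalk {Y : Scheme.{u}} (s s' : Γ(Y, ⊤))
    (h : ∀ y : Y, (Y.fromSpecStalk y).appTop s = (Y.fromSpecStalk y).appTop s') : s = s' := by
  refine TopCat.Presheaf.section_ext Y.sheaf ⊤ s s' (fun y hy => ?_)
  have h1 := h y
  rw [Scheme.fromSpecStalk_appTop, CommRingCat.comp_apply, CommRingCat.comp_apply,
    CommRingCat.comp_apply, CommRingCat.comp_apply] at h1
  have h2 := map_homOfLE_injective rfl _ h1
  exact (ConcreteCategory.bijective_of_isIso (Scheme.ΓSpecIso (Y.presheaf.stalk y)).inv).1 h2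

theorem gmFn_normPt_eq_of_local [IsFinite f] [Flat f]
    (N N' : CGrpSh3.pushGm K f ⟶ CGrpSh2.Gm K X)
    (hN : CGrpSh3.IsNormMap K f N) (hN' : CGrpSh3.IsNormMap K f N')
    (T : Over X) [IsAffine T.left] [IsLocalRing Γ(T.left, ⊤)]
    (t' : (Over.pullback f).obj T ⟶ Red.Gm X') :
    Red.gmFn (CGrpSh3.normPt K f N T t') = Red.gmFn (CGrpSh3.normPt K f N' T t') := by
  haveI : IsAffine (pullback T.hom f) := isAffine_of_isAffineHom (pullback.fst T.hom f)
  letI alg : Algebra Γ(T.left, ⊤) Γ(((Over.pullback f).obj T).left, ⊤) :=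
    (pullback.fst T.hom f).appTop.hom.toAlgebra
  haveI hfin : Module.Finite Γ(T.left, ⊤) Γ(((Over.pullback f).obj T).left, ⊤) :=
    (IsFinite.finite_app (f := pullback.fst T.hom f) ⊤ (isAffineOpen_top _))
  haveI hflat : Module.Flat Γ(T.left, ⊤) Γ(((Over.pullback f).obj T).left, ⊤) :=
    HasRingHomProperty.appTop @Flat (pullback.fst T.hom f) inferInstance
  haveI hfree : Module.Free Γ(T.left, ⊤) Γ(((Over.pullback f).obj T).left, ⊤) :=
    Module.free_of_flat_of_isLocalRing
  rw [hN T (fun a => rfl) t', hN' T (fun a => rfl) t']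

theorem normPt_eq [IsFinite f] [Flat f]
    (N N' : CGrpSh3.pushGm K f ⟶ CGrpSh2.Gm K X)
    (hN : CGrpSh3.IsNormMap K f N) (hN' : CGrpSh3.IsNormMap K f N')
    (T : Over X) (t' : (Over.pullback f).obj T ⟶ Red.Gm X') :
    CGrpSh3.normPt K f N T t' = CGrpSh3.normPt K f N' T t' := by
  apply GmPts.gmFn_injective
  change Red.gmFn (CGrpSh3.normPt K f N T t') = Red.gmFn (CGrpSh3.normPt K f N' T t')
  refine section_ext_of_stalk _ _ (fun y => ?_)
  obtain ⟨Ty, hTy⟩ : ∃ w : Over X, w = Over.mk (T.left.fromSpecStalk y ≫ T.hom) := ⟨_, rfl⟩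
  subst hTy
  haveI : IsAffine (Over.mk (T.left.fromSpecStalk y ≫ T.hom)).left :=
    inferInstanceAs (IsAffine (Spec (T.left.presheaf.stalk y)))
  haveI : IsLocalRing Γ((Over.mk (T.left.fromSpecStalk y ≫ T.hom)).left, ⊤) :=
    (Scheme.ΓSpecIso (T.left.presheaf.stalk y)).symm.commRingCatIsoToRingEquiv.isLocalRing
  let J : Over.mk (T.left.fromSpecStalk y ≫ T.hom) ⟶ T := Over.homMk (T.left.fromSpecStalk y) rfl
  have e1 := GmPts.gmFn_comp J (CGrpSh3.normPt K f N T t')
  have e2 := GmPts.gmFn_comp J (CGrpSh3.normPt K f N' T t')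
  change J.left.appTop _ = J.left.appTop _
  rw [← e1, ← e2, normPt_comp, normPt_comp]
  exact gmFn_normPt_eq_of_local K f N N' hN hN' _ _

theorem main (X X' : Scheme.{u}) (f : X' ⟶ X) [IsFinite f] [Flat f]
    (N N' : CGrpSh3.pushGm Scheme.fppfPrecoverage f ⟶ CGrpSh2.Gm Scheme.fppfPrecoverage X)
    (hN : CGrpSh3.IsNormMap Scheme.fppfPrecoverage f N)
    (hN' : CGrpSh3.IsNormMap Scheme.fppfPrecoverage f N') : N = N' := by
  apply Sheaf.hom_ext
  apply NatTrans.ext
  funext T
  apply ConcreteCategory.hom_ext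
  intro x
  apply ULift.ext
  apply Additive.toMul.injective
  exact normPt_eq Scheme.fppfPrecoverage f N N' hN hN' (unop T) x.down.toMul

end Groth.Agent.H1.NormUniq
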