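import Mathlib

set_option autoImplicit false
universe u
open TensorProduct

namespace Groth.Agent.H1.OmegaSpec

section cot

variable {B E : Type u} [CommRing B] [CommRing E]

/-- cotangent modules correspond under a ring isomorphism -/
noncomputable def cotangentEquivOfRingEquiv (β : B ≃+* E) (J : Ideal B) (I : Ideal E)
    (h : ∀ b, b ∈ J ↔ β b ∈ I) : J.Cotangent ≃+ I.Cotangent :=
  let f : B →ₐ[ℤ] E := (β : B →+* E).toIntAlgHom
  let g : E →ₐ[ℤ] B := (β.symm : E →+* B).toIntAlgHom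
  have hf : J ≤ I.comap f := fun x hx => (h x).mp hx
  have hg : I ≤ J.comap g := fun x hx => by
    change β.symm x ∈ J
    rw [h]
    simpa using hx
  { toFun := Ideal.mapCotangent J I f hf
    invFun := Ideal.mapCotangent I J g hg
    left_inv := by
      intro x
      obtain ⟨y, rfl⟩ := J.toCotangent_surjective x
      rw [Ideal.mapCotangent_toCotangent, Ideal.mapCotangent_toCotangent]
      congr 1
      ext
      simp [f, g]
    right_inv := by
      intro x
      obtain ⟨y, rfl⟩ := I.toCotangent_surjective x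
      rw [Ideal.mapCotangent_toCotangent, Ideal.mapCotangent_toCotangent]
      congr 1
      ext
      simp [f, g]
    map_add' := map_add _ }

theorem cotangentEquivOfRingEquiv_toCotangent (β : B ≃+* E) (J : Ideal B) (I : Ideal E)
    (h : ∀ b, b ∈ J ↔ β b ∈ I) (y : J) :
    cotangentEquivOfRingEquiv β J I h (J.toCotangent y) =
      I.toCotangent ⟨β y, (h y).mp y.2⟩ := by
  exact Ideal.mapCotangent_toCotangent J I ((β : B →+* E).toIntAlgHom) (fun x hx => (h x).mp hx) y

theorem cotangentEquivOfRingEquiv_smul (β : B ≃+* E) (J : Ideal B) (I : Ideal E)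
    (h : ∀ b, b ∈ J ↔ β b ∈ I) (b : B) (x : J.Cotangent) :
    cotangentEquivOfRingEquiv β J I h (b • x) = β b • cotangentEquivOfRingEquiv β J I h x := by
  obtain ⟨y, rfl⟩ := J.toCotangent_surjective x
  rw [← map_smul, cotangentEquivOfRingEquiv_toCotangent, cotangentEquivOfRingEquiv_toCotangent,
    ← map_smul]
  congr 1
  ext
  simp

end cot

section base

variable {B C : Type u} [CommRing B] [CommRing C] [Algebra B C]
  {N T : Type u} [AddCommGroup N] [Module B N] [AddCommGroup T] [Module B T] [Module C T]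
  [IsScalarTower B C T]

/-- if `B → C` is surjective with kernel `J`, the base change of `J` to `C` is `J/J²`. -/
theorem nonempty_equiv_cotangent_of_isBaseChange
    (hsurj : Function.Surjective (algebraMap B C))
    (j : N ≃ₗ[B] RingHom.ker (algebraMap B C)) (ℓ : N →ₗ[B] T) (hℓ : IsBaseChange C ℓ) :
    Nonempty (T ≃ₗ[B] (RingHom.ker (algebraMap B C)).Cotangent) := by
  set J := RingHom.ker (algebraMap B C) with hJ
  let e1 : T ≃ₗ[B] C ⊗[B] N := (hℓ.equiv.symm).restrictScalars B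
  let e2 : C ⊗[B] N ≃ₗ[B] C ⊗[B] J := TensorProduct.congr (LinearEquiv.refl B C) j
  let e3r : (B ⧸ J) ≃+* C := RingHom.quotientKerEquivOfSurjective hsurj
  let e3 : (B ⧸ J) ≃ₗ[B] C :=
    { e3r with
      map_smul' := by
        intro b x
        obtain ⟨y, rfl⟩ := Ideal.Quotient.mk_surjective x
        change e3r (Ideal.Quotient.mk J (b • y)) = b • e3r (Ideal.Quotient.mk J y)
        rw [smul_eq_mul, map_mul, map_mul, Algebra.smul_def]
        rfl }
  let e4 : C ⊗[B] J ≃ₗ[B] (B ⧸ J) ⊗[B] J := TensorProduct.congr e3.symm (LinearEquiv.refl B J)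
  let e5 : (B ⧸ J) ⊗[B] J ≃ₗ[B] J ⧸ (J • ⊤ : Submodule B J) :=
    TensorProduct.quotTensorEquivQuotSMul J J
  exact ⟨e1 ≪≫ₗ e2 ≪≫ₗ e4 ≪≫ₗ e5⟩

end base

section main

variable {R A : Type u} [CommRing R] [CommRing A] [Algebra R A]
  {B C : Type u} [CommRing B] [CommRing C] [Algebra B C]
  {N T : Type u} [AddCommGroup N] [Module B N] [AddCommGroup T] [Module B T] [Module C T]
  [IsScalarTower B C T]

theorem alg_main (β : B ≃+* A ⊗[R] A) (γ : C ≃+* A)
    (hsq : ∀ b, γ (algebraMap B C b) = Algebra.TensorProduct.lmul' R (β b))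
    (j : N ≃ₗ[B] RingHom.ker (algebraMap B C)) (ℓ : N →ₗ[B] T) (hℓ : IsBaseChange C ℓ) :
    ∃ φ : T ≃+ Ω[A⁄R], ∀ (c : C) (t : T), φ (c • t) = γ c • φ t := by
  have hb : ∀ c : C, algebraMap B C (β.symm (γ c ⊗ₜ[R] 1)) = c := by
    intro c
    apply γ.injective
    rw [hsq, RingEquiv.apply_symm_apply]
    simp
  have hsurj : Function.Surjective (algebraMap B C) := fun c => ⟨_, hb c⟩
  obtain ⟨e⟩ := nonempty_equiv_cotangent_of_isBaseChange hsurj j ℓ hℓ
  have hJI : ∀ b, b ∈ RingHom.ker (algebraMap B C) ↔ β b ∈ KaehlerDifferential.ideal R A := by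
    intro b
    rw [RingHom.mem_ker, RingHom.mem_ker, ← hsq]
    exact (map_eq_zero_iff γ γ.injective).symm
  let e6 := cotangentEquivOfRingEquiv β (RingHom.ker (algebraMap B C))
    (KaehlerDifferential.ideal R A) hJI
  refine ⟨e.toAddEquiv.trans e6, ?_⟩
  intro c t
  have h1 : c • t = (β.symm (γ c ⊗ₜ[R] 1)) • t := by
    rw [← algebraMap_smul C (β.symm (γ c ⊗ₜ[R] 1)) t, hb]
  rw [h1]
  change e6 (e ((β.symm (γ c ⊗ₜ[R] 1)) • t)) = γ c • e6 (e t)
  rw [map_smul, cotangentEquivOfRingEquiv_smul, RingEquiv.apply_symm_apply]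
  change (γ c ⊗ₜ[R] (1 : A)) • (e6 (e t) : Ω[A⁄R]) = _
  rw [← algebraMap_smul (A ⊗[R] A) (γ c) (e6 (e t) : Ω[A⁄R])]
  rfl

end main

end Groth.Agent.H1.OmegaSpec
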