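import Mathlib
import Groth.Agent.Lib.Helper1.CDivKit5
import Groth.Agent.Lib.Helper1.CartierKit

/-! Local finiteness of the zeros and poles of a rational function. -/

universe u
set_option linter.style.haveILetI false
open CategoryTheory AlgebraicGeometry TopologicalSpace Opposite

namespace Groth.Agent.H1.OrdFinite

variable {X : Scheme.{u}} [IsIntegral X] [IsLocallyNoetherian X]

/-- a rational function `a / b` has order zero at the points of `D(ab)`. -/
theorem ord_eq_zero_of_mem_basicOpen {V : X.Opens} [Nonempty V]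
    (a b : Γ(X, V)) (f : X.functionField)
    (hab : algebraMap Γ(X, V) X.functionField a / algebraMap Γ(X, V) X.functionField b = f)
    (ξ : X) (hξ : ξ ∈ X.basicOpen (a * b)) : Scheme.ord f ξ = 0 := by
  set W := X.basicOpen (a * b) with hWdef
  haveI : Nonempty W := ⟨⟨ξ, hξ⟩⟩
  have hWV : W ≤ V := X.basicOpen_le _
  set r := X.presheaf.map (homOfLE hWV).op with hr
  have hunit : IsUnit (r.hom (a * b)) := RingedSpace.isUnit_res_basicOpen _ (a * b)
  rw [map_mul] at hunit
  have hua : IsUnit (r.hom a) := isUnit_of_mul_isUnit_left hunit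
  have hub : IsUnit (r.hom b) := isUnit_of_mul_isUnit_right hunit
  have hres : ∀ t : Γ(X, V), algebraMap Γ(X, V) X.functionField t =
      (X.germToFunctionField W).hom (r.hom t) := by
    intro t
    exact (congr($(X.presheaf.germ_res (homOfLE hWV) (genericPoint X) _).hom t)).symm
  have hf : f = (X.germToFunctionField W).hom (r.hom a * ↑hub.unit⁻¹) := by
    rw [← hab, hres a, hres b, map_mul, map_units_inv, IsUnit.unit_spec, div_eq_mul_inv]
  rw [hf]
  exact Scheme.ord_of_isUnit (hua.mul (hub.unit⁻¹).isUnit) hξ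

/-- **Local finiteness of zeros and poles.** -/
theorem locallyFinite_closure_ord_ne_zero (f : X.functionField) (hf : f ≠ 0) :
    LocallyFinite (fun ξ : {ξ : ↥X // Order.coheight ξ = 1 ∧ Scheme.ord f ξ ≠ 0} =>
      closure ({ξ.1} : Set ↥X)) := by
  intro x
  obtain ⟨_, ⟨V, hV, rfl⟩, hxV, -⟩ := X.isBasis_affineOpens.exists_subset_of_mem_open
    (Set.mem_univ x) isOpen_univ
  haveI : Nonempty V := ⟨⟨x, hxV⟩⟩
  haveI : IsNoetherianRing Γ(X, V) := IsLocallyNoetherian.component_noetherian ⟨V, hV⟩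
  haveI := functionField_isFractionRing_of_isAffineOpen (X := X) V hV
  obtain ⟨a, b, hb, hab⟩ := IsFractionRing.div_surjective (A := Γ(X, V)) f
  have hb0 : b ≠ 0 := nonZeroDivisors.ne_zero hb
  have ha0 : a ≠ 0 := by
    rintro rfl
    rw [map_zero, zero_div] at hab
    exact hf hab.symm
  have hc0 : a * b ≠ 0 := mul_ne_zero ha0 hb0
  refine ⟨V, V.isOpen.mem_nhds hxV, ?_⟩
  set S : Set (PrimeSpectrum Γ(X, V)) :=
    {p | p.asIdeal ∈ (Ideal.span {a * b}).minimalPrimes} with hS
  have hSfin : S.Finite := by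
    have h1 := (Ideal.span {a * b}).finite_minimalPrimes_of_isNoetherianRing
    refine Set.Finite.preimage ?_ h1
    intro p _ q _ hpq
    exact PrimeSpectrum.ext hpq
  have himage : (fun ξ : {ξ : ↥X // Order.coheight ξ = 1 ∧ Scheme.ord f ξ ≠ 0} => ξ.1) ''
      {ξ | (closure ({ξ.1} : Set ↥X) ∩ V).Nonempty} ⊆ hV.fromSpec '' S := by
    rintro _ ⟨ξ, ⟨y, hy1, hy2⟩, rfl⟩
    have hspec : ξ.1 ⤳ y := specializes_iff_mem_closure.mpr hy1
    have hξV : ξ.1 ∈ V := hspec.mem_open V.isOpen hy2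
    refine ⟨hV.primeIdealOf ⟨ξ.1, hξV⟩, ?_, hV.fromSpec_primeIdealOf ⟨ξ.1, hξV⟩⟩
    have hc : a * b ∈ (hV.primeIdealOf ⟨ξ.1, hξV⟩).asIdeal := by
      by_contra hcon
      have hmem : ξ.1 ∈ X.basicOpen (a * b) := by
        by_contra h
        exact hcon ((Groth.Agent.H1.CartierKit.mem_primeIdealOf_iff hV ξ.1 hξV (a * b)).mpr h)
      exact ξ.2.2 (ord_eq_zero_of_mem_basicOpen a b f hab ξ.1 hmem)
    have hht : (hV.primeIdealOf ⟨ξ.1, hξV⟩).asIdeal.height = 1 := by
      rw [Groth.Agent.H1.CDivKit.height_primeIdealOf hV ξ.1 hξV, ξ.2.1]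
    show (hV.primeIdealOf ⟨ξ.1, hξV⟩).asIdeal ∈ (Ideal.span {a * b}).minimalPrimes
    apply Ideal.mem_minimalPrimes_of_height_le
      ((Ideal.span_singleton_le_iff_mem _).mpr hc)
    rw [hht]
    exact Ideal.one_le_height_span_singleton_of_mem_nonZeroDivisors
      (mem_nonZeroDivisors_of_ne_zero hc0)
  exact Set.Finite.of_finite_image ((hSfin.image _).subset himage)
    (Subtype.val_injective.injOn)

end Groth.Agent.H1.OrdFinite
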