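import Mathlib
import Groth.Prelude.Def_Curv2
import Groth.Agent.Lib.Helper1.GenFibre
import Groth.Agent.Lib.Helper1.BCStalkRed
import Groth.Agent.Lib.Helper5.EtPrime.C

set_option autoImplicit false
set_option linter.style.haveILetI false
universe u
open CategoryTheory CategoryTheory.Limits AlgebraicGeometry IsLocalRing TensorProduct TopologicalSpace

namespace Groth.Agent.H1.ProperH0

open KaehlerDifferential in
/-- a finite geometrically reduced field extension is separable. -/
theorem isSeparable_of_isGeometricallyReduced_of_finite (k L : Type u) [Field k] [Field L]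
    [Algebra k L] [FiniteDimensional k L] [Algebra.IsGeometricallyReduced k L] :
    Algebra.IsSeparable k L := by
  haveI : Algebra.EssFiniteType k L := inferInstance
  have h1 := Groth.Agent.H5.EtPrime.finrank_eq_of_isGeometricallyReduced k L
  haveI : Algebra.IsAlgebraic k L := Algebra.IsAlgebraic.of_finite k L
  have h2 : Algebra.trdeg k L = 0 := _root_.trdeg_eq_zero
  have h3 : Module.finrank L Ω[L⁄k] = 0 := by rw [h1, h2]; simp
  haveI : Module.Finite L Ω[L⁄k] := inferInstance
  haveI : Subsingleton Ω[L⁄k] := Module.finrank_zero_iff.mp h3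
  haveI : Algebra.FormallyUnramified k L := ⟨inferInstance⟩
  exact Algebra.FormallyUnramified.isSeparable k L

theorem isSeparable_of_isField (k Γ F : Type u) [Field k] [CommRing Γ] [Algebra k Γ]
    (hΓ : IsField Γ) [Module.Finite k Γ] [CommRing F] [Algebra k F]
    [Algebra.IsGeometricallyReduced k F] (φ : Γ →ₐ[k] F) (hφ : Function.Injective φ) :
    Algebra.IsSeparable k Γ := by
  letI := hΓ.toField
  haveI : Algebra.IsGeometricallyReduced k Γ := Algebra.IsGeometricallyReduced.of_injective φ hφ
  exact isSeparable_of_isGeometricallyReduced_of_finite k Γ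



attribute [local instance] Curv2.resAlgebra Curv2.stalkAlgebra

theorem s7615 (k : Type u) [Field k] (X : Scheme.{u}) [X.Over (Spec (CommRingCat.of k))]
    [IsIntegral X] [IsProper (X ↘ (Spec (CommRingCat.of k)))] :
    letI := ((X ↘ (Spec (CommRingCat.of k))).appTop.hom.comp
      (Scheme.ΓSpecIso (CommRingCat.of k)).inv.hom : k →+* Γ(X, ⊤)).toAlgebra
    IsField ↑Γ(X, ⊤) ∧ Module.Finite k ↑Γ(X, ⊤) ∧
      (GeometricallyReduced (X ↘ (Spec (CommRingCat.of k))) → Algebra.IsSeparable k ↑Γ(X, ⊤)) ∧
      (GeometricallyIrreducible (X ↘ (Spec (CommRingCat.of k))) →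
        IsPurelyInseparable k ↑Γ(X, ⊤)) := by
  letI alg : Algebra k Γ(X, ⊤) := ((X ↘ (Spec (CommRingCat.of k))).appTop.hom.comp
      (Scheme.ΓSpecIso (CommRingCat.of k)).inv.hom : k →+* Γ(X, ⊤)).toAlgebra
  have hF : IsField Γ(X, ⊤) := isField_of_universallyClosed k (X ↘ Spec (CommRingCat.of k))
  have hfin : Module.Finite k Γ(X, ⊤) := by
    have h1 := finite_appTop_of_universallyClosed k (X ↘ Spec (CommRingCat.of k))
    have h2 : ((X ↘ (Spec (CommRingCat.of k))).appTop.hom.comp
        (Scheme.ΓSpecIso (CommRingCat.of k)).inv.hom).Finite :=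
      RingHom.Finite.comp h1 (RingHom.Finite.of_surjective _
        (ConcreteCategory.bijective_of_isIso (Scheme.ΓSpecIso (CommRingCat.of k)).inv).2)
    exact h2
  haveI := hfin
  -- the two algebra maps
  let φ : Γ(X, ⊤) →ₐ[k] X.functionField :=
    { toRingHom := (X.presheaf.germ ⊤ (genericPoint X) trivial).hom
      commutes' := fun r => rfl }
  have hφ : Function.Injective φ := germ_injective_of_isIntegral X (U := ⊤) (genericPoint X) (by trivial)
  let ρ : X.functionField →ₐ[k] X.residueField (genericPoint X) :=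
    { toRingHom := (X.residue (genericPoint X)).hom
      commutes' := fun r => rfl }
  have hρ : Function.Injective ρ := ρ.toRingHom.injective
  refine ⟨hF, hfin, ?_, ?_⟩
  · intro hgr
    haveI : Algebra.IsGeometricallyReduced k X.functionField :=
      (Groth.Agent.H1.BCStalk.s1544 k X).mp hgr
    exact isSeparable_of_isField k Γ(X, ⊤) X.functionField hF φ hφ
  · intro hgi
    refine ⟨Algebra.IsIntegral.of_finite k _, ?_⟩
    intro a ha
    have ha' : _root_.IsSeparable k ((ρ.comp φ) a) := by
      unfold _root_.IsSeparable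
      rw [minpoly.algHom_eq (ρ.comp φ) (hρ.comp hφ)]
      exact ha
    obtain ⟨t, ht⟩ := Groth.Agent.H1.GenFibre.s1540_mp k X _ ha'
    refine ⟨t, (hρ.comp hφ) ?_⟩
    show (ρ.comp φ) _ = (ρ.comp φ) a
    rw [← ht]
    exact (ρ.comp φ).commutes t

end Groth.Agent.H1.ProperH0
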