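import Mathlib
import Groth.Agent.Lib.Helper1.ValDim

/-! helper1: tools for the rigidity lemma over a locally Noetherian base (GIT 6.1):
morphisms out of the spectrum of a local ring are determined by a jointly injective family of
quotients; equality of morphisms is local; open + specialization-stable ⇒ closed; transfer of
bijectivity of global sections between isomorphic pullbacks; thickenings of the closed point. -/

set_option autoImplicit false
set_option linter.style.haveILetI false
set_option linter.unusedSectionVars false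
set_option linter.unusedVariables false
universe u

namespace Groth.Agent.H1.RigidA

open CategoryTheory AlgebraicGeometry Limits IsLocalRing TopologicalSpace

theorem hom_ext_of_family {R : Type u} [CommRing R] [IsLocalRing R] {ι : Type*}
    (Rᵢ : ι → Type u) [∀ i, CommRing (Rᵢ i)] (J : ∀ i, R →+* Rᵢ i)
    (hJ : ∀ a b : R, (∀ i, J i a = J i b) → a = b)
    {X : Scheme.{u}} (u u' : Spec (CommRingCat.of R) ⟶ X)
    (hx : u (closedPoint R) = u' (closedPoint R))
    (h : ∀ i, Spec.map (CommRingCat.ofHom (J i)) ≫ u = Spec.map (CommRingCat.ofHom (J i)) ≫ u') :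
    u = u' := by
  obtain ⟨W, hW, hxW⟩ : ∃ W : X.Opens, IsAffineOpen W ∧ u (closedPoint R) ∈ W := by
    obtain ⟨_, ⟨W, hW, rfl⟩, hxW, -⟩ := X.isBasis_affineOpens.exists_subset_of_mem_open
      (Set.mem_univ (u (closedPoint R))) isOpen_univ
    exact ⟨W, hW, hxW⟩
  have hrange : ∀ v : Spec (CommRingCat.of R) ⟶ X, v (closedPoint R) ∈ W →
      Set.range v ⊆ Set.range W.ι := by
    rintro v hv _ ⟨p, rfl⟩
    rw [Scheme.Opens.range_ι]
    exact ((IsLocalRing.specializes_closedPoint p).map v.continuous).mem_open W.2 hv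
  have hu := hrange u hxW
  have hu' := hrange u' (hx ▸ hxW)
  rw [← IsOpenImmersion.lift_fac W.ι u hu, ← IsOpenImmersion.lift_fac W.ι u' hu']
  congr 1
  haveI : IsAffine (W : Scheme.{u}) := hW
  have key : ∀ (i : ι) (s : Γ(W, ⊤)),
      J i ((Scheme.ΓSpecIso (CommRingCat.of R)).hom.hom
        ((IsOpenImmersion.lift W.ι u hu).appTop.hom s)) =
      J i ((Scheme.ΓSpecIso (CommRingCat.of R)).hom.hom
        ((IsOpenImmersion.lift W.ι u' hu').appTop.hom s)) := by
    intro i s
    have h0 : Spec.map (CommRingCat.ofHom (J i)) ≫ IsOpenImmersion.lift W.ι u hu =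
        Spec.map (CommRingCat.ofHom (J i)) ≫ IsOpenImmersion.lift W.ι u' hu' := by
      rw [← cancel_mono W.ι, Category.assoc, Category.assoc, IsOpenImmersion.lift_fac,
        IsOpenImmersion.lift_fac, h i]
    have h1 := congrArg
      (fun f => (Scheme.ΓSpecIso (CommRingCat.of (Rᵢ i))).hom.hom (f.appTop.hom s)) h0
    simp only [Scheme.Hom.comp_appTop, CommRingCat.hom_comp, RingHom.comp_apply] at h1
    have h2 := fun y => congrArg (fun f => f.hom y)
      (Scheme.ΓSpecIso_naturality (CommRingCat.ofHom (J i)))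
    simp only [CommRingCat.hom_comp, RingHom.comp_apply, CommRingCat.hom_ofHom] at h2
    rw [h2, h2] at h1
    exact h1
  apply ext_of_isAffine
  ext s
  have hinj : Function.Injective (Scheme.ΓSpecIso (CommRingCat.of R)).hom.hom :=
    (ConcreteCategory.bijective_of_isIso (Scheme.ΓSpecIso (CommRingCat.of R)).hom).1
  apply hinj
  exact hJ _ _ (fun i => key i s)

theorem hom_ext_of_locally {X Y : Scheme.{u}} (f g : X ⟶ Y)
    (h : ∀ x : X, ∃ U : X.Opens, x ∈ U ∧ U.ι ≫ f = U.ι ≫ g) : f = g := by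
  choose U hxU hU using h
  have hcov : IsOpenCover U := by
    rw [IsOpenCover, eq_top_iff]
    intro x _
    exact Opens.mem_iSup.mpr ⟨x, hxU x⟩
  exact Scheme.Cover.hom_ext (X.openCoverOfIsOpenCover U hcov) f g (fun x => hU x)

theorem isClosed_of_isOpen_of_stableUnderSpecialization {T : Scheme.{u}} [IsLocallyNoetherian T]
    {D : Set T} (ho : IsOpen D) (hs : StableUnderSpecialization D) : IsClosed D := by
  apply Groth.Agent.H1.ValDim.isClosed_of_stableUnderSpecialization_of_isLocallyConstructible hs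
  intro x
  obtain ⟨W, hW, hxW⟩ : ∃ W : T.Opens, IsAffineOpen W ∧ x ∈ W := by
    obtain ⟨_, ⟨W, hW, rfl⟩, hxW, -⟩ := T.isBasis_affineOpens.exists_subset_of_mem_open
      (Set.mem_univ x) isOpen_univ
    exact ⟨W, hW, hxW⟩
  refine ⟨W, W.2.mem_nhds hxW, W.2, ?_⟩
  haveI : IsNoetherianRing Γ(T, W) := IsLocallyNoetherian.component_noetherian ⟨W, hW⟩
  haveI : NoetherianSpace ((W : Set T) : Type u) := noetherianSpace_of_isAffineOpen W hW
  exact IsRetrocompact.isConstructible (ho.preimage continuous_subtype_val)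
    (fun V _ _ => NoetherianSpace.isCompact _)

theorem bijective_appTop_of_isPullback_iso {X T P P' K K' : Scheme.{u}} {p : X ⟶ T}
    {a : P ⟶ X} {b : P ⟶ K} {a' : P' ⟶ X} {b' : P' ⟶ K'} {w : K' ⟶ T} {w₁ : K ⟶ T}
    (v : K ⟶ K') [IsIso v] (hw : w₁ = v ≫ w) (h : IsPullback a b p w₁)
    (h' : IsPullback a' b' p w) (hb' : Function.Bijective b'.appTop) :
    Function.Bijective b.appTop := by
  have h1 : IsPullback a (b ≫ v) p w :=
    IsPullback.of_iso h (Iso.refl _) (Iso.refl _) (asIso v) (Iso.refl _) (by simp) (by simp)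
      (by simp) (by simp [hw])
  obtain ⟨e, he⟩ : ∃ e : P ≅ P', e.hom ≫ b' = b ≫ v :=
    ⟨h1.isoIsPullback _ _ h', IsPullback.isoIsPullback_hom_snd _ _ h1 h'⟩
  have key : v.appTop ≫ b.appTop = b'.appTop ≫ e.hom.appTop := by
    rw [← Scheme.Hom.comp_appTop, ← Scheme.Hom.comp_appTop, he]
  have hcomp : ∀ z, b.appTop (v.appTop z) = e.hom.appTop (b'.appTop z) := fun z => by
    have := congrArg (fun φ => φ.hom z) key
    simpa using this
  haveI : IsIso v.appTop := (inferInstance : IsIso (Scheme.Γ.map v.op))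
  haveI : IsIso e.hom.appTop := (inferInstance : IsIso (Scheme.Γ.map e.hom.op))
  have hv : Function.Bijective v.appTop := ConcreteCategory.bijective_of_isIso v.appTop
  have he' : Function.Bijective e.hom.appTop := ConcreteCategory.bijective_of_isIso e.hom.appTop
  constructor
  · intro x y hxy
    obtain ⟨x', rfl⟩ := hv.2 x
    obtain ⟨y', rfl⟩ := hv.2 y
    rw [hcomp, hcomp] at hxy
    rw [hb'.1 (he'.1 hxy)]
  · intro c
    obtain ⟨d, rfl⟩ := he'.2 c
    obtain ⟨z, rfl⟩ := hb'.2 d
    exact ⟨v.appTop z, hcomp z⟩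

section Thick

variable (A : Type u) [CommRing A] [IsLocalRing A]

theorem pow_succ_ne_top (n : ℕ) : maximalIdeal A ^ (n + 1) ≠ ⊤ := by
  intro h
  have : maximalIdeal A ^ (n + 1) ≤ maximalIdeal A := Ideal.pow_le_self (by omega)
  rw [h] at this
  exact (maximalIdeal.isMaximal A).ne_top (top_le_iff.mp this)

instance (n : ℕ) : Nontrivial (A ⧸ maximalIdeal A ^ (n + 1)) :=
  Ideal.Quotient.nontrivial_iff.mpr (pow_succ_ne_top A n)

instance (n : ℕ) : IsLocalRing (A ⧸ maximalIdeal A ^ (n + 1)) :=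
  IsLocalRing.of_surjective' (Ideal.Quotient.mk _) Ideal.Quotient.mk_surjective

theorem isArtinianRing_quot [IsNoetherianRing A] (n : ℕ) :
    IsArtinianRing (A ⧸ maximalIdeal A ^ (n + 1)) := by
  apply IsLocalRing.quotient_artinian_of_mem_minimalPrimes_of_isLocalRing
  refine ⟨⟨inferInstance, Ideal.pow_le_self (by omega)⟩, ?_⟩
  rintro q ⟨hq, hq'⟩ _
  exact hq.le_of_pow_le hq'

/-- every point of `Spec (A/𝔪^(n+1))` lies over the closed point of `Spec A`. -/
theorem specMap_quot_apply (n : ℕ)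
    (w : Spec (CommRingCat.of (A ⧸ maximalIdeal A ^ (n + 1)))) :
    Spec.map (CommRingCat.ofHom (Ideal.Quotient.mk (maximalIdeal A ^ (n + 1)))) w =
      closedPoint A := by
  apply PrimeSpectrum.ext
  change Ideal.comap (Ideal.Quotient.mk (maximalIdeal A ^ (n + 1))) w.asIdeal = maximalIdeal A
  haveI : w.asIdeal.IsPrime := w.isPrime
  haveI : (Ideal.comap (Ideal.Quotient.mk (maximalIdeal A ^ (n + 1))) w.asIdeal).IsPrime :=
    Ideal.comap_isPrime _ _
  apply le_antisymm (IsLocalRing.le_maximalIdeal (Ideal.IsPrime.ne_top inferInstance))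
  apply Ideal.IsPrime.le_of_pow_le (n := n + 1)
  intro a ha
  rw [Ideal.mem_comap, Ideal.Quotient.eq_zero_iff_mem.mpr ha]
  exact zero_mem _

/-- the residue field of `A` maps isomorphically onto that of `A/𝔪^(n+1)`. -/
noncomputable def resMap (n : ℕ) :
    ResidueField A →+* (A ⧸ maximalIdeal A ^ (n + 1)) ⧸
      maximalIdeal (A ⧸ maximalIdeal A ^ (n + 1)) :=
  Ideal.Quotient.lift (maximalIdeal A)
    ((Ideal.Quotient.mk (maximalIdeal (A ⧸ maximalIdeal A ^ (n + 1)))).comp
      (Ideal.Quotient.mk (maximalIdeal A ^ (n + 1))))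
    (by
      intro a ha
      rw [RingHom.comp_apply, Ideal.Quotient.eq_zero_iff_mem]
      apply (maximalIdeal.isMaximal _).isPrime.mem_of_pow_mem (n + 1)
      rw [← map_pow, Ideal.Quotient.eq_zero_iff_mem.mpr (Ideal.pow_mem_pow ha (n + 1))]
      exact zero_mem _)

theorem resMap_residue (n : ℕ) (a : A) :
    resMap A n (residue A a) =
      Ideal.Quotient.mk _ (Ideal.Quotient.mk (maximalIdeal A ^ (n + 1)) a) := rfl

theorem resMap_bijective (n : ℕ) : Function.Bijective (resMap A n) := by
  constructor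
  · exact (resMap A n).injective
  · intro c
    obtain ⟨c', rfl⟩ := Ideal.Quotient.mk_surjective c
    obtain ⟨a, rfl⟩ := Ideal.Quotient.mk_surjective c'
    exact ⟨residue A a, rfl⟩

end Thick

end Groth.Agent.H1.RigidA
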