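import Mathlib
import Groth.Agent.Lib.Helper1.RigidA
import Groth.Agent.S11468

/-! helper1: infinitesimal part of the rigidity lemma (GIT 6.1): for `p : X ⟶ T` flat with a
section `e` and `H⁰(X_t, O) = κ(t)`, a morphism `f : X ⟶ Y` collapsing the fibre `X_t` agrees
with `p ≫ e ≫ f` on `Spec O_{X,x}` for every `x` over `t` (Artinian thickenings via S11468 +
Krull's intersection theorem). -/

set_option autoImplicit false
set_option linter.style.haveILetI false
set_option linter.unusedSectionVars false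
set_option linter.unusedVariables false
universe u

namespace Groth.Agent.H1.RigidB

open CategoryTheory AlgebraicGeometry Limits IsLocalRing TopologicalSpace
open Groth.Agent.H1.RigidA


theorem bijective_iso_comp {R S T : CommRingCat.{u}} (e : R ≅ S) (g : S ⟶ T) :
    Function.Bijective (e.hom ≫ g) ↔ Function.Bijective g := by
  have he : Function.Bijective e.hom := ConcreteCategory.bijective_of_isIso e.hom
  constructor
  · intro h
    constructor
    · intro a b hab
      obtain ⟨a', rfl⟩ := he.2 a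
      obtain ⟨b', rfl⟩ := he.2 b
      have := h.1 (a₁ := a') (a₂ := b') (by simpa using hab)
      rw [this]
    · intro c
      obtain ⟨a, ha⟩ := h.2 c
      exact ⟨e.hom a, by simpa using ha⟩
  · intro h
    constructor
    · intro a b hab
      apply he.1
      apply h.1
      simpa using hab
    · intro c
      obtain ⟨s, rfl⟩ := h.2 c
      obtain ⟨r, rfl⟩ := he.2 s
      exact ⟨r, by simp⟩

theorem thickening_sections (A : Type u) [CommRing A] [IsLocalRing A] [IsNoetherianRing A]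
    {T X : Scheme.{u}} (p : X ⟶ T) [Flat p] (j : Spec (CommRingCat.of A) ⟶ T)
    (H0 : Function.Bijective
      (pullback.snd p (Spec.map (CommRingCat.ofHom (residue A)) ≫ j)).appTop)
    (n : ℕ) :
    Function.Bijective (pullback.snd p
      (Spec.map (CommRingCat.ofHom (Ideal.Quotient.mk (maximalIdeal A ^ (n + 1)))) ≫ j)).appTop := by
  haveI := isArtinianRing_quot A n
  obtain ⟨c, hc⟩ : ∃ c : Spec (CommRingCat.of (A ⧸ maximalIdeal A ^ (n + 1))) ⟶ T,
      c = Spec.map (CommRingCat.ofHom (Ideal.Quotient.mk (maximalIdeal A ^ (n + 1)))) ≫ j :=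
    ⟨_, rfl⟩
  rw [← hc]
  obtain ⟨ρ, hρ⟩ : ∃ ρ : Spec (CommRingCat.of ((A ⧸ maximalIdeal A ^ (n + 1)) ⧸
        maximalIdeal (A ⧸ maximalIdeal A ^ (n + 1)))) ⟶
        Spec (CommRingCat.of (A ⧸ maximalIdeal A ^ (n + 1))),
      ρ = Spec.map (CommRingCat.ofHom
        (Ideal.Quotient.mk (maximalIdeal (A ⧸ maximalIdeal A ^ (n + 1))))) := ⟨_, rfl⟩
  have hring : CommRingCat.ofHom (Ideal.Quotient.mk (maximalIdeal A ^ (n + 1))) ≫
      CommRingCat.ofHom (Ideal.Quotient.mk (maximalIdeal (A ⧸ maximalIdeal A ^ (n + 1)))) =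
      CommRingCat.ofHom (residue A) ≫ CommRingCat.ofHom (resMap A n) := by
    apply CommRingCat.hom_ext
    apply RingHom.ext
    intro a
    rfl
  have hw : ρ ≫ c = Spec.map (CommRingCat.ofHom (resMap A n)) ≫
      (Spec.map (CommRingCat.ofHom (residue A)) ≫ j) := by
    rw [hρ, hc, ← Spec.map_comp_assoc, ← Spec.map_comp_assoc, hring]
  haveI : IsIso (CommRingCat.ofHom (resMap A n)) :=
    (ConcreteCategory.isIso_iff_bijective _).mpr (resMap_bijective A n)
  haveI : IsIso (Spec.map (CommRingCat.ofHom (resMap A n))) := inferInstance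
  have sq1 := IsPullback.of_hasPullback (pullback.snd p c) ρ
  have sq2 := IsPullback.of_hasPullback p c
  have big := sq1.paste_horiz sq2
  have h0' : Function.Bijective (pullback.snd (pullback.snd p c) ρ).appTop :=
    bijective_appTop_of_isPullback_iso (Spec.map (CommRingCat.ofHom (resMap A n))) hw big
      (IsPullback.of_hasPullback p _) H0
  have h0'' := (bijective_iso_comp (Scheme.ΓSpecIso (CommRingCat.of
      ((A ⧸ maximalIdeal A ^ (n + 1)) ⧸ maximalIdeal (A ⧸ maximalIdeal A ^ (n + 1))))).symm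
      (pullback.snd (pullback.snd p c) ρ).appTop).mpr h0'
  subst hρ
  have main := Groth.Agent.S11468.result (A ⧸ maximalIdeal A ^ (n + 1)) (pullback p c)
    (pullback (pullback.snd p c) _) (pullback.snd p c) (pullback.fst _ _) (pullback.snd _ _)
    sq1 h0''
  exact (bijective_iso_comp (Scheme.ΓSpecIso (CommRingCat.of (A ⧸ maximalIdeal A ^ (n + 1)))).symm
    (pullback.snd p c).appTop).mp main

theorem cond_aux {A R A' R' : CommRingCat.{u}} (φ : A ⟶ R) (qA : A ⟶ A') (qR : R ⟶ R')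
    (ψ : A' ⟶ R') (hsq : φ ≫ qR = qA ≫ ψ) {X T : Scheme.{u}} (p : X ⟶ T) (jX : Spec R ⟶ X)
    (jT : Spec A ⟶ T) (hj : Spec.map φ ≫ jT = jX ≫ p) :
    (Spec.map qR ≫ jX) ≫ p = Spec.map ψ ≫ (Spec.map qA ≫ jT) := by
  rw [Category.assoc, ← hj, ← Spec.map_comp_assoc, hsq, Spec.map_comp_assoc]

theorem thick_eq {T X Y : Scheme.{u}} (p : X ⟶ T) (e : T ⟶ X) (he : e ≫ p = 𝟙 T) (f : X ⟶ Y)
    {K : Scheme.{u}} (c : K ⟶ T) (t : T) (hc : ∀ k : K, c k = t)
    (hbij : Function.Bijective (pullback.snd p c).appTop)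
    (hcol : ∀ x₁ x₂ : X, p x₁ = t → p x₂ = t → f x₁ = f x₂) :
    pullback.fst p c ≫ f = pullback.fst p c ≫ p ≫ e ≫ f := by
  have he' : ∀ {Z : Scheme.{u}} (k : T ⟶ Z), e ≫ p ≫ k = k := fun k => by
    rw [← Category.assoc, he, Category.id_comp]
  have hpe : ∀ z : T, p (e z) = z := fun z => by
    rw [← Scheme.Hom.comp_apply, he]; rfl
  obtain ⟨eK, heK1, heK2⟩ : ∃ eK : K ⟶ pullback p c,
      eK ≫ pullback.fst p c = c ≫ e ∧ eK ≫ pullback.snd p c = 𝟙 K :=
    ⟨pullback.lift (c ≫ e) (𝟙 K) (by rw [Category.assoc, he, Category.comp_id, Category.id_comp]),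
      pullback.lift_fst _ _ _, pullback.lift_snd _ _ _⟩
  have hsec : ∀ s, eK.appTop ((pullback.snd p c).appTop s) = s := fun s => by
    have h1 : (pullback.snd p c).appTop ≫ eK.appTop = 𝟙 _ := by
      rw [← Scheme.Hom.comp_appTop, heK2, Scheme.Hom.id_appTop]
    have := congrArg (fun φ => φ.hom s) h1
    simpa using this
  have hinj : Function.Injective eK.appTop := by
    intro a b hab
    obtain ⟨a', rfl⟩ := hbij.2 a
    obtain ⟨b', rfl⟩ := hbij.2 b
    rw [hsec, hsec] at hab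
    rw [hab]
  have htop : ∀ z : ↥(pullback p c), p (pullback.fst p c z) = t := fun z => by
    rw [← Scheme.Hom.comp_apply, pullback.condition, Scheme.Hom.comp_apply, hc]
  have hfz : ∀ z : ↥(pullback p c), (pullback.fst p c ≫ f) z = f (e t) := fun z => by
    rw [Scheme.Hom.comp_apply]
    exact hcol _ _ (htop z) (hpe t)
  have hhz : ∀ z : ↥(pullback p c), (pullback.fst p c ≫ p ≫ e ≫ f) z = f (e t) := fun z => by
    rw [Scheme.Hom.comp_apply, Scheme.Hom.comp_apply, Scheme.Hom.comp_apply, htop]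
  obtain ⟨W, hW, hyW⟩ : ∃ W : Y.Opens, IsAffineOpen W ∧ f (e t) ∈ W := by
    obtain ⟨_, ⟨W, hW, rfl⟩, hyW, -⟩ := Y.isBasis_affineOpens.exists_subset_of_mem_open
      (Set.mem_univ (f (e t))) isOpen_univ
    exact ⟨W, hW, hyW⟩
  have hra : Set.range (pullback.fst p c ≫ f) ⊆ Set.range W.ι := by
    rintro _ ⟨z, rfl⟩
    rw [Scheme.Opens.range_ι, hfz]
    exact hyW
  have hrb : Set.range (pullback.fst p c ≫ p ≫ e ≫ f) ⊆ Set.range W.ι := by
    rintro _ ⟨z, rfl⟩
    rw [Scheme.Opens.range_ι, hhz]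
    exact hyW
  have hkey : eK ≫ IsOpenImmersion.lift W.ι _ hra = eK ≫ IsOpenImmersion.lift W.ι _ hrb := by
    rw [← cancel_mono W.ι, Category.assoc, Category.assoc, IsOpenImmersion.lift_fac,
      IsOpenImmersion.lift_fac, ← Category.assoc, heK1, ← Category.assoc eK, heK1, Category.assoc,
      Category.assoc, he']
  haveI : IsAffine (W : Scheme.{u}) := hW
  have hab : IsOpenImmersion.lift W.ι _ hra = IsOpenImmersion.lift W.ι _ hrb := by
    apply ext_of_isAffine
    ext s
    apply hinj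
    have h1 := congrArg (fun φ => φ.appTop.hom s) hkey
    simpa using h1
  rw [← IsOpenImmersion.lift_fac W.ι _ hra, hab, IsOpenImmersion.lift_fac]

theorem fromSpecStalk_eq {T X Y : Scheme.{u}} [IsLocallyNoetherian T] [IsLocallyNoetherian X]
    (p : X ⟶ T) [Flat p] (e : T ⟶ X) (he : e ≫ p = 𝟙 T) (f : X ⟶ Y) (x : X)
    (H0 : Function.Bijective (pullback.snd p (T.fromSpecResidueField (p x))).appTop)
    (hcol : ∀ x₁ x₂ : X, p x₁ = p x → p x₂ = p x → f x₁ = f x₂) :
    X.fromSpecStalk x ≫ f = X.fromSpecStalk x ≫ p ≫ e ≫ f := by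
  have hpe : ∀ z : T, p (e z) = z := fun z => by
    rw [← Scheme.Hom.comp_apply, he]; rfl
  obtain ⟨φ, hφ⟩ : ∃ φ : T.presheaf.stalk (p x) →+* X.presheaf.stalk x,
      φ = (p.stalkMap x).hom := ⟨_, rfl⟩
  haveI : IsLocalHom φ := by rw [hφ]; infer_instance
  obtain ⟨J, hJ⟩ : ∃ J : Ideal (X.presheaf.stalk x),
      J = (maximalIdeal (T.presheaf.stalk (p x))).map φ := ⟨_, rfl⟩
  have hJle : J ≤ maximalIdeal (X.presheaf.stalk x) := by
    rw [hJ, Ideal.map_le_iff_le_comap]
    intro a ha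
    rw [Ideal.mem_comap, mem_maximalIdeal, mem_nonunits_iff]
    intro hu
    exact ha (IsLocalHom.map_nonunit a hu)
  have hJtop : J ≠ ⊤ := fun h' =>
    (maximalIdeal.isMaximal _).ne_top (top_le_iff.mp (h' ▸ hJle))
  have hkrull : ⨅ i, J ^ i = ⊥ := Ideal.iInf_pow_eq_bot_of_isLocalRing J hJtop
  apply hom_ext_of_family (R := X.presheaf.stalk x) (ι := ℕ)
    (fun n => X.presheaf.stalk x ⧸ J ^ (n + 1)) (fun n => Ideal.Quotient.mk (J ^ (n + 1)))
  · intro a b hab
    rw [← sub_eq_zero, ← Ideal.mem_bot, ← hkrull, Ideal.mem_iInf]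
    intro i
    cases i with
    | zero => simp
    | succ n =>
      have := hab n
      rwa [Ideal.Quotient.eq] at this
  · rw [Scheme.Hom.comp_apply, Scheme.Hom.comp_apply, Scheme.fromSpecStalk_closedPoint,
      Scheme.Hom.comp_apply, Scheme.Hom.comp_apply]
    exact hcol x (e (p x)) rfl (hpe _)
  · intro n
    obtain ⟨c, hc⟩ : ∃ c : Spec (CommRingCat.of (T.presheaf.stalk (p x) ⧸
          maximalIdeal (T.presheaf.stalk (p x)) ^ (n + 1))) ⟶ T,
        c = Spec.map (CommRingCat.ofHom (Ideal.Quotient.mk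
          (maximalIdeal (T.presheaf.stalk (p x)) ^ (n + 1)))) ≫ T.fromSpecStalk (p x) :=
      ⟨_, rfl⟩
    have hbij : Function.Bijective (pullback.snd p c).appTop := by
      rw [hc]
      haveI hloc : IsLocalRing ↑(T.presheaf.stalk (p x)) := inferInstance
      haveI hnoe : IsNoetherianRing ↑(T.presheaf.stalk (p x)) := inferInstance
      exact @thickening_sections (↑(T.presheaf.stalk (p x))) _ hloc hnoe T X p _
        (T.fromSpecStalk (p x)) H0 n
    have hck : ∀ k, c k = p x := fun k => by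
      rw [hc, Scheme.Hom.comp_apply, specMap_quot_apply]
      exact Scheme.fromSpecStalk_closedPoint
    have hle : maximalIdeal (T.presheaf.stalk (p x)) ^ (n + 1) ≤
        Ideal.comap φ (J ^ (n + 1)) := by
      rw [← Ideal.map_le_iff_le_comap, Ideal.map_pow, hJ]
    obtain ⟨ψ, hψ⟩ : ∃ ψ : (T.presheaf.stalk (p x) ⧸
          maximalIdeal (T.presheaf.stalk (p x)) ^ (n + 1)) →+*
          (X.presheaf.stalk x ⧸ J ^ (n + 1)),
        ψ = Ideal.quotientMap (J ^ (n + 1)) φ hle := ⟨_, rfl⟩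
    have hring : p.stalkMap x ≫ CommRingCat.ofHom (Ideal.Quotient.mk (J ^ (n + 1))) =
        CommRingCat.ofHom (Ideal.Quotient.mk
          (maximalIdeal (T.presheaf.stalk (p x)) ^ (n + 1))) ≫ CommRingCat.ofHom ψ := by
      apply CommRingCat.hom_ext
      apply RingHom.ext
      intro a
      show Ideal.Quotient.mk (J ^ (n + 1)) ((p.stalkMap x).hom a) = ψ (Ideal.Quotient.mk _ a)
      rw [hψ, Ideal.quotientMap_mk, hφ]
    have hcond : (Spec.map (CommRingCat.ofHom (Ideal.Quotient.mk (J ^ (n + 1)))) ≫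
        X.fromSpecStalk x) ≫ p = Spec.map (CommRingCat.ofHom ψ) ≫ c := by
      rw [hc]
      exact cond_aux (p.stalkMap x) _ _ _ hring p (X.fromSpecStalk x) (T.fromSpecStalk (p x))
        (Scheme.SpecMap_stalkMap_fromSpecStalk p)
    obtain ⟨l, hl⟩ : ∃ l : Spec (CommRingCat.of (X.presheaf.stalk x ⧸ J ^ (n + 1))) ⟶
          pullback p c,
        l ≫ pullback.fst p c =
          Spec.map (CommRingCat.ofHom (Ideal.Quotient.mk (J ^ (n + 1)))) ≫ X.fromSpecStalk x :=
      ⟨pullback.lift _ _ hcond, pullback.lift_fst _ _ _⟩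
    have hclaim := thick_eq p e he f c (p x) hck hbij hcol
    rw [← Category.assoc, ← Category.assoc, ← hl, Category.assoc, Category.assoc, hclaim]

end Groth.Agent.H1.RigidB
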