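import Mathlib
import Groth.Agent.Lib.Helper1.RigidB
import Groth.Agent.Lib.Helper5.SD.FibGam

/-! helper1: the rigidity lemma over a locally Noetherian base (Mumford GIT 6.1).
`core_section`: flat closed `p : X ⟶ T` with a section and `H⁰(X_t,O)=κ(t)`: the locus of `t`
whose fibre is collapsed by `f : X ⟶ Y` (`Y` separated over some `S`) is open and closed, and
if it is everything then `f = p ≫ e ≫ f`.  `core_proper`: the same for proper flat `p` without
a section, by base change along `p` and fpqc descent of morphisms. -/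

set_option autoImplicit false
set_option linter.style.haveILetI false
set_option linter.unusedSectionVars false
set_option linter.unusedVariables false
universe u

namespace Groth.Agent.H1.RigidC

open CategoryTheory AlgebraicGeometry Limits IsLocalRing TopologicalSpace
open Groth.Agent.H1.RigidA Groth.Agent.H1.RigidB

/-- the set of points of the base over which `f` collapses the fibre of `p`. -/
def collapsed {X T Y : Scheme.{u}} (p : X ⟶ T) (f : X ⟶ Y) : Set T :=
  {t | ∀ x x' : X, p x = t → p x' = t → f x = f x'}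

theorem core_section {S T X Y : Scheme.{u}} [IsLocallyNoetherian T] [IsLocallyNoetherian X]
    (p : X ⟶ T) [Flat p] (hcl : IsClosedMap p) (e : T ⟶ X) (he : e ≫ p = 𝟙 T)
    (H0 : ∀ t : T, Function.Bijective (pullback.snd p (T.fromSpecResidueField t)).appTop)
    (q : Y ⟶ S) [IsSeparated q] (r : T ⟶ S) (f : X ⟶ Y) (hf : f ≫ q = p ≫ r) :
    IsClopen (collapsed p f) ∧ (collapsed p f = Set.univ → f = p ≫ e ≫ f) := by
  obtain ⟨h, hh⟩ : ∃ h : X ⟶ Y, h = p ≫ e ≫ f := ⟨_, rfl⟩
  rw [← hh]
  have hpe : ∀ z : T, p (e z) = z := fun z => by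
    rw [← Scheme.Hom.comp_apply, he]; rfl
  have hhx : ∀ z : X, h z = f (e (p z)) := fun z => by
    rw [hh, Scheme.Hom.comp_apply, Scheme.Hom.comp_apply]
  obtain ⟨E, hE⟩ : ∃ E : Set X, E = {x | ∃ U : X.Opens, x ∈ U ∧ U.ι ≫ f = U.ι ≫ h} :=
    ⟨_, rfl⟩
  have hEopen : IsOpen E := by
    rw [isOpen_iff_forall_mem_open]
    intro x hx
    rw [hE] at hx
    obtain ⟨U, hxU, hU⟩ := hx
    exact ⟨U, fun y hy => by rw [hE]; exact ⟨U, hy, hU⟩, U.2, hxU⟩
  have hDE : ∀ x : X, p x ∈ collapsed p f → x ∈ E := by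
    intro x hx
    have h1 := fromSpecStalk_eq p e he f x (H0 (p x)) hx
    rw [← hh] at h1
    obtain ⟨U, hxU, hU⟩ := spread_out_unique_of_isGermInjective' f h h1
    rw [hE]; exact ⟨U, hxU, hU⟩
  have hEpt : ∀ x ∈ E, f x = h x := by
    intro x hx
    rw [hE] at hx
    obtain ⟨U, hxU, hU⟩ := hx
    have := congrArg (fun φ : (U : Scheme.{u}) ⟶ Y => φ ⟨x, hxU⟩) hU
    simpa using this
  have hED : ∀ t : T, (∀ x : X, p x = t → x ∈ E) → t ∈ collapsed p f := by
    intro t ht x x' hx hx'
    rw [hEpt x (ht x hx), hEpt x' (ht x' hx'), hhx, hhx, hx, hx']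
  have hopen : IsOpen (collapsed p f) := by
    rw [isOpen_iff_forall_mem_open]
    intro t ht
    refine ⟨(p '' Eᶜ)ᶜ, ?_, (hcl _ hEopen.isClosed_compl).isOpen_compl, ?_⟩
    · intro t' ht'
      apply hED
      intro x hx
      by_contra hxE
      exact ht' ⟨x, hxE, hx⟩
    · rintro ⟨x, hxE, hx⟩
      exact hxE (hDE x (by rw [hx]; exact ht))
  have hspec : StableUnderSpecialization (collapsed p f) := by
    intro t' t hsp ht'
    haveI : IsSeparated (Over.mk q).hom := ‹IsSeparated q›
    obtain ⟨F, hF⟩ : ∃ F : Over.mk (p ≫ r) ⟶ Over.mk q, F.left = f :=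
      ⟨Over.homMk f (by simpa using hf), rfl⟩
    obtain ⟨H, hH⟩ : ∃ H : Over.mk (p ≫ r) ⟶ Over.mk q, H.left = h :=
      ⟨Over.homMk h (by
        rw [hh]
        simp only [Over.mk_hom, Category.assoc]
        rw [hf, ← Category.assoc e, he, Category.id_comp]), rfl⟩
    haveI : IsClosedImmersion (equalizer.ι F H).left := inferInstance
    have hZeq : (equalizer.ι F H).left ≫ f = (equalizer.ι F H).left ≫ h := by
      have := congrArg (fun φ => φ.left) (equalizer.condition F H)
      simpa [hF, hH] using this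
    have hEZ : ∀ x ∈ E, x ∈ Set.range (equalizer.ι F H).left := by
      intro x hx
      rw [hE] at hx
      obtain ⟨U, hxU, hU⟩ := hx
      obtain ⟨k, hk0⟩ : ∃ k : Over.mk (U.ι ≫ p ≫ r) ⟶ Over.mk (p ≫ r), k.left = U.ι :=
        ⟨Over.homMk U.ι rfl, rfl⟩
      have hk : k ≫ F = k ≫ H := by
        ext
        simp [hk0, hF, hH, hU]
      have h2 := congrArg (fun φ => φ.left) (equalizer.lift_ι k hk)
      simp only [Over.comp_left, hk0] at h2
      refine ⟨(equalizer.lift k hk).left ⟨x, hxU⟩, ?_⟩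
      rw [← Scheme.Hom.comp_apply, h2]
      rfl
    have key : ∀ x : X, p x = t → f x = f (e t) := by
      intro x hx
      obtain ⟨x', hx'sp, hx'⟩ := Flat.generalizingMap p (by rw [hx]; exact hsp : t' ⤳ p x)
      have hx'E : x' ∈ E := hDE x' (by rw [hx']; exact ht')
      have hxZ : x ∈ Set.range (equalizer.ι F H).left :=
        hx'sp.mem_closed (equalizer.ι F H).left.isClosedEmbedding.isClosed_range (hEZ x' hx'E)
      obtain ⟨z, rfl⟩ := hxZ
      rw [← Scheme.Hom.comp_apply, hZeq, Scheme.Hom.comp_apply, hhx, hx]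
    intro x₁ x₂ hx₁ hx₂
    rw [key x₁ hx₁, key x₂ hx₂]
  refine ⟨⟨isClosed_of_isOpen_of_stableUnderSpecialization hopen hspec, hopen⟩, ?_⟩
  intro huniv
  apply hom_ext_of_locally
  intro x
  have hx : x ∈ E := hDE x (by rw [huniv]; trivial)
  rw [hE] at hx
  exact hx

theorem bijective_snd_fiber_baseChange' {B X T' : Scheme.{u}} (p : X ⟶ B) [IsProper p]
    (H0 : ∀ b : B, Function.Bijective (pullback.snd p (B.fromSpecResidueField b)).appTop)
    (c : T' ⟶ B) (x : T') :
    Function.Bijective
      (pullback.snd (pullback.snd p c) (T'.fromSpecResidueField x)).appTop := by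
  obtain ⟨w, hw⟩ : ∃ w : Spec (B.residueField (c x)) ⟶ B, w = B.fromSpecResidueField (c x) :=
    ⟨_, rfl⟩
  obtain ⟨ξ, hξ⟩ : ∃ ξ : Spec (T'.residueField x) ⟶ T', ξ = T'.fromSpecResidueField x :=
    ⟨_, rfl⟩
  obtain ⟨tt, htt⟩ : ∃ tt : Spec (T'.residueField x) ⟶ Spec (B.residueField (c x)),
      tt = Spec.map (c.residueFieldMap x) := ⟨_, rfl⟩
  rw [← hξ]
  have hcomm : ξ ≫ c = tt ≫ w := by
    rw [hξ, htt, hw]
    exact (Scheme.Hom.SpecMap_residueFieldMap_fromSpecResidueField c x).symm
  have sq1 := IsPullback.of_hasPullback (pullback.snd p c) ξ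
  have sq2 := IsPullback.of_hasPullback p c
  have big := sq1.paste_horiz sq2
  rw [hcomm] at big
  obtain ⟨g, hg1, hg2⟩ : ∃ g : pullback (pullback.snd p c) ξ ⟶ pullback p w,
      g ≫ pullback.fst p w = pullback.fst (pullback.snd p c) ξ ≫ pullback.fst p c ∧
      g ≫ pullback.snd p w = pullback.snd (pullback.snd p c) ξ ≫ tt :=
    ⟨pullback.lift _ _ (big.w.trans (Category.assoc _ _ _).symm), pullback.lift_fst _ _ _,
      pullback.lift_snd _ _ _⟩
  have H : IsPullback g (pullback.snd (pullback.snd p c) ξ) (pullback.snd p w) tt :=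
    IsPullback.of_right (by rw [hg1]; exact big) hg2 (IsPullback.of_hasPullback p w)
  haveI : IsIso (pullback.snd p w).appTop := by
    rw [hw]; exact (ConcreteCategory.isIso_iff_bijective _).mpr (H0 (c x))
  haveI : CompactSpace ↥(pullback p w) :=
    QuasiCompact.compactSpace_of_compactSpace (pullback.snd p w)
  haveI : QuasiSeparatedSpace ↥(pullback p w) :=
    quasiSeparatedSpace_of_quasiSeparated (pullback.snd p w)
  haveI := Groth.Agent.H5.SD.isIso_appTop_snd_of_isPullback (k := ↑(B.residueField (c x)))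
    (pullback.snd p w) inferInstance tt g (pullback.snd (pullback.snd p c) ξ) H
  exact ConcreteCategory.bijective_of_isIso _

theorem bijective_snd_fiber_baseChange {B X : Scheme.{u}} (p : X ⟶ B) [IsProper p]
    (H0 : ∀ b : B, Function.Bijective (pullback.snd p (B.fromSpecResidueField b)).appTop)
    (x : X) :
    Function.Bijective
      (pullback.snd (pullback.snd p p) (X.fromSpecResidueField x)).appTop :=
  bijective_snd_fiber_baseChange' p H0 p x

theorem surjective_of_H0 {B X : Scheme.{u}} (p : X ⟶ B)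
    (H0 : ∀ b : B, Function.Bijective (pullback.snd p (B.fromSpecResidueField b)).appTop) :
    Function.Surjective p := by
  intro b
  by_contra hb
  simp only [not_exists] at hb
  haveI : IsEmpty ↥(pullback p (B.fromSpecResidueField b)) := ⟨fun z =>
    hb (pullback.fst p _ z) (by
      rw [← Scheme.Hom.comp_apply, pullback.condition, Scheme.Hom.comp_apply]
      exact Scheme.fromSpecResidueField_apply _ _)⟩
  have h01 : (0 : Γ(Spec (B.residueField b), ⊤)) ≠ 1 := by
    intro h
    have := congrArg (Scheme.ΓSpecIso (B.residueField b)).hom.hom h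
    rw [map_zero, map_one] at this
    exact zero_ne_one this
  exact h01 ((H0 b).1 (Subsingleton.elim _ _))

theorem core_proper {S B X Y : Scheme.{u}} [IsLocallyNoetherian B] (p : X ⟶ B) [IsProper p]
    [Flat p]
    (H0 : ∀ b : B, Function.Bijective (pullback.snd p (B.fromSpecResidueField b)).appTop)
    (q : Y ⟶ S) [IsSeparated q] (r : B ⟶ S) (f : X ⟶ Y) (hf : f ≫ q = p ≫ r) :
    IsClopen (collapsed p f) ∧
      (collapsed p f = Set.univ → ∃ t : B ⟶ Y, t ≫ q = r ∧ f = p ≫ t) := by
  haveI : IsLocallyNoetherian X := LocallyOfFiniteType.isLocallyNoetherian p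
  haveI : IsLocallyNoetherian (pullback p p) :=
    LocallyOfFiniteType.isLocallyNoetherian (pullback.snd p p)
  have hsurj : Function.Surjective p := surjective_of_H0 p H0
  have hpcl : IsClosedMap p := p.isClosedMap
  obtain ⟨Δ, hΔ1, hΔ2⟩ : ∃ Δ : X ⟶ pullback p p,
      Δ ≫ pullback.fst p p = 𝟙 X ∧ Δ ≫ pullback.snd p p = 𝟙 X :=
    ⟨pullback.diagonal p, pullback.diagonal_fst p, pullback.diagonal_snd p⟩
  have hf' : (pullback.fst p p ≫ f) ≫ q = pullback.snd p p ≫ (p ≫ r) := by
    rw [Category.assoc, hf, ← Category.assoc, pullback.condition, Category.assoc]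
  obtain ⟨hclopen, hfac⟩ := core_section (pullback.snd p p) (pullback.snd p p).isClosedMap Δ hΔ2
    (bijective_snd_fiber_baseChange p H0) q (p ≫ r) (pullback.fst p p ≫ f) hf'
  have hpre : collapsed (pullback.snd p p) (pullback.fst p p ≫ f) = p ⁻¹' (collapsed p f) := by
    ext x
    constructor
    · intro hx x₁ x₂ hx₁ hx₂
      obtain ⟨z₁, hz₁f, hz₁s⟩ := Scheme.Pullback.exists_preimage_pullback x₁ x hx₁
      obtain ⟨z₂, hz₂f, hz₂s⟩ := Scheme.Pullback.exists_preimage_pullback x₂ x hx₂
      have := hx z₁ z₂ hz₁s hz₂s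
      rw [Scheme.Hom.comp_apply, Scheme.Hom.comp_apply, hz₁f, hz₂f] at this
      exact this
    · intro hx z₁ z₂ hz₁ hz₂
      rw [Scheme.Hom.comp_apply, Scheme.Hom.comp_apply]
      apply hx
      · rw [← Scheme.Hom.comp_apply, pullback.condition, Scheme.Hom.comp_apply, hz₁]
      · rw [← Scheme.Hom.comp_apply, pullback.condition, Scheme.Hom.comp_apply, hz₂]
  rw [hpre] at hclopen hfac
  constructor
  · constructor
    · have h1 : collapsed p f = p '' (p ⁻¹' collapsed p f) :=
        (Set.image_preimage_eq _ hsurj).symm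
      rw [h1]
      exact hpcl _ hclopen.1
    · rw [← isClosed_compl_iff]
      have h1 : (collapsed p f)ᶜ = p '' (p ⁻¹' (collapsed p f)ᶜ) :=
        (Set.image_preimage_eq _ hsurj).symm
      rw [h1]
      exact hpcl _ (by rw [Set.preimage_compl]; exact hclopen.2.isClosed_compl)
  · intro huniv
    have h1 := hfac (by rw [huniv]; rfl)
    have hΔ' : Δ ≫ pullback.fst p p ≫ f = f := by
      rw [← Category.assoc, hΔ1, Category.id_comp]
    rw [hΔ'] at h1
    haveI : Surjective p := ⟨hsurj⟩
    haveI : EffectiveEpi p := inferInstance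
    obtain ⟨t, ht⟩ : ∃ t : B ⟶ Y, p ≫ t = f :=
      ⟨EffectiveEpi.desc p f (fun g₁ g₂ hg => by
        have := congrArg (fun φ => pullback.lift g₁ g₂ hg ≫ φ) h1
        beta_reduce at this
        rw [pullback.lift_fst_assoc, pullback.lift_snd_assoc] at this
        exact this), EffectiveEpi.fac p f _⟩
    refine ⟨t, ?_, ht.symm⟩
    rw [← cancel_epi p, ← Category.assoc, ht, hf]

end Groth.Agent.H1.RigidC
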