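import Mathlib
import Groth.Prelude.Def_CohB1
import Groth.Agent.Lib.Helper1.P1GrpC
import Groth.Agent.Lib.Helper1.BCTowerApp
import Groth.Agent.Lib.Helper1.GeomIrrSch

/-!
# Families with projective-space fibres mapping to group schemes (helper1)

Every morphism from `P^n_κ` (any `n`) to a separated group scheme over a field is constant; a
morphism from a proper flat family with projective spaces as geometric fibres to a separated group
scheme over a locally Noetherian base factors through the base.
-/

set_option autoImplicit false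
set_option linter.style.haveILetI false
set_option linter.unusedSectionVars false
set_option linter.unusedVariables false

universe u

open CategoryTheory MonoidalCategory CartesianMonoidalCategory MonObj GrpObj AlgebraicGeometry
  Limits

namespace Groth.Agent.H1.P1Grp

open Groth.Agent.H1.RigidC Groth.Agent.H4.ProjSmooth HomogeneousLocalization

section Zero

variable (n : ℕ)

lemma theta_eq_id (R : Type u) [CommRing R] (i : Fin (n + 1)) (w : Fin (n + 1) → R)
    (hw : ∀ l, w l = 0) : theta n R i w = GradedRingHom.id (CohB1.polyGrading n R) := by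
  have h : (theta n R i w).toRingHom = (GradedRingHom.id (CohB1.polyGrading n R)).toRingHom := by
    apply MvPolynomial.ringHom_ext
    · intro r
      show theta n R i w (MvPolynomial.C r) = MvPolynomial.C r
      exact theta_C n R i w r
    · intro l
      show theta n R i w (MvPolynomial.X l) = MvPolynomial.X l
      rw [theta_X, hw, map_zero, zero_mul, add_zero]
  exact GradedRingHom.coe_ringHom_injective h

lemma Theta_eq_id (κ : Type u) [CommRing κ] (i : Fin (n + 1)) [Subsingleton (Fin (n + 1))] :
    Theta n κ i = 𝟙 _ := by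
  unfold Theta
  exact projMap_eq_id _ _ _ (theta_eq_id n _ i _
    (fun l => by rw [Subsingleton.elim l i]; exact wvec_self n κ i))

theorem chart_const0 (κ : Type u) [CommRing κ] (i : Fin (n + 1)) [Subsingleton (Fin (n + 1))] :
    Proj.awayι (CohB1.polyGrading n κ) (MvPolynomial.X i) (hX n κ i) one_pos =
      Spec.map (CommRingCat.ofHom (sc n κ i)) ≫ oPt n κ i := by
  rw [← c0_Theta_prB n κ i, Theta_eq_id, Category.id_comp, c0_prB]

/-- every morphism from `P^n_κ` to a separated group scheme over a field `κ` is constant. -/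
theorem proj_const' (κ : Type u) [Field κ]
    (G : Over (Spec (CommRingCat.of κ))) [GrpObj G] [IsSeparated G.hom]
    (φ : Proj (CohB1.polyGrading n κ) ⟶ G.left) (hφ : φ ≫ G.hom = tS n κ) :
    ∃ g : Spec (CommRingCat.of κ) ⟶ G.left, g ≫ G.hom = 𝟙 _ ∧ φ = tS n κ ≫ g := by
  by_cases hne : ∀ i : Fin (n + 1), ∃ j, j ≠ i
  · exact proj_const n κ hne G φ hφ
  · obtain ⟨i, hi⟩ := not_forall.mp hne
    have hi' : ∀ j : Fin (n + 1), j = i := fun j => by
      by_contra h
      exact hi ⟨j, h⟩
    haveI : Subsingleton (Fin (n + 1)) := ⟨fun a b => (hi' a).trans (hi' b).symm⟩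
    have key : ∀ l : Fin (n + 1),
        Proj.awayι (CohB1.polyGrading n κ) (MvPolynomial.X l) (hX n κ l) one_pos ≫ φ =
        Proj.awayι (CohB1.polyGrading n κ) (MvPolynomial.X l) (hX n κ l) one_pos ≫ tS n κ ≫
          (oPt n κ i ≫ φ) := by
      intro l
      obtain rfl := hi' l
      rw [← Category.assoc (Proj.awayι _ _ _ _) (tS n κ), awayι_tS, chart_const0 n κ l,
        Category.assoc]
    refine ⟨oPt n κ i ≫ φ, ?_, ?_⟩
    · rw [Category.assoc, hφ]; exact oPt_tS n κ i
    · obtain ⟨𝒰, h𝒰⟩ : ∃ 𝒰 : (Proj (CohB1.polyGrading n κ)).AffineOpenCover, 𝒰 =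
          Proj.affineOpenCoverOfIrrelevantLESpan (CohB1.polyGrading n κ)
            (fun i : Fin (n + 1) => (MvPolynomial.X i : Pol n κ)) (m := fun _ => 1) (hX n κ)
            (fun _ => one_pos) (irrelevant_le n κ) := ⟨_, rfl⟩
      refine 𝒰.openCover.hom_ext _ _ fun l => ?_
      subst h𝒰
      exact key l

end Zero

section Fam

variable {S : Scheme.{u}}

theorem fromSpecResidueField_apply (b : S) (y : ↥(Spec (S.residueField b))) :
    (S.fromSpecResidueField b) y = b := by
  have h : (S.fromSpecResidueField b) y ∈ Set.range (S.fromSpecResidueField b) := ⟨y, rfl⟩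
  rw [Scheme.range_fromSpecResidueField] at h
  exact h

/-- a proper family whose geometric fibres are projective spaces has only constant functions on
its fibres. -/
theorem H0_of_geomProjFibres (P : Over S) [IsProper P.hom]
    (hP : ∀ (K : Type u) [Field K] [IsAlgClosed K] (s : Spec (CommRingCat.of K) ⟶ S),
      ∃ (n : ℕ) (e : pullback P.hom s ≅ CohB1.ProjSpace n K),
        e.hom ≫ CohB1.ProjSpace.toSpec n K = pullback.snd P.hom s)
    (b : S) :
    Function.Bijective (pullback.snd P.hom (S.fromSpecResidueField b)).appTop := by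
  obtain ⟨f, hf⟩ : ∃ f : pullback P.hom (S.fromSpecResidueField b) ⟶
      Spec (CommRingCat.of (S.residueField b)),
      f = pullback.snd P.hom (S.fromSpecResidueField b) := ⟨_, rfl⟩
  obtain ⟨n, e, -⟩ := hP (AlgebraicClosure (S.residueField b))
    (Spec.map (CommRingCat.ofHom (algebraMap (S.residueField b)
      (AlgebraicClosure (S.residueField b)))) ≫ S.fromSpecResidueField b)
  obtain ⟨e2⟩ : Nonempty (FBase.bc f (AlgebraicClosure (S.residueField b)) ≅
      Proj (CohB1.polyGrading n (AlgebraicClosure (S.residueField b)))) := by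
    subst hf
    exact ⟨pullbackLeftPullbackSndIso _ _ _ ≪≫ e⟩
  haveI : IsIntegral (Proj (CohB1.polyGrading n (AlgebraicClosure (S.residueField b)))) :=
    isIntegral_proj n _
  haveI : Nonempty ↥(FBase.bc f (AlgebraicClosure (S.residueField b))) :=
    ⟨e2.inv.base (Nonempty.some (IsIntegral.nonempty
      (X := Proj (CohB1.polyGrading n (AlgebraicClosure (S.residueField b))))))⟩
  haveI : IsIntegral (FBase.bc f (AlgebraicClosure (S.residueField b))) :=
    isIntegral_of_isOpenImmersion e2.hom
  haveI : GeometricallyReduced f :=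
    Groth.Agent.H1.BCTower.s2535 (Ω := AlgebraicClosure (S.residueField b)) f
  letI : (pullback P.hom (S.fromSpecResidueField b)).Over
      (Spec (CommRingCat.of (S.residueField b))) := ⟨f⟩
  haveI : IrreducibleSpace ↥(Curv2.bc (S.residueField b)
      (pullback P.hom (S.fromSpecResidueField b)) (AlgebraicClosure (S.residueField b))) :=
    (inferInstance : IrreducibleSpace ↥(FBase.bc f (AlgebraicClosure (S.residueField b))))
  haveI : GeometricallyIrreducible f :=
    Groth.Agent.H1.GeomIrrSch.geometricallyIrreducible_of_sepClosed (S.residueField b)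
      (pullback P.hom (S.fromSpecResidueField b)) (AlgebraicClosure (S.residueField b))
  haveI : GeometricallyIntegral f :=
    GeometricallyIntegral.of_geometricallyReduced_of_geometricallyIrreducible f
  haveI : IsProper f := by rw [hf]; infer_instance
  have h := Groth.Agent.H1.RigidD.bijective_appTop_of_geomIntegral (S.residueField b) f
  rw [hf] at h
  exact h

noncomputable instance grpObjPullback {T : Scheme.{u}} (s : T ⟶ S) (A : Over S) [GrpObj A] :
    GrpObj ((Over.pullback s).obj A) := Functor.grpObjObj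

/-- a morphism to a separated group scheme collapses every fibre of a family whose geometric
fibres are projective spaces. -/
theorem collapsed_of_geomProjFibres (A : Over S) [GrpObj A] [IsSeparated A.hom]
    (P : Over S)
    (hP : ∀ (K : Type u) [Field K] [IsAlgClosed K] (s : Spec (CommRingCat.of K) ⟶ S),
      ∃ (n : ℕ) (e : pullback P.hom s ≅ CohB1.ProjSpace n K),
        e.hom ≫ CohB1.ProjSpace.toSpec n K = pullback.snd P.hom s)
    (φ : P ⟶ A) (b : S) (x x' : P.left) (hx : P.hom x = b) (hx' : P.hom x' = b) :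
    φ.left x = φ.left x' := by
  obtain ⟨K, hK⟩ : ∃ K : Type u, K = AlgebraicClosure (S.residueField b) := ⟨_, rfl⟩
  subst hK
  obtain ⟨sb, hsb⟩ : ∃ sb : Spec (CommRingCat.of (AlgebraicClosure (S.residueField b))) ⟶ S,
      sb = Spec.map (CommRingCat.ofHom (algebraMap (S.residueField b)
        (AlgebraicClosure (S.residueField b)))) ≫ S.fromSpecResidueField b := ⟨_, rfl⟩
  obtain ⟨pt₀⟩ : Nonempty ↥(Spec (CommRingCat.of (AlgebraicClosure (S.residueField b)))) :=
    inferInstanceAs (Nonempty (PrimeSpectrum (AlgebraicClosure (S.residueField b))))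
  haveI : Subsingleton ↥(Spec (CommRingCat.of (AlgebraicClosure (S.residueField b)))) :=
    inferInstanceAs (Subsingleton (PrimeSpectrum (AlgebraicClosure (S.residueField b))))
  have hpt : sb pt₀ = b := by
    rw [hsb, Scheme.Hom.comp_apply]
    exact fromSpecResidueField_apply b _
  obtain ⟨n, e₀, he₀⟩ := hP (AlgebraicClosure (S.residueField b)) sb
  obtain ⟨e, he⟩ : ∃ e : pullback P.hom sb ≅
      Proj (CohB1.polyGrading n (AlgebraicClosure (S.residueField b))),
      e.hom ≫ tS n (AlgebraicClosure (S.residueField b)) = pullback.snd P.hom sb := ⟨e₀, he₀⟩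
  haveI : IsSeparated ((Over.pullback sb).obj A).hom := by
    dsimp; infer_instance
  obtain ⟨φK, hφK⟩ : ∃ φK : pullback P.hom sb ⟶ ((Over.pullback sb).obj A).left,
      φK = ((Over.pullback sb).map φ).left := ⟨_, rfl⟩
  have h1 : φK ≫ ((Over.pullback sb).obj A).hom = pullback.snd P.hom sb := by
    rw [hφK]
    exact Over.w ((Over.pullback sb).map φ)
  have h2 : φK ≫ pullback.fst A.hom sb = pullback.fst P.hom sb ≫ φ.left := by
    rw [hφK]
    exact pullback.lift_fst _ _ _
  have hψ : (e.inv ≫ φK) ≫ ((Over.pullback sb).obj A).hom =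
      tS n (AlgebraicClosure (S.residueField b)) := by
    rw [Category.assoc, h1, ← he, Iso.inv_hom_id_assoc]
  obtain ⟨g, -, hg⟩ := proj_const' n (AlgebraicClosure (S.residueField b))
    ((Over.pullback sb).obj A) (e.inv ≫ φK) hψ
  have h3 : φK = pullback.snd P.hom sb ≫ g := by
    have h4 : e.hom ≫ e.inv ≫ φK = e.hom ≫ tS n (AlgebraicClosure (S.residueField b)) ≫ g := by
      rw [hg]
    rw [Iso.hom_inv_id_assoc] at h4
    rw [h4, ← Category.assoc, he]
  obtain ⟨z, hz1, -⟩ := Scheme.Pullback.exists_preimage_pullback (f := P.hom) (g := sb) x pt₀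
    (hx.trans hpt.symm)
  obtain ⟨z', hz1', -⟩ := Scheme.Pullback.exists_preimage_pullback (f := P.hom) (g := sb) x' pt₀
    (hx'.trans hpt.symm)
  have h5 : ∀ w : ↥(pullback P.hom sb), φ.left ((pullback.fst P.hom sb) w) =
      (pullback.fst A.hom sb) (g ((pullback.snd P.hom sb) w)) := by
    intro w
    rw [← Scheme.Hom.comp_apply, ← h2, h3, Scheme.Hom.comp_apply, Scheme.Hom.comp_apply]
  rw [← hz1, ← hz1', h5, h5, Subsingleton.elim ((pullback.snd P.hom sb) z)
    ((pullback.snd P.hom sb) z')]

/-- S14668: morphisms from a family of projective spaces to a proper group scheme factor through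
the base. -/
theorem s14668 [IsLocallyNoetherian S]
    (A : Over S) [GrpObj A] [IsSeparated A.hom]
    (P : Over S) [IsProper P.hom] [Flat P.hom]
    (hP : ∀ (K : Type u) [Field K] [IsAlgClosed K] (s : Spec (CommRingCat.of K) ⟶ S),
      ∃ (n : ℕ) (e : pullback P.hom s ≅ CohB1.ProjSpace n K),
        e.hom ≫ CohB1.ProjSpace.toSpec n K = pullback.snd P.hom s)
    (φ : P ⟶ A) :
    ∃ a : 𝟙_ (Over S) ⟶ A, φ = toUnit P ≫ a := by
  have H0 := H0_of_geomProjFibres P hP
  obtain ⟨hclopen, hfac⟩ := core_proper P.hom H0 A.hom (𝟙 S) φ.left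
    (by rw [Over.w φ, Category.comp_id])
  have huniv : collapsed P.hom φ.left = Set.univ := by
    ext b
    simp only [Set.mem_univ, iff_true]
    intro x x' hx hx'
    exact collapsed_of_geomProjFibres A P hP φ b x x' hx hx'
  obtain ⟨t₀, ht1, ht2⟩ := hfac huniv
  obtain ⟨t, ht⟩ : ∃ t : 𝟙_ (Over S) ⟶ A, t.left = t₀ := ⟨Over.homMk t₀ ht1, rfl⟩
  refine ⟨t, ?_⟩
  ext
  rw [Over.comp_left, ht, Over.toUnit_left]
  exact ht2

end Fam

end Groth.Agent.H1.P1Grp
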