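import Mathlib
import Groth.Agent.Lib.Helper1.DEL2

open CategoryTheory CategoryTheory.Limits AlgebraicGeometry Opposite

universe u

namespace Groth.Agent.H1.PEP

variable {S : Scheme.{u}}

lemma mem_top_iff (X : S.ProEt) (T : Sieve X) : T ∈ Scheme.ProEt.topology S X ↔
    Sieve.overEquiv ((Scheme.ProEt.forget S).obj X)
      (T.functorPushforward (Scheme.ProEt.forget S)) ∈ Scheme.proetaleTopology X.left := by
  have h : Scheme.ProEt.topology S =
      (Scheme.ProEt.forget S).restrictedTopology (Scheme.proetaleTopology.over S) :=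
    MorphismProperty.toGrothendieck_comap_forget_eq_restrictedTopology _
      Scheme.proetalePrecoverage_le_precoverage_weaklyEtale
  rw [h, Functor.mem_restrictedTopology_iff]
  rfl

/-- The object `A → X → S` of the small pro-étale site. -/
noncomputable def mkO (X : S.ProEt) {A : Scheme.{u}} (a : A ⟶ X.left) [WeaklyEtale a] : S.ProEt :=
  Scheme.ProEt.mk (a ≫ X.hom)

noncomputable def mkH (X : S.ProEt) {A : Scheme.{u}} (a : A ⟶ X.left) [WeaklyEtale a] :
    mkO X a ⟶ X :=
  MorphismProperty.Over.homMk a rfl trivial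

@[simp] lemma mkO_left (X : S.ProEt) {A : Scheme.{u}} (a : A ⟶ X.left) [WeaklyEtale a] :
    (mkO X a).left = A := rfl

@[simp] lemma mkH_left (X : S.ProEt) {A : Scheme.{u}} (a : A ⟶ X.left) [WeaklyEtale a] :
    (mkH X a).left = a := rfl

/-- A family `a i : A i ⟶ X.left` in the pro-étale precoverage gives a covering sieve. -/
lemma ofArrows_mem (X : S.ProEt) {ι : Type*} {A : ι → Scheme.{u}} (a : ∀ i, A i ⟶ X.left)
    [∀ i, WeaklyEtale (a i)]
    (h : Presieve.ofArrows A a ∈ Scheme.proetalePrecoverage X.left) :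
    Sieve.ofArrows (fun i => mkO X (a i)) (fun i => mkH X (a i)) ∈ Scheme.ProEt.topology S X := by
  refine Precoverage.generate_mem_toGrothendieck
    (R := Presieve.ofArrows (fun i => mkO X (a i)) (fun i => mkH X (a i))) ?_
  rw [Scheme.ProEt.precoverage, Precoverage.mem_comap_iff, Presieve.map_ofArrows]
  exact h

lemma affine_cover_mem (X : S.ProEt) :
    ∃ (ι : Type u) (Y : ι → S.ProEt) (g : ∀ i, Y i ⟶ X), (∀ i, IsAffine (Y i).left) ∧
      Sieve.ofArrows Y g ∈ Scheme.ProEt.topology S X := by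
  let 𝒰 := X.left.affineCover
  haveI : ∀ i, WeaklyEtale (𝒰.f i) := fun i => inferInstance
  refine ⟨𝒰.I₀, fun i => mkO X (𝒰.f i), fun i => mkH X (𝒰.f i), fun i => ?_, ?_⟩
  · show IsAffine (𝒰.X i)
    infer_instance
  · apply ofArrows_mem
    exact (Scheme.zariskiPrecoverage_le_propQCPrecoverage (P := @WeaklyEtale)) _ 𝒰.mem₀

lemma finite_affine_subcover (X : S.ProEt) [IsAffine X.left] (T : Sieve X)
    (hT : T ∈ Scheme.ProEt.topology S X) :
    ∃ (n : ℕ) (Y : Fin n → S.ProEt) (g : ∀ k, Y k ⟶ X), (∀ k, IsAffine (Y k).left) ∧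
      (∀ k, T (g k)) ∧ Sieve.ofArrows Y g ∈ Scheme.ProEt.topology S X := by
  have hT₁ := (mem_top_iff X T).mp hT
  obtain ⟨R₁, hR₁, hle⟩ := (Precoverage.mem_toGrothendieck_iff_of_isStableUnderComposition
    (J := Scheme.proetalePrecoverage)).mp hT₁
  have hR₁' : R₁ ∈ Scheme.propQCPrecoverage @WeaklyEtale X.left := hR₁
  obtain ⟨𝒰, hqc, rfl⟩ := Scheme.mem_propQCPrecoverage_iff_exists_quasiCompactCover.mp hR₁'
  haveI := hqc
  obtain ⟨𝒱, f, hfin, _⟩ := QuasiCompactCover.exists_hom 𝒰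
  haveI := hfin
  obtain ⟨n, ⟨e⟩⟩ := Finite.exists_equiv_fin 𝒱.I₀
  let a : ∀ k : Fin n, 𝒱.cover.X (e.symm k) ⟶ X.left := fun k => 𝒱.cover.f (e.symm k)
  haveI : ∀ k, WeaklyEtale (a k) := fun k => 𝒱.cover.map_prop (e.symm k)
  refine ⟨n, fun k => mkO X (a k), fun k => mkH X (a k), fun k => ?_, fun k => ?_, ?_⟩
  · show IsAffine (Spec (𝒱.X (e.symm k)))
    infer_instance
  · have h1 : (Sieve.overEquiv ((Scheme.ProEt.forget S).obj X)
        (T.functorPushforward (Scheme.ProEt.forget S))) (a k) := by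
      have hw : f.h₀ (e.symm k) ≫ 𝒰.f (f.s₀ (e.symm k)) = a k := f.w₀ (e.symm k)
      rw [← hw]
      have hmem : 𝒰.presieve₀ (𝒰.f (f.s₀ (e.symm k))) := Presieve.ofArrows.mk _
      exact Sieve.downward_closed _ (hle _ _ hmem) _
    rw [Sieve.overEquiv_iff] at h1
    obtain ⟨Z, r, h, hr, hfac⟩ := h1
    have hw := Over.w h
    let h' : mkO X (a k) ⟶ Z := MorphismProperty.Over.homMk h.left hw trivial
    have : mkH X (a k) = h' ≫ r := by
      apply MorphismProperty.Over.Hom.ext
      have h2 := congrArg (fun t => t.left) hfac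
      exact h2
    show T.arrows (mkH X (a k))
    rw [this]
    exact T.downward_closed hr h'
  · apply ofArrows_mem
    have heq : Presieve.ofArrows (fun k => 𝒱.cover.X (e.symm k)) a = 𝒱.cover.presieve₀ :=
      Presieve.ofArrows_comp_eq_of_surjective 𝒱.cover.f e.symm.surjective
    rw [heq]
    exact ⟨Scheme.presieve₀_mem_qcPrecoverage_iff.mpr inferInstance, 𝒱.cover.mem₀⟩

end Groth.Agent.H1.PEP
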