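import Mathlib
import Groth.Agent.Lib.Helper1.PEP1

open CategoryTheory CategoryTheory.Limits AlgebraicGeometry Opposite

universe u

namespace Groth.Agent.H1.PEP

variable {S : Scheme.{u}}

/-- Objects over `U` whose total space is affine. -/
def PA (U : S.ProEt) : ObjectProperty (Over U) := fun W => IsAffine W.left.left

/-- The forgetful functor to schemes. -/
noncomputable abbrev Φ (U : S.ProEt) : Over U ⥤ Scheme.{u} :=
  Over.forget U ⋙ Scheme.ProEt.forget S ⋙ Over.forget S

instance (U : S.ProEt) : (PA U).IsClosedUnderIsomorphisms where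
  of_iso {X Y} e hX := by
    haveI : IsAffine ((Φ U).obj X) := hX
    show IsAffine ((Φ U).obj Y)
    exact IsAffine.of_isIso ((Φ U).mapIso e).inv

instance closedTerminal (U : S.ProEt) [IsAffine U.left] :
    (PA U).IsClosedUnderLimitsOfShape (Discrete PEmpty.{1}) := by
  apply ObjectProperty.IsClosedUnderLimitsOfShape.mk'
  rintro _ ⟨F, hF⟩
  have e : limit F ≅ Over.mk (𝟙 U) :=
    IsLimit.conePointsIsoOfNatIso (limit.isLimit F) Over.mkIdTerminal (Functor.emptyExt _ _)
  have h0 : PA U (Over.mk (𝟙 U)) := by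
    show IsAffine U.left
    infer_instance
  exact (PA U).prop_of_iso e.symm h0

instance closedPullback (U : S.ProEt) :
    (PA U).IsClosedUnderLimitsOfShape WalkingCospan := by
  apply ObjectProperty.IsClosedUnderLimitsOfShape.mk'
  rintro _ ⟨F, hF⟩
  show IsAffine ((Φ U).obj (limit F))
  have e1 : (Φ U).obj (limit F) ≅ limit (F ⋙ Φ U) := preservesLimitIso (Φ U) F
  have e2 : limit (F ⋙ Φ U) ≅ pullback ((F ⋙ Φ U).map WalkingCospan.Hom.inl)
      ((F ⋙ Φ U).map WalkingCospan.Hom.inr) :=
    HasLimit.isoOfNatIso (diagramIsoCospan (F ⋙ Φ U))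
  haveI : IsAffine ((F ⋙ Φ U).obj WalkingCospan.left) := hF _
  haveI : IsAffine ((F ⋙ Φ U).obj WalkingCospan.right) := hF _
  haveI : IsAffine ((F ⋙ Φ U).obj WalkingCospan.one) := hF _
  exact IsAffine.of_isIso (e1 ≪≫ e2).hom

/-- The category of affine objects over `U`. -/
abbrev D0 (U : S.ProEt) := (PA U).FullSubcategory

instance (U : S.ProEt) [IsAffine U.left] : HasFiniteLimits (D0 U) :=
  hasFiniteLimits_of_hasTerminal_and_pullbacks

/-- The small (in universe `u+1`) category of affine objects over `U`. -/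
abbrev DU (U : S.ProEt) := ULiftHom.{u+1} (D0 U)

instance (C : Type*) [Category C] : (ULiftHom.down : ULiftHom C ⥤ C).IsEquivalence :=
  (ULiftHom.equiv (C := C)).isEquivalence_inverse

instance (U : S.ProEt) [IsAffine U.left] : HasFiniteLimits (DU U) :=
  ⟨fun K _ _ => Adjunction.hasLimitsOfShape_of_equivalence (ULiftHom.down : DU U ⥤ D0 U)⟩

noncomputable abbrev G1 (U : S.ProEt) : DU U ⥤ Over U := ULiftHom.down ⋙ (PA U).ι

def mkD (U : S.ProEt) (W : Over U) (h : IsAffine W.left.left) : DU U := ULiftHom.objUp ⟨W, h⟩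

@[simp] lemma G1_mkD (U : S.ProEt) (W : Over U) (h : IsAffine W.left.left) :
    (G1 U).obj (mkD U W h) = W := rfl

instance (U : S.ProEt) (W : DU U) : IsAffine ((G1 U).obj W).left.left := W.objDown.property

instance (U : S.ProEt) : (G1 U).IsCoverDense ((Scheme.ProEt.topology S).over U) where
  is_cover W := by
    rw [GrothendieckTopology.mem_over_iff]
    obtain ⟨ι, Y, g, haff, hcov⟩ := affine_cover_mem W.left
    refine (Scheme.ProEt.topology S).superset_covering ?_ hcov
    rw [Sieve.ofArrows, Sieve.generate_le_iff, Presieve.ofArrows_le_iff]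
    intro i
    rw [Sieve.overEquiv_iff]
    exact ⟨⟨mkD U (Over.mk (g i ≫ W.hom)) (haff i), 𝟙 _, Over.homMk (g i) rfl,
      Category.id_comp _⟩⟩

/-- The topology on the affine slice. -/
noncomputable def JD (U : S.ProEt) : GrothendieckTopology (DU U) :=
  (G1 U).restrictedTopology ((Scheme.ProEt.topology S).over U)

lemma mem_JD_iff (U : S.ProEt) (W : DU U) (T : Sieve W) : T ∈ JD U W ↔
    Sieve.overEquiv ((G1 U).obj W) (T.functorPushforward (G1 U)) ∈
      Scheme.ProEt.topology S ((G1 U).obj W).left := by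
  rw [JD, Functor.mem_restrictedTopology_iff]
  rfl

instance (U : S.ProEt) : (G1 U).IsCocontinuous (JD U) ((Scheme.ProEt.topology S).over U) := by
  unfold JD
  infer_instance

lemma hJ_DU (U : S.ProEt) (W : DU U) (R : Sieve W) (hR : R ∈ JD U W) :
    ∃ (n : ℕ) (V : Fin n → DU U) (g : ∀ k, V k ⟶ W), (∀ k, R (g k)) ∧
      Sieve.ofArrows V g ∈ JD U W := by
  have hR' := (mem_JD_iff U W R).mp hR
  obtain ⟨n, Y, g, haff, hT, hcov⟩ := finite_affine_subcover _ _ hR'
  let V : Fin n → DU U := fun k => mkD U (Over.mk (g k ≫ ((G1 U).obj W).hom)) (haff k)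
  let gk : ∀ k, V k ⟶ W := fun k =>
    (G1 U).preimage (Over.homMk (g k) rfl : (G1 U).obj (V k) ⟶ (G1 U).obj W)
  refine ⟨n, V, gk, fun k => ?_, ?_⟩
  · have h1 := hT k
    rw [Sieve.overEquiv_iff] at h1
    obtain ⟨Z, r, h, hr, hfac⟩ := h1
    have : gk k = (G1 U).preimage (X := V k) (Y := Z) h ≫ r := by
      apply (G1 U).map_injective
      rw [Functor.map_comp, Functor.map_preimage, Functor.map_preimage]
      exact hfac
    rw [this]
    exact R.downward_closed hr _
  · rw [mem_JD_iff]
    refine (Scheme.ProEt.topology S).superset_covering ?_ hcov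
    rw [Sieve.ofArrows, Sieve.generate_le_iff, Presieve.ofArrows_le_iff]
    intro k
    rw [Sieve.overEquiv_iff]
    have := Sieve.image_mem_functorPushforward (G1 U) (Sieve.ofArrows V gk)
      (Sieve.ofArrows_mk V gk k)
    rw [Functor.map_preimage] at this
    exact this

end Groth.Agent.H1.PEP
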