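import Mathlib
import Groth.Agent.Lib.Helper1.PEP2

open CategoryTheory CategoryTheory.Limits AlgebraicGeometry Opposite

universe u

namespace Groth.Agent.H1.PEP

variable (S : Scheme.{u})

/-- Affine objects of the small pro-étale site. -/
abbrev AffObj (S : Scheme.{u}) := {U : S.ProEt // IsAffine U.left}

instance (U : AffObj S) : IsAffine U.1.left := U.2

lemma enough (U : AffObj S) : GrothendieckTopology.HasEnoughPoints.{u+1} (JD U.1) :=
  Del.main (J := JD U.1) (hJ_DU U.1)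

noncomputable def PU (U : AffObj S) :
    ObjectProperty (GrothendieckTopology.Point.{u+1} (JD U.1)) :=
  (enough S U).exists_objectProperty.choose

instance PU_small (U : AffObj S) : ObjectProperty.Small.{u+1} (PU S U) :=
  (enough S U).exists_objectProperty.choose_spec.1

lemma PU_cons (U : AffObj S) : (PU S U).IsConservativeFamilyOfPoints :=
  (enough S U).exists_objectProperty.choose_spec.2

noncomputable abbrev FU (U : S.ProEt) : DU U ⥤ S.ProEt := G1 U ⋙ Over.forget U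

instance (U : S.ProEt) : (FU S U).IsCocontinuous (JD U) (Scheme.ProEt.topology S) :=
  isCocontinuous_comp (G1 U) (Over.forget U) (JD U) ((Scheme.ProEt.topology S).over U)

/-- The index type of the family of points. -/
abbrev Idx (S : Scheme.{u}) := Σ (U : AffObj S), Subtype (PU S U)

instance : Small.{u+1} (Idx S) := by
  haveI : ∀ U : AffObj S, Small.{u+1} (Subtype (PU S U)) := fun U => PU_small S U
  infer_instance

noncomputable def fam (i : Idx S) :
    GrothendieckTopology.Point.{u+1} (Scheme.ProEt.topology S) :=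
  i.2.1.map (FU S i.1.1) (Scheme.ProEt.topology S)

/-- The terminal object of the affine slice. -/
def topD (U : AffObj S) : DU U.1 := mkD U.1 (Over.mk (𝟙 U.1)) U.2

open GrothendieckTopology.Point.ofIsCofiltered in
lemma core (U : AffObj S) {X : S.ProEt} (a : U.1 ⟶ X) (R : Sieve X)
    (hR : ∀ (Ψ : (ObjectProperty.ofObj (fam S)).FullSubcategory) (x : Ψ.obj.fiber.obj X),
      ∃ (Y : S.ProEt) (g : Y ⟶ X) (_ : R g) (y : Ψ.obj.fiber.obj Y), Ψ.obj.fiber.map g y = x)
    (Φ : GrothendieckTopology.Point.{u+1} (JD U.1)) (hΦ : PU S U Φ)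
    (x : Φ.fiber.obj (topD S U)) :
    ∃ (Z : DU U.1) (h : Z ⟶ topD S U) (_ : R ((FU S U.1).map h ≫ a)) (z : Φ.fiber.obj Z),
      Φ.fiber.map h z = x := by
  let p : Φ.fiber.Elements ⥤ S.ProEt := CategoryOfElements.π Φ.fiber ⋙ FU S U.1
  let i₀ : Idx S := ⟨U, ⟨Φ, hΦ⟩⟩
  let Ψ : (ObjectProperty.ofObj (fam S)).FullSubcategory :=
    ⟨fam S i₀, ObjectProperty.ofObj_apply _ i₀⟩
  let r₀ : Φ.fiber.Elements := Φ.fiber.elementsMk (topD S U) x
  let ψ : Ψ.obj.fiber.obj X := fiberMk.{u+1} (p := p) (U := r₀) a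
  obtain ⟨Y, g, hg, y, hy⟩ := hR Ψ ψ
  obtain ⟨Ve, b, rfl⟩ := fiberMk_jointly_surjective (p := p) y
  have hy' : fiberMk.{u+1} (p := p) (b ≫ g) = fiberMk.{u+1} (p := p) (U := r₀) a :=
    have hy2 : (fiber.{u+1} p).map g (fiberMk.{u+1} (p := p) b) =
        fiberMk.{u+1} (p := p) (U := r₀) a := hy
    (fiber_map_fiberMk.{u+1} (p := p) b g).symm.trans hy2
  let q₁ : IsCofiltered.min Ve r₀ ⟶ Ve := IsCofiltered.minToLeft Ve r₀
  let q₂ : IsCofiltered.min Ve r₀ ⟶ r₀ := IsCofiltered.minToRight Ve r₀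
  have h1 : fiberMk.{u+1} (p := p) (p.map q₁ ≫ b ≫ g) =
      fiberMk.{u+1} (p := p) (p.map q₂ ≫ a) := by
    rw [fiberMk_map_comp, fiberMk_map_comp]
    exact hy'
  obtain ⟨V', e, he⟩ := exists_of_fiberMk_eq_fiberMk h1
  let w : V' ⟶ r₀ := e ≫ q₂
  refine ⟨V'.1, w.1, ?_, V'.2, w.2⟩
  have this : (FU S U.1).map w.1 = p.map e ≫ p.map q₂ := by
    rw [← Functor.map_comp]
    rfl
  have h2 : (FU S U.1).map w.1 ≫ a = (p.map e ≫ p.map q₁ ≫ b) ≫ g :=
    calc (FU S U.1).map w.1 ≫ a = (p.map e ≫ p.map q₂) ≫ a := congrArg (fun t => t ≫ a) this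
      _ = p.map e ≫ p.map q₂ ≫ a := Category.assoc _ _ _
      _ = p.map e ≫ p.map q₁ ≫ b ≫ g := he.symm
      _ = (p.map e ≫ p.map q₁ ≫ b) ≫ g := by simp only [Category.assoc]
  rw [h2]
  exact R.downward_closed hg _

lemma key (U : AffObj S) {X : S.ProEt} (a : U.1 ⟶ X) (R : Sieve X)
    (hR : ∀ (Ψ : (ObjectProperty.ofObj (fam S)).FullSubcategory) (x : Ψ.obj.fiber.obj X),
      ∃ (Y : S.ProEt) (g : Y ⟶ X) (_ : R g) (y : Ψ.obj.fiber.obj Y), Ψ.obj.fiber.map g y = x) :
    R.pullback a ∈ Scheme.ProEt.topology S U.1 := by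
  let T : Sieve (topD S U) := Sieve.functorPullback (FU S U.1) (R.pullback a)
  have hT : T ∈ JD U.1 (topD S U) := by
    obtain ⟨α, V, t, hTeq⟩ := T.exists_eq_ofArrows
    rw [hTeq]
    refine ((PU_cons S U).jointly_reflect_ofArrows_mem_of_small t).mpr ?_
    intro Φ x
    obtain ⟨Z, h, hh, z, hz⟩ := core S U a R hR Φ.obj Φ.property x
    have hh' : T h := hh
    rw [hTeq] at hh'
    obtain ⟨i, h₁, rfl⟩ := Sieve.ofArrows.exists hh'
    refine ⟨i, Φ.obj.fiber.map h₁ z, ?_⟩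
    rw [← hz]
    simp
  have hT2 := (mem_JD_iff U.1 (topD S U) T).mp hT
  have hT3 : (Sieve.overEquiv ((G1 U.1).obj (topD S U)) (T.functorPushforward (G1 U.1)) :
      Sieve U.1) ≤ R.pullback a := by
    intro Z f hf
    have hf' := (Sieve.overEquiv_iff _ f).mp hf
    obtain ⟨W, r, h, hr, hfac⟩ := hf'
    have h2 : f = h.left ≫ (FU S U.1).map r := congrArg (fun t => t.left) hfac
    have hr' : (R.pullback a) ((FU S U.1).map r) := hr
    rw [h2]
    exact (R.pullback a).downward_closed hr' h.left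
  exact (Scheme.ProEt.topology S).superset_covering hT3 hT2

theorem main : GrothendieckTopology.HasEnoughPoints.{u+1} (Scheme.ProEt.topology S) := by
  refine ⟨ObjectProperty.ofObj (fam S), inferInstance, ?_⟩
  apply ObjectProperty.IsConservativeFamilyOfPoints.mk'
  intro X R hR
  obtain ⟨ι, Y, g, haff, hcov⟩ := affine_cover_mem X
  refine (Scheme.ProEt.topology S).transitive hcov R ?_
  intro Z f hf
  obtain ⟨i, h, rfl⟩ := Sieve.ofArrows.exists hf
  rw [Sieve.pullback_comp]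
  apply (Scheme.ProEt.topology S).pullback_stable
  exact key S ⟨Y i, haff i⟩ (g i) R hR

end Groth.Agent.H1.PEP
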