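import Mathlib

/-!
# Evaluating power series in adically complete rings (helper1)

For an `I`-adically complete `K`-algebra `A` and `x ∈ I` there is a `K`-algebra map
`K⟦X⟧ → A` with `X ↦ x`, extending polynomial evaluation, and such that
`φ f ≡ ∑_{i<n} aᵢ xⁱ mod Iⁿ`.
-/

open PowerSeries

namespace Groth.Agent.H1.PSEval

variable {K : Type*} [CommRing K] {A : Type*} [CommRing A] [Algebra K A]
  (I : Ideal A) [hc : IsAdicComplete I A]

theorem exists_evalAlgHom (x : A) (hx : x ∈ I) :
    ∃ φ : PowerSeries K →ₐ[K] A, (∀ p : Polynomial K, φ p = Polynomial.aeval x p) ∧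
      ∀ (f : PowerSeries K) (n : ℕ),
        φ f - (Finset.range n).sum (fun i => algebraMap K A (PowerSeries.coeff i f) * x ^ i) ∈
          I ^ n := by
  letI : UniformSpace K := ⊥
  letI : WithIdeal A := ⟨I⟩
  have hadic : IsAdic I := rfl
  obtain ⟨hcs, ht2⟩ := (IsAdic.isAdicComplete_iff hadic).mp hc
  haveI : ContinuousSMul K A := DiscreteTopology.instContinuousSMul K A
  have hev : PowerSeries.HasEval x := WithIdeal.isTopologicallyNilpotent_of_mem hx
  refine ⟨PowerSeries.aeval hev, fun p => PowerSeries.aeval_coe hev p, fun f n => ?_⟩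
  have hsum := PowerSeries.hasSum_aeval hev f
  have htend := hsum.tendsto_sum_nat
  -- I ^ n is closed
  have hopen : IsOpen ((I ^ n : Ideal A) : Set A) := by
    exact (Ideal.openAddSubgroup I n).isOpen
  have hclosed : IsClosed ((I ^ n : Ideal A) : Set A) :=
    AddSubgroup.isClosed_of_isOpen (I ^ n).toAddSubgroup hopen
  set S : ℕ → A := fun m => ∑ i ∈ Finset.range m, PowerSeries.coeff i f • x ^ i with hS
  have htend' : Filter.Tendsto (fun m => S m - S n) Filter.atTop
      (nhds ((PowerSeries.aeval hev) f - S n)) := htend.sub_const _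
  have hmem : ∀ᶠ m in Filter.atTop, S m - S n ∈ ((I ^ n : Ideal A) : Set A) := by
    filter_upwards [Filter.eventually_ge_atTop n] with m hm
    simp only [hS]
    rw [← Finset.sum_range_add_sum_Ico _ hm, add_sub_cancel_left]
    refine Ideal.sum_mem _ fun i hi => ?_
    rw [Algebra.smul_def]
    refine Ideal.mul_mem_left _ _ ?_
    exact Ideal.pow_le_pow_right (Finset.mem_Ico.mp hi).1 (Ideal.pow_mem_pow hx i)
  have := hclosed.mem_of_tendsto htend' hmem
  have hSn : S n = (Finset.range n).sum
      (fun i => algebraMap K A (PowerSeries.coeff i f) * x ^ i) := by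
    simp only [hS, Algebra.smul_def]
  rw [← hSn]
  exact this

open IsLocalRing in
/-- A complete discrete valuation ring with a coefficient field `K` is `K⟦X⟧`. -/
theorem exists_bijective_of_dvr (K : Type*) (A : Type*) [Field K]
    [CommRing A] [IsDomain A] [IsDiscreteValuationRing A] [Algebra K A]
    [IsAdicComplete (maximalIdeal A) A]
    (hK : Function.Bijective ((residue A).comp (algebraMap K A)))
    (x : A) (hx : maximalIdeal A = Ideal.span {x}) :
    ∃ φ : PowerSeries K →ₐ[K] A, φ PowerSeries.X = x ∧ Function.Bijective φ ∧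
      ∀ (f : PowerSeries K) (n : ℕ),
        φ f - (Finset.range n).sum (fun i => algebraMap K A (PowerSeries.coeff i f) * x ^ i) ∈
          maximalIdeal A ^ n := by
  have hxm : x ∈ maximalIdeal A := by rw [hx]; exact Ideal.mem_span_singleton_self x
  obtain ⟨φ, hφp, hφ⟩ := exists_evalAlgHom (K := K) (maximalIdeal A) x hxm
  have hx0 : x ≠ 0 := by
    rintro rfl
    have h1 : maximalIdeal A = ⊥ := by rw [hx]; simp
    exact IsDiscreteValuationRing.not_a_field A h1
  have hpow : ∀ n, maximalIdeal A ^ n = Ideal.span {x ^ n} := by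
    intro n; rw [hx, Ideal.span_singleton_pow]
  refine ⟨φ, ?_, ⟨?_, ?_⟩, hφ⟩
  · have := hφp Polynomial.X
    rwa [Polynomial.coe_X, Polynomial.aeval_X] at this
  · -- injective
    rw [injective_iff_map_eq_zero]
    intro f hf
    by_contra hf0
    obtain ⟨n, hn⟩ : ∃ n, PowerSeries.coeff n f ≠ 0 := by
      by_contra h
      simp only [not_exists, not_not] at h
      exact hf0 (PowerSeries.ext h)
    classical
    let m := Nat.find (⟨n, hn⟩ : ∃ n, PowerSeries.coeff n f ≠ 0)
    have hm : PowerSeries.coeff m f ≠ 0 := Nat.find_spec (⟨n, hn⟩ : ∃ n, PowerSeries.coeff n f ≠ 0)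
    have hlt : ∀ i, i < m → PowerSeries.coeff i f = 0 := fun i hi => by
      by_contra h
      exact Nat.find_min (⟨n, hn⟩ : ∃ n, PowerSeries.coeff n f ≠ 0) hi h
    have h1 := hφ f (m + 1)
    rw [hf, zero_sub, neg_mem_iff, Finset.sum_range_succ, Finset.sum_eq_zero, zero_add, hpow,
      Ideal.mem_span_singleton'] at h1
    · obtain ⟨y, hy⟩ := h1
      have h2 : x ^ m * (y * x) = x ^ m * algebraMap K A (PowerSeries.coeff m f) := by
        rw [mul_comm _ (algebraMap K A _), ← hy]; ring
      have h3 := mul_left_cancel₀ (pow_ne_zero m hx0) h2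
      have h4 : (residue A).comp (algebraMap K A) (PowerSeries.coeff m f) = 0 := by
        rw [RingHom.comp_apply, ← h3, residue_eq_zero_iff]
        exact Ideal.mul_mem_left _ _ hxm
      exact hm ((injective_iff_map_eq_zero _).mp hK.1 _ h4)
    · intro i hi
      rw [hlt i (Finset.mem_range.mp hi), map_zero, zero_mul]
  · -- surjective
    intro a
    have hσ : ∀ b : A, ∃ c : K, residue A (algebraMap K A c) = residue A b := fun b => hK.2 _
    choose σ hσ using hσ
    have hδ : ∀ b : A, ∃ b' : A, b - algebraMap K A (σ b) = x * b' := by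
      intro b
      have : b - algebraMap K A (σ b) ∈ maximalIdeal A := by
        rw [← residue_eq_zero_iff, map_sub, hσ, sub_self]
      rw [hx, Ideal.mem_span_singleton'] at this
      obtain ⟨b', hb'⟩ := this
      exact ⟨b', by rw [← hb', mul_comm]⟩
    choose δ hδ using hδ
    let f : PowerSeries K := PowerSeries.mk fun n => σ (δ^[n] a)
    have key : ∀ n, a - (Finset.range n).sum
        (fun i => algebraMap K A (PowerSeries.coeff i f) * x ^ i) = x ^ n * δ^[n] a := by
      intro n
      induction n with
      | zero => simp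
      | succ n ih =>
        rw [Finset.sum_range_succ, ← sub_sub, ih, PowerSeries.coeff_mk,
          Function.iterate_succ_apply', pow_succ, mul_assoc, ← hδ]
        ring
    refine ⟨f, ?_⟩
    have hh : ∀ n, φ f - a ∈ maximalIdeal A ^ n := by
      intro n
      have h1 := hφ f n
      have h2 : a - (Finset.range n).sum
          (fun i => algebraMap K A (PowerSeries.coeff i f) * x ^ i) ∈ maximalIdeal A ^ n := by
        rw [key, hpow]
        exact Ideal.mul_mem_right _ _ (Ideal.mem_span_singleton_self _)
      have := Ideal.sub_mem _ h1 h2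
      rwa [sub_sub_sub_cancel_right] at this
    have hhaus := (inferInstance : IsAdicComplete (maximalIdeal A) A).toIsHausdorff
    have := hhaus.haus (φ f - a) (fun n => by
      rw [SModEq.zero, smul_eq_mul, Ideal.mul_top]
      exact hh n)
    exact sub_eq_zero.mp this

/-- If `A` is `(x)`-adically complete with `x` a non-zero-divisor and `K → A ⧸ (x)` is bijective,
then `K⟦X⟧ ≃ A` via `X ↦ x`. -/
theorem exists_bijective_of_nzd (K : Type*) (A : Type*) [CommRing K]
    [CommRing A] [Algebra K A] (x : A) (hx0 : x ∈ nonZeroDivisors A)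
    [IsAdicComplete (Ideal.span {x}) A]
    (hK : Function.Bijective ((Ideal.Quotient.mk (Ideal.span {x})).comp (algebraMap K A))) :
    ∃ φ : PowerSeries K →ₐ[K] A, φ PowerSeries.X = x ∧ Function.Bijective φ ∧
      ∀ (f : PowerSeries K) (n : ℕ),
        φ f - (Finset.range n).sum (fun i => algebraMap K A (PowerSeries.coeff i f) * x ^ i) ∈
          Ideal.span {x} ^ n := by
  have hxm : x ∈ Ideal.span {x} := Ideal.mem_span_singleton_self x
  obtain ⟨φ, hφp, hφ⟩ := exists_evalAlgHom (K := K) (Ideal.span {x}) x hxm
  have hpow : ∀ n, Ideal.span {x} ^ n = Ideal.span {x ^ n} := by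
    intro n; rw [Ideal.span_singleton_pow]
  have hcancel : ∀ (m : ℕ) (a b : A), x ^ m * a = x ^ m * b → a = b := by
    intro m a b h
    have hm : x ^ m ∈ nonZeroDivisors A := pow_mem hx0 m
    have : x ^ m * (a - b) = 0 := by rw [mul_sub, h, sub_self]
    exact sub_eq_zero.mp ((mem_nonZeroDivisors_iff_left.mp hm) _ this)
  refine ⟨φ, ?_, ⟨?_, ?_⟩, hφ⟩
  · have := hφp Polynomial.X
    rwa [Polynomial.coe_X, Polynomial.aeval_X] at this
  · -- injective
    rw [injective_iff_map_eq_zero]
    intro f hf
    by_contra hf0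
    obtain ⟨n, hn⟩ : ∃ n, PowerSeries.coeff n f ≠ 0 := by
      by_contra h
      simp only [not_exists, not_not] at h
      exact hf0 (PowerSeries.ext h)
    classical
    let m := Nat.find (⟨n, hn⟩ : ∃ n, PowerSeries.coeff n f ≠ 0)
    have hm : PowerSeries.coeff m f ≠ 0 := Nat.find_spec (⟨n, hn⟩ : ∃ n, PowerSeries.coeff n f ≠ 0)
    have hlt : ∀ i, i < m → PowerSeries.coeff i f = 0 := fun i hi => by
      by_contra h
      exact Nat.find_min (⟨n, hn⟩ : ∃ n, PowerSeries.coeff n f ≠ 0) hi h
    have h1 := hφ f (m + 1)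
    rw [hf, zero_sub, neg_mem_iff, Finset.sum_range_succ, Finset.sum_eq_zero, zero_add, hpow,
      Ideal.mem_span_singleton'] at h1
    · obtain ⟨y, hy⟩ := h1
      have h2 : x ^ m * (y * x) = x ^ m * algebraMap K A (PowerSeries.coeff m f) := by
        rw [mul_comm _ (algebraMap K A _), ← hy]; ring
      have h3 := hcancel m _ _ h2
      have h4 : (Ideal.Quotient.mk (Ideal.span {x})).comp (algebraMap K A)
          (PowerSeries.coeff m f) = 0 := by
        rw [RingHom.comp_apply, ← h3, Ideal.Quotient.eq_zero_iff_mem]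
        exact Ideal.mul_mem_left _ _ hxm
      exact hm ((injective_iff_map_eq_zero _).mp hK.1 _ h4)
    · intro i hi
      rw [hlt i (Finset.mem_range.mp hi), map_zero, zero_mul]
  · -- surjective
    intro a
    have hσ : ∀ b : A, ∃ c : K, Ideal.Quotient.mk (Ideal.span {x}) (algebraMap K A c) =
        Ideal.Quotient.mk (Ideal.span {x}) b := fun b => hK.2 _
    choose σ hσ using hσ
    have hδ : ∀ b : A, ∃ b' : A, b - algebraMap K A (σ b) = x * b' := by
      intro b
      have : b - algebraMap K A (σ b) ∈ Ideal.span {x} := by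
        rw [← Ideal.Quotient.eq_zero_iff_mem, map_sub, hσ, sub_self]
      rw [Ideal.mem_span_singleton'] at this
      obtain ⟨b', hb'⟩ := this
      exact ⟨b', by rw [← hb', mul_comm]⟩
    choose δ hδ using hδ
    let f : PowerSeries K := PowerSeries.mk fun n => σ (δ^[n] a)
    have key : ∀ n, a - (Finset.range n).sum
        (fun i => algebraMap K A (PowerSeries.coeff i f) * x ^ i) = x ^ n * δ^[n] a := by
      intro n
      induction n with
      | zero => simp
      | succ n ih =>
        rw [Finset.sum_range_succ, ← sub_sub, ih, PowerSeries.coeff_mk,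
          Function.iterate_succ_apply', pow_succ, mul_assoc, ← hδ]
        ring
    refine ⟨f, ?_⟩
    have hh : ∀ n, φ f - a ∈ Ideal.span {x} ^ n := by
      intro n
      have h1 := hφ f n
      have h2 : a - (Finset.range n).sum
          (fun i => algebraMap K A (PowerSeries.coeff i f) * x ^ i) ∈ Ideal.span {x} ^ n := by
        rw [key, hpow]
        exact Ideal.mul_mem_right _ _ (Ideal.mem_span_singleton_self _)
      have := Ideal.sub_mem _ h1 h2
      rwa [sub_sub_sub_cancel_right] at this
    have hhaus := (inferInstance : IsAdicComplete (Ideal.span {x}) A).toIsHausdorff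
    have := hhaus.haus (φ f - a) (fun n => by
      rw [SModEq.zero, smul_eq_mul, Ideal.mul_top]
      exact hh n)
    exact sub_eq_zero.mp this

end Groth.Agent.H1.PSEval
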