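import Mathlib

/-!
# Lattices in `R⟦X⟧^n` (S19306)
-/

universe u

namespace Groth.Agent.H1.PSLattice

open PowerSeries TensorProduct

section basic

variable {R : Type u} [CommRing R] {n M : ℕ}

/-- coefficients below `M`. -/
noncomputable def tr (n M : ℕ) : (Fin n → R⟦X⟧) →ₗ[R] (Fin n × Fin M → R) where
  toFun v ij := coeff (ij.2 : ℕ) (v ij.1)
  map_add' v w := by ext ij; simp
  map_smul' r v := by ext ij; simp

@[simp] theorem tr_apply (v : Fin n → R⟦X⟧) (ij : Fin n × Fin M) :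
    tr n M v ij = coeff (ij.2 : ℕ) (v ij.1) := rfl

/-- polynomial vectors of degree `< M`. -/
noncomputable def pol (n M : ℕ) : (Fin n × Fin M → R) →ₗ[R] (Fin n → R⟦X⟧) where
  toFun c i := PowerSeries.mk fun m => if h : m < M then c (i, ⟨m, h⟩) else 0
  map_add' c d := by
    ext i m
    simp only [Pi.add_apply, coeff_mk, map_add]
    split_ifs <;> simp
  map_smul' r c := by
    ext i m
    simp only [Pi.smul_apply, coeff_mk, smul_eq_mul, RingHom.id_apply, PowerSeries.coeff_smul]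
    split_ifs <;> simp

theorem coeff_pol (c : Fin n × Fin M → R) (i : Fin n) (m : ℕ) :
    coeff m (pol n M c i) = if h : m < M then c (i, ⟨m, h⟩) else 0 := by
  simp [pol]

theorem tr_pol (c : Fin n × Fin M → R) : tr n M (pol n M c) = c := by
  ext ⟨i, j⟩
  simp [coeff_pol, j.2]

theorem exists_eq_pol_add (v : Fin n → R⟦X⟧) :
    ∃ w : Fin n → R⟦X⟧, v = pol n M (tr n M v) + (X : R⟦X⟧) ^ M • w := by
  have h : ∀ i, (X : R⟦X⟧) ^ M ∣ v i - pol n M (tr n M v) i := by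
    intro i
    rw [X_pow_dvd_iff]
    intro m hm
    simp [coeff_pol, hm]
  choose w hw using h
  refine ⟨w, ?_⟩
  ext1 i
  simp only [Pi.add_apply, Pi.smul_apply, smul_eq_mul]
  rw [← hw i]; ring

theorem tr_X_pow_smul (w : Fin n → R⟦X⟧) : tr n M ((X : R⟦X⟧) ^ M • w) = 0 := by
  ext ⟨i, j⟩
  simp only [tr_apply, Pi.smul_apply, smul_eq_mul, Pi.zero_apply]
  rw [coeff_X_pow_mul', if_neg (by have := j.2; omega)]

/-- `X` is a nonzerodivisor modulo an ideal of `R⟦X⟧` generated by constants. -/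
theorem mem_of_X_mul_mem {l : ℕ} (f : Fin l → R) (p : R⟦X⟧)
    (h : (X : R⟦X⟧) * p ∈ Ideal.span (Set.range fun i => (C (f i) : R⟦X⟧))) :
    p ∈ Ideal.span (Set.range fun i => (C (f i) : R⟦X⟧)) := by
  rw [Ideal.mem_span_range_iff_exists_fun] at h ⊢
  obtain ⟨g, hg⟩ := h
  refine ⟨fun i => PowerSeries.mk fun m => coeff (m + 1) (g i), ?_⟩
  apply X_mul_cancel
  rw [← hg, Finset.mul_sum]
  -- constant term vanishes
  have h0 : ∑ i, constantCoeff (g i) * f i = 0 := by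
    have := congrArg constantCoeff hg
    simpa using this
  have h1 : ∀ i, g i * C (f i) =
      X * ((PowerSeries.mk fun m => coeff (m + 1) (g i)) * C (f i)) +
        C (constantCoeff (g i) * f i) := by
    intro i
    conv_lhs => rw [eq_X_mul_shift_add_const (g i)]
    rw [map_mul]; ring
  rw [Finset.sum_congr rfl (fun i _ => h1 i), Finset.sum_add_distrib, ← map_sum, h0, map_zero,
    add_zero]

theorem mem_of_X_pow_mul_mem {l : ℕ} (f : Fin l → R) (M : ℕ) (p : R⟦X⟧)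
    (h : (X : R⟦X⟧) ^ M * p ∈ Ideal.span (Set.range fun i => (C (f i) : R⟦X⟧))) :
    p ∈ Ideal.span (Set.range fun i => (C (f i) : R⟦X⟧)) := by
  induction M with
  | zero => simpa using h
  | succ k ih =>
    apply ih
    apply mem_of_X_mul_mem
    rw [← mul_assoc, ← pow_succ']
    exact h

/-- Claim A'. -/
theorem exists_lattice_combination (Λ : Submodule R⟦X⟧ (Fin n → R⟦X⟧))
    (hΛ : ∀ v : Fin n → R⟦X⟧, ((X : R⟦X⟧) ^ M) • v ∈ Λ)
    [Module.Finite R⟦X⟧ Λ] [Module.Projective R⟦X⟧ Λ]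
    {l : ℕ} (f : Fin l → R) (v : Fin l → (Fin n → R⟦X⟧))
    (hv : ∑ i, (C (f i) : R⟦X⟧) • v i ∈ Λ) :
    ∃ lam : Fin l → Λ, ∑ i, (C (f i) : R⟦X⟧) • v i = ∑ i, (C (f i) : R⟦X⟧) • (lam i : Fin n → R⟦X⟧) := by
  classical
  obtain ⟨r, ρ, hρ⟩ := Module.Finite.exists_fin' R⟦X⟧ Λ
  obtain ⟨ι, hι⟩ := Module.projective_lifting_property ρ LinearMap.id hρ
  set lam0 : Λ := ⟨_, hv⟩ with hlam0
  set mu : Fin l → Λ := fun i => ⟨_, hΛ (v i)⟩ with hmu
  have h1 : ((X : R⟦X⟧) ^ M) • lam0 = ∑ i, (C (f i) : R⟦X⟧) • mu i := by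
    apply Subtype.ext
    simp only [hlam0, hmu, Submodule.coe_smul, Submodule.coe_sum, Finset.smul_sum]
    apply Finset.sum_congr rfl
    intro i _
    rw [smul_comm]
  set J : Ideal R⟦X⟧ := Ideal.span (Set.range fun i => (C (f i) : R⟦X⟧)) with hJ
  have h2 : ∀ c : Fin r, ι lam0 c ∈ J := by
    intro c
    apply mem_of_X_pow_mul_mem f M
    have := congrArg (fun w => ι w c) h1
    simp only [map_smul, map_sum, Pi.smul_apply, smul_eq_mul, Finset.sum_apply] at this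
    rw [this]
    refine Ideal.sum_mem _ fun i _ => ?_
    exact Ideal.mul_mem_right _ _ (Ideal.subset_span ⟨i, rfl⟩)
  simp only [hJ, Ideal.mem_span_range_iff_exists_fun] at h2
  choose g hg using h2
  refine ⟨fun i => ∑ c, g c i • ρ (Pi.single c 1), ?_⟩
  have h3 : lam0 = ρ (ι lam0) := by
    have := LinearMap.congr_fun hι lam0
    simpa using this.symm
  have h4 : ι lam0 = ∑ c, (ι lam0 c) • (Pi.single c 1 : Fin r → R⟦X⟧) := by
    ext c'
    simp [Finset.sum_apply, Pi.single_apply]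
  have h5 : (lam0 : Fin n → R⟦X⟧) = ∑ i, (C (f i) : R⟦X⟧) •
      ((∑ c, g c i • ρ (Pi.single c 1) : Λ) : Fin n → R⟦X⟧) := by
    conv_lhs => rw [h3, h4]
    rw [map_sum]
    simp only [map_smul, Submodule.coe_sum, Submodule.coe_smul, Finset.smul_sum]
    rw [Finset.sum_comm]
    apply Finset.sum_congr rfl
    intro c _
    rw [← hg c, Finset.sum_smul]
    apply Finset.sum_congr rfl
    intro i _
    rw [smul_smul, mul_comm]
  exact h5

theorem smul_eq_C_smul (r : R) (v : Fin n → R⟦X⟧) : r • v = (C r : R⟦X⟧) • v := by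
  ext i m
  simp

/-- `mk v = mk (pol (tr v))` in the quotient. -/
theorem mk_eq_mk_pol_tr (Λ : Submodule R⟦X⟧ (Fin n → R⟦X⟧))
    (hΛ : ∀ v : Fin n → R⟦X⟧, ((X : R⟦X⟧) ^ M) • v ∈ Λ) (v : Fin n → R⟦X⟧) :
    (Submodule.Quotient.mk v : (Fin n → R⟦X⟧) ⧸ Λ) = Submodule.Quotient.mk (pol n M (tr n M v)) := by
  obtain ⟨w, hw⟩ := exists_eq_pol_add (M := M) v
  rw [Submodule.Quotient.eq]
  have : v - pol n M (tr n M v) = (X : R⟦X⟧) ^ M • w := by
    rw [sub_eq_iff_eq_add, add_comm]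
    exact hw
  rw [this]
  exact hΛ w

theorem flat_quotient (Λ : Submodule R⟦X⟧ (Fin n → R⟦X⟧))
    (hΛ : ∀ v : Fin n → R⟦X⟧, ((X : R⟦X⟧) ^ M) • v ∈ Λ)
    [Module.Finite R⟦X⟧ Λ] [Module.Projective R⟦X⟧ Λ] :
    Module.Flat R ((Fin n → R⟦X⟧) ⧸ Λ) := by
  classical
  apply Module.Flat.of_forall_isTrivialRelation
  intro l f x hfx
  choose v hv using fun i => Submodule.Quotient.mk_surjective Λ (x i)
  have hmem : ∑ i, (C (f i) : R⟦X⟧) • v i ∈ Λ := by
    rw [← Submodule.Quotient.mk_eq_zero, ← hfx, ← Submodule.mkQ_apply, map_sum]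
    apply Finset.sum_congr rfl
    intro i _
    rw [← hv i, ← smul_eq_C_smul, Submodule.mkQ_apply, Submodule.Quotient.mk_smul]
  obtain ⟨lam, hlam⟩ := exists_lattice_combination Λ hΛ f v hmem
  set w : Fin l → (Fin n → R⟦X⟧) := fun i => v i - (lam i : Fin n → R⟦X⟧) with hw
  have hw0 : ∑ i, f i • w i = 0 := by
    simp only [hw, smul_sub, Finset.sum_sub_distrib, smul_eq_C_smul]
    rw [hlam, sub_self]
  have hwx : ∀ i, (Submodule.Quotient.mk (w i) : (Fin n → R⟦X⟧) ⧸ Λ) = x i := by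
    intro i
    rw [hw, Submodule.Quotient.mk_sub, hv i, (Submodule.Quotient.mk_eq_zero Λ).mpr (lam i).2, sub_zero]
  set e : Fin n × Fin M ≃ Fin (n * M) := finProdFinEquiv with he
  set g : (Fin n × Fin M → R) →ₗ[R] ((Fin n → R⟦X⟧) ⧸ Λ) :=
    (Λ.mkQ.restrictScalars R).comp (pol n M) with hg
  refine ⟨n * M, fun i κ => tr n M (w i) (e.symm κ),
    fun κ => g (Pi.single (e.symm κ) 1), ?_, ?_⟩
  · intro i
    rw [← hwx i, mk_eq_mk_pol_tr Λ hΛ (w i)]
    change g (tr n M (w i)) = _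
    rw [LinearMap.pi_apply_eq_sum_univ g (tr n M (w i))]
    rw [← Equiv.sum_comp e.symm]
    apply Finset.sum_congr rfl
    intro κ _
    congr 2
    ext κ'
    simp [Pi.single_apply, eq_comm]
  · intro κ
    have := congrArg (fun u => tr n M u (e.symm κ)) hw0
    simp only [map_sum, map_smul, Finset.sum_apply, Pi.smul_apply, smul_eq_mul, map_zero,
      Pi.zero_apply] at this
    exact this

/-- the presentation map `R^{nM} → F/Λ`. -/
noncomputable def pres (Λ : Submodule R⟦X⟧ (Fin n → R⟦X⟧)) (M : ℕ) :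
    (Fin n × Fin M → R) →ₗ[R] ((Fin n → R⟦X⟧) ⧸ Λ) :=
  (Λ.mkQ.restrictScalars R).comp (pol n M)

theorem pres_surjective (Λ : Submodule R⟦X⟧ (Fin n → R⟦X⟧))
    (hΛ : ∀ v : Fin n → R⟦X⟧, ((X : R⟦X⟧) ^ M) • v ∈ Λ) : Function.Surjective (pres Λ M) := by
  intro y
  obtain ⟨v, rfl⟩ := Submodule.Quotient.mk_surjective Λ y
  exact ⟨tr n M v, (mk_eq_mk_pol_tr Λ hΛ v).symm⟩

theorem finite_quotient (Λ : Submodule R⟦X⟧ (Fin n → R⟦X⟧))
    (hΛ : ∀ v : Fin n → R⟦X⟧, ((X : R⟦X⟧) ^ M) • v ∈ Λ) :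
    Module.Finite R ((Fin n → R⟦X⟧) ⧸ Λ) :=
  Module.Finite.of_surjective (pres Λ M) (pres_surjective Λ hΛ)

theorem pol_tr_mem (Λ : Submodule R⟦X⟧ (Fin n → R⟦X⟧))
    (hΛ : ∀ v : Fin n → R⟦X⟧, ((X : R⟦X⟧) ^ M) • v ∈ Λ) {u : Fin n → R⟦X⟧} (hu : u ∈ Λ) :
    pol n M (tr n M u) ∈ Λ := by
  obtain ⟨w, hw⟩ := exists_eq_pol_add (M := M) u
  have : pol n M (tr n M u) = u - (X : R⟦X⟧) ^ M • w := by
    rw [eq_sub_iff_add_eq]; exact hw.symm
  rw [this]
  exact Λ.sub_mem hu (hΛ w)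

/-- coefficient formula: `tr (p • s) = Σ_{j<M} coeff j p • tr (X^j • s)`. -/
theorem tr_smul_eq_sum (p : R⟦X⟧) (s : Fin n → R⟦X⟧) :
    tr n M (p • s) = ∑ j : Fin M, coeff (j : ℕ) p • tr n M ((X : R⟦X⟧) ^ (j : ℕ) • s) := by
  ext ⟨i, m⟩
  simp only [tr_apply, Pi.smul_apply, smul_eq_mul, Finset.sum_apply]
  rw [coeff_mul, Finset.Nat.sum_antidiagonal_eq_sum_range_succ (fun a b => coeff a p * coeff b (s i))]
  simp only [coeff_X_pow_mul']
  rw [← Fin.sum_univ_eq_sum_range (fun j => coeff j p * coeff (↑m - j) (s i)) (↑m + 1)]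
  -- compare sums over Fin (m+1) and Fin M
  have hmM : (m : ℕ) + 1 ≤ M := m.2
  rw [← Finset.sum_subset (Finset.subset_univ (Finset.univ.map (Fin.castLEEmb hmM)))]
  · rw [Finset.sum_map]
    apply Finset.sum_congr rfl
    intro j _
    simp only [Fin.castLEEmb_apply, Fin.val_castLE]
    rw [if_pos (by have := j.2; omega)]
  · intro j _ hj
    rw [if_neg, mul_zero]
    intro hle
    apply hj
    simp only [Finset.mem_map, Finset.mem_univ, true_and]
    exact ⟨⟨j, by omega⟩, by ext; simp⟩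

theorem ker_pres_fg (Λ : Submodule R⟦X⟧ (Fin n → R⟦X⟧))
    (hΛ : ∀ v : Fin n → R⟦X⟧, ((X : R⟦X⟧) ^ M) • v ∈ Λ) [hfin : Module.Finite R⟦X⟧ Λ] :
    (LinearMap.ker (pres Λ M)).FG := by
  classical
  obtain ⟨S, hS⟩ := (Module.Finite.iff_fg.mp hfin)
  set T : Finset (Fin n × Fin M → R) :=
    (S ×ˢ (Finset.univ : Finset (Fin M))).image (fun sj => tr n M ((X : R⟦X⟧) ^ (sj.2 : ℕ) • sj.1))
    with hT
  refine ⟨T, ?_⟩
  apply le_antisymm
  · rw [Submodule.span_le]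
    intro c hc
    rw [hT, Finset.coe_image] at hc
    obtain ⟨⟨s, j⟩, hsj, rfl⟩ := hc
    have hs : s ∈ Λ := by
      rw [← hS]
      exact Submodule.subset_span (Finset.mem_product.mp hsj).1
    rw [SetLike.mem_coe, LinearMap.mem_ker]
    change Submodule.Quotient.mk _ = 0
    rw [Submodule.Quotient.mk_eq_zero]
    exact pol_tr_mem Λ hΛ (Λ.smul_mem _ hs)
  · intro c hc
    rw [LinearMap.mem_ker] at hc
    have hc' : pol n M c ∈ Λ := (Submodule.Quotient.mk_eq_zero Λ).mp hc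
    -- the P-submodule of `u` with all `tr (p • u)` in the span
    let 𝒰 : Submodule R⟦X⟧ (Fin n → R⟦X⟧) :=
      { carrier := {u | ∀ p : R⟦X⟧, tr n M (p • u) ∈ Submodule.span R (T : Set (Fin n × Fin M → R))}
        zero_mem' := fun p => by simp
        add_mem' := fun {a b} ha hb p => by
          rw [smul_add, map_add]; exact Submodule.add_mem _ (ha p) (hb p)
        smul_mem' := fun q a ha p => by
          rw [smul_smul]; exact ha _ }
    have hSU : Λ ≤ 𝒰 := by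
      rw [← hS, Submodule.span_le]
      intro s hs p
      rw [tr_smul_eq_sum]
      refine Submodule.sum_mem _ fun j _ => Submodule.smul_mem _ _ (Submodule.subset_span ?_)
      rw [hT, Finset.coe_image]
      exact ⟨(s, j), Finset.mem_product.mpr ⟨hs, Finset.mem_univ _⟩, rfl⟩
    have := hSU hc' 1
    rwa [one_smul, tr_pol] at this

theorem finitePresentation_quotient (Λ : Submodule R⟦X⟧ (Fin n → R⟦X⟧))
    (hΛ : ∀ v : Fin n → R⟦X⟧, ((X : R⟦X⟧) ^ M) • v ∈ Λ) [Module.Finite R⟦X⟧ Λ] :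
    Module.FinitePresentation R ((Fin n → R⟦X⟧) ⧸ Λ) :=
  Module.finitePresentation_of_surjective (pres Λ M) (pres_surjective Λ hΛ) (ker_pres_fg Λ hΛ)

end basic

section charseq

variable (R : Type u) [CommRing R]
variable (Q : Type u) [AddCommGroup Q] [Module R Q] [Module R⟦X⟧ Q] [IsScalarTower R R⟦X⟧ Q]

/-- the multiplication map `R⟦X⟧ ⊗ Q → Q`. -/
noncomputable def mu : R⟦X⟧ ⊗[R] Q →ₗ[R⟦X⟧] Q :=
  LinearMap.liftBaseChange R⟦X⟧ (LinearMap.id : Q →ₗ[R] Q)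

@[simp] theorem mu_tmul (p : R⟦X⟧) (q : Q) : mu R Q (p ⊗ₜ q) = p • q := by
  simp [mu]

/-- multiplication by `X` on `Q`, as an `R`-linear map. -/
noncomputable def xmul : Q →ₗ[R] Q :=
  (LinearMap.lsmul R⟦X⟧ Q (X : R⟦X⟧)).restrictScalars R

@[simp] theorem xmul_apply (q : Q) : xmul R Q q = (X : R⟦X⟧) • q := rfl

theorem xmul_pow_apply (k : ℕ) (q : Q) : (xmul R Q ^ k) q = ((X : R⟦X⟧) ^ k) • q := by
  induction k generalizing q with
  | zero => simp
  | succ k ih => rw [pow_succ, Module.End.mul_apply, ih, xmul_apply, smul_smul, ← pow_succ]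

/-- `θ = X ⊗ 1 - 1 ⊗ x`. -/
noncomputable def theta : R⟦X⟧ ⊗[R] Q →ₗ[R⟦X⟧] R⟦X⟧ ⊗[R] Q :=
  LinearMap.lsmul R⟦X⟧ _ (X : R⟦X⟧) - LinearMap.baseChange R⟦X⟧ (xmul R Q)

theorem theta_tmul (p : R⟦X⟧) (q : Q) :
    theta R Q (p ⊗ₜ q) = ((X : R⟦X⟧) * p) ⊗ₜ q - p ⊗ₜ ((X : R⟦X⟧) • q) := by
  simp [theta, TensorProduct.smul_tmul']

theorem mu_comp_theta : (mu R Q).comp (theta R Q) = 0 := by
  apply TensorProduct.AlgebraTensorModule.curry_injective
  ext q
  simp [theta_tmul, smul_comm]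

theorem mu_surjective : Function.Surjective (mu R Q) := fun q => ⟨1 ⊗ₜ q, by simp⟩

/-- `θ` is injective when `X^M` kills `Q` and `Q` is `R`-flat. -/
theorem theta_injective [Module.Flat R Q] (M : ℕ) (hM : ∀ q : Q, ((X : R⟦X⟧) ^ M) • q = 0) :
    Function.Injective (theta R Q) := by
  rw [injective_iff_map_eq_zero]
  intro t ht
  set N : R⟦X⟧ ⊗[R] Q →ₗ[R⟦X⟧] R⟦X⟧ ⊗[R] Q := LinearMap.baseChange R⟦X⟧ (xmul R Q) with hN
  have h1 : (X : R⟦X⟧) • t = N t := by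
    have : theta R Q t = (X : R⟦X⟧) • t - N t := rfl
    rw [this] at ht
    exact sub_eq_zero.mp ht
  have h2 : ∀ k : ℕ, ((X : R⟦X⟧) ^ k) • t = (N ^ k) t := by
    intro k
    induction k with
    | zero => simp
    | succ k ih =>
      rw [pow_succ, mul_smul, h1, ← map_smul, ih, pow_succ', Module.End.mul_apply]
  have h3 : N ^ M = 0 := by
    have hpow : ∀ k : ℕ, N ^ k = LinearMap.baseChange R⟦X⟧ (xmul R Q ^ k) := by
      intro k
      induction k with
      | zero => simp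
      | succ k ih => rw [pow_succ, ih, hN, pow_succ, LinearMap.baseChange_mul]
    rw [hpow]
    have : xmul R Q ^ M = 0 := by
      ext q
      rw [xmul_pow_apply, hM]; rfl
    rw [this, LinearMap.baseChange_zero]
  have h4 : ((X : R⟦X⟧) ^ M) • t = 0 := by rw [h2, h3]; rfl
  -- `X^M` is a nonzerodivisor on the flat base change
  set m : R⟦X⟧ →ₗ[R] R⟦X⟧ := LinearMap.mulLeft R ((X : R⟦X⟧) ^ M) with hm
  have hminj : Function.Injective m := fun a b hab => X_pow_mul_cancel hab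
  have hinj := Module.Flat.rTensor_preserves_injective_linearMap (M := Q) m hminj
  have h5 : ∀ t' : R⟦X⟧ ⊗[R] Q, m.rTensor Q t' = ((X : R⟦X⟧) ^ M) • t' := by
    intro t'
    induction t' using TensorProduct.induction_on with
    | zero => simp
    | tmul p q => simp [hm, TensorProduct.smul_tmul']
    | add a b ha hb => rw [map_add, ha, hb, smul_add]
  apply hinj
  rw [h5, h4, map_zero]

/-- Every element is congruent mod `range θ` to some `1 ⊗ q`. -/
theorem exists_eq_theta_add (M : ℕ) (hM : ∀ q : Q, ((X : R⟦X⟧) ^ M) • q = 0)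
    (t : R⟦X⟧ ⊗[R] Q) : ∃ (s : R⟦X⟧ ⊗[R] Q) (q : Q), t = theta R Q s + (1 : R⟦X⟧) ⊗ₜ q := by
  -- the set of good elements is an additive subgroup
  have hadd : ∀ t₁ t₂ : R⟦X⟧ ⊗[R] Q,
      (∃ (s : R⟦X⟧ ⊗[R] Q) (q : Q), t₁ = theta R Q s + (1 : R⟦X⟧) ⊗ₜ q) →
      (∃ (s : R⟦X⟧ ⊗[R] Q) (q : Q), t₂ = theta R Q s + (1 : R⟦X⟧) ⊗ₜ q) →
      ∃ (s : R⟦X⟧ ⊗[R] Q) (q : Q), t₁ + t₂ = theta R Q s + (1 : R⟦X⟧) ⊗ₜ q := by
    rintro t₁ t₂ ⟨s₁, q₁, rfl⟩ ⟨s₂, q₂, rfl⟩
    refine ⟨s₁ + s₂, q₁ + q₂, ?_⟩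
    rw [map_add, TensorProduct.tmul_add]; abel
  -- key claim by induction
  have key : ∀ j : ℕ, j ≤ M → ∀ (p : R⟦X⟧) (q : Q),
      ∃ (s : R⟦X⟧ ⊗[R] Q) (q' : Q), p ⊗ₜ[R] (((X : R⟦X⟧) ^ (M - j)) • q) =
        theta R Q s + (1 : R⟦X⟧) ⊗ₜ q' := by
    intro j
    induction j with
    | zero =>
      intro _ p q
      refine ⟨0, 0, ?_⟩
      simp [hM]
    | succ j ih =>
      intro hj p q
      obtain ⟨q', hq'⟩ : ∃ q' : Q, q' = ((X : R⟦X⟧) ^ (M - (j + 1))) • q := ⟨_, rfl⟩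
      rw [← hq']
      set p₁ : R⟦X⟧ := PowerSeries.mk fun m => coeff (m + 1) p with hp₁
      have hp : p = X * p₁ + C (constantCoeff p) := eq_X_mul_shift_add_const p
      have hxq : (X : R⟦X⟧) • q' = ((X : R⟦X⟧) ^ (M - j)) • q := by
        rw [hq', smul_smul, ← pow_succ']
        congr 2
        omega
      obtain ⟨s₀, q₀, h₀⟩ := ih (by omega) p₁ q
      have h1 : p ⊗ₜ[R] q' = theta R Q (p₁ ⊗ₜ q') + p₁ ⊗ₜ[R] ((X : R⟦X⟧) • q') +
          (1 : R⟦X⟧) ⊗ₜ[R] (constantCoeff p • q') := by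
        rw [theta_tmul]
        conv_lhs => rw [hp]
        rw [TensorProduct.add_tmul]
        have : (C (constantCoeff p) : R⟦X⟧) ⊗ₜ[R] q' = (1 : R⟦X⟧) ⊗ₜ[R] (constantCoeff p • q') := by
          have h2 : (C (constantCoeff p) : R⟦X⟧) = constantCoeff p • (1 : R⟦X⟧) := by
            rw [PowerSeries.smul_eq_C_mul, mul_one]
          rw [h2, TensorProduct.smul_tmul]
        rw [this]; abel
      rw [h1, hxq, h₀]
      refine ⟨p₁ ⊗ₜ q' + s₀, q₀ + constantCoeff p • q', ?_⟩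
      rw [map_add, TensorProduct.tmul_add]; abel
  induction t using TensorProduct.induction_on with
  | zero => exact ⟨0, 0, by simp⟩
  | tmul p q =>
    have := key M le_rfl p q
    simpa using this
  | add a b ha hb => exact hadd a b ha hb

theorem range_theta_eq_ker_mu (M : ℕ) (hM : ∀ q : Q, ((X : R⟦X⟧) ^ M) • q = 0) :
    LinearMap.range (theta R Q) = LinearMap.ker (mu R Q) := by
  apply le_antisymm
  · rintro _ ⟨s, rfl⟩
    rw [LinearMap.mem_ker]
    exact LinearMap.congr_fun (mu_comp_theta R Q) s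
  · intro t ht
    rw [LinearMap.mem_ker] at ht
    obtain ⟨s, q, rfl⟩ := exists_eq_theta_add R Q M hM t
    rw [map_add, mu_tmul, one_smul] at ht
    have h0 : mu R Q (theta R Q s) = 0 := LinearMap.congr_fun (mu_comp_theta R Q) s
    rw [h0, zero_add] at ht
    rw [ht, TensorProduct.tmul_zero, add_zero]
    exact ⟨s, rfl⟩

end charseq

section final

variable {R : Type u} [CommRing R] {n M : ℕ}

theorem finite_projective_of_quotient_projective (Λ : Submodule R⟦X⟧ (Fin n → R⟦X⟧))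
    (hΛ : ∀ v : Fin n → R⟦X⟧, ((X : R⟦X⟧) ^ M) • v ∈ Λ)
    [hproj : Module.Projective R ((Fin n → R⟦X⟧) ⧸ Λ)] :
    Module.Finite R⟦X⟧ Λ ∧ Module.Projective R⟦X⟧ Λ := by
  set Q := (Fin n → R⟦X⟧) ⧸ Λ with hQ
  haveI : Module.Finite R Q := finite_quotient Λ hΛ
  have hM : ∀ q : Q, ((X : R⟦X⟧) ^ M) • q = 0 := by
    intro q
    obtain ⟨v, rfl⟩ := Submodule.Quotient.mk_surjective Λ q
    rw [← Submodule.Quotient.mk_smul, Submodule.Quotient.mk_eq_zero]
    exact hΛ v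
  set K := LinearMap.ker (mu R Q) with hK
  have eK : (R⟦X⟧ ⊗[R] Q) ≃ₗ[R⟦X⟧] K :=
    (LinearEquiv.ofInjective (theta R Q) (theta_injective R Q M hM)).trans
      (LinearEquiv.ofEq _ _ (range_theta_eq_ker_mu R Q M hM))
  haveI : Module.Projective R⟦X⟧ K := Module.Projective.of_equiv eK
  haveI : Module.Finite R⟦X⟧ K := Module.Finite.equiv eK
  set a : (Fin n → R⟦X⟧) →ₗ[R⟦X⟧] Q := Λ.mkQ with ha
  have ha_surj : Function.Surjective a := Submodule.mkQ_surjective Λ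
  obtain ⟨g, hg⟩ := Module.projective_lifting_property (mu R Q) a (mu_surjective R Q)
  obtain ⟨h, hh⟩ := Module.projective_lifting_property a (mu R Q) ha_surj
  have hgK : ∀ lam : Λ, -(g (lam : Fin n → R⟦X⟧)) ∈ K := by
    intro lam
    rw [hK, LinearMap.mem_ker, map_neg, neg_eq_zero]
    have := LinearMap.congr_fun hg (lam : Fin n → R⟦X⟧)
    simp only [LinearMap.coe_comp, Function.comp_apply] at this
    rw [this, ha, Submodule.mkQ_apply, Submodule.Quotient.mk_eq_zero]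
    exact lam.2
  set i2 : Λ →ₗ[R⟦X⟧] (Fin n → R⟦X⟧) × K :=
    LinearMap.prod Λ.subtype
      (LinearMap.codRestrict K (-(g.comp Λ.subtype)) (fun lam => by simpa using hgK lam)) with hi2
  set pre : (Fin n → R⟦X⟧) × K →ₗ[R⟦X⟧] (Fin n → R⟦X⟧) :=
    LinearMap.fst _ _ _ - h.comp ((K.subtype.comp (LinearMap.snd _ _ _)) + g.comp (LinearMap.fst _ _ _))
    with hpre
  have hpreΛ : ∀ x, pre x ∈ Λ := by
    rintro ⟨f, k⟩
    rw [← Submodule.Quotient.mk_eq_zero, ← Submodule.mkQ_apply, ← ha]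
    simp only [hpre, LinearMap.sub_apply, LinearMap.fst_apply, LinearMap.coe_comp,
      Function.comp_apply, LinearMap.add_apply, LinearMap.snd_apply, Submodule.coe_subtype, map_sub]
    have h1 := LinearMap.congr_fun hh ((k : R⟦X⟧ ⊗[R] Q) + g f)
    simp only [LinearMap.coe_comp, Function.comp_apply] at h1
    rw [h1, map_add]
    have h2 : mu R Q (k : R⟦X⟧ ⊗[R] Q) = 0 := k.2
    have h3 := LinearMap.congr_fun hg f
    simp only [LinearMap.coe_comp, Function.comp_apply] at h3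
    rw [h2, h3, zero_add, sub_self]
  set r2 : (Fin n → R⟦X⟧) × K →ₗ[R⟦X⟧] Λ := LinearMap.codRestrict Λ pre hpreΛ with hr2
  have hri : r2.comp i2 = LinearMap.id := by
    ext lam : 1
    apply Subtype.ext
    simp [hr2, hi2, hpre]
  refine ⟨?_, ?_⟩
  · refine Module.Finite.of_surjective r2 ?_
    intro lam
    exact ⟨i2 lam, LinearMap.congr_fun hri lam⟩
  · exact Module.Projective.of_split i2 r2 hri

theorem projective_quotient_of_finite_projective (Λ : Submodule R⟦X⟧ (Fin n → R⟦X⟧))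
    (hΛ : ∀ v : Fin n → R⟦X⟧, ((X : R⟦X⟧) ^ M) • v ∈ Λ)
    [Module.Finite R⟦X⟧ Λ] [Module.Projective R⟦X⟧ Λ] :
    Module.Projective R ((Fin n → R⟦X⟧) ⧸ Λ) := by
  haveI := flat_quotient Λ hΛ
  haveI := finitePresentation_quotient Λ hΛ
  exact Module.Flat.projective_of_finitePresentation

end final

end Groth.Agent.H1.PSLattice
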