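import Groth.Prelude.Def_Hens2
import Groth.Agent.Lib.Helper1.Henselian

/-! Henselization of pairs: invariance under change of ideal with the same radical. -/

set_option autoImplicit false
universe u

namespace Groth.Agent.H1


theorem map_le_radical_map_of_radical_le {A B : Type*} [CommRing A] [CommRing B] (f : A →+* B)
    {I J : Ideal A} (h : I ≤ J.radical) : I.map f ≤ (J.map f).radical := by
  rw [Ideal.map_le_iff_le_comap]
  intro x hx
  obtain ⟨n, hn⟩ := h hx
  exact ⟨n, by rw [← map_pow]; exact Ideal.mem_map_of_mem f hn⟩

theorem radical_map_eq_of_radical_eq {A B : Type*} [CommRing A] [CommRing B] (f : A →+* B)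
    {I J : Ideal A} (h : I.radical = J.radical) : (I.map f).radical = (J.map f).radical := by
  apply le_antisymm
  · rw [Ideal.radical_le_radical_iff]
    exact map_le_radical_map_of_radical_le f (h ▸ Ideal.le_radical)
  · rw [Ideal.radical_le_radical_iff]
    exact map_le_radical_map_of_radical_le f (h ▸ Ideal.le_radical)

theorem isPairHenselization_of_radical_eq (A : Type u) [CommRing A] (I J : Ideal A)
    (h : I.radical = J.radical) (B : Type u) [CommRing B] [Algebra A B]
    (hB : Hens2.IsPairHenselization A I B) : Hens2.IsPairHenselization A J B := by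
  obtain ⟨h1, h2⟩ := hB
  refine ⟨?_, ?_⟩
  · exact (henselianRing_iff_of_radical_eq _ _ (radical_map_eq_of_radical_eq _ h)).mp h1
  · intro C _ J' f hC hJ
    have hC' : HenselianRing C J'.radical := (henselianRing_radical_iff J').mpr hC
    refine h2 C J'.radical f hC' ?_
    refine (map_le_radical_map_of_radical_le f (h ▸ Ideal.le_radical)).trans ?_
    exact Ideal.radical_mono hJ

end Groth.Agent.H1
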