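import Mathlib
import Groth.Agent.Lib.Helper1.PairBridge

set_option autoImplicit false

namespace Groth.Agent.Lib.Helper1.PairLift

universe u

open CategoryTheory CategoryTheory.Limits AlgebraicGeometry TensorProduct IsLocalRing
open Groth.Agent.Lib.Helper1.ValLift

section AtW

variable {X Y : Scheme.{u}} (f : X ⟶ Y) {A : Type u} [CommRing A]
  (a : Spec (.of A) ⟶ Y) [IsOpenImmersion a] (W : X.Opens) (hW : IsAffineOpen W)
  (hle : W ≤ f ⁻¹ᵁ a.opensRange)

include hle in
theorem range_fromSpec_comp_subset : Set.range (hW.fromSpec ≫ f) ⊆ Set.range a := by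
  rintro _ ⟨x, rfl⟩
  have hx : hW.fromSpec x ∈ W := by
    have := Set.mem_range_self (f := hW.fromSpec) x
    rwa [hW.range_fromSpec] at this
  exact hle hx

/-- the ring map `A → Γ(X, W)` -/
noncomputable def φW : CommRingCat.of A ⟶ Γ(X, W) :=
  Spec.preimage (IsOpenImmersion.lift a (hW.fromSpec ≫ f) (range_fromSpec_comp_subset f a W hW hle))

/-- the algebra structure of `Γ(X, W)` over `A` -/
@[reducible] noncomputable def algW : Algebra A Γ(X, W) := (φW f a W hW hle).hom.toAlgebra

theorem habW :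
    letI := algW f a W hW hle
    hW.fromSpec ≫ f = Spec.map (CommRingCat.ofHom (algebraMap A Γ(X, W))) ≫ a := by
  letI := algW f a W hW hle
  have : CommRingCat.ofHom (algebraMap A Γ(X, W)) = φW f a W hW hle := rfl
  rw [this, φW, Spec.map_preimage, IsOpenImmersion.lift_fac]

/-- pair lifting for the affine open `W` -/
def LiftsPairAt (R : Type u) [CommRing R] [Algebra A R] (p' p : Ideal R) : Prop :=
  letI := algW f a W hW hle
  LiftsPair (incl A Γ(X, W) R) p' p

theorem liftsPairAt_of_specializes (R : Type u) [CommRing R] [Algebra A R]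
    {w' w : ↑(pullback (kR a R) f)} (hw : w' ⤳ w) (hwW : pullback.snd (kR a R) f w ∈ W) :
    LiftsPairAt f a W hW hle R (pullback.fst (kR a R) f w').asIdeal
      (pullback.fst (kR a R) f w).asIdeal := by
  letI := algW f a W hW hle
  have hb : IsOpenImmersion (show Spec (.of Γ(X, W)) ⟶ X from hW.fromSpec) :=
    inferInstanceAs (IsOpenImmersion hW.fromSpec)
  refine liftsPair_of_specializes f a (show Spec (.of Γ(X, W)) ⟶ X from hW.fromSpec)
    (habW f a W hW hle) R hw ?_
  change _ ∈ Set.range hW.fromSpec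
  rw [hW.range_fromSpec]
  exact hwW

theorem exists_specializes_of_liftsPairAt (R : Type u) [CommRing R] [Algebra A R]
    {p' p : Ideal R} (h : LiftsPairAt f a W hW hle R p' p) :
    ∃ w' w : ↑(pullback (kR a R) f), w' ⤳ w ∧ (pullback.fst (kR a R) f w').asIdeal = p' ∧
      (pullback.fst (kR a R) f w).asIdeal = p := by
  letI := algW f a W hW hle
  have hb : IsOpenImmersion (show Spec (.of Γ(X, W)) ⟶ X from hW.fromSpec) :=
    inferInstanceAs (IsOpenImmersion hW.fromSpec)
  exact exists_specializes_of_liftsPair f a (show Spec (.of Γ(X, W)) ⟶ X from hW.fromSpec)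
    (habW f a W hW hle) R h

theorem liftsPairAt_of_forall_fg {V : Type u} [CommRing V] [Algebra A V] [IsDomain V]
    (𝔪 : Ideal V) [𝔪.IsPrime]
    (H : ∀ R₀ : Subalgebra A V, R₀.FG → ∃ R : Subalgebra A V, R₀ ≤ R ∧ R.FG ∧
      LiftsPairAt f a W hW hle R ⊥ (contr 𝔪 R)) :
    LiftsPairAt f a W hW hle V ⊥ 𝔪 := by
  letI := algW f a W hW hle
  exact liftsPair_of_forall_fg 𝔪 H

end AtW

/-- **Limit criterion.**  For a quasi-compact morphism, pair lifting over the generic and closed
points of a local domain `V` follows from pair lifting over its finitely generated subalgebras. -/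
theorem exists_pair_of_forall_fg {X Y : Scheme.{u}} (f : X ⟶ Y) [QuasiCompact f]
    {A V : Type u} [CommRing A] [CommRing V] [Algebra A V] [IsDomain V] [IsLocalRing V]
    (a : Spec (.of A) ⟶ Y) [IsOpenImmersion a]
    (H : ∀ R : Subalgebra A V, R.FG → ∃ w' w : ↑(pullback (kR a R) f), w' ⤳ w ∧
        (pullback.fst (kR a R) f w').asIdeal = ⊥ ∧
        (pullback.fst (kR a R) f w).asIdeal = contr (maximalIdeal V) R) :
    ∃ w' w : ↑(pullback (kR a V) f), w' ⤳ w ∧ (pullback.fst (kR a V) f w').asIdeal = ⊥ ∧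
        (pullback.fst (kR a V) f w).asIdeal = maximalIdeal V := by
  classical
  have hU : IsAffineOpen a.opensRange := isAffineOpen_opensRange a
  obtain ⟨N, W, hW, hWle, hWcov⟩ := exists_fin_affineOpens_of_isCompact (f ⁻¹ᵁ a.opensRange)
    (QuasiCompact.isCompact_preimage (f := f) _ a.opensRange.2 hU.isCompact)
  -- at each finitely generated level some `W j` works
  have hlevel : ∀ R : Subalgebra A V, R.FG → ∃ j, LiftsPairAt f a (W j) (hW j) (hWle j) R ⊥
      (contr (maximalIdeal V) R) := by
    intro R hR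
    obtain ⟨w', w, hw, h1, h2⟩ := H R hR
    have hmem : pullback.snd (kR a R) f w ∈ f ⁻¹ᵁ a.opensRange := by
      change f (pullback.snd (kR a R) f w) ∈ Set.range a
      rw [← Scheme.Hom.comp_apply, ← pullback.condition]
      change (pullback.fst (kR a R) f ≫ Spec.map (CommRingCat.ofHom (algebraMap A R)) ≫ a) w ∈ _
      rw [Scheme.Hom.comp_apply, Scheme.Hom.comp_apply]
      exact Set.mem_range_self _
    obtain ⟨j, hj⟩ := hWcov _ hmem
    refine ⟨j, ?_⟩
    have := liftsPairAt_of_specializes f a (W j) (hW j) (hWle j) R hw hj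
    rwa [h1, h2] at this
  -- hence some `W j` works for `V`
  have hV : ∃ j, LiftsPairAt f a (W j) (hW j) (hWle j) V ⊥ (maximalIdeal V) := by
    by_contra hcon
    push Not at hcon
    have hex : ∀ j, ∃ R₀ : Subalgebra A V, R₀.FG ∧ ∀ R : Subalgebra A V, R₀ ≤ R → R.FG →
        ¬ LiftsPairAt f a (W j) (hW j) (hWle j) R ⊥ (contr (maximalIdeal V) R) := by
      intro j
      by_contra hj
      push Not at hj
      apply hcon j
      apply liftsPairAt_of_forall_fg
      intro R₀ hR₀
      obtain ⟨R, h1, h2, h3⟩ := hj R₀ hR₀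
      exact ⟨R, h1, h2, h3⟩
    choose R₀ hR₀ hR₀' using hex
    let Rs : Subalgebra A V := Finset.univ.sup R₀
    have hRs : Rs.FG := by
      refine Finset.sup_induction Subalgebra.fg_bot (fun _ h1 _ h2 => h1.sup h2) ?_
      intro j _
      exact hR₀ j
    obtain ⟨j, hj⟩ := hlevel Rs hRs
    exact hR₀' j Rs (Finset.le_sup (Finset.mem_univ j)) hRs hj
  obtain ⟨j, hj⟩ := hV
  exact exists_specializes_of_liftsPairAt f a (W j) (hW j) (hWle j) V hj

end Groth.Agent.Lib.Helper1.PairLift
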