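import Mathlib
import Groth.Prelude.Def_HTop
import Groth.Agent.Lib.Helper1.PhCov

set_option autoImplicit false

namespace Groth.Agent.Lib.Helper1.PhSheaf

open CategoryTheory CategoryTheory.Limits AlgebraicGeometry HTop TopologicalSpace IsLocalRing

universe v w w' u

/-- a family obtained by restricting a proper surjective morphism to an open cover of its source
(no affineness or finiteness) -/
def IsPhLike {T : Scheme.{u}} (E : PreZeroHypercover.{w} T) : Prop :=
  ∃ (U : Scheme.{u}) (f : U ⟶ T) (ι : ∀ j, E.X j ⟶ U),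
    IsProper f ∧ Surjective f ∧ (∀ j, IsOpenImmersion (ι j)) ∧ (∀ j, ι j ≫ f = E.f j) ∧
      ∀ x : U, ∃ j, x ∈ Set.range (ι j).base

theorem isPhLike_of_isStandardPh {T : Scheme.{u}} (E : PreZeroHypercover.{w} T)
    (hE : IsStandardPh E) : IsPhLike E := hE.exists_proper

theorem exists_preimage_of_isPullback {P X Y S : Scheme.{u}} {fst : P ⟶ X} {snd : P ⟶ Y}
    {f : X ⟶ S} {g : Y ⟶ S} (h : IsPullback fst snd f g) (x : X) (y : Y) (hxy : f x = g y) :
    ∃ z : P, fst z = x ∧ snd z = y := by
  obtain ⟨z, hz1, hz2⟩ := Scheme.Pullback.exists_preimage_pullback (f := f) (g := g) x y hxy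
  refine ⟨h.isoPullback.inv z, ?_, ?_⟩
  · rw [← Scheme.Hom.comp_apply, h.isoPullback_inv_fst, hz1]
  · rw [← Scheme.Hom.comp_apply, h.isoPullback_inv_snd, hz2]

theorem isPhLike_pullback₂ {T Y : Scheme.{u}} (E : PreZeroHypercover.{w} T) (hE : IsPhLike E)
    (g : Y ⟶ T) : IsPhLike (E.pullback₂ g) := by
  obtain ⟨U, f, ι, hf, hs, hι, hfac, hcov⟩ := hE
  let ι' : ∀ j, pullback (E.f j) g ⟶ pullback f g := fun j =>
    pullback.lift (pullback.fst (E.f j) g ≫ ι j) (pullback.snd (E.f j) g) (by
      rw [Category.assoc, hfac j, pullback.condition])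
  have hι'fst : ∀ j, ι' j ≫ pullback.fst f g = pullback.fst (E.f j) g ≫ ι j := fun j =>
    pullback.lift_fst _ _ _
  have hι'snd : ∀ j, ι' j ≫ pullback.snd f g = pullback.snd (E.f j) g := fun j =>
    pullback.lift_snd _ _ _
  have hpb : ∀ j, IsPullback (pullback.fst (E.f j) g) (ι' j) (ι j) (pullback.fst f g) := by
    intro j
    have hbig : IsPullback (pullback.fst (E.f j) g) (pullback.snd (E.f j) g) (ι j ≫ f) g := by
      rw [hfac j]; exact IsPullback.of_hasPullback (E.f j) g
    exact IsPullback.of_bot (h₁₁ := pullback.fst (E.f j) g) (v₁₁ := ι' j) (v₁₂ := ι j)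
      (h₂₁ := pullback.fst f g) (v₂₁ := pullback.snd f g) (v₂₂ := f) (h₃₁ := g)
      (by rw [hι'snd j]; exact hbig) (hι'fst j).symm (IsPullback.of_hasPullback f g)
  refine ⟨pullback f g, pullback.snd f g, ι', inferInstance, inferInstance, ?_, hι'snd, ?_⟩
  · intro j
    have := hι j
    exact MorphismProperty.of_isPullback (P := @IsOpenImmersion) (hpb j) (hι j)
  · intro x
    obtain ⟨j, a, ha⟩ := hcov (pullback.fst f g x)
    obtain ⟨z, hz1, hz2⟩ := exists_preimage_of_isPullback (hpb j) a x ha
    exact ⟨j, z, hz2⟩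

section

variable {F : Scheme.{u}ᵒᵖ ⥤ Type v}
  (hzar : Presieve.IsSheaf Scheme.zariskiTopology F)
  (h₂ : ∀ (U V : Scheme.{u}) (f : V ⟶ U), IsProper f → Surjective f →
    Presieve.IsSheafFor F (Presieve.singleton f))

include hzar h₂ in
theorem isSheafFor_of_isPhLike {T : Scheme.{u}} (E : PreZeroHypercover.{w} T) (hE : IsPhLike E) :
    Presieve.IsSheafFor F (.ofArrows E.X E.f) := by
  obtain ⟨U, f, ι, hf, hs, hι, hfac, hcov⟩ := hE
  rw [Presieve.isSheafFor_iff_generate]
  apply Presieve.isSheafFor_trans F (Sieve.generate (Presieve.singleton f)) _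
  · rw [← Presieve.isSheafFor_iff_generate]
    exact h₂ _ _ f hf hs
  · intro Y g _
    rw [← Sieve.pullbackArrows_comm, ← Presieve.isSeparatedFor_iff_generate,
      Presieve.pullback_singleton]
    exact (h₂ _ _ (pullback.snd f g) inferInstance inferInstance).isSeparatedFor
  · rintro Y g ⟨W, a, _, ⟨⟩, rfl⟩
    rw [Sieve.pullback_comp]
    apply hzar
    apply Scheme.zariskiTopology.pullback_stable
    have hmem : Sieve.generate (Presieve.ofArrows E.X ι) ∈ Scheme.zariskiTopology U := by
      apply Precoverage.generate_mem_toGrothendieck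
      rw [Scheme.ofArrows_mem_precoverage_iff]
      exact ⟨hcov, hι⟩
    refine Scheme.zariskiTopology.superset_covering ?_ hmem
    rw [Sieve.generate_le_iff]
    rintro _ _ ⟨j⟩
    change (Sieve.generate (Presieve.ofArrows E.X E.f)).arrows (ι j ≫ f)
    rw [hfac j]
    exact Sieve.le_generate _ _ _ (Presieve.ofArrows.mk j)

include hzar h₂ in
theorem isSheafFor_pullback_of_isPhCover {X : Scheme.{u}} (E : PreZeroHypercover.{w} X)
    (hE : IsPhCover E) (U : X.Opens) (hU : IsAffineOpen U) {Y : Scheme.{u}}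
    (a : Y ⟶ (U : Scheme.{u})) :
    Presieve.IsSheafFor F ((Sieve.generate E.presieve₀).pullback (a ≫ U.ι)).arrows := by
  obtain ⟨C, hC, hCR⟩ := hE.2 ⟨U, hU⟩
  have hCa : IsPhLike (C.pullback₂ a) := isPhLike_pullback₂ C (isPhLike_of_isStandardPh C hC) a
  apply Presieve.isSheafFor_subsieve_aux (S := Sieve.generate (C.pullback₂ a).presieve₀)
  · change Sieve.generate (C.pullback₂ a).presieve₀ ≤
      (Sieve.generate E.presieve₀).pullback (a ≫ U.ι)
    rw [Sieve.generate_le_iff]
    rintro _ _ ⟨k⟩
    obtain ⟨i, h, hh⟩ := hCR k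
    change (Sieve.generate E.presieve₀).arrows (pullback.snd (C.f k) a ≫ a ≫ U.ι)
    have : pullback.snd (C.f k) a ≫ a ≫ U.ι = (pullback.fst (C.f k) a ≫ h) ≫ E.f i := by
      rw [Category.assoc, hh, ← Category.assoc, ← Category.assoc, pullback.condition]
    rw [this]
    exact Sieve.downward_closed _ (Sieve.le_generate _ _ _ (Presieve.ofArrows.mk i)) _
  · rw [← Presieve.isSheafFor_iff_generate]
    exact isSheafFor_of_isPhLike hzar h₂ _ hCa
  · intro Y' g _
    rw [← Sieve.pullbackArrows_comm, ← Presieve.isSeparatedFor_iff_generate,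
      ← PreZeroHypercover.presieve₀_pullback₁]
    exact (isSheafFor_of_isPhLike hzar h₂ _ (isPhLike_pullback₂ _ hCa g)).isSeparatedFor

include hzar h₂ in
theorem isSheafFor_of_isPhCover {X : Scheme.{u}} (E : PreZeroHypercover.{w} X)
    (hE : IsPhCover E) : Presieve.IsSheafFor F E.presieve₀ := by
  refine X.affineOneHypercover.isSheafFor_of_pullback hzar (fun i => ?_) (fun i j k => ?_)
  · have : IsAffine (X.affineOneHypercover.X i) := by
      change IsAffine (Spec _)
      infer_instance
    have : IsOpenImmersion (X.affineOneHypercover.f i) := by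
      change IsOpenImmersion (X.affineCover.f i)
      infer_instance
    rw [← (X.affineOneHypercover.f i).isoOpensRange_hom_ι]
    exact isSheafFor_pullback_of_isPhCover hzar h₂ E hE _
      (isAffineOpen_opensRange (X.affineOneHypercover.f i)) _
  · have : IsAffine (X.affineOneHypercover.X i) := by
      change IsAffine (Spec _)
      infer_instance
    have : IsOpenImmersion (X.affineOneHypercover.f i) := by
      change IsOpenImmersion (X.affineCover.f i)
      infer_instance
    apply Presieve.IsSheafFor.isSeparatedFor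
    rw [← (X.affineOneHypercover.f i).isoOpensRange_hom_ι, ← Category.assoc]
    exact isSheafFor_pullback_of_isPhCover hzar h₂ E hE _
      (isAffineOpen_opensRange (X.affineOneHypercover.f i)) _

end

end Groth.Agent.Lib.Helper1.PhSheaf
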