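import Mathlib
import Groth.Agent.Lib.Helper1.GeomRed
import Groth.Agent.Lib.Helper8.HensGN.HensGN2

/-! Helper1: the fraction field of a power series ring over a field `k` is geometrically reduced
(separable) over `k`. -/

set_option autoImplicit false
set_option linter.style.haveILetI false
universe u v
open TensorProduct

namespace Groth.Agent.H1.PowSerSep

variable (k : Type u) [Field k] (k' : Type u) [Field k'] [Algebra k k'] (σ : Type v)

/-- the comparison map `k' ⊗ k[[T]] → k'[[T]]`. -/
noncomputable def cmp : k' ⊗[k] MvPowerSeries σ k →ₐ[k] MvPowerSeries σ k' :=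
  Algebra.TensorProduct.productMap
    ((Algebra.ofId k' (MvPowerSeries σ k')).restrictScalars k)
    (MvPowerSeries.mapAlgHom (σ := σ) (Algebra.ofId k k'))

theorem cmp_tmul (c : k') (f : MvPowerSeries σ k) :
    cmp k k' σ (c ⊗ₜ f) = MvPowerSeries.C c * MvPowerSeries.map (algebraMap k k') f := by
  simp only [cmp, Algebra.TensorProduct.productMap_apply_tmul]
  rfl

theorem cmp_injective [Module.Finite k k'] : Function.Injective (cmp k k' σ) := by
  classical
  rw [injective_iff_map_eq_zero]
  intro z hz
  let ℬ := Module.finBasis k k'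
  obtain ⟨c, rfl⟩ := (TensorProduct.equivFinsuppOfBasisLeft (N := MvPowerSeries σ k) ℬ).symm.surjective z
  rw [TensorProduct.equivFinsuppOfBasisLeft_symm_apply] at hz ⊢
  suffices h : c = 0 by rw [h]; simp
  ext i n
  rw [Finsupp.sum, map_sum] at hz
  have hn := congr(MvPowerSeries.coeff n $hz)
  simp only [map_sum, cmp_tmul, MvPowerSeries.coeff_C_mul, MvPowerSeries.coeff_map,
    map_zero] at hn
  -- linear independence
  have hli := ℬ.linearIndependent
  rw [linearIndependent_iff'] at hli
  have h2 := hli c.support (fun j => MvPowerSeries.coeff n (c j)) (by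
    rw [← hn]
    refine Finset.sum_congr rfl fun j _ => ?_
    rw [Algebra.smul_def, mul_comm])
  by_cases hi : i ∈ c.support
  · simpa using h2 i hi
  · have : c i = 0 := Finsupp.notMem_support_iff.mp hi
    simp [this]

theorem isDomain_tensor [Module.Finite k k'] : IsDomain (k' ⊗[k] MvPowerSeries σ k) := by
  haveI : IsDomain (MvPowerSeries σ k') := NoZeroDivisors.to_isDomain _
  exact (cmp_injective k k' σ).isDomain (cmp k k' σ).toRingHom

theorem main (r : ℕ) :
    Algebra.IsGeometricallyReduced k (FractionRing (MvPowerSeries (Fin r) k)) := by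
  rw [Algebra.isGeometricallyReduced_field_iff]
  apply Groth.Agent.H1.GeomRed.red_algClosure_of_finite_insep
  intro k' _ _ _ _
  haveI := isDomain_tensor k k' (Fin r)
  haveI : IsDomain (k' ⊗[k] FractionRing (MvPowerSeries (Fin r) k)) := by
    refine Groth.Agent.H8.Jap.HensGN.isDomain_tensor_localization k k' (MvPowerSeries (Fin r) k)
      (FractionRing (MvPowerSeries (Fin r) k)) (nonZeroDivisors (MvPowerSeries (Fin r) k))
      (fun m hm h0 => ?_)
    have hinj : Function.Injective (Algebra.TensorProduct.includeRight :
        MvPowerSeries (Fin r) k →ₐ[k] k' ⊗[k] MvPowerSeries (Fin r) k) :=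
      Algebra.TensorProduct.includeRight_injective (algebraMap k k').injective
    have : m = 0 := hinj (by simpa using h0)
    exact nonZeroDivisors.ne_zero hm this
  infer_instance

end Groth.Agent.H1.PowSerSep
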