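import Mathlib
import Groth.Agent.Lib.Helper1.CMDecomp
import Groth.Agent.Lib.Helper6.FiberDict
import Groth.Agent.Lib.Helper6.CMKit
import Groth.Agent.Lib.Helper6.FibLoc
import Groth.Agent.Lib.Helper1.Chev2

/-! Helper1: for a finite type algebra with Cohen–Macaulay equidimensional fibres, the locus where
given elements form a regular sequence in the fibre local ring is open in their zero locus
(S9174). -/

set_option autoImplicit false
set_option linter.style.haveILetI false
universe u

namespace Groth.Agent.H1.RegLocus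

open AlgebraicGeometry CategoryTheory TopologicalSpace Topology TensorProduct RingTheory.Sequence

section Alg

/-- (after helper6 `AInvPoly3`) a weakly regular sequence drops the support dimension by at
least its length. -/
theorem supportDim_add_length_le {R : Type u} [CommRing R] :
    ∀ (rs : List R) (M : Type u) [AddCommGroup M] [Module R M] [Module.Finite R M]
    (_ : IsWeaklyRegular M rs),
    Module.supportDim R (M ⧸ Ideal.ofList rs • (⊤ : Submodule R M)) + rs.length ≤
      Module.supportDim R M := by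
  intro rs
  induction rs with
  | nil =>
    intro M _ _ _ _
    rw [Ideal.ofList_nil, Submodule.bot_smul]
    simpa using (Module.supportDim_eq_of_equiv
      (Submodule.quotEquivOfEqBot (⊥ : Submodule R M) rfl)).le
  | cons x rs' ih =>
    intro M _ _ _ reg
    rw [isWeaklyRegular_cons_iff] at reg
    have h1 := Module.supportDim_eq_of_equiv
      (Submodule.quotOfListConsSMulTopEquivQuotSMulTopInner M x rs')
    have h2 := ih (QuotSMulTop x M) reg.2
    have h3 : Module.supportDim R (QuotSMulTop x M) + 1 ≤ Module.supportDim R M :=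
      Module.supportDim_quotSMulTop_succ_le_of_notMem_minimalPrimes
        (fun _ => reg.1.notMem_of_mem_minimalPrimes)
    rw [h1, List.length_cons, Nat.cast_add, Nat.cast_one, ← add_assoc]
    exact le_trans (add_le_add_left h2 1) h3

theorem ringKrullDim_quotient_add_length_le {R : Type u} [CommRing R] (rs : List R)
    (reg : IsWeaklyRegular R rs) :
    ringKrullDim (R ⧸ Ideal.ofList rs) + rs.length ≤ ringKrullDim R := by
  have eq : Ideal.ofList rs = Ideal.ofList rs • (⊤ : Ideal R) := by simp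
  rw [ringKrullDim_eq_of_ringEquiv (Ideal.quotientEquivAlgOfEq R eq).toRingEquiv,
    ← Module.supportDim_quotient_eq_ringKrullDim, ← Module.supportDim_self_eq_ringKrullDim]
  exact supportDim_add_length_le rs R reg

theorem nat_of_le_of_nonneg {x : WithBot ℕ∞} {n : ℕ} (h0 : 0 ≤ x) (h1 : x ≤ n) :
    ∃ m : ℕ, x = m := by
  induction x using WithBot.recBotCoe with
  | bot => exact absurd h0 (by simp)
  | coe x =>
    have hx : x ≤ (n : ℕ∞) := WithBot.coe_le_coe.mp h1
    obtain ⟨m, hm⟩ := ENat.ne_top_iff_exists.mp (ne_top_of_le_ne_top (ENat.natCast_ne_top n) hx)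
    exact ⟨m, by rw [← hm]; rfl⟩

theorem arith {a a' δ : WithBot ℕ∞} {d i : ℕ} (h : a + δ = d) (ha0 : 0 ≤ a) (hδ0 : 0 ≤ δ)
    (h0 : 0 ≤ a') (hle : a' ≤ a) : a' + δ + i ≤ d ↔ a' + i ≤ a := by
  have had : a ≤ d := by rw [← h]; exact le_add_of_nonneg_right hδ0
  have hδd : δ ≤ d := by rw [← h]; exact le_add_of_nonneg_left ha0
  obtain ⟨m, rfl⟩ := nat_of_le_of_nonneg ha0 had
  obtain ⟨n, rfl⟩ := nat_of_le_of_nonneg hδ0 hδd
  obtain ⟨m', rfl⟩ := nat_of_le_of_nonneg h0 hle
  norm_cast at h ⊢
  omega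

/-- **regular sequences in a Cohen–Macaulay local ring are detected by the dimension drop.** -/
theorem isRegular_iff_dim (A : Type u) [CommRing A] [hA : LocCoh.IsCohenMacaulayLocalRing A]
    (xs : List A) (hmem : ∀ x ∈ xs, x ∈ IsLocalRing.maximalIdeal A) :
    IsRegular A xs ↔
      ringKrullDim (A ⧸ Ideal.ofList xs) + (xs.length : WithBot ℕ∞) ≤ ringKrullDim A := by
  haveI : IsNoetherianRing A := inferInstance
  haveI : IsLocalRing A := inferInstance
  have h2 : Ideal.ofList xs • (⊤ : Submodule A A) = Ideal.ofList xs := by simp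
  have hsd : Module.supportDim A (A ⧸ (Ideal.ofList xs • (⊤ : Submodule A A))) =
      ringKrullDim (A ⧸ Ideal.ofList xs) := by
    rw [Module.supportDim_eq_of_equiv (Submodule.quotEquivOfEq _ _ h2),
      Module.supportDim_quotient_eq_ringKrullDim]
  have hge := Groth.Agent.H6.CM.supportDim_le_add_length xs A hmem
  rw [Module.supportDim_self_eq_ringKrullDim, hsd] at hge
  constructor
  · intro hreg
    exact ringKrullDim_quotient_add_length_le xs hreg.toIsWeaklyRegular
  · intro hle
    have heq := le_antisymm hle hge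
    refine ⟨Groth.Agent.H6.CM.isWeaklyRegular_of_supportDim xs A hA.supportDim_eq_depth hmem
      (by rw [hsd, Module.supportDim_self_eq_ringKrullDim]; exact heq), ?_⟩
    rw [h2]
    intro htop
    have hle' : Ideal.ofList xs ≤ IsLocalRing.maximalIdeal A := Ideal.span_le.mpr hmem
    rw [← htop] at hle'
    exact (IsLocalRing.maximalIdeal.isMaximal A).ne_top (top_le_iff.mp hle')

theorem dim_fibLocRing_congr {R S : Type u} [CommRing R] [CommRing S] [Algebra R S]
    {r r' : Ideal S} [r.IsPrime] [r'.IsPrime] (h : r = r') :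
    ringKrullDim (EGA4.FibLocRing R S r) = ringKrullDim (EGA4.FibLocRing R S r') := by
  subst h
  rfl

theorem cm_fibLocRing_congr {R S : Type u} [CommRing R] [CommRing S] [Algebra R S]
    {r r' : Ideal S} [r.IsPrime] [r'.IsPrime] (h : r = r')
    (hcm : LocCoh.IsCohenMacaulayLocalRing (EGA4.FibLocRing R S r)) :
    LocCoh.IsCohenMacaulayLocalRing (EGA4.FibLocRing R S r') := by
  subst h
  exact hcm

set_option backward.isDefEq.respectTransparency false in
/-- the fibre local ring of a quotient `S ⧸ I` is the quotient of the fibre local ring of `S`. -/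
theorem dim_fibLocRing_quot (R S : Type u) [CommRing R] [CommRing S] [Algebra R S] (I : Ideal S)
    (y : Ideal (S ⧸ I)) [y.IsPrime] :
    ringKrullDim (EGA4.FibLocRing R (S ⧸ I) y) =
      ringKrullDim (EGA4.FibLocRing R S (y.comap (Ideal.Quotient.mk I)) ⧸
        I.map (algebraMap S (EGA4.FibLocRing R S (y.comap (Ideal.Quotient.mk I))))) := by
  let q : Ideal S := y.comap (Ideal.Quotient.mk I)
  let Iq : Ideal (Localization.AtPrime q) := I.map (algebraMap S (Localization.AtPrime q))
  haveI : y.LiesOver q := ⟨rfl⟩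
  have hM : Algebra.algebraMapSubmonoid (S ⧸ I) q.primeCompl = y.primeCompl :=
    Ideal.algebraMapSubmonoid_primeCompl_of_liesOver_surjective (p := q) (P := y)
      Ideal.Quotient.mk_surjective
  haveI hloc : IsLocalization y.primeCompl (Localization.AtPrime q ⧸ Iq) := by
    rw [← hM]; infer_instance
  let e₁ : Localization.AtPrime y ≃ₐ[S ⧸ I] (Localization.AtPrime q ⧸ Iq) :=
    IsLocalization.algEquiv y.primeCompl _ _
  let p : Ideal R := y.comap (algebraMap R (S ⧸ I))
  have hcomp : (e₁.toRingEquiv : Localization.AtPrime y →+* Localization.AtPrime q ⧸ Iq).comp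
      (algebraMap R (Localization.AtPrime y)) = algebraMap R (Localization.AtPrime q ⧸ Iq) := by
    ext r
    rw [RingHom.comp_apply, IsScalarTower.algebraMap_apply R (S ⧸ I) (Localization.AtPrime y)]
    change e₁ (algebraMap (S ⧸ I) _ _) = _
    rw [e₁.commutes]
    rfl
  let E₂ : EGA4.FibLocRing R (S ⧸ I) y ≃+*
      (Localization.AtPrime q ⧸ Iq) ⧸ p.map (algebraMap R (Localization.AtPrime q ⧸ Iq)) :=
    Ideal.quotientEquiv _ _ e₁.toRingEquiv (by rw [Ideal.map_map, hcomp])
  have h2 : p.map (algebraMap R (Localization.AtPrime q ⧸ Iq)) =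
      (p.map (algebraMap R (Localization.AtPrime q))).map (Ideal.Quotient.mk Iq) := by
    rw [Ideal.map_map]; rfl
  let E₃ := DoubleQuot.quotQuotEquivComm Iq (p.map (algebraMap R (Localization.AtPrime q)))
  have h3 : Iq.map (Ideal.Quotient.mk (p.map (algebraMap R (Localization.AtPrime q)))) =
      I.map (algebraMap S (EGA4.FibLocRing R S q)) := by
    rw [Ideal.map_map]; rfl
  have k1 : ringKrullDim (EGA4.FibLocRing R (S ⧸ I) y) =
      ringKrullDim ((Localization.AtPrime q ⧸ Iq) ⧸
        p.map (algebraMap R (Localization.AtPrime q ⧸ Iq))) := ringKrullDim_eq_of_ringEquiv E₂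
  have k2 : ringKrullDim ((Localization.AtPrime q ⧸ Iq) ⧸
        p.map (algebraMap R (Localization.AtPrime q ⧸ Iq))) =
      ringKrullDim ((Localization.AtPrime q ⧸ Iq) ⧸
        (p.map (algebraMap R (Localization.AtPrime q))).map (Ideal.Quotient.mk Iq)) :=
    ringKrullDim_eq_of_ringEquiv (Ideal.quotEquivOfEq h2)
  have k3 : ringKrullDim ((Localization.AtPrime q ⧸ Iq) ⧸
        (p.map (algebraMap R (Localization.AtPrime q))).map (Ideal.Quotient.mk Iq)) =
      ringKrullDim ((Localization.AtPrime q ⧸ p.map (algebraMap R (Localization.AtPrime q))) ⧸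
        Iq.map (Ideal.Quotient.mk (p.map (algebraMap R (Localization.AtPrime q))))) :=
    ringKrullDim_eq_of_ringEquiv E₃
  have k4 : ringKrullDim ((Localization.AtPrime q ⧸ p.map (algebraMap R (Localization.AtPrime q))) ⧸
        Iq.map (Ideal.Quotient.mk (p.map (algebraMap R (Localization.AtPrime q))))) =
      ringKrullDim (EGA4.FibLocRing R S q ⧸ I.map (algebraMap S (EGA4.FibLocRing R S q))) :=
    ringKrullDim_eq_of_ringEquiv (Ideal.quotEquivOfEq h3)
  exact k1.trans (k2.trans (k3.trans k4))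

/-- the residue rings of the fibres of `S` and `S ⧸ I` at corresponding primes agree. -/
theorem dim_quot_fiber (R S : Type u) [CommRing R] [CommRing S] [Algebra R S] (I : Ideal S)
    (p : Ideal R) [p.IsPrime] (Q' : Ideal (p.Fiber (S ⧸ I))) [Q'.IsPrime] :
    ringKrullDim (p.Fiber S ⧸ Q'.comap
      (Algebra.TensorProduct.map (AlgHom.id p.ResidueField p.ResidueField)
        (Ideal.Quotient.mkₐ R I))) = ringKrullDim (p.Fiber (S ⧸ I) ⧸ Q') := by
  let σ : p.Fiber S →ₐ[p.ResidueField] p.Fiber (S ⧸ I) :=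
    Algebra.TensorProduct.map (AlgHom.id p.ResidueField p.ResidueField) (Ideal.Quotient.mkₐ R I)
  have hσ : Function.Surjective σ :=
    Algebra.TensorProduct.map_surjective _ _ Function.surjective_id
      (Ideal.Quotient.mkₐ_surjective R I)
  let φ : p.Fiber S →+* p.Fiber (S ⧸ I) ⧸ Q' := (Ideal.Quotient.mk Q').comp σ.toRingHom
  have hφ : Function.Surjective φ := Ideal.Quotient.mk_surjective.comp hσ
  have hker : RingHom.ker φ = Q'.comap σ := by
    ext x
    rw [RingHom.mem_ker, Ideal.mem_comap]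
    exact Ideal.Quotient.eq_zero_iff_mem
  rw [← hker]
  exact ringKrullDim_eq_of_ringEquiv (RingHom.quotientKerEquivOfSurjective hφ)

end Alg

section Key

variable (R S : Type u) [CommRing R] [CommRing S] [Algebra R S] [Algebra.FiniteType R S]

open Groth.Agent.H6

set_option backward.isDefEq.respectTransparency false in
theorem fibreDimAt_eq_height_add (p : Ideal R) [p.IsPrime] (Q : Ideal (p.Fiber S))
    [hQ : Q.IsPrime] (q : PrimeSpectrum S) (hq : q.asIdeal = FiberDict.under p Q) :
    FlatMor.fibreDimAt (Spec.map (CommRingCat.ofHom (algebraMap R S))) q =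
      ((Q.height : ℕ∞) : WithBot ℕ∞) + ringKrullDim (p.Fiber S ⧸ Q) := by
  have hp : (⟨p, inferInstance⟩ : PrimeSpectrum R) = ⟨q.asIdeal.under R, inferInstance⟩ := by
    apply PrimeSpectrum.ext
    change p = (q.asIdeal).comap (algebraMap R S)
    rw [hq]
    exact (FiberDict.comap_under p Q).symm
  have h1 := Groth.Agent.H1.CMDecomp.aux R S q ⟨p, inferInstance⟩ hp ⟨Q, hQ⟩ hq.symm
  rw [← h1]
  exact Groth.Agent.H1.DimFormula.localDim_Spec p.ResidueField (p.Fiber S) ⟨Q, hQ⟩

set_option backward.isDefEq.respectTransparency false in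
theorem key (d : ℕ)
    (hCM : ∀ p : PrimeSpectrum R, LocCoh.IsCohenMacaulayRing (p.asIdeal.Fiber S))
    (heq : ∀ p : PrimeSpectrum R, ∀ P ∈ minimalPrimes (p.asIdeal.Fiber S),
      ringKrullDim (p.asIdeal.Fiber S ⧸ P) = (d : WithBot ℕ∞))
    (f : List S) (p : Ideal R) [p.IsPrime] (Q' : Ideal (p.Fiber (S ⧸ Ideal.ofList f)))
    [hQ' : Q'.IsPrime] (y : PrimeSpectrum (S ⧸ Ideal.ofList f))
    (hy : y.asIdeal = FiberDict.under p Q') :
    FlatMor.fibreDimAt (Spec.map (CommRingCat.ofHom (algebraMap R (S ⧸ Ideal.ofList f)))) y +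
        (f.length : WithBot ℕ∞) ≤ (d : WithBot ℕ∞) ↔
      IsRegular (EGA4.FibLocRing R S (y.asIdeal.comap (Ideal.Quotient.mk (Ideal.ofList f))))
        (f.map (algebraMap S
          (EGA4.FibLocRing R S (y.asIdeal.comap (Ideal.Quotient.mk (Ideal.ofList f)))))) := by
  obtain ⟨yI, hyI⟩ := y
  change yI = FiberDict.under p Q' at hy
  subst hy
  dsimp only
  haveI : Algebra.FiniteType R (S ⧸ Ideal.ofList f) :=
    Algebra.FiniteType.of_surjective (Ideal.Quotient.mkₐ R (Ideal.ofList f))
      (Ideal.Quotient.mkₐ_surjective R _)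
  let σ : p.Fiber S →ₐ[p.ResidueField] p.Fiber (S ⧸ Ideal.ofList f) :=
    Algebra.TensorProduct.map (AlgHom.id p.ResidueField p.ResidueField)
      (Ideal.Quotient.mkₐ R (Ideal.ofList f))
  let Q : Ideal (p.Fiber S) := Q'.comap σ
  haveI hQ : Q.IsPrime := Ideal.comap_isPrime σ Q'
  let q : Ideal S := (FiberDict.under p Q').comap (Ideal.Quotient.mk (Ideal.ofList f))
  have hQq : FiberDict.under p Q = q := by
    ext s
    change σ (Algebra.TensorProduct.includeRight s) ∈ Q' ↔
      Algebra.TensorProduct.includeRight (Ideal.Quotient.mk (Ideal.ofList f) s) ∈ Q'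
    rw [Algebra.TensorProduct.includeRight_apply, Algebra.TensorProduct.map_tmul]
    rfl
  -- fibre dimension of the quotient
  have h1 := fibreDimAt_eq_height_add R (S ⧸ Ideal.ofList f) p Q'
    ⟨FiberDict.under p Q', hyI⟩ rfl
  -- equidimensionality
  obtain ⟨P, hPQ, hPmin, hPdim⟩ :=
    Groth.Agent.H1.DimFormula.exists_minimal_ringKrullDim_quotient_eq p.ResidueField (p.Fiber S)
      ⟨Q, hQ⟩
  have h2' : ((Q.height : ℕ∞) : WithBot ℕ∞) + ringKrullDim (p.Fiber S ⧸ Q) =
      (d : WithBot ℕ∞) := by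
    rw [← hPdim]; exact heq ⟨p, inferInstance⟩ P.asIdeal hPmin
  have h3 : ringKrullDim (p.Fiber S ⧸ Q) =
      ringKrullDim (p.Fiber (S ⧸ Ideal.ofList f) ⧸ Q') :=
    dim_quot_fiber R S (Ideal.ofList f) p Q'
  have h4 : ((Q'.height : ℕ∞) : WithBot ℕ∞) =
      ringKrullDim (EGA4.FibLocRing R (S ⧸ Ideal.ofList f) (FiberDict.under p Q')) := by
    rw [← IsLocalization.AtPrime.ringKrullDim_eq_height Q' (Localization.AtPrime Q')]
    exact ringKrullDim_eq_of_ringEquiv (FiberDict.ringEquiv p Q')
  have h5 : ((Q.height : ℕ∞) : WithBot ℕ∞) = ringKrullDim (EGA4.FibLocRing R S q) := by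
    rw [← IsLocalization.AtPrime.ringKrullDim_eq_height Q (Localization.AtPrime Q),
      ringKrullDim_eq_of_ringEquiv (FiberDict.ringEquiv p Q)]
    exact dim_fibLocRing_congr hQq
  have h6 := dim_fibLocRing_quot R S (Ideal.ofList f) (FiberDict.under p Q')
  rw [Ideal.map_ofList] at h6
  haveI hA : LocCoh.IsCohenMacaulayLocalRing (EGA4.FibLocRing R S q) := by
    haveI := hCM ⟨p, inferInstance⟩
    haveI : LocCoh.IsCohenMacaulayLocalRing (Localization.AtPrime Q) :=
      LocCoh.IsCohenMacaulayRing.isCohenMacaulayLocalRing_localization Q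
    exact cm_fibLocRing_congr hQq
      (Liai.cmLocal_of_ringEquiv (R₁ := Localization.AtPrime Q) (FiberDict.ringEquiv p Q))
  have hmem : ∀ x ∈ f.map (algebraMap S (EGA4.FibLocRing R S q)),
      x ∈ IsLocalRing.maximalIdeal (EGA4.FibLocRing R S q) := by
    intro x hx
    obtain ⟨s, hs, rfl⟩ := List.mem_map.mp hx
    have hsq : s ∈ q := by
      change Ideal.Quotient.mk (Ideal.ofList f) s ∈ FiberDict.under p Q'
      rw [Ideal.Quotient.eq_zero_iff_mem.mpr (Ideal.subset_span (s := {r | r ∈ f}) hs)]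
      exact Ideal.zero_mem _
    have h1 : algebraMap S (Localization.AtPrime q) s ∈
        IsLocalRing.maximalIdeal (Localization.AtPrime q) :=
      (IsLocalization.AtPrime.to_map_mem_maximal_iff _ q s).mpr hsq
    rw [IsLocalRing.mem_maximalIdeal, mem_nonunits_iff] at h1 ⊢
    intro hu
    apply h1
    have : algebraMap S (EGA4.FibLocRing R S q) s =
        algebraMap (Localization.AtPrime q) (EGA4.FibLocRing R S q)
          (algebraMap S (Localization.AtPrime q) s) := rfl
    rw [this] at hu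
    exact (isUnit_map_iff (algebraMap (Localization.AtPrime q) (EGA4.FibLocRing R S q)) _).mp hu
  have e1 : FlatMor.fibreDimAt
      (Spec.map (CommRingCat.ofHom (algebraMap R (S ⧸ Ideal.ofList f))))
      ⟨FiberDict.under p Q', hyI⟩ =
      ((Q'.height : ℕ∞) : WithBot ℕ∞) + ringKrullDim (p.Fiber S ⧸ Q) := by rw [h1, ← h3]
  have e2 : ringKrullDim (EGA4.FibLocRing R S q ⧸
      Ideal.ofList (f.map (algebraMap S (EGA4.FibLocRing R S q)))) =
      ((Q'.height : ℕ∞) : WithBot ℕ∞) := by rw [← h6, ← h4]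
  have hle : ((Q'.height : ℕ∞) : WithBot ℕ∞) ≤ ((Q.height : ℕ∞) : WithBot ℕ∞) := by
    rw [← e2, h5]; exact ringKrullDim_quotient_le _
  haveI : Nontrivial (p.Fiber S ⧸ Q) := Ideal.Quotient.nontrivial_iff.mpr hQ.ne_top
  have hδ0 : 0 ≤ ringKrullDim (p.Fiber S ⧸ Q) := ringKrullDim_nonneg_of_nontrivial
  have hcoe : ∀ x : ℕ∞, (0 : WithBot ℕ∞) ≤ ((x : ℕ∞) : WithBot ℕ∞) := fun x =>
    WithBot.coe_le_coe.mpr (zero_le : (0 : ℕ∞) ≤ x)
  rw [isRegular_iff_dim (EGA4.FibLocRing R S q) _ hmem, List.length_map, e1, e2, ← h5]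
  exact arith h2' (hcoe _) hδ0 (hcoe _) hle

end Key

set_option backward.isDefEq.respectTransparency false in
theorem main (R S : Type u) [CommRing R] [CommRing S] [Algebra R S] [Algebra.FiniteType R S]
    (d : ℕ) (hCM : ∀ p : PrimeSpectrum R, LocCoh.IsCohenMacaulayRing (p.asIdeal.Fiber S))
    (heq : ∀ p : PrimeSpectrum R, ∀ P ∈ minimalPrimes (p.asIdeal.Fiber S),
      ringKrullDim (p.asIdeal.Fiber S ⧸ P) = (d : WithBot ℕ∞))
    (f : List S) :
    ∃ U : Set (PrimeSpectrum S), IsOpen U ∧ ∀ q : PrimeSpectrum S, Ideal.ofList f ≤ q.asIdeal →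
      (q ∈ U ↔ RingTheory.Sequence.IsRegular (EGA4.FibLocRing R S q.asIdeal)
        (f.map (algebraMap S (EGA4.FibLocRing R S q.asIdeal)))) := by
  classical
  haveI : Algebra.FiniteType R (S ⧸ Ideal.ofList f) :=
    Algebra.FiniteType.of_surjective (Ideal.Quotient.mkₐ R (Ideal.ofList f))
      (Ideal.Quotient.mkₐ_surjective R _)
  let g' : Spec (CommRingCat.of (S ⧸ Ideal.ofList f)) ⟶ Spec (CommRingCat.of R) :=
    Spec.map (CommRingCat.ofHom (algebraMap R (S ⧸ Ideal.ofList f)))
  haveI : LocallyOfFiniteType g' := by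
    rw [HasRingHomProperty.Spec_iff (P := @LocallyOfFiniteType)]
    exact RingHom.finiteType_algebraMap.mpr inferInstance
  let W : Set (PrimeSpectrum (S ⧸ Ideal.ofList f)) :=
    {y | FlatMor.fibreDimAt g' y + (f.length : WithBot ℕ∞) ≤ (d : WithBot ℕ∞)}
  have hW : IsOpen W := by
    by_cases hle : f.length ≤ d
    · have hWeq : W = {y : PrimeSpectrum (S ⧸ Ideal.ofList f) |
          FlatMor.fibreDimAt g' y ≤ ((d - f.length : ℕ) : WithBot ℕ∞)} := by
        ext y
        obtain ⟨n, hn⟩ := Groth.Agent.H1.CMQF.exists_nat_fibreDimAt g' y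
        change FlatMor.fibreDimAt g' y + _ ≤ _ ↔ FlatMor.fibreDimAt g' y ≤ _
        rw [hn]
        norm_cast
        omega
      rw [hWeq]
      exact Groth.Agent.H1.Chev.isOpen_fibreDimAt_le g' (d - f.length)
    · have hWeq : W = ∅ := by
        ext y
        obtain ⟨n, hn⟩ := Groth.Agent.H1.CMQF.exists_nat_fibreDimAt g' y
        change FlatMor.fibreDimAt g' y + _ ≤ _ ↔ False
        rw [hn]
        have hlt : ¬ (n + f.length ≤ d) := by omega
        constructor
        · intro h
          exact hlt (by exact_mod_cast h)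
        · exact False.elim
      rw [hWeq]; exact isOpen_empty
  let j : PrimeSpectrum (S ⧸ Ideal.ofList f) → PrimeSpectrum S :=
    PrimeSpectrum.comap (Ideal.Quotient.mk (Ideal.ofList f))
  have hj : IsClosedEmbedding j :=
    PrimeSpectrum.isClosedEmbedding_comap_of_surjective _ _ Ideal.Quotient.mk_surjective
  refine ⟨(j '' Wᶜ)ᶜ, (hj.isClosedMap _ hW.isClosed_compl).isOpen_compl, ?_⟩
  intro q hq
  have hqr : q ∈ Set.range j := by
    rw [range_comap_of_surjective _ _ Ideal.Quotient.mk_surjective, Ideal.mk_ker]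
    exact hq
  obtain ⟨y, rfl⟩ := hqr
  have hmemU : j y ∈ (j '' Wᶜ)ᶜ ↔ y ∈ W := by
    rw [Set.mem_compl_iff, hj.injective.mem_set_image, Set.mem_compl_iff, not_not]
  rw [hmemU]
  let p : Ideal R := y.asIdeal.under R
  let pp : PrimeSpectrum R := ⟨p, inferInstance⟩
  let Qpt : PrimeSpectrum (p.Fiber (S ⧸ Ideal.ofList f)) :=
    PrimeSpectrum.preimageEquivFiber R (S ⧸ Ideal.ofList f) pp ⟨y, rfl⟩
  have hy : y.asIdeal = Groth.Agent.H6.FiberDict.under p Qpt.asIdeal := by
    have h := (PrimeSpectrum.preimageEquivFiber R (S ⧸ Ideal.ofList f) pp).left_inv ⟨y, rfl⟩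
    have h2 := congrArg (fun z => (z.1 : PrimeSpectrum (S ⧸ Ideal.ofList f)).asIdeal) h
    exact h2.symm
  exact key R S d hCM heq f p Qpt.asIdeal y hy

end Groth.Agent.H1.RegLocus
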