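import Mathlib
import Groth.Agent.Lib.Helper1.NoethPt
import Groth.Agent.Lib.Helper1.FlatDomDim
import Groth.Agent.Lib.Helper1.RegLocus

set_option autoImplicit false
set_option linter.style.haveILetI false
universe u
open AlgebraicGeometry CategoryTheory CategoryTheory.Limits IsLocalRing
open scoped Pointwise

namespace Groth.Agent.H1.PrincFib

open TensorProduct MvPolynomial Groth.Agent.H1.Chev Groth.Agent.H1.FibDim TopologicalSpace
open Groth.Agent.H1.NoethPt

/-- variant of `NoethPt.s9175` with an upper bound on the local fibre dimension. -/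
theorem s9175le (R S : Type u) [CommRing R] [CommRing S]
    [Algebra R S] [Algebra.FiniteType R S] (p : Ideal R) [p.IsPrime] (q : Ideal S) [q.IsPrime]
    [q.LiesOver p]
    (Q : PrimeSpectrum (p.Fiber S))
    (hQ : Q.asIdeal.comap (Algebra.TensorProduct.includeRight.toRingHom) = q) (n : ℕ)
    (hdim : FlatMor.localDim (PrimeSpectrum (p.Fiber S)) Q ≤ (n : WithBot ℕ∞)) :
    ∃ g : S, g ∉ q ∧ ∃ φ : MvPolynomial (Fin n) R →ₐ[R] Localization.Away g,
      φ.toRingHom.FiniteType ∧ φ.toRingHom.QuasiFinite := by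
  obtain ⟨h, hhQ, hh⟩ := exists_basicOpen_dim_le Q n hdim
  obtain ⟨r, hr, s, e⟩ := Ideal.Fiber.exists_smul_eq_one_tmul p h
  -- `r` is a unit in the fibre
  have hru : IsUnit (algebraMap R (p.Fiber S) r) := by
    rw [IsScalarTower.algebraMap_apply R p.ResidueField (p.Fiber S)]
    refine IsUnit.map _ (IsUnit.mk0 _ ?_)
    rwa [Ne, Ideal.algebraMap_residueField_eq_zero]
  have hassoc : Associated h ((1 : p.ResidueField) ⊗ₜ[R] s) := by
    rw [← e, Algebra.smul_def]
    exact associated_unit_mul_right h _ hru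
  have hsQ : (1 : p.ResidueField) ⊗ₜ[R] s ∉ Q.asIdeal := fun hmem => by
    obtain ⟨c, hc⟩ := hassoc.symm.dvd
    exact hhQ (hc ▸ Q.asIdeal.mul_mem_right c hmem)
  have hsq : s ∉ q := fun hs => hsQ (by
    rw [← hQ] at hs
    exact hs)
  -- the localised fibre
  set S₀ := Localization.Away s with hS₀
  have hdim₀ : ringKrullDim (p.ResidueField ⊗[R] S₀) ≤ n := by
    have : IsLocalization.Away ((1 : p.ResidueField) ⊗ₜ[R] s) (Localization.Away h) :=
      IsLocalization.Away.of_associated hassoc
    let e1 : p.ResidueField ⊗[R] S₀ ≃ₐ[p.ResidueField] Localization.Away ((1 : p.ResidueField) ⊗ₜ[R] s) :=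
      IsLocalization.Away.tensorProductEquivTMulRight R p.ResidueField s S₀
    let e2 : Localization.Away ((1 : p.ResidueField) ⊗ₜ[R] s) ≃ₐ[p.Fiber S] Localization.Away h :=
      IsLocalization.algEquiv (Submonoid.powers ((1 : p.ResidueField) ⊗ₜ[R] s)) _ _
    rw [ringKrullDim_eq_of_ringEquiv e1.toRingEquiv, ringKrullDim_eq_of_ringEquiv e2.toRingEquiv]
    exact hh
  -- the prime of `S₀`
  have hq_mem : (⟨q, inferInstance⟩ : PrimeSpectrum S) ∈
      Set.range (PrimeSpectrum.comap (algebraMap S S₀)) := by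
    rw [PrimeSpectrum.localization_away_comap_range S₀ s]
    exact hsq
  obtain ⟨q₀, hq₀⟩ := hq_mem
  have hq₀p : q₀.comap (algebraMap R S₀) = ⟨p, inferInstance⟩ := by
    rw [IsScalarTower.algebraMap_eq R S S₀]
    ext1
    change (q₀.comap (algebraMap S S₀)).asIdeal.comap (algebraMap R S) = p
    rw [hq₀]
    exact (q.over_def p).symm
  have hn : fibDim R S₀ (q₀.comap (algebraMap R S₀)) ≤ n := by
    rw [hq₀p]; exact hdim₀
  obtain ⟨m, hmn, t, φ, htq, hφ⟩ := exists_away_quasiFinite_mvPolynomial R S₀ q₀ n hn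
  set g₁ : S := (IsLocalization.Away.sec s t).1 with hg₁
  have hass : Associated (algebraMap S S₀ g₁) t := IsLocalization.Away.associated_sec_fst s t
  have hg₁q : g₁ ∉ q := by
    intro hmem
    apply htq
    obtain ⟨c, hc⟩ := hass.dvd
    rw [hc]
    refine Ideal.mul_mem_right _ _ ?_
    have : g₁ ∈ (q₀.comap (algebraMap S S₀)).asIdeal := by rw [hq₀]; exact hmem
    exact this
  have hloc : IsLocalization.Away (s * g₁) (Localization.Away t) :=
    IsLocalization.Away.mul_of_associated s g₁ t hass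
  refine ⟨s * g₁, fun hmem => (Ideal.IsPrime.mem_or_mem inferInstance hmem).elim hsq hg₁q, ?_⟩
  let ε : Localization.Away (s * g₁) ≃ₐ[S] Localization.Away t :=
    IsLocalization.algEquiv (Submonoid.powers (s * g₁)) _ _
  let ψ : MvPolynomial (Fin n) R →ₐ[R] Localization.Away (s * g₁) :=
    ((ε.symm.restrictScalars R : Localization.Away t →ₐ[R] Localization.Away (s * g₁))).comp
      (φ.comp (truncVars R m n))
  refine ⟨ψ, ?_, ?_⟩
  · refine RingHom.FiniteType.of_comp_finiteType
      (f := algebraMap R (MvPolynomial (Fin n) R)) (g := ψ.toRingHom) ?_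
    have : ψ.toRingHom.comp (algebraMap R (MvPolynomial (Fin n) R)) =
        algebraMap R (Localization.Away (s * g₁)) := ψ.comp_algebraMap
    rw [this]
    have : Algebra.FiniteType R (Localization.Away (s * g₁)) :=
      Algebra.FiniteType.trans (S := S) inferInstance inferInstance
    exact RingHom.finiteType_algebraMap.mpr this
  · have h1 : (truncVars R m n).toRingHom.QuasiFinite :=
      RingHom.QuasiFinite.of_finite
        (RingHom.Finite.of_surjective _ (truncVars_surjective R hmn))
    have h2 : ((ε.symm.restrictScalars R : Localization.Away t →ₐ[R]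
        Localization.Away (s * g₁))).toRingHom.QuasiFinite :=
      RingHom.QuasiFinite.of_finite
        (RingHom.Finite.of_surjective _ ε.symm.surjective)
    exact h2.comp (hφ.comp h1)

/-- cutting by an element outside all minimal primes drops the dimension. -/
theorem dim_quot_singleton_succ_le {R : Type*} [CommRing R] (x : R)
    (hn : ∀ p ∈ minimalPrimes R, x ∉ p) :
    ringKrullDim (R ⧸ Ideal.span {x}) + 1 ≤ ringKrullDim R := by
  have h : Ideal.span {x} = x • (⊤ : Ideal R) := by simp [← Submodule.ideal_span_singleton_smul]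
  rw [ringKrullDim_eq_of_ringEquiv (Ideal.quotientEquivAlgOfEq R h).toRingEquiv,
    ← Module.supportDim_quotient_eq_ringKrullDim (x • (⊤ : Ideal R)),
    ← Module.supportDim_self_eq_ringKrullDim (R := R)]
  refine Module.supportDim_quotSMulTop_succ_le_of_notMem_minimalPrimes ?_
  intro p hp
  have hann : Module.annihilator R R = ⊥ :=
    Module.annihilator_eq_bot.mpr
      ((faithfulSMul_iff_algebraMap_injective R R).mpr fun {a₁ a₂} a ↦ a)
  rw [hann] at hp
  exact hn p hp

/-- transcendence degrees of residue fields along a tower of local homomorphisms. -/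
theorem trdeg_residue_le {A₀ A₁ A₂ : Type u} [CommRing A₀] [CommRing A₁] [CommRing A₂]
    [IsLocalRing A₀] [IsLocalRing A₁] [IsLocalRing A₂] (ψ₀ : A₀ →+* A₁) (ψ₁ : A₁ →+* A₂)
    [IsLocalHom ψ₀] [IsLocalHom ψ₁] (ψ : A₀ →+* A₂) [IsLocalHom ψ] (h : ψ = ψ₁.comp ψ₀) :
    @Algebra.trdeg (ResidueField A₁) (ResidueField A₂) _ _ (ResidueField.map ψ₁).toAlgebra ≤
    @Algebra.trdeg (ResidueField A₀) (ResidueField A₂) _ _ (ResidueField.map ψ).toAlgebra := by
  letI alg01 : Algebra (ResidueField A₀) (ResidueField A₁) := (ResidueField.map ψ₀).toAlgebra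
  letI alg12 : Algebra (ResidueField A₁) (ResidueField A₂) := (ResidueField.map ψ₁).toAlgebra
  letI alg02 : Algebra (ResidueField A₀) (ResidueField A₂) := (ResidueField.map ψ).toAlgebra
  haveI : IsScalarTower (ResidueField A₀) (ResidueField A₁) (ResidueField A₂) :=
    IsScalarTower.of_algebraMap_eq (fun r => by
      obtain ⟨r, rfl⟩ := residue_surjective r
      change ResidueField.map ψ (residue A₀ r) =
        ResidueField.map ψ₁ (ResidueField.map ψ₀ (residue A₀ r))
      simp only [ResidueField.map_residue, h, RingHom.comp_apply])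
  haveI : FaithfulSMul (ResidueField A₀) (ResidueField A₁) :=
    (faithfulSMul_iff_algebraMap_injective _ _).mpr (RingHom.injective _)
  haveI : FaithfulSMul (ResidueField A₁) (ResidueField A₂) :=
    (faithfulSMul_iff_algebraMap_injective _ _).mpr (RingHom.injective _)
  have := trdeg_add_eq (ResidueField A₀) (ResidueField A₁) (A := ResidueField A₂)
  rw [← this]
  exact le_add_self

set_option backward.isDefEq.respectTransparency false in
/-- the local fibre dimension of `Spec C → Spec R₁` at a prime, in terms of local rings. -/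
theorem fibreDimAt_eq (R₁ C : Type u) [CommRing R₁] [CommRing C] [Algebra R₁ C]
    [Algebra.FiniteType R₁ C] (x : PrimeSpectrum C) (p₁ : Ideal R₁) [p₁.IsPrime]
    (hp₁ : p₁ = x.asIdeal.comap (algebraMap R₁ C)) :
    ∃ (t : ℕ) (ψ : Localization.AtPrime p₁ →+* Localization.AtPrime x.asIdeal) (_ : IsLocalHom ψ),
      (∀ r : R₁, ψ (algebraMap R₁ _ r) = algebraMap C _ (algebraMap R₁ C r)) ∧
      @Algebra.trdeg (ResidueField (Localization.AtPrime p₁))
        (ResidueField (Localization.AtPrime x.asIdeal)) _ _ (ResidueField.map ψ).toAlgebra = t ∧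
      FlatMor.fibreDimAt (Spec.map (CommRingCat.ofHom (algebraMap R₁ C))) x =
        ringKrullDim (Localization.AtPrime x.asIdeal ⧸
          p₁.map (algebraMap R₁ (Localization.AtPrime x.asIdeal))) + (t : WithBot ℕ∞) := by
  subst hp₁
  let φ : CommRingCat.of R₁ ⟶ CommRingCat.of C := CommRingCat.ofHom (algebraMap R₁ C)
  let f : Spec (CommRingCat.of C) ⟶ Spec (CommRingCat.of R₁) := Spec.map φ
  haveI : LocallyOfFiniteType f := by
    rw [HasRingHomProperty.Spec_iff (P := @LocallyOfFiniteType)]
    exact RingHom.finiteType_algebraMap.mpr inferInstance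
  obtain ⟨a, b, hab⟩ := FlatDomDim.stalkMap_square φ x
  let lrh := Localization.localRingHom (PrimeSpectrum.comap φ.hom x).asIdeal x.asIdeal φ.hom rfl
  haveI : IsLocalHom lrh := Localization.isLocalHom_localRingHom _ _ _ rfl
  obtain ⟨t, ht1, ht2⟩ := DimFormula.exists_fibreDimAt_eq_stalk_add_trdeg f x
  refine ⟨t, lrh, inferInstance, ?_, ?_, ?_⟩
  · intro r
    exact Localization.localRingHom_to_map _ _ _ rfl r
  · rw [← ht1]
    exact (FlatDomDim.trdeg_residue_transfer (f.stalkMap x).hom lrh a b hab).symm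
  · rw [ht2]
    congr 1
    rw [← ringKrullDim_eq_of_ringEquiv (FibreStalk.fiberStalkEquiv f x)]
    refine (FlatDomDim.dim_quot_transfer _ lrh a b hab).trans ?_
    have hI : (maximalIdeal (Localization.AtPrime (PrimeSpectrum.comap φ.hom x).asIdeal)).map lrh
        = (PrimeSpectrum.comap φ.hom x).asIdeal.map
          (algebraMap R₁ (Localization.AtPrime x.asIdeal)) := by
      rw [← Localization.AtPrime.map_eq_maximalIdeal, Ideal.map_map]
      congr 1
      ext r
      rw [RingHom.comp_apply, Localization.localRingHom_to_map]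
      exact (IsScalarTower.algebraMap_apply R₁ C (Localization.AtPrime x.asIdeal) r).symm
    exact ringKrullDim_eq_of_ringEquiv (Ideal.quotEquivOfEq hI)

set_option backward.isDefEq.respectTransparency false in
/-- the fibre of `Spec C → Spec R₁` through `q` has dimension at most `d + e - 1` when the image
of `X₀` avoids the minimal primes of the closed fibre of `A → B = C_q`. -/
theorem fibreDimAt_le (A B C R₁ : Type u) [CommRing A] [CommRing B] [CommRing C] [CommRing R₁]
    [IsLocalRing A] [IsLocalRing B] [Algebra A B] [IsLocalHom (algebraMap A B)]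
    [Algebra A C] [Algebra C B] [IsScalarTower A C B]
    [Algebra A R₁] [Algebra R₁ C] [IsScalarTower A R₁ C] [Algebra.FiniteType R₁ C]
    (q : Ideal C) [q.IsPrime] [IsLocalization.AtPrime B q]
    (X₀ : R₁) (hX₀ : algebraMap R₁ C X₀ ∈ q)
    (hmin : ∀ P ∈ (Ideal.map (algebraMap A B) (maximalIdeal A)).minimalPrimes,
      algebraMap C B (algebraMap R₁ C X₀) ∉ P)
    (d e : ℕ) (hd : ringKrullDim (B ⧸ Ideal.map (algebraMap A B) (maximalIdeal A)) = d)
    (he : Algebra.trdeg (ResidueField A) (ResidueField B) = e) :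
    ∃ n' : ℕ, n' + 1 = d + e ∧
      FlatMor.fibreDimAt (Spec.map (CommRingCat.ofHom (algebraMap R₁ C)))
        (⟨q, inferInstance⟩ : PrimeSpectrum C) ≤ (n' : WithBot ℕ∞) := by
  classical
  have hqB : (maximalIdeal B).comap (algebraMap C B) = q :=
    IsLocalization.AtPrime.under_maximalIdeal B q
  have hmA : ∀ a : A, a ∈ maximalIdeal A → algebraMap A C a ∈ q := by
    intro a ha
    rw [← hqB, Ideal.mem_comap, ← IsScalarTower.algebraMap_apply A C B]
    rw [mem_maximalIdeal, mem_nonunits_iff] at ha ⊢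
    exact fun hu => ha (isUnit_of_map_unit (algebraMap A B) a hu)
  let x : PrimeSpectrum C := ⟨q, inferInstance⟩
  let p₁ : Ideal R₁ := q.comap (algebraMap R₁ C)
  haveI : p₁.IsPrime := Ideal.comap_isPrime _ _
  obtain ⟨t, ψ, hψloc, hψ, ht, hfd⟩ := fibreDimAt_eq R₁ C x p₁ rfl
  haveI := hψloc
  let b₂ : Localization.AtPrime q ≃ₐ[C] B := IsLocalization.algEquiv q.primeCompl _ B
  -- (i) the residue field extension
  let ψ₀ : A →+* Localization.AtPrime p₁ := algebraMap A (Localization.AtPrime p₁)
  haveI hψ₀ : IsLocalHom ψ₀ := ⟨fun a ha => by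
    by_contra hna
    have ha' : algebraMap A R₁ a ∈ p₁ := by
      show algebraMap R₁ C (algebraMap A R₁ a) ∈ q
      rw [← IsScalarTower.algebraMap_apply A R₁ C]
      exact hmA a (by rwa [mem_maximalIdeal, mem_nonunits_iff])
    have hu : IsUnit (algebraMap R₁ (Localization.AtPrime p₁) (algebraMap A R₁ a)) := by
      rw [← IsScalarTower.algebraMap_apply A R₁ (Localization.AtPrime p₁)]; exact ha
    rw [IsLocalization.AtPrime.isUnit_to_map_iff _ p₁] at hu
    exact hu ha'⟩
  let ψ₂ : Localization.AtPrime p₁ →+* B := (b₂.toRingEquiv : Localization.AtPrime q →+* B).comp ψ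
  haveI hψ₂ : IsLocalHom ψ₂ := ⟨fun r hr => by
    have h1 : IsUnit (ψ r) := by
      have := hr.map b₂.symm
      simpa [ψ₂] using this
    exact isUnit_of_map_unit ψ r h1⟩
  have hcomp : algebraMap A B = ψ₂.comp ψ₀ := by
    ext a
    show algebraMap A B a = b₂ (ψ (algebraMap A (Localization.AtPrime p₁) a))
    rw [IsScalarTower.algebraMap_apply A R₁ (Localization.AtPrime p₁), hψ, AlgEquiv.commutes,
      ← IsScalarTower.algebraMap_apply A R₁ C, ← IsScalarTower.algebraMap_apply A C B]
  have hte : t ≤ e := by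
    have h1 := trdeg_residue_le ψ₀ ψ₂ (algebraMap A B) hcomp
    have h2 := FlatDomDim.trdeg_residue_transfer ψ ψ₂ (RingEquiv.refl _) b₂.toRingEquiv
      (fun r => rfl)
    rw [ht] at h2
    have h3 : (t : Cardinal.{u}) ≤ (e : Cardinal.{u}) := by
      calc (t : Cardinal.{u}) = _ := h2
        _ ≤ _ := h1
        _ = e := he
    exact_mod_cast h3
  -- (ii) the dimension
  let I : Ideal B := Ideal.map (algebraMap A B) (maximalIdeal A)
  let cB : B := algebraMap C B (algebraMap R₁ C X₀)
  let J₁ : Ideal (Localization.AtPrime q) := p₁.map (algebraMap R₁ (Localization.AtPrime q))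
  let J : Ideal B := J₁.map (b₂.toRingEquiv : Localization.AtPrime q →+* B)
  have e1 : ringKrullDim (Localization.AtPrime q ⧸ J₁) = ringKrullDim (B ⧸ J) :=
    ringKrullDim_eq_of_ringEquiv (Ideal.quotientEquiv J₁ J b₂.toRingEquiv rfl)
  have key : ∀ r ∈ p₁, algebraMap C B (algebraMap R₁ C r) ∈ J := by
    intro r hr
    have h1 : (b₂.toRingEquiv : Localization.AtPrime q →+* B)
        (algebraMap R₁ (Localization.AtPrime q) r) ∈ J :=
      Ideal.mem_map_of_mem _ (Ideal.mem_map_of_mem _ hr)
    have h2 : (b₂.toRingEquiv : Localization.AtPrime q →+* B)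
        (algebraMap R₁ (Localization.AtPrime q) r) = algebraMap C B (algebraMap R₁ C r) := by
      rw [IsScalarTower.algebraMap_apply R₁ C (Localization.AtPrime q)]
      exact b₂.commutes _
    rwa [h2] at h1
  have hJ : I ⊔ Ideal.span {cB} ≤ J := by
    refine sup_le ?_ ?_
    · refine Ideal.map_le_iff_le_comap.mpr (fun a ha => ?_)
      show algebraMap A B a ∈ J
      rw [IsScalarTower.algebraMap_apply A C B, IsScalarTower.algebraMap_apply A R₁ C]
      refine key _ ?_
      show algebraMap R₁ C (algebraMap A R₁ a) ∈ q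
      rw [← IsScalarTower.algebraMap_apply A R₁ C]
      exact hmA a ha
    · rw [Ideal.span_singleton_le_iff_mem]
      exact key X₀ hX₀
  have e2 : ringKrullDim (B ⧸ J) ≤ ringKrullDim (B ⧸ (I ⊔ Ideal.span {cB})) :=
    ringKrullDim_le_of_surjective (Ideal.Quotient.factor hJ) (Ideal.Quotient.factor_surjective hJ)
  have hmap : (Ideal.span {cB}).map (Ideal.Quotient.mk I) =
      Ideal.span {Ideal.Quotient.mk I cB} := by
    rw [Ideal.map_span, Set.image_singleton]
  have e3 : ringKrullDim (B ⧸ (I ⊔ Ideal.span {cB})) =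
      ringKrullDim ((B ⧸ I) ⧸ Ideal.span {Ideal.Quotient.mk I cB}) := by
    rw [← ringKrullDim_eq_of_ringEquiv (DoubleQuot.quotQuotEquivQuotSup I (Ideal.span {cB}))]
    exact ringKrullDim_eq_of_ringEquiv (Ideal.quotEquivOfEq hmap)
  have hn : ∀ P ∈ minimalPrimes (B ⧸ I), Ideal.Quotient.mk I cB ∉ P := by
    intro P hP hc
    refine hmin (P.comap (Ideal.Quotient.mk I)) ?_ hc
    rw [Ideal.minimalPrimes_eq_comap]
    exact ⟨P, hP, rfl⟩
  have e4 := (dim_quot_singleton_succ_le (Ideal.Quotient.mk I cB) hn).trans_eq hd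
  have hIm : I ⊔ Ideal.span {cB} ≤ maximalIdeal B := by
    refine sup_le (((local_hom_TFAE (algebraMap A B)).out 0 2).mp ‹IsLocalHom (algebraMap A B)›) ?_
    rw [Ideal.span_singleton_le_iff_mem]
    have : algebraMap R₁ C X₀ ∈ (maximalIdeal B).comap (algebraMap C B) := by rw [hqB]; exact hX₀
    exact this
  haveI : Nontrivial (B ⧸ (I ⊔ Ideal.span {cB})) :=
    Ideal.Quotient.nontrivial_iff.mpr (fun h =>
      (Ideal.IsPrime.ne_top inferInstance : maximalIdeal B ≠ ⊤) (top_le_iff.mp (h ▸ hIm)))
  obtain ⟨X, hXdef⟩ : ∃ X, X = ringKrullDim ((B ⧸ I) ⧸ Ideal.span {Ideal.Quotient.mk I cB}) :=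
    ⟨_, rfl⟩
  rw [← hXdef] at e3 e4
  have h0X : 0 ≤ X := by rw [← e3]; exact ringKrullDim_nonneg_of_nontrivial
  have hXd : X ≤ (d : WithBot ℕ∞) := le_trans (le_add_of_nonneg_right zero_le_one) e4
  obtain ⟨m, hm⟩ := RegLocus.nat_of_le_of_nonneg h0X hXd
  have hmd : m + 1 ≤ d := by
    rw [hm] at e4; exact_mod_cast e4
  refine ⟨d - 1 + e, by omega, ?_⟩
  rw [hfd]
  have hY : ringKrullDim (Localization.AtPrime q ⧸ J₁) ≤ (m : WithBot ℕ∞) := by
    rw [e1, ← hm]; exact e2.trans e3.le
  calc ringKrullDim (Localization.AtPrime q ⧸ J₁) + (t : WithBot ℕ∞)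
      ≤ (m : WithBot ℕ∞) + (e : WithBot ℕ∞) := add_le_add hY (by exact_mod_cast hte)
    _ = ((m + e : ℕ) : WithBot ℕ∞) := by push_cast; rfl
    _ ≤ ((d - 1 + e : ℕ) : WithBot ℕ∞) := by exact_mod_cast (by omega)

end Groth.Agent.H1.PrincFib
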