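import Mathlib
import Groth.Agent.Lib.Helper1.QFGD
import Groth.Agent.Lib.Helper1.FlatDomDim

set_option autoImplicit false
set_option linter.style.haveILetI false
universe u
open Polynomial

namespace Groth.Agent.H1.PrincFib


/-- the images of the variables under a ring map out of `A[X₀][X₁,…,X_{n'}]`. -/
noncomputable def gens {A S : Type*} [CommRing A] [CommRing S] (n' : ℕ)
    (φ : MvPolynomial (Fin n') A[X] →+* S) : Option (Fin n') → S :=
  fun o => o.elim (φ (MvPolynomial.C Polynomial.X)) (fun i => φ (MvPolynomial.X i))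

theorem map_optionEquivRight {A S : Type*} [CommRing A] [CommRing S] [Algebra A S] (n' : ℕ)
    (φ : MvPolynomial (Fin n') A[X] →+* S)
    (hφA : ∀ a : A, φ (MvPolynomial.C (Polynomial.C a)) = algebraMap A S a)
    (p : MvPolynomial (Option (Fin n')) A) :
    φ (MvPolynomial.optionEquivRight A (Fin n') p) = MvPolynomial.aeval (gens n' φ) p := by
  induction p using MvPolynomial.induction_on with
  | C a => rw [MvPolynomial.optionEquivRight_C, hφA, MvPolynomial.aeval_C]
  | add p₁ p₂ h₁ h₂ => rw [map_add, map_add, map_add, h₁, h₂]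
  | mul_X p i h =>
    rw [map_mul, map_mul, map_mul, h, MvPolynomial.aeval_X]
    congr 1
    cases i with
    | none => rw [MvPolynomial.optionEquivRight_X_none]; rfl
    | some i => rw [MvPolynomial.optionEquivRight_X_some]; rfl

/-- a quasi-finite finite type map from a polynomial ring in `n' + 1` variables to a domain of
transcendence degree at least `n' + 1` is injective on the variables. -/
theorem algebraicIndependent_gens (A S : Type u) [CommRing A] [CommRing S] [IsDomain A]
    [IsDomain S] [Algebra A S] [FaithfulSMul A S] (n' : ℕ)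
    (φ : MvPolynomial (Fin n') A[X] →+* S)
    (hφA : ∀ a : A, φ (MvPolynomial.C (Polynomial.C a)) = algebraMap A S a)
    (hft : φ.FiniteType) (hqf : φ.QuasiFinite)
    (htr : ((n' + 1 : ℕ) : Cardinal.{u}) ≤ Algebra.trdeg A S) :
    AlgebraicIndependent A (gens n' φ) := by
  classical
  letI algRS : Algebra (MvPolynomial (Fin n') A[X]) S := φ.toAlgebra
  haveI : Algebra.FiniteType (MvPolynomial (Fin n') A[X]) S := hft
  haveI : Algebra.QuasiFinite (MvPolynomial (Fin n') A[X]) S := hqf
  let D : Subalgebra A S := (MvPolynomial.aeval (gens n' φ)).range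
  have hmemD : ∀ r : MvPolynomial (Fin n') A[X], φ r ∈ D := by
    intro r
    refine (AlgHom.mem_range _).mpr ⟨(MvPolynomial.optionEquivRight A (Fin n')).symm r, ?_⟩
    rw [← map_optionEquivRight n' φ hφA, AlgEquiv.apply_symm_apply]
  let ρ : MvPolynomial (Fin n') A[X] →+* D := φ.codRestrict D hmemD
  obtain ⟨r, hrq, hr, hrpow⟩ := Algebra.zariskisMainProperty_iff.mp
    (Algebra.ZariskisMainProperty.of_finiteType (R := MvPolynomial (Fin n') A[X])
      (⊥ : Ideal S))
  have hr0 : r ≠ 0 := fun h => hrq (h ▸ (⊥ : Ideal S).zero_mem)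
  have htoD : ∀ z : S, IsIntegral (MvPolynomial (Fin n') A[X]) z → IsIntegral D z := by
    intro z hz
    exact hz.map_of_comp_eq ρ (RingHom.id _) (RingHom.ext fun _ => rfl)
  have hDalg : Algebra.IsAlgebraic D S := ⟨fun s => by
    obtain ⟨m, hm⟩ := hrpow s
    have h1 : IsAlgebraic D (r ^ m) := (htoD _ (hr.pow m)).isAlgebraic
    have h2 : IsAlgebraic D (r ^ m * s) := (htoD _ hm).isAlgebraic
    exact IsAlgebraic.of_mul (mem_nonZeroDivisors_of_ne_zero (pow_ne_zero m hr0)) h1 h2⟩
  haveI : Algebra.IsAlgebraic (Algebra.adjoin A (Set.range (gens n' φ))) S := by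
    rw [Algebra.adjoin_range_eq_range_aeval]; exact hDalg
  have hcard : Cardinal.lift.{u} (Cardinal.mk (Option (Fin n'))) ≤
      Cardinal.lift.{0} (Algebra.trdeg A S) := by
    rw [Cardinal.lift_uzero, Cardinal.mk_fintype, Fintype.card_option, Fintype.card_fin,
      Cardinal.lift_natCast]
    exact htr
  exact (Algebra.IsAlgebraic.isTranscendenceBasis_of_lift_le_trdeg_of_finite A
    (gens n' φ) hcard).1


/-- Polynomial rings in finitely many variables over a normal domain are normal. -/
theorem isIntegrallyClosed_mvPolynomial (R : Type*) [CommRing R] [IsDomain R]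
    [IsIntegrallyClosed R] (n : ℕ) : IsIntegrallyClosed (MvPolynomial (Fin n) R) := by
  induction n with
  | zero =>
    exact IsIntegrallyClosed.of_equiv (MvPolynomial.isEmptyAlgEquiv R (Fin 0)).symm.toRingEquiv
  | succ n ih =>
    exact IsIntegrallyClosed.of_equiv (MvPolynomial.finSuccEquiv R n).symm.toRingEquiv
/-- a valuation ring of the fraction field dominating the local ring at a prime. -/
theorem exists_valuationSubring (S : Type u) [CommRing S] [IsDomain S] (q₀ : Ideal S)
    [q₀.IsPrime] :
    ∃ (W : ValuationSubring (FractionRing S)) (σ₀ : S →+* W),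
      (∀ s, ((σ₀ s : W) : FractionRing S) = algebraMap S (FractionRing S) s) ∧
      (IsLocalRing.maximalIdeal W).comap σ₀ = q₀ := by
  let L := FractionRing S
  have hunit : ∀ s : q₀.primeCompl, IsUnit (algebraMap S L s) := by
    intro s
    rw [isUnit_iff_ne_zero, Ne, map_eq_zero_iff _ (IsFractionRing.injective _ L)]
    intro h
    exact s.2 (h ▸ q₀.zero_mem)
  let φq : Localization.AtPrime q₀ →+* L := IsLocalization.lift (M := q₀.primeCompl) hunit
  have hφq : ∀ s : S, φq (algebraMap _ (Localization.AtPrime q₀) s) = algebraMap _ L s :=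
    fun s => IsLocalization.lift_eq hunit s
  obtain ⟨W, hW, hloc⟩ := IsLocalRing.exists_factor_valuationRing φq
  let φW : Localization.AtPrime q₀ →+* W := φq.codRestrict W.toSubring hW
  let σ₀ : S →+* W := φW.comp (algebraMap _ (Localization.AtPrime q₀))
  refine ⟨W, σ₀, fun s => hφq s, ?_⟩
  have h1 : (IsLocalRing.maximalIdeal W).comap φW =
      IsLocalRing.maximalIdeal (Localization.AtPrime q₀) :=
    ((IsLocalRing.local_hom_TFAE φW).out 0 4).mp hloc
  show (IsLocalRing.maximalIdeal W).comap (φW.comp (algebraMap _ (Localization.AtPrime q₀))) = q₀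
  rw [← Ideal.comap_comap, h1]
  exact IsLocalization.AtPrime.under_maximalIdeal (Localization.AtPrime q₀) q₀
/-- going down to the principal prime `(X₀)`, abstract form. -/
theorem exists_prime_core (A S N₀ Wt : Type u) [CommRing A] [CommRing S] [CommRing N₀]
    [CommRing Wt] [IsDomain N₀] [IsIntegrallyClosed N₀] [IsDomain Wt] [Algebra A N₀] (n' : ℕ)
    (φ : MvPolynomial (Fin n') A[X] →+* S) (hft : φ.FiniteType) (hqf : φ.QuasiFinite)
    (σ₀ : S →+* Wt) (ι : N₀ →+* Wt)
    (hcompA : ∀ a : A, ι (algebraMap A N₀ a) = σ₀ (φ (MvPolynomial.C (Polynomial.C a))))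
    (hinj : Function.Injective
      (MvPolynomial.eval₂Hom ι (fun o : Option (Fin n') => σ₀ (gens n' φ o))))
    (hinjA : Function.Injective (algebraMap A N₀))
    (𝔪 : Ideal Wt) [𝔪.IsPrime] (q₀ : Ideal S) [q₀.IsPrime] (hσ𝔪 : 𝔪.comap σ₀ = q₀)
    (hc : φ (MvPolynomial.C Polynomial.X) ∈ q₀) :
    ∃ q' : Ideal S, q'.IsPrime ∧ q' ≤ q₀ ∧ φ (MvPolynomial.C Polynomial.X) ∈ q' ∧
      ∀ a : A, φ (MvPolynomial.C (Polynomial.C a)) ∈ q' → a = 0 := by
  classical
  letI algRS : Algebra (MvPolynomial (Fin n') A[X]) S := φ.toAlgebra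
  haveI : Algebra.FiniteType (MvPolynomial (Fin n') A[X]) S := hft
  haveI : Algebra.QuasiFinite (MvPolynomial (Fin n') A[X]) S := hqf
  let yW : Option (Fin n') → Wt := fun o => σ₀ (gens n' φ o)
  -- the map `α`
  let α₀ : MvPolynomial (Fin n') N₀[X] →+* Wt :=
    (MvPolynomial.eval₂Hom ι yW).comp
      ((MvPolynomial.optionEquivRight N₀ (Fin n')).symm :
        MvPolynomial (Fin n') N₀[X] →+* MvPolynomial (Option (Fin n')) N₀)
  have hα₀ : ∀ p, α₀ (MvPolynomial.optionEquivRight N₀ (Fin n') p) =
      MvPolynomial.eval₂Hom ι yW p := by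
    intro p
    show MvPolynomial.eval₂Hom ι yW ((MvPolynomial.optionEquivRight N₀ (Fin n')).symm
      (MvPolynomial.optionEquivRight N₀ (Fin n') p)) = _
    rw [AlgEquiv.symm_apply_apply]
  have hα₀CC : ∀ a : N₀, α₀ (MvPolynomial.C (Polynomial.C a)) = ι a := by
    intro a
    rw [← MvPolynomial.optionEquivRight_C, hα₀, MvPolynomial.eval₂Hom_C]
  have hα₀CX : α₀ (MvPolynomial.C Polynomial.X) = σ₀ (φ (MvPolynomial.C Polynomial.X)) := by
    rw [← MvPolynomial.optionEquivRight_X_none, hα₀, MvPolynomial.eval₂Hom_X']; rfl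
  have hα₀X : ∀ i, α₀ (MvPolynomial.X i) = σ₀ (φ (MvPolynomial.X i)) := by
    intro i
    rw [← MvPolynomial.optionEquivRight_X_some, hα₀, MvPolynomial.eval₂Hom_X']; rfl
  have hα₀inj : Function.Injective α₀ :=
    hinj.comp (MvPolynomial.optionEquivRight N₀ (Fin n')).symm.injective
  -- the algebra structures
  let κ : A[X] →+* N₀[X] := Polynomial.mapRingHom (algebraMap A N₀)
  have hκC : ∀ a : A, κ (Polynomial.C a) = Polynomial.C (algebraMap A N₀ a) :=
    fun a => Polynomial.map_C _
  have hκX : κ Polynomial.X = Polynomial.X := Polynomial.map_X _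
  letI algRN : Algebra (MvPolynomial (Fin n') A[X]) (MvPolynomial (Fin n') N₀[X]) :=
    (MvPolynomial.map κ).toAlgebra
  letI algRW : Algebra (MvPolynomial (Fin n') A[X]) Wt := (σ₀.comp φ).toAlgebra
  have hcompat : ∀ r : MvPolynomial (Fin n') A[X],
      α₀ (algebraMap (MvPolynomial (Fin n') A[X]) (MvPolynomial (Fin n') N₀[X]) r) =
        σ₀ (φ r) := by
    intro r
    have : α₀.comp (MvPolynomial.map κ) = σ₀.comp φ := by
      refine MvPolynomial.ringHom_ext (fun r₁ => ?_) (fun i => ?_)
      · have h2 : (α₀.comp (MvPolynomial.map κ)).comp MvPolynomial.C =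
            (σ₀.comp φ).comp MvPolynomial.C := by
          refine Polynomial.ringHom_ext (fun a => ?_) ?_
          · show α₀ (MvPolynomial.map κ (MvPolynomial.C (Polynomial.C a))) =
              σ₀ (φ (MvPolynomial.C (Polynomial.C a)))
            rw [MvPolynomial.map_C, hκC, hα₀CC, hcompA]
          · show α₀ (MvPolynomial.map κ (MvPolynomial.C Polynomial.X)) =
              σ₀ (φ (MvPolynomial.C Polynomial.X))
            rw [MvPolynomial.map_C, hκX, hα₀CX]
        exact congrArg (fun h : A[X] →+* Wt => h r₁) h2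
      · show α₀ (MvPolynomial.map κ (MvPolynomial.X i)) = σ₀ (φ (MvPolynomial.X i))
        rw [MvPolynomial.map_X, hα₀X]
    exact congrArg (fun h : MvPolynomial (Fin n') A[X] →+* Wt => h r) this
  let αA : MvPolynomial (Fin n') N₀[X] →ₐ[MvPolynomial (Fin n') A[X]] Wt :=
    { α₀ with commutes' := hcompat }
  let σA : S →ₐ[MvPolynomial (Fin n') A[X]] Wt :=
    { σ₀ with commutes' := fun r => rfl }
  -- the principal prime
  let P' : Ideal (MvPolynomial (Fin n') N₀[X]) := Ideal.span {MvPolynomial.C Polynomial.X}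
  have hprimeCX : Prime (MvPolynomial.C (Polynomial.X : N₀[X]) :
      MvPolynomial (Fin n') N₀[X]) :=
    (MvPolynomial.prime_C_iff (Fin n')).mpr Polynomial.prime_X
  haveI hP'prime : P'.IsPrime := (Ideal.span_singleton_prime hprimeCX.ne_zero).mpr hprimeCX
  have hcW : σ₀ (φ (MvPolynomial.C Polynomial.X)) ∈ 𝔪 := by
    have : φ (MvPolynomial.C Polynomial.X) ∈ 𝔪.comap σ₀ := by rw [hσ𝔪]; exact hc
    exact this
  have hP' : P' ≤ 𝔪.comap αA.toRingHom := by
    rw [Ideal.span_le, Set.singleton_subset_iff]
    show α₀ (MvPolynomial.C Polynomial.X) ∈ 𝔪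
    rw [hα₀CX]; exact hcW
  haveI : IsIntegrallyClosed (MvPolynomial (Fin n') N₀[X]) :=
    isIntegrallyClosed_mvPolynomial N₀[X] n'
  obtain ⟨q', hq'p, hq'le, hq'R⟩ := QFGD.exists_prime_le_of_tensor
    (R := MvPolynomial (Fin n') A[X]) (S := S) q₀ αA σA hα₀inj 𝔪 hσ𝔪 P' hP'
  refine ⟨q', hq'p, hq'le, ?_, ?_⟩
  · have h1 : (MvPolynomial.C Polynomial.X : MvPolynomial (Fin n') A[X]) ∈
        q'.under (MvPolynomial (Fin n') A[X]) := by
      rw [hq'R]
      show MvPolynomial.map κ (MvPolynomial.C Polynomial.X) ∈ P'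
      rw [MvPolynomial.map_C, hκX]
      exact Ideal.subset_span rfl
    exact h1
  · intro a ha
    have h1 : (MvPolynomial.C (Polynomial.C a) : MvPolynomial (Fin n') A[X]) ∈
        q'.under (MvPolynomial (Fin n') A[X]) := ha
    rw [hq'R] at h1
    have h2 : (MvPolynomial.C (Polynomial.C (algebraMap A N₀ a)) :
        MvPolynomial (Fin n') N₀[X]) ∈ P' := by
      have h3 : MvPolynomial.map κ (MvPolynomial.C (Polynomial.C a)) ∈ P' := h1
      rwa [MvPolynomial.map_C, hκC] at h3
    obtain ⟨w, hw⟩ := Ideal.mem_span_singleton.mp h2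
    have h3 := congrArg (fun p => Polynomial.eval 0 (MvPolynomial.constantCoeff p)) hw
    simp only [MvPolynomial.constantCoeff_C, map_mul, Polynomial.eval_C, Polynomial.eval_mul,
      Polynomial.eval_X, zero_mul] at h3
    exact hinjA (by rw [h3, map_zero])



/-- the integral closure of `A` in the fraction field of `S` maps to any valuation ring
containing the image of `S`, and algebraic independence over `A` persists. -/
theorem exists_integralClosure_hom (A S : Type u) [CommRing A] [CommRing S]
    [IsDomain A] [IsDomain S] [Algebra A S] [FaithfulSMul A S]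
    (W : ValuationSubring (FractionRing S)) (σ₀ : S →+* W)
    (hσcoe : ∀ s, ((σ₀ s : W) : FractionRing S) = algebraMap S (FractionRing S) s)
    {J : Type*} (y : J → S) (hind : AlgebraicIndependent A y) :
    ∃ ι : integralClosure A (FractionRing S) →+* W,
      (∀ a : A, ι (algebraMap A (integralClosure A (FractionRing S)) a) =
        σ₀ (algebraMap A S a)) ∧
      Function.Injective (MvPolynomial.eval₂Hom ι (fun o : J => σ₀ (y o))) := by
  have hAW : ∀ a : A, ((σ₀ (algebraMap A S a) : W) : FractionRing S) =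
      algebraMap A (FractionRing S) a := by
    intro a
    rw [hσcoe, ← IsScalarTower.algebraMap_apply A S (FractionRing S)]
  have hιmem : ∀ z : integralClosure A (FractionRing S),
      ((integralClosure A (FractionRing S)).val.toRingHom z) ∈ W.toSubring := by
    intro z
    have hz : IsIntegral A (z : FractionRing S) := z.2
    have h1 : IsIntegral W (z : FractionRing S) :=
      hz.map_of_comp_eq (σ₀.comp (algebraMap A S)) (RingHom.id (FractionRing S))
        (RingHom.ext fun a => hAW a)
    obtain ⟨w, hw⟩ := IsIntegrallyClosed.isIntegral_iff.mp h1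
    show (z : FractionRing S) ∈ W.toSubring
    rw [← hw]; exact w.2
  let ι : integralClosure A (FractionRing S) →+* W :=
    ((integralClosure A (FractionRing S)).val.toRingHom).codRestrict W.toSubring hιmem
  refine ⟨ι, fun a => Subtype.ext ((hAW a).symm ▸ rfl), ?_⟩
  letI algAbarW : Algebra (integralClosure A (FractionRing S)) W := ι.toAlgebra
  have hindL : AlgebraicIndependent (integralClosure A (FractionRing S))
      ((IsScalarTower.toAlgHom A S (FractionRing S)) ∘ y) :=
    (hind.map' (f := IsScalarTower.toAlgHom A S (FractionRing S))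
      (IsFractionRing.injective S (FractionRing S))).integralClosure
  let incl : W →ₐ[integralClosure A (FractionRing S)] FractionRing S :=
    { (algebraMap W (FractionRing S)) with commutes' := fun z => rfl }
  have hindW : AlgebraicIndependent (integralClosure A (FractionRing S))
      (fun o : J => σ₀ (y o)) := by
    refine AlgebraicIndependent.of_comp incl ?_
    have : (incl ∘ (fun o : J => σ₀ (y o))) =
        ((IsScalarTower.toAlgHom A S (FractionRing S)) ∘ y) := by
      funext o; exact hσcoe (y o)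
    rw [this]; exact hindL
  exact hindW


/-- going down to the principal prime `(X₀)`. -/
theorem exists_prime_of_algebraicIndependent (A S : Type u) [CommRing A] [CommRing S]
    [IsDomain A] [IsDomain S] [Algebra A S] [FaithfulSMul A S] (n' : ℕ)
    (φ : MvPolynomial (Fin n') A[X] →+* S)
    (hφA : ∀ a : A, φ (MvPolynomial.C (Polynomial.C a)) = algebraMap A S a)
    (hft : φ.FiniteType) (hqf : φ.QuasiFinite)
    (hind : AlgebraicIndependent A (gens n' φ))
    (q₀ : Ideal S) [q₀.IsPrime] (hc : φ (MvPolynomial.C Polynomial.X) ∈ q₀) :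
    ∃ q' : Ideal S, q'.IsPrime ∧ q' ≤ q₀ ∧ φ (MvPolynomial.C Polynomial.X) ∈ q' ∧
      ∀ a : A, algebraMap A S a ∈ q' → a = 0 := by
  obtain ⟨W, σ₀, hσcoe, hσ𝔪⟩ := exists_valuationSubring S q₀
  obtain ⟨ι, hι, hinj⟩ := exists_integralClosure_hom A S W σ₀ hσcoe (gens n' φ) hind
  haveI : IsIntegrallyClosed (integralClosure A (FractionRing S)) :=
    IsIntegrallyClosed.of_isIntegrallyClosedIn _ (FractionRing S)
  haveI h𝔪 : (IsLocalRing.maximalIdeal W).IsPrime :=
    (IsLocalRing.maximalIdeal.isMaximal W).isPrime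
  have hinjA : Function.Injective (algebraMap A (integralClosure A (FractionRing S))) := by
    intro a b hab
    have h1 : algebraMap A (FractionRing S) a = algebraMap A (FractionRing S) b :=
      congrArg (fun z : integralClosure A (FractionRing S) => (z : FractionRing S)) hab
    rw [IsScalarTower.algebraMap_apply A S (FractionRing S),
      IsScalarTower.algebraMap_apply A S (FractionRing S)] at h1
    exact FaithfulSMul.algebraMap_injective A S (IsFractionRing.injective S (FractionRing S) h1)
  obtain ⟨q', h1, h2, h3, h4⟩ := exists_prime_core A S (integralClosure A (FractionRing S)) W n'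
    φ hft hqf σ₀ ι (fun a => by rw [hι, hφA]) hinj hinjA (IsLocalRing.maximalIdeal W) q₀ hσ𝔪 hc
  exact ⟨q', h1, h2, h3, fun a ha => h4 a (by rw [hφA]; exact ha)⟩

/-- a quasi-finite presentation `A[X₀][X₁,…,X_{n'}] → C_{g₀}` with `X₀ ↦ c`, where
`trdeg_A C ≥ n' + 1`, produces a prime `q' ⊆ q` of `C` containing `c` and lying over `0`. -/
theorem exists_prime (A C : Type u) [CommRing A] [CommRing C] [IsDomain A] [IsDomain C]
    [Algebra A C] [FaithfulSMul A C] [Algebra A[X] C] [IsScalarTower A A[X] C]
    (q : Ideal C) [q.IsPrime] (c : C) (hc : c ∈ q)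
    (hX : algebraMap A[X] C X = c) (n' : ℕ)
    (htr : ((n' + 1 : ℕ) : Cardinal.{u}) ≤ Algebra.trdeg A C)
    (g₀ : C) (hg₀ : g₀ ∉ q)
    (φ : MvPolynomial (Fin n') A[X] →ₐ[A[X]] Localization.Away g₀)
    (hft : φ.toRingHom.FiniteType) (hqf : φ.toRingHom.QuasiFinite) :
    ∃ q' : Ideal C, q'.IsPrime ∧ q' ≤ q ∧ c ∈ q' ∧ q'.comap (algebraMap A C) = ⊥ := by
  classical
  have hg₀0 : g₀ ≠ 0 := fun h => hg₀ (h ▸ q.zero_mem)
  have hpow : Submonoid.powers g₀ ≤ nonZeroDivisors C :=
    powers_le_nonZeroDivisors_of_noZeroDivisors hg₀0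
  haveI : IsDomain (Localization.Away g₀) := IsLocalization.isDomain_localization hpow
  have hinjCS : Function.Injective (algebraMap C (Localization.Away g₀)) :=
    IsLocalization.injective _ hpow
  have hinjAC : Function.Injective (algebraMap A C) := FaithfulSMul.algebraMap_injective A C
  have hinjAS : Function.Injective (algebraMap A (Localization.Away g₀)) := by
    rw [IsScalarTower.algebraMap_eq A C (Localization.Away g₀)]
    exact hinjCS.comp hinjAC
  haveI : FaithfulSMul C (Localization.Away g₀) :=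
    (faithfulSMul_iff_algebraMap_injective _ _).mpr hinjCS
  haveI : FaithfulSMul A (Localization.Away g₀) :=
    (faithfulSMul_iff_algebraMap_injective _ _).mpr hinjAS
  haveI : IsScalarTower A A[X] (Localization.Away g₀) :=
    IsScalarTower.of_algebraMap_eq (fun a => by
      rw [IsScalarTower.algebraMap_apply A C (Localization.Away g₀),
        IsScalarTower.algebraMap_apply A[X] C (Localization.Away g₀),
        ← IsScalarTower.algebraMap_apply A A[X] C])
  -- the prime of the localisation
  obtain ⟨q₀, hq₀⟩ : (⟨q, inferInstance⟩ : PrimeSpectrum C) ∈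
      Set.range (PrimeSpectrum.comap (algebraMap C (Localization.Away g₀))) := by
    rw [PrimeSpectrum.localization_away_comap_range (Localization.Away g₀) g₀]
    exact hg₀
  have hq₀' : q₀.asIdeal.comap (algebraMap C (Localization.Away g₀)) = q :=
    congrArg PrimeSpectrum.asIdeal hq₀
  have hφC : ∀ r₁ : A[X],
      φ.toRingHom (MvPolynomial.C r₁) = algebraMap A[X] (Localization.Away g₀) r₁ := by
    intro r₁
    have := φ.commutes r₁
    rwa [MvPolynomial.algebraMap_eq] at this
  have hφA : ∀ a : A, φ.toRingHom (MvPolynomial.C (Polynomial.C a)) =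
      algebraMap A (Localization.Away g₀) a := by
    intro a
    rw [hφC, ← Polynomial.algebraMap_eq,
      ← IsScalarTower.algebraMap_apply A A[X] (Localization.Away g₀)]
  have hφX : φ.toRingHom (MvPolynomial.C Polynomial.X) =
      algebraMap C (Localization.Away g₀) c := by
    rw [hφC, IsScalarTower.algebraMap_apply A[X] C (Localization.Away g₀), hX]
  haveI : Algebra.IsAlgebraic C (Localization.Away g₀) :=
    IsLocalization.isAlgebraic (Localization.Away g₀) (Submonoid.powers g₀)
  have htrS : Algebra.trdeg A (Localization.Away g₀) = Algebra.trdeg A C :=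
    FlatDomDim.trdeg_eq_of_isAlgebraic A C (Localization.Away g₀)
  have hind := algebraicIndependent_gens A (Localization.Away g₀) n' φ.toRingHom hφA hft hqf
    (htrS ▸ htr)
  have hc' : φ.toRingHom (MvPolynomial.C Polynomial.X) ∈ q₀.asIdeal := by
    rw [hφX]
    show c ∈ q₀.asIdeal.comap (algebraMap C (Localization.Away g₀))
    rw [hq₀']; exact hc
  obtain ⟨q', h1, h2, h3, h4⟩ := exists_prime_of_algebraicIndependent A (Localization.Away g₀) n'
    φ.toRingHom hφA hft hqf hind q₀.asIdeal hc'
  haveI := h1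
  refine ⟨q'.comap (algebraMap C (Localization.Away g₀)), Ideal.comap_isPrime _ _, ?_, ?_, ?_⟩
  · rw [← hq₀']; exact Ideal.comap_mono h2
  · show algebraMap C (Localization.Away g₀) c ∈ q'
    rw [← hφX]; exact h3
  · rw [eq_bot_iff]
    intro a ha
    rw [Ideal.mem_bot]
    refine h4 a ?_
    rw [IsScalarTower.algebraMap_apply A C (Localization.Away g₀)]
    exact ha

end Groth.Agent.H1.PrincFib
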