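import Mathlib
import Groth.Agent.Lib.Helper1.PrincFibA
import Groth.Agent.Lib.Helper1.PrincFibB
import Groth.Agent.Lib.Helper1.FibLocDim
import Groth.Agent.Lib.Helper6.FiberDict

set_option autoImplicit false
set_option linter.style.haveILetI false
universe u
open IsLocalRing Polynomial

namespace Groth.Agent.H1.PrincFib

set_option backward.isDefEq.respectTransparency false in
theorem main_aux (A B C : Type u) [CommRing A] [CommRing B] [CommRing C] [IsDomain A]
    [IsDomain B] [IsDomain C] [IsLocalRing A] [IsLocalRing B] [Algebra A B]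
    [IsLocalHom (algebraMap A B)] [FaithfulSMul A B] [Algebra A C] [Algebra C B]
    [IsScalarTower A C B] [Algebra.FiniteType A C] [FaithfulSMul A C] [FaithfulSMul C B]
    (q : Ideal C) [q.IsPrime] [IsLocalization.AtPrime B q]
    (g : B) (hg : g ∈ maximalIdeal B)
    (hmin : ∀ P ∈ (Ideal.map (algebraMap A B) (maximalIdeal A)).minimalPrimes, g ∉ P)
    (d e : ℕ) (hd : ringKrullDim (B ⧸ Ideal.map (algebraMap A B) (maximalIdeal A)) = d)
    (he : Algebra.trdeg (ResidueField A) (ResidueField B) = e)
    (hsum : Algebra.trdeg A B = (d + e : ℕ)) :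
    Function.Injective (algebraMap A (B ⧸ Ideal.span {g})) := by
  classical
  obtain ⟨c, s, hcs⟩ := IsLocalization.exists_mk'_eq q.primeCompl g
  have hqB : (maximalIdeal B).comap (algebraMap C B) = q :=
    IsLocalization.AtPrime.under_maximalIdeal B q
  have hsu : IsUnit (algebraMap C B s) := IsLocalization.map_units B s
  have hgc : algebraMap C B c = g * algebraMap C B s := by
    rw [← hcs, IsLocalization.mk'_spec]
  have hcq : c ∈ q := by
    rw [← hqB, Ideal.mem_comap, hgc]
    exact Ideal.mul_mem_right _ _ hg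
  -- the polynomial algebra structure
  letI algPC : Algebra A[X] C := (Polynomial.aeval c : A[X] →ₐ[A] C).toRingHom.toAlgebra
  haveI : IsScalarTower A A[X] C :=
    IsScalarTower.of_algebraMap_eq (fun a => ((Polynomial.aeval c).commutes a).symm)
  have hX : algebraMap A[X] C X = c := Polynomial.aeval_X c
  haveI : Algebra.FiniteType A[X] C := Algebra.FiniteType.of_restrictScalars_finiteType A A[X] C
  have hmin' : ∀ P ∈ (Ideal.map (algebraMap A B) (maximalIdeal A)).minimalPrimes,
      algebraMap C B (algebraMap A[X] C X) ∉ P := by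
    intro P hP hmem
    rw [hX, hgc] at hmem
    haveI : P.IsPrime := hP.1.1
    rcases Ideal.IsPrime.mem_or_mem inferInstance hmem with h | h
    · exact hmin P hP h
    · exact (Ideal.IsPrime.ne_top inferInstance) (Ideal.eq_top_of_isUnit_mem P h hsu)
  obtain ⟨n', hn'1, hn'2⟩ := fibreDimAt_le A B C A[X] q X (by rw [hX]; exact hcq) hmin' d e hd he
  -- the point of the fibre
  obtain ⟨Q, hQp, hQ⟩ := Groth.Agent.H6.FiberDict.exists_under_eq (q.under A[X]) q rfl
  have hdim : FlatMor.localDim (PrimeSpectrum ((q.under A[X]).Fiber C)) ⟨Q, hQp⟩ ≤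
      (n' : WithBot ℕ∞) :=
    (FibLocDim.localDim_fiber_eq_fibreDimAt_Spec A[X] C ⟨q, inferInstance⟩ ⟨Q, hQp⟩ hQ).le.trans
      hn'2
  obtain ⟨g₀, hg₀, φ, hft, hqf⟩ := s9175le A[X] C (q.under A[X]) q ⟨Q, hQp⟩ hQ n' hdim
  -- the transcendence degree
  haveI : Algebra.IsAlgebraic C B := IsLocalization.isAlgebraic B q.primeCompl
  have e3 : Algebra.trdeg A B = Algebra.trdeg A C := FlatDomDim.trdeg_eq_of_isAlgebraic A C B
  have htr : ((n' + 1 : ℕ) : Cardinal.{u}) ≤ Algebra.trdeg A C := by rw [← e3, hsum, hn'1]
  obtain ⟨q', hq'p, hq'le, hcq', hq'A⟩ := exists_prime A C q c hcq hX n' htr g₀ hg₀ φ hft hqf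
  -- conclusion
  haveI := hq'p
  have hdisj : Disjoint (q.primeCompl : Set C) (q' : Set C) := by
    rw [Set.disjoint_left]
    intro r hr hr'
    exact hr (hq'le hr')
  have hcomap : (q'.map (algebraMap C B)).comap (algebraMap C B) = q' :=
    IsLocalization.under_map_of_isPrime_disjoint q.primeCompl B hq'p hdisj
  have hgQ : g ∈ q'.map (algebraMap C B) := by
    rw [← hcs, IsLocalization.mk'_eq_mul_mk'_one]
    exact Ideal.mul_mem_right _ _ (Ideal.mem_map_of_mem _ hcq')
  rw [injective_iff_map_eq_zero]
  intro a ha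
  have ha' : algebraMap A B a ∈ Ideal.span {g} := by
    rw [IsScalarTower.algebraMap_apply A B (B ⧸ Ideal.span {g}), Ideal.Quotient.algebraMap_eq,
      Ideal.Quotient.eq_zero_iff_mem] at ha
    exact ha
  have h1 : algebraMap A B a ∈ q'.map (algebraMap C B) :=
    (Ideal.span_singleton_le_iff_mem _).mpr hgQ ha'
  rw [IsScalarTower.algebraMap_apply A C B] at h1
  have h2 : algebraMap A C a ∈ q' := by rw [← hcomap]; exact h1
  have h3 : a ∈ q'.comap (algebraMap A C) := h2
  rw [hq'A, Ideal.mem_bot] at h3
  exact h3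

set_option backward.isDefEq.respectTransparency false in
theorem main {A B : Type u} [CommRing A] [CommRing B] [IsDomain A] [IsDomain B] [IsLocalRing A]
    [IsLocalRing B] [Algebra A B] [IsLocalHom (algebraMap A B)] [FaithfulSMul A B]
    [Algebra.EssFiniteType A B]
    (g : B) (hg : g ∈ IsLocalRing.maximalIdeal B)
    (hmin : ∀ q ∈ (Ideal.map (algebraMap A B) (IsLocalRing.maximalIdeal A)).minimalPrimes, g ∉ q)
    (d e : ℕ)
    (hd : ringKrullDim (B ⧸ Ideal.map (algebraMap A B) (IsLocalRing.maximalIdeal A)) = d)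
    (he : Algebra.trdeg (IsLocalRing.ResidueField A) (IsLocalRing.ResidueField B) = e)
    (hsum : Algebra.trdeg A B = (d + e : ℕ)) :
    Function.Injective (algebraMap A (B ⧸ Ideal.span {g})) := by
  classical
  let C := Algebra.EssFiniteType.subalgebra A B
  set q : Ideal C := (maximalIdeal B).comap (algebraMap C B) with hq
  haveI hqp : q.IsPrime := Ideal.comap_isPrime (algebraMap C B) (maximalIdeal B)
  have hM : Algebra.EssFiniteType.submonoid A B = q.primeCompl := by
    ext c
    rw [Algebra.EssFiniteType.submonoid, Submonoid.mem_comap, IsUnit.mem_submonoid_iff,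
      Ideal.mem_primeCompl_iff, hq, Ideal.mem_comap, mem_maximalIdeal, mem_nonunits_iff, not_not]
  haveI hloc : IsLocalization q.primeCompl B := by rw [← hM]; infer_instance
  have hinjAB : Function.Injective (algebraMap A B) := FaithfulSMul.algebraMap_injective A B
  have hinjCB : Function.Injective (algebraMap C B) := Subtype.val_injective
  have hinjAC : Function.Injective (algebraMap A C) := by
    intro a a' h
    apply hinjAB
    have := congrArg (algebraMap C B) h
    rwa [← IsScalarTower.algebraMap_apply, ← IsScalarTower.algebraMap_apply] at this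
  haveI : FaithfulSMul A C := (faithfulSMul_iff_algebraMap_injective A C).mpr hinjAC
  haveI : FaithfulSMul C B := (faithfulSMul_iff_algebraMap_injective C B).mpr hinjCB
  exact main_aux A B C q g hg hmin d e hd he hsum

end Groth.Agent.H1.PrincFib
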