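import Mathlib
import Groth.Agent.Lib.Helper1.PrincFibA
import Groth.Agent.Lib.Helper1.PrincFibB
import Groth.Agent.Lib.Helper1.FibLocDim
import Groth.Agent.Lib.Helper1.DimLocA
import Groth.Agent.Lib.Helper6.FiberDict

set_option autoImplicit false
set_option linter.style.haveILetI false
universe u
open IsLocalRing Polynomial AlgebraicGeometry

namespace Groth.Agent.H1.PrincFib

/-- numerical core: cutting the closed fibre by an element outside its minimal primes. -/
theorem dim_quot_aux (B : Type u) [CommRing B] [IsLocalRing B] (I J : Ideal B) (c : B)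
    (hIJ : I ⊔ Ideal.span {c} ≤ J) (hJ : J ≤ maximalIdeal B)
    (hmin : ∀ P ∈ I.minimalPrimes, c ∉ P) (t t₁ n : ℕ) (ht : t₁ ≤ t)
    (hn : ringKrullDim (B ⧸ I) + (t : WithBot ℕ∞) ≤ (n : WithBot ℕ∞)) :
    ∃ n' : ℕ, n' + 1 ≤ n ∧ ringKrullDim (B ⧸ J) + (t₁ : WithBot ℕ∞) ≤ (n' : WithBot ℕ∞) := by
  have e2 : ringKrullDim (B ⧸ J) ≤ ringKrullDim (B ⧸ (I ⊔ Ideal.span {c})) :=
    ringKrullDim_le_of_surjective (Ideal.Quotient.factor hIJ) (Ideal.Quotient.factor_surjective hIJ)
  have hmap : (Ideal.span {c}).map (Ideal.Quotient.mk I) =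
      Ideal.span {Ideal.Quotient.mk I c} := by
    rw [Ideal.map_span, Set.image_singleton]
  have e3 : ringKrullDim (B ⧸ (I ⊔ Ideal.span {c})) =
      ringKrullDim ((B ⧸ I) ⧸ Ideal.span {Ideal.Quotient.mk I c}) := by
    rw [← ringKrullDim_eq_of_ringEquiv (DoubleQuot.quotQuotEquivQuotSup I (Ideal.span {c}))]
    exact ringKrullDim_eq_of_ringEquiv (Ideal.quotEquivOfEq hmap)
  have hnm : ∀ P ∈ minimalPrimes (B ⧸ I), Ideal.Quotient.mk I c ∉ P := by
    intro P hP hc
    refine hmin (P.comap (Ideal.Quotient.mk I)) ?_ hc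
    rw [Ideal.minimalPrimes_eq_comap]
    exact ⟨P, hP, rfl⟩
  have e4 := dim_quot_singleton_succ_le (Ideal.Quotient.mk I c) hnm
  haveI : Nontrivial (B ⧸ (I ⊔ Ideal.span {c})) :=
    Ideal.Quotient.nontrivial_iff.mpr (fun h =>
      (Ideal.IsPrime.ne_top inferInstance : maximalIdeal B ≠ ⊤)
        (top_le_iff.mp (h ▸ hIJ.trans hJ)))
  obtain ⟨X, hXdef⟩ : ∃ X, X = ringKrullDim ((B ⧸ I) ⧸ Ideal.span {Ideal.Quotient.mk I c}) :=
    ⟨_, rfl⟩
  obtain ⟨D, hDdef⟩ : ∃ D, D = ringKrullDim (B ⧸ I) := ⟨_, rfl⟩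
  rw [← hXdef] at e3 e4
  rw [← hDdef] at e4 hn
  have h0X : 0 ≤ X := by rw [← e3]; exact ringKrullDim_nonneg_of_nontrivial
  have ht0 : (0 : WithBot ℕ∞) ≤ (t : WithBot ℕ∞) := by exact_mod_cast Nat.zero_le t
  have hDn : D ≤ (n : WithBot ℕ∞) := le_trans (le_add_of_nonneg_right ht0) hn
  have hXD : X ≤ D := le_trans (le_add_of_nonneg_right zero_le_one) e4
  obtain ⟨m, hm⟩ := RegLocus.nat_of_le_of_nonneg h0X (hXD.trans hDn)
  obtain ⟨d, hd⟩ := RegLocus.nat_of_le_of_nonneg (h0X.trans hXD) hDn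
  have hmd : m + 1 ≤ d := by rw [hm, hd] at e4; exact_mod_cast e4
  have hdn : d + t ≤ n := by rw [hd] at hn; exact_mod_cast hn
  refine ⟨m + t, by omega, ?_⟩
  calc ringKrullDim (B ⧸ J) + (t₁ : WithBot ℕ∞) ≤ (m : WithBot ℕ∞) + (t : WithBot ℕ∞) :=
        add_le_add (by rw [← hm]; exact e2.trans e3.le) (by exact_mod_cast ht)
    _ = ((m + t : ℕ) : WithBot ℕ∞) := (Nat.cast_add m t).symm

set_option backward.isDefEq.respectTransparency false in
/-- chart version of `fibreDimAt_le`: the fibre dimension over `R₁` drops by one. -/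
theorem fibreDimAt_succ_le (R R₁ C : Type u) [CommRing R] [CommRing R₁] [CommRing C]
    [Algebra R R₁] [Algebra R₁ C] [Algebra R C] [IsScalarTower R R₁ C]
    [Algebra.FiniteType R C] [Algebra.FiniteType R₁ C]
    (q : Ideal C) [q.IsPrime] (X₀ : R₁) (hX₀ : algebraMap R₁ C X₀ ∈ q)
    (hmin : ∀ P ∈ ((q.comap (algebraMap R C)).map
        (algebraMap R (Localization.AtPrime q))).minimalPrimes,
      algebraMap C (Localization.AtPrime q) (algebraMap R₁ C X₀) ∉ P)
    (n : ℕ) (hn : FlatMor.fibreDimAt (Spec.map (CommRingCat.ofHom (algebraMap R C)))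
        (⟨q, inferInstance⟩ : PrimeSpectrum C) ≤ (n : WithBot ℕ∞)) :
    ∃ n' : ℕ, n' + 1 ≤ n ∧
      FlatMor.fibreDimAt (Spec.map (CommRingCat.ofHom (algebraMap R₁ C)))
        (⟨q, inferInstance⟩ : PrimeSpectrum C) ≤ (n' : WithBot ℕ∞) := by
  classical
  let x : PrimeSpectrum C := ⟨q, inferInstance⟩
  let p : Ideal R := q.comap (algebraMap R C)
  let p₁ : Ideal R₁ := q.comap (algebraMap R₁ C)
  haveI : p.IsPrime := Ideal.comap_isPrime _ _
  haveI : p₁.IsPrime := Ideal.comap_isPrime _ _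
  obtain ⟨t, ψ, hψloc, hψ, ht, hfd⟩ := fibreDimAt_eq R C x p rfl
  obtain ⟨t₁, ψ₁, hψ₁loc, hψ₁, ht₁, hfd₁⟩ := fibreDimAt_eq R₁ C x p₁ rfl
  haveI := hψloc
  haveI := hψ₁loc
  have hcomap : p = p₁.comap (algebraMap R R₁) := by
    show q.comap (algebraMap R C) = (q.comap (algebraMap R₁ C)).comap (algebraMap R R₁)
    rw [Ideal.comap_comap, ← IsScalarTower.algebraMap_eq]
  let ψ₀ : Localization.AtPrime p →+* Localization.AtPrime p₁ :=
    Localization.localRingHom p p₁ (algebraMap R R₁) hcomap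
  haveI : IsLocalHom ψ₀ := Localization.isLocalHom_localRingHom _ _ _ hcomap
  have hcomp : ψ = ψ₁.comp ψ₀ := by
    refine IsLocalization.ringHom_ext p.primeCompl ?_
    ext r
    simp only [RingHom.comp_apply]
    rw [hψ, Localization.localRingHom_to_map, hψ₁, ← IsScalarTower.algebraMap_apply R R₁ C]
  have hte : t₁ ≤ t := by
    have h1 := trdeg_residue_le ψ₀ ψ₁ ψ hcomp
    rw [ht, ht₁] at h1
    exact_mod_cast h1
  have hqmax : ∀ c : C, algebraMap C (Localization.AtPrime q) c ∈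
      maximalIdeal (Localization.AtPrime q) ↔ c ∈ q :=
    fun c => IsLocalization.AtPrime.to_map_mem_maximal_iff (Localization.AtPrime q) q c
  have hR₁ : ∀ r : R₁, algebraMap R₁ (Localization.AtPrime q) r =
      algebraMap C (Localization.AtPrime q) (algebraMap R₁ C r) :=
    fun r => IsScalarTower.algebraMap_apply R₁ C (Localization.AtPrime q) r
  have hR : ∀ r : R, algebraMap R (Localization.AtPrime q) r =
      algebraMap C (Localization.AtPrime q) (algebraMap R C r) :=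
    fun r => IsScalarTower.algebraMap_apply R C (Localization.AtPrime q) r
  have key : ∀ r ∈ p₁, algebraMap C (Localization.AtPrime q) (algebraMap R₁ C r) ∈
      p₁.map (algebraMap R₁ (Localization.AtPrime q)) := by
    intro r hr
    rw [← hR₁]; exact Ideal.mem_map_of_mem _ hr
  have hJ : p.map (algebraMap R (Localization.AtPrime q)) ⊔
      Ideal.span {algebraMap C (Localization.AtPrime q) (algebraMap R₁ C X₀)} ≤
      p₁.map (algebraMap R₁ (Localization.AtPrime q)) := by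
    refine sup_le ?_ ?_
    · refine Ideal.map_le_iff_le_comap.mpr (fun r hr => ?_)
      show algebraMap R (Localization.AtPrime q) r ∈
        p₁.map (algebraMap R₁ (Localization.AtPrime q))
      rw [hR, IsScalarTower.algebraMap_apply R R₁ C]
      refine key _ ?_
      show algebraMap R₁ C (algebraMap R R₁ r) ∈ q
      rw [← IsScalarTower.algebraMap_apply R R₁ C]
      exact hr
    · rw [Ideal.span_singleton_le_iff_mem]
      exact key X₀ hX₀
  have hJmax : p₁.map (algebraMap R₁ (Localization.AtPrime q)) ≤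
      maximalIdeal (Localization.AtPrime q) := by
    refine Ideal.map_le_iff_le_comap.mpr (fun r hr => ?_)
    show algebraMap R₁ (Localization.AtPrime q) r ∈ maximalIdeal (Localization.AtPrime q)
    rw [hR₁, hqmax]; exact hr
  rw [hfd] at hn
  obtain ⟨n', h1, h2⟩ := dim_quot_aux (Localization.AtPrime q) _ _ _ hJ hJmax hmin t t₁ n hte hn
  exact ⟨n', h1, by rw [hfd₁]; exact h2⟩

set_option backward.isDefEq.respectTransparency false in
/-- at a minimal prime, the local fibre dimension is bounded by the transcendence degree of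
the corresponding extension of domains. -/
theorem natCast_le_trdeg_of_minimal (R T : Type u) [CommRing R] [CommRing T] [Algebra R T]
    [Algebra.FiniteType R T] (ξ : Ideal T) [ξ.IsPrime] (hξ : ξ ∈ minimalPrimes T)
    (p₀ : Ideal R) [p₀.IsPrime] [ξ.LiesOver p₀] (t : ℕ)
    (ht : (t : WithBot ℕ∞) ≤ FlatMor.fibreDimAt (Spec.map (CommRingCat.ofHom (algebraMap R T)))
        (⟨ξ, inferInstance⟩ : PrimeSpectrum T)) :
    (t : Cardinal.{u}) ≤ Algebra.trdeg (R ⧸ p₀) (T ⧸ ξ) := by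
  have hp₀ : p₀ = ξ.comap (algebraMap R T) := ξ.over_def p₀
  obtain ⟨t₀, ψ, hψloc, hψ, ht₀, hfd⟩ := fibreDimAt_eq R T ⟨ξ, inferInstance⟩ p₀ hp₀
  haveI := hψloc
  have hdim0 : ringKrullDim (Localization.AtPrime ξ ⧸
      p₀.map (algebraMap R (Localization.AtPrime ξ))) ≤ 0 := by
    refine (ringKrullDim_quotient_le _).trans ?_
    rw [IsLocalization.AtPrime.ringKrullDim_eq_height ξ (Localization.AtPrime ξ),
      Ideal.height_eq_zero_iff.mpr hξ]
    rfl
  have h1 : (t : WithBot ℕ∞) ≤ (t₀ : WithBot ℕ∞) := by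
    calc (t : WithBot ℕ∞) ≤ _ := ht
      _ = _ := hfd
      _ ≤ 0 + (t₀ : WithBot ℕ∞) := add_le_add hdim0 le_rfl
      _ = t₀ := zero_add _
  have h2 : t ≤ t₀ := by exact_mod_cast h1
  letI algKL : Algebra p₀.ResidueField ξ.ResidueField := (ResidueField.map ψ).toAlgebra
  have ht₀' : Algebra.trdeg p₀.ResidueField ξ.ResidueField = t₀ := ht₀
  letI algAL : Algebra (R ⧸ p₀) ξ.ResidueField :=
    ((algebraMap (T ⧸ ξ) ξ.ResidueField).comp (algebraMap (R ⧸ p₀) (T ⧸ ξ))).toAlgebra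
  haveI : IsScalarTower (R ⧸ p₀) (T ⧸ ξ) ξ.ResidueField :=
    IsScalarTower.of_algebraMap_eq (fun _ => rfl)
  haveI : IsScalarTower (R ⧸ p₀) p₀.ResidueField ξ.ResidueField :=
    IsScalarTower.of_algebraMap_eq (fun a => by
      obtain ⟨r, rfl⟩ := Ideal.Quotient.mk_surjective a
      show algebraMap (T ⧸ ξ) ξ.ResidueField
          (algebraMap (R ⧸ p₀) (T ⧸ ξ) (Ideal.Quotient.mk p₀ r)) =
        ResidueField.map ψ (algebraMap (R ⧸ p₀) p₀.ResidueField (Ideal.Quotient.mk p₀ r))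
      rw [Ideal.Quotient.algebraMap_mk_of_liesOver, Ideal.algebraMap_quotient_residueField_mk,
        Ideal.algebraMap_quotient_residueField_mk,
        IsScalarTower.algebraMap_apply R (Localization.AtPrime p₀) p₀.ResidueField,
        IsLocalRing.ResidueField.algebraMap_eq, ResidueField.map_residue, hψ,
        IsScalarTower.algebraMap_apply T (Localization.AtPrime ξ) ξ.ResidueField,
        IsLocalRing.ResidueField.algebraMap_eq])
  haveI : FaithfulSMul (T ⧸ ξ) ξ.ResidueField :=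
    (faithfulSMul_iff_algebraMap_injective _ _).mpr (IsFractionRing.injective _ _)
  haveI : FaithfulSMul (R ⧸ p₀) p₀.ResidueField :=
    (faithfulSMul_iff_algebraMap_injective _ _).mpr (IsFractionRing.injective _ _)
  haveI : FaithfulSMul p₀.ResidueField ξ.ResidueField :=
    (faithfulSMul_iff_algebraMap_injective _ _).mpr (RingHom.injective _)
  haveI : Algebra.IsAlgebraic (R ⧸ p₀) p₀.ResidueField :=
    IsLocalization.isAlgebraic _ (nonZeroDivisors (R ⧸ p₀))
  haveI : Algebra.IsAlgebraic (T ⧸ ξ) ξ.ResidueField :=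
    IsLocalization.isAlgebraic _ (nonZeroDivisors (T ⧸ ξ))
  have := DimLoc.trdeg_eq_of_isAlgebraic_square (R ⧸ p₀) (T ⧸ ξ) p₀.ResidueField ξ.ResidueField
  rw [this, ht₀']
  exact_mod_cast h2

/-- reduction of a quasi-finite presentation along surjections. -/
theorem exists_reduction (R T' A S' : Type u) [CommRing R] [CommRing T'] [CommRing A]
    [CommRing S'] [Algebra R T'] [Algebra R[X] T'] [IsScalarTower R R[X] T'] [Algebra A S']
    (πA : R →+* A) (πS : T' →+* S') (hπS : Function.Surjective πS)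
    (hcompat : ∀ r : R, algebraMap A S' (πA r) = πS (algebraMap R T' r)) (n' : ℕ)
    (φ : MvPolynomial (Fin n') R[X] →ₐ[R[X]] T') (hft : φ.toRingHom.FiniteType)
    (hqf : φ.toRingHom.QuasiFinite) :
    ∃ φ' : MvPolynomial (Fin n') A[X] →+* S',
      (∀ a : A, φ' (MvPolynomial.C (Polynomial.C a)) = algebraMap A S' a) ∧
      φ' (MvPolynomial.C Polynomial.X) = πS (algebraMap R[X] T' Polynomial.X) ∧
      φ'.FiniteType ∧ φ'.QuasiFinite := by
  classical
  let c₁ : A[X] →+* S' :=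
    Polynomial.eval₂RingHom (algebraMap A S') (πS (algebraMap R[X] T' Polynomial.X))
  let φ' : MvPolynomial (Fin n') A[X] →+* S' :=
    MvPolynomial.eval₂Hom c₁ (fun i => πS (φ (MvPolynomial.X i)))
  let Pm : MvPolynomial (Fin n') R[X] →+* MvPolynomial (Fin n') A[X] :=
    MvPolynomial.map (Polynomial.mapRingHom πA)
  have hφ'C : ∀ r₁ : A[X], φ' (MvPolynomial.C r₁) = c₁ r₁ := fun r₁ => by
    simp only [φ', MvPolynomial.coe_eval₂Hom, MvPolynomial.eval₂_C]
  have hφC : ∀ r₁ : R[X], φ.toRingHom (MvPolynomial.C r₁) = algebraMap R[X] T' r₁ := by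
    intro r₁
    have := φ.commutes r₁
    rwa [MvPolynomial.algebraMap_eq] at this
  have hC : ((φ'.comp Pm).comp (MvPolynomial.C : R[X] →+* _)) =
      ((πS.comp φ.toRingHom).comp MvPolynomial.C) := by
    refine Polynomial.ringHom_ext ?_ ?_
    · intro r
      simp only [RingHom.comp_apply]
      rw [show Pm (MvPolynomial.C (Polynomial.C r)) =
        MvPolynomial.C (Polynomial.C (πA r)) by simp [Pm], hφ'C, hφC]
      simp only [c₁, Polynomial.coe_eval₂RingHom, Polynomial.eval₂_C]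
      rw [hcompat, ← Polynomial.algebraMap_eq, ← IsScalarTower.algebraMap_apply R R[X] T']
    · simp only [RingHom.comp_apply]
      rw [show Pm (MvPolynomial.C Polynomial.X) = MvPolynomial.C Polynomial.X by simp [Pm],
        hφ'C, hφC]
      simp only [c₁, Polynomial.coe_eval₂RingHom, Polynomial.eval₂_X]
  have hcomp : φ'.comp Pm = πS.comp φ.toRingHom := by
    refine MvPolynomial.ringHom_ext ?_ ?_
    · intro r
      exact RingHom.congr_fun hC r
    · intro i
      simp only [RingHom.comp_apply]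
      rw [show Pm (MvPolynomial.X i) = MvPolynomial.X i by simp [Pm]]
      simp only [φ', MvPolynomial.coe_eval₂Hom, MvPolynomial.eval₂_X]
      rfl
  have h1 : (πS.comp φ.toRingHom).FiniteType :=
    (RingHom.FiniteType.of_surjective πS hπS).comp hft
  have h2 : (πS.comp φ.toRingHom).QuasiFinite :=
    (RingHom.QuasiFinite.of_finite (RingHom.Finite.of_surjective πS hπS)).comp hqf
  rw [← hcomp] at h1 h2
  refine ⟨φ', ?_, ?_, RingHom.FiniteType.of_comp_finiteType h1, RingHom.QuasiFinite.of_comp h2⟩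
  · intro a
    rw [hφ'C]
    simp only [c₁, Polynomial.coe_eval₂RingHom, Polynomial.eval₂_C]
  · rw [hφ'C]
    simp only [c₁, Polynomial.coe_eval₂RingHom, Polynomial.eval₂_X]

/-- the quotient of a localisation away from `g₀` is algebraic over the quotient. -/
theorem isAlgebraic_quotient_away (T T' : Type u) [CommRing T] [CommRing T'] [Algebra T T']
    (g₀ : T) [IsLocalization.Away g₀ T'] (ξ : Ideal T) [ξ.IsPrime] (ξ' : Ideal T') [ξ'.IsPrime]
    [ξ'.LiesOver ξ] (hg₀ : g₀ ∉ ξ) : Algebra.IsAlgebraic (T ⧸ ξ) (T' ⧸ ξ') := by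
  refine ⟨fun s => ?_⟩
  obtain ⟨x, rfl⟩ := Ideal.Quotient.mk_surjective s
  obtain ⟨a, y, rfl⟩ := IsLocalization.exists_mk'_eq (Submonoid.powers g₀) x
  obtain ⟨k, hk⟩ := y.2
  have hy0 : algebraMap (T ⧸ ξ) (T' ⧸ ξ') (Ideal.Quotient.mk ξ (y : T)) ≠ 0 := by
    rw [Ideal.Quotient.algebraMap_mk_of_liesOver, Ne, Ideal.Quotient.eq_zero_iff_mem]
    intro h
    have h' : (y : T) ∈ ξ := by rw [ξ'.over_def ξ]; exact h
    rw [← hk] at h'
    exact hg₀ (Ideal.IsPrime.mem_of_pow_mem inferInstance k h')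
  refine IsAlgebraic.of_mul (mem_nonZeroDivisors_of_ne_zero hy0) (isAlgebraic_algebraMap _) ?_
  have h : algebraMap (T ⧸ ξ) (T' ⧸ ξ') (Ideal.Quotient.mk ξ (y : T)) *
      Ideal.Quotient.mk ξ' (IsLocalization.mk' T' a y) =
      algebraMap (T ⧸ ξ) (T' ⧸ ξ') (Ideal.Quotient.mk ξ a) := by
    rw [Ideal.Quotient.algebraMap_mk_of_liesOver, Ideal.Quotient.algebraMap_mk_of_liesOver,
      ← map_mul, IsLocalization.mk'_spec']
  rw [h]
  exact isAlgebraic_algebraMap _

set_option backward.isDefEq.respectTransparency false in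
theorem exists_prime_core2 (R T T' : Type u) [CommRing R] [CommRing T] [CommRing T']
    [Algebra R T] [Algebra T T'] [Algebra R T'] [IsScalarTower R T T']
    [Algebra R[X] T] [IsScalarTower R R[X] T] [Algebra R[X] T'] [IsScalarTower R[X] T T']
    [IsScalarTower R R[X] T']
    (q : Ideal T) [q.IsPrime] (ξ' q' : Ideal T') [ξ'.IsPrime] [q'.IsPrime]
    (hq'c : q'.comap (algebraMap T T') = q) (hξ'q' : ξ' ≤ q')
    (g : T) (hX : algebraMap R[X] T X = g) (hg : g ∈ q) (n' : ℕ)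
    (φ : MvPolynomial (Fin n') R[X] →ₐ[R[X]] T') (hft : φ.toRingHom.FiniteType)
    (hqf : φ.toRingHom.QuasiFinite) (p₀ : Ideal R) [p₀.IsPrime] [ξ'.LiesOver p₀]
    (htr : ((n' + 1 : ℕ) : Cardinal.{u}) ≤ Algebra.trdeg (R ⧸ p₀) (T' ⧸ ξ')) :
    ∃ Q : Ideal T, Q.IsPrime ∧ Q ≤ q ∧ g ∈ Q ∧ Q.comap (algebraMap R T) = p₀ := by
  classical
  obtain ⟨φ', hφ'A, hφ'X, hft', hqf'⟩ := exists_reduction R T' (R ⧸ p₀) (T' ⧸ ξ')
    (Ideal.Quotient.mk p₀) (Ideal.Quotient.mk ξ') Ideal.Quotient.mk_surjective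
    (fun r => Ideal.Quotient.algebraMap_mk_of_liesOver ξ' p₀ r) n' φ hft hqf
  have hind := algebraicIndependent_gens (R ⧸ p₀) (T' ⧸ ξ') n' φ' hφ'A hft' hqf' htr
  have hker : RingHom.ker (Ideal.Quotient.mk ξ') ≤ q' := by rw [Ideal.mk_ker]; exact hξ'q'
  haveI hq₀p : (q'.map (Ideal.Quotient.mk ξ')).IsPrime :=
    Ideal.map_isPrime_of_surjective Ideal.Quotient.mk_surjective hker
  have hq₀c : (q'.map (Ideal.Quotient.mk ξ')).comap (Ideal.Quotient.mk ξ') = q' := by
    rw [Ideal.comap_map_of_surjective _ Ideal.Quotient.mk_surjective, ← RingHom.ker_eq_comap_bot,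
      Ideal.mk_ker]
    exact sup_eq_left.mpr hξ'q'
  have hgT' : algebraMap R[X] T' X = algebraMap T T' g := by
    rw [IsScalarTower.algebraMap_apply R[X] T T', hX]
  have hc : φ' (MvPolynomial.C Polynomial.X) ∈ q'.map (Ideal.Quotient.mk ξ') := by
    rw [hφ'X, hgT']
    refine Ideal.mem_map_of_mem _ ?_
    show g ∈ q'.comap (algebraMap T T')
    rw [hq'c]; exact hg
  obtain ⟨Q', hQ'p, hQ'le, hQ'X, hQ'A⟩ := exists_prime_of_algebraicIndependent (R ⧸ p₀)
    (T' ⧸ ξ') n' φ' hφ'A hft' hqf' hind (q'.map (Ideal.Quotient.mk ξ')) hc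
  haveI := hQ'p
  refine ⟨Q'.comap ((Ideal.Quotient.mk ξ').comp (algebraMap T T')), Ideal.comap_isPrime _ _,
    ?_, ?_, ?_⟩
  · intro x hx
    have h1 : Ideal.Quotient.mk ξ' (algebraMap T T' x) ∈ q'.map (Ideal.Quotient.mk ξ') :=
      hQ'le hx
    have h2 : algebraMap T T' x ∈ (q'.map (Ideal.Quotient.mk ξ')).comap (Ideal.Quotient.mk ξ') :=
      h1
    rw [hq₀c] at h2
    rw [← hq'c]; exact h2
  · show Ideal.Quotient.mk ξ' (algebraMap T T' g) ∈ Q'
    rw [← hgT', ← hφ'X]; exact hQ'X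
  · ext r
    have hr : Ideal.Quotient.mk ξ' (algebraMap T T' (algebraMap R T r)) =
        algebraMap (R ⧸ p₀) (T' ⧸ ξ') (Ideal.Quotient.mk p₀ r) := by
      rw [Ideal.Quotient.algebraMap_mk_of_liesOver, ← IsScalarTower.algebraMap_apply R T T']
    rw [Ideal.mem_comap, Ideal.mem_comap, RingHom.comp_apply, hr]
    constructor
    · intro h
      exact Ideal.Quotient.eq_zero_iff_mem.mp (hQ'A _ h)
    · intro h
      rw [Ideal.Quotient.eq_zero_iff_mem.mpr h, map_zero]
      exact Q'.zero_mem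

set_option backward.isDefEq.respectTransparency false in
theorem exists_prime_core3 (R T T' : Type u) [CommRing R] [CommRing T] [CommRing T']
    [Algebra R T] [Algebra T T'] [Algebra R T'] [IsScalarTower R T T']
    [Algebra R[X] T] [IsScalarTower R R[X] T] [Algebra R[X] T'] [IsScalarTower R[X] T T']
    [IsScalarTower R R[X] T'] (g₀ : T) [IsLocalization.Away g₀ T']
    (q ξ : Ideal T) [q.IsPrime] [ξ.IsPrime] (hξq : ξ ≤ q) (hg₀ : g₀ ∉ q)
    (g : T) (hX : algebraMap R[X] T X = g) (hg : g ∈ q) (n' : ℕ)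
    (φ : MvPolynomial (Fin n') R[X] →ₐ[R[X]] T') (hft : φ.toRingHom.FiniteType)
    (hqf : φ.toRingHom.QuasiFinite)
    (htr : ((n' + 1 : ℕ) : Cardinal.{u}) ≤ Algebra.trdeg (R ⧸ ξ.under R) (T ⧸ ξ)) :
    ∃ Q : Ideal T, Q.IsPrime ∧ Q ≤ q ∧ g ∈ Q ∧ Q.comap (algebraMap R T) = ξ.under R := by
  classical
  have hg₀ξ : g₀ ∉ ξ := fun h => hg₀ (hξq h)
  have hdisjξ : Disjoint (Submonoid.powers g₀ : Set T) (ξ : Set T) := by
    rw [Set.disjoint_left]
    rintro _ ⟨k, rfl⟩ hk
    exact hg₀ξ (Ideal.IsPrime.mem_of_pow_mem inferInstance k hk)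
  have hdisjq : Disjoint (Submonoid.powers g₀ : Set T) (q : Set T) := by
    rw [Set.disjoint_left]
    rintro _ ⟨k, rfl⟩ hk
    exact hg₀ (Ideal.IsPrime.mem_of_pow_mem inferInstance k hk)
  haveI hξ'p : (ξ.map (algebraMap T T')).IsPrime :=
    IsLocalization.isPrime_of_isPrime_disjoint (Submonoid.powers g₀) T' ξ inferInstance hdisjξ
  haveI hq'p : (q.map (algebraMap T T')).IsPrime :=
    IsLocalization.isPrime_of_isPrime_disjoint (Submonoid.powers g₀) T' q inferInstance hdisjq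
  have hξ'c : (ξ.map (algebraMap T T')).under T = ξ :=
    IsLocalization.under_map_of_isPrime_disjoint (Submonoid.powers g₀) T' inferInstance hdisjξ
  have hq'c : (q.map (algebraMap T T')).under T = q :=
    IsLocalization.under_map_of_isPrime_disjoint (Submonoid.powers g₀) T' inferInstance hdisjq
  haveI : (ξ.map (algebraMap T T')).LiesOver ξ := ⟨hξ'c.symm⟩
  haveI : (ξ.map (algebraMap T T')).LiesOver (ξ.under R) :=
    Ideal.LiesOver.trans (ξ.map (algebraMap T T')) ξ (ξ.under R)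
  haveI : IsScalarTower (R ⧸ ξ.under R) (T ⧸ ξ) (T' ⧸ ξ.map (algebraMap T T')) :=
    IsScalarTower.of_algebraMap_eq (fun a => by
      obtain ⟨r, rfl⟩ := Ideal.Quotient.mk_surjective a
      rw [Ideal.Quotient.algebraMap_mk_of_liesOver, Ideal.Quotient.algebraMap_mk_of_liesOver,
        Ideal.Quotient.algebraMap_mk_of_liesOver, ← IsScalarTower.algebraMap_apply R T T'])
  haveI : Algebra.IsAlgebraic (T ⧸ ξ) (T' ⧸ ξ.map (algebraMap T T')) :=
    isAlgebraic_quotient_away T T' g₀ ξ _ hg₀ξ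
  have htrS : Algebra.trdeg (R ⧸ ξ.under R) (T' ⧸ ξ.map (algebraMap T T')) =
      Algebra.trdeg (R ⧸ ξ.under R) (T ⧸ ξ) := FlatDomDim.trdeg_eq_of_isAlgebraic _ _ _
  exact exists_prime_core2 R T T' q (ξ.map (algebraMap T T')) (q.map (algebraMap T T')) hq'c
    (Ideal.map_mono hξq) g hX hg n' φ hft hqf (ξ.under R) (htrS ▸ htr)

set_option backward.isDefEq.respectTransparency false in
/-- **Chart form of the principal-divisor going-down**: `R → T` of finite type, `ξ ⊆ q` primes of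
`T` with `ξ` minimal, `g ∈ q` avoiding the minimal primes of the fibre of `T_q` over `q ∩ R`, and
the local fibre dimension at `q` at most that at `ξ`.  Then some prime `Q ⊆ q` contains `g` and
lies over `ξ ∩ R`. -/
theorem exists_prime_chart (R T : Type u) [CommRing R] [CommRing T] [Algebra R T]
    [Algebra.FiniteType R T] (q ξ : Ideal T) [q.IsPrime] [ξ.IsPrime] (hξq : ξ ≤ q)
    (hξ : ξ ∈ minimalPrimes T) (g : T) (hg : g ∈ q)
    (hmin : ∀ P ∈ ((q.comap (algebraMap R T)).map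
        (algebraMap R (Localization.AtPrime q))).minimalPrimes,
      algebraMap T (Localization.AtPrime q) g ∉ P)
    (t : ℕ)
    (h1 : FlatMor.fibreDimAt (Spec.map (CommRingCat.ofHom (algebraMap R T)))
        (⟨q, inferInstance⟩ : PrimeSpectrum T) ≤ (t : WithBot ℕ∞))
    (h2 : (t : WithBot ℕ∞) ≤ FlatMor.fibreDimAt (Spec.map (CommRingCat.ofHom (algebraMap R T)))
        (⟨ξ, inferInstance⟩ : PrimeSpectrum T)) :
    ∃ Q : Ideal T, Q.IsPrime ∧ Q ≤ q ∧ g ∈ Q ∧
      Q.comap (algebraMap R T) = ξ.comap (algebraMap R T) := by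
  classical
  have htr := natCast_le_trdeg_of_minimal R T ξ hξ (ξ.under R) t h2
  letI algPT : Algebra R[X] T := (Polynomial.aeval g : R[X] →ₐ[R] T).toRingHom.toAlgebra
  haveI : IsScalarTower R R[X] T :=
    IsScalarTower.of_algebraMap_eq (fun a => ((Polynomial.aeval g).commutes a).symm)
  have hX : algebraMap R[X] T X = g := Polynomial.aeval_X g
  haveI : Algebra.FiniteType R[X] T := Algebra.FiniteType.of_restrictScalars_finiteType R R[X] T
  obtain ⟨n', hn'1, hn'2⟩ := fibreDimAt_succ_le R R[X] T q X (by rw [hX]; exact hg)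
    (by rw [hX]; exact hmin) t h1
  obtain ⟨Q, hQp, hQ⟩ := Groth.Agent.H6.FiberDict.exists_under_eq (q.under R[X]) q rfl
  have hdim : FlatMor.localDim (PrimeSpectrum ((q.under R[X]).Fiber T)) ⟨Q, hQp⟩ ≤
      (n' : WithBot ℕ∞) :=
    (FibLocDim.localDim_fiber_eq_fibreDimAt_Spec R[X] T ⟨q, inferInstance⟩ ⟨Q, hQp⟩ hQ).le.trans
      hn'2
  obtain ⟨g₀, hg₀, φ, hft, hqf⟩ := s9175le R[X] T (q.under R[X]) q ⟨Q, hQp⟩ hQ n' hdim
  haveI : IsScalarTower R R[X] (Localization.Away g₀) :=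
    IsScalarTower.of_algebraMap_eq (fun a => by
      rw [IsScalarTower.algebraMap_apply R T (Localization.Away g₀),
        IsScalarTower.algebraMap_apply R[X] T (Localization.Away g₀),
        ← IsScalarTower.algebraMap_apply R R[X] T])
  have htr' : ((n' + 1 : ℕ) : Cardinal.{u}) ≤ Algebra.trdeg (R ⧸ ξ.under R) (T ⧸ ξ) :=
    le_trans (by exact_mod_cast hn'1) htr
  exact exists_prime_core3 R T (Localization.Away g₀) g₀ q ξ hξq hg₀ g hX hg n' φ hft hqf htr'

end Groth.Agent.H1.PrincFib
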