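import Mathlib
import Groth.Agent.Lib.Helper1.PrincFibD
import Groth.Agent.Lib.Helper1.FibDimFP
import Groth.Agent.Lib.Helper1.Chev4
import Groth.Agent.Lib.Helper1.FibCompC
import Groth.Agent.Lib.Helper1.DimFormula2

set_option autoImplicit false
set_option linter.style.haveILetI false
universe u
open AlgebraicGeometry CategoryTheory TopologicalSpace

namespace Groth.Agent.H1.PrincFib

variable {X S : Scheme.{u}}

/-- copy of helper9's `LocFinIrr.mem_genericPoints_of_maximal`. -/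
theorem closure_mem_irreducibleComponents_of_maximal {α : Type*} [TopologicalSpace α] [T0Space α]
    [QuasiSober α] {y₀ : α} (h : ∀ y', y' ⤳ y₀ → y' = y₀) :
    closure ({y₀} : Set α) ∈ irreducibleComponents α := by
  refine ⟨isIrreducible_singleton.closure, ?_⟩
  intro s hs hle
  have hζ := hs.isGenericPoint_genericPoint_closure
  have h1 : y₀ ∈ closure s := subset_closure (hle (subset_closure rfl))
  have h2 : hs.genericPoint ⤳ y₀ := hζ.specializes h1
  have h3 := h _ h2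
  have h4 : closure ({y₀} : Set α) = closure s := by rw [← h3]; exact hζ
  show s ⊆ closure ({y₀} : Set α)
  rw [h4]; exact subset_closure

set_option backward.isDefEq.respectTransparency false in
theorem mem_support_fromSpec_iff (Z : X.IdealSheafData) {U : X.Opens} (hU : IsAffineOpen U)
    (g : Γ(X, U)) (hZU : Z.ideal ⟨U, hU⟩ = Ideal.span {g}) (w : PrimeSpectrum Γ(X, U)) :
    hU.fromSpec w ∈ Z.support ↔ g ∈ w.asIdeal := by
  have hwU : hU.fromSpec w ∈ U := by
    have : hU.fromSpec w ∈ Set.range hU.fromSpec := ⟨w, rfl⟩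
    rw [hU.range_fromSpec] at this
    exact this
  rw [Scheme.IdealSheafData.mem_support_iff_of_mem (U := ⟨U, hU⟩) hwU, hZU]
  have h1 := hU.fromSpec_preimage_zeroLocus ((Ideal.span {g} : Ideal Γ(X, U)) : Set Γ(X, U))
  have h2 : hU.fromSpec w ∈ X.zeroLocus (U := U) ((Ideal.span {g} : Ideal Γ(X, U)) : Set Γ(X, U)) ↔
      w ∈ PrimeSpectrum.zeroLocus ((Ideal.span {g} : Ideal Γ(X, U)) : Set Γ(X, U)) := by
    rw [← h1]; rfl
  rw [h2, PrimeSpectrum.mem_zeroLocus, SetLike.coe_subset_coe, Ideal.span_singleton_le_iff_mem]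

set_option backward.isDefEq.respectTransparency false in
theorem exists_mem_support_chart (f : X ⟶ S) [LocallyOfFiniteType f] (Z : X.IdealSheafData)
    {U : X.Opens} (hU : IsAffineOpen U) {V : S.Opens} (hV : IsAffineOpen V) (e : U ≤ f ⁻¹ᵁ V)
    (g : Γ(X, U)) (hZU : Z.ideal ⟨U, hU⟩ = Ideal.span {g})
    (x ξ : X) (hxU : x ∈ U) (hξU : ξ ∈ U) (hξx : ξ ⤳ x) (hξgen : ∀ z : X, z ⤳ ξ → z = ξ)
    (hxZ : x ∈ Z.support) (t : ℕ) (h1 : FlatMor.fibreDimAt f x ≤ (t : WithBot ℕ∞))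
    (h2 : (t : WithBot ℕ∞) ≤ FlatMor.fibreDimAt f ξ)
    (H3 : ∀ ζ : X, f ζ = f x → ζ ⤳ x → (∀ z : X, f z = f x → z ⤳ ζ → z = ζ) → ζ ∉ Z.support) :
    ∃ z ∈ Z.support, f z = f ξ := by
  classical
  letI algRT : Algebra Γ(S, V) Γ(X, U) := (f.appLE V U e).hom.toAlgebra
  haveI : Algebra.FiniteType Γ(S, V) Γ(X, U) := f.finiteType_appLE hV hU e
  let y : PrimeSpectrum Γ(X, U) := hU.primeIdealOf ⟨x, hxU⟩
  let yξ : PrimeSpectrum Γ(X, U) := hU.primeIdealOf ⟨ξ, hξU⟩
  have hy : hU.fromSpec y = x := hU.fromSpec_primeIdealOf ⟨x, hxU⟩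
  have hyξ : hU.fromSpec yξ = ξ := hU.fromSpec_primeIdealOf ⟨ξ, hξU⟩
  have hinj : Function.Injective hU.fromSpec := hU.fromSpec.isOpenEmbedding.injective
  have hinjV : Function.Injective hV.fromSpec := hV.fromSpec.isOpenEmbedding.injective
  have hspec : ∀ w w' : PrimeSpectrum Γ(X, U),
      hU.fromSpec w ⤳ hU.fromSpec w' ↔ w.asIdeal ≤ w'.asIdeal := by
    intro w w'
    rw [hU.fromSpec.isOpenEmbedding.isInducing.specializes_iff,
      ← PrimeSpectrum.le_iff_specializes]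
    rfl
  have hfw : ∀ w : PrimeSpectrum Γ(X, U),
      f (hU.fromSpec w) = hV.fromSpec (Spec.map (f.appLE V U e) w) := by
    intro w
    rw [← Scheme.Hom.comp_apply, ← IsAffineOpen.SpecMap_appLE_fromSpec f hV hU e,
      Scheme.Hom.comp_apply]
  have hfeq : ∀ w w' : PrimeSpectrum Γ(X, U), f (hU.fromSpec w) = f (hU.fromSpec w') ↔
      w.asIdeal.comap (algebraMap Γ(S, V) Γ(X, U)) =
        w'.asIdeal.comap (algebraMap Γ(S, V) Γ(X, U)) := by
    intro w w'
    rw [hfw, hfw, hinjV.eq_iff]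
    constructor
    · intro h
      exact congrArg PrimeSpectrum.asIdeal h
    · intro h
      exact PrimeSpectrum.ext h
  have hsupp : ∀ w : PrimeSpectrum Γ(X, U), hU.fromSpec w ∈ Z.support ↔ g ∈ w.asIdeal :=
    mem_support_fromSpec_iff Z hU g hZU
  have hξmin : yξ.asIdeal ∈ minimalPrimes Γ(X, U) := by
    rw [minimalPrimes_eq_minimals]
    refine ⟨yξ.isPrime, fun P hP hle => ?_⟩
    have h := (hspec ⟨P, hP⟩ yξ).mpr hle
    rw [hyξ] at h
    have h' := hξgen _ h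
    have h'' : (⟨P, hP⟩ : PrimeSpectrum Γ(X, U)) = yξ := hinj (h'.trans hyξ.symm)
    rw [← h'']
  have hξq : yξ.asIdeal ≤ y.asIdeal := (hspec yξ y).mp (by rw [hy, hyξ]; exact hξx)
  have hgq : g ∈ y.asIdeal := (hsupp y).mp (by rw [hy]; exact hxZ)
  have hmin : ∀ P ∈ ((y.asIdeal.comap (algebraMap Γ(S, V) Γ(X, U))).map
        (algebraMap Γ(S, V) (Localization.AtPrime y.asIdeal))).minimalPrimes,
      algebraMap Γ(X, U) (Localization.AtPrime y.asIdeal) g ∉ P := by
    intro P hP hgP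
    haveI hPp : P.IsPrime := hP.1.1
    let P₀ : PrimeSpectrum Γ(X, U) :=
      ⟨P.comap (algebraMap Γ(X, U) (Localization.AtPrime y.asIdeal)), Ideal.comap_isPrime _ _⟩
    have hP₀q : P₀.asIdeal ≤ y.asIdeal := by
      intro a ha
      have h : algebraMap Γ(X, U) (Localization.AtPrime y.asIdeal) a ∈
          IsLocalRing.maximalIdeal (Localization.AtPrime y.asIdeal) :=
        IsLocalRing.le_maximalIdeal hPp.ne_top ha
      exact (IsLocalization.AtPrime.to_map_mem_maximal_iff _ y.asIdeal a).mp h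
    have hpP₀ : y.asIdeal.comap (algebraMap Γ(S, V) Γ(X, U)) ≤
        P₀.asIdeal.comap (algebraMap Γ(S, V) Γ(X, U)) := by
      intro r hr
      show algebraMap Γ(X, U) (Localization.AtPrime y.asIdeal) (algebraMap Γ(S, V) Γ(X, U) r) ∈ P
      rw [← IsScalarTower.algebraMap_apply]
      exact hP.1.2 (Ideal.mem_map_of_mem _ hr)
    have hP₀comap : P₀.asIdeal.comap (algebraMap Γ(S, V) Γ(X, U)) =
        y.asIdeal.comap (algebraMap Γ(S, V) Γ(X, U)) :=
      le_antisymm (Ideal.comap_mono hP₀q) hpP₀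
    refine H3 (hU.fromSpec P₀) ?_ ?_ ?_ ((hsupp P₀).mpr hgP)
    · rw [← hy]; exact (hfeq P₀ y).mpr hP₀comap
    · rw [← hy]; exact (hspec P₀ y).mpr hP₀q
    · intro z hz hzζ
      have hzU : z ∈ U := by
        refine hzζ.mem_open U.isOpen ?_
        have : hU.fromSpec P₀ ∈ Set.range hU.fromSpec := ⟨P₀, rfl⟩
        rw [hU.range_fromSpec] at this
        exact this
      let w : PrimeSpectrum Γ(X, U) := hU.primeIdealOf ⟨z, hzU⟩
      have hw : hU.fromSpec w = z := hU.fromSpec_primeIdealOf ⟨z, hzU⟩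
      rw [← hw] at hz hzζ ⊢
      have hwP₀ : w.asIdeal ≤ P₀.asIdeal := (hspec w P₀).mp hzζ
      have hwcomap : w.asIdeal.comap (algebraMap Γ(S, V) Γ(X, U)) =
          y.asIdeal.comap (algebraMap Γ(S, V) Γ(X, U)) :=
        (hfeq w y).mp (by rw [hy]; exact hz)
      have hdisj : Disjoint (y.asIdeal.primeCompl : Set Γ(X, U)) (w.asIdeal : Set Γ(X, U)) := by
        rw [Set.disjoint_left]
        intro a ha ha'
        exact ha (hP₀q (hwP₀ ha'))
      haveI hw'p : (w.asIdeal.map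
          (algebraMap Γ(X, U) (Localization.AtPrime y.asIdeal))).IsPrime :=
        IsLocalization.isPrime_of_isPrime_disjoint y.asIdeal.primeCompl _ _ w.isPrime hdisj
      have hw'c : (w.asIdeal.map (algebraMap Γ(X, U) (Localization.AtPrime y.asIdeal))).comap
          (algebraMap Γ(X, U) (Localization.AtPrime y.asIdeal)) = w.asIdeal :=
        IsLocalization.under_map_of_isPrime_disjoint y.asIdeal.primeCompl _ w.isPrime hdisj
      have hIw' : (y.asIdeal.comap (algebraMap Γ(S, V) Γ(X, U))).map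
          (algebraMap Γ(S, V) (Localization.AtPrime y.asIdeal)) ≤
          w.asIdeal.map (algebraMap Γ(X, U) (Localization.AtPrime y.asIdeal)) := by
        refine Ideal.map_le_iff_le_comap.mpr (fun r hr => ?_)
        show algebraMap Γ(S, V) (Localization.AtPrime y.asIdeal) r ∈
          w.asIdeal.map (algebraMap Γ(X, U) (Localization.AtPrime y.asIdeal))
        rw [IsScalarTower.algebraMap_apply Γ(S, V) Γ(X, U) (Localization.AtPrime y.asIdeal)]
        refine Ideal.mem_map_of_mem _ ?_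
        have h : r ∈ w.asIdeal.comap (algebraMap Γ(S, V) Γ(X, U)) := by rw [hwcomap]; exact hr
        exact h
      have hw'P : w.asIdeal.map (algebraMap Γ(X, U) (Localization.AtPrime y.asIdeal)) ≤ P :=
        Ideal.map_le_iff_le_comap.mpr hwP₀
      have hPw' : P ≤ w.asIdeal.map (algebraMap Γ(X, U) (Localization.AtPrime y.asIdeal)) :=
        hP.2 ⟨hw'p, hIw'⟩ hw'P
      have hP₀w : P₀.asIdeal ≤ w.asIdeal := by
        rw [← hw'c]; exact Ideal.comap_mono hPw'
      have hwe : w = P₀ := PrimeSpectrum.ext (le_antisymm hwP₀ hP₀w)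
      rw [hwe]
  have h1' : FlatMor.fibreDimAt (Spec.map (CommRingCat.ofHom (algebraMap Γ(S, V) Γ(X, U))))
      (⟨y.asIdeal, inferInstance⟩ : PrimeSpectrum Γ(X, U)) ≤ (t : WithBot ℕ∞) := by
    have h := FibDimFP.fibreDimAt_fromSpec f hU hV e y
    rw [hy] at h
    rw [h] at h1
    exact h1
  have h2' : (t : WithBot ℕ∞) ≤
      FlatMor.fibreDimAt (Spec.map (CommRingCat.ofHom (algebraMap Γ(S, V) Γ(X, U))))
      (⟨yξ.asIdeal, inferInstance⟩ : PrimeSpectrum Γ(X, U)) := by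
    have h := FibDimFP.fibreDimAt_fromSpec f hU hV e yξ
    rw [hyξ] at h
    rw [h] at h2
    exact h2
  obtain ⟨Q, hQp, hQq, hgQ, hQc⟩ := exists_prime_chart Γ(S, V) Γ(X, U) y.asIdeal yξ.asIdeal hξq
    hξmin g hgq hmin t h1' h2'
  refine ⟨hU.fromSpec ⟨Q, hQp⟩, (hsupp ⟨Q, hQp⟩).mpr hgQ, ?_⟩
  rw [← hyξ]
  exact (hfeq ⟨Q, hQp⟩ yξ).mpr hQc

set_option backward.isDefEq.respectTransparency false in
theorem main_S1387 (f : X ⟶ S) [IrreducibleSpace ↑S] [IrreducibleSpace ↑X] [IsDominant f]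
    [LocallyOfFiniteType f] (s : S)
    (hdim : topologicalKrullDim ↑(f.fiber s) ≤ topologicalKrullDim ↑(f.fiber (genericPoint ↑S)))
    (Z : X.IdealSheafData)
    (hZ : ∀ x : X, ∃ (U : X.Opens) (hU : IsAffineOpen U) (g : Γ(X, U)),
      x ∈ U ∧ Z.ideal ⟨U, hU⟩ = Ideal.span {g})
    (hη : ∀ x ∈ (Z.support : Set ↑X), f x ≠ genericPoint ↑S) :
    ∀ x : ↑(f ⁻¹' {s}), (x : ↑X) ∈ (Z.support : Set ↑X) →
      ∃ C ∈ irreducibleComponents ↑(f ⁻¹' {s}), x ∈ C ∧
        Subtype.val '' C ⊆ (Z.support : Set ↑X) := by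
  intro x hxZ
  have hfgen : f (genericPoint X) = genericPoint S := by
    have h1 : IsGenericPoint (f (genericPoint X)) (closure (Set.range f)) := by
      have := (genericPoint_spec X).image f.continuous
      rwa [Set.image_univ] at this
    rw [f.denseRange.closure_range] at h1
    exact h1.eq (genericPoint_spec S)
  obtain ⟨ξ, hξdef⟩ : ∃ ξ : X, ξ = genericPoint X := ⟨_, rfl⟩
  have hξspec : IsGenericPoint ξ (Set.univ : Set X) := hξdef ▸ genericPoint_spec X
  have hξgen : ∀ z : X, z ⤳ ξ → z = ξ := by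
    intro z hz
    have h1 : IsGenericPoint z (Set.univ : Set X) := by
      rw [isGenericPoint_def]
      apply Set.eq_univ_of_univ_subset
      rw [← hξspec.def]
      exact specializes_iff_closure_subset.mp hz
    exact h1.eq hξspec
  have hfξ : f ξ = genericPoint S := hξdef ▸ hfgen
  obtain ⟨t, -, ht⟩ := DimFormula.fibreDimAt_eq_trdeg_of_generic f ξ (fun x' _ h => hξgen x' h)
  have hx_s : f x.1 = s := x.2
  have h1 : FlatMor.fibreDimAt f x.1 ≤ (t : WithBot ℕ∞) := by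
    calc FlatMor.fibreDimAt f x.1 ≤ topologicalKrullDim (f.fiber s) :=
          FibComp.fibreDimAt_le_dim_fiber f x.1 s hx_s
      _ ≤ topologicalKrullDim (f.fiber (genericPoint S)) := hdim
      _ ≤ FlatMor.fibreDimAt f ξ := Chev.dim_generic_fiber_le_fibreDimAt f ξ
      _ = t := ht
  have key : ∃ ζ : X, f ζ = s ∧ ζ ⤳ x.1 ∧ ζ ∈ Z.support ∧
      ∀ z : X, f z = s → z ⤳ ζ → z = ζ := by
    by_contra hcon
    have H3 : ∀ ζ : X, f ζ = f x.1 → ζ ⤳ x.1 →
        (∀ z : X, f z = f x.1 → z ⤳ ζ → z = ζ) → ζ ∉ Z.support := by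
      intro ζ h1 h2 h3 h4
      exact hcon ⟨ζ, h1.trans hx_s, h2, h4, fun z hz => h3 z (hz.trans hx_s.symm)⟩
    obtain ⟨U₁, hU₁, g₁, hxU₁, hZU₁⟩ := hZ x.1
    obtain ⟨_, ⟨V, hV, rfl⟩, hsV, -⟩ :=
      S.isBasis_affineOpens.exists_subset_of_mem_open (Set.mem_univ (f x.1)) isOpen_univ
    obtain ⟨h, hle, hxh⟩ := hU₁.exists_basicOpen_le (V := U₁ ⊓ f ⁻¹ᵁ V)
      ⟨x.1, ⟨hxU₁, hsV⟩⟩ hxU₁
    have hU : IsAffineOpen (X.basicOpen h) := hU₁.basicOpen h
    have e : X.basicOpen h ≤ f ⁻¹ᵁ V := hle.trans inf_le_right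
    obtain ⟨g, hZU⟩ : ∃ g, Z.ideal ⟨X.basicOpen h, hU⟩ = Ideal.span {g} := by
      have := Z.map_ideal_basicOpen ⟨U₁, hU₁⟩ h
      rw [hZU₁, Ideal.map_span, Set.image_singleton] at this
      exact ⟨_, this.symm⟩
    have hξx : ξ ⤳ x.1 := hξspec.specializes (Set.mem_univ _)
    have hξh : ξ ∈ X.basicOpen h := hξx.mem_open (X.basicOpen h).isOpen hxh
    obtain ⟨z, hzZ, hfz⟩ := exists_mem_support_chart f Z hU hV e g hZU x.1 ξ hxh hξh hξx hξgen
      hxZ t h1 ht.ge H3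
    exact hη z hzZ (hfz.trans hfξ)
  obtain ⟨ζ, hζs, hζx, hζZ, hζmax⟩ := key
  haveI : QuasiSober ↑(f ⁻¹' {s}) := (f.fiberHomeo s).symm.isClosedEmbedding.quasiSober
  refine ⟨closure {(⟨ζ, hζs⟩ : ↑(f ⁻¹' {s}))},
    closure_mem_irreducibleComponents_of_maximal ?_, ?_, ?_⟩
  · intro y' hy'
    have := hζmax y'.1 y'.2 ((subtype_specializes_iff _ _).mp hy')
    exact Subtype.ext this
  · rw [← specializes_iff_mem_closure]
    exact (subtype_specializes_iff _ _).mpr hζx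
  · rintro _ ⟨y', hy', rfl⟩
    have h : (⟨ζ, hζs⟩ : ↑(f ⁻¹' {s})) ⤳ y' := specializes_iff_mem_closure.mpr hy'
    have h' : ζ ⤳ y'.1 := (subtype_specializes_iff _ _).mp h
    exact h'.mem_closed Z.support.isClosed hζZ

end Groth.Agent.H1.PrincFib
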