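import Mathlib
import Groth.Prelude.Def_Curv2
import Groth.Agent.Lib.Helper1.BCStalk

/-! Helper1: local rings of a product `X ×_k Y` of schemes over a field: they are localizations of
`O_{X,x} ⊗_k O_{Y,y}`. -/

set_option autoImplicit false
set_option linter.style.haveILetI false
universe u
open CategoryTheory CategoryTheory.Limits AlgebraicGeometry IsLocalRing TensorProduct

namespace Groth.Agent.H1.ProdStalk

/-- isomorphic schemes have isomorphic local rings. -/
theorem nonempty_stalk_equiv_of_iso {A B : Scheme.{u}} (e : A ≅ B) (a : A) :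
    Nonempty (B.presheaf.stalk (e.hom a) ≃+* A.presheaf.stalk a) :=
  ⟨RingEquiv.ofBijective (e.hom.stalkMap a).hom
    (ConcreteCategory.bijective_of_isIso (e.hom.stalkMap a))⟩

/-- points of `Y` over `x ∈ X` lift to the base change of `Spec O_{X,x}`, with the same local
ring. -/
theorem exists_lift_fromSpecStalk {X Y : Scheme.{u}} (x : X) (h : Y ⟶ X) (y : Y)
    (hy : h y = x) :
    ∃ t : ↥(pullback (X.fromSpecStalk x) h), (pullback.snd (X.fromSpecStalk x) h) t = y ∧
      Nonempty (Y.presheaf.stalk y ≃+* (pullback (X.fromSpecStalk x) h).presheaf.stalk t) := by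
  obtain ⟨t, -, ht2⟩ := Scheme.Pullback.exists_preimage_pullback
    (f := X.fromSpecStalk x) (g := h) (closedPoint (X.presheaf.stalk x)) y
    (by rw [Scheme.fromSpecStalk_closedPoint, hy])
  subst ht2
  exact ⟨t, rfl, ⟨RingEquiv.ofBijective _
    (Groth.Agent.H1.BCStalk.bijective_stalkMap_snd x h t)⟩⟩

attribute [local instance] Curv2.stalkAlgebra

theorem exists_prime_of_point_aux (k : Type u) [Field k] (X Y : Scheme.{u})
    [X.Over (Spec (CommRingCat.of k))] [Y.Over (Spec (CommRingCat.of k))]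
    (f : X ⟶ Spec (CommRingCat.of k)) (g : Y ⟶ Spec (CommRingCat.of k))
    (hf : f = X ↘ (Spec (CommRingCat.of k))) (hg : g = Y ↘ (Spec (CommRingCat.of k)))
    (z : ↥(pullback f g)) (x : X) (y : Y)
    (hx : pullback.fst f g z = x) (hy : pullback.snd f g z = y) :
    ∃ Q : PrimeSpectrum (X.presheaf.stalk x ⊗[k] Y.presheaf.stalk y),
      Nonempty ((pullback f g).presheaf.stalk z ≃+* Localization.AtPrime Q.asIdeal) := by
  -- step 1
  obtain ⟨t1, ht1, ⟨e1⟩⟩ := exists_lift_fromSpecStalk x (pullback.fst f g) z hx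
  -- step 2
  let i2 := pullbackRightPullbackFstIso f g (X.fromSpecStalk x)
  obtain ⟨e2⟩ := nonempty_stalk_equiv_of_iso i2 t1
  have hw : (pullback.snd (X.fromSpecStalk x ≫ f) g) (i2.hom t1) = y := by
    rw [← Scheme.Hom.comp_apply, pullbackRightPullbackFstIso_hom_snd, Scheme.Hom.comp_apply, ht1,
      hy]
  -- step 3
  obtain ⟨t2, ht2, ⟨e3⟩⟩ := exists_lift_fromSpecStalk y (pullback.snd (X.fromSpecStalk x ≫ f) g)
    (i2.hom t1) hw
  -- step 4
  let i4 : pullback (Y.fromSpecStalk y) (pullback.snd (X.fromSpecStalk x ≫ f) g) ≅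
      Spec (CommRingCat.of (X.presheaf.stalk x ⊗[k] Y.presheaf.stalk y)) :=
    pullbackSymmetry _ _ ≪≫ pullbackLeftPullbackSndIso (X.fromSpecStalk x ≫ f) g
      (Y.fromSpecStalk y) ≪≫
      pullback.congrHom (by rw [hf]; exact Groth.Agent.H1.BCStalk.fromSpecStalk_comp k X x)
        (by rw [hg]; exact Groth.Agent.H1.BCStalk.fromSpecStalk_comp k Y y) ≪≫
      pullbackSpecIso k (X.presheaf.stalk x) (Y.presheaf.stalk y)
  obtain ⟨e4⟩ := nonempty_stalk_equiv_of_iso i4 t2
  let e5 : Localization.AtPrime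
      ((i4.hom t2 : PrimeSpectrum (X.presheaf.stalk x ⊗[k] Y.presheaf.stalk y)).asIdeal) ≃+*
      (Spec (CommRingCat.of (X.presheaf.stalk x ⊗[k] Y.presheaf.stalk y))).presheaf.stalk
        (i4.hom t2) :=
    (StructureSheaf.stalkIso (X.presheaf.stalk x ⊗[k] Y.presheaf.stalk y)
      (i4.hom t2)).toRingEquiv
  exact ⟨i4.hom t2, ⟨e1.trans (e2.symm.trans (e3.trans (e4.symm.trans e5.symm)))⟩⟩

/-- **Local rings of a product.** -/
theorem exists_prime_of_point (k : Type u) [Field k] (X Y : Scheme.{u})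
    [X.Over (Spec (CommRingCat.of k))] [Y.Over (Spec (CommRingCat.of k))]
    (z : ↥(pullback (X ↘ (Spec (CommRingCat.of k))) (Y ↘ (Spec (CommRingCat.of k)))))
    (x : X) (y : Y)
    (hx : pullback.fst (X ↘ (Spec (CommRingCat.of k))) (Y ↘ (Spec (CommRingCat.of k))) z = x)
    (hy : pullback.snd (X ↘ (Spec (CommRingCat.of k))) (Y ↘ (Spec (CommRingCat.of k))) z = y) :
    ∃ Q : PrimeSpectrum (X.presheaf.stalk x ⊗[k] Y.presheaf.stalk y),
      Nonempty ((pullback (X ↘ (Spec (CommRingCat.of k)))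
        (Y ↘ (Spec (CommRingCat.of k)))).presheaf.stalk z ≃+*
        Localization.AtPrime Q.asIdeal) :=
  exists_prime_of_point_aux k X Y _ _ rfl rfl z x y hx hy

end Groth.Agent.H1.ProdStalk
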