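import Mathlib
import Groth.Prelude.Def_Curv2
import Groth.Agent.Lib.Helper1.ProdStalk
import Groth.Agent.Lib.Helper1.BCStalkApp
import Groth.Agent.Lib.Helper8.NormalHomReduced

/-! Helper1: applications of the dictionary for local rings of products. -/

set_option autoImplicit false
set_option linter.style.haveILetI false
universe u
open CategoryTheory CategoryTheory.Limits AlgebraicGeometry IsLocalRing TensorProduct

namespace Groth.Agent.H1.ProdStalk

attribute [local instance] Curv2.resAlgebra Curv2.stalkAlgebra

theorem s7604 (k : Type u) [Field k] (X : Scheme.{u}) [X.Over (Spec (CommRingCat.of k))]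
    (Y : Scheme.{u}) [Y.Over (Spec (CommRingCat.of k))] [IsReduced Y]
    (x : ↥X) (hx : Curv2.IsGeomReducedAt k X x)
    (z : ↥(pullback (X ↘ (Spec (CommRingCat.of k))) (Y ↘ (Spec (CommRingCat.of k)))))
    (hz : pullback.fst (X ↘ (Spec (CommRingCat.of k))) (Y ↘ (Spec (CommRingCat.of k))) z = x) :
    _root_.IsReduced ↥((pullback (X ↘ (Spec (CommRingCat.of k)))
      (Y ↘ (Spec (CommRingCat.of k)))).presheaf.stalk z) := by
  obtain ⟨Q, ⟨e⟩⟩ := exists_prime_of_point k X Y z x _ hz rfl
  rw [Groth.Agent.H1.BCStalk.s1541] at hx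
  set y := pullback.snd (X ↘ (Spec (CommRingCat.of k))) (Y ↘ (Spec (CommRingCat.of k))) z
  haveI : IsReduced (X.presheaf.stalk x ⊗[k] Y.presheaf.stalk y) := by
    refine Groth.Agent.H8.NHR.isReduced_tensor_of_fields k (X.presheaf.stalk x)
      (fun K _ _ => ?_) (Y.presheaf.stalk y)
    haveI := Groth.Agent.H8.RHC.isReduced_tensor_of_isGeometricallyReduced k
      (X.presheaf.stalk x) K
    let e' := Algebra.TensorProduct.comm k (X.presheaf.stalk x) K
    exact isReduced_of_injective e'.toRingEquiv.toRingHom e'.injective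
  haveI : IsReduced (Localization.AtPrime Q.asIdeal) :=
    isReduced_localizationPreserves Q.asIdeal.primeCompl _ inferInstance
  exact isReduced_of_injective e.toRingHom e.injective

end Groth.Agent.H1.ProdStalk
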