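import Mathlib
import Groth.Prelude.Def_Curv2
import Groth.Prelude.Def_Pi1
import Groth.Agent.Lib.Helper1.ProdStalk
import Groth.Agent.Lib.Helper1.BCTowerApp
import Groth.Agent.Lib.Helper3.CA.NormTens4
import Groth.Agent.Lib.Helper8.GeomNormal

/-! Helper1: products of a geometrically normal scheme with a normal scheme. -/

set_option autoImplicit false
set_option linter.style.haveILetI false
universe u
open CategoryTheory CategoryTheory.Limits AlgebraicGeometry IsLocalRing TensorProduct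

namespace Groth.Agent.H1.ProdStalk

attribute [local instance] Curv2.resAlgebra Curv2.stalkAlgebra

variable (k : Type u) [Field k] (X : Scheme.{u}) [X.Over (Spec (CommRingCat.of k))]

/-- all local rings of `O_{X,x} ⊗_k K` are local rings of `X_K`. -/
theorem exists_point_of_prime' (K : Type u) [Field K] [Algebra k K] (x : X)
    (q : PrimeSpectrum (X.presheaf.stalk x ⊗[k] K)) :
    ∃ x' : ↥(Curv2.bc k X K),
      Nonempty ((Curv2.bc k X K).presheaf.stalk x' ≃+* Localization.AtPrime q.asIdeal) := by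
  set t := (Groth.Agent.H1.BCStalk.isoSpec k X K x).inv q with ht
  have htq : (Groth.Agent.H1.BCStalk.isoSpec k X K x).hom t = q := by
    rw [ht, ← Scheme.Hom.comp_apply, Iso.inv_hom_id]
    rfl
  refine ⟨(pullback.snd (X.fromSpecStalk x) (Curv2.bcFst k X K)) t, ?_⟩
  have h2 := Groth.Agent.H1.BCStalk.nonempty_stalk_ringEquiv k X K x t
  rw [htq] at h2
  exact h2

theorem isNormalRing_tensor_stalk
    (hX : ∀ (K : Type u) [Field K] [Algebra k K], Pi1.IsNormalScheme (Curv2.bc k X K))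
    (x : X) (F : Type u) [Field F] [Algebra k F] :
    EGA4.IsNormalRing (X.presheaf.stalk x ⊗[k] F) := by
  intro q hq
  obtain ⟨x', ⟨e⟩⟩ := exists_point_of_prime' k X F x ⟨q, hq⟩
  obtain ⟨h1, h2⟩ := hX F x'
  exact ⟨e.symm.toMulEquiv.isDomain _, IsIntegrallyClosed.of_equiv e⟩

theorem s7601 (Y : Scheme.{u}) [Y.Over (Spec (CommRingCat.of k))]
    (hX : ∀ (K : Type u) [Field K] [Algebra k K], Pi1.IsNormalScheme (Curv2.bc k X K))
    (hY : Pi1.IsNormalScheme Y) :
    Pi1.IsNormalScheme (pullback (X ↘ (Spec (CommRingCat.of k)))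
      (Y ↘ (Spec (CommRingCat.of k)))) := by
  intro z
  obtain ⟨x, hx⟩ : ∃ x, pullback.fst (X ↘ (Spec (CommRingCat.of k)))
    (Y ↘ (Spec (CommRingCat.of k))) z = x := ⟨_, rfl⟩
  obtain ⟨y, hy⟩ : ∃ y, pullback.snd (X ↘ (Spec (CommRingCat.of k)))
    (Y ↘ (Spec (CommRingCat.of k))) z = y := ⟨_, rfl⟩
  obtain ⟨Q, ⟨e⟩⟩ := exists_prime_of_point k X Y z x y hx hy
  -- `O_x` is a domain
  haveI : IsDomain (X.presheaf.stalk x) := by
    obtain ⟨x1, hx1⟩ := (Groth.Agent.H1.BCTower.surjective_bcFst k X k).surj x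
    haveI := (hX k x1).1
    rw [← hx1]
    exact (Groth.Agent.H1.BCTower.injective_of_flat_of_isLocalHom
      ((Curv2.bcFst k X k).stalkMap x1).hom (Flat.stalkMap (Curv2.bcFst k X k) x1)).isDomain _
  haveI := (hY y).1
  haveI := (hY y).2
  -- `Frac O_x` is separable over `k`
  haveI : Algebra.IsGeometricallyReduced k (FractionRing (X.presheaf.stalk x)) := by
    have h1 : Curv2.IsGeomReducedAt k X x := by
      intro K _ _ x' _
      haveI := (hX K x').1
      infer_instance
    rw [Groth.Agent.H1.BCStalk.s1541] at h1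
    rw [Algebra.isGeometricallyReduced_field_iff] at h1 ⊢
    exact Groth.Agent.H8.Jap.HensGN.isReduced_tensor_localization k (AlgebraicClosure k)
      (X.presheaf.stalk x) (FractionRing (X.presheaf.stalk x))
      (nonZeroDivisors (X.presheaf.stalk x))
  have hN : EGA4.IsNormalRing (X.presheaf.stalk x ⊗[k] Y.presheaf.stalk y) :=
    Groth.Agent.H3.NormTens.isNormalRing_tensor_of_domains k (X.presheaf.stalk x)
      (Y.presheaf.stalk y) (fun F _ _ _ => isNormalRing_tensor_stalk k X hX x F)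
  obtain ⟨h1, h2⟩ := hN Q.asIdeal
  exact ⟨e.toMulEquiv.isDomain _, IsIntegrallyClosed.of_equiv e.symm⟩

end Groth.Agent.H1.ProdStalk

namespace Groth.Agent.H1.ProdStalk

attribute [local instance] Curv2.resAlgebra Curv2.stalkAlgebra

theorem normalLoc_tensor_stalk_of_isNormalScheme (k : Type u) [Field k] (X : Scheme.{u})
    [X.Over (Spec (CommRingCat.of k))] (K : Type u) [Field K] [Algebra k K]
    (h : Pi1.IsNormalScheme (Curv2.bc k X K)) (x : X) :
    Groth.Agent.H8.GNorm.NormalLoc (K ⊗[k] X.presheaf.stalk x) := by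
  refine Groth.Agent.H8.GNorm.NormalLoc.of_ringEquiv
    (Algebra.TensorProduct.comm k (X.presheaf.stalk x) K).toRingEquiv ?_
  intro q hq
  obtain ⟨x', ⟨e⟩⟩ := exists_point_of_prime' k X K x ⟨q, hq⟩
  obtain ⟨h1, h2⟩ := h x'
  exact ⟨e.symm.toMulEquiv.isDomain _, IsIntegrallyClosed.of_equiv e⟩

theorem s1668 (k : Type u) [Field k] (X : Scheme.{u}) [X.Over (Spec (CommRingCat.of k))]
    (h : ∀ (k' : Type u) [Field k'] [Algebra k k'] [FiniteDimensional k k']
      [IsPurelyInseparable k k'], Pi1.IsNormalScheme (Curv2.bc k X k'))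
    (K : Type u) [Field K] [Algebra k K] : Pi1.IsNormalScheme (Curv2.bc k X K) := by
  intro x'
  obtain ⟨x, hx⟩ : ∃ x, Curv2.bcFst k X K x' = x := ⟨_, rfl⟩
  obtain ⟨q, -, ⟨e⟩⟩ := Groth.Agent.H1.BCStalk.exists_prime_of_point k X K x x' hx
  have hN : Groth.Agent.H8.GNorm.NormalLoc (K ⊗[k] X.presheaf.stalk x) :=
    Groth.Agent.H8.GNorm.normalLoc_tensor_of_forall_finite_purelyInseparable k
      (X.presheaf.stalk x) (fun k' _ _ hfin hpi =>
        haveI := hfin
        haveI := hpi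
        normalLoc_tensor_stalk_of_isNormalScheme k X k' (h k') x) K
  have hN' : Groth.Agent.H8.GNorm.NormalLoc (X.presheaf.stalk x ⊗[k] K) :=
    Groth.Agent.H8.GNorm.NormalLoc.of_ringEquiv
      (Algebra.TensorProduct.comm k K (X.presheaf.stalk x)).toRingEquiv hN
  obtain ⟨h1, h2⟩ := hN' q.asIdeal
  exact ⟨e.toMulEquiv.isDomain _, IsIntegrallyClosed.of_equiv e.symm⟩

end Groth.Agent.H1.ProdStalk
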