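import Mathlib

set_option autoImplicit false
set_option linter.style.haveILetI false
universe u

namespace Groth.Agent.H1.ProdSurj

open AlgebraicGeometry CategoryTheory Limits

/-- a field extension with a transcendence basis injecting into the index set of an algebraically
independent family of an algebraically closed field embeds into it. -/
theorem exists_algHom_of_transcendenceBasis (k E Ω : Type u) [Field k] [Field E] [Algebra k E]
    [Field Ω] [IsAlgClosed Ω] [Algebra k Ω] {J : Type u} (t : J → Ω)
    (ht : AlgebraicIndependent k t) (s : Set E) (hs : IsTranscendenceBasis k ((↑) : s → E))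
    (j : s → J) (hj : Function.Injective j) : Nonempty (E →ₐ[k] Ω) := by
  classical
  have ht' : AlgebraicIndependent k (t ∘ j) := ht.comp j hj
  let ψ : Algebra.adjoin k (Set.range ((↑) : s → E)) →ₐ[k] Ω :=
    (MvPolynomial.aeval (t ∘ j)).comp (hs.1.aevalEquiv.symm : _ →ₐ[k] MvPolynomial s k)
  have hψ : Function.Injective ψ := fun a b h => hs.1.aevalEquiv.symm.injective (ht' h)
  letI : Algebra (Algebra.adjoin k (Set.range ((↑) : s → E))) Ω := ψ.toRingHom.toAlgebra
  haveI : IsScalarTower k (Algebra.adjoin k (Set.range ((↑) : s → E))) Ω :=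
    IsScalarTower.of_algebraMap_eq (fun x => (ψ.commutes x).symm)
  haveI : Module.IsTorsionFree (Algebra.adjoin k (Set.range ((↑) : s → E))) Ω :=
    Module.isTorsionFree_iff_algebraMap_injective.mpr hψ
  haveI : Algebra.IsAlgebraic (Algebra.adjoin k (Set.range ((↑) : s → E))) E := hs.isAlgebraic
  let φ' : E →ₐ[Algebra.adjoin k (Set.range ((↑) : s → E))] Ω := IsAlgClosed.lift
  exact ⟨φ'.restrictScalars k⟩

/-- a small family of field extensions of `k` embeds in a common field extension. -/
theorem exists_common_extension (k : Type u) [Field k] {I : Type u} (E : I → Type u)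
    [∀ i, Field (E i)] [∀ i, Algebra k (E i)] :
    ∃ (Ω : Type u) (_ : Field Ω) (_ : Algebra k Ω), ∀ i, Nonempty (E i →ₐ[k] Ω) := by
  classical
  let J : Type u := Σ i : I, E i
  let F := FractionRing (MvPolynomial J k)
  let Ω := AlgebraicClosure F
  let ι : MvPolynomial J k →ₐ[k] Ω := IsScalarTower.toAlgHom k (MvPolynomial J k) Ω
  have hι : Function.Injective ι := by
    have h1 : (ι : MvPolynomial J k → Ω) = (algebraMap F Ω) ∘ (algebraMap (MvPolynomial J k) F) := by
      funext x
      exact IsScalarTower.algebraMap_apply (MvPolynomial J k) F Ω x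
    rw [h1]
    exact (algebraMap F Ω).injective.comp (IsFractionRing.injective (MvPolynomial J k) F)
  let t : J → Ω := ι ∘ MvPolynomial.X
  have ht : AlgebraicIndependent k t := (MvPolynomial.algebraicIndependent_X J k).map' hι
  refine ⟨Ω, inferInstance, inferInstance, fun i => ?_⟩
  obtain ⟨s, hs⟩ := exists_isTranscendenceBasis k (E i)
  exact exists_algHom_of_transcendenceBasis k (E i) Ω t ht s hs (fun b => ⟨i, b.1⟩)
    (fun a b h => by
      have := (Sigma.mk.inj_iff.mp h).2
      exact Subtype.ext (eq_of_heq this))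

theorem main {S : Scheme.{u}} {I : Type u} (T : I → Over S)
    (hT : ∀ i, Surjective (T i).hom) (c : Limits.Fan T) (hc : Limits.IsLimit c) :
    Surjective c.pt.hom := by
  refine ⟨fun s => ?_⟩
  have hex : ∀ i, ∃ t : (T i).left, (T i).hom t = s := fun i => (hT i).surj s
  choose t ht using hex
  let ρ : ∀ i, S.residueField s ⟶ (T i).left.residueField (t i) := fun i =>
    (S.residueFieldCongr (ht i).symm).hom ≫ (T i).hom.residueFieldMap (t i)
  have hρ : ∀ i, Spec.map (ρ i) ≫ S.fromSpecResidueField s =
      (T i).left.fromSpecResidueField (t i) ≫ (T i).hom := by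
    intro i
    rw [Spec.map_comp, Category.assoc, Scheme.residueFieldCongr_fromSpecResidueField,
      Scheme.Hom.SpecMap_residueFieldMap_fromSpecResidueField]
  letI : ∀ i, Algebra (S.residueField s) ((T i).left.residueField (t i)) := fun i =>
    (ρ i).hom.toAlgebra
  obtain ⟨Ω, _, _, hΩ⟩ := exists_common_extension (S.residueField s)
    (fun i => (T i).left.residueField (t i))
  have φ : ∀ i, (T i).left.residueField (t i) →ₐ[S.residueField s] Ω := fun i => (hΩ i).some
  let b : Spec (CommRingCat.of Ω) ⟶ S :=
    Spec.map (CommRingCat.ofHom (algebraMap (S.residueField s) Ω)) ≫ S.fromSpecResidueField s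
  let a : ∀ i, Spec (CommRingCat.of Ω) ⟶ (T i).left := fun i =>
    Spec.map (CommRingCat.ofHom (φ i).toRingHom) ≫ (T i).left.fromSpecResidueField (t i)
  have hab : ∀ i, a i ≫ (T i).hom = b := by
    intro i
    show (Spec.map (CommRingCat.ofHom (φ i).toRingHom) ≫
      (T i).left.fromSpecResidueField (t i)) ≫ (T i).hom = _
    rw [Category.assoc, ← hρ i, ← Category.assoc, ← Spec.map_comp]
    congr 2
    ext x
    exact (φ i).commutes x
  let P : Over S := Over.mk b
  let A : ∀ i, P ⟶ T i := fun i => Over.homMk (a i) (hab i)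
  let l : P ⟶ c.pt := hc.lift (Fan.mk P A)
  refine ⟨l.left.base (IsLocalRing.closedPoint Ω), ?_⟩
  have hw : l.left ≫ c.pt.hom = b := Over.w l
  rw [← Scheme.Hom.comp_apply, hw]
  show (Spec.map (CommRingCat.ofHom (algebraMap (S.residueField s) Ω)) ≫
    S.fromSpecResidueField s).base _ = s
  rw [Scheme.Hom.comp_apply, Scheme.fromSpecResidueField_apply]

end Groth.Agent.H1.ProdSurj
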