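import Mathlib

/-! Helper1: morphisms from a bounded complex of projectives `P` (zero below `n`) to a complex `K`
with `Hⁱ(K) = 0` for `i ≥ n` vanish in the homotopy category and in the derived category. -/
open CategoryTheory CategoryTheory.Limits Pretriangulated
universe w v u

namespace Groth.Agent.H1

theorem hom_projective_bounded_eq_zero_homotopyCategory {A : Type u} [Category.{v} A] [Abelian A]
    (P K : CochainComplex A ℤ) (n b : ℤ) [P.IsStrictlyGE n] [P.IsStrictlyLE b] (hP : ∀ i : ℤ, Projective (P.X i))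
    (hK : ∀ i : ℤ, n ≤ i → IsZero (K.homology i))
    (φ : (HomotopyCategory.quotient A (ComplexShape.up ℤ)).obj P ⟶ (HomotopyCategory.quotient A (ComplexShape.up ℤ)).obj K) : φ = 0 := by
  have hPproj : P.IsKProjective := CochainComplex.isKProjective_of_projective P b
  have hKLE : K.IsLE (n - 1) := by
    rw [CochainComplex.isLE_iff]
    intro i hi
    rw [HomologicalComplex.exactAt_iff_isZero_homology]
    exact hK i (by lia)
  have hqi : QuasiIso (K.ιTruncLE (n - 1)) := inferInstance
  have hW : (HomotopyCategory.subcategoryAcyclic A).trW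
      ((HomotopyCategory.quotient A (ComplexShape.up ℤ)).map (K.ιTruncLE (n - 1))) := by
    rw [← HomotopyCategory.quasiIso_eq_trW_subcategoryAcyclic,
      HomotopyCategory.quotient_map_mem_quasiIso_iff, HomologicalComplex.mem_quasiIso_iff]
    exact hqi
  obtain ⟨Z, g, h, hT, hZ⟩ := hW
  have h0 : φ ≫ g = 0 := (CochainComplex.IsKProjective.leftOrthogonal P) _ hZ
  obtain ⟨ψ, hψ⟩ := Triangle.coyoneda_exact₂ _ hT φ h0
  obtain ⟨ψ', rfl⟩ := (HomotopyCategory.quotient _ _).map_surjective ψ
  have : ψ' = 0 := by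
    ext i
    by_cases hi : i < n
    · exact (P.isZero_of_isStrictlyGE n i hi).eq_of_src _ _
    · exact ((K.truncLE (n - 1)).isZero_of_isStrictlyLE (n - 1) i (by lia)).eq_of_tgt _ _
  rw [hψ, this, Functor.map_zero]
  exact zero_comp

theorem hom_projective_bounded_eq_zero_derivedCategory {A : Type u} [Category.{v} A] [Abelian A] [HasDerivedCategory.{w} A]
    (P K : CochainComplex A ℤ) (n b : ℤ) [P.IsStrictlyGE n] [P.IsStrictlyLE b] (hP : ∀ i : ℤ, Projective (P.X i))
    (hK : ∀ i : ℤ, n ≤ i → IsZero (K.homology i))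
    (φ : DerivedCategory.Q.obj P ⟶ DerivedCategory.Q.obj K) : φ = 0 := by
  have hPproj : P.IsKProjective := CochainComplex.isKProjective_of_projective P b
  obtain ⟨ψ, hψ⟩ := (CochainComplex.IsKProjective.Qh_map_bijective P
    ((HomotopyCategory.quotient A (ComplexShape.up ℤ)).obj K)).2 φ
  rw [← hψ, hom_projective_bounded_eq_zero_homotopyCategory P K n b hP hK ψ, Functor.map_zero]
  rfl

end Groth.Agent.H1
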