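import Mathlib
import Groth.Agent.Lib.Helper1.CycDim
import Groth.Agent.Lib.Helper1.GeoKrull
import Groth.Agent.Lib.Helper1.QFDimLe
import Groth.Agent.Lib.Helper1.FibZeroSurj
import Groth.Agent.Lib.Helper9.Misc.ORB3

/-! A surjective morphism of proper `k`-schemes onto an irreducible scheme whose closed fibres are
irreducible of constant dimension has irreducible source (helper1, S10914). -/

set_option autoImplicit false
universe u

namespace Groth.Agent.H1.PropIrrFib

open AlgebraicGeometry CategoryTheory TopologicalSpace Topology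

section Top

variable {T : Type*} [TopologicalSpace T]

theorem dim_empty : topologicalKrullDim ↥(∅ : Set T) = ⊥ := by
  haveI : IsEmpty (IrreducibleCloseds ↥(∅ : Set T)) :=
    ⟨fun Z => by
      obtain ⟨z, _⟩ := Z.2.nonempty
      exact absurd z.2 (Set.notMem_empty _)⟩
  exact Order.krullDim_eq_bot

theorem natCast_ne_top (n : ℕ) : ((n : ℕ) : WithBot ℕ∞) ≠ ⊤ := by
  intro h
  have h' : ((n : ℕ∞) : WithBot ℕ∞) = ((⊤ : ℕ∞) : WithBot ℕ∞) := h
  exact ENat.natCast_ne_top n (WithBot.coe_injective h')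

theorem eq_univ_of_closedPoints_subset [JacobsonSpace T] {Z : Set T} (hZ : IsClosed Z)
    (h : closedPoints T ⊆ Z) : Z = Set.univ := by
  have h1 : closure (closedPoints T) = Set.univ := by
    have := closure_inter_closedPoints (X := T) isClosed_univ
    rwa [Set.univ_inter] at this
  apply Set.eq_univ_of_univ_subset
  rw [← h1]
  exact closure_minimal h hZ

theorem exists_isClosed_singleton_mem [JacobsonSpace T] {Z : Set T} (hZ : IsClosed Z)
    (hne : Z.Nonempty) : ∃ z ∈ Z, IsClosed ({z} : Set T) := by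
  by_contra hcon
  push_neg at hcon
  have h1 : Z ∩ closedPoints T = ∅ := by
    apply Set.eq_empty_of_forall_notMem
    rintro z ⟨hz, hzc⟩
    exact hcon z hz (mem_closedPoints_iff.mp hzc)
  have h2 := closure_inter_closedPoints (X := T) hZ
  rw [h1, closure_empty] at h2
  exact hne.ne_empty h2.symm

end Top

section Sch

variable {k : Type u} [Field k] {X Y : Scheme.{u}}

theorem isClosed_B (π : X ⟶ Y) [LocallyOfFiniteType π] (hcl : IsClosedMap π) (j : ℕ) :
    IsClosed (CycDim.B π j) := by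
  rw [← CycDim.image_F_eq_B]
  exact hcl _ (CycDim.isClosed_F π j)

theorem B_eq_univ [JacobsonSpace Y] (π : X ⟶ Y) [LocallyOfFiniteType π] (hcl : IsClosedMap π)
    (m : ℕ) (hdim : ∀ y : Y, IsClosed ({y} : Set Y) →
      (m : WithBot ℕ∞) ≤ topologicalKrullDim ↥(π.fiber y))
    (j : ℕ) (hj : j ≤ m) : CycDim.B π j = Set.univ := by
  apply eq_univ_of_closedPoints_subset (isClosed_B π hcl j)
  intro y hy
  have h1 : (j : WithBot ℕ∞) ≤ (m : WithBot ℕ∞) := by exact_mod_cast hj
  exact h1.trans (hdim y (mem_closedPoints_iff.mp hy))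

theorem B_eq_empty [JacobsonSpace Y] (π : X ⟶ Y) [LocallyOfFiniteType π] (hcl : IsClosedMap π)
    (m : ℕ) (hdim : ∀ y : Y, IsClosed ({y} : Set Y) →
      topologicalKrullDim ↥(π.fiber y) ≤ (m : WithBot ℕ∞))
    (j : ℕ) (hj : m < j) : CycDim.B π j = ∅ := by
  by_contra hne
  obtain ⟨y, hyB, hyc⟩ := exists_isClosed_singleton_mem (isClosed_B π hcl j)
    (Set.nonempty_iff_ne_empty.mpr hne)
  have h1 : (j : WithBot ℕ∞) ≤ (m : WithBot ℕ∞) := le_trans hyB (hdim y hyc)
  have : j ≤ m := by exact_mod_cast h1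
  omega

theorem dim_eq_add (pY : Y ⟶ Spec (CommRingCat.of k)) [LocallyOfFiniteType pY]
    [CompactSpace Y] [CompactSpace X] [Nonempty X]
    (f : X ⟶ Y) [LocallyOfFiniteType f] (hcl : IsClosedMap f) (m : ℕ)
    (hdim : ∀ y : Y, IsClosed ({y} : Set Y) →
      topologicalKrullDim ↥(f.fiber y) = (m : WithBot ℕ∞))
    (b : ℕ) (hb : topologicalKrullDim Y = b) :
    topologicalKrullDim X = ((b + m : ℕ) : WithBot ℕ∞) := by
  haveI : JacobsonSpace Y := LocallyOfFiniteType.jacobsonSpace pY
  have key : ∀ n : ℕ, topologicalKrullDim X ≤ n ↔ b + m ≤ n := by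
    intro n
    have h14480 : topologicalKrullDim X ≤ n ↔ ∀ i : ℕ,
        topologicalKrullDim ↥(closure (CycDim.B f i)) + (i : WithBot ℕ∞) ≤ n :=
      CycDim.s14480 k X Y pY f n
    rw [h14480]
    constructor
    · intro h
      have hm := h m
      rw [B_eq_univ f hcl m (fun y hy => (hdim y hy).ge) m le_rfl, closure_univ,
        FibZeroSurj.dim_univ, hb] at hm
      exact_mod_cast hm
    · intro h i
      by_cases hi : i ≤ m
      · calc topologicalKrullDim ↥(closure (CycDim.B f i)) + (i : WithBot ℕ∞)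
            ≤ topologicalKrullDim Y + (i : WithBot ℕ∞) :=
              add_le_add (topologicalKrullDim_subspace_le _ _) le_rfl
          _ ≤ (b : WithBot ℕ∞) + (m : WithBot ℕ∞) := by
              rw [hb]
              exact add_le_add le_rfl (by exact_mod_cast hi)
          _ ≤ n := by exact_mod_cast h
      · rw [B_eq_empty f hcl m (fun y hy => (hdim y hy).le) i (by omega), closure_empty,
          dim_empty, WithBot.bot_add]
        exact bot_le
  apply le_antisymm ((key (b + m)).mpr le_rfl)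
  have h0 : (0 : WithBot ℕ∞) ≤ topologicalKrullDim X := Groth.Agent.H3.TopDim.dim_nonneg
  obtain ⟨a, ha⟩ := DimSub.exists_nat_of_le h0 ((key (b + m)).mpr le_rfl)
  have := (key a).mp ha.le
  rw [ha]
  exact_mod_cast this

theorem preimage_subset_range (pY : Y ⟶ Spec (CommRingCat.of k)) [LocallyOfFiniteType pY]
    [CompactSpace Y] [IrreducibleSpace Y]
    (f : X ⟶ Y) [LocallyOfFiniteType f] (hcl : IsClosedMap f) (m b : ℕ)
    (hb : topologicalKrullDim Y = b)
    (hirr : ∀ y : Y, IsClosed ({y} : Set Y) → IrreducibleSpace ↥(f.fiber y))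
    (hdim : ∀ y : Y, IsClosed ({y} : Set Y) → topologicalKrullDim ↥(f.fiber y) = m)
    {A : Scheme.{u}} (j : A ⟶ X) [IsClosedImmersion j] [IrreducibleSpace A] [CompactSpace A]
    (hA : ((b + m : ℕ) : WithBot ℕ∞) ≤ topologicalKrullDim A)
    (y : Y) (hy : IsClosed ({y} : Set Y)) : f ⁻¹' {y} ⊆ Set.range j := by
  haveI : JacobsonSpace Y := LocallyOfFiniteType.jacobsonSpace pY
  have hcl₀ : IsClosedMap (j ≫ f) := by
    have : ⇑(j ≫ f) = ⇑f ∘ ⇑j := by
      funext a
      exact Scheme.Hom.comp_apply j f a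
    rw [this]
    exact hcl.comp j.isClosedEmbedding.isClosedMap
  have hfib : ∀ y' : Y, topologicalKrullDim ↥((j ≫ f).fiber y') =
      topologicalKrullDim ↥(f ⁻¹' {y'} ∩ Set.range j) := by
    intro y'
    rw [← FibDimTot.dim_preimage_eq_dim_fiber (j ≫ f) y']
    have : (j ≫ f) ⁻¹' {y'} = j ⁻¹' (f ⁻¹' {y'}) := by
      ext a
      simp
    rw [this]
    exact RelDim.dim_preimage_eq_of_isEmbedding j.isEmbedding _
  have hBsub : ∀ i, CycDim.B (j ≫ f) i ⊆ CycDim.B f i := by
    intro i y' hy'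
    show (i : WithBot ℕ∞) ≤ topologicalKrullDim ↥(f.fiber y')
    rw [← FibDimTot.dim_preimage_eq_dim_fiber f y']
    have hy'' : (i : WithBot ℕ∞) ≤ topologicalKrullDim ↥((j ≫ f).fiber y') := hy'
    refine le_trans hy'' ?_
    rw [hfib y']
    exact UOVal.dim_mono' Set.inter_subset_left
  have h14480 : ∀ n : ℕ, topologicalKrullDim A ≤ n ↔ ∀ i : ℕ,
      topologicalKrullDim ↥(closure (CycDim.B (j ≫ f) i)) + (i : WithBot ℕ∞) ≤ n :=
    fun n => CycDim.s14480 k A Y pY (j ≫ f) n
  have hnot : ¬ ∀ i : ℕ, topologicalKrullDim ↥(closure (CycDim.B (j ≫ f) i)) +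
      (i : WithBot ℕ∞) < ((b + m : ℕ) : WithBot ℕ∞) := by
    intro hall
    rcases Nat.eq_zero_or_pos (b + m) with h0 | hpos
    · have h := hall 0
      rw [h0, Nat.cast_zero, add_zero] at h
      obtain ⟨a⟩ : Nonempty A := inferInstance
      have hmem : (j ≫ f) a ∈ closure (CycDim.B (j ≫ f) 0) := by
        apply subset_closure
        show ((0 : ℕ) : WithBot ℕ∞) ≤ topologicalKrullDim ↥((j ≫ f).fiber ((j ≫ f) a))
        haveI : Nonempty ↥((j ≫ f).fiber ((j ≫ f) a)) := ⟨(j ≫ f).asFiber a⟩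
        exact_mod_cast Groth.Agent.H3.TopDim.dim_nonneg
      haveI : Nonempty ↥(closure (CycDim.B (j ≫ f) 0)) := ⟨⟨_, hmem⟩⟩
      have h2 : (0 : WithBot ℕ∞) ≤ topologicalKrullDim ↥(closure (CycDim.B (j ≫ f) 0)) :=
        Groth.Agent.H3.TopDim.dim_nonneg
      exact absurd h (not_lt.mpr h2)
    · obtain ⟨N', hN'⟩ : ∃ N', b + m = N' + 1 := ⟨b + m - 1, by omega⟩
      have h1 : topologicalKrullDim A ≤ (N' : WithBot ℕ∞) := by
        rw [h14480 N']
        intro i
        have h := hall i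
        rw [hN', Chev.withBot_lt_add_one_iff] at h
        exact h
      have h2 := hA.trans h1
      rw [hN'] at h2
      have : N' + 1 ≤ N' := by exact_mod_cast h2
      omega
  have hBm : CycDim.B (j ≫ f) m = Set.univ := by
    by_contra hne
    apply hnot
    intro i
    rcases (closure (CycDim.B (j ≫ f) i)).eq_empty_or_nonempty with he | hne'
    · rw [he, dim_empty, WithBot.bot_add]
      exact WithBot.bot_lt_coe _
    · haveI : Nonempty ↥(closure (CycDim.B (j ≫ f) i)) := hne'.to_subtype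
      have h0 : (0 : WithBot ℕ∞) ≤ topologicalKrullDim ↥(closure (CycDim.B (j ≫ f) i)) :=
        Groth.Agent.H3.TopDim.dim_nonneg
      have hle : topologicalKrullDim ↥(closure (CycDim.B (j ≫ f) i)) ≤ (b : WithBot ℕ∞) := by
        rw [← hb]
        exact topologicalKrullDim_subspace_le _ _
      obtain ⟨c, hc⟩ := DimSub.exists_nat_of_le h0 hle
      have hcb : c ≤ b := by
        rw [hc] at hle
        exact_mod_cast hle
      have him : i ≤ m := by
        by_contra him
        have hE := B_eq_empty f hcl m (fun y hy => (hdim y hy).le) i (by omega)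
        have hE' : CycDim.B (j ≫ f) i = ∅ := Set.subset_eq_empty (hBsub i) hE
        rw [hE', closure_empty] at hne'
        exact Set.not_nonempty_empty hne'
      rcases Nat.lt_or_ge i m with hlt | hge
      · rw [hc]
        have : c + i < b + m := by omega
        exact_mod_cast this
      · have him' : i = m := le_antisymm him hge
        subst him'
        have hclB := isClosed_B (j ≫ f) hcl₀ i
        rw [hclB.closure_eq] at hc ⊢
        have hlt := Groth.Agent.H3.TopDim.dim_lt_of_isClosed_ne_univ (X := Y)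
          (by rw [hb]; exact natCast_ne_top b) (CycDim.B (j ≫ f) i) hclB hne
        rw [hc, hb] at hlt
        have hcb' : c < b := by exact_mod_cast hlt
        rw [hc]
        have : c + i < b + i := by omega
        exact_mod_cast this
  have hym : (m : WithBot ℕ∞) ≤ topologicalKrullDim ↥((j ≫ f).fiber y) := by
    have : y ∈ CycDim.B (j ≫ f) m := by
      rw [hBm]
      exact Set.mem_univ y
    exact this
  rw [hfib y] at hym
  haveI := hirr y hy
  haveI : IrreducibleSpace ↥(f ⁻¹' {y}) := (f.fiberHomeo y).irreducibleSpace_iff.mp inferInstance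
  have hFdim : topologicalKrullDim ↥(f ⁻¹' {y}) = m := by
    rw [FibDimTot.dim_preimage_eq_dim_fiber f y]
    exact hdim y hy
  have hT'c : IsClosed ((Subtype.val : ↥(f ⁻¹' {y}) → X) ⁻¹' (f ⁻¹' {y} ∩ Set.range j)) :=
    ((hy.preimage f.continuous).inter j.isClosedEmbedding.isClosed_range).preimage
      continuous_subtype_val
  have hT'dim : topologicalKrullDim
      ↥((Subtype.val : ↥(f ⁻¹' {y}) → X) ⁻¹' (f ⁻¹' {y} ∩ Set.range j)) =
      topologicalKrullDim ↥(f ⁻¹' {y} ∩ Set.range j) :=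
    GeoKrull.dim_preimage_val Set.inter_subset_left
  have hT'univ : (Subtype.val : ↥(f ⁻¹' {y}) → X) ⁻¹' (f ⁻¹' {y} ∩ Set.range j) = Set.univ := by
    by_contra hne
    have hlt := Groth.Agent.H3.TopDim.dim_lt_of_isClosed_ne_univ (X := ↥(f ⁻¹' {y}))
      (by rw [hFdim]; exact natCast_ne_top m) _ hT'c hne
    rw [hT'dim, hFdim] at hlt
    exact absurd hym (not_le.mpr hlt)
  intro x hx
  have hmem : (⟨x, hx⟩ : ↥(f ⁻¹' {y})) ∈
      (Subtype.val : ↥(f ⁻¹' {y}) → X) ⁻¹' (f ⁻¹' {y} ∩ Set.range j) := by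
    rw [hT'univ]
    exact Set.mem_univ _
  exact hmem.2

theorem s10914 (k : Type u) [Field k] {X Y : Scheme.{u}}
    (pX : X ⟶ Spec (CommRingCat.of k)) (pY : Y ⟶ Spec (CommRingCat.of k)) [IsProper pX]
    [IsProper pY] (f : X ⟶ Y) (hf : f ≫ pY = pX) (hsurj : Function.Surjective f)
    [IrreducibleSpace ↥Y] (m : ℕ)
    (hirr : ∀ y : ↥Y, IsClosed ({y} : Set ↥Y) → IrreducibleSpace ↥(f.fiber y))
    (hdim : ∀ y : ↥Y, IsClosed ({y} : Set ↥Y) → topologicalKrullDim ↥(f.fiber y) = m) :
    IrreducibleSpace ↥X ∧ topologicalKrullDim ↥X = topologicalKrullDim ↥Y + m := by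
  haveI : IsProper (f ≫ pY) := by rw [hf]; infer_instance
  haveI : IsProper f := IsProper.of_comp f pY
  haveI : CompactSpace X := QuasiCompact.compactSpace_of_compactSpace pX
  haveI : CompactSpace Y := QuasiCompact.compactSpace_of_compactSpace pY
  haveI : JacobsonSpace X := LocallyOfFiniteType.jacobsonSpace pX
  have hcl : IsClosedMap f := f.isClosedMap
  obtain ⟨b', hb'⟩ := Groth.Agent.H9.ORB3.exists_nat_dim_le pY
  obtain ⟨b, hb⟩ := DimSub.exists_nat_of_le (Groth.Agent.H3.TopDim.dim_nonneg (X := Y)) hb'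
  obtain ⟨y₀⟩ : Nonempty Y := inferInstance
  obtain ⟨x₀, -⟩ := hsurj y₀
  haveI : Nonempty X := ⟨x₀⟩
  have hN := dim_eq_add pY f hcl m hdim b hb
  refine ⟨?_, by rw [hN, hb, Nat.cast_add]⟩
  obtain ⟨X₀, hX₀, hX₀dim⟩ : ∃ X₀ ∈ irreducibleComponents X,
      ((b + m : ℕ) : WithBot ℕ∞) ≤ topologicalKrullDim ↥X₀ := by
    by_contra hcon
    push_neg at hcon
    have h1 : (⨆ Z ∈ irreducibleComponents X, topologicalKrullDim ↥Z) <
        ((b + m : ℕ) : WithBot ℕ∞) := by
      apply ClosedDim.iSup_lt_nat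
      intro Z
      apply ClosedDim.iSup_lt_nat
      intro hZ
      exact hcon Z hZ
    rw [← Groth.Agent.H3.TopDim.dim_eq_iSup_irreducibleComponents, hN] at h1
    exact lt_irrefl _ h1
  have hX₀c : IsClosed X₀ := isClosed_of_mem_irreducibleComponents X₀ hX₀
  have hrj := QFDimLe.range_subschemeι_vanishingIdeal (⟨X₀, hX₀c⟩ : Closeds X)
  have hdj := QFDimLe.dim_subscheme_vanishingIdeal (⟨X₀, hX₀c⟩ : Closeds X)
  haveI : IrreducibleSpace
      (Scheme.IdealSheafData.vanishingIdeal (⟨X₀, hX₀c⟩ : Closeds X)).subscheme := by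
    rw [((Scheme.IdealSheafData.vanishingIdeal
      (⟨X₀, hX₀c⟩ : Closeds X)).subschemeι.isEmbedding.toHomeomorph).irreducibleSpace_iff, hrj]
    exact Subtype.irreducibleSpace hX₀.1
  haveI : CompactSpace
      (Scheme.IdealSheafData.vanishingIdeal (⟨X₀, hX₀c⟩ : Closeds X)).subscheme :=
    QuasiCompact.compactSpace_of_compactSpace
      (Scheme.IdealSheafData.vanishingIdeal (⟨X₀, hX₀c⟩ : Closeds X)).subschemeι
  have hA : ((b + m : ℕ) : WithBot ℕ∞) ≤ topologicalKrullDim
      (Scheme.IdealSheafData.vanishingIdeal (⟨X₀, hX₀c⟩ : Closeds X)).subscheme := by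
    rw [hdj]
    exact hX₀dim
  have hsub : ∀ y : Y, IsClosed ({y} : Set Y) → f ⁻¹' {y} ⊆ X₀ := fun y hy =>
    (preimage_subset_range pY f hcl m b hb hirr hdim
      (Scheme.IdealSheafData.vanishingIdeal (⟨X₀, hX₀c⟩ : Closeds X)).subschemeι hA y hy).trans
      hrj.le
  have hX₀univ : X₀ = Set.univ := by
    apply eq_univ_of_closedPoints_subset hX₀c
    intro x hx
    have hfx : IsClosed ({f x} : Set Y) := by
      have := hcl _ (mem_closedPoints_iff.mp hx)
      rwa [Set.image_singleton] at this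
    exact hsub (f x) hfx rfl
  have hirrX : IsIrreducible (Set.univ : Set X) := by
    rw [← hX₀univ]
    exact hX₀.1
  exact (irreducibleSpace_def X).mpr hirrX

end Sch

end Groth.Agent.H1.PropIrrFib
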