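import Mathlib
import Groth.Agent.Lib.Helper1.Thickening

universe u
open AlgebraicGeometry CategoryTheory Limits MorphismProperty

namespace Groth.Agent.H1

variable {X Y Z : Scheme.{u}}

/-- Stacks 09MQ: separatedness descends along surjective universally closed morphisms. -/
theorem isSeparated_of_comp_surjective_universallyClosed (f : X ⟶ Y) (g : Y ⟶ Z)
    [IsSeparated (f ≫ g)] [Surjective f] [UniversallyClosed f] : IsSeparated g := by
  have hf : UniversallyClosed f := inferInstance
  have h2 : UniversallyClosed (pullback.map (f ≫ g) (f ≫ g) g g f f (𝟙 Z) (by simp) (by simp)) :=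
    MorphismProperty.pullbackMap (P := @UniversallyClosed) hf hf rfl rfl
  have h3 : f ≫ pullback.diagonal g = pullback.diagonal (f ≫ g) ≫
      pullback.map (f ≫ g) (f ≫ g) g g f f (𝟙 Z) (by simp) (by simp) := by
    apply pullback.hom_ext
    · rw [Category.assoc, Category.assoc, pullback.diagonal_fst, pullback.lift_fst,
        pullback.diagonal_fst_assoc, Category.comp_id]
    · rw [Category.assoc, Category.assoc, pullback.diagonal_snd, pullback.lift_snd,
        pullback.diagonal_snd_assoc, Category.comp_id]
  have h4 : IsClosed (Set.range (f ≫ pullback.diagonal g)) := by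
    rw [h3]
    exact (pullback.diagonal (f ≫ g) ≫
      pullback.map (f ≫ g) (f ≫ g) g g f f (𝟙 Z) (by simp) (by simp)).isClosedMap.isClosed_range
  have h5 : Set.range (pullback.diagonal g) = Set.range (f ≫ pullback.diagonal g) := by
    rw [Scheme.Hom.comp_base, TopCat.coe_comp, Set.range_comp, f.surjective.range_eq,
      Set.image_univ]
  exact ⟨IsClosedImmersion.of_isPreimmersion _ (h5 ▸ h4)⟩

theorem quasiSeparatedSpace_of_surjective_universallyClosed (f : X ⟶ Y) [Surjective f]
    [UniversallyClosed f] [QuasiSeparatedSpace X] : QuasiSeparatedSpace Y := by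
  rw [quasiSeparatedSpace_iff_quasiSeparated] at *
  have : QuasiSeparated (f ≫ terminal.from Y) := by
    rw [terminal.comp_from]; infer_instance
  exact quasiSeparated_of_comp_surjective f _

end Groth.Agent.H1
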