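import Mathlib
import Groth.Agent.Lib.Helper1.ProperOver
import Groth.Prelude.Def_ClSub2

universe u
open AlgebraicGeometry CategoryTheory Limits MorphismProperty

namespace Groth.Agent.H1

variable {X S T T' : Scheme.{u}}

/-- Properness can be checked after precomposing with a surjective closed immersion. -/
theorem isProper_comp_iff_of_surjective_isClosedImmersion (r : T' ⟶ T) (g : T ⟶ S)
    [IsClosedImmersion r] [Surjective r] [LocallyOfFiniteType g] :
    IsProper (r ≫ g) ↔ IsProper g := by
  refine ⟨fun h ↦ ?_, fun h ↦ inferInstance⟩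
  have : IsSeparated g := isSeparated_of_comp_surjective_universallyClosed r g
  have : UniversallyClosed g := UniversallyClosed.of_comp_surjective r g
  exact {}

/-- The canonical morphism from the reduced induced structure on the range of a closed immersion. -/
theorem exists_reduced_to (i : T ⟶ X) [IsClosedImmersion i]
    (hZ : IsClosed (Set.range i)) :
    ∃ r : (Scheme.IdealSheafData.vanishingIdeal ⟨Set.range i, hZ⟩).subscheme ⟶ T,
      r ≫ i = (Scheme.IdealSheafData.vanishingIdeal ⟨Set.range i, hZ⟩).subschemeι ∧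
      IsClosedImmersion r ∧ Surjective r := by
  set I := Scheme.IdealSheafData.vanishingIdeal ⟨Set.range i, hZ⟩ with hI
  have hle : i.ker ≤ I.subschemeι.ker := by
    rw [Scheme.IdealSheafData.ker_subschemeι, hI,
      ← Scheme.IdealSheafData.le_support_iff_le_vanishingIdeal]
    intro x hx
    rw [← SetLike.mem_coe, Scheme.Hom.support_ker]
    exact subset_closure hx
  let r := IsClosedImmersion.lift i I.subschemeι hle
  have hr : r ≫ i = I.subschemeι := IsClosedImmersion.lift_fac _ _ _
  have h1 : IsClosedImmersion (r ≫ i) := by rw [hr]; infer_instance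
  refine ⟨r, hr, IsClosedImmersion.of_comp r i, ⟨fun t ↦ ?_⟩⟩
  have : i t ∈ Set.range I.subschemeι := by
    rw [I.range_subschemeι, hI, Scheme.IdealSheafData.coe_support_vanishingIdeal]
    exact ⟨t, rfl⟩
  obtain ⟨s, hs⟩ := this
  refine ⟨s, i.isClosedEmbedding.injective ?_⟩
  rw [← hs, ← hr]
  rfl

theorem isProperOver_range_iff (f : X ⟶ S) [LocallyOfFiniteType f] (i : T ⟶ X)
    [IsClosedImmersion i] : ClSub.IsProperOver f (Set.range i) ↔ IsProper (i ≫ f) := by
  have hZ : IsClosed (Set.range i) := i.isClosedEmbedding.isClosed_range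
  obtain ⟨r, hr, h1, h2⟩ := exists_reduced_to i hZ
  have key := isProper_comp_iff_of_surjective_isClosedImmersion r (i ≫ f)
  rw [← Category.assoc, hr] at key
  constructor
  · rintro ⟨_, hp⟩
    exact key.mp hp
  · intro hp
    exact ⟨hZ, key.mpr hp⟩

theorem isProperOver_iff_exists (f : X ⟶ S) [LocallyOfFiniteType f] (Z : Set X) :
    ClSub.IsProperOver f Z ↔ ∃ (T : Scheme.{u}) (i : T ⟶ X), IsClosedImmersion i ∧
        Set.range ⇑i = Z ∧ IsProper (i ≫ f) := by
  constructor
  · rintro ⟨hZ, hp⟩
    refine ⟨_, (Scheme.IdealSheafData.vanishingIdeal ⟨Z, hZ⟩).subschemeι, inferInstance, ?_, hp⟩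
    rw [Scheme.IdealSheafData.range_subschemeι, Scheme.IdealSheafData.coe_support_vanishingIdeal]
    rfl
  · rintro ⟨T, i, hi, rfl, hp⟩
    exact (isProperOver_range_iff f i).mpr hp

theorem isProperOver_iff_forall (f : X ⟶ S) [LocallyOfFiniteType f] (Z : Set X) (hZ : IsClosed Z) :
    ClSub.IsProperOver f Z ↔ ∀ (T : Scheme.{u}) (i : T ⟶ X), IsClosedImmersion i →
        Set.range ⇑i = Z → IsProper (i ≫ f) := by
  constructor
  · rintro h T i hi rfl
    exact (isProperOver_range_iff f i).mp h
  · intro h
    refine ⟨hZ, h _ _ inferInstance ?_⟩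
    rw [Scheme.IdealSheafData.range_subschemeι, Scheme.IdealSheafData.coe_support_vanishingIdeal]
    rfl

end Groth.Agent.H1
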