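import Mathlib
import Groth.Agent.Lib.Helper1.ProperOverClSub

universe u
open AlgebraicGeometry CategoryTheory Limits MorphismProperty

namespace Groth.Agent.H1

variable {X Y Z S T T' : Scheme.{u}}

/-- From `IsProperOver` extract a closed immersion with proper composite. -/
theorem IsProperOver.exists_closedImmersion {f : X ⟶ S} {Z : Set X} (h : ClSub.IsProperOver f Z) :
    ∃ (T : Scheme.{u}) (i : T ⟶ X), IsClosedImmersion i ∧ Set.range ⇑i = Z ∧ IsProper (i ≫ f) := by
  obtain ⟨hZ, hp⟩ := h
  refine ⟨_, (Scheme.IdealSheafData.vanishingIdeal ⟨Z, hZ⟩).subschemeι, inferInstance, ?_, hp⟩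
  rw [Scheme.IdealSheafData.range_subschemeι, Scheme.IdealSheafData.coe_support_vanishingIdeal]
  rfl

theorem isProperOver_preimage_of_isPullback {X' S' : Scheme.{u}} (f : X ⟶ S) [LocallyOfFiniteType f]
    (g : S' ⟶ S) (g' : X' ⟶ X) (f' : X' ⟶ S') (sq : IsPullback g' f' f g)
    (Z : Set X) (hZ : ClSub.IsProperOver f Z) : ClSub.IsProperOver f' (⇑g' ⁻¹' Z) := by
  obtain ⟨T, i, hi, rfl, hp⟩ := IsProperOver.exists_closedImmersion hZ
  have : LocallyOfFiniteType f' := MorphismProperty.of_isPullback (P := @LocallyOfFiniteType) sq ‹_›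
  have h1 : IsPullback (pullback.fst i g') (pullback.snd i g') i g' := IsPullback.of_hasPullback i g'
  have h2 := h1.paste_vert sq
  have h3 : IsProper (pullback.snd i g' ≫ f') := MorphismProperty.of_isPullback (P := @IsProper) h2 hp
  refine (isProperOver_iff_exists f' _).mpr ⟨_, pullback.snd i g', inferInstance, ?_, h3⟩
  rw [Scheme.Pullback.range_snd]

theorem isProperOver_preimage_of_isProper (p : X ⟶ S) (q : Y ⟶ S)
    [LocallyOfFiniteType p] [LocallyOfFiniteType q] (f : X ⟶ Y) [IsProper f] (w : f ≫ q = p)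
    (Z : Set Y) (hZ : ClSub.IsProperOver q Z) : ClSub.IsProperOver p (⇑f ⁻¹' Z) := by
  obtain ⟨T, i, hi, rfl, hp⟩ := IsProperOver.exists_closedImmersion hZ
  have h3 : IsProper (pullback.snd i f ≫ p) := by
    rw [← w, ← Category.assoc, ← pullback.condition, Category.assoc]
    infer_instance
  refine (isProperOver_iff_exists p _).mpr ⟨_, pullback.snd i f, inferInstance, ?_, h3⟩
  rw [Scheme.Pullback.range_snd]


theorem surjective_toImage_of_universallyClosed (h : T ⟶ Y) [UniversallyClosed h] :
    Surjective h.toImage := by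
  refine ⟨fun v ↦ ?_⟩
  have h1 : IsClosed (Set.range h.toImage) := h.toImage.isClosedMap.isClosed_range
  have h2 : DenseRange h.toImage := h.toImage.denseRange
  have := h2.closure_range
  rw [h1.closure_eq] at this
  exact Set.range_eq_univ.mp this v

theorem isProperOver_range_of_universallyClosed (h : T ⟶ Y) (q : Y ⟶ S) [LocallyOfFiniteType q]
    [UniversallyClosed h] [IsProper (h ≫ q)] : ClSub.IsProperOver q (Set.range h) := by
  have hs : Surjective h.toImage := surjective_toImage_of_universallyClosed h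
  have e : h.toImage ≫ (h.imageι ≫ q) = h ≫ q := by rw [← Category.assoc, h.toImage_imageι]
  have hp : IsProper (h.toImage ≫ (h.imageι ≫ q)) := by rw [e]; infer_instance
  have h1 : IsSeparated (h.imageι ≫ q) := isSeparated_of_comp_surjective_universallyClosed h.toImage _
  have h2 : UniversallyClosed (h.imageι ≫ q) := UniversallyClosed.of_comp_surjective h.toImage _
  have h3 : IsProper (h.imageι ≫ q) := {}
  refine (isProperOver_iff_exists q _).mpr ⟨_, h.imageι, inferInstance, ?_, h3⟩
  conv_rhs => rw [← h.toImage_imageι]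
  rw [Scheme.Hom.comp_base, TopCat.coe_comp, Set.range_comp, Set.range_eq_univ.mpr hs.1, Set.image_univ]

theorem isProperOver_image_of_universallyClosed (p : X ⟶ S) (q : Y ⟶ S)
    [LocallyOfFiniteType p] [LocallyOfFiniteType q] (f : X ⟶ Y) [UniversallyClosed f] (w : f ≫ q = p)
    (Z : Set X) (hZ : ClSub.IsProperOver p Z) : ClSub.IsProperOver q (⇑f '' Z) := by
  obtain ⟨hc, hp⟩ := hZ
  set i := (Scheme.IdealSheafData.vanishingIdeal ⟨Z, hc⟩).subschemeι with hi
  have hr : Set.range i = Z := by
    rw [Scheme.IdealSheafData.range_subschemeι, Scheme.IdealSheafData.coe_support_vanishingIdeal]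
    rfl
  have : IsProper ((i ≫ f) ≫ q) := by rw [Category.assoc, w]; exact hp
  have := isProperOver_range_of_universallyClosed (i ≫ f) q
  rwa [Scheme.Hom.comp_base, TopCat.coe_comp, Set.range_comp, hr] at this

theorem isProperOver_image_of_isSeparated (p : X ⟶ S) (q : Y ⟶ S)
    [LocallyOfFiniteType p] [LocallyOfFiniteType q] [IsSeparated q] (f : X ⟶ Y) (w : f ≫ q = p)
    (Z : Set X) (hZ : ClSub.IsProperOver p Z) : ClSub.IsProperOver q (⇑f '' Z) := by
  obtain ⟨hc, hp⟩ := hZ
  set i := (Scheme.IdealSheafData.vanishingIdeal ⟨Z, hc⟩).subschemeι with hi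
  have hr : Set.range i = Z := by
    rw [Scheme.IdealSheafData.range_subschemeι, Scheme.IdealSheafData.coe_support_vanishingIdeal]
    rfl
  have : IsProper ((i ≫ f) ≫ q) := by rw [Category.assoc, w]; exact hp
  have : IsProper (i ≫ f) := IsProper.of_comp (i ≫ f) q
  have := isProperOver_range_of_universallyClosed (i ≫ f) q
  rwa [Scheme.Hom.comp_base, TopCat.coe_comp, Set.range_comp, hr] at this


set_option backward.isDefEq.respectTransparency.types false in
/-- Universal closedness can be checked on a finite jointly surjective family. -/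
theorem universallyClosed_of_forall_comp {ι : Type*} [Finite ι] {T : ι → Scheme.{u}}
    (a : ∀ k, T k ⟶ Y) (g : Y ⟶ Z) (ha : ∀ y : Y, ∃ k, y ∈ Set.range (a k))
    (h : ∀ k, UniversallyClosed (a k ≫ g)) : UniversallyClosed g := by
  constructor
  intro X' Y' i₁ i₂ f' H
  have hk : ∀ k, IsClosedMap (pullback.fst i₁ (a k) ≫ f') := fun k ↦
    UniversallyClosed.universally_isClosedMap _ _ _
      ((IsPullback.of_hasPullback i₁ (a k)).paste_horiz H)
  intro C hC
  have : f' '' C = ⋃ k, (pullback.fst i₁ (a k) ≫ f') '' ((pullback.fst i₁ (a k)) ⁻¹' C) := by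
    ext y
    simp only [Set.mem_image, Set.mem_iUnion, Set.mem_preimage]
    constructor
    · rintro ⟨x, hx, rfl⟩
      obtain ⟨k, hk⟩ := ha (i₁ x)
      have : x ∈ Set.range (pullback.fst i₁ (a k)) := by
        rw [Scheme.Pullback.range_fst]; exact hk
      obtain ⟨z, rfl⟩ := this
      exact ⟨k, z, hx, rfl⟩
    · rintro ⟨k, z, hz, rfl⟩
      exact ⟨_, hz, rfl⟩
  rw [this]
  exact isClosed_iUnion_of_finite fun k ↦ hk k _ (hC.preimage (pullback.fst i₁ (a k)).continuous)

/-- Separatedness can be checked on a finite jointly surjective family of universally closed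
morphisms (cf. Stacks 09MQ). -/
theorem isSeparated_of_forall_comp {ι : Type*} [Finite ι] {T : ι → Scheme.{u}}
    (a : ∀ k, T k ⟶ Y) (g : Y ⟶ Z) (ha : ∀ y : Y, ∃ k, y ∈ Set.range (a k))
    (hu : ∀ k, UniversallyClosed (a k)) (h : ∀ k, IsSeparated (a k ≫ g)) : IsSeparated g := by
  have h4 : ∀ k, IsClosed (Set.range (a k ≫ pullback.diagonal g)) := by
    intro k
    have h2 : UniversallyClosed
        (pullback.map (a k ≫ g) (a k ≫ g) g g (a k) (a k) (𝟙 Z) (by simp) (by simp)) :=
      MorphismProperty.pullbackMap (P := @UniversallyClosed) (hu k) (hu k) rfl rfl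
    have h3 : a k ≫ pullback.diagonal g = pullback.diagonal (a k ≫ g) ≫
        pullback.map (a k ≫ g) (a k ≫ g) g g (a k) (a k) (𝟙 Z) (by simp) (by simp) := by
      apply pullback.hom_ext
      · rw [Category.assoc, Category.assoc, pullback.diagonal_fst, pullback.lift_fst,
          pullback.diagonal_fst_assoc, Category.comp_id]
      · rw [Category.assoc, Category.assoc, pullback.diagonal_snd, pullback.lift_snd,
          pullback.diagonal_snd_assoc, Category.comp_id]
    rw [h3]
    have := h k
    exact (pullback.diagonal (a k ≫ g) ≫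
      pullback.map (a k ≫ g) (a k ≫ g) g g (a k) (a k) (𝟙 Z)
        (by simp) (by simp)).isClosedMap.isClosed_range
  have h5 : Set.range (pullback.diagonal g) = ⋃ k, Set.range (a k ≫ pullback.diagonal g) := by
    ext y
    simp only [Set.mem_range, Set.mem_iUnion]
    constructor
    · rintro ⟨x, rfl⟩
      obtain ⟨k, z, rfl⟩ := ha x
      exact ⟨k, z, rfl⟩
    · rintro ⟨k, z, rfl⟩
      exact ⟨a k z, rfl⟩
  exact ⟨IsClosedImmersion.of_isPreimmersion _ (h5 ▸ isClosed_iUnion_of_finite h4)⟩


theorem isProperOver_iUnion (f : X ⟶ S) [LocallyOfFiniteType f]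
    {ι : Type*} [Finite ι] (Z : ι → Set X) (hZ : ∀ i, ClSub.IsProperOver f (Z i)) :
    ClSub.IsProperOver f (Set.iUnion Z) := by
  have hc : IsClosed (Set.iUnion Z) := isClosed_iUnion_of_finite fun k ↦ (hZ k).1
  refine ⟨hc, ?_⟩
  set J := Scheme.IdealSheafData.vanishingIdeal ⟨Set.iUnion Z, hc⟩ with hJ
  have hle : ∀ k, J.subschemeι.ker ≤
      (Scheme.IdealSheafData.vanishingIdeal ⟨Z k, (hZ k).1⟩).subschemeι.ker := by
    intro k
    rw [Scheme.IdealSheafData.ker_subschemeι, Scheme.IdealSheafData.ker_subschemeι, hJ,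
      ← Scheme.IdealSheafData.le_support_iff_le_vanishingIdeal]
    intro x hx
    rw [← SetLike.mem_coe, Scheme.IdealSheafData.coe_support_vanishingIdeal]
    exact Set.mem_iUnion.mpr ⟨k, hx⟩
  let a : ∀ k, (Scheme.IdealSheafData.vanishingIdeal ⟨Z k, (hZ k).1⟩).subscheme ⟶ J.subscheme :=
    fun k ↦ IsClosedImmersion.lift J.subschemeι _ (hle k)
  have hfac : ∀ k, a k ≫ J.subschemeι =
      (Scheme.IdealSheafData.vanishingIdeal ⟨Z k, (hZ k).1⟩).subschemeι :=
    fun k ↦ IsClosedImmersion.lift_fac _ _ _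
  have hcl : ∀ k, IsClosedImmersion (a k) := by
    intro k
    have : IsClosedImmersion (a k ≫ J.subschemeι) := by rw [hfac]; infer_instance
    exact IsClosedImmersion.of_comp (a k) J.subschemeι
  have hrange : Set.range J.subschemeι = Set.iUnion Z := by
    rw [J.range_subschemeι, hJ, Scheme.IdealSheafData.coe_support_vanishingIdeal]
    rfl
  have hsurj : ∀ y : J.subscheme, ∃ k, y ∈ Set.range (a k) := by
    intro y
    have hy : J.subschemeι y ∈ Set.iUnion Z := hrange ▸ ⟨y, rfl⟩
    obtain ⟨k, hk⟩ := Set.mem_iUnion.mp hy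
    have : J.subschemeι y ∈
        Set.range (Scheme.IdealSheafData.vanishingIdeal ⟨Z k, (hZ k).1⟩).subschemeι := by
      rw [Scheme.IdealSheafData.range_subschemeι,
        Scheme.IdealSheafData.coe_support_vanishingIdeal]
      exact hk
    obtain ⟨s, hs⟩ := this
    refine ⟨k, s, J.subschemeι.isClosedEmbedding.injective ?_⟩
    rw [← hs, ← hfac k]
    rfl
  have hprop : ∀ k, IsProper (a k ≫ J.subschemeι ≫ f) := by
    intro k
    rw [← Category.assoc, hfac]
    exact (hZ k).2
  have h1 : UniversallyClosed (J.subschemeι ≫ f) :=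
    universallyClosed_of_forall_comp a _ hsurj fun k ↦ inferInstance
  have h2 : IsSeparated (J.subschemeι ≫ f) :=
    isSeparated_of_forall_comp a _ hsurj (fun k ↦ inferInstance) fun k ↦ inferInstance
  exact {}


end Groth.Agent.H1
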