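import Mathlib
import Groth.Agent.Lib.Helper1.ProperOverClSub2
import Groth.Agent.Lib.Helper1.FpqcDescent

universe u
open AlgebraicGeometry CategoryTheory Limits MorphismProperty

namespace Groth.Agent.H1

variable {X Y Z S T T' : Scheme.{u}}

theorem isProperOver_of_fpqc {X Y Y' : Scheme.{u}} (f : X ⟶ Y) [LocallyOfFiniteType f] (Z : Set X)
    (hZ : IsClosed Z)
    (g : Y' ⟶ Y) [QuasiCompact g] [Flat g] [Surjective g]
    (h : ClSub.IsProperOver (pullback.snd f g) ((pullback.fst f g).base ⁻¹' Z)) :
    ClSub.IsProperOver f Z := by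
  refine ⟨hZ, ?_⟩
  set i := (Scheme.IdealSheafData.vanishingIdeal ⟨Z, hZ⟩).subschemeι with hi
  have hr : Set.range i = Z := by
    rw [Scheme.IdealSheafData.range_subschemeι, Scheme.IdealSheafData.coe_support_vanishingIdeal]
    rfl
  have h1 : IsPullback (pullback.fst i (pullback.fst f g)) (pullback.snd i (pullback.fst f g)) i
    (pullback.fst f g) := IsPullback.of_hasPullback _ _
  have h0 : IsPullback (pullback.fst f g) (pullback.snd f g) f g := IsPullback.of_hasPullback _ _
  have h2 := (h1.paste_vert h0).flip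
  have hp : IsProper (pullback.snd i (pullback.fst f g) ≫ pullback.snd f g) := by
    refine (isProperOver_iff_forall (pullback.snd f g) _ h.1).mp h _ _ inferInstance ?_
    rw [Scheme.Pullback.range_snd, hr]
  have := descendsAlong_isProper.{u}
  exact MorphismProperty.of_isPullback_of_descendsAlong (P := @IsProper)
    (Q := (@Surjective ⊓ @Flat ⊓ @QuasiCompact : MorphismProperty Scheme.{u})) h2
    ⟨⟨‹_›, ‹_›⟩, ‹_›⟩ hp

end Groth.Agent.H1
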