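import Mathlib
import Groth.Agent.Lib.Helper1.GenFreeLoc
import Groth.Agent.Lib.Helper8.ConstructibleNoeth
import Groth.Agent.Lib.Helper5.Lim.RingModel

/-!
# Pointwise properties of the fibres: local constructibility — helper1

An abstract version of the argument of `CMCons`: a set-valued invariant `E f ⊆ X` of morphisms
`f : X ⟶ S` which is compatible with arbitrary base change, with open immersions into the source,
and which is open for flat morphisms locally of finite presentation, is locally constructible for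
every morphism locally of finite presentation.
-/

set_option autoImplicit false
set_option linter.style.haveILetI false
universe u

namespace Groth.Agent.H1.PtFibCons

open AlgebraicGeometry CategoryTheory CategoryTheory.Limits Topology TensorProduct

/-- the axioms. -/
structure PtFibProp (E : ∀ {X S : Scheme.{u}}, (X ⟶ S) → Set X) : Prop where
  of_isPullback : ∀ {X S X' S' : Scheme.{u}} (f : X ⟶ S) [LocallyOfFinitePresentation f]
    (f' : X' ⟶ S') (g' : X' ⟶ X) (g : S' ⟶ S), IsPullback g' f' f g → E f' = g' ⁻¹' E f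
  comp_openImm : ∀ {U X S : Scheme.{u}} (j : U ⟶ X) [IsOpenImmersion j] (f : X ⟶ S)
    [LocallyOfFinitePresentation f], E (j ≫ f) = j ⁻¹' E f
  isOpen_of_flat : ∀ {X S : Scheme.{u}} (f : X ⟶ S) [Flat f] [LocallyOfFinitePresentation f],
    IsOpen (E f)

variable {E : ∀ {X S : Scheme.{u}}, (X ⟶ S) → Set X} (hE : PtFibProp @E)

include hE

theorem comp_mono {X S T : Scheme.{u}} (f : X ⟶ S) (i : S ⟶ T) [Mono i]
    [LocallyOfFinitePresentation (f ≫ i)] : E (f ≫ i) = E f := by
  have sq : IsPullback (𝟙 X) f (f ≫ i) i := IsPullback.of_horiz_isIso_mono ⟨by simp⟩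
  have := hE.of_isPullback (f ≫ i) f (𝟙 X) i sq
  rw [this]
  rfl

theorem exists_open_of_flat_baseChange {X S X' S' : Scheme.{u}} (f : X ⟶ S)
    [LocallyOfFinitePresentation f] (f' : X' ⟶ S') (g' : X' ⟶ X) (g : S' ⟶ S)
    (hc : IsPullback g' f' f g) [IsPreimmersion g] [Flat f'] [LocallyOfFinitePresentation f'] :
    ∃ W : Set X, IsOpen W ∧ ∀ y : X, f y ∈ Set.range g → (y ∈ E f ↔ y ∈ W) := by
  haveI : IsPreimmersion g' := MorphismProperty.of_isPullback hc.flip inferInstance
  have hE' : E f' = g' ⁻¹' E f := hE.of_isPullback f f' g' g hc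
  have hopen : IsOpen (E f') := hE.isOpen_of_flat f'
  obtain ⟨W, hW, hWE⟩ := (g'.isEmbedding.isInducing.isOpen_iff).mp hopen
  refine ⟨W, hW, ?_⟩
  rintro y ⟨s', hs'⟩
  obtain ⟨x', hx'1, -⟩ := AlgebraicGeometry.Scheme.exists_preimage_of_isPullback hc y s' hs'.symm
  subst hx'1
  have h1 : g' x' ∈ E f ↔ x' ∈ E f' := by rw [hE']; rfl
  have h2 : x' ∈ E f' ↔ g' x' ∈ W := by rw [← hWE]; rfl
  exact h1.trans h2

set_option backward.isDefEq.respectTransparency false in
/-- the key step: generically along a closed irreducible subset, membership in the fibrewise CM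
locus is constant. -/
theorem exists_open_const (A B : Type u) [CommRing A] [CommRing B] [Algebra A B]
    [IsNoetherianRing A] [Algebra.FiniteType A B] (Y : Set (PrimeSpectrum B)) (hYc : IsClosed Y)
    (hYi : IsIrreducible Y) :
    ∃ U : Set (PrimeSpectrum B), IsOpen U ∧ (U ∩ Y).Nonempty ∧ ∀ a ∈ U ∩ Y, ∀ b ∈ U ∩ Y,
      (a ∈ E (Spec.map (CommRingCat.ofHom (algebraMap A B)))) =
        (b ∈ E (Spec.map (CommRingCat.ofHom (algebraMap A B)))) := by
  classical
  set f := Spec.map (CommRingCat.ofHom (algebraMap A B)) with hf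
  haveI : LocallyOfFinitePresentation f := by
    rw [hf, HasRingHomProperty.Spec_iff (P := @LocallyOfFinitePresentation),
      CommRingCat.hom_ofHom, RingHom.finitePresentation_algebraMap]
    exact Algebra.FinitePresentation.of_finiteType.mp inferInstance
  have hq : (PrimeSpectrum.vanishingIdeal Y).IsPrime :=
    (PrimeSpectrum.isIrreducible_iff_vanishingIdeal_isPrime).mp hYi
  set Q : PrimeSpectrum B := ⟨PrimeSpectrum.vanishingIdeal Y, hq⟩ with hQdef
  have hY : Y = PrimeSpectrum.zeroLocus (Q.asIdeal : Set B) := by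
    rw [hQdef]
    simp only
    rw [PrimeSpectrum.zeroLocus_vanishingIdeal_eq_closure, hYc.closure_eq]
  have hQY : Q ∈ Y := by
    rw [hY, PrimeSpectrum.mem_zeroLocus]
  set p : Ideal A := Q.asIdeal.comap (algebraMap A B) with hp
  haveI : p.IsPrime := Ideal.IsPrime.comap _
  obtain ⟨F, hF, hgood⟩ := Groth.Agent.H1.GenFree.exists_good (R := A ⧸ p)
    (S := (A ⧸ p) ⊗[A] B) (M := (A ⧸ p) ⊗[A] B) 1 one_ne_zero
  generalize (1 : A ⧸ p) * F = F' at hF hgood
  obtain ⟨a, ha⟩ := Ideal.Quotient.mk_surjective F'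
  have hap : a ∉ p := fun h => hF (by rw [← ha]; exact Ideal.Quotient.eq_zero_iff_mem.mpr h)
  haveI hfree : Module.Free (Localization.Away F')
      (Localization.Away F' ⊗[A ⧸ p] ((A ⧸ p) ⊗[A] B)) := hgood.free_tensor_self
  haveI hfp : Algebra.FinitePresentation (Localization.Away F')
      (Localization.Away F' ⊗[A ⧸ p] ((A ⧸ p) ⊗[A] B)) := hgood.finitePresentation_tensor
  -- the squares
  have sq1 := (isPullback_SpecMap_of_isPushout _ _ _ _
    (CommRingCat.isPushout_tensorProduct A (A ⧸ p) B)).flip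
  have sq2 := (isPullback_SpecMap_of_isPushout _ _ _ _
    (CommRingCat.isPushout_tensorProduct (A ⧸ p) (Localization.Away F') ((A ⧸ p) ⊗[A] B))).flip
  have sq := sq2.paste_horiz sq1
  set g₁ := Spec.map (CommRingCat.ofHom (algebraMap A (A ⧸ p))) with hg₁
  set g₂ := Spec.map (CommRingCat.ofHom (algebraMap (A ⧸ p) (Localization.Away F'))) with hg₂
  haveI : IsClosedImmersion g₁ :=
    IsClosedImmersion.spec_of_surjective _ Ideal.Quotient.mk_surjective
  haveI : IsOpenImmersion g₂ := IsOpenImmersion.of_isLocalization F'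
  set f₂ := Spec.map (CommRingCat.ofHom (algebraMap (Localization.Away F')
    (Localization.Away F' ⊗[A ⧸ p] ((A ⧸ p) ⊗[A] B)))) with hf₂
  haveI : Flat f₂ := by
    rw [hf₂, Flat.SpecMap_iff, CommRingCat.hom_ofHom, RingHom.flat_algebraMap_iff]
    exact Module.Flat.of_free
  haveI : LocallyOfFinitePresentation f₂ := by
    rw [hf₂, HasRingHomProperty.Spec_iff (P := @LocallyOfFinitePresentation),
      CommRingCat.hom_ofHom, RingHom.finitePresentation_algebraMap]
    exact hfp
  obtain ⟨W, hW, hWE⟩ := exists_open_of_flat_baseChange hE f f₂ _ (g₂ ≫ g₁) sq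
  -- the open set over which things are controlled
  set U₀ : Set (PrimeSpectrum B) := ((PrimeSpectrum.basicOpen (algebraMap A B a) : TopologicalSpace.Opens (PrimeSpectrum B)) :
    Set (PrimeSpectrum B)) with hU₀
  have hU₀o : IsOpen U₀ := (PrimeSpectrum.basicOpen (algebraMap A B a)).isOpen
  have hQU₀ : Q ∈ U₀ := hap
  have hrange : ∀ y ∈ U₀ ∩ Y, f y ∈ Set.range (g₂ ≫ g₁) := by
    rintro y ⟨hyU, hyY⟩
    rw [hY, PrimeSpectrum.mem_zeroLocus] at hyY
    have h1 : (f y) ∈ Set.range (PrimeSpectrum.comap (Ideal.Quotient.mk p)) := by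
      rw [_root_.range_comap_of_surjective _ _ Ideal.Quotient.mk_surjective,
        Ideal.mk_ker, PrimeSpectrum.mem_zeroLocus]
      intro t ht
      exact hyY ht
    obtain ⟨r, hr⟩ := h1
    have h2 : r ∈ Set.range (PrimeSpectrum.comap (algebraMap (A ⧸ p) (Localization.Away F'))) := by
      rw [PrimeSpectrum.localization_away_comap_range (Localization.Away F') F']
      intro hFr
      apply hyU
      have : a ∈ (PrimeSpectrum.comap (Ideal.Quotient.mk p) r).asIdeal := by
        change Ideal.Quotient.mk p a ∈ r.asIdeal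
        rw [ha]; exact hFr
      rw [hr] at this
      exact this
    obtain ⟨w, hw⟩ := h2
    refine ⟨w, ?_⟩
    have e1 : g₂ w = r := hw
    have e2 : g₁ r = f y := hr
    rw [Scheme.Hom.comp_apply, e1, e2]
  have hiff : ∀ y ∈ U₀ ∩ Y, (y ∈ E f ↔ y ∈ W) := fun y hy => hWE y (hrange y hy)
  by_cases hQE : Q ∈ E f
  · have hQW : Q ∈ W := (hiff Q ⟨hQU₀, hQY⟩).mp hQE
    refine ⟨W ∩ U₀, hW.inter hU₀o, ⟨Q, ⟨hQW, hQU₀⟩, hQY⟩, ?_⟩
    rintro x ⟨⟨hxW, hxU⟩, hxY⟩ y ⟨⟨hyW, hyU⟩, hyY⟩
    have hx := (hiff x ⟨hxU, hxY⟩).mpr hxW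
    have hy := (hiff y ⟨hyU, hyY⟩).mpr hyW
    exact propext (iff_of_true hx hy)
  · have hQW : Q ∉ W := fun h => hQE ((hiff Q ⟨hQU₀, hQY⟩).mpr h)
    have hnot : ∀ y ∈ U₀ ∩ Y, y ∉ E f := by
      intro y hy hyE
      have hyW : y ∈ W := (hiff y hy).mp hyE
      have hsp : Q ⤳ y := by
        rw [← PrimeSpectrum.le_iff_specializes]
        have := hy.2
        rw [hY, PrimeSpectrum.mem_zeroLocus] at this
        exact this
      exact hQW (hsp.mem_open hW hyW)
    refine ⟨U₀, hU₀o, ⟨Q, hQU₀, hQY⟩, ?_⟩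
    intro x hx y hy
    exact propext (iff_of_false (hnot x hx) (hnot y hy))





/-- the Noetherian affine case. -/
theorem isConstructible_of_isNoetherianRing (A B : Type u) [CommRing A] [CommRing B]
    [Algebra A B] [IsNoetherianRing A] [Algebra.FiniteType A B] :
    IsConstructible (E (Spec.map (CommRingCat.ofHom (algebraMap A B)))) := by
  classical
  haveI : IsNoetherianRing B := Algebra.FiniteType.isNoetherianRing A B
  set f := Spec.map (CommRingCat.ofHom (algebraMap A B)) with hf
  have key : (∀ t, IsConstructible ((fun x : PrimeSpectrum B => (x ∈ E f)) ⁻¹' {t})) ∧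
      (Set.range (fun x : PrimeSpectrum B => (x ∈ E f))).Finite := by
    rw [Groth.Agent.H8.CNoeth.constructible_map_iff]
    intro Y hYc hYi
    exact exists_open_const hE A B Y hYc hYi
  have h2 : E f = (fun x : PrimeSpectrum B => (x ∈ E f)) ⁻¹' {True} := by
    ext x
    exact ⟨fun h => eq_true h, fun h => of_eq_true h⟩
  rw [h2]
  exact key.1 True


/-- the affine case of finite presentation, by descent to a Noetherian model. -/
theorem isConstructible_of_finitePresentation (A B : Type u) [CommRing A] [CommRing B]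
    [Algebra A B] [Algebra.FinitePresentation A B] :
    IsConstructible (E (Spec.map (CommRingCat.ofHom (algebraMap A B)))) := by
  classical
  obtain ⟨s, hs⟩ := Groth.Agent.H5.Lim.exists_model_of_finitePresentation A B
  let A₀ : Subalgebra ℤ A := Algebra.adjoin ℤ (s : Set A)
  obtain ⟨B₀, _, _, hfp, ⟨e⟩⟩ := hs A₀ (by
    intro x hx
    exact ⟨⟨x, Algebra.subset_adjoin hx⟩, rfl⟩)
  haveI : Algebra.FiniteType ℤ A₀ := .adjoin_of_finite s.finite_toSet
  haveI : IsNoetherianRing A₀ := Algebra.FiniteType.isNoetherianRing ℤ A₀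
  set φ₀ := Spec.map (CommRingCat.ofHom (algebraMap A₀ B₀)) with hφ₀
  have hlfp₀ : LocallyOfFinitePresentation φ₀ := by
    rw [hφ₀, HasRingHomProperty.Spec_iff (P := @LocallyOfFinitePresentation),
      CommRingCat.hom_ofHom, RingHom.finitePresentation_algebraMap]
    exact hfp
  have sq := isPullback_SpecMap_of_isPushout _ _ _ _
    (CommRingCat.isPushout_tensorProduct A₀ A B₀)
  set ψ := Spec.map (CommRingCat.ofHom (Algebra.TensorProduct.includeLeftRingHom :
    A →+* A ⊗[A₀] B₀)) with hψ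
  set pr := Spec.map (CommRingCat.ofHom ((Algebra.TensorProduct.includeRight :
    B₀ →ₐ[A₀] A ⊗[A₀] B₀).toRingHom)) with hpr
  have h1 : E ψ = pr ⁻¹' E φ₀ := hE.of_isPullback φ₀ ψ pr _ sq.flip
  haveI : LocallyOfFinitePresentation ψ :=
    MorphismProperty.of_isPullback (P := @LocallyOfFinitePresentation) sq.flip hlfp₀
  set ε := Spec.map (CommRingCat.ofHom e.toRingEquiv.toRingHom) with hε
  have : IsIso ε := by
    rw [hε]
    have : IsIso (CommRingCat.ofHom e.toRingEquiv.toRingHom) :=
      (e.toRingEquiv.toCommRingCatIso).isIso_hom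
    infer_instance
  have hεψ : ε ≫ ψ = Spec.map (CommRingCat.ofHom (algebraMap A B)) := by
    rw [hε, hψ, ← Spec.map_comp]
    congr 1
    ext a
    change e (a ⊗ₜ[A₀] (1 : B₀)) = algebraMap A B a
    have h1 : a ⊗ₜ[A₀] (1 : B₀) = algebraMap A (A ⊗[A₀] B₀) a :=
      (Algebra.TensorProduct.algebraMap_apply a).symm
    rw [h1, e.commutes]
  have h2 : E (ε ≫ ψ) = ε ⁻¹' E ψ := hE.comp_openImm ε ψ
  have h0 : IsConstructible (E φ₀) := isConstructible_of_isNoetherianRing hE A₀ B₀
  rw [← hεψ, h2, h1]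
  exact Scheme.Hom.isConstructible_preimage ε (Scheme.Hom.isConstructible_preimage pr h0)





variable {X S : Scheme.{u}}

set_option backward.isDefEq.respectTransparency false in
/-- in an affine chart, the fibrewise CM locus is constructible. -/
theorem isConstructible_affine (f : X ⟶ S) [LocallyOfFinitePresentation f]
    {W : S.Opens} (hW : IsAffineOpen W) {U : X.Opens} (hU : IsAffineOpen U) (e : U ≤ f ⁻¹ᵁ W) :
    IsConstructible (Subtype.val ⁻¹' E f : Set U) := by
  letI := (f.appLE W U e).hom.toAlgebra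
  haveI : Algebra.FinitePresentation Γ(S, W) Γ(X, U) := f.finitePresentation_appLE hW hU e
  have h0 := isConstructible_of_finitePresentation hE Γ(S, W) Γ(X, U)
  have hφ : Spec.map (CommRingCat.ofHom (algebraMap Γ(S, W) Γ(X, U))) = Spec.map (f.appLE W U e) :=
    rfl
  rw [hφ] at h0
  have hcomm : Spec.map (f.appLE W U e) ≫ hW.fromSpec = hU.fromSpec ≫ f :=
    IsAffineOpen.SpecMap_appLE_fromSpec f hW hU e
  haveI : LocallyOfFinitePresentation (Spec.map (f.appLE W U e) ≫ hW.fromSpec) := by
    rw [hcomm]; infer_instance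
  have h1 : E (Spec.map (f.appLE W U e) ≫ hW.fromSpec) = E (Spec.map (f.appLE W U e)) :=
    comp_mono hE _ _
  have h2 : E (hU.fromSpec ≫ f) = hU.fromSpec ⁻¹' E f :=
    hE.comp_openImm _ _
  have hpre : (Subtype.val ⁻¹' E f : Set U) =
      (fun y : U => hU.primeIdealOf y) ⁻¹' E (Spec.map (f.appLE W U e)) := by
    ext y
    rw [← h1, hcomm, h2]
    change y.1 ∈ E f ↔ hU.fromSpec (hU.primeIdealOf y) ∈ E f
    rw [hU.fromSpec_primeIdealOf]
  rw [hpre]
  exact h0.preimage_of_isOpenEmbedding (hU.isoSpec.hom.homeomorph.isOpenEmbedding)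

/-- the fibrewise Cohen–Macaulay locus of a morphism locally of finite presentation is locally
constructible. -/
theorem isLocallyConstructible (f : X ⟶ S) [LocallyOfFinitePresentation f] :
    IsLocallyConstructible (E f) := by
  intro x₀
  obtain ⟨_, ⟨W, hW, rfl⟩, hyW, -⟩ :=
    S.isBasis_affineOpens.exists_subset_of_mem_open (Set.mem_univ (f x₀)) isOpen_univ
  obtain ⟨_, ⟨U, hU, rfl⟩, hxU, hUW⟩ :=
    X.isBasis_affineOpens.exists_subset_of_mem_open (show x₀ ∈ ((f ⁻¹ᵁ W : X.Opens) : Set X) from hyW)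
      (f ⁻¹ᵁ W).isOpen
  exact ⟨U, U.isOpen.mem_nhds hxU, U.isOpen, isConstructible_affine hE f hW hU hUW⟩


end Groth.Agent.H1.PtFibCons
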