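import Mathlib
import Groth.Prelude.Def_W4c4chowquasisplitNorm
import Groth.Agent.Lib.Helper9.Misc.ZTC1

/-!
# The norm subgroup of `CH_0(Spec k)` (helper1)
-/

set_option autoImplicit false

universe u

open AlgebraicGeometry CategoryTheory

namespace Groth.Agent.H1.PtNorm

open Groth.Agent.H9.ZTC

section ResDeg

variable (k : Type u) [Field k] (F : Type u) [Field F] [Algebra k F]

theorem residueDegree_aux (f : Spec (CommRingCat.of F) ⟶ Spec (CommRingCat.of k))
    (hf : f = Spec.map (CommRingCat.ofHom (algebraMap k F))) (x : Spec (CommRingCat.of F)) :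
    f.residueDegree x = Module.finrank k F := by
  unfold Scheme.Hom.residueDegree
  letI := (f.residueFieldMap x).hom.toAlgebra
  symm
  refine Algebra.finrank_eq_of_equiv_equiv (RingEquiv.ofBijective (ev (f x)).hom (ev_bijective _))
    (RingEquiv.ofBijective (ev x).hom (ev_bijective _)) ?_
  have hcat : ev (f x) ≫ f.residueFieldMap x = CommRingCat.ofHom (algebraMap k F) ≫ ev x := by
    apply Spec.map_injective
    rw [Spec.map_comp, Spec.map_comp, specMap_ev, specMap_ev,
      Scheme.Hom.SpecMap_residueFieldMap_fromSpecResidueField, ← hf]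
  ext a
  have := congrArg (fun t => t.hom a) hcat
  simp only [CommRingCat.hom_comp, RingHom.comp_apply, CommRingCat.hom_ofHom] at this
  simp only [RingHom.comp_apply, RingEquiv.toRingHom_eq_coe, RingHom.coe_coe,
    RingEquiv.ofBijective_apply]
  exact this

theorem residueDegree_specMap (x : Spec (CommRingCat.of F)) :
    (Spec.map (CommRingCat.ofHom (algebraMap k F))).residueDegree x = Module.finrank k F :=
  residueDegree_aux k F _ rfl x

end ResDeg

section CH

variable (k : Type u) [Field k]

/-- evaluation of a cycle on `Spec k` at the point -/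
noncomputable def evZ : ↥(ChowOps.zk (Spec (CommRingCat.of k)) (fun _ => (0 : ℤ)) 0) →+ ℤ where
  toFun a := (a : AlgebraicCycle (Spec (CommRingCat.of k)) ℤ) default
  map_zero' := rfl
  map_add' _ _ := rfl

theorem ratEquivZero_eq_zero (α : AlgebraicCycle (Spec (CommRingCat.of k)) ℤ)
    (h : Cyc.RatEquivZero (fun _ => (0 : ℤ)) 0 α) (x : Spec (CommRingCat.of k)) : α x = 0 := by
  obtain ⟨ι, ξ, f, hδ, -, -, hα⟩ := h
  haveI : IsEmpty ι := ⟨fun i => absurd (hδ i) (by norm_num)⟩
  rw [hα x]
  exact finsum_of_isEmpty _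

theorem ratTriv_le_ker :
    ChowOps.ratTriv (Spec (CommRingCat.of k)) (fun _ => (0 : ℤ)) 0 ≤ (evZ k).ker := by
  unfold ChowOps.ratTriv
  rw [AddSubgroup.closure_le]
  intro a ha
  show evZ k a = 0
  exact ratEquivZero_eq_zero k _ ha default

/-- `CH_0(Spec k) → ℤ` -/
noncomputable def phi : ChowOps.CH (Spec (CommRingCat.of k)) (fun _ => (0 : ℤ)) 0 →+ ℤ :=
  QuotientAddGroup.lift _ (evZ k) (ratTriv_le_ker k)

theorem phi_mk (a : ↥(ChowOps.zk (Spec (CommRingCat.of k)) (fun _ => (0 : ℤ)) 0)) :
    phi k (QuotientAddGroup.mk a) = (a : AlgebraicCycle (Spec (CommRingCat.of k)) ℤ) default :=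
  QuotientAddGroup.lift_mk _ _ _

theorem phi_cl (α : AlgebraicCycle (Spec (CommRingCat.of k)) ℤ)
    (h : α ∈ Cyc.Zk (Spec (CommRingCat.of k)) (fun _ => (0 : ℤ)) 0) :
    phi k (ChowOps.cl α h) = α default :=
  phi_mk k ⟨α, h⟩

theorem mem_Zk (α : AlgebraicCycle (Spec (CommRingCat.of k)) ℤ) :
    α ∈ Cyc.Zk (Spec (CommRingCat.of k)) (fun _ => (0 : ℤ)) 0 :=
  fun _ hx => absurd rfl hx

theorem phi_injective : Function.Injective (phi k) := by
  rw [injective_iff_map_eq_zero]
  intro c hc
  obtain ⟨a, rfl⟩ := QuotientAddGroup.mk_surjective c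
  rw [phi_mk] at hc
  have : a = 0 := by
    apply Subtype.ext
    apply Function.locallyFinsuppWithin.ext
    intro x
    rw [Subsingleton.elim x default, hc]
    rfl
  rw [this]
  rfl

theorem phi_surjective : Function.Surjective (phi k) := by
  classical
  intro n
  refine ⟨ChowOps.cl (Function.locallyFinsuppWithin.single default n) (mem_Zk k _), ?_⟩
  rw [phi_cl]
  simp

theorem map_apply_default (F : Type u) [Field F] [Algebra k F]
    (α : AlgebraicCycle (Spec (CommRingCat.of F)) ℤ) :
    (AlgebraicCycle.map (Spec.map (CommRingCat.ofHom (algebraMap k F))) (fun _ => (0 : ℤ))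
      (fun _ => (0 : ℤ)) α) default = α default * (Module.finrank k F : ℤ) := by
  unfold AlgebraicCycle.map
  rw [Function.locallyFinsupp.map_apply]
  have hset : (Spec.map (CommRingCat.ofHom (algebraMap k F))) ⁻¹' {default} = {default} := by
    ext x
    constructor
    · intro _; exact Subsingleton.elim _ _
    · intro _; exact Subsingleton.elim _ _
  rw [hset, finsum_mem_singleton]
  simp only [AlgebraicCycle.mapCoeff, ↓reduceIte]
  rw [residueDegree_specMap]

theorem map_phi_ptNorm (K : Type u) [Field K] [Algebra k K] :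
    (QsChow.ptNormSubgroup k K).map (phi k) = AddSubgroup.closure
      {n : ℤ | ∃ (F : IntermediateField k K) (_ : FiniteDimensional k F) (_ : F ≠ ⊥) (m : ℤ),
        n = m * (Module.finrank k F : ℤ)} := by
  classical
  unfold QsChow.ptNormSubgroup
  rw [AddMonoidHom.map_closure]
  congr 1
  ext n
  constructor
  · rintro ⟨c, ⟨F, hF, hne, α, h, rfl⟩, rfl⟩
    refine ⟨F, hF, hne, α default, ?_⟩
    rw [phi_cl, map_apply_default]
  · rintro ⟨F, hF, hne, m, rfl⟩
    refine ⟨ChowOps.cl (AlgebraicCycle.map (Spec.map (CommRingCat.ofHom (algebraMap k F)))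
      (fun _ => (0 : ℤ)) (fun _ => (0 : ℤ)) (Function.locallyFinsuppWithin.single default m))
      (mem_Zk k _), ⟨F, hF, hne, Function.locallyFinsuppWithin.single default m, mem_Zk k _, rfl⟩, ?_⟩
    rw [phi_cl, map_apply_default]
    simp

end CH

section Galois

variable (k : Type u) [Field k] (K : Type u) [Field K] [Algebra k K]

/-- a subgroup `H` of the Galois group of a finite Galois intermediate field `L` gives an
intermediate field of `K` of degree `[L:k] / |H|` -/
theorem exists_intermediateField (L : IntermediateField k K) [FiniteDimensional k L] [IsGalois k L]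
    (H : Subgroup (L ≃ₐ[k] L)) (d : ℕ) (hd : d * Nat.card H = Module.finrank k L) :
    ∃ (F : IntermediateField k K) (_ : FiniteDimensional k F), Module.finrank k F = d := by
  let E : IntermediateField k L := IntermediateField.fixedField H
  have h1 : Module.finrank E L = Nat.card H := IntermediateField.finrank_fixedField_eq_card H
  have h2 : Module.finrank k E * Module.finrank E L = Module.finrank k L :=
    Module.finrank_mul_finrank k E L
  have hpos : 0 < Nat.card H := Nat.card_pos
  have h3 : Module.finrank k E = d := by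
    rw [h1, ← hd] at h2
    exact Nat.eq_of_mul_eq_mul_right hpos h2
  refine ⟨IntermediateField.lift E,
    (IntermediateField.liftAlgEquiv E).toLinearEquiv.finiteDimensional, ?_⟩
  rw [← h3]
  exact (IntermediateField.liftAlgEquiv E).toLinearEquiv.finrank_eq.symm

theorem s17743 [Algebra.IsSeparable k K]
    (L : IntermediateField k K) [FiniteDimensional k L] [IsGalois k L]
    (hL : ∀ p n : ℕ, p.Prime → Module.finrank k L ≠ p ^ n) :
    QsChow.ptNormSubgroup k K = ⊤ := by
  set N := Module.finrank k L with hN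
  have hN0 : N ≠ 0 := (Module.finrank_pos (R := k) (M := L)).ne'
  have hN1 : N ≠ 1 := by
    have := hL 2 0 Nat.prime_two
    simpa using this
  have hcard : Nat.card (L ≃ₐ[k] L) = N := IsGalois.card_aut_eq_finrank k L
  set T : Set ℤ := {n : ℤ | ∃ (F : IntermediateField k K) (_ : FiniteDimensional k F) (_ : F ≠ ⊥)
    (m : ℤ), n = m * (Module.finrank k F : ℤ)} with hT
  have hmem : ∀ p : ℕ, p.Prime → p ∣ N → ((ordCompl[p] N : ℕ) : ℤ) ∈ AddSubgroup.closure T := by
    intro p hp _
    haveI : Fact p.Prime := ⟨hp⟩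
    obtain ⟨H, hH⟩ := Sylow.exists_subgroup_card_pow_prime (G := L ≃ₐ[k] L) p
      (n := N.factorization p) (by rw [hcard]; exact Nat.ordProj_dvd N p)
    obtain ⟨F, hF, hFd⟩ := exists_intermediateField k K L H (ordCompl[p] N) (by
      rw [hH, mul_comm]; exact Nat.ordProj_mul_ordCompl_eq_self N p)
    have hne : F ≠ ⊥ := by
      intro hbot
      have h1 : Module.finrank k F = 1 := IntermediateField.finrank_eq_one_iff.mpr hbot
      rw [hFd] at h1
      have := Nat.ordProj_mul_ordCompl_eq_self N p
      rw [h1, mul_one] at this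
      exact hL p _ hp this.symm
    apply AddSubgroup.subset_closure
    exact ⟨F, hF, hne, 1, by rw [hFd, one_mul]⟩
  have key : AddSubgroup.closure T = ⊤ := by
    obtain ⟨g, hg⟩ := Int.subgroup_cyclic (AddSubgroup.closure T)
    have hdvd : ∀ p : ℕ, p.Prime → p ∣ N → g.natAbs ∣ ordCompl[p] N := by
      intro p hp hpN
      have h1 := hmem p hp hpN
      rw [hg, AddSubgroup.mem_closure_singleton] at h1
      obtain ⟨n, hn⟩ := h1
      have h2 : g ∣ ((ordCompl[p] N : ℕ) : ℤ) := ⟨n, by rw [← hn, smul_eq_mul, mul_comm]⟩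
      exact Int.natAbs_dvd_natAbs.mpr h2
    have hg1 : g.natAbs = 1 := by
      by_contra h1
      obtain ⟨q, hq, hqg⟩ := Nat.exists_prime_and_dvd h1
      obtain ⟨p₀, hp₀, hp₀N⟩ := Nat.exists_prime_and_dvd hN1
      have hqN : q ∣ N := (hqg.trans (hdvd p₀ hp₀ hp₀N)).trans (Nat.ordCompl_dvd N p₀)
      exact Nat.not_dvd_ordCompl hq hN0 (hqg.trans (hdvd q hq hqN))
    have hgg : g * g = 1 := by
      rcases Int.natAbs_eq g with h | h <;> rw [h, hg1] <;> norm_num
    rw [eq_top_iff]
    intro n _
    rw [hg, AddSubgroup.mem_closure_singleton]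
    exact ⟨n * g, by rw [smul_eq_mul, mul_assoc, hgg, mul_one]⟩
  have key' : (QsChow.ptNormSubgroup k K).map (phi k) = ⊤ := by
    rw [map_phi_ptNorm]; exact key
  rw [eq_top_iff]
  intro c _
  have hc : phi k c ∈ (QsChow.ptNormSubgroup k K).map (phi k) := by rw [key']; trivial
  obtain ⟨c', hc', hcc'⟩ := hc
  rwa [← phi_injective k hcc']

theorem s17744 [Algebra.IsSeparable k K]
    (L : IntermediateField k K) [FiniteDimensional k L] [IsGalois k L]
    (p n : ℕ) (hp : p.Prime) (hn : 1 ≤ n) (hL : Module.finrank k L = p ^ n)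
    (hF : ∀ F : IntermediateField k K, FiniteDimensional k F → ∃ e : ℕ, Module.finrank k F = p ^ e) :
    (QsChow.ptNormSubgroup k K).index = p := by
  haveI : Fact p.Prime := ⟨hp⟩
  have hcard : Nat.card (L ≃ₐ[k] L) = p ^ n := by
    rw [IsGalois.card_aut_eq_finrank k L, hL]
  have key : (QsChow.ptNormSubgroup k K).map (phi k) = AddSubgroup.zmultiples (p : ℤ) := by
    rw [map_phi_ptNorm]
    apply le_antisymm
    · rw [AddSubgroup.closure_le]
      rintro t ⟨F, hFd, hne, m, rfl⟩
      obtain ⟨e, he⟩ := hF F hFd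
      have he0 : e ≠ 0 := by
        intro h0
        rw [h0, pow_zero] at he
        exact hne (IntermediateField.finrank_eq_one_iff.mp he)
      show m * (Module.finrank k F : ℤ) ∈ AddSubgroup.zmultiples (p : ℤ)
      rw [Int.mem_zmultiples_iff, he]
      refine Dvd.dvd.mul_left ?_ m
      exact_mod_cast dvd_pow_self p he0
    · apply AddSubgroup.zmultiples_le_of_mem
      obtain ⟨H, hH⟩ := Sylow.exists_subgroup_card_pow_prime (G := L ≃ₐ[k] L) p (n := n - 1)
        (by rw [hcard]; exact pow_dvd_pow p (Nat.sub_le n 1))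
      obtain ⟨F, hFd, hFp⟩ := exists_intermediateField k K L H p (by
        rw [hH, hL, ← pow_succ', Nat.sub_add_cancel hn])
      have hne : F ≠ ⊥ := by
        intro hbot
        have h1 : Module.finrank k F = 1 := IntermediateField.finrank_eq_one_iff.mpr hbot
        rw [hFp] at h1
        exact hp.one_lt.ne' h1
      apply AddSubgroup.subset_closure
      exact ⟨F, hFd, hne, 1, by rw [hFp, one_mul]⟩
  have hbij : Function.Bijective (phi k) := ⟨phi_injective k, phi_surjective k⟩
  rw [← AddSubgroup.index_map_of_bijective hbij, key, Int.index_zmultiples, Int.natAbs_natCast]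

end Galois

end Groth.Agent.H1.PtNorm
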