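import Mathlib
import Groth.Prelude.Def_Cyc

/-! # Lifting generizations inside fibres along a base change. -/

set_option autoImplicit false
set_option linter.style.haveILetI false
universe u
open CategoryTheory AlgebraicGeometry CategoryTheory.Limits

namespace Groth.Agent.H1.PullGen

variable {X S S' : Scheme.{u}}

/-- generizations inside a fibre of `g` lift along the base change of any morphism `a`, keeping
the first component. -/
theorem exists_generization_pullback (a : X ⟶ S) (g : S' ⟶ S) (x' : ↥(pullback a g)) (y : S')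
    (hy : y ⤳ pullback.snd a g x') (hgy : g y = g (pullback.snd a g x')) :
    ∃ z : ↥(pullback a g), z ⤳ x' ∧ pullback.snd a g z = y ∧
      pullback.fst a g z = pullback.fst a g x' := by
  set pr₁ := pullback.fst a g with hpr₁
  set pr₂ := pullback.snd a g with hpr₂
  set η := pr₁ x' with hη
  have hsq : a η = g (pr₂ x') := by
    have := congrArg (fun φ : pullback a g ⟶ S => φ x') (pullback.condition (f := a) (g := g))
    exact this
  set s := a η with hs
  set φ := Spec.map (a.residueFieldMap η) with hφ
  -- pasted square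
  have hA : IsPullback (pr₁.fiberι η) (pr₁.fiberToSpecResidueField η) pr₁
      (X.fromSpecResidueField η) := IsPullback.of_hasPullback _ _
  have hB : IsPullback pr₂ pr₁ g a := (IsPullback.of_hasPullback a g).flip
  have hAB := hA.paste_horiz hB
  have hC : IsPullback (g.fiberι s) (g.fiberToSpecResidueField s) g
      (S.fromSpecResidueField s) := IsPullback.of_hasPullback _ _
  have hw : (pr₁.fiberι η ≫ pr₂) ≫ g = (pr₁.fiberToSpecResidueField η ≫ φ) ≫
      S.fromSpecResidueField s := by
    rw [hAB.w, Category.assoc, hφ, Scheme.Hom.SpecMap_residueFieldMap_fromSpecResidueField]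
  set ψ : pr₁.fiber η ⟶ g.fiber s := hC.lift _ _ hw with hψ
  have hψ1 : ψ ≫ g.fiberι s = pr₁.fiberι η ≫ pr₂ := hC.lift_fst _ _ hw
  have hψ2 : ψ ≫ g.fiberToSpecResidueField s = pr₁.fiberToSpecResidueField η ≫ φ :=
    hC.lift_snd _ _ hw
  have hD : IsPullback ψ (pr₁.fiberToSpecResidueField η) (g.fiberToSpecResidueField s) φ := by
    refine IsPullback.of_right ?_ hψ2 hC
    rw [hψ1, hφ, Scheme.Hom.SpecMap_residueFieldMap_fromSpecResidueField]
    exact hAB
  haveI : Flat φ := by
    rw [hφ, HasRingHomProperty.Spec_iff (P := @Flat)]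
    letI := (a.residueFieldMap η).hom.toAlgebra
    change Module.Flat (S.residueField (a η)) (X.residueField η)
    infer_instance
  haveI : Flat ψ := MorphismProperty.of_isPullback (P := @Flat) hD.flip inferInstance
  have hgen := Flat.generalizingMap ψ
  -- points
  obtain ⟨w, hw'⟩ : ∃ w : pr₁.fiber η, pr₁.fiberι η w = x' := by
    have : x' ∈ Set.range (pr₁.fiberι η) := by
      rw [Scheme.Hom.range_fiberι]; rfl
    exact this
  obtain ⟨v, hv⟩ : ∃ v : g.fiber s, g.fiberι s v = y := by
    have : y ∈ Set.range (g.fiberι s) := by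
      rw [Scheme.Hom.range_fiberι]
      change g y = s
      rw [hgy, hsq]
    exact this
  have hu : g.fiberι s (ψ w) = pr₂ x' := by
    have := congrArg (fun θ : pr₁.fiber η ⟶ S' => θ w) hψ1
    simp only [Scheme.Hom.comp_apply] at this
    rw [this, hw']
  have hvu : v ⤳ ψ w := by
    rw [← (g.fiberι s).isEmbedding.isInducing.specializes_iff, hv, hu]
    exact hy
  obtain ⟨w', hw'1, hw'2⟩ := hgen hvu
  refine ⟨pr₁.fiberι η w', ?_, ?_, ?_⟩
  · rw [← hw']
    exact hw'1.map (pr₁.fiberι η).continuous
  · have := congrArg (fun θ : pr₁.fiber η ⟶ S' => θ w') hψ1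
    simp only [Scheme.Hom.comp_apply] at this
    rw [← this, hw'2, hv]
  · have : pr₁.fiberι η w' ∈ Set.range (pr₁.fiberι η) := ⟨w', rfl⟩
    rw [Scheme.Hom.range_fiberι] at this
    exact this

end Groth.Agent.H1.PullGen
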