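import Mathlib
import Groth.Agent.Lib.Helper1.PunctAff2

universe u
open CategoryTheory AlgebraicGeometry TopologicalSpace Opposite

namespace Groth.Agent.H1.PunctAff

/-- Stacks 0BCU: complement of an affine-inclusion open has codimension ≤ 1 at maximal points. -/
theorem dim_stalk_le_one (X : Scheme.{u}) [IsLocallyNoetherian X] (U : X.Opens)
    [IsAffineHom U.ι] (ξ : X) (hξ : ξ ∉ U)
    (hmax : ∀ η : X, η ∉ U → η ⤳ ξ → η = ξ) : ringKrullDim (X.presheaf.stalk ξ) ≤ 1 := by
  let f := X.fromSpecStalk ξ
  have hV : f ⁻¹ᵁ U = FEt.puncturedSpec (X.presheaf.stalk ξ) := by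
    ext y
    constructor
    · intro hy hye
      apply hξ
      have : f y = ξ := by
        rw [show y = IsLocalRing.closedPoint (X.presheaf.stalk ξ) from hye]
        exact Scheme.fromSpecStalk_closedPoint
      rw [← this]
      exact hy
    · intro hy
      by_contra hyU
      apply hy
      have h1 : f y ⤳ ξ := by
        have : f y ∈ Set.range f := ⟨y, rfl⟩
        rw [Scheme.range_fromSpecStalk] at this
        exact this
      have h2 := hmax (f y) hyU h1
      have hinj : Function.Injective f := (Scheme.Hom.isEmbedding f).injective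
      apply hinj
      rw [h2]
      exact Scheme.fromSpecStalk_closedPoint.symm
  have h1 : IsAffineHom (f ⁻¹ᵁ U).ι :=
    MorphismProperty.of_isPullback (P := @IsAffineHom) (isPullback_morphismRestrict f U)
      inferInstance
  have h2 : IsAffine (f ⁻¹ᵁ U : Scheme.{u}) := isAffine_of_isAffineHom (f ⁻¹ᵁ U).ι
  have h3 : IsAffineOpen (FEt.puncturedSpec (X.presheaf.stalk ξ)) := by
    rw [← hV]
    exact h2
  exact (isAffineOpen_puncturedSpec_iff (X.presheaf.stalk ξ)).mp h3

end Groth.Agent.H1.PunctAff
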