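import Mathlib
import Groth.Agent.Lib.Helper1.PunctAff2
import Groth.Agent.Lib.Helper1.PunctGlue
import Groth.Agent.Lib.Helper6.DTExact3
import Groth.Agent.Lib.Helper6.LCTorsion

universe u
set_option backward.isDefEq.respectTransparency.types false
open CategoryTheory AlgebraicGeometry TopologicalSpace Opposite
open Groth.Agent.H6 Groth.Agent.H6.TildePunct

namespace Groth.Agent.H1.PunctAff

variable (A : Type u) [CommRing A] [IsNoetherianRing A] (I : Ideal A)

/-- `cd(A, I) ≤ 1` implies `I Γ(U, O) = Γ(U, O)`. -/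
theorem map_eq_top_of_cdLE (U : (Spec (CommRingCat.of A)).Opens) (hI : IsPunct I (cv U))
    (h1 : LocCoh.CdLE A I 1) : Ideal.map (algebraMap A (Sec A A (cv U))) I = ⊤ := by
  obtain ⟨fs, hfs⟩ := (isNoetherianRing_iff_ideal_fg A).mp ‹_› I
  have htop : I • (⊤ : Submodule A (LocCoh.DT I A)) = ⊤ :=
    (DTEx.exact_iff_smul_top I).mp ((DTEx.exact_iff_cdLE I).mpr h1)
  have hker : LinearMap.ker (StructureSheaf.toOpenₗ A A (cv U)) ≤ DRing.torsionSub I A := by
    intro x hx
    rw [ker_toOpen hI hfs, mem_iSup_torsionBy_iff] at hx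
    exact hx
  have hcoker : LocCoh.IsPowerTorsion I
      (Sec A A (cv U) ⧸ LinearMap.range (StructureSheaf.toOpenₗ A A (cv U))) := by
    intro q
    obtain ⟨s, rfl⟩ := Submodule.Quotient.mk_surjective _ q
    obtain ⟨N, hN⟩ := exists_pow_smul_mem_range hI hfs s
    refine ⟨N, fun c hc => ?_⟩
    rw [← Submodule.Quotient.mk_smul, Submodule.Quotient.mk_eq_zero]
    exact hN c hc
  have hb1 := DT.map_bijective (I := I) (StructureSheaf.toOpenₗ A A (cv U)) hker hcoker
  have hb2 := toDT_sec_bijective (M := A) hI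
  let Ψ : LocCoh.DT I A ≃ₗ[A] Sec A A (cv U) :=
    (LinearEquiv.ofBijective _ hb1).trans (LinearEquiv.ofBijective _ hb2).symm
  rw [Ideal.eq_top_iff_one]
  have hd : Ψ.symm 1 ∈ I • (⊤ : Submodule A (LocCoh.DT I A)) := by
    rw [htop]; exact Submodule.mem_top
  have key : ∀ d ∈ I • (⊤ : Submodule A (LocCoh.DT I A)),
      Ψ d ∈ Ideal.map (algebraMap A (Sec A A (cv U))) I := by
    intro d hd
    refine Submodule.smul_induction_on hd ?_ ?_
    · intro r hr n _
      rw [map_smul]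
      have h2 : r • Ψ n = algebraMap A (Sec A A (cv U)) r * Ψ n := Algebra.smul_def r (Ψ n)
      rw [h2]
      exact Ideal.mul_mem_right _ _ (Ideal.mem_map_of_mem _ hr)
    · intro x y hx hy
      rw [map_add]
      exact Ideal.add_mem _ hx hy
  have := key _ hd
  rwa [LinearEquiv.apply_symm_apply] at this

/-- `cd(A, I) ≤ 1` implies that `Spec A ∖ V(I)` is affine. -/
theorem isAffineOpen_of_cdLE (h1 : LocCoh.CdLE A I 1) :
    IsAffineOpen (LocCoh.puncturedOpen A I) := by
  have hI : IsPunct I (cv (LocCoh.puncturedOpen A I)) := TildePunct.isPunct I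
  have hmap := map_eq_top_of_cdLE A I _ hI h1
  refine isAffineOpen_of_isAffineOpen_basicOpen (LocCoh.puncturedOpen A I)
    (algebraMap A (Sec A A (cv (LocCoh.puncturedOpen A I))) '' (I : Set A)) hmap ?_
  rintro _ ⟨f, hf, rfl⟩
  rw [basicOpen_algebraMap]
  have : LocCoh.puncturedOpen A I ⊓ PrimeSpectrum.basicOpen f = PrimeSpectrum.basicOpen f :=
    inf_eq_right.mpr (basicOpen_le_Ua hI hf)
  rw [this]
  exact isAffineOpen_basicOpen A f

/-- if `Spec A ∖ V(I)` is empty then `cd(A, I) ≤ 0`. -/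
theorem cdLE_zero_of_isEmpty (h : IsEmpty (LocCoh.puncturedOpen A I : Scheme.{u})) :
    LocCoh.CdLE A I 0 := by
  have hle : I ≤ nilradical A := by
    rw [nilradical_eq_sInf, le_sInf_iff]
    intro p hp
    by_contra hnot
    exact h.false ⟨⟨p, hp⟩, fun hx => hnot hx⟩
  obtain ⟨n, hn⟩ := Ideal.exists_pow_le_of_le_radical_of_fg (J := ⊥) hle
    ((isNoetherianRing_iff_ideal_fg A).mp ‹_› I)
  intro M _ _ i hi
  obtain ⟨j, rfl⟩ := Nat.exists_eq_succ_of_ne_zero (Nat.pos_iff_ne_zero.mp hi)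
  refine LC.subsingleton_of_torsion I j (ModuleCat.of A M) fun t => ⟨n, fun a ha => ?_⟩
  have : a = 0 := by simpa using hn ha
  rw [this, zero_smul]

end Groth.Agent.H1.PunctAff
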