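import Mathlib
import Groth.Agent.Lib.Helper1.FibDimUV

/-!
# Pure ideals: closed generalization-stable subsets vs. finite flat modules (Stacks 052U-type)
-/

universe u

namespace Groth.Agent.H1.PureIdeal


open PrimeSpectrum

variable {R : Type u} [CommRing R]

/-- The ideal of elements vanishing in every local ring at a point of `Z`. -/
def locKer (Z : Set (PrimeSpectrum R)) : Ideal R where
  carrier := {a | ∀ p ∈ Z, ∃ s : R, s ∉ p.asIdeal ∧ s * a = 0}
  zero_mem' := fun p _ => ⟨1, p.asIdeal.ne_top_iff_one.mp p.2.ne_top, by simp⟩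
  add_mem' := by
    intro a b ha hb p hp
    obtain ⟨s, hs, hsa⟩ := ha p hp
    obtain ⟨t, ht, htb⟩ := hb p hp
    refine ⟨s * t, fun h => (p.2.mem_or_mem h).elim hs ht, ?_⟩
    rw [mul_add, mul_right_comm, hsa, zero_mul, mul_assoc, htb, mul_zero, add_zero]
  smul_mem' := by
    intro c a ha p hp
    obtain ⟨s, hs, hsa⟩ := ha p hp
    refine ⟨s, hs, ?_⟩
    rw [smul_eq_mul, mul_left_comm, hsa, mul_zero]

theorem mem_locKer {Z : Set (PrimeSpectrum R)} {a : R} :
    a ∈ locKer Z ↔ ∀ p ∈ Z, ∃ s : R, s ∉ p.asIdeal ∧ s * a = 0 := Iff.rfl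

theorem subset_zeroLocus_locKer (Z : Set (PrimeSpectrum R)) : Z ⊆ zeroLocus (locKer Z : Set R) := by
  intro p hp a ha
  obtain ⟨s, hs, hsa⟩ := ha p hp
  have : s * a ∈ p.asIdeal := by rw [hsa]; exact zero_mem _
  exact (p.2.mem_or_mem this).resolve_left hs

/-- local nilpotence at a point of a generalization-stable closed set -/
theorem exists_mul_pow_eq_zero {Z : Set (PrimeSpectrum R)} (hgen : StableUnderGeneralization Z)
    {g : R} (hg : g ∈ vanishingIdeal Z) {p : PrimeSpectrum R} (hp : p ∈ Z) :
    ∃ (s : R) (n : ℕ), s ∉ p.asIdeal ∧ s * g ^ n = 0 := by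
  by_contra hcon
  push Not at hcon
  set T : Submonoid R := p.asIdeal.primeCompl ⊔ Submonoid.powers g with hT
  have hdisj : Disjoint ((⊥ : Ideal R) : Set R) (T : Set R) := by
    rw [Set.disjoint_left]
    intro x hx hxT
    rw [SetLike.mem_coe, Ideal.mem_bot] at hx
    rw [SetLike.mem_coe, hT, Submonoid.mem_sup] at hxT
    obtain ⟨s, hs, z, ⟨n, rfl⟩, hsz⟩ := hxT
    exact hcon s n hs (by rw [hsz, hx])
  obtain ⟨p', hp'prime, _, hp'disj⟩ := Ideal.exists_le_prime_disjoint ⊥ T hdisj
  rw [Set.disjoint_left] at hp'disj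
  have hle : p' ≤ p.asIdeal := by
    intro x hx
    by_contra hxp
    exact hp'disj hx (by rw [SetLike.mem_coe, hT]; exact Submonoid.mem_sup_left hxp)
  have hgp' : g ∉ p' := fun h =>
    hp'disj h (by rw [SetLike.mem_coe, hT]; exact Submonoid.mem_sup_right (Submonoid.mem_powers g))
  have hp'Z : (⟨p', hp'prime⟩ : PrimeSpectrum R) ∈ Z := by
    refine hgen ?_ hp
    rw [← PrimeSpectrum.le_iff_specializes]
    exact hle
  exact hgp' ((mem_vanishingIdeal _ _).mp hg _ hp'Z)

theorem zeroLocus_locKer {Z : Set (PrimeSpectrum R)} (hcl : IsClosed Z)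
    (hgen : StableUnderGeneralization Z) : zeroLocus (locKer Z : Set R) = Z := by
  apply Set.Subset.antisymm _ (subset_zeroLocus_locKer Z)
  intro q hq
  by_contra hqZ
  have hZ : Z = zeroLocus (vanishingIdeal Z : Set R) := by
    rw [zeroLocus_vanishingIdeal_eq_closure, hcl.closure_eq]
  rw [hZ, mem_zeroLocus, Set.not_subset] at hqZ
  obtain ⟨g, hg, hgq⟩ := hqZ
  choose s n hs hsn using fun p : Z => exists_mul_pow_eq_zero hgen hg p.2
  have hcomp : IsCompact Z := hcl.isCompact
  have hcover : Z ⊆ ⋃ p : Z, (basicOpen (s p) : Set (PrimeSpectrum R)) := by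
    intro p hp
    exact Set.mem_iUnion.mpr ⟨⟨p, hp⟩, hs ⟨p, hp⟩⟩
  obtain ⟨t, ht⟩ := hcomp.elim_finite_subcover (fun p : Z => (basicOpen (s p) : Set (PrimeSpectrum R)))
    (fun p => (basicOpen (s p)).2) hcover
  set N := t.sup n with hN
  have hgN : g ^ N ∈ locKer Z := by
    intro p hp
    obtain ⟨i, hi, hpi⟩ := Set.mem_iUnion₂.mp (ht hp)
    refine ⟨s i, hpi, ?_⟩
    have hle : n i ≤ N := Finset.le_sup hi
    rw [← Nat.sub_add_cancel hle, pow_add, ← mul_assoc, mul_comm (s i), mul_assoc, hsn, mul_zero]
  have := hq hgN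
  exact hgq (q.2.mem_of_pow_mem _ this)

theorem exists_one_sub_mul_eq_zero {Z : Set (PrimeSpectrum R)} (hcl : IsClosed Z)
    (hgen : StableUnderGeneralization Z) {x : R} (hx : x ∈ locKer Z) :
    ∃ a ∈ locKer Z, (1 - a) * x = 0 := by
  set A : Ideal R := (Ideal.span {x}).annihilator with hA
  have htop : A ⊔ locKer Z = ⊤ := by
    by_contra hne
    obtain ⟨m, hm, hle⟩ := Ideal.exists_le_maximal _ hne
    have hmZ : (⟨m, hm.isPrime⟩ : PrimeSpectrum R) ∈ Z := by
      rw [← zeroLocus_locKer hcl hgen, mem_zeroLocus]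
      exact fun a ha => hle (Ideal.mem_sup_right ha)
    obtain ⟨s, hs, hsx⟩ := hx _ hmZ
    apply hs
    apply hle
    apply Ideal.mem_sup_left
    rw [hA, Submodule.mem_annihilator_span_singleton, smul_eq_mul, hsx]
  have h1 : (1 : R) ∈ A ⊔ locKer Z := by rw [htop]; trivial
  obtain ⟨s, hs, a, ha, hsa⟩ := Submodule.mem_sup.mp h1
  refine ⟨a, ha, ?_⟩
  rw [hA, Submodule.mem_annihilator_span_singleton, smul_eq_mul] at hs
  rw [← hsa, add_sub_cancel_right, hs]

theorem flat_quotient_locKer {Z : Set (PrimeSpectrum R)} (hcl : IsClosed Z)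
    (hgen : StableUnderGeneralization Z) : Module.Flat R (R ⧸ locKer Z) := by
  apply Module.Flat.of_forall_isTrivialRelation
  intro l f x hfx
  -- lift the `x i`
  choose x' hx' using fun i => Ideal.Quotient.mk_surjective (x i)
  set y : R := ∑ i, f i * x' i with hy
  have hyI : y ∈ locKer Z := by
    rw [← Ideal.Quotient.eq_zero_iff_mem, hy, map_sum, ← hfx]
    apply Finset.sum_congr rfl
    intro i _
    rw [map_mul, hx', Algebra.smul_def]
    rfl
  obtain ⟨a, ha, hay⟩ := exists_one_sub_mul_eq_zero hcl hgen hyI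
  refine ⟨1, fun i _ => (1 - a) * x' i, fun _ => 1, ?_, ?_⟩
  · intro i
    simp only [Finset.univ_unique, Finset.sum_singleton]
    rw [← hx', Algebra.smul_def, mul_one]
    change _ = Ideal.Quotient.mk _ ((1 - a) * x' i)
    rw [map_mul, map_sub, map_one, Ideal.Quotient.eq_zero_iff_mem.mpr ha, sub_zero, one_mul]
  · intro j
    rw [← hay, hy, Finset.mul_sum]
    apply Finset.sum_congr rfl
    intro i _
    ring

/-- `locKer Z` is generated by an idempotent when `R ⧸ locKer Z` is projective; hence `Z` open. -/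
theorem isOpen_of_projective {Z : Set (PrimeSpectrum R)} (hcl : IsClosed Z)
    (hgen : StableUnderGeneralization Z) (hproj : Module.Projective R (R ⧸ locKer Z)) :
    IsOpen Z := by
  set I := locKer Z with hI
  obtain ⟨σ, hσ⟩ := Module.projective_lifting_property (Submodule.mkQ I) LinearMap.id
    (Submodule.mkQ_surjective I)
  set e : R := σ (Submodule.Quotient.mk 1) with he
  have h1e : 1 - e ∈ I := by
    have := LinearMap.congr_fun hσ (Submodule.Quotient.mk 1)
    simp only [LinearMap.coe_comp, Function.comp_apply, LinearMap.id_coe, id_eq,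
      Submodule.mkQ_apply] at this
    rw [← Submodule.Quotient.mk_eq_zero, Submodule.Quotient.mk_sub, he, this, sub_self]
  have hIe : ∀ a ∈ I, a * e = 0 := by
    intro a ha
    rw [he, ← smul_eq_mul, ← map_smul, ← Submodule.Quotient.mk_smul, smul_eq_mul, mul_one,
      (Submodule.Quotient.mk_eq_zero I).mpr ha, map_zero]
  have hZ : Z = (basicOpen e : Set (PrimeSpectrum R)) := by
    rw [← zeroLocus_locKer hcl hgen]
    ext p
    simp only [mem_zeroLocus, SetLike.mem_coe, mem_basicOpen]
    constructor
    · intro hp hep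
      have h2 : 1 - e ∈ p.asIdeal := hp h1e
      have : (1 : R) ∈ p.asIdeal := by
        have := p.asIdeal.add_mem h2 hep
        simpa using this
      exact p.2.ne_top ((Ideal.eq_top_iff_one _).mpr this)
    · intro hep a ha
      have : a * e ∈ p.asIdeal := by rw [hIe a ha]; exact zero_mem _
      exact (p.2.mem_or_mem this).resolve_right hep
  rw [hZ]
  exact (basicOpen e).2

section part2

open Module LocalizedModule

attribute [local instance] Module.free_of_flat_of_isLocalRing

set_option maxSynthPendingDepth 3 in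
theorem free_away_of_rank_const_on_basicOpen (M : Type u) [AddCommGroup M] [Module R M]
    [Module.Finite R M] [Module.Flat R M] (p : Ideal R) [hp : p.IsPrime] (f : R) (hf : f ∉ p)
    (h : ∀ q : PrimeSpectrum R, f ∉ q.asIdeal → rankAtStalk M q = rankAtStalk M ⟨p, hp⟩) :
    ∃ a ∉ p, Module.Free (Localization.Away a) (LocalizedModule.Away a M) := by
  rcases subsingleton_or_nontrivial R with _ | _
  · use 1, Ideal.IsPrime.one_notMem ‹_›
    exact Module.Free.of_subsingleton' (Localization.Away 1) (LocalizedModule.Away 1 M)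
  · let Rₚ := Localization.AtPrime p
    let n := rankAtStalk M ⟨p, inferInstance⟩
    let f' : (Fin n →₀ R) →ₗ[R] Fin n →₀ Rₚ := Finsupp.mapRange.linearMap (Algebra.linearMap R Rₚ)
    let g : M →ₗ[R] LocalizedModule.AtPrime p M := LocalizedModule.mkLinearMap p.primeCompl M
    obtain ⟨φ, -, -, hφps⟩ := exists_localizedMap_surjective_of_surjective p.primeCompl f' g
      ((finBasis Rₚ (LocalizedModule.AtPrime p M)).repr.restrictScalars R).symm.surjective
    have hφp : Function.Surjective (LocalizedModule.map p.primeCompl φ) := by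
      simpa [LocalizedModule.coe_map_eq f' g] using hφps
    rw [φ.localizedMap_surjective_iff_subsingleton_localized_coker] at hφp
    obtain ⟨a₀, ha₀p, ha₀⟩ := LocalizedModule.exists_subsingleton_away p (M := M ⧸ LinearMap.range φ)
    set a := a₀ * f with ha
    have hap : a ∉ p := fun h' => (hp.mem_or_mem h').elim ha₀p hf
    have hsub : Subsingleton (LocalizedModule.Away a (M ⧸ LinearMap.range φ)) := by
      rw [LocalizedModule.subsingleton_iff] at ha₀ ⊢
      intro m
      obtain ⟨r, ⟨k, rfl⟩, hr⟩ := ha₀ m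
      refine ⟨a ^ k, ⟨k, rfl⟩, ?_⟩
      rw [ha, mul_pow, mul_comm, mul_smul, hr, smul_zero]
    have hφas : Function.Surjective (LocalizedModule.map (Submonoid.powers a) φ) := by
      rw [φ.localizedMap_surjective_iff_subsingleton_localized_coker]
      exact hsub
    have : Module.Free (Localization.Away a) (LocalizedModule.Away a (Fin n →₀ R)) :=
      free_of_isLocalizedModule (Submonoid.powers a) (mkLinearMap (Submonoid.powers a) (Fin n →₀ R))
    let φₐ : LocalizedModule.Away a (Fin n →₀ R) →ₗ[Localization.Away a] LocalizedModule.Away a M :=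
      LocalizedModule.map (Submonoid.powers a) φ
    refine ⟨a, hap, Module.Free.of_equiv <| LinearEquiv.ofBijective φₐ <|
      bijective_of_surjective_of_rankAtStalk_eq hφas <| fun m _ ↦ ?_⟩
    have hfm : f ∉ (PrimeSpectrum.comap (algebraMap R (Localization (Submonoid.powers a)))
        ⟨m, inferInstance⟩).asIdeal := by
      intro hfm
      have hu : IsUnit (algebraMap R (Localization (Submonoid.powers a)) a) :=
        IsLocalization.map_units _ (⟨a, Submonoid.mem_powers a⟩ : Submonoid.powers a)
      have : algebraMap R (Localization (Submonoid.powers a)) a ∈ m := by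
        have h2 : algebraMap R (Localization (Submonoid.powers a)) a =
            algebraMap R (Localization (Submonoid.powers a)) a₀ *
              algebraMap R (Localization (Submonoid.powers a)) f := by
          rw [← map_mul]
        rw [h2]
        exact Ideal.mul_mem_left _ _ hfm
      exact (inferInstance : m.IsPrime).ne_top (Ideal.eq_top_of_isUnit_mem _ this hu)
    simp [rankAtStalk_isBaseChange (LocalizedModule.isBaseChange (Submonoid.powers a) _),
      h _ hfm, n]

set_option maxSynthPendingDepth 3 in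
theorem projective_of_finite_flat
    (h1 : ∀ Z : Set (PrimeSpectrum R), IsClosed Z → StableUnderGeneralization Z → IsOpen Z)
    (M : Type u) [AddCommGroup M] [Module R M] [Module.Finite R M] [Module.Flat R M] :
    Module.Projective R M := by
  set ρ := rankAtStalk (R := R) M with hρ
  have hρfib : ∀ x, ρ x = Groth.Agent.H1.FibDimUV.fibDim M x := fun x => Module.rankAtStalk_eq (M := M) x
  have husc : UpperSemicontinuous ρ := by
    have := Groth.Agent.H1.FibDimUV.fibDim_upperSemicontinuous (A := R) M
    have h2 : ρ = Groth.Agent.H1.FibDimUV.fibDim M := funext hρfib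
    rw [h2]; exact this
  have hopenZ : ∀ n : ℕ, IsOpen {x | n ≤ ρ x} := by
    intro n
    apply h1
    · have : {x | n ≤ ρ x} = {x | ρ x < n}ᶜ := by ext x; simp
      rw [this, isClosed_compl_iff]
      exact husc.isOpen_preimage n
    · intro x y hyx hx
      have hle : y ≤ x := (PrimeSpectrum.le_iff_specializes y x).mpr hyx
      have := rankAtStalk_eq_of_le_of_finite_of_flat M hle
      change n ≤ ρ y
      rw [hρ, this]
      exact hx
  have hclosedZ : ∀ n : ℕ, IsClosed {x | n ≤ ρ x} := by
    intro n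
    have : {x | n ≤ ρ x} = {x | ρ x < n}ᶜ := by ext x; simp
    rw [this, isClosed_compl_iff]
    exact husc.isOpen_preimage n
  -- local freeness
  have hloc : ∀ p : PrimeSpectrum R, ∃ a ∉ p.asIdeal,
      Module.Free (Localization.Away a) (LocalizedModule.Away a M) := by
    intro p
    have hU : IsOpen ({x | ρ p ≤ ρ x} ∩ {x | ρ p + 1 ≤ ρ x}ᶜ) :=
      (hopenZ _).inter (hclosedZ _).isOpen_compl
    have hpU : p ∈ ({x | ρ p ≤ ρ x} ∩ {x | ρ p + 1 ≤ ρ x}ᶜ) := by
      refine ⟨show ρ p ≤ ρ p from le_rfl, ?_⟩
      simp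
    obtain ⟨_, ⟨f, rfl⟩, hpf, hfU⟩ :=
      PrimeSpectrum.isTopologicalBasis_basic_opens.exists_subset_of_mem_open hpU hU
    haveI := p.2
    refine free_away_of_rank_const_on_basicOpen M p.asIdeal f hpf ?_
    intro q hq
    have := hfU hq
    simp only [Set.mem_inter_iff, Set.mem_ofPred_eq, Set.mem_compl_iff, not_le] at this
    change ρ q = ρ p
    omega
  choose a ha hfree using hloc
  have hspan : Ideal.span (Set.range a) = ⊤ := by
    by_contra hne
    obtain ⟨m, hm, hle⟩ := Ideal.exists_le_maximal _ hne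
    exact ha ⟨m, hm.isPrime⟩ (hle (Ideal.subset_span ⟨_, rfl⟩))
  haveI : Module.FinitePresentation R M := by
    refine Module.FinitePresentation.of_localizationSpan (Set.range a) hspan ?_
    rintro ⟨_, ⟨p, rfl⟩⟩
    haveI := hfree p
    exact Module.finitePresentation_of_projective _ _
  exact Module.Flat.projective_of_finitePresentation

end part2

end Groth.Agent.H1.PureIdeal
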