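import Mathlib
import Groth.Prelude.Def_Pi1
import Groth.Prelude.Def_ega3
import Groth.Agent.Lib.Helper1.PushO
import Groth.Agent.Lib.Helper5.AG.NormalAffine

/-! Converse to `PushO`: if `O_Y → f_* O_X` is an isomorphism and `X` is normal then `K(Y)` is
algebraically closed in `K(X)`. -/

universe u
set_option linter.style.haveILetI false
open CategoryTheory AlgebraicGeometry TopologicalSpace Opposite

namespace Groth.Agent.H1.PushO

/-- On a normal integral scheme, a rational function which is integral over the sections on every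
nonempty affine open inside `U` is a section over `U`. -/
theorem exists_section_of_isIntegral' {X : Scheme.{u}} [IsIntegral X]
    (hX : Pi1.IsNormalScheme X) (U₀ : X.Opens) (hU₀ : genericPoint X ∈ U₀) (x : X.functionField)
    (hx : ∀ (V : X.Opens) [Nonempty V], V ≤ U₀ → IsAffineOpen V → IsIntegral Γ(X, V) x) :
    ∃ t : Γ(X, U₀), X.presheaf.germ U₀ (genericPoint X) hU₀ t = x := by
  classical
  let ι := {V : X.Opens // IsAffineOpen V ∧ Nonempty V ∧ V ≤ U₀}
  let U : ι → X.Opens := fun i => i.1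
  have hloc : ∀ i : ι, ∃ y : Γ(X, i.1),
      (haveI : Nonempty i.1 := i.2.2.1; X.germToFunctionField i.1 y) = x := by
    intro i
    haveI : Nonempty i.1 := i.2.2.1
    haveI : IsIntegrallyClosed Γ(X, i.1) :=
      (Groth.Agent.H5.AG.isNormalScheme_iff_affine X).1 hX i.1 i.2.1
    haveI := functionField_isFractionRing_of_isAffineOpen X i.1 i.2.1
    exact IsIntegrallyClosed.isIntegral_iff.1 (hx i.1 i.2.2.2 i.2.1)
  choose sf hsf using hloc
  have hgen : ∀ V : X.Opens, Nonempty V → genericPoint X ∈ V := fun V h =>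
    ((genericPoint_spec X).mem_open_set_iff V.isOpen).mpr (by simpa using h)
  have hcompat : TopCat.Presheaf.IsCompatible X.sheaf.1 U sf := by
    intro i j
    have hi := hgen i.1 i.2.2.1
    have hj := hgen j.1 j.2.2.1
    have hij : genericPoint X ∈ U i ⊓ U j := ⟨hi, hj⟩
    apply germ_injective_of_isIntegral X (genericPoint X) hij
    have h1 := TopCat.Presheaf.germ_res_apply X.presheaf (Opens.infLELeft (U i) (U j))
      (genericPoint X) hij (sf i)
    have h2 := TopCat.Presheaf.germ_res_apply X.presheaf (Opens.infLERight (U i) (U j))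
      (genericPoint X) hij (sf j)
    refine h1.trans (Eq.trans ?_ h2.symm)
    exact (hsf i).trans (hsf j).symm
  have hcover : U₀ ≤ iSup U := by
    intro y hy
    obtain ⟨_, ⟨V, hV, rfl⟩, hyV, hVU⟩ := X.isBasis_affineOpens.exists_subset_of_mem_open
      hy U₀.isOpen
    exact Opens.mem_iSup.2 ⟨⟨V, hV, ⟨⟨y, hyV⟩⟩, hVU⟩, hyV⟩
  obtain ⟨gl, gl_spec, -⟩ :
      ∃ gl : X.presheaf.obj (op U₀),
        (∀ i : ι, (X.sheaf.1.map (homOfLE (i.2.2.2 : U i ≤ U₀)).op) gl = sf i) ∧ _ :=
    X.sheaf.existsUnique_gluing' U U₀ (fun i => homOfLE i.2.2.2) hcover sf hcompat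
  refine ⟨gl, ?_⟩
  obtain ⟨_, ⟨V, hV, rfl⟩, hyV, hVU⟩ := X.isBasis_affineOpens.exists_subset_of_mem_open
    hU₀ U₀.isOpen
  let i : ι := ⟨V, hV, ⟨⟨genericPoint X, hyV⟩⟩, hVU⟩
  have h3 := TopCat.Presheaf.germ_res_apply X.presheaf (homOfLE (i.2.2.2 : U i ≤ U₀))
    (genericPoint X) (hgen i.1 i.2.2.1) gl
  have h4 := gl_spec i
  refine h3.symm.trans ?_
  rw [show (X.presheaf.map (homOfLE (i.2.2.2 : U i ≤ U₀)).op) gl = sf i from h4]
  exact hsf i

variable {X Y : Scheme.{u}} [IsIntegral X] [IsIntegral Y] (f : X ⟶ Y)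
  (hdom : f.base (genericPoint X) ⤳ genericPoint Y)

/-- if `O_Y → f_* O_X` is surjective on some nonempty affine open and `X` is normal, then `K(Y)`
is algebraically closed in `K(X)`. -/
theorem mem_range_of_isIntegralElem (hX : Pi1.IsNormalScheme X)
    (h : ∀ U : Y.Opens, Function.Surjective (f.app U)) (x : X.functionField)
    (hx : (CohIII.stalkToFunctionField f (genericPoint Y) hdom).IsIntegralElem x) :
    x ∈ (CohIII.stalkToFunctionField f (genericPoint Y) hdom).range := by
  obtain ⟨_, ⟨V, hVaff, rfl⟩, hV, -⟩ := Y.isBasis_affineOpens.exists_subset_of_mem_open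
    (Set.mem_univ (genericPoint Y)) isOpen_univ
  haveI : Nonempty V := ⟨⟨genericPoint Y, hV⟩⟩
  haveI : IsFractionRing Γ(Y, V) Y.functionField :=
    functionField_isFractionRing_of_isAffineOpen Y V hVaff
  have hηX := genericPoint_mem_preimage f hdom V hV
  set φ := CohIII.stalkToFunctionField f (genericPoint Y) hdom with hφ
  let g : Γ(Y, V) →+* Y.functionField := algebraMap Γ(Y, V) Y.functionField
  have hg : ∀ a, g a = Y.presheaf.germ V (genericPoint Y) hV a := fun a => rfl
  let ρ : Γ(Y, V) →+* X.functionField := φ.comp g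
  have hρ : ∀ a, ρ a = X.presheaf.germ (f ⁻¹ᵁ V) (genericPoint X) hηX (f.app V a) := by
    intro a
    change φ (g a) = _
    rw [hg, stalkToFunctionField_germ f hdom V hV a]
  -- clear denominators
  obtain ⟨d, hd0, hdint⟩ : ∃ d : Γ(Y, V), d ≠ 0 ∧
      ∃ p : Polynomial Γ(Y, V), p.Monic ∧ Polynomial.eval₂ ρ (ρ d * x) p = 0 := by
    letI : Algebra Y.functionField X.functionField := φ.toAlgebra
    letI : Algebra Γ(Y, V) X.functionField := ρ.toAlgebra
    haveI : IsScalarTower Γ(Y, V) Y.functionField X.functionField :=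
      IsScalarTower.of_algebraMap_eq (fun _ => rfl)
    have hxint : IsIntegral Y.functionField x := hx
    have halg : IsAlgebraic Γ(Y, V) x :=
      (IsFractionRing.isAlgebraic_iff Γ(Y, V) Y.functionField X.functionField).mpr
        hxint.isAlgebraic
    obtain ⟨d, hd0, hdx⟩ := halg.exists_integral_multiple
    refine ⟨d, hd0, ?_⟩
    rw [Algebra.smul_def] at hdx
    exact hdx
  obtain ⟨p, hpm, hp⟩ := hdint
  -- `ρ d * x` is a section over `f⁻¹ V`
  obtain ⟨t, ht⟩ := exists_section_of_isIntegral' hX (f ⁻¹ᵁ V) hηX (ρ d * x) (by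
    intro W _ hWV hWaff
    have hηW : genericPoint X ∈ W :=
      ((genericPoint_spec X).mem_open_set_iff W.isOpen).mpr (by
        obtain ⟨w⟩ := (inferInstance : Nonempty W)
        exact ⟨w.1, trivial, w.2⟩)
    let ψ : Γ(Y, V) →+* Γ(X, W) := (f.appLE V W hWV).hom
    have hψ : ∀ a, algebraMap Γ(X, W) X.functionField (ψ a) = ρ a := by
      intro a
      rw [hρ]
      change X.presheaf.germ W (genericPoint X) hηW (f.appLE V W hWV a) = _
      have h1 : f.appLE V W hWV a = X.presheaf.map (homOfLE hWV).op (f.app V a) := rfl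
      rw [h1]
      exact TopCat.Presheaf.germ_res_apply X.presheaf (homOfLE hWV) (genericPoint X) hηW _
    refine ⟨p.map ψ, hpm.map ψ, ?_⟩
    rw [Polynomial.eval₂_map]
    have h2 : (algebraMap Γ(X, W) X.functionField).comp ψ = ρ := RingHom.ext hψ
    rw [h2]
    exact hp)
  obtain ⟨a, ha⟩ := h V t
  have hda : ρ d * x = ρ a := by
    rw [← ht, ← ha, hρ]
  have hρd : ρ d ≠ 0 := by
    intro h0
    have h1 : g d = 0 := by
      apply stalkToFunctionField_injective f hdom
      rw [map_zero]
      exact h0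
    exact hd0 ((IsFractionRing.injective Γ(Y, V) Y.functionField) (h1.trans (map_zero _).symm))
  refine ⟨g a / g d, ?_⟩
  rw [map_div₀]
  change ρ a / ρ d = x
  rw [← hda, mul_div_cancel_left₀ _ hρd]

end Groth.Agent.H1.PushO
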