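import Mathlib
import Groth.Prelude.Def_Pi1
import Groth.Prelude.Def_ega3
import Groth.Agent.Lib.Helper1.PushO4

/-! `O_Y → f_* O_X` without Noetherian hypotheses; universally closed radicial birational
morphisms to normal schemes. -/

universe u
set_option linter.style.haveILetI false
open CategoryTheory AlgebraicGeometry TopologicalSpace Opposite

namespace Groth.Agent.H1.PushO

variable {X Y : Scheme.{u}} [IsIntegral X] [IsIntegral Y] (f : X ⟶ Y)
  (hdom : f.base (genericPoint X) ⤳ genericPoint Y)

theorem app_surjective_of_isAffineOpen' [UniversallyClosed f]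
    (hY : Pi1.IsNormalScheme Y)
    (halg : ∀ x : X.functionField,
      (∃ p : Polynomial Y.functionField, p ≠ 0 ∧
        Polynomial.eval₂ (CohIII.stalkToFunctionField f (genericPoint Y) hdom) x p = 0) →
      x ∈ Set.range (CohIII.stalkToFunctionField f (genericPoint Y) hdom))
    (V : Y.Opens) (hVaff : IsAffineOpen V) (hV : genericPoint Y ∈ V) :
    Function.Surjective (f.app V) := by
  intro s
  haveI : Nonempty V := ⟨⟨genericPoint Y, hV⟩⟩
  haveI : IsFractionRing Γ(Y, V) Y.functionField :=
    functionField_isFractionRing_of_isAffineOpen Y V hVaff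
  haveI : IsIntegrallyClosed Γ(Y, V) :=
    (Groth.Agent.H5.AG.isNormalScheme_iff_affine Y).1 hY V hVaff
  have hηX := genericPoint_mem_preimage f hdom V hV
  set φ := CohIII.stalkToFunctionField f (genericPoint Y) hdom with hφ
  let g : Γ(Y, V) →+* Y.functionField := algebraMap Γ(Y, V) Y.functionField
  have hg : ∀ a, g a = Y.presheaf.germ V (genericPoint Y) hV a := fun a => rfl
  let ρ : Γ(Y, V) →+* X.functionField := φ.comp g
  set sK := X.presheaf.germ (f ⁻¹ᵁ V) (genericPoint X) hηX s with hsK
  have hint : ∃ p : Polynomial Γ(Y, V), p.Monic ∧ Polynomial.eval₂ ρ sK p = 0 := by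
    letI : Algebra Γ(Y, V) X.functionField := ρ.toAlgebra
    have hI : IsIntegral Γ(Y, V) sK := by
      by_contra hcon
      have hnot : sK ∉ (integralClosure Γ(Y, V) X.functionField).toSubring := hcon
      obtain ⟨W, hW, hs⟩ := Subring.exists_le_valuationSubring_of_isIntegrallyClosedIn hnot
      apply hs
      apply germ_mem_valuationSubring f hdom V hVaff hV s W
      intro a
      apply hW
      exact (integralClosure Γ(Y, V) X.functionField).algebraMap_mem a
    exact hI
  obtain ⟨p, hpm, hp⟩ := hint
  have hp' : Polynomial.eval₂ φ sK (p.map g) = 0 := by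
    rw [Polynomial.eval₂_map]
    exact hp
  obtain ⟨t, ht⟩ := halg sK ⟨p.map g, (hpm.map g).ne_zero, hp'⟩
  have htint : IsIntegral Γ(Y, V) t := by
    refine ⟨p, hpm, ?_⟩
    apply stalkToFunctionField_injective f hdom
    rw [map_zero, Polynomial.hom_eval₂]
    change Polynomial.eval₂ ρ (φ t) p = 0
    rw [ht]
    exact hp
  obtain ⟨a, ha⟩ := IsIntegrallyClosed.isIntegral_iff.mp htint
  refine ⟨a, ?_⟩
  apply germ_injective_of_isIntegral X (genericPoint X) hηX
  rw [← stalkToFunctionField_germ f hdom V hV a, ← hg, ha]
  exact ht

theorem isIso_app_of_isAffineOpen' [UniversallyClosed f]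
    (hY : Pi1.IsNormalScheme Y)
    (halg : ∀ x : X.functionField,
      (∃ p : Polynomial Y.functionField, p ≠ 0 ∧
        Polynomial.eval₂ (CohIII.stalkToFunctionField f (genericPoint Y) hdom) x p = 0) →
      x ∈ Set.range (CohIII.stalkToFunctionField f (genericPoint Y) hdom))
    (V : Y.Opens) (hVaff : IsAffineOpen V) : IsIso (f.app V) := by
  rw [ConcreteCategory.isIso_iff_bijective]
  by_cases hV : genericPoint Y ∈ V
  · exact ⟨app_injective f hdom V hV, app_surjective_of_isAffineOpen' f hdom hY halg V hVaff hV⟩
  · have hVbot : V = ⊥ := by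
      by_contra hne
      apply hV
      have hne' : (V : Set Y).Nonempty := by
        rw [Set.nonempty_iff_ne_empty]
        intro h0
        apply hne
        ext y
        simp [h0]
      exact ((genericPoint_spec Y).mem_open_set_iff V.isOpen).mpr (by simpa using hne')
    haveI : Subsingleton Γ(Y, V) := by rw [hVbot]; infer_instance
    haveI : Subsingleton Γ(X, f ⁻¹ᵁ V) := by
      have : f ⁻¹ᵁ V = ⊥ := by rw [hVbot]; rfl
      rw [this]
      infer_instance
    exact ⟨fun a b _ => Subsingleton.elim a b, fun b => ⟨0, Subsingleton.elim _ _⟩⟩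

theorem isIso_app' [UniversallyClosed f]
    (hY : Pi1.IsNormalScheme Y)
    (halg : ∀ x : X.functionField,
      (∃ p : Polynomial Y.functionField, p ≠ 0 ∧
        Polynomial.eval₂ (CohIII.stalkToFunctionField f (genericPoint Y) hdom) x p = 0) →
      x ∈ Set.range (CohIII.stalkToFunctionField f (genericPoint Y) hdom))
    (V : Y.Opens) : IsIso (f.app V) := by
  let F : TopCat.Sheaf CommRingCat Y := Y.sheaf
  let G : TopCat.Sheaf CommRingCat Y := (TopCat.Sheaf.pushforward CommRingCat f.base).obj X.sheaf
  let φ : F ⟶ G := ⟨f.c⟩
  let B : Y.affineOpens → Opens Y := Subtype.val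
  have hB : Opens.IsBasis (Set.range B) := by
    rw [Subtype.range_coe]
    exact Y.isBasis_affineOpens
  have hiso : IsIso φ := by
    apply TopCat.Sheaf.isIso_iff_isIso_basis (B := B) hB
    intro i
    exact isIso_app_of_isAffineOpen' f hdom hY halg i.1 i.2
  have h2 : IsIso ((TopCat.Sheaf.forget CommRingCat Y).map φ) := inferInstance
  have h3 : IsIso (((TopCat.Sheaf.forget CommRingCat Y).map φ).app (op V)) := inferInstance
  exact h3


/-- a bijective-on-points morphism which is a closed map and an isomorphism on all sections is an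
isomorphism. -/
theorem isIso_of_bijective_of_isClosedMap_of_isIso_app {X Y : Scheme.{u}} (f : X ⟶ Y)
    (hbij : Function.Bijective f.base) (hcl : IsClosedMap f.base)
    (happ : ∀ V : Y.Opens, IsIso (f.app V)) : IsIso f := by
  have hopen : IsOpenMap f.base := by
    intro O hO
    have h1 : f.base '' O = (f.base '' Oᶜ)ᶜ := by
      ext y
      constructor
      · rintro ⟨x, hx, rfl⟩ ⟨x', hx', hxx'⟩
        exact hx' (hbij.1 hxx' ▸ hx)
      · intro hy
        obtain ⟨x, rfl⟩ := hbij.2 y
        refine ⟨x, ?_, rfl⟩
        by_contra hx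
        exact hy ⟨x, hx, rfl⟩
    rw [h1]
    exact (hcl _ hO.isClosed_compl).isOpen_compl
  have hoe : Topology.IsOpenEmbedding f.base :=
    Topology.IsOpenEmbedding.of_continuous_injective_isOpenMap f.continuous hbij.1 hopen
  haveI : IsOpenImmersion f :=
    { base_open := hoe
      c_iso := fun U => happ _ }
  rw [isIso_iff_isOpenImmersion_and_surjective]
  exact ⟨inferInstance, ⟨hbij.2⟩⟩

/-- a universally closed, universally injective, birational morphism of integral schemes to a
normal scheme is an isomorphism. -/
theorem isIso_of_universallyClosed_of_universallyInjective [UniversallyClosed f]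
    [UniversallyInjective f] (hY : Pi1.IsNormalScheme Y)
    (hsurj : Function.Surjective (CohIII.stalkToFunctionField f (genericPoint Y) hdom)) :
    IsIso f := by
  apply isIso_of_bijective_of_isClosedMap_of_isIso_app f ?_ f.isClosedMap ?_
  · refine ⟨f.injective, fun y => ?_⟩
    have hcl : IsClosed (Set.range f.base) := f.isClosedMap.isClosed_range
    have hgen : f.base (genericPoint X) = genericPoint Y :=
      (hdom.antisymm (genericPoint_specializes _)).eq
    have hη : genericPoint Y ∈ Set.range f.base := ⟨genericPoint X, hgen⟩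
    have h1 : closure {genericPoint Y} ⊆ Set.range f.base :=
      hcl.closure_subset_iff.mpr (Set.singleton_subset_iff.mpr hη)
    apply h1
    rw [(genericPoint_spec Y).def]
    trivial
  · intro V
    apply isIso_app' f hdom hY
    intro x _
    exact hsurj x


/-- at the generic point, a surjective residue field map gives a surjective stalk map. -/
theorem stalkMap_genericPoint_surjective_of_residueFieldMap
    (hres : Function.Surjective (f.residueFieldMap (genericPoint X)).hom) :
    Function.Surjective (f.stalkMap (genericPoint X)).hom := by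
  intro s
  obtain ⟨tbar, ht⟩ := hres ((X.residue (genericPoint X)).hom s)
  obtain ⟨t, rfl⟩ := Ideal.Quotient.mk_surjective tbar
  refine ⟨t, ?_⟩
  have h1 := Scheme.residue_residueFieldMap f (genericPoint X)
  have h2 : (f.residueFieldMap (genericPoint X)).hom ((Y.residue (f.base (genericPoint X))).hom t) =
      (X.residue (genericPoint X)).hom ((f.stalkMap (genericPoint X)).hom t) :=
    congr($(h1).hom t)
  have h3 : (X.residue (genericPoint X)).hom ((f.stalkMap (genericPoint X)).hom t) =
      (X.residue (genericPoint X)).hom s := h2.symm.trans ht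
  have h4 : (f.stalkMap (genericPoint X)).hom t - s ∈
      IsLocalRing.maximalIdeal (X.presheaf.stalk (genericPoint X)) := by
    rw [← Ideal.Quotient.eq]
    exact h3
  have hfield : IsField (X.presheaf.stalk (genericPoint X)) :=
    Field.toIsField X.functionField
  rw [IsLocalRing.isField_iff_maximalIdeal_eq.mp hfield] at h4
  exact sub_eq_zero.mp h4

/-- surjectivity of `K(Y) → K(X)` from surjectivity of the stalk map at the generic point. -/
theorem stalkToFunctionField_surjective_of_stalkMap
    (hs : Function.Surjective (f.stalkMap (genericPoint X)).hom) :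
    Function.Surjective (CohIII.stalkToFunctionField f (genericPoint Y) hdom) := by
  have hdom' : genericPoint Y ⤳ f.base (genericPoint X) := genericPoint_specializes _
  have h2 : Function.Surjective (Y.presheaf.stalkSpecializes hdom).hom := by
    intro b
    refine ⟨(Y.presheaf.stalkSpecializes hdom').hom b, ?_⟩
    have h3 : Y.presheaf.stalkSpecializes hdom' ≫ Y.presheaf.stalkSpecializes hdom =
        𝟙 _ := by
      rw [TopCat.Presheaf.stalkSpecializes_comp, TopCat.Presheaf.stalkSpecializes_refl]
    exact congr($(h3).hom b)
  exact hs.comp h2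

end Groth.Agent.H1.PushO
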