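import Mathlib
import Groth.Prelude.Def_Pi1
import Groth.Prelude.Def_ega3
import Groth.Agent.Lib.Helper1.PushO5
import Groth.Agent.Lib.Helper1.Purity
import Groth.Agent.Lib.Helper5.GF.GF4

/-! Zariski's main theorem for proper birational morphisms to normal schemes: the isomorphism
locus, isolated points of fibres, and codimension of the complement. -/

universe u
set_option linter.style.haveILetI false
open CategoryTheory AlgebraicGeometry TopologicalSpace Opposite

namespace Groth.Agent.H1.PushO

variable {X Y : Scheme.{u}} [IsIntegral X] [IsIntegral Y] (f : X ⟶ Y)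
  (hdom : f.base (genericPoint X) ⤳ genericPoint Y)

/-- version of `exists_isIso_morphismRestrict_of_quasiFiniteAt` with birationality expressed on
function fields. -/
theorem exists_isIso_morphismRestrict_of_quasiFiniteAt' [IsProper f]
    (hsurj : Function.Surjective (CohIII.stalkToFunctionField f (genericPoint Y) hdom))
    (x : X) (hn : IsIntegrallyClosed (Y.presheaf.stalk (f.base x))) (hq : f.QuasiFiniteAt x) :
    ∃ V : Y.Opens, f.base x ∈ V ∧ IsIso (f ∣_ V) := by
  have hfib : f.base ⁻¹' {f.base x} = {x} := by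
    ext z
    simp only [Set.mem_preimage, Set.mem_singleton_iff]
    constructor
    · intro hz
      exact fibre_eq_singleton_of_quasiFiniteAt f hdom hsurj x hn hq z hz
    · rintro rfl; rfl
  obtain ⟨V, hxV, hV⟩ := exists_isFinite_morphismRestrict_of_finite_preimage_singleton f
    (f.base x) (by rw [hfib]; exact Set.finite_singleton x)
  exact exists_isIso_morphismRestrict_of_isFinite f hdom hsurj (f.base x) hn V hxV hV

/-- an isolated point of a fibre is a point where the morphism is quasi-finite. -/
theorem quasiFiniteAt_fiberι_of_isOpen_singleton {X Y : Scheme.{u}} (f : X ⟶ Y)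
    [LocallyOfFiniteType f] (y : Y) (x : f.fiber y) (hx : IsOpen ({x} : Set (f.fiber y))) :
    f.QuasiFiniteAt ((f.fiberι y).base x) := by
  set x₀ := (f.fiberι y).base x with hx₀
  have hmem : x₀ ∈ f.base ⁻¹' {y} := (f.fiberHomeo y x).2
  have h1 : IsOpen ({⟨x₀, hmem⟩} : Set (f.base ⁻¹' {y})) := by
    have h2 := (f.fiberHomeo y).isOpen_image.mpr hx
    rw [Set.image_singleton] at h2
    convert h2 using 2
    exact Subtype.ext (f.fiberHomeo_apply y x).symm
  have key : ∀ (y' : Y) (h : x₀ ∈ f.base ⁻¹' {y'}),
      IsOpen ({⟨x₀, h⟩} : Set (f.base ⁻¹' {y'})) → f.QuasiFiniteAt x₀ := by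
    intro y' h hopen
    have h' : f.base x₀ = y' := h
    subst h'
    rw [Scheme.Hom.quasiFiniteAt_iff_isOpen_singleton_asFiber]
    rw [← (f.fiberHomeo (f.base x₀)).isOpen_image]
    simp only [Set.image_singleton, Scheme.Hom.asFiber, Homeomorph.apply_symm_apply]
    exact hopen
  exact key y hmem h1

/-- a local ring dominating a valuation ring with the same fraction field is equal to it. -/
theorem stalkMap_surjective_of_valuationRing
    (hsurj : Function.Surjective (CohIII.stalkToFunctionField f (genericPoint Y) hdom))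
    (x : X) [ValuationRing (Y.presheaf.stalk (f.base x))] :
    Function.Surjective (f.stalkMap x).hom := by
  intro s
  set φ := CohIII.stalkToFunctionField f (genericPoint Y) hdom with hφ
  obtain ⟨t, ht⟩ := hsurj (algebraMap (X.presheaf.stalk x) X.functionField s)
  have hcompat := Purity.algebraMap_stalkMap f hdom x
  have hinjS := IsFractionRing.injective (X.presheaf.stalk x) X.functionField
  by_cases ht0 : t = 0
  · refine ⟨0, ?_⟩
    apply hinjS
    rw [map_zero, map_zero, ← ht, ht0, map_zero]
  rcases ValuationRing.isInteger_or_isInteger (Y.presheaf.stalk (f.base x)) t with ⟨r, hr⟩ | ⟨r, hr⟩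
  · refine ⟨r, ?_⟩
    apply hinjS
    rw [hcompat, hr, ht]
  · have h2 : s * (f.stalkMap x).hom r = 1 := by
      apply hinjS
      rw [map_mul, hcompat, hr, ← ht, ← map_mul, mul_inv_cancel₀ ht0, map_one, map_one]
    have hu : IsUnit ((f.stalkMap x).hom r) := IsUnit.of_mul_eq_one_right _ h2
    have hru : IsUnit r := IsLocalHom.map_nonunit r hu
    obtain ⟨u, rfl⟩ := hru
    refine ⟨((u⁻¹ : (Y.presheaf.stalk (f.base x))ˣ) : Y.presheaf.stalk (f.base x)), ?_⟩
    have h3 : (f.stalkMap x).hom (u : Y.presheaf.stalk (f.base x)) *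
        (f.stalkMap x).hom ((u⁻¹ : (Y.presheaf.stalk (f.base x))ˣ) : Y.presheaf.stalk (f.base x)) =
        1 := by
      rw [← map_mul, Units.mul_inv, map_one]
    calc (f.stalkMap x).hom ((u⁻¹ : (Y.presheaf.stalk (f.base x))ˣ) : Y.presheaf.stalk (f.base x))
        = (s * (f.stalkMap x).hom (u : Y.presheaf.stalk (f.base x))) *
          (f.stalkMap x).hom ((u⁻¹ : (Y.presheaf.stalk (f.base x))ˣ) :
            Y.presheaf.stalk (f.base x)) := by rw [h2, one_mul]
      _ = s := by rw [mul_assoc, h3, mul_one]


theorem withBot_le_one_of_not_two_le (d : WithBot ℕ∞) (h : ¬ (2 ≤ d)) : d ≤ 1 := by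
  have h1 : d < 2 := not_le.mp h
  induction d using WithBot.recBotCoe with
  | bot => exact bot_le
  | coe n =>
    have h2 : n < 2 := by
      have : ((n : ℕ∞) : WithBot ℕ∞) < ((2 : ℕ∞) : WithBot ℕ∞) := h1
      exact WithBot.coe_lt_coe.mp this
    have h3 : n ≤ 1 := by
      have h4 : n < 1 + 1 := by rwa [one_add_one_eq_two]
      exact Order.le_of_lt_add_one h4
    have : ((n : ℕ∞) : WithBot ℕ∞) ≤ ((1 : ℕ∞) : WithBot ℕ∞) := WithBot.coe_le_coe.mpr h3
    exact this

/-- an integrally closed Noetherian local domain of dimension at most one is a valuation ring. -/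
theorem valuationRing_of_ringKrullDim_le_one (R : Type*) [CommRing R] [IsDomain R]
    [IsNoetherianRing R] [IsLocalRing R] [IsIntegrallyClosed R] (h : ringKrullDim R ≤ 1) :
    ValuationRing R := by
  haveI : Ring.KrullDimLE 1 R := Ring.krullDimLE_iff.mpr h
  have h1 : IsIntegrallyClosed R ∧
      ∀ P : Ideal R, P ≠ ⊥ → P.IsPrime → P = IsLocalRing.maximalIdeal R := by
    refine ⟨inferInstance, fun P hP hPp => ?_⟩
    exact IsLocalRing.eq_maximalIdeal (hPp.isMaximal_of_ne_bot hP)
  exact ((tfae_of_isNoetherianRing_of_isLocalRing_of_isDomain R).out 3 1).mp h1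

/-- **Zariski's main theorem** for a proper birational morphism to a normal locally Noetherian
scheme: the isomorphism locus `V`, no isolated points in fibres outside `V`, and the complement of
`V` has codimension at least two. -/
theorem exists_isIso_locus [IsProper f] [IsLocallyNoetherian Y] (hY : Pi1.IsNormalScheme Y)
    (hsurj : Function.Surjective (CohIII.stalkToFunctionField f (genericPoint Y) hdom)) :
    ∃ V : Y.Opens, IsIso (f ∣_ V) ∧
      (∀ y : Y, y ∉ (V : Set Y) → ∀ x : ↥(f.fiber y), ¬ IsOpen ({x} : Set ↥(f.fiber y))) ∧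
      (∀ y : Y, y ∉ (V : Set Y) → 2 ≤ ringKrullDim (Y.presheaf.stalk y)) := by
  let ι := {V' : Y.Opens // IsIso (f ∣_ V')}
  set V : Y.Opens := ⨆ i : ι, i.1 with hVdef
  have hViso : IsIso (f ∣_ V) :=
    Groth.Agent.H5.GF.morphismRestrict_iSup_of_forall (P := MorphismProperty.isomorphisms Scheme)
      f (fun i : ι => i.1) (fun i => i.2)
  -- quasi-finite points map into `V`
  have key : ∀ x : X, f.QuasiFiniteAt x → f.base x ∈ V := by
    intro x hq
    obtain ⟨V', hxV', hV'⟩ := exists_isIso_morphismRestrict_of_quasiFiniteAt' f hdom hsurj x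
      (hY _).2 hq
    exact (le_iSup (fun i : ι => i.1) ⟨V', hV'⟩) hxV'
  refine ⟨V, hViso, ?_, ?_⟩
  · intro y hy x hx
    apply hy
    have h1 := quasiFiniteAt_fiberι_of_isOpen_singleton f y x hx
    have h2 : f.base ((f.fiberι y).base x) = y := (f.fiberHomeo y x).2
    rw [← h2]
    exact key _ h1
  · intro y hy
    by_contra hdim
    apply hy
    have hle : ringKrullDim (Y.presheaf.stalk y) ≤ 1 := withBot_le_one_of_not_two_le _ hdim
    -- a point over `y`
    have hcl : IsClosed (Set.range f.base) := f.isClosedMap.isClosed_range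
    have hgen : f.base (genericPoint X) = genericPoint Y :=
      (hdom.antisymm (genericPoint_specializes _)).eq
    have hη : genericPoint Y ∈ Set.range f.base := ⟨genericPoint X, hgen⟩
    have h1 : closure {genericPoint Y} ⊆ Set.range f.base :=
      hcl.closure_subset_iff.mpr (Set.singleton_subset_iff.mpr hη)
    obtain ⟨x, rfl⟩ : y ∈ Set.range f.base := by
      apply h1
      rw [(genericPoint_spec Y).def]
      trivial
    haveI := (hY (f.base x)).2
    haveI : ValuationRing (Y.presheaf.stalk (f.base x)) :=
      valuationRing_of_ringKrullDim_le_one _ hle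
    have hs := stalkMap_surjective_of_valuationRing f hdom hsurj x
    apply key x
    exact RingHom.QuasiFinite.of_finite (RingHom.Finite.of_surjective _ hs)

end Groth.Agent.H1.PushO
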