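import Mathlib
import Groth.Prelude.Def_Pi1
import Groth.Prelude.Def_ega3
import Groth.Agent.Lib.Helper1.PushO6
import Groth.Agent.Lib.Helper1.EquiDim

/-! Fibrations between integral proper schemes of the same dimension over a field are
birational. -/

universe u
set_option linter.style.haveILetI false
open CategoryTheory AlgebraicGeometry TopologicalSpace Opposite

namespace Groth.Agent.H1.PushO

open Groth.Agent.H9.FrobDegD

section

variable {k : Type u} [Field k] {Z : Scheme.{u}} [IsIntegral Z]
  (g : Z ⟶ Spec (CommRingCat.of k)) [LocallyOfFiniteType g]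

/-- dimension equals transcendence degree of the function field. -/
theorem exists_dim_eq_trdeg :
    letI := (toFunctionField g).toAlgebra
    ∃ s : ℕ, topologicalKrullDim Z = s ∧ Algebra.trdeg k Z.functionField = s := by
  letI algL := (toFunctionField g).toAlgebra
  obtain ⟨z⟩ := (inferInstance : Nonempty Z)
  obtain ⟨_, ⟨W, hW : IsAffineOpen W, rfl⟩, hzW, -⟩ :=
    Z.isBasis_affineOpens.exists_subset_of_mem_open (Set.mem_univ z) isOpen_univ
  haveI : Nonempty W := ⟨⟨z, hzW⟩⟩
  obtain ⟨s, h1, h2⟩ := EquiDim.exists_dim_trdeg g W hW
  refine ⟨s, ?_, h2⟩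
  rw [← h1, ← EquiDim.dim_opens_eq_dim_of_isIntegral g W ⟨z, hzW⟩]
  exact EquiDim.dim_opens_eq_of_isIntegral g W ⟨z, hzW⟩ W hW

end

variable {k : Type u} [Field k] {X Y : Scheme.{u}} [IsIntegral X] [IsIntegral Y]
  (gX : X ⟶ Spec (CommRingCat.of k)) (gY : Y ⟶ Spec (CommRingCat.of k))
  (f : X ⟶ Y) (hf : f ≫ gY = gX)
  (hdom : f.base (genericPoint X) ⤳ genericPoint Y)

include hf in
theorem stalkToFunctionField_toFunctionField (c : k) :
    CohIII.stalkToFunctionField f (genericPoint Y) hdom (toFunctionField gY c) =
      toFunctionField gX c := by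
  subst hf
  unfold toFunctionField toSections
  simp only [RingHom.comp_apply]
  have h1 := stalkToFunctionField_germ f hdom ⊤ trivial
    ((gY.appLE ⊤ ⊤ le_top).hom ((Scheme.ΓSpecIso (CommRingCat.of k)).inv.hom c))
  refine h1.trans ?_
  have h2 : (f ≫ gY).appLE ⊤ ⊤ le_top = gY.appLE ⊤ ⊤ le_top ≫ f.app ⊤ := by
    rw [Scheme.Hom.appLE, Scheme.Hom.appLE, Scheme.Hom.comp_app]
    simp
  rw [h2]
  rfl


include hf in
/-- equal dimensions force the function field extension to be algebraic. -/
theorem isAlgebraic_of_dim_eq [LocallyOfFiniteType gX] [LocallyOfFiniteType gY]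
    (hdim : topologicalKrullDim X = topologicalKrullDim Y) :
    letI := (CohIII.stalkToFunctionField f (genericPoint Y) hdom).toAlgebra
    Algebra.IsAlgebraic Y.functionField X.functionField := by
  letI algX := (toFunctionField gX).toAlgebra
  letI algY := (toFunctionField gY).toAlgebra
  letI algYX := (CohIII.stalkToFunctionField f (genericPoint Y) hdom).toAlgebra
  haveI : IsScalarTower k Y.functionField X.functionField := by
    apply IsScalarTower.of_algebraMap_eq
    intro c
    exact (stalkToFunctionField_toFunctionField gX gY f hf hdom c).symm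
  obtain ⟨sX, hX1, hX2⟩ := exists_dim_eq_trdeg gX
  obtain ⟨sY, hY1, hY2⟩ := exists_dim_eq_trdeg gY
  have hs : sX = sY := by
    have : ((sX : ℕ) : WithBot ℕ∞) = sY := by rw [← hX1, ← hY1, hdim]
    exact_mod_cast this
  have hadd := trdeg_add_eq k Y.functionField (A := X.functionField)
  rw [hX2, hY2, hs] at hadd
  have h0 : Algebra.trdeg Y.functionField X.functionField = 0 := by
    have h1 : (sY : Cardinal) + Algebra.trdeg Y.functionField X.functionField =
        (sY : Cardinal) + 0 := by rw [hadd, add_zero]
    exact Cardinal.eq_of_add_eq_add_left h1 Cardinal.natCast_lt_aleph0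
  exact trdeg_eq_zero_iff.mp h0

/-- if `K(X)` is algebraic over `K(Y)`, the generic fibre is the generic point. -/
theorem eq_genericPoint_of_isAlgebraic
    (halg : letI := (CohIII.stalkToFunctionField f (genericPoint Y) hdom).toAlgebra
      Algebra.IsAlgebraic Y.functionField X.functionField)
    (x : X) (hx : f.base x = genericPoint Y) : x = genericPoint X := by
  letI algYX := (CohIII.stalkToFunctionField f (genericPoint Y) hdom).toAlgebra
  have hsp : f.base x ⤳ genericPoint Y := by rw [hx]
  let ρ : Y.functionField →+* X.presheaf.stalk x :=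
    (f.stalkMap x).hom.comp (Y.presheaf.stalkSpecializes hsp).hom
  letI algS : Algebra Y.functionField (X.presheaf.stalk x) := ρ.toAlgebra
  haveI : IsScalarTower Y.functionField (X.presheaf.stalk x) X.functionField := by
    apply IsScalarTower.of_algebraMap_eq
    intro a
    change CohIII.stalkToFunctionField f (genericPoint Y) hdom a =
      algebraMap (X.presheaf.stalk x) X.functionField
        ((f.stalkMap x).hom ((Y.presheaf.stalkSpecializes hsp).hom a))
    rw [Purity.algebraMap_stalkMap f hdom x, Purity.algebraMap_stalkSpecializes hsp a]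
    congr 1
    change a = (Y.presheaf.stalkSpecializes _).hom a
    rw [TopCat.Presheaf.stalkSpecializes_refl]
    rfl
  haveI : Algebra.IsIntegral Y.functionField (X.presheaf.stalk x) := by
    constructor
    intro s
    have h1 : IsIntegral Y.functionField (algebraMap (X.presheaf.stalk x) X.functionField s) :=
      (halg.isAlgebraic _).isIntegral
    exact (isIntegral_algHom_iff (IsScalarTower.toAlgHom Y.functionField (X.presheaf.stalk x)
      X.functionField) (IsFractionRing.injective (X.presheaf.stalk x) X.functionField)).mp h1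
  have hfield : IsField (X.presheaf.stalk x) :=
    isField_of_isIntegral_of_isField' (Field.toIsField Y.functionField)
  have hmax : IsLocalRing.maximalIdeal (X.presheaf.stalk x) = ⊥ :=
    IsLocalRing.isField_iff_maximalIdeal_eq.mp hfield
  have hgx : genericPoint X ⤳ x := genericPoint_specializes x
  have h2 : StalkGen.primeOf hgx = IsLocalRing.closedPoint (X.presheaf.stalk x) := by
    apply PrimeSpectrum.ext
    change (StalkGen.primeOf hgx).asIdeal = IsLocalRing.maximalIdeal _
    rw [hmax]
    letI := hfield.toField
    rcases Ideal.eq_bot_or_top (StalkGen.primeOf hgx).asIdeal with h | h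
    · exact h
    · exact absurd h (StalkGen.primeOf hgx).isPrime.ne_top
  have h3 := StalkGen.fromSpecStalk_primeOf hgx
  rw [h2, Scheme.fromSpecStalk_closedPoint] at h3
  exact h3


include hf in
/-- a fibration between integral proper schemes of the same dimension over a field is
birational. -/
theorem stalkToFunctionField_surjective_of_fibration [IsProper gX] [IsProper gY]
    (hfib : ∀ U : Y.Opens, IsIso (f.app U))
    (hdim : topologicalKrullDim X = topologicalKrullDim Y) :
    Function.Surjective (CohIII.stalkToFunctionField f (genericPoint Y) hdom) := by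
  haveI : IsProper (f ≫ gY) := by rw [hf]; infer_instance
  haveI : IsProper f := IsProper.of_comp f gY
  have halg := isAlgebraic_of_dim_eq gX gY f hf hdom hdim
  have hgen : f.base (genericPoint X) = genericPoint Y :=
    (hdom.antisymm (genericPoint_specializes _)).eq
  have hfib' : f.base ⁻¹' {genericPoint Y} = {genericPoint X} := by
    ext z
    simp only [Set.mem_preimage, Set.mem_singleton_iff]
    constructor
    · intro hz
      exact eq_genericPoint_of_isAlgebraic f hdom halg z hz
    · rintro rfl; exact hgen
  obtain ⟨V, hηV, hV⟩ := exists_isFinite_morphismRestrict_of_finite_preimage_singleton f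
    (genericPoint Y) (by rw [hfib']; exact Set.finite_singleton _)
  obtain ⟨_, ⟨V', hV' : IsAffineOpen V', rfl⟩, hηV', hV'V⟩ :=
    Y.isBasis_affineOpens.exists_subset_of_mem_open hηV V.isOpen
  have hle : V' ≤ V := hV'V
  have hfin : IsFinite (f ∣_ V') := morphismRestrict_of_le (P := @IsFinite) f hle hV
  haveI : IsAffine V' := hV'
  rw [HasAffineProperty.iff_of_isAffine (P := @IsFinite)] at hfin
  have hfV' : IsAffineOpen (f ⁻¹ᵁ V') := hfin.1
  have hiso : IsIso (f ∣_ V') := isIso_morphismRestrict_of_isIso_app f hV' hfV' (hfib V')
  obtain ⟨-, hbir⟩ := birational_of_isIso_morphismRestrict f V' ⟨genericPoint Y, hηV'⟩ hiso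
  exact stalkToFunctionField_surjective_of_isIso f hdom hbir

end Groth.Agent.H1.PushO
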