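import Mathlib
import Groth.Agent.Lib.Helper1.CMQF
import Groth.Agent.Lib.Helper1.ValDim

set_option autoImplicit false
universe u

namespace Groth.Agent.H1.QFAff

open CategoryTheory AlgebraicGeometry CategoryTheory.Limits

theorem main {X S : Scheme.{u}} (f : X ⟶ S) [LocallyOfFiniteType f] (x : ↥X)
    (V : S.Opens) (hxV : f x ∈ V) (d : ℕ) (hd : FlatMor.fibreDimAt f x = d) :
    ∃ (U : X.Opens), IsAffineOpen U ∧ x ∈ U ∧
      ∃ (g : (U : Scheme.{u}) ⟶ (V : Scheme.{u}))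
        (π : (U : Scheme.{u}) ⟶ 𝔸(ULift.{u} (Fin d); (V : Scheme.{u}))),
        g ≫ V.ι = U.ι ≫ f ∧
          π ≫ (𝔸(ULift.{u} (Fin d); (V : Scheme.{u})) ↘ (V : Scheme.{u})) = g ∧
          LocallyQuasiFinite π ∧ LocallyOfFiniteType π := by
  let x' : (f ⁻¹ᵁ V : X.Opens) := ⟨x, hxV⟩
  have hfd : FlatMor.fibreDimAt (f ∣_ V) x' ≤ d := by
    rw [Groth.Agent.H1.ValDim.fibreDimAt_morphismRestrict f V x', hd]
  obtain ⟨D, g₀, hxD, hg₀, hqf⟩ :=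
    Groth.Agent.H1.CMQF.exists_locallyQuasiFinite_toAffineSpace (f ∣_ V) x' d hfd
  -- the open immersion D → X
  let ι₀ : (D : Scheme.{u}) ⟶ X := D.ι ≫ (f ⁻¹ᵁ V).ι
  have hxr : x ∈ Set.range ι₀.base := ⟨⟨x', hxD⟩, rfl⟩
  obtain ⟨U, hU, hxU, hUD⟩ : ∃ U : X.Opens, IsAffineOpen U ∧ x ∈ U ∧
      (U : Set X) ⊆ Set.range ι₀.base := by
    obtain ⟨_, ⟨U, hU : IsAffineOpen U, rfl⟩, hxU, hUD⟩ :=
      X.isBasis_affineOpens.exists_subset_of_mem_open hxr ι₀.isOpenEmbedding.isOpen_range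
    exact ⟨U, hU, hxU, hUD⟩
  have hrange : Set.range U.ι.base ⊆ Set.range ι₀.base := by
    rw [Scheme.Opens.range_ι]; exact hUD
  let j : (U : Scheme.{u}) ⟶ (D : Scheme.{u}) := IsOpenImmersion.lift ι₀ U.ι hrange
  have hj : j ≫ ι₀ = U.ι := IsOpenImmersion.lift_fac _ _ _
  haveI : IsOpenImmersion (j ≫ ι₀) := by rw [hj]; infer_instance
  haveI : IsOpenImmersion j := IsOpenImmersion.of_comp j ι₀
  refine ⟨U, hU, hxU, j ≫ D.ι ≫ (f ∣_ V), j ≫ g₀, ?_, ?_, ?_, ?_⟩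
  · rw [Category.assoc, Category.assoc, morphismRestrict_ι, ← Category.assoc D.ι,
      ← Category.assoc j]
    show (j ≫ ι₀) ≫ f = _
    rw [hj]
  · rw [Category.assoc, hg₀]
  · infer_instance
  · haveI : LocallyOfFiniteType ((j ≫ g₀) ≫
        (𝔸(ULift.{u} (Fin d); (V : Scheme.{u})) ↘ (V : Scheme.{u}))) := by
      rw [Category.assoc, hg₀]
      infer_instance
    exact locallyOfFiniteType_of_comp (j ≫ g₀)
      (𝔸(ULift.{u} (Fin d); (V : Scheme.{u})) ↘ (V : Scheme.{u}))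

end Groth.Agent.H1.QFAff
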