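import Mathlib
import Groth.Agent.Lib.Helper1.QFRefine

set_option autoImplicit false
set_option linter.style.haveILetI false
open CategoryTheory AlgebraicGeometry CategoryTheory.Limits
universe w u

namespace Groth.Agent.H1.QFRefine

/-- flat, lfp and locally quasi-finite -/
abbrev PQ : MorphismProperty Scheme.{u} :=
  (@Flat ⊓ @LocallyOfFinitePresentation) ⊓ @LocallyQuasiFinite

theorem pq_le_isOpenMap : (PQ.{u}) ≤ fun _ _ f ↦ IsOpenMap f.base := by
  intro X Y f hf
  haveI : Flat f := hf.1.1
  haveI : LocallyOfFinitePresentation f := hf.1.2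
  exact f.isOpenMap

set_option backward.isDefEq.respectTransparency false in
theorem fppfTopology_eq : Scheme.fppfTopology.{u} = Scheme.propQCTopology PQ.{u} := by
  apply le_antisymm
  · rw [Precoverage.toGrothendieck_le_iff_le_toPrecoverage]
    apply Precoverage.le_of_zeroHypercover
    intro S E
    rw [GrothendieckTopology.mem_toPrecoverage_iff]
    have hE : E.presieve₀ ∈ Scheme.precoverage (@Flat ⊓ @LocallyOfFinitePresentation) S := E.mem₀
    rw [PreZeroHypercover.presieve₀, Scheme.ofArrows_mem_precoverage_iff] at hE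
    obtain ⟨hsurj, hprop⟩ := hE
    have hex : ∀ s : S, ∃ (i : E.I₀) (Z : Scheme.{u}) (k : Z ⟶ E.X i),
        s ∈ Set.range (k ≫ E.f i).base ∧ PQ (k ≫ E.f i) := by
      intro s
      obtain ⟨i, hi⟩ := hsurj s
      haveI : Flat (E.f i) := (hprop i).1
      haveI : LocallyOfFinitePresentation (E.f i) := (hprop i).2
      obtain ⟨x, hxs, hcm, hcl⟩ := exists_cm_closed_point (E.f i) s hi
      obtain ⟨Z, hZ, k, ⟨w, hw⟩, h1, h2, h3⟩ := exists_affine_flat_lqf (E.f i) x hcm hcl
      refine ⟨i, Z, k, ⟨w, ?_⟩, ⟨h1, h2⟩, h3⟩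
      rw [Scheme.Hom.comp_apply, hw, hxs]
    choose i Z k hk hP using hex
    have hmem : Presieve.ofArrows Z (fun s => k s ≫ E.f (i s)) ∈
        Scheme.propQCPrecoverage PQ.{u} S := by
      have h1 : Presieve.ofArrows Z (fun s => k s ≫ E.f (i s)) ∈ Scheme.precoverage PQ.{u} S := by
        rw [Scheme.ofArrows_mem_precoverage_iff]
        exact ⟨fun s => ⟨s, hk s⟩, hP⟩
      exact ⟨Scheme.precoverage_le_qcPrecoverage_of_isOpenMap pq_le_isOpenMap _ h1, h1⟩
    have hgen := Precoverage.generate_mem_toGrothendieck hmem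
    refine GrothendieckTopology.superset_covering _ ?_ hgen
    rw [Sieve.generate_le_iff]
    rintro Y g ⟨s⟩
    exact ⟨E.X (i s), k s, E.f (i s), ⟨i s⟩, rfl⟩
  · apply Precoverage.toGrothendieck_mono
    exact inf_le_right.trans (Scheme.precoverage_mono (fun _ _ f hf => hf.1))



instance : MorphismProperty.IsMultiplicative (@LocallyOfFinitePresentation : MorphismProperty Scheme.{u}) where
  id_mem _ := inferInstance
  comp_mem _ _ hf hg := by
    haveI := hf
    haveI := hg
    infer_instance

set_option backward.isDefEq.respectTransparency false in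
theorem s5238 (F : Scheme.{u}ᵒᵖ ⥤ Type w) :
    Presheaf.IsSheaf Scheme.fppfTopology F ↔
      Presheaf.IsSheaf Scheme.zariskiTopology F ∧
        ∀ (T S : Scheme.{u}) [IsAffine T] [IsAffine S] (f : T ⟶ S)
          [Flat f] [Surjective f] [LocallyOfFinitePresentation f] [LocallyQuasiFinite f],
          Presieve.IsSheafFor F (Presieve.singleton f) := by
  constructor
  · intro hF
    rw [isSheaf_iff_isSheaf_of_type] at hF
    refine ⟨?_, ?_⟩
    · rw [isSheaf_iff_isSheaf_of_type]
      exact Presieve.isSheaf_of_le _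
        (Precoverage.toGrothendieck_mono Scheme.zariskiPrecoverage_le_fppfPrecoverage) hF
    intro T S _ _ f _ _ _ _
    rw [Presieve.isSheafFor_iff_generate]
    apply hF.isSheafFor
    have hmem : Presieve.singleton f ∈ Scheme.fppfPrecoverage S := by
      show Presieve.singleton f ∈ Scheme.precoverage (@Flat ⊓ @LocallyOfFinitePresentation) S
      rw [Scheme.singleton_mem_precoverage_iff]
      exact ⟨f.surjective, inferInstance, inferInstance⟩
    have h2 := Precoverage.generate_mem_toGrothendieck hmem
    rw [Sieve.generate_sieve]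
    exact h2
  · rintro ⟨hzar, hsing⟩
    rw [isSheaf_iff_isSheaf_of_type] at hzar ⊢
    rw [fppfTopology_eq, isSheaf_type_propQCTopology_iff]
    refine ⟨hzar, ?_⟩
    intro R S f hf hs
    haveI : Flat (Spec.map f) := hf.1.1
    haveI : LocallyOfFinitePresentation (Spec.map f) := hf.1.2
    haveI : LocallyQuasiFinite (Spec.map f) := hf.2
    exact hsing _ _ (Spec.map f)

end Groth.Agent.H1.QFRefine
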