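import Mathlib
import Groth.Prelude.Def_EGA43
import Groth.Agent.Lib.Helper1.QSecB
import Groth.Agent.Lib.Helper1.ChevEqB

/-!
# EGA IV 14.5.x: universal openness along a geometrically unibranch fibre and quasi-sections
(helper1)
-/

set_option autoImplicit false
set_option linter.style.haveILetI false
universe u

namespace Groth.Agent.H1.QSec

open AlgebraicGeometry CategoryTheory CategoryTheory.Limits TopologicalSpace Topology
open Groth.Agent.H1.DimFormula Groth.Agent.H1.UO14 Groth.Agent.H1.HypSec Groth.Agent.H3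

variable {X Y : Scheme.{u}}

/-- every neighbourhood of a point contains a point of the same fibre which is closed in it. -/
theorem exists_closed_point_fibre_of_mem_nhds (f : X ⟶ Y) [LocallyOfFiniteType f] (z : X)
    (U : Set X) (hU : U ∈ nhds z) :
    ∃ x' : X, x' ∈ interior U ∧ f.base x' = f.base z ∧
      ∀ x'' : X, f.base x'' = f.base z → x' ⤳ x'' → x'' = x' := by
  have hemb : IsEmbedding (f.fiberι (f.base z)) := (f.fiberι (f.base z)).isEmbedding
  have hfib : ∀ c : ↥(f.fiber (f.base z)), f.base ((f.fiberι (f.base z)) c) = f.base z := by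
    intro c
    have : (f.fiberι (f.base z)) c ∈ Set.range (f.fiberι (f.base z)) := ⟨c, rfl⟩
    rw [Scheme.Hom.range_fiberι] at this
    exact this
  haveI : JacobsonSpace ↥(f.fiber (f.base z)) :=
    LocallyOfFiniteType.jacobsonSpace (f.fiberToSpecResidueField (f.base z))
  have hdense : Dense (closedPoints ↥(f.fiber (f.base z))) :=
    dense_iff_closure_eq.mpr closure_closedPoints
  have hO : IsOpen ((f.fiberι (f.base z)) ⁻¹' interior U) :=
    isOpen_interior.preimage (f.fiberι (f.base z)).continuous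
  have hne : ((f.fiberι (f.base z)) ⁻¹' interior U).Nonempty := by
    refine ⟨f.asFiber z, ?_⟩
    rw [Set.mem_preimage, f.fiberι_asFiber]
    exact mem_interior_iff_mem_nhds.mpr hU
  obtain ⟨c, hcO, hcc⟩ := hdense.inter_open_nonempty _ hO hne
  have hcc' : IsClosed ({c} : Set ↥(f.fiber (f.base z))) := mem_closedPoints_iff.mp hcc
  refine ⟨(f.fiberι (f.base z)) c, hcO, hfib c, ?_⟩
  intro x'' hx'' hsp
  have hx''r : x'' ∈ Set.range (f.fiberι (f.base z)) := by
    rw [Scheme.Hom.range_fiberι]; exact hx''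
  obtain ⟨c'', rfl⟩ := hx''r
  have h1 : c ⤳ c'' := hemb.isInducing.specializes_iff.mp hsp
  have h2 : c'' ∈ closure ({c} : Set ↥(f.fiber (f.base z))) := specializes_iff_mem_closure.mp h1
  rw [hcc'.closure_eq, Set.mem_singleton_iff] at h2
  rw [h2]

/-- a quasi-section through a point over a geometrically unibranch point makes the morphism
universally open there. -/
theorem isUnivOpenAt_of_hasQuasiSection [IrreducibleSpace Y] [IsLocallyNoetherian Y] (f : X ⟶ Y)
    (x : X) (hGU : CAlg2.IsGeomUnibranch (Y.presheaf.stalk (f.base x)))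
    (h : HasQuasiSection f x) : EGA43.IsUnivOpenAt f x := by
  obtain ⟨T, i, hi, hirr, hred, ⟨t, ht⟩, h1, h2, h3, h4⟩ := h
  haveI := hi
  haveI := hirr
  haveI := h1
  haveI := h2
  haveI := h4
  have hca : ∀ t' : T, (i ≫ f) t' = f.base (i.base t') := fun t' => Scheme.Hom.comp_apply i f t'
  have hGU' : CAlg2.IsGeomUnibranch (Y.presheaf.stalk ((i ≫ f).base t)) := by
    refine (Groth.Agent.H1.ChevSch.isGeomUnibranch_stalk_congr ?_).mpr hGU
    show (i ≫ f) t = f.base x
    rw [hca, ht]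
  have H : ∀ ξ : T, (∀ z : T, z ⤳ ξ → z = ξ) → ξ ⤳ t →
      ∀ w : Y, w ⤳ (i ≫ f).base ξ → w = (i ≫ f).base ξ := by
    intro ξ hξ _ w hw
    have hξg : genericPoint T = ξ := hξ _ (genericPoint_specializes ξ)
    have hcl : closure ({(i ≫ f).base ξ} : Set Y) = Set.univ := by
      rw [← Groth.Agent.H1.EquidimQF.closure_image_closure_singleton (i ≫ f).base
        (i ≫ f).continuous ξ, ← hξg, genericPoint_closure, Set.image_univ]
      exact h4.denseRange.closure_range
    have hcomp : closure ({(i ≫ f).base ξ} : Set Y) ∈ irreducibleComponents (Y : Type u) := by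
      rw [hcl, irreducibleComponents_eq_singleton]; rfl
    exact Groth.Agent.H1.EquidimLoc.eq_of_specializes_of_closure_mem_irreducibleComponents _
      hcomp w hw
  have h5 := Groth.Agent.H1.ChevSch.isUnivOpenAt_of_quasiFinite (i ≫ f) t hGU' H
  have h6 := isUnivOpenAt_of_comp i f t h5
  rwa [ht] at h6

/-- (d ⇒ b) -/
theorem isOpenAt_of_forall_closed_hasQuasiSection [IrreducibleSpace Y] [IsLocallyNoetherian Y]
    (f : X ⟶ Y) [LocallyOfFiniteType f] (y : Y)
    (hy : CAlg2.IsGeomUnibranch (Y.presheaf.stalk y))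
    (hd : ∀ x : X, f.base x = y → (∀ x' : X, f.base x' = y → x ⤳ x' → x' = x) →
      HasQuasiSection f x) (z : X) (hz : f.base z = y) : EGA43.IsOpenAt f.base z := by
  intro U hU
  obtain ⟨x', hx'U, hfx', hx'cl⟩ := exists_closed_point_fibre_of_mem_nhds f z U hU
  have hx'y : f.base x' = y := hfx'.trans hz
  have hqs := hd x' hx'y (fun x'' h1 h2 => hx'cl x'' (h1.trans hz.symm) h2)
  have hGU : CAlg2.IsGeomUnibranch (Y.presheaf.stalk (f.base x')) :=
    (Groth.Agent.H1.ChevSch.isGeomUnibranch_stalk_congr hx'y).mpr hy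
  have h1 := Groth.Agent.H1.ChevEq.isOpenAt_of_isUnivOpenAt f x'
    (isUnivOpenAt_of_hasQuasiSection f x' hGU hqs)
  have h2 := h1 (interior U) (isOpen_interior.mem_nhds hx'U)
  rw [hfx'] at h2
  exact Filter.mem_of_superset h2 (Set.image_mono interior_subset)

/-- from the component condition at a maximal point `z` of the fibre: a maximal point `ζ` of
`X` above the generic point of `Y₀`, specializing to `z`, with the same local fibre dimension. -/
theorem exists_maxPt_of_component (f : X ⟶ Y) [LocallyOfFiniteType f] (z : X)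
    (hmax : ∀ z' : X, f z' = f z → z' ⤳ z → z' = z)
    (Y₀ : Set Y) (hY₀ : Y₀ ∈ irreducibleComponents (Y : Type u))
    (hb : ∃ Z ∈ irreducibleComponents (X : Type u), ∃ hz : z ∈ Z, closure (f.base '' Z) = Y₀ ∧
      ∀ η : Y, closure ({η} : Set Y) = Y₀ →
        FlatMor.localDim ↥(Z ∩ f.base ⁻¹' {f.base z}) ⟨z, ⟨hz, rfl⟩⟩ =
          topologicalKrullDim ↥(Z ∩ f.base ⁻¹' {η})) :
    ∃ ζ : X, (∀ w : X, w ⤳ ζ → w = ζ) ∧ ζ ⤳ z ∧ closure ({f.base ζ} : Set Y) = Y₀ ∧
      FlatMor.fibreDimAt f z = FlatMor.fibreDimAt f ζ := by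
  obtain ⟨Z, hZ, hzZ, hcl, hdimeq⟩ := hb
  obtain ⟨ζ, hζ⟩ := QuasiSober.sober hZ.1 (isClosed_of_mem_irreducibleComponents Z hZ)
  have hζd : closure ({ζ} : Set X) = Z := hζ.def
  subst hζd
  have hζmax : ∀ w : X, w ⤳ ζ → w = ζ :=
    Groth.Agent.H1.EquidimLoc.eq_of_specializes_of_closure_mem_irreducibleComponents ζ hZ
  obtain ⟨η, hη⟩ := QuasiSober.sober hY₀.1 (isClosed_of_mem_irreducibleComponents _ hY₀)
  have hfζgen : closure ({f.base ζ} : Set Y) = Y₀ :=
    (Groth.Agent.H1.EquidimQF.closure_image_closure_singleton f.base f.continuous ζ).symm.trans hcl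
  have hfζ : f.base ζ = η :=
    IsGenericPoint.eq (show IsGenericPoint (f.base ζ) Y₀ from hfζgen) hη
  have h1 := hdimeq η hη.def
  have h2 := localDim_inter_fibre_of_isMaxPt f z (f.base z) rfl hmax (closure {ζ})
    isClosed_closure hzZ
  have h3 : topologicalKrullDim ↥(closure ({ζ} : Set X) ∩ f.base ⁻¹' {η}) =
      FlatMor.fibreDimAt f ζ :=
    Groth.Agent.H1.GenComp.dim_closure_inter_fibre f ζ hζmax η hfζ
  exact ⟨ζ, hζmax, specializes_iff_mem_closure.mpr hzZ, hfζgen, h2.symm.trans (h1.trans h3)⟩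

/-- the reduced closed subscheme on the closure of a maximal point `ζ` of `X`, at a
specialization `x` of `ζ` with `dim_x ≤ dim_ζ`: the "generic" equidimensionality data. -/
theorem exists_generic_data_of_maxPt [IsLocallyNoetherian Y] (f : X ⟶ Y)
    [LocallyOfFiniteType f] (x ζ : X) (hζ : ∀ z : X, z ⤳ ζ → z = ζ) (hζx : ζ ⤳ x)
    (hcomp : closure ({f.base ζ} : Set Y) ∈ irreducibleComponents (Y : Type u))
    (hdim : FlatMor.fibreDimAt f x ≤ FlatMor.fibreDimAt f ζ) :
    ∃ (T : Scheme.{u}) (i : T ⟶ X), IsClosedImmersion i ∧ ∃ xT : T, i.base xT = x ∧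
      ∃ (e : ℕ) (U' : T.Opens), xT ∈ U' ∧
        (∀ t ∈ U', FlatMor.fibreDimAt (i ≫ f) t = ((e : ℕ) : WithBot ℕ∞)) ∧
        ∀ ξ ∈ U', (∀ z : T, z ⤳ ξ → z = ξ) →
          closure ({(i ≫ f).base ξ} : Set Y) ∈ irreducibleComponents (Y : Type u) := by
  obtain ⟨T, i, hi, hr⟩ : ∃ (T : Scheme.{u}) (i : T ⟶ X), IsClosedImmersion i ∧
      Set.range i.base = closure ({ζ} : Set X) := by
    refine ⟨_, (Scheme.IdealSheafData.vanishingIdeal
      (⟨closure {ζ}, isClosed_closure⟩ : Closeds X)).subschemeι, inferInstance, ?_⟩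
    exact (Scheme.IdealSheafData.range_subschemeι _).trans
      (Scheme.IdealSheafData.coe_support_vanishingIdeal _)
  haveI := hi
  have hemb : IsEmbedding i.base := i.isEmbedding
  have hcl : IsClosed (Set.range i.base) := by rw [hr]; exact isClosed_closure
  obtain ⟨xT, rfl⟩ : x ∈ Set.range i.base := by
    rw [hr]; exact specializes_iff_mem_closure.mp hζx
  obtain ⟨ζT, hζT⟩ : ζ ∈ Set.range i.base := by rw [hr]; exact subset_closure rfl
  have hcomp_apply : ∀ t : T, (i ≫ f) t = f.base (i.base t) := fun t =>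
    Scheme.Hom.comp_apply i f t
  have hspec : ∀ t : T, ζT ⤳ t := by
    intro t
    refine hemb.isInducing.specializes_iff.mp ?_
    show i.base ζT ⤳ i.base t
    rw [hζT, specializes_iff_mem_closure, ← hr]
    exact ⟨t, rfl⟩
  have hζ' : ∀ z' : X, f z' = f (i.base ζT) → z' ⤳ i.base ζT → z' = i.base ζT := by
    intro z' _ hz'
    rw [hζT] at hz' ⊢
    exact hζ z' hz'
  have e1 : FlatMor.fibreDimAt (i ≫ f) ζT = FlatMor.fibreDimAt f ζ :=
    (fibreDimAt_comp_of_isEmbedding i hemb f ζT).trans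
      ((localDim_inter_fibre_of_isMaxPt f (i.base ζT) (f.base (i.base ζT)) rfl hζ'
        (Set.range i.base) hcl ⟨ζT, rfl⟩).trans (by rw [hζT]))
  obtain ⟨e, -, he⟩ := Groth.Agent.H1.EquidimQF.resTrdeg_of_isMaxPt f ζ hζ
  have e2 := fibreDimAt_comp_le i hemb f xT
  have hge : ∀ t : T, (e : WithBot ℕ∞) ≤ FlatMor.fibreDimAt (i ≫ f) t := by
    intro t
    rw [← he, ← e1]
    exact Groth.Agent.H1.EquidimLoc.fibreDimAt_le_of_specializes (i ≫ f) (hspec t)
  refine ⟨T, i, hi, xT, rfl, e, ⟨{t | FlatMor.fibreDimAt (i ≫ f) t ≤ e},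
    Groth.Agent.H1.Chev.isOpen_fibreDimAt_le (i ≫ f) e⟩, ?_, ?_, ?_⟩
  · show FlatMor.fibreDimAt (i ≫ f) xT ≤ e
    rw [← he]; exact e2.trans hdim
  · intro t ht
    exact le_antisymm ht (hge t)
  · intro ξ _ hξ
    have hξζ : ζT = ξ := hξ ζT (hspec ξ)
    have h3 : (i ≫ f).base ξ = f.base ζ := by
      show (i ≫ f) ξ = f.base ζ
      rw [hcomp_apply, ← hξζ, hζT]
    rw [h3]; exact hcomp

/-- (c ⇒ d) -/
theorem hasQuasiSection_of_component [IrreducibleSpace Y] [IsLocallyNoetherian Y] (f : X ⟶ Y)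
    [LocallyOfFiniteType f] (x z : X) (hzx : z ⤳ x)
    (hmax : ∀ z' : X, f z' = f z → z' ⤳ z → z' = z)
    (hdim : FlatMor.fibreDimAt f x ≤ FlatMor.fibreDimAt f z)
    (hcl : ∀ x' : X, f.base x' = f.base x → x ⤳ x' → x' = x)
    (hb : ∃ Z ∈ irreducibleComponents (X : Type u), ∃ hz : z ∈ Z,
      closure (f.base '' Z) = Set.univ ∧
      ∀ η : Y, closure ({η} : Set Y) = Set.univ →
        FlatMor.localDim ↥(Z ∩ f.base ⁻¹' {f.base z}) ⟨z, ⟨hz, rfl⟩⟩ =
          topologicalKrullDim ↥(Z ∩ f.base ⁻¹' {η})) : HasQuasiSection f x := by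
  have hY₀ : (Set.univ : Set Y) ∈ irreducibleComponents (Y : Type u) := by
    rw [irreducibleComponents_eq_singleton]; rfl
  obtain ⟨ζ, hζmax, hζz, hfζ, hdimζ⟩ := exists_maxPt_of_component f z hmax Set.univ hY₀ hb
  obtain ⟨T, i, hi, xT, hxT, e, U', hxU', hfd', hgen'⟩ :=
    exists_generic_data_of_maxPt f x ζ hζmax (hζz.trans hzx) (by rw [hfζ]; exact hY₀)
      (hdim.trans hdimζ.le)
  haveI := hi
  have hclT : ∀ t : T, (i ≫ f).base t = (i ≫ f).base xT → xT ⤳ t → t = xT := by
    intro t h1 h2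
    apply i.isEmbedding.injective
    show i.base t = i.base xT
    have h3 : i.base xT ⤳ i.base t := h2.map i.continuous
    rw [hxT] at h3 ⊢
    apply hcl _ _ h3
    have h4 : f.base (i.base t) = f.base (i.base xT) := h1
    rw [h4, hxT]
  have h := hasQuasiSection e T (i ≫ f) xT U' hxU' hfd' hgen' hclT
  have h5 := HasQuasiSection.comp i f xT h
  rwa [hxT] at h5

end Groth.Agent.H1.QSec
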