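import Mathlib
import Groth.Prelude.Def_EGA43
import Groth.Agent.Lib.Helper1.QSecC

/-!
# EGA IV 14.5.x: the equivalences along a geometrically unibranch fibre (helper1)
-/

set_option autoImplicit false
set_option linter.style.haveILetI false
universe u

namespace Groth.Agent.H1.QSec

open AlgebraicGeometry CategoryTheory CategoryTheory.Limits TopologicalSpace Topology
open Groth.Agent.H1.DimFormula Groth.Agent.H1.UO14 Groth.Agent.H1.HypSec Groth.Agent.H3

variable {X Y : Scheme.{u}}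

theorem component_cond_conv [IrreducibleSpace Y] (f : X ⟶ Y) (z : X) (y : Y)
    (hzy : f.base z = y)
    (h : ∃ Z ∈ irreducibleComponents (X : Type u), ∃ hz : z ∈ Z, Dense (f.base '' Z) ∧
      FlatMor.localDim ↥(Z ∩ f.base ⁻¹' {y}) ⟨z, ⟨hz, hzy⟩⟩ =
        topologicalKrullDim ↥(Z ∩ f.base ⁻¹' {genericPoint Y})) :
    ∃ Z ∈ irreducibleComponents (X : Type u), ∃ hz : z ∈ Z,
      closure (f.base '' Z) = Set.univ ∧
      ∀ η : Y, closure ({η} : Set Y) = Set.univ →
        FlatMor.localDim ↥(Z ∩ f.base ⁻¹' {f.base z}) ⟨z, ⟨hz, rfl⟩⟩ =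
          topologicalKrullDim ↥(Z ∩ f.base ⁻¹' {η}) := by
  subst hzy
  obtain ⟨Z, hZ, hz, hdense, hdim⟩ := h
  refine ⟨Z, hZ, hz, dense_iff_closure_eq.mp hdense, ?_⟩
  intro η hη
  have hηg : η = genericPoint Y :=
    IsGenericPoint.eq (show IsGenericPoint η Set.univ from hη) (genericPoint_spec Y)
  rw [hηg]; exact hdim

theorem s4945 [IrreducibleSpace Y] [IsLocallyNoetherian Y] (f : X ⟶ Y) [LocallyOfFiniteType f]
    (y : Y) (hy : CAlg2.IsGeomUnibranch (Y.presheaf.stalk y)) :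
    List.TFAE [∀ x : X, f.base x = y → EGA43.IsUnivOpenAt f x,
      ∀ x : X, f.base x = y → EGA43.IsOpenAt f.base x,
      ∀ z : X, ∀ hzy : f.base z = y, (∀ z' : X, f.base z' = y → z ∈ closure {z'} → z' = z) →
        ∃ Z ∈ irreducibleComponents (X : Type u), ∃ hz : z ∈ Z, Dense (f.base '' Z) ∧
          FlatMor.localDim ↥(Z ∩ f.base ⁻¹' {y}) ⟨z, ⟨hz, hzy⟩⟩ = topologicalKrullDim ↥(Z ∩ f.base ⁻¹' {genericPoint Y}),
      ∀ x : X, f.base x = y → (∀ x' : X, f.base x' = y → x ⤳ x' → x' = x) →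
        ∃ (T : Scheme.{u}) (i : T ⟶ X), IsImmersion i ∧ IrreducibleSpace ↥T ∧ IsReduced T ∧ x ∈ Set.range i.base ∧
        LocallyOfFiniteType (i ≫ f) ∧ LocallyQuasiFinite (i ≫ f) ∧ QuasiCompact (i ≫ f) ∧ IsDominant (i ≫ f)] := by
  have hY₀ : (Set.univ : Set Y) ∈ irreducibleComponents (Y : Type u) := by
    rw [irreducibleComponents_eq_singleton]; rfl
  have hgp : closure ({genericPoint Y} : Set Y) = Set.univ := genericPoint_closure Y
  tfae_have 1 → 2 := fun h x hx =>
    Groth.Agent.H1.ChevEq.isOpenAt_of_isUnivOpenAt f x (h x hx)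
  tfae_have 2 → 3 := by
    intro hb z hzy hzmax
    subst hzy
    have hmax' : ∀ z' : X, f z' = f z → z' ⤳ z → z' = z := fun z' h1 h2 =>
      hzmax z' h1 (specializes_iff_mem_closure.mp h2)
    obtain ⟨Z, hZ, hz, hcl, hdim⟩ := exists_component_of_dim_ge f z z rfl specializes_rfl
      hmax' rfl Set.univ hY₀
      (fun η hη U hzU => fibreDimAt_le_dim_inter_of_isOpenAt f z hmax' (hb z rfl) U hzU η
        (by rw [specializes_iff_mem_closure, hη]; trivial))
    exact ⟨Z, hZ, hz, dense_iff_closure_eq.mpr hcl, hdim (genericPoint Y) hgp⟩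
  tfae_have 3 → 1 := by
    intro hc x hx
    obtain ⟨z, hfz, hzx, hzmax, hzdim⟩ :=
      Groth.Agent.H1.FibGen.exists_fibre_generic_fibreDimAt_eq f x
    have hGU : CAlg2.IsGeomUnibranch (Y.presheaf.stalk (f.base x)) :=
      (Groth.Agent.H1.ChevSch.isGeomUnibranch_stalk_congr hx).mpr hy
    exact isUnivOpenAt_of_component f x z hGU hfz hzx
      (fun z' h1 h2 => hzmax z' (h1.trans hfz) h2) hzdim.ge Set.univ hY₀
      (component_cond_conv f z y (hfz.trans hx) (hc z (hfz.trans hx)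
        (fun z' h1 h2 => hzmax z' (h1.trans hx.symm) (specializes_iff_mem_closure.mpr h2))))
  tfae_have 3 → 4 := by
    intro hc x hx hxcl
    obtain ⟨z, hfz, hzx, hzmax, hzdim⟩ :=
      Groth.Agent.H1.FibGen.exists_fibre_generic_fibreDimAt_eq f x
    exact hasQuasiSection_of_component f x z hzx
      (fun z' h1 h2 => hzmax z' (h1.trans hfz) h2) hzdim.ge
      (fun x' h1 h2 => hxcl x' (h1.trans hx) h2)
      (component_cond_conv f z y (hfz.trans hx) (hc z (hfz.trans hx)
        (fun z' h1 h2 => hzmax z' (h1.trans hx.symm) (specializes_iff_mem_closure.mpr h2))))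
  tfae_have 4 → 2 := fun hd z hz =>
    isOpenAt_of_forall_closed_hasQuasiSection f y hy hd z hz
  tfae_finish

end Groth.Agent.H1.QSec
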