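import Mathlib
import Groth.Prelude.Def_EGA43
import Groth.Agent.Lib.Helper1.QSecD
import Groth.Agent.Lib.Helper1.DVRCrit

/-!
# EGA IV 14.5.x over a one-dimensional base: quasi-sections and dominating components (helper1)
-/

set_option autoImplicit false
set_option linter.style.haveILetI false
universe u

namespace Groth.Agent.H1.QSec

open AlgebraicGeometry CategoryTheory CategoryTheory.Limits TopologicalSpace Topology
open Groth.Agent.H1.DimFormula Groth.Agent.H1.UO14 Groth.Agent.H1.HypSec Groth.Agent.H3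
open Groth.Agent.H1.DVRCrit

variable {X Y : Scheme.{u}}

set_option backward.isDefEq.respectTransparency false in
/-- the openness criterion by lifting of generizations, for a morphism locally of finite type to
a locally Noetherian scheme. -/
theorem isOpenAt_of_forall_exists_generization [IsLocallyNoetherian Y] (f : X ⟶ Y)
    [LocallyOfFiniteType f] (x : X)
    (hlift : ∀ η : Y, η ⤳ f.base x → ∃ z : X, z ⤳ x ∧ f.base z = η) :
    EGA43.IsOpenAt f.base x := by
  intro U₁ hU₁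
  obtain ⟨V, hV, hxV⟩ : ∃ V : Y.Opens, IsAffineOpen V ∧ f.base x ∈ V := by
    obtain ⟨_, ⟨V, hV, rfl⟩, hx, -⟩ :=
      Y.isBasis_affineOpens.exists_subset_of_mem_open (Set.mem_univ (f.base x)) isOpen_univ
    exact ⟨V, hV, hx⟩
  obtain ⟨U, hU, hxU, hUle⟩ : ∃ U : X.Opens, IsAffineOpen U ∧ x ∈ U ∧
      (U : Set X) ⊆ (f ⁻¹ᵁ V : Set X) ∩ interior U₁ := by
    obtain ⟨_, ⟨U, hU, rfl⟩, hx, hsub⟩ := X.isBasis_affineOpens.exists_subset_of_mem_open
      (⟨hxV, mem_interior_iff_mem_nhds.mpr hU₁⟩ : x ∈ (f ⁻¹ᵁ V : Set X) ∩ interior U₁)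
      ((f ⁻¹ᵁ V).isOpen.inter isOpen_interior)
    exact ⟨U, hU, hx, hsub⟩
  have hUV : U ≤ f ⁻¹ᵁ V := fun z hz => (hUle hz).1
  have hφ : (f.appLE V U hUV).hom.FiniteType :=
    HasRingHomProperty.appLE (P := @LocallyOfFiniteType) (f := f) inferInstance ⟨V, hV⟩ ⟨U, hU⟩ hUV
  have : IsNoetherianRing Γ(Y, V) := IsLocallyNoetherian.component_noetherian ⟨V, hV⟩
  have hφ' : (f.appLE V U hUV).hom.FinitePresentation :=
    RingHom.FinitePresentation.of_finiteType.mp hφ
  let E : Set (PrimeSpectrum Γ(Y, V)) := Set.range (PrimeSpectrum.comap (f.appLE V U hUV).hom)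
  have hE : Topology.IsConstructible E := PrimeSpectrum.isConstructible_range_comap hφ'
  have sqc := IsAffineOpen.SpecMap_appLE_fromSpec f hV hU hUV
  obtain ⟨x₀, hx₀⟩ : ∃ x₀, hU.fromSpec.base x₀ = x := by
    have h0 : x ∈ Set.range hU.fromSpec.base := by rw [hU.range_fromSpec]; exact hxU
    exact h0
  have hy₀ : hV.fromSpec.base ((Spec.map (f.appLE V U hUV)).base x₀) = f.base x := by
    rw [← Scheme.Hom.comp_apply, sqc, Scheme.Hom.comp_apply, hx₀]
  have hEn : E ∈ nhds ((Spec.map (f.appLE V U hUV)).base x₀) := by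
    apply mem_nhds_of_isConstructible hE
    intro η hη
    have h1 : hV.fromSpec.base η ⤳ f.base x := by
      rw [← hy₀]; exact hη.map hV.fromSpec.continuous
    obtain ⟨z, hz, hzη⟩ := hlift _ h1
    have hzU : z ∈ U := hz.mem_open U.isOpen hxU
    obtain ⟨z₀, rfl⟩ : ∃ z₀, hU.fromSpec.base z₀ = z := by
      have h0 : z ∈ Set.range hU.fromSpec.base := by rw [hU.range_fromSpec]; exact hzU
      exact h0
    refine ⟨z₀, ?_⟩
    apply hV.fromSpec.isOpenEmbedding.injective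
    rw [← hzη, ← Scheme.Hom.comp_apply, ← sqc, Scheme.Hom.comp_apply]
    rfl
  have h3 : ⇑hV.fromSpec.base '' E ∈ nhds (f.base x) := by
    rw [← hy₀]; exact hV.fromSpec.isOpenEmbedding.isOpenMap.image_mem_nhds hEn
  refine Filter.mem_of_superset h3 ?_
  rintro _ ⟨_, ⟨z₀, rfl⟩, rfl⟩
  refine ⟨hU.fromSpec.base z₀, ?_, ?_⟩
  · have h0 : hU.fromSpec.base z₀ ∈ (U : Set X) := by
      rw [← hU.range_fromSpec]; exact ⟨_, rfl⟩
    exact interior_subset (hUle h0).2
  · rw [← Scheme.Hom.comp_apply, ← sqc, Scheme.Hom.comp_apply]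
    rfl

/-- at a point whose local ring has dimension at most one, on an irreducible locally Noetherian
scheme, the only generizations are the point itself and the generic point. -/
theorem eq_or_eq_genericPoint_of_specializes [IrreducibleSpace Y] [IsLocallyNoetherian Y]
    (y : Y) (hdim : ringKrullDim (Y.presheaf.stalk y) ≤ 1) (η : Y) (hη : η ⤳ y) :
    η = y ∨ η = genericPoint Y := by
  by_contra hcon
  push Not at hcon
  obtain ⟨h1, h2⟩ := hcon
  have hg : genericPoint Y ⤳ η := genericPoint_specializes η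
  have hlt1 := ringKrullDim_stalk_lt_of_specializes hg (Ne.symm h2)
  have hlt2 := ringKrullDim_stalk_lt_of_specializes hη h1
  have h0 : (0 : WithBot ℕ∞) ≤ ringKrullDim (Y.presheaf.stalk (genericPoint Y)) :=
    ringKrullDim_nonneg_of_nontrivial
  have h0' : (0 : WithBot ℕ∞) ≤ ringKrullDim (Y.presheaf.stalk η) :=
    ringKrullDim_nonneg_of_nontrivial
  obtain ⟨-, hb⟩ := withBot_aux_eq_one _ _ h0' hlt2 hdim
  rw [hb] at hlt1
  exact absurd (lt_of_le_of_lt h0 hlt1) (lt_irrefl _)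

/-- a closed subset meeting a fibre contains a point of that fibre which is closed in it. -/
theorem exists_closed_point_fibre_of_isClosed (f : X ⟶ Y) [LocallyOfFiniteType f] (S : Set X)
    (hS : IsClosed S) (x₀ : X) (hx₀ : x₀ ∈ S) :
    ∃ x' : X, x' ∈ S ∧ f.base x' = f.base x₀ ∧
      ∀ x'' : X, f.base x'' = f.base x₀ → x' ⤳ x'' → x'' = x' := by
  have hemb : IsEmbedding (f.fiberι (f.base x₀)) := (f.fiberι (f.base x₀)).isEmbedding
  have hfib : ∀ c : ↥(f.fiber (f.base x₀)), f.base ((f.fiberι (f.base x₀)) c) = f.base x₀ := by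
    intro c
    have : (f.fiberι (f.base x₀)) c ∈ Set.range (f.fiberι (f.base x₀)) := ⟨c, rfl⟩
    rw [Scheme.Hom.range_fiberι] at this
    exact this
  haveI : JacobsonSpace ↥(f.fiber (f.base x₀)) :=
    LocallyOfFiniteType.jacobsonSpace (f.fiberToSpecResidueField (f.base x₀))
  have hcl : IsClosed ((f.fiberι (f.base x₀)) ⁻¹' S) := hS.preimage (f.fiberι (f.base x₀)).continuous
  have hne : ((f.fiberι (f.base x₀)) ⁻¹' S ∩ closedPoints ↥(f.fiber (f.base x₀))).Nonempty := by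
    by_contra hemp
    rw [Set.not_nonempty_iff_eq_empty] at hemp
    have h1 := JacobsonSpace.closure_inter_closedPoints hcl
    rw [hemp, closure_empty] at h1
    have h2 : f.asFiber x₀ ∈ (f.fiberι (f.base x₀)) ⁻¹' S := by
      rw [Set.mem_preimage, f.fiberι_asFiber]; exact hx₀
    rw [← h1] at h2
    exact h2
  obtain ⟨c, hcS, hcc⟩ := hne
  have hcc' : IsClosed ({c} : Set ↥(f.fiber (f.base x₀))) := mem_closedPoints_iff.mp hcc
  refine ⟨(f.fiberι (f.base x₀)) c, hcS, hfib c, ?_⟩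
  intro x'' hx'' hsp
  have hx''r : x'' ∈ Set.range (f.fiberι (f.base x₀)) := by
    rw [Scheme.Hom.range_fiberι]; exact hx''
  obtain ⟨c'', rfl⟩ := hx''r
  have h1 : c ⤳ c'' := hemb.isInducing.specializes_iff.mp hsp
  have h2 : c'' ∈ closure ({c} : Set ↥(f.fiber (f.base x₀))) := specializes_iff_mem_closure.mp h1
  rw [hcc'.closure_eq, Set.mem_singleton_iff] at h2
  rw [h2]

/-- quasi-sections inside a dominating irreducible component, over a point of codimension at
most one. -/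
theorem hasQuasiSection_in_component [IrreducibleSpace Y] [IsLocallyNoetherian Y] (f : X ⟶ Y)
    [LocallyOfFiniteType f] (x : X) (hdim1 : ringKrullDim (Y.presheaf.stalk (f.base x)) ≤ 1)
    (hcl : ∀ x' : X, f.base x' = f.base x → x ⤳ x' → x' = x)
    (Xi : Set X) (hXi : Xi ∈ irreducibleComponents (X : Type u)) (hxXi : x ∈ Xi)
    (hdom : Dense (f.base '' Xi)) :
    ∃ (T : Scheme.{u}) (i : T ⟶ X), IsImmersion i ∧ IrreducibleSpace ↥T ∧ IsReduced T ∧
      x ∈ Set.range i.base ∧ Set.range i.base ⊆ Xi ∧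
      LocallyOfFiniteType (i ≫ f) ∧ LocallyQuasiFinite (i ≫ f) ∧ QuasiCompact (i ≫ f) ∧
      IsDominant (i ≫ f) := by
  have hY₀ : (Set.univ : Set Y) ∈ irreducibleComponents (Y : Type u) := by
    rw [irreducibleComponents_eq_singleton]; rfl
  -- the generic point of `Xi`
  obtain ⟨ζ, hζmax, hζC⟩ := Groth.Agent.H1.FibDimTot.exists_isMaxPt_closure_eq hXi
  have hfζ : f.base ζ = genericPoint Y := by
    have h1 : closure ({f.base ζ} : Set Y) = Set.univ := by
      rw [← Groth.Agent.H1.EquidimQF.closure_image_closure_singleton f.base f.continuous ζ, hζC]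
      exact dense_iff_closure_eq.mp hdom
    exact IsGenericPoint.eq (show IsGenericPoint (f.base ζ) Set.univ from h1) (genericPoint_spec Y)
  -- the reduced subscheme on `Xi`
  obtain ⟨T₁, ι, hι, hr⟩ : ∃ (T₁ : Scheme.{u}) (ι : T₁ ⟶ X), IsClosedImmersion ι ∧
      Set.range ι.base = Xi := by
    refine ⟨_, (Scheme.IdealSheafData.vanishingIdeal
      (⟨Xi, isClosed_of_mem_irreducibleComponents Xi hXi⟩ : Closeds X)).subschemeι,
      inferInstance, ?_⟩
    exact (Scheme.IdealSheafData.range_subschemeι _).trans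
      (Scheme.IdealSheafData.coe_support_vanishingIdeal _)
  haveI := hι
  have hemb : IsEmbedding ι.base := ι.isEmbedding
  obtain ⟨x₁, hx₁⟩ : ∃ x₁ : T₁, ι.base x₁ = x := by
    have : x ∈ Set.range ι.base := by rw [hr]; exact hxXi
    exact this
  obtain ⟨ζ₁, hζ₁⟩ : ∃ ζ₁ : T₁, ι.base ζ₁ = ζ := by
    have : ζ ∈ Set.range ι.base := by rw [hr, ← hζC]; exact subset_closure rfl
    exact this
  have hca : ∀ t : T₁, (ι ≫ f).base t = f.base (ι.base t) := fun t =>
    Scheme.Hom.comp_apply ι f t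
  have hspec : ∀ t : T₁, ζ₁ ⤳ t := by
    intro t
    refine hemb.isInducing.specializes_iff.mp ?_
    show ι.base ζ₁ ⤳ ι.base t
    rw [hζ₁, specializes_iff_mem_closure, hζC, ← hr]
    exact ⟨t, rfl⟩
  -- closedness of `x₁` in its fibre
  have hcl₁ : ∀ t : T₁, (ι ≫ f).base t = (ι ≫ f).base x₁ → x₁ ⤳ t → t = x₁ := by
    intro t h1 h2
    apply hemb.injective
    show ι.base t = ι.base x₁
    have h3 : ι.base x₁ ⤳ ι.base t := h2.map ι.continuous
    rw [hx₁] at h3 ⊢
    apply hcl _ _ h3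
    rw [← hca, h1, hca, hx₁]
  -- a maximal point of the fibre of `ι ≫ f` generizing `x₁`
  obtain ⟨z₁, hfz₁, hz₁x₁, hz₁max, hz₁dim⟩ :=
    Groth.Agent.H1.FibGen.exists_fibre_generic_fibreDimAt_eq (ι ≫ f) x₁
  have hmax' : ∀ z' : T₁, (ι ≫ f) z' = (ι ≫ f) z₁ → z' ⤳ z₁ → z' = z₁ := fun z' h1 h2 =>
    hz₁max z' (h1.trans hfz₁) h2
  -- openness at `z₁` by lifting generizations
  have hfz₁' : (ι ≫ f).base z₁ = f.base x := by
    have h1 : (ι ≫ f).base z₁ = (ι ≫ f).base x₁ := hfz₁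
    rw [h1, hca, hx₁]
  have hopen : EGA43.IsOpenAt (ι ≫ f).base z₁ := by
    apply isOpenAt_of_forall_exists_generization
    intro η hη
    rw [hfz₁'] at hη
    rcases eq_or_eq_genericPoint_of_specializes (f.base x) hdim1 η hη with h | h
    · exact ⟨z₁, specializes_rfl, by rw [h, hfz₁']⟩
    · refine ⟨ζ₁, hspec z₁, ?_⟩
      rw [h, hca, hζ₁, hfζ]
  have hb := exists_component_of_dim_ge (ι ≫ f) z₁ z₁ rfl specializes_rfl hmax' rfl Set.univ
    hY₀ (fun η hη U hzU => fibreDimAt_le_dim_inter_of_isOpenAt (ι ≫ f) z₁ hmax' hopen U hzU η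
      (by rw [specializes_iff_mem_closure, hη]; trivial))
  obtain ⟨T, i, hi, hirr, hred, ⟨t, ht⟩, h1, h2, h3, h4⟩ :=
    hasQuasiSection_of_component (ι ≫ f) x₁ z₁ hz₁x₁ hmax' hz₁dim.ge hcl₁ hb
  haveI := hi
  refine ⟨T, i ≫ ι, inferInstance, hirr, hred, ⟨t, ?_⟩, ?_, ?_, ?_, ?_, ?_⟩
  · rw [← hx₁, ← ht]; exact Scheme.Hom.comp_apply i ι t
  · rintro _ ⟨t', rfl⟩
    rw [← hr]
    exact ⟨i.base t', (Scheme.Hom.comp_apply i ι t').symm⟩
  · rw [Category.assoc]; exact h1
  · rw [Category.assoc]; exact h2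
  · rw [Category.assoc]; exact h3
  · rw [Category.assoc]; exact h4

theorem s4946 [IrreducibleSpace Y] [IsLocallyNoetherian Y]
    (hY : ∀ y : Y, IsRegularLocalRing (Y.presheaf.stalk y) ∧ ringKrullDim (Y.presheaf.stalk y) ≤ 1)
    (f : X ⟶ Y) [LocallyOfFiniteType f] (y : Y) :
    (∀ Z ∈ irreducibleComponents (X : Type u), (Z ∩ f.base ⁻¹' {y}).Nonempty → Dense (f.base '' Z)) ↔
      ∀ x : X, f.base x = y → (∀ x' : X, f.base x' = y → x ⤳ x' → x' = x) →
        ∀ Xi ∈ irreducibleComponents (X : Type u), x ∈ Xi →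
          ∃ (T : Scheme.{u}) (i : T ⟶ X), IsImmersion i ∧ IrreducibleSpace ↥T ∧ IsReduced T ∧ x ∈ Set.range i.base ∧
            Set.range i.base ⊆ Xi ∧
            LocallyOfFiniteType (i ≫ f) ∧ LocallyQuasiFinite (i ≫ f) ∧ QuasiCompact (i ≫ f) ∧ IsDominant (i ≫ f) := by
  constructor
  · intro hd x hx hxcl Xi hXi hxXi
    have hdom : Dense (f.base '' Xi) := hd Xi hXi ⟨x, hxXi, hx⟩
    have hdim1 : ringKrullDim (Y.presheaf.stalk (f.base x)) ≤ 1 := (hY (f.base x)).2
    exact hasQuasiSection_in_component f x hdim1 (fun x' h1 h2 => hxcl x' (h1.trans hx) h2)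
      Xi hXi hxXi hdom
  · intro he Z hZ hne
    obtain ⟨x₀, hx₀Z, hx₀y⟩ := hne
    have hx₀y' : f.base x₀ = y := hx₀y
    obtain ⟨x', hx'Z, hfx', hx'cl⟩ := exists_closed_point_fibre_of_isClosed f Z
      (isClosed_of_mem_irreducibleComponents Z hZ) x₀ hx₀Z
    have hx'y : f.base x' = y := hfx'.trans hx₀y'
    obtain ⟨T, i, -, -, -, -, hsub, -, -, -, hdomT⟩ := he x' hx'y
      (fun x'' h1 h2 => hx'cl x'' (h1.trans hx₀y'.symm) h2) Z hZ hx'Z
    have hdr : DenseRange (i ≫ f).base := hdomT.denseRange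
    refine hdr.mono ?_
    rintro _ ⟨t, rfl⟩
    exact ⟨i.base t, hsub ⟨t, rfl⟩, (Scheme.Hom.comp_apply i f t).symm⟩

end Groth.Agent.H1.QSec
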