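import Mathlib

/-! Helper lemmas on quasi-separatedness via affine covers (helper1). -/

set_option autoImplicit false
universe u

namespace Groth.Agent.H1.QSep

open AlgebraicGeometry CategoryTheory

lemma qsSpace_of_affine_cover {X : Scheme.{u}} (O : X.Opens) {κ : Type*} (V : κ → X.affineOpens)
    (hV : ⨆ j, (V j : X.Opens) = O)
    (hVV : ∀ j j', IsCompact ((V j : Set X) ∩ (V j' : Set X))) :
    QuasiSeparatedSpace ↥O := by
  have hle : ∀ j, (V j : X.Opens) ≤ O := fun j => hV ▸ le_iSup (fun j => (V j : X.Opens)) j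
  refine Scheme.quasiSeparatedSpace_of_isOpenCover (X := (O : Scheme)) (fun j => O.ι ⁻¹ᵁ (V j : X.Opens))
    ?_ ?_ ?_
  · apply TopologicalSpace.IsOpenCover.mk
    rw [← Scheme.Hom.preimage_iSup, hV, O.ι_preimage_self]
  · intro j
    exact (V j).2.preimage_of_isOpenImmersion O.ι (by
      rw [Scheme.Opens.opensRange_ι]; exact hle j)
  · intro j j'
    rw [O.ι.isOpenEmbedding.isCompact_iff]
    have : O.ι '' (SetLike.coe (O.ι ⁻¹ᵁ (V j : X.Opens)) ∩ SetLike.coe (O.ι ⁻¹ᵁ (V j' : X.Opens)))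
        = (V j : Set X) ∩ (V j' : Set X) := by
      ext x
      constructor
      · rintro ⟨y, ⟨h1, h2⟩, rfl⟩
        exact ⟨h1, h2⟩
      · rintro ⟨h1, h2⟩
        exact ⟨⟨x, hle j h1⟩, ⟨h1, h2⟩, rfl⟩
    rw [this]
    exact hVV j j'

set_option backward.isDefEq.respectTransparency.types false in
lemma qs_of_cover {X S : Scheme.{u}} (f : X ⟶ S) {ι : Type*} (W : ι → S.affineOpens)
    (hW : ⨆ i, (W i : S.Opens) = ⊤) (h : ∀ i, QuasiSeparatedSpace ↥(f ⁻¹ᵁ (W i : S.Opens))) :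
    QuasiSeparated f := by
  have := HasAffineProperty.of_iSup_eq_top (P := @QuasiSeparated) (f := f) W hW
  exact this h

lemma iSup_affineOpens_le_eq {X : Scheme.{u}} (O : X.Opens) :
    ⨆ V : {V : X.affineOpens // (V : X.Opens) ≤ O}, ((V : X.affineOpens) : X.Opens) = O := by
  apply le_antisymm
  · exact iSup_le fun V => V.2
  · intro x hx
    obtain ⟨_, ⟨V, hV, rfl⟩, hxV, hVO⟩ :=
      X.isBasis_affineOpens.exists_subset_of_mem_open hx O.isOpen
    exact TopologicalSpace.Opens.mem_iSup.mpr ⟨⟨⟨V, hV⟩, hVO⟩, hxV⟩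

end Groth.Agent.H1.QSep
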