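import Mathlib

/-!
# Quasi-compact opens of `X_A` descend to finitely generated subalgebras
-/

set_option autoImplicit false

universe u

open AlgebraicGeometry CategoryTheory CategoryTheory.Limits Opposite TopologicalSpace

namespace Groth.Agent.H1.QcDesc

section gen

theorem appLE_of_eq {X Y : Scheme.{u}} {f g : X ⟶ Y} (h : f = g) (U : Y.Opens) (V : X.Opens)
    (e : V ≤ f ⁻¹ᵁ U) : f.appLE U V e = g.appLE U V (h ▸ e) := by
  subst h; rfl

variable {X Y S T : Scheme.{u}} {f : T ⟶ S} {g : Y ⟶ X} {iX : X ⟶ S} {iY : Y ⟶ T}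

/-- sections over the affine piece of a fibre product are sums of products -/
theorem exists_list (H : IsPullback g iY iX f) {US : S.Opens} {UT : T.Opens} {UX : X.Opens}
    (hUST : UT ≤ f ⁻¹ᵁ US) (hUSX : UX ≤ iX ⁻¹ᵁ US) {UY : Y.Opens}
    (hUY : UY = g ⁻¹ᵁ UX ⊓ iY ⁻¹ᵁ UT) (hUS : IsAffineOpen US) (hUT : IsAffineOpen UT)
    (hUX : IsAffineOpen UX) (e1 : UY ≤ g ⁻¹ᵁ UX) (e2 : UY ≤ iY ⁻¹ᵁ UT) (h : Γ(Y, UY)) :
    ∃ L : List (Γ(X, UX) × Γ(T, UT)),
      h = (L.map (fun p => (g.appLE UX UY e1).hom p.1 * (iY.appLE UT UY e2).hom p.2)).sum := by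
  have hpo : IsPushout (iX.appLE US UX hUSX) (f.appLE US UT hUST) (g.appLE UX UY e1)
      (iY.appLE UT UY e2) :=
    (isIso_pushoutSection_iff H hUST hUSX hUY).mp
      (isIso_pushoutSection_of_isAffineOpen H hUST hUSX hUY hUS hUT hUX)
  algebraize [(iX.appLE US UX hUSX).hom, (f.appLE US UT hUST).hom, (g.appLE UX UY e1).hom,
    (iY.appLE UT UY e2).hom, (g.appLE UX UY e1).hom.comp (iX.appLE US UX hUSX).hom]
  have : IsScalarTower Γ(S, US) Γ(T, UT) Γ(Y, UY) :=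
    .of_algebraMap_eq' <| congr($(hpo.1.1).hom)
  have hP : Algebra.IsPushout Γ(S, US) Γ(X, UX) Γ(T, UT) Γ(Y, UY) :=
    CommRingCat.isPushout_iff_isPushout.mp hpo
  refine hP.out.inductionOn h _ ⟨[], by simp⟩ ?_ ?_ ?_
  · intro m
    refine ⟨[(1, m)], ?_⟩
    simp only [List.map_cons, List.map_nil, List.sum_cons, List.sum_nil, map_one, one_mul,
      add_zero]
    rfl
  · rintro s n ⟨L, rfl⟩
    refine ⟨L.map (fun p => (s * p.1, p.2)), ?_⟩
    rw [Algebra.smul_def, ← List.sum_map_mul_left, List.map_map]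
    congr 1
    apply List.map_congr_left
    intro p _
    simp only [Function.comp_apply, map_mul, mul_assoc]
    rfl
  · rintro n₁ n₂ ⟨L₁, rfl⟩ ⟨L₂, rfl⟩
    exact ⟨L₁ ++ L₂, by rw [List.map_append, List.sum_append]⟩

end gen

section main

variable (k : Type u) [Field k] (X : Scheme.{u}) [X.Over (Spec (CommRingCat.of k))]

/-- `X_A` -/
noncomputable abbrev PB (A : Type u) [CommRing A] [Algebra k A] : Scheme.{u} :=
  pullback (X ↘ (Spec (CommRingCat.of k))) (Spec.map (CommRingCat.ofHom (algebraMap k A)))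

variable (A : Type u) [CommRing A] [Algebra k A]

noncomputable abbrev pfst : PB k X A ⟶ X := pullback.fst _ _

noncomputable abbrev psnd : PB k X A ⟶ Spec (CommRingCat.of A) := pullback.snd _ _

instance isAffineHom_pfst : IsAffineHom (pfst k X A) :=
  MorphismProperty.pullback_fst (P := @IsAffineHom) _ _ inferInstance

theorem le2 (U : X.Opens) : pfst k X A ⁻¹ᵁ U ≤ psnd k X A ⁻¹ᵁ ⊤ := fun _ _ => trivial

/-- the section `r ⊗ a` -/
noncomputable def term (U : X.Opens) (p : Γ(X, U) × A) : Γ(PB k X A, pfst k X A ⁻¹ᵁ U) :=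
  ((pfst k X A).appLE U (pfst k X A ⁻¹ᵁ U) le_rfl).hom p.1 *
    ((psnd k X A).appLE ⊤ (pfst k X A ⁻¹ᵁ U) (le2 k X A U)).hom
      ((Scheme.ΓSpecIso (CommRingCat.of A)).inv.hom p.2)

noncomputable def mkSec (U : X.Opens) (L : List (Γ(X, U) × A)) :
    Γ(PB k X A, pfst k X A ⁻¹ᵁ U) :=
  (L.map (term k X A U)).sum

theorem exists_mkSec (U : X.Opens) (hU : IsAffineOpen U)
    (h : Γ(PB k X A, pfst k X A ⁻¹ᵁ U)) : ∃ L, h = mkSec k X A U L := by
  obtain ⟨L, hL⟩ := exists_list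
    (IsPullback.of_hasPullback (X ↘ Spec (CommRingCat.of k))
      (Spec.map (CommRingCat.ofHom (algebraMap k A))))
    (US := ⊤) (UT := ⊤) (UX := U) (UY := pfst k X A ⁻¹ᵁ U)
    (fun _ _ => trivial) (fun _ _ => trivial) (inf_of_le_left (le2 k X A U)).symm
    (isAffineOpen_top _) (isAffineOpen_top _) hU le_rfl (le2 k X A U) h
  refine ⟨L.map (fun p => (p.1, (Scheme.ΓSpecIso (CommRingCat.of A)).hom.hom p.2)), ?_⟩
  rw [hL, mkSec, List.map_map]
  congr 1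
  apply List.map_congr_left
  intro p _
  have h1 : (Scheme.ΓSpecIso (CommRingCat.of A)).inv.hom
      ((Scheme.ΓSpecIso (CommRingCat.of A)).hom.hom p.2) = p.2 := by
    show ((Scheme.ΓSpecIso (CommRingCat.of A)).hom ≫
      (Scheme.ΓSpecIso (CommRingCat.of A)).inv).hom p.2 = p.2
    rw [Iso.hom_inv_id]
    rfl
  simp only [Function.comp_apply, term, h1]

variable {A}

theorem key {B : Type u} [CommRing B] [Algebra k B] (φ : B →+* A)
    (π : PB k X A ⟶ PB k X B) (h1 : π ≫ pfst k X B = pfst k X A)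
    (h2 : π ≫ psnd k X B = psnd k X A ≫ Spec.map (CommRingCat.ofHom φ))
    (U : X.Opens) (e : pfst k X A ⁻¹ᵁ U ≤ π ⁻¹ᵁ (pfst k X B ⁻¹ᵁ U)) (p : Γ(X, U) × B) :
    (π.appLE (pfst k X B ⁻¹ᵁ U) (pfst k X A ⁻¹ᵁ U) e).hom (term k X B U p) =
      term k X A U (p.1, φ p.2) := by
  have M1 : (pfst k X B).appLE U (pfst k X B ⁻¹ᵁ U) le_rfl ≫
      π.appLE (pfst k X B ⁻¹ᵁ U) (pfst k X A ⁻¹ᵁ U) e =
      (pfst k X A).appLE U (pfst k X A ⁻¹ᵁ U) le_rfl := by
    rw [Scheme.Hom.appLE_comp_appLE]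
    exact appLE_of_eq h1 _ _ _
  have M2 : (Scheme.ΓSpecIso (CommRingCat.of B)).inv ≫
      (psnd k X B).appLE ⊤ (pfst k X B ⁻¹ᵁ U) (le2 k X B U) ≫
      π.appLE (pfst k X B ⁻¹ᵁ U) (pfst k X A ⁻¹ᵁ U) e =
      CommRingCat.ofHom φ ≫ (Scheme.ΓSpecIso (CommRingCat.of A)).inv ≫
        (psnd k X A).appLE ⊤ (pfst k X A ⁻¹ᵁ U) (le2 k X A U) := by
    rw [Scheme.Hom.appLE_comp_appLE, appLE_of_eq h2, Scheme.Hom.comp_appLE, ← Category.assoc,
      ← Category.assoc]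
    have := Scheme.ΓSpecIso_inv_naturality (CommRingCat.ofHom φ)
    rw [this]
    rfl
  rw [term, term, map_mul]
  congr 1
  · exact congrArg (fun q => q.hom p.1) M1
  · exact congrArg (fun q => q.hom p.2) M2

variable (A)

theorem main (V : Set ↥(PB k X A)) (hV : IsOpen V) (hVc : IsCompact V) :
    ∃ (A' : Subalgebra k A), A'.FG ∧
      ∃ (V' : Set ↥(PB k X ↥A')), IsOpen V' ∧ IsCompact V' ∧
        ∀ π : PB k X A ⟶ PB k X ↥A',
          π ≫ pullback.fst _ _ = pullback.fst _ _ →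
          π ≫ pullback.snd _ _ =
            pullback.snd _ _ ≫ Spec.map (CommRingCat.ofHom A'.val.toRingHom) →
            π.base ⁻¹' V' = V := by
  classical
  obtain ⟨Vo, hVo⟩ : ∃ Vo : (PB k X A).Opens, (Vo : Set _) = V := ⟨⟨V, hV⟩, rfl⟩
  have hloc : ∀ x : V, ∃ (U : X.Opens) (_ : IsAffineOpen U) (L : List (Γ(X, U) × A)),
      x.1 ∈ (PB k X A).basicOpen (mkSec k X A U L) ∧
        (PB k X A).basicOpen (mkSec k X A U L) ≤ Vo := by
    intro x
    obtain ⟨U, hU, hxU, -⟩ := exists_isAffineOpen_mem_and_subset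
      (x := (pfst k X A).base x.1) (U := ⊤) trivial
    have hW : IsAffineOpen (pfst k X A ⁻¹ᵁ U) := hU.preimage (pfst k X A)
    have hxV : x.1 ∈ Vo := by
      show x.1 ∈ (Vo : Set _)
      rw [hVo]; exact x.2
    obtain ⟨h, hle, hx⟩ := hW.exists_basicOpen_le (V := Vo) ⟨x.1, hxV⟩ hxU
    obtain ⟨L, rfl⟩ := exists_mkSec k X A U hU h
    exact ⟨U, hU, L, hx, hle⟩
  choose U hU L hxL hLV using hloc
  obtain ⟨t, ht⟩ := hVc.elim_nhds_subcover'
    (fun x hx => ((PB k X A).basicOpen (mkSec k X A (U ⟨x, hx⟩) (L ⟨x, hx⟩)) : Set _))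
    (fun x hx => ((PB k X A).basicOpen _).isOpen.mem_nhds (hxL ⟨x, hx⟩))
  obtain ⟨sF, hsF⟩ : ∃ sF : Finset A, sF = t.biUnion (fun x => ((L x).map Prod.snd).toFinset) :=
    ⟨_, rfl⟩
  obtain ⟨A', hA'⟩ : ∃ A' : Subalgebra k A, A' = Algebra.adjoin k (sF : Set A) := ⟨_, rfl⟩
  have hmem : ∀ x ∈ t, ∀ p ∈ L x, p.2 ∈ A' := by
    intro x hx p hp
    rw [hA']
    apply Algebra.subset_adjoin
    rw [hsF]
    simp only [Finset.coe_biUnion, Set.mem_iUnion, Finset.mem_coe, List.mem_toFinset,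
      List.mem_map]
    exact ⟨x, hx, p, hp, rfl⟩
  obtain ⟨lift, hlift⟩ : ∃ lift : A → A', ∀ a (h : a ∈ A'), lift a = ⟨a, h⟩ :=
    ⟨fun a => if h : a ∈ A' then ⟨a, h⟩ else 0, fun a h => dif_pos h⟩
  obtain ⟨L', hL'⟩ : ∃ L' : ∀ x : V, List (Γ(X, U x) × A'),
      ∀ x, L' x = (L x).map (fun p => (p.1, lift p.2)) := ⟨_, fun _ => rfl⟩
  refine ⟨A', hA' ▸ ⟨sF, rfl⟩,
    ⋃ x ∈ t, ((PB k X ↥A').basicOpen (mkSec k X ↥A' (U x) (L' x)) : Set _), ?_, ?_, ?_⟩
  · exact isOpen_biUnion fun x _ => ((PB k X ↥A').basicOpen _).isOpen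
  · apply t.isCompact_biUnion
    intro x _
    exact (((hU x).preimage (pfst k X ↥A')).basicOpen _).isCompact
  · intro π h1 h2
    have hpre : ∀ W : X.Opens, π ⁻¹ᵁ (pfst k X ↥A' ⁻¹ᵁ W) = pfst k X A ⁻¹ᵁ W := by
      intro W
      have : pfst k X A ⁻¹ᵁ W = (π ≫ pfst k X ↥A') ⁻¹ᵁ W := by rw [h1]
      rw [this]
      rfl
    have hsec : ∀ x ∈ t,
        (π.appLE (pfst k X ↥A' ⁻¹ᵁ U x) (pfst k X A ⁻¹ᵁ U x) (hpre _).ge).hom
          (mkSec k X ↥A' (U x) (L' x)) = mkSec k X A (U x) (L x) := by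
      intro x hx
      rw [mkSec, mkSec, map_list_sum, hL' x, List.map_map, List.map_map]
      congr 1
      apply List.map_congr_left
      intro p hp
      simp only [Function.comp_apply]
      rw [key k X A'.val.toRingHom π h1 h2, hlift p.2 (hmem x hx p hp)]
      rfl
    have hD : ∀ x ∈ t, (π ⁻¹ᵁ (PB k X ↥A').basicOpen (mkSec k X ↥A' (U x) (L' x))) =
        (PB k X A).basicOpen (mkSec k X A (U x) (L x)) := by
      intro x hx
      have e1 := Scheme.basicOpen_appLE π (pfst k X A ⁻¹ᵁ U x) (pfst k X ↥A' ⁻¹ᵁ U x)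
        (hpre _).ge (mkSec k X ↥A' (U x) (L' x))
      have e2 : (PB k X A).basicOpen (mkSec k X A (U x) (L x)) = pfst k X A ⁻¹ᵁ U x ⊓
          π ⁻¹ᵁ (PB k X ↥A').basicOpen (mkSec k X ↥A' (U x) (L' x)) := by
        rw [← hsec x hx]
        exact e1
      rw [e2]
      refine (inf_of_le_right ?_).symm
      refine le_of_le_of_eq ?_ (hpre (U x))
      exact fun z hz => (PB k X ↥A').basicOpen_le _ hz
    apply Set.Subset.antisymm
    · intro y hy
      simp only [Set.preimage_iUnion, Set.mem_iUnion] at hy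
      obtain ⟨x, hx, hy⟩ := hy
      have h3 : y ∈ (PB k X A).basicOpen (mkSec k X A (U x) (L x)) := by
        rw [← hD x hx]; exact hy
      have h4 : y ∈ (Vo : Set _) := hLV x h3
      rwa [hVo] at h4
    · intro y hy
      obtain ⟨x, hx, hyx⟩ := Set.mem_iUnion₂.mp (ht hy)
      simp only [Set.preimage_iUnion, Set.mem_iUnion]
      refine ⟨x, hx, ?_⟩
      have h3 : y ∈ π ⁻¹ᵁ (PB k X ↥A').basicOpen (mkSec k X ↥A' (U x) (L' x)) := by
        rw [hD x hx]; exact hyx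
      exact h3

end main

end Groth.Agent.H1.QcDesc
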