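import Groth.Agent.Lib.Helper1.IndQuasiAffine
import Mathlib.AlgebraicGeometry.ZariskisMainTheorem

/-!
# Quasi-finite separated morphisms are ind-quasi-affine (via Mathlib's Zariski main theorem),
and finite sets of points in quasi-affine schemes lie in affine opens.
-/

namespace Groth.Agent.H1
open AlgebraicGeometry CategoryTheory Limits TopologicalSpace

universe u

set_option backward.isDefEq.respectTransparency.types false in
/-- In a quasi-affine scheme every finite set of points lies in an affine basic open. -/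
theorem exists_isAffineOpen_basicOpen_of_finite {Q : Scheme.{u}} [Q.IsQuasiAffine] (T : Finset Q) :
    ∃ r : Γ(Q, ⊤), IsAffineOpen (Q.basicOpen r) ∧ ∀ t ∈ T, t ∈ Q.basicOpen r := by
  classical
  let φ : Q → PrimeSpectrum Γ(Q, ⊤) := fun t ↦ Q.toSpecΓ t
  let O : Set (PrimeSpectrum Γ(Q, ⊤)) := Set.range φ
  have hO : IsOpen O := Q.toSpecΓ.isOpenEmbedding.isOpen_range
  let I : Ideal Γ(Q, ⊤) := PrimeSpectrum.vanishingIdeal Oᶜ
  have hI : ∀ p : PrimeSpectrum Γ(Q, ⊤), p ∈ O → ¬ I ≤ p.asIdeal := by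
    intro p hp hle
    have : p ∈ PrimeSpectrum.zeroLocus (I : Set Γ(Q, ⊤)) := hle
    rw [PrimeSpectrum.zeroLocus_vanishingIdeal_eq_closure, IsClosed.closure_eq
      hO.isClosed_compl] at this
    exact this hp
  have hav : ¬ ((I : Set Γ(Q, ⊤)) ⊆ ⋃ t ∈ (↑T : Set Q), ((φ t).asIdeal : Set Γ(Q, ⊤))) := by
    by_cases hT : T.Nonempty
    · obtain ⟨t₀, -⟩ := hT
      rw [Ideal.subset_union_prime (f := fun t : Q ↦ (φ t).asIdeal) t₀ t₀
        (fun t _ _ _ ↦ (φ t).isPrime)]
      rintro ⟨t, -, hle⟩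
      exact hI _ ⟨t, rfl⟩ hle
    · rw [Finset.not_nonempty_iff_eq_empty] at hT
      subst hT
      simp only [Finset.coe_empty, Set.mem_empty_iff_false, Set.iUnion_of_empty,
        Set.iUnion_empty, Set.subset_empty_iff]
      intro h
      have : (0 : Γ(Q, ⊤)) ∈ (I : Set Γ(Q, ⊤)) := I.zero_mem
      rw [h] at this
      exact this
  rw [Set.not_subset] at hav
  obtain ⟨r, hrI, hr⟩ := hav
  have hrO : ((PrimeSpectrum.basicOpen r : Opens (PrimeSpectrum Γ(Q, ⊤))) :
      Set (PrimeSpectrum Γ(Q, ⊤))) ⊆ O := by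
    intro p hp
    by_contra hpO
    have : r ∈ p.asIdeal := (PrimeSpectrum.mem_vanishingIdeal _ _).mp hrI p hpO
    exact hp this
  refine ⟨r, ?_, fun t ht ↦ ?_⟩
  · rw [← Scheme.toSpecΓ_preimage_basicOpen, ← Scheme.Hom.isAffineOpen_iff_of_isOpenImmersion Q.toSpecΓ]
    convert! IsAffineOpen.Spec_basicOpen r
    exact SetLike.coe_injective (Set.image_preimage_eq_of_subset hrO)
  · rw [← Scheme.toSpecΓ_preimage_basicOpen]
    change φ t ∈ PrimeSpectrum.basicOpen r
    intro hmem
    exact hr (Set.mem_biUnion ht hmem)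


/-- A separated, locally quasi-finite morphism locally of finite type is ind-quasi-affine
(via Zariski's main theorem). -/
theorem isIndQuasiAffineHom_of_isSeparated_of_locallyQuasiFinite {X Y : Scheme.{u}} (f : X ⟶ Y)
    [IsSeparated f] [LocallyQuasiFinite f] [LocallyOfFiniteType f] :
    MoreMor.IsIndQuasiAffineHom f := by
  rw [isIndQuasiAffineHom_iff]
  intro W j _ _ V hV hr
  have hr' : Set.range (j ≫ f) ⊆ Set.range V.ι := by
    rw [Scheme.Opens.range_ι]; exact hr
  let φ : W ⟶ (V : Scheme.{u}) := IsOpenImmersion.lift V.ι (j ≫ f) hr'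
  have hφ : φ ≫ V.ι = j ≫ f := IsOpenImmersion.lift_fac _ _ _
  have : IsAffine (V : Scheme.{u}) := hV
  have h1 : IsSeparated (φ ≫ V.ι) := by rw [hφ]; infer_instance
  have h2 : LocallyQuasiFinite (φ ≫ V.ι) := by rw [hφ]; infer_instance
  have h3 : LocallyOfFiniteType (φ ≫ V.ι) := by rw [hφ]; infer_instance
  have : IsSeparated φ := IsSeparated.of_comp φ V.ι
  have : LocallyQuasiFinite φ := LocallyQuasiFinite.of_comp φ V.ι
  have : LocallyOfFiniteType φ := locallyOfFiniteType_of_comp φ V.ι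
  have : QuasiCompact φ := inferInstance
  have : IsOpenImmersion φ.toNormalization := inferInstance
  have : IsAffineHom φ.fromNormalization := inferInstance
  have : IsAffine φ.normalization := isAffine_of_isAffineHom φ.fromNormalization
  have := isQuasiAffine_of_isAffine φ.normalization
  exact Scheme.IsQuasiAffine.of_isImmersion φ.toNormalization

/-- For an ind-quasi-affine morphism to an affine scheme, every finite set of points of the source
lies in an affine open. -/
theorem exists_isAffineOpen_of_finite_of_isIndQuasiAffineHom {X Y : Scheme.{u}} (f : X ⟶ Y)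
    [IsAffine Y] (hf : MoreMor.IsIndQuasiAffineHom f) (T : Finset X) :
    ∃ U : X.Opens, IsAffineOpen U ∧ ∀ x ∈ T, x ∈ U := by
  classical
  obtain ⟨W, hWc, hTW, -⟩ := exists_compact_opens_between (Y := X) (K := (↑T : Set X))
    T.finite_toSet.isCompact ⊤ (Set.subset_univ _)
  have : CompactSpace (W : Scheme.{u}) := isCompact_iff_compactSpace.mp hWc
  have : Scheme.IsQuasiAffine (W : Scheme.{u}) :=
    (isIndQuasiAffineHom_iff f).mp hf W W.ι ⊤ (isAffineOpen_top Y) (Set.subset_univ _)
  let T' : Finset (W : Scheme.{u}) := T.attach.image fun x ↦ ⟨x.1, hTW x.2⟩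
  obtain ⟨r, hra, hr⟩ := exists_isAffineOpen_basicOpen_of_finite T'
  refine ⟨W.ι ''ᵁ (W : Scheme.{u}).basicOpen r, hra.image_of_isOpenImmersion W.ι, fun x hx ↦ ?_⟩
  refine ⟨⟨x, hTW hx⟩, hr _ ?_, rfl⟩
  exact Finset.mem_image.mpr ⟨⟨x, hx⟩, Finset.mem_attach _ _, rfl⟩

end Groth.Agent.H1
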