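import Mathlib
import Groth.Prelude.Def_Curv2
import Groth.Agent.Lib.Helper1.GenFibre
import Groth.Agent.Lib.Helper1.BCStalkRed
import Groth.Agent.Lib.Helper1.RegNormal
import Groth.Agent.Lib.Helper1.SmoothReg
import Groth.Agent.Lib.Helper7.Reg1
import Groth.Agent.Lib.Helper9.Misc.GSB2

set_option autoImplicit false
set_option linter.style.haveILetI false
universe u
open CategoryTheory CategoryTheory.Limits AlgebraicGeometry IsLocalRing TensorProduct TopologicalSpace

namespace Groth.Agent.H1.RatSmooth

/-- `R` a normal local domain with fraction field `F`, containing a field `k` which maps onto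
the residue field. Then `k` is algebraically closed in `F`. -/
theorem mem_range_of_isIntegral_of_residue_surjective
    (k R F : Type*) [Field k] [CommRing R] [IsDomain R] [IsLocalRing R] [IsIntegrallyClosed R]
    [Field F] [Algebra R F] [IsFractionRing R F] [Algebra k R] [Algebra k F] [IsScalarTower k R F]
    (hsurj : Function.Surjective ((IsLocalRing.residue R).comp (algebraMap k R)))
    (b : F) (hb : IsIntegral k b) : b ∈ (algebraMap k F).range := by
  have hbR : IsIntegral R b := hb.tower_top
  obtain ⟨c, hc⟩ := IsIntegrallyClosed.algebraMap_eq_of_integral hbR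
  have hcint : IsIntegral k c :=
    (isIntegral_algebraMap_iff (IsFractionRing.injective R F)).mp (hc ▸ hb)
  obtain ⟨t, ht⟩ := hsurj (IsLocalRing.residue R c)
  have hroot : (minpoly k c).IsRoot t := by
    have h0 : Polynomial.aeval c (minpoly k c) = 0 := minpoly.aeval k c
    have h1 : IsLocalRing.residue R (Polynomial.aeval c (minpoly k c)) = 0 := by
      rw [h0, map_zero]
    rw [Polynomial.aeval_def, Polynomial.hom_eval₂, ← ht, Polynomial.eval₂_at_apply] at h1
    exact (RingHom.injective ((IsLocalRing.residue R).comp (algebraMap k R)))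
      (h1.trans (map_zero _).symm)
  have hdeg : (minpoly k c).degree = 1 :=
    Polynomial.degree_eq_one_of_irreducible_of_root (minpoly.irreducible hcint) hroot
  obtain ⟨s, hs⟩ := minpoly.degree_eq_one_iff.mp hdeg
  exact ⟨s, by rw [IsScalarTower.algebraMap_apply k R F, hs, hc]⟩



variable (k : Type u) [Field k] (X : Scheme.{u}) [X.Over (Spec (CommRingCat.of k))]

attribute [local instance] Curv2.resAlgebra Curv2.stalkAlgebra

theorem stalkMap_specializes {x y : X} (h : x ⤳ y) (t : k) :
    (X.presheaf.stalkSpecializes h).hom (Curv2.stalkMap k X y t) = Curv2.stalkMap k X x t := by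
  show (X.presheaf.stalkSpecializes h).hom ((X.presheaf.germ ⊤ y trivial).hom _) =
    (X.presheaf.germ ⊤ x trivial).hom _
  have := X.presheaf.germ_stalkSpecializes (U := ⊤) (y := y) (by trivial) h
  exact congrArg (fun f => f.hom (Coh.toGlobal (X ↘ Spec (CommRingCat.of k)) t)) this

theorem algClosed_of_rational_regular [IsIntegral X] (x : X)
    (hx : Function.Surjective (Curv2.resMap k X x))
    (hreg : IsRegularLocalRing (X.presheaf.stalk x))
    (a : X.residueField (genericPoint X)) (ha : IsIntegral k a) :
    a ∈ Set.range (algebraMap k (X.residueField (genericPoint X))) := by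
  haveI : IsIntegrallyClosed (X.presheaf.stalk x) := Groth.Agent.H1.Reg.isIntegrallyClosed _
  letI : Algebra k X.functionField := Curv2.stalkAlgebra k X (genericPoint X)
  haveI : IsScalarTower k (X.presheaf.stalk x) X.functionField := by
    apply IsScalarTower.of_algebraMap_eq
    intro t
    exact (stalkMap_specializes k X ((genericPoint_spec X).specializes trivial) t).symm
  obtain ⟨b, rfl⟩ : ∃ b : X.functionField, (X.residue (genericPoint X)).hom b = a :=
    IsLocalRing.residue_surjective a
  let φ : X.functionField →ₐ[k] X.residueField (genericPoint X) :=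
    { toRingHom := (X.residue (genericPoint X)).hom
      commutes' := fun r => rfl }
  have hb : IsIntegral k b := (isIntegral_algHom_iff φ φ.toRingHom.injective).mp ha
  obtain ⟨s, hs⟩ := mem_range_of_isIntegral_of_residue_surjective k (X.presheaf.stalk x)
    X.functionField hx b hb
  exact ⟨s, by rw [← hs]; rfl⟩




theorem s7613 (k : Type u) [Field k] (X : Scheme.{u}) [X.Over (Spec (CommRingCat.of k))]
    [IsIntegral X] [IsSeparated (X ↘ (Spec (CommRingCat.of k)))]
    [LocallyOfFiniteType (X ↘ (Spec (CommRingCat.of k)))]
    [QuasiCompact (X ↘ (Spec (CommRingCat.of k)))]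
    (x : ↥X) (hx : Function.Surjective (Curv2.resMap k X x))
    (hsm : x ∈ (X ↘ (Spec (CommRingCat.of k))).smoothLocus) :
    GeometricallyIntegral (X ↘ (Spec (CommRingCat.of k))) := by
  haveI : LocallyOfFinitePresentation (X ↘ Spec (CommRingCat.of k)) := inferInstance
  have hreg := Groth.Agent.H1.SmoothReg.isRegularLocalRing_of_mem_smoothLocus k
    (X ↘ Spec (CommRingCat.of k)) x hsm
  haveI : GeometricallyIrreducible (X ↘ Spec (CommRingCat.of k)) :=
    Groth.Agent.H1.GenFibre.s1540_mpr k X
      (fun a ha => algClosed_of_rational_regular k X x hx hreg a ha.isIntegral)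
  haveI : GeometricallyReduced (X ↘ Spec (CommRingCat.of k)) := by
    apply Groth.Agent.H1.BCStalk.s1543 k X
    intro Z hZ η hη k' _ _ x' hx'
    have hηsm : η ∈ (X ↘ Spec (CommRingCat.of k)).smoothLocus := by
      rw [irreducibleComponents_eq_singleton, Set.mem_singleton_iff] at hZ
      subst hZ
      exact (hη.mem_open_set_iff (X ↘ Spec (CommRingCat.of k)).smoothLocus.isOpen).mpr
        ⟨x, trivial, hsm⟩
    have hx'sm : x' ∈ (Curv2.bcSnd k X k').smoothLocus :=
      Groth.Agent.H9.GSB.mem_smoothLocus_of_pullback _ _ x' (hx' ▸ hηsm)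
    haveI : LocallyOfFinitePresentation (Curv2.bcSnd k X k') := inferInstance
    have := Groth.Agent.H1.SmoothReg.isRegularLocalRing_of_mem_smoothLocus k'
      (Curv2.bcSnd k X k') x' hx'sm
    haveI := Groth.Agent.H7.Reg.isDomain ((Curv2.bc k X k').presheaf.stalk x')
    infer_instance
  exact GeometricallyIntegral.of_geometricallyReduced_of_geometricallyIrreducible _

end Groth.Agent.H1.RatSmooth
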