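import Groth.Agent.Lib.Helper1.FibDimUV

/-!
# Finite modules over reduced rings with locally constant fibre dimension are flat
-/

set_option autoImplicit false

universe u v w

open TensorProduct

namespace Groth.Agent.H1.FibDimUV

section BaseChange

lemma finrank_tensor_field_ext {A : Type u} [CommRing A] {K K' : Type u} [Field K] [Field K']
    [Algebra A K] [Algebra A K'] [Algebra K K'] [IsScalarTower A K K']
    (M : Type v) [AddCommGroup M] [Module A M] :
    Module.finrank K' (K' ⊗[A] M) = Module.finrank K (K ⊗[A] M) := by
  rw [← Module.finrank_baseChange (R := K') (M' := K ⊗[A] M)]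
  exact (AlgebraTensorModule.cancelBaseChange A K K' K' M).symm.finrank_eq

lemma finrank_tensor_baseChange {A B : Type u} [CommRing A] [CommRing B] [Algebra A B]
    {K' : Type u} [Field K'] [Algebra B K'] [Algebra A K'] [IsScalarTower A B K']
    (M : Type v) [AddCommGroup M] [Module A M] :
    Module.finrank K' (K' ⊗[B] (B ⊗[A] M)) = Module.finrank K' (K' ⊗[A] M) :=
  (AlgebraTensorModule.cancelBaseChange A B K' K' M).finrank_eq

/-- Fibre dimensions are compatible with base change. -/
theorem fibDim_baseChange {A B : Type u} [CommRing A] [CommRing B] [Algebra A B]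
    (M : Type v) [AddCommGroup M] [Module A M] (x' : PrimeSpectrum B) :
    fibDim (A := B) (B ⊗[A] M) x' = fibDim M (PrimeSpectrum.comap (algebraMap A B) x') := by
  let x := PrimeSpectrum.comap (algebraMap A B) x'
  let ψ := Ideal.ResidueField.map x.asIdeal x'.asIdeal (algebraMap A B) rfl
  let _ : Algebra x.asIdeal.ResidueField x'.asIdeal.ResidueField := ψ.toAlgebra
  have : IsScalarTower A x.asIdeal.ResidueField x'.asIdeal.ResidueField := by
    refine IsScalarTower.of_algebraMap_eq fun r => ?_
    rw [IsScalarTower.algebraMap_apply A B x'.asIdeal.ResidueField]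
    exact (Ideal.ResidueField.map_algebraMap x.asIdeal x'.asIdeal (algebraMap A B) rfl r).symm
  unfold fibDim
  rw [finrank_tensor_baseChange, finrank_tensor_field_ext (K := x.asIdeal.ResidueField)]

end BaseChange

section Local

variable {R : Type u} [CommRing R] [IsLocalRing R]

/-- Over a local ring, a finite module with vanishing closed fibre is zero. -/
lemma subsingleton_of_subsingleton_closedFibre (C : Type v) [AddCommGroup C] [Module R C]
    [Module.Finite R C]
    (h : Subsingleton ((IsLocalRing.closedPoint R).asIdeal.ResidueField ⊗[R] C)) :
    Subsingleton C := by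
  rw [← Module.support_eq_empty_iff (R := R)]
  by_contra hne
  obtain ⟨y, hy⟩ := Set.nonempty_iff_ne_empty.2 hne
  have hx : IsLocalRing.closedPoint R ∈ Module.support R C :=
    Module.stableUnderSpecialization_support (IsLocalRing.specializes_closedPoint y) hy
  rw [Module.mem_support_iff_nontrivial_residueField_tensorProduct] at hx
  exact not_subsingleton _ h

/-- If `1 ⊗ v = 0` in `K ⊗ (Fin n → R)` then all coordinates of `v` die in `K`. -/
lemma algebraMap_apply_eq_zero_of_one_tmul_eq_zero {A : Type u} [CommRing A] {K : Type u}
    [Field K] [Algebra A K] {n : ℕ} (v : Fin n → A) (h : (1 : K) ⊗ₜ[A] v = 0) (i : Fin n) :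
    algebraMap A K (v i) = 0 := by
  have h1 : (LinearMap.proj (R := A) (φ := fun _ : Fin n => A) i).baseChange K
      ((1 : K) ⊗ₜ[A] v) = 0 := by rw [h, map_zero]
  rw [LinearMap.baseChange_tmul] at h1
  have h2 := congrArg (TensorProduct.rid A K) h1
  rw [map_zero, TensorProduct.rid_tmul, LinearMap.proj_apply, Algebra.smul_def, mul_one] at h2
  exact h2

/-- A finite module over a reduced local ring whose fibre dimensions at the minimal primes agree
with the one at the closed point is free. -/
theorem free_of_fibDim_minimalPrimes [IsReduced R] (M : Type v) [AddCommGroup M] [Module R M]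
    [Module.Finite R M]
    (h : ∀ q : PrimeSpectrum R, q.asIdeal ∈ minimalPrimes R →
      fibDim M q = fibDim M (IsLocalRing.closedPoint R)) : Module.Free R M := by
  obtain ⟨g, hg⟩ := exists_map_subsingleton_quot (A := R)
    (K := (IsLocalRing.closedPoint R).asIdeal.ResidueField) M
  -- surjectivity
  have hsurj : Function.Surjective g := by
    have := subsingleton_of_subsingleton_closedFibre (M ⧸ LinearMap.range g) hg
    rw [Submodule.Quotient.subsingleton_iff] at this
    exact LinearMap.range_eq_top.1 this
  -- injectivity
  have hinj : Function.Injective g := by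
    rw [injective_iff_map_eq_zero]
    intro v hv
    have hmem : ∀ i, v i ∈ nilradical R := by
      intro i
      rw [nilradical, ← Ideal.sInf_minimalPrimes, Submodule.mem_sInf]
      intro q hq
      have hqp : Ideal.IsPrime q := hq.1.1
      let q' : PrimeSpectrum R := ⟨q, hqp⟩
      have hdim := h q' hq
      have hs : Function.Surjective (g.baseChange q'.asIdeal.ResidueField) := by
        rw [LinearMap.baseChange_eq_ltensor]
        exact LinearMap.lTensor_surjective _ hsurj
      have hfr : Module.finrank q'.asIdeal.ResidueField
          (q'.asIdeal.ResidueField ⊗[R] (Fin (Module.finrank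
            (IsLocalRing.closedPoint R).asIdeal.ResidueField
            ((IsLocalRing.closedPoint R).asIdeal.ResidueField ⊗[R] M)) → R)) =
          Module.finrank q'.asIdeal.ResidueField (q'.asIdeal.ResidueField ⊗[R] M) := by
        rw [Module.finrank_baseChange, Module.finrank_fin_fun]
        exact hdim.symm
      have hi : Function.Injective (g.baseChange q'.asIdeal.ResidueField) :=
        (LinearMap.injective_iff_surjective_of_finrank_eq_finrank hfr).2 hs
      have h0 : (1 : q'.asIdeal.ResidueField) ⊗ₜ[R] v = 0 := by
        apply hi
        rw [LinearMap.baseChange_tmul, hv, tmul_zero, map_zero]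
      have := algebraMap_apply_eq_zero_of_one_tmul_eq_zero v h0 i
      exact Ideal.algebraMap_residueField_eq_zero.1 this
    funext i
    have := hmem i
    rw [nilradical_eq_zero] at this
    exact this
  exact Module.Free.of_equiv (LinearEquiv.ofBijective g ⟨hinj, hsurj⟩)

end Local

section Global

variable {A : Type u} [CommRing A]

lemma fibDim_eq_of_specializes (M : Type v) [AddCommGroup M] [Module A M]
    (h : ∀ x : PrimeSpectrum A, ∀ᶠ y in nhds x, fibDim M y = fibDim M x)
    {x y : PrimeSpectrum A} (hxy : y ⤳ x) : fibDim M y = fibDim M x := by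
  obtain ⟨U, hU, hUo, hxU⟩ := eventually_nhds_iff.1 (h x)
  exact hU y (hxy.mem_open hUo hxU)

/-- A finite module over a reduced ring with locally constant fibre dimension is flat. -/
theorem flat_of_fibDim_locallyConstant [IsReduced A] (M : Type v) [AddCommGroup M] [Module A M]
    [Module.Finite A M]
    (h : ∀ x : PrimeSpectrum A, ∀ᶠ y in nhds x, fibDim M y = fibDim M x) : Module.Flat A M := by
  refine Module.flat_of_isLocalized_maximal A M
    (fun P _ => Localization.AtPrime P ⊗[A] M)
    (fun P _ => TensorProduct.mk A (Localization.AtPrime P) M 1) fun P hP => ?_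
  have hfree : Module.Free (Localization.AtPrime P) (Localization.AtPrime P ⊗[A] M) := by
    refine free_of_fibDim_minimalPrimes _ fun q _ => ?_
    rw [fibDim_baseChange, fibDim_baseChange]
    exact fibDim_eq_of_specializes M h
      ((IsLocalRing.specializes_closedPoint q).map (PrimeSpectrum.continuous_comap _))
  exact Module.Flat.trans A (Localization.AtPrime P) _

/-- Variant: the fibre dimension is constant along specializations. -/
theorem flat_of_fibDim_eq_of_specializes [IsReduced A] (M : Type v) [AddCommGroup M] [Module A M]
    [Module.Finite A M]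
    (h : ∀ x y : PrimeSpectrum A, y ⤳ x → fibDim M y = fibDim M x) : Module.Flat A M := by
  refine Module.flat_of_isLocalized_maximal A M
    (fun P _ => Localization.AtPrime P ⊗[A] M)
    (fun P _ => TensorProduct.mk A (Localization.AtPrime P) M 1) fun P hP => ?_
  have hfree : Module.Free (Localization.AtPrime P) (Localization.AtPrime P ⊗[A] M) := by
    refine free_of_fibDim_minimalPrimes _ fun q _ => ?_
    rw [fibDim_baseChange, fibDim_baseChange]
    exact h _ _
      ((IsLocalRing.specializes_closedPoint q).map (PrimeSpectrum.continuous_comap _))
  exact Module.Flat.trans A (Localization.AtPrime P) _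

end Global

end Groth.Agent.H1.FibDimUV
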