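import Mathlib
open AlgebraicGeometry CategoryTheory Limits TopologicalSpace

namespace Groth.Agent.H1.RS
universe u

theorem isReduced_subscheme_of_isRadical {X : Scheme.{u}} (I : X.IdealSheafData)
    (h : ∀ U : X.affineOpens, (I.ideal U).IsRadical) : AlgebraicGeometry.IsReduced I.subscheme := by
  haveI : ∀ U, AlgebraicGeometry.IsReduced (I.subschemeCover.openCover.X U) := fun U => by
    have := (Ideal.isRadical_iff_quotient_reduced _).mp (h U)
    exact (affine_isReduced_iff (.of (Γ(X, (U : X.affineOpens).1) ⧸ I.ideal U))).mpr this
  exact AlgebraicGeometry.IsReduced.of_openCover (X := I.subscheme) I.subschemeCover.openCover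

end Groth.Agent.H1.RS
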