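import Mathlib

/-!
# Rees algebra of a submodule `F` of an `R`-algebra `B`

`rees F = ⊕_d F^d t^d ⊆ B[t]`, with its natural `ℕ`-grading.
-/

namespace Groth.Agent.H1.ReesSub

open Polynomial DirectSum

variable {R B : Type*} [CommRing R] [CommRing B] [Algebra R B] (F : Submodule R B)

/-- The Rees algebra of a submodule. -/
def rees : Subalgebra R (Polynomial B) where
  carrier := { f | ∀ i, f.coeff i ∈ F ^ i }
  mul_mem' hf hg i := by
    rw [coeff_mul]
    apply Submodule.sum_mem
    rintro ⟨j, k⟩ e
    rw [← Finset.HasAntidiagonal.mem_antidiagonal.mp e, pow_add]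
    exact Submodule.mul_mem_mul (hf j) (hg k)
  one_mem' i := by
    rw [coeff_one]
    split_ifs with h
    · subst h
      rw [pow_zero]
      exact Submodule.one_le.mp le_rfl
    · simp
  add_mem' hf hg i := by
    rw [coeff_add]
    exact Submodule.add_mem _ (hf i) (hg i)
  zero_mem' i := by simp
  algebraMap_mem' r i := by
    rw [Polynomial.algebraMap_apply, coeff_C]
    split_ifs with h
    · subst h
      rw [pow_zero]
      exact Submodule.algebraMap_mem r
    · simp

theorem mem_rees_iff (p : Polynomial B) : p ∈ rees F ↔ ∀ i, p.coeff i ∈ F ^ i := Iff.rfl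

/-- The degree-`d` part of the Rees algebra. -/
def grading (d : ℕ) : Submodule R (rees F) where
  carrier := { p | ∀ e, e ≠ d → (p : Polynomial B).coeff e = 0 }
  add_mem' {p q} hp hq e he := by
    show ((p : Polynomial B) + (q : Polynomial B)).coeff e = 0
    rw [coeff_add, hp e he, hq e he, add_zero]
  zero_mem' e _ := by simp
  smul_mem' r p hp e he := by
    show (r • (p : Polynomial B)).coeff e = 0
    rw [coeff_smul, hp e he, smul_zero]

theorem mem_grading_iff (d : ℕ) (p : rees F) :
    p ∈ grading F d ↔ ∀ e, e ≠ d → (p : Polynomial B).coeff e = 0 := Iff.rfl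

/-- The monomial `c t^d` as an element of the Rees algebra. -/
noncomputable def mono (d : ℕ) (c : B) (hc : c ∈ F ^ d) : rees F :=
  ⟨monomial d c, fun i => by
    rw [coeff_monomial]
    split_ifs with h
    · subst h; exact hc
    · simp⟩

@[simp] theorem coe_mono (d : ℕ) (c : B) (hc : c ∈ F ^ d) :
    ((mono F d c hc : rees F) : Polynomial B) = monomial d c := rfl

theorem mono_mem_grading (d : ℕ) (c : B) (hc : c ∈ F ^ d) : mono F d c hc ∈ grading F d := by
  intro e he
  rw [coe_mono, coeff_monomial, if_neg (Ne.symm he)]

theorem eq_mono_of_mem_grading {d : ℕ} {p : rees F} (hp : p ∈ grading F d) :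
    p = mono F d ((p : Polynomial B).coeff d) (p.2 d) := by
  apply Subtype.ext
  ext e
  rw [coe_mono, coeff_monomial]
  split_ifs with h
  · subst h; rfl
  · exact hp e (Ne.symm h)

theorem mono_mul (d e : ℕ) (c c' : B) (hc : c ∈ F ^ d) (hc' : c' ∈ F ^ e) :
    mono F d c hc * mono F e c' hc' =
      mono F (d + e) (c * c') (by rw [pow_add]; exact Submodule.mul_mem_mul hc hc') := by
  apply Subtype.ext
  show monomial d c * monomial e c' = monomial (d + e) (c * c')
  rw [monomial_mul_monomial]

theorem mono_add (d : ℕ) (c c' : B) (hc : c ∈ F ^ d) (hc' : c' ∈ F ^ d) :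
    mono F d c hc + mono F d c' hc' = mono F d (c + c') (Submodule.add_mem _ hc hc') := by
  apply Subtype.ext
  show monomial d c + monomial d c' = monomial d (c + c')
  rw [map_add]

theorem mono_smul (d : ℕ) (r : R) (c : B) (hc : c ∈ F ^ d) :
    r • mono F d c hc = mono F d (r • c) (Submodule.smul_mem _ r hc) := by
  apply Subtype.ext
  show r • monomial d c = monomial d (r • c)
  rw [smul_monomial]

theorem mono_zero_eq (d : ℕ) : mono F d 0 (Submodule.zero_mem _) = 0 := by
  apply Subtype.ext
  show monomial d (0 : B) = 0
  simp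

theorem algebraMap_eq_mono (r : R) :
    algebraMap R (rees F) r = mono F 0 (algebraMap R B r)
      (by rw [pow_zero]; exact Submodule.algebraMap_mem r) := by
  apply Subtype.ext
  show algebraMap R (Polynomial B) r = monomial 0 (algebraMap R B r)
  rw [Polynomial.algebraMap_apply, monomial_zero_left]

instance gradedMonoid : SetLike.GradedMonoid (grading F) where
  one_mem := by
    intro e he
    show (1 : Polynomial B).coeff e = 0
    rw [coeff_one, if_neg he]
  mul_mem := by
    intro i j p q hp hq e he
    show ((p : Polynomial B) * (q : Polynomial B)).coeff e = 0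
    rw [coeff_mul]
    apply Finset.sum_eq_zero
    rintro ⟨a, b⟩ hab
    rw [Finset.HasAntidiagonal.mem_antidiagonal] at hab
    by_cases ha : a = i
    · by_cases hb : b = j
      · exfalso; apply he; rw [← hab, ha, hb]
      · rw [hq b hb, mul_zero]
    · rw [hp a ha, zero_mul]

/-- The `d`-th homogeneous component of an element. -/
noncomputable def comp (p : rees F) (d : ℕ) : grading F d :=
  ⟨mono F d ((p : Polynomial B).coeff d) (p.2 d), mono_mem_grading F d _ _⟩

/-- The decomposition map. -/
noncomputable def decomp (p : rees F) : ⨁ d, grading F d :=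
  ∑ d ∈ (p : Polynomial B).support, DirectSum.of (fun i => grading F i) d (comp F p d)

theorem coe_decomp (p : rees F) : DirectSum.coeAddMonoidHom (grading F) (decomp F p) = p := by
  rw [decomp, map_sum]
  simp only [DirectSum.coeAddMonoidHom_of]
  apply Subtype.ext
  rw [AddSubmonoidClass.coe_finsetSum]
  simp only [comp, coe_mono]
  conv_rhs => rw [← Polynomial.sum_monomial_eq (p : Polynomial B)]
  rfl

theorem coeff_coe (x : ⨁ d, grading F d) (d : ℕ) :
    ((DirectSum.coeAddMonoidHom (grading F) x : rees F) : Polynomial B).coeff d =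
      (((x d : grading F d) : rees F) : Polynomial B).coeff d := by
  induction x using DirectSum.induction_on with
  | zero => simp
  | of i a =>
    rw [DirectSum.coeAddMonoidHom_of]
    by_cases h : i = d
    · subst h; rw [DirectSum.of_eq_same]
    · rw [DirectSum.of_eq_of_ne _ _ _ (Ne.symm h)]
      have := a.2 d (Ne.symm h)
      rw [this]; simp
  | add x y hx hy =>
    rw [map_add, DirectSum.add_apply]
    show ((DirectSum.coeAddMonoidHom (grading F) x : rees F) : Polynomial B).coeff d +
      ((DirectSum.coeAddMonoidHom (grading F) y : rees F) : Polynomial B).coeff d = _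
    rw [hx, hy]
    rfl

theorem coe_injective : Function.Injective (DirectSum.coeAddMonoidHom (grading F)) := by
  intro x y hxy
  apply DFinsupp.ext
  intro d
  have h1 := coeff_coe F x d
  have h2 := coeff_coe F y d
  rw [hxy, h2] at h1
  apply Subtype.ext
  rw [eq_mono_of_mem_grading F (x d).2, eq_mono_of_mem_grading F (y d).2]
  apply Subtype.ext
  show monomial d _ = monomial d _
  rw [h1]

noncomputable instance decomposition : DirectSum.Decomposition (grading F) where
  decompose' := decomp F
  left_inv := coe_decomp F
  right_inv x := coe_injective F (coe_decomp F _)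

noncomputable instance gradedAlgebra : GradedAlgebra (grading F) where
  toGradedMonoid := gradedMonoid F
  toDecomposition := decomposition F

theorem mem_range_algebraMap_of_mem_grading_zero (p : rees F) (hp : p ∈ grading F 0) :
    p ∈ Set.range (algebraMap R (rees F)) := by
  have h0 := p.2 0
  rw [pow_zero, Submodule.one_eq_range] at h0
  obtain ⟨r, hr⟩ := h0
  refine ⟨r, ?_⟩
  rw [algebraMap_eq_mono, eq_mono_of_mem_grading F hp]
  apply Subtype.ext
  show monomial 0 _ = monomial 0 _
  rw [← hr]; rfl

theorem algebraMap_injective (h : Function.Injective (algebraMap R B)) :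
    Function.Injective (algebraMap R (rees F)) := by
  intro r r' hrr'
  apply h
  have := congrArg (fun p : rees F => (p : Polynomial B).coeff 0) hrr'
  simpa [algebraMap_eq_mono] using this

/-- The Rees algebra is generated by degree one monomials. -/
theorem mono_mem_adjoin (s : Set B) (hs : Submodule.span R s = F) (d : ℕ) (c : B) (hc : c ∈ F ^ d) :
    mono F d c hc ∈ Algebra.adjoin R
      {p : rees F | ∃ (b : B) (hb : b ∈ s), p = mono F 1 b
        (by rw [pow_one, ← hs]; exact Submodule.subset_span hb)} := by
  induction d generalizing c with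
  | zero =>
    have h0 := hc
    rw [pow_zero, Submodule.one_eq_range] at h0
    obtain ⟨r, rfl⟩ := h0
    have : mono F 0 (Algebra.linearMap R B r) hc = algebraMap R (rees F) r := by
      rw [algebraMap_eq_mono]; rfl
    rw [this]
    exact Subalgebra.algebraMap_mem _ r
  | succ d ih =>
    have hc' : c ∈ F ^ d * F := by rw [← pow_succ]; exact hc
    have hmem : ∀ c, c ∈ F ^ d * F → c ∈ F ^ (d + 1) := fun c h => by rw [pow_succ]; exact h
    suffices H : ∀ (c : B) (hc' : c ∈ F ^ d * F), mono F (d + 1) c (hmem c hc') ∈ Algebra.adjoin R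
      {p : rees F | ∃ (b : B) (hb : b ∈ s), p = mono F 1 b
        (by rw [pow_one, ← hs]; exact Submodule.subset_span hb)} from H c hc'
    intro c hc'
    refine Submodule.mul_induction_on' (C := fun c hc' => mono F (d + 1) c (hmem c hc') ∈
      Algebra.adjoin R {p : rees F | ∃ (b : B) (hb : b ∈ s), p = mono F 1 b
        (by rw [pow_one, ← hs]; exact Submodule.subset_span hb)}) ?_ ?_ hc'
    · intro a ha b hb
      have hb1 : b ∈ F ^ 1 := by rw [pow_one]; exact hb
      have e1 : mono F (d + 1) (a * b) (hmem _ (Submodule.mul_mem_mul ha hb)) =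
          mono F d a ha * mono F 1 b hb1 := by
        rw [mono_mul]
      show mono F (d + 1) (a * b) _ ∈ _
      rw [e1]
      refine Subalgebra.mul_mem _ (ih a ha) ?_
      -- b ∈ F = span s
      suffices H2 : ∀ b ∈ Submodule.span R s, ∀ h : b ∈ F ^ 1, mono F 1 b h ∈ Algebra.adjoin R
        {p : rees F | ∃ (b : B) (hb : b ∈ s), p = mono F 1 b
          (by rw [pow_one, ← hs]; exact Submodule.subset_span hb)} from H2 b (hs ▸ hb) hb1
      intro b hb
      induction hb using Submodule.span_induction with
      | mem x hx => intro h; exact Algebra.subset_adjoin ⟨x, hx, rfl⟩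
      | zero => intro h; rw [mono_zero_eq]; exact Subalgebra.zero_mem _
      | add x y hx hy ihx ihy =>
        intro h
        have hx1 : x ∈ F ^ 1 := by rw [pow_one, ← hs]; exact hx
        have hy1 : y ∈ F ^ 1 := by rw [pow_one, ← hs]; exact hy
        have : mono F 1 (x + y) h = mono F 1 x hx1 + mono F 1 y hy1 := by rw [mono_add]
        rw [this]
        exact Subalgebra.add_mem _ (ihx hx1) (ihy hy1)
      | smul r x hx ihx =>
        intro h
        have hx1 : x ∈ F ^ 1 := by rw [pow_one, ← hs]; exact hx
        have : mono F 1 (r • x) h = r • mono F 1 x hx1 := by rw [mono_smul]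
        rw [this]
        exact Subalgebra.smul_mem _ (ihx hx1) r
    · intro x hx y hy ihx ihy
      have : mono F (d + 1) (x + y) (hmem _ (Submodule.add_mem _ hx hy)) =
          mono F (d + 1) x (hmem x hx) + mono F (d + 1) y (hmem y hy) := by
        rw [mono_add]
      show mono F (d + 1) (x + y) _ ∈ _
      rw [this]
      exact Subalgebra.add_mem _ ihx ihy

theorem adjoin_eq_top (s : Set B) (hs : Submodule.span R s = F) :
    Algebra.adjoin R {p : rees F | ∃ (b : B) (hb : b ∈ s), p = mono F 1 b
        (by rw [pow_one, ← hs]; exact Submodule.subset_span hb)} = ⊤ := by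
  rw [eq_top_iff]
  rintro p -
  have hp : p = ∑ d ∈ (p : Polynomial B).support, mono F d ((p : Polynomial B).coeff d) (p.2 d) := by
    apply Subtype.ext
    rw [AddSubmonoidClass.coe_finsetSum]
    simp only [coe_mono]
    conv_lhs => rw [← Polynomial.sum_monomial_eq (p : Polynomial B)]
    rfl
  rw [hp]
  exact Subalgebra.sum_mem _ fun d _ => mono_mem_adjoin F s hs d _ _

end Groth.Agent.H1.ReesSub
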