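import Mathlib
import Groth.Agent.Lib.Helper1.RefNN

/-!
# Refined Noether normalization, part B
-/

universe u

namespace Groth.Agent.H1.RefNN

open Polynomial

theorem finite_of_adjoin_integral {A B : Type*} [CommRing A] [CommRing B] (θ : A →+* B)
    (s : Set B) (hs : s.Finite) (hint : ∀ x ∈ s, θ.IsIntegralElem x)
    (hgen : ∀ b : B, b ∈ Subring.closure (Set.range θ ∪ s)) : θ.Finite := by
  algebraize [θ]
  have h1 : Algebra.adjoin A s = ⊤ := by
    rw [eq_top_iff]
    intro b _
    have hb := hgen b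
    clear hgen
    induction hb using Subring.closure_induction with
    | mem x hx =>
      rcases hx with ⟨a, rfl⟩ | hx
      · exact Subalgebra.algebraMap_mem _ a
      · exact Algebra.subset_adjoin hx
    | zero => exact Subalgebra.zero_mem _
    | one => exact Subalgebra.one_mem _
    | add x y _ _ hx hy => exact Subalgebra.add_mem _ (hx trivial) (hy trivial)
    | neg x _ hx => exact Subalgebra.neg_mem _ (hx trivial)
    | mul x y _ _ hx hy => exact Subalgebra.mul_mem _ (hx trivial) (hy trivial)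
  have h2 : Module.Finite A (Algebra.adjoin A s) :=
    Algebra.finite_adjoin_of_finite_of_isIntegral hs (fun x hx => hint x hx)
  rw [h1] at h2
  have : Module.Finite A B := Module.Finite.equiv (Subalgebra.topEquiv (R := A) (A := B)).toLinearEquiv
  exact RingHom.finite_algebraMap.mpr this

theorem finite_aeval_monic {R : Type*} [CommRing R] [Nontrivial R] (F : R[X]) (hF : F.Monic)
    (hdeg : 0 < F.natDegree) : ((aeval F : R[X] →ₐ[R] R[X]) : R[X] →+* R[X]).Finite := by
  set ψ : R[X] →+* R[X] := ((aeval F : R[X] →ₐ[R] R[X]) : R[X] →+* R[X]) with hψ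
  have hψC : ∀ a : R, ψ (C a) = C a := fun a => by simp [hψ]
  have hψX : ψ X = F := by simp [hψ]
  refine finite_of_adjoin_integral ψ {X} (Set.finite_singleton _) ?_ ?_
  · rintro x rfl
    refine ⟨F.map (C : R →+* R[X]) - C X, ?_, ?_⟩
    · have hm : (F.map (C : R →+* R[X])).Monic := hF.map _
      refine hm.sub_of_left ?_
      rw [degree_C (X_ne_zero), Polynomial.degree_eq_natDegree hm.ne_zero, hF.natDegree_map]
      exact_mod_cast hdeg
    · rw [eval₂_sub, eval₂_C, hψX, eval₂_map]
      have : ψ.comp (C : R →+* R[X]) = C := by ext a; simp [hψC]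
      rw [this, eval₂_C_X, sub_self]
  · intro b
    induction b using Polynomial.induction_on' with
    | add p q hp hq => exact add_mem hp hq
    | monomial n a =>
      rw [← C_mul_X_pow_eq_monomial]
      have hX : (X : R[X]) ∈ Subring.closure (Set.range ψ ∪ {X}) :=
        Subring.subset_closure (Or.inr rfl)
      have hC : (C a : R[X]) ∈ Subring.closure (Set.range ψ ∪ {X}) :=
        Subring.subset_closure (Or.inl ⟨C a, hψC a⟩)
      exact mul_mem hC (pow_mem hX _)

theorem finite_mapRingHom {R R' : Type*} [CommRing R] [CommRing R'] (φ₀ : R →+* R')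
    (h : φ₀.Finite) : (Polynomial.mapRingHom φ₀).Finite := by
  algebraize [φ₀]
  have hfin : Module.Finite R R' := h
  obtain ⟨t, ht⟩ := hfin.fg_top
  have hint0 : φ₀.IsIntegral := h.to_isIntegral
  refine finite_of_adjoin_integral (Polynomial.mapRingHom φ₀) ((C : R' →+* R'[X]) '' (t : Set R'))
    ((Finset.finite_toSet t).image _) ?_ ?_
  · rintro _ ⟨b, _, rfl⟩
    obtain ⟨p, hp, hpb⟩ := hint0 b
    refine ⟨p.map (C : R →+* R[X]), hp.map _, ?_⟩
    rw [eval₂_map]
    have : (Polynomial.mapRingHom φ₀).comp (C : R →+* R[X]) = (C : R' →+* R'[X]).comp φ₀ := by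
      ext a; simp
    rw [this, ← Polynomial.hom_eval₂, hpb, map_zero]
  · intro b
    set Sc := Subring.closure (Set.range (Polynomial.mapRingHom φ₀) ∪ (C : R' →+* R'[X]) '' (t : Set R'))
      with hSc
    have hC : ∀ b' : R', (C b' : R'[X]) ∈ Sc := by
      intro b'
      have hb' : b' ∈ Submodule.span R (t : Set R') := by rw [ht]; trivial
      induction hb' using Submodule.span_induction with
      | mem x hx => exact Subring.subset_closure (Or.inr ⟨x, hx, rfl⟩)
      | zero => simp
      | add x y _ _ hx hy => rw [map_add]; exact add_mem hx hy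
      | smul a x _ hx =>
        rw [Algebra.smul_def, map_mul]
        refine mul_mem (Subring.subset_closure (Or.inl ⟨C a, ?_⟩)) hx
        simp [RingHom.algebraMap_toAlgebra]
    have hX : (X : R'[X]) ∈ Sc := Subring.subset_closure (Or.inl ⟨X, by simp⟩)
    induction b using Polynomial.induction_on' with
    | add p q hp hq => exact add_mem hp hq
    | monomial n a =>
      rw [← C_mul_X_pow_eq_monomial]
      exact mul_mem (hC a) (pow_mem hX _)

theorem step_poly {R : Type*} [CommRing R] (Q : Ideal R[X]) [hQ : Q.IsPrime] (F : R[X])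
    (hF : F.Monic) (hFQ : F ∈ Q) (φ₀ : R →+* R) (hφ₀ : φ₀.Finite) :
    ((((aeval F : R[X] →ₐ[R] R[X]) : R[X] →+* R[X]).comp (Polynomial.mapRingHom φ₀)).Finite) ∧
    ∀ g : R[X], (((aeval F : R[X] →ₐ[R] R[X]) : R[X] →+* R[X]).comp (Polynomial.mapRingHom φ₀)) g ∈ Q ↔
      g.coeff 0 ∈ (Q.comap (C : R →+* R[X])).comap φ₀ := by
  have hnt : Nontrivial R := by
    by_contra h
    rw [not_nontrivial_iff_subsingleton] at h
    exact hQ.ne_top (Ideal.eq_top_of_isUnit_mem _ hFQ (isUnit_of_subsingleton _))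
  have hdeg : 0 < F.natDegree := by
    by_contra h
    have h0 : F.natDegree = 0 := by omega
    have : F = 1 := by
      rw [Polynomial.eq_C_of_natDegree_eq_zero h0]
      have := hF.coeff_natDegree
      rw [h0] at this
      rw [this, map_one]
    rw [this] at hFQ
    exact hQ.ne_top ((Ideal.eq_top_iff_one _).mpr hFQ)
  refine ⟨(finite_aeval_monic F hF hdeg).comp (finite_mapRingHom φ₀ hφ₀), ?_⟩
  intro g
  simp only [RingHom.comp_apply, Ideal.mem_comap, Polynomial.coe_mapRingHom]
  set h := g.map φ₀ with hh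
  have h1 : h = C (h.coeff 0) + X * h.divX := by
    conv_lhs => rw [← Polynomial.divX_mul_X_add h]
    ring
  have h2 : ((aeval F : R[X] →ₐ[R] R[X]) : R[X] →+* R[X]) h = C (h.coeff 0) + F * aeval F h.divX := by
    conv_lhs => rw [h1]
    simp
  rw [h2, hh, Polynomial.coeff_map]
  constructor
  · intro hm
    have := Q.sub_mem hm (Q.mul_mem_right (aeval F (map φ₀ g).divX) hFQ)
    simpa using this
  · intro hm
    exact Q.add_mem hm (Q.mul_mem_right _ hFQ)

section mv

variable (k : Type*) [Field k]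

theorem step_mv (n : ℕ)
    (IH : ∀ (q₀ : Ideal (MvPolynomial (Fin n) k)) [q₀.IsPrime],
      ∃ (φ₀ : MvPolynomial (Fin n) k →ₐ[k] MvPolynomial (Fin n) k) (S₀ : Set (Fin n)),
        φ₀.toRingHom.Finite ∧ q₀.comap φ₀ = Ideal.span (MvPolynomial.X '' S₀))
    (q : Ideal (MvPolynomial (Fin (n + 1)) k)) [hq : q.IsPrime] (hq0 : q ≠ ⊥) :
    ∃ (φ : MvPolynomial (Fin (n + 1)) k →ₐ[k] MvPolynomial (Fin (n + 1)) k) (S : Set (Fin (n + 1))),
        φ.toRingHom.Finite ∧ q.comap φ = Ideal.span (MvPolynomial.X '' S) := by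
  classical
  obtain ⟨f, hfq, hf0⟩ : ∃ f ∈ q, f ≠ 0 := by
    by_contra h
    push Not at h
    exact hq0 ((Submodule.eq_bot_iff _).mpr h)
  obtain ⟨σ, hu⟩ := exists_algEquiv_isUnit_leadingCoeff f hf0
  set e := MvPolynomial.finSuccEquiv k n with he
  -- the back map R[X] → P
  set back : (MvPolynomial (Fin n) k)[X] →ₐ[k] MvPolynomial (Fin (n + 1)) k :=
    σ.symm.toAlgHom.comp e.symm.toAlgHom with hback
  set Q : Ideal (MvPolynomial (Fin n) k)[X] := q.comap back with hQdef
  haveI hQ : Q.IsPrime := Ideal.comap_isPrime _ _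
  set G := e (σ f) with hG
  set F := hu.unit⁻¹ • G with hFdef
  have hFm : F.Monic := Polynomial.monic_of_isUnit_leadingCoeff_inv_smul hu
  have hGQ : G ∈ Q := by
    change back G ∈ q
    simp [hback, hG, hfq]
  have hFQ : F ∈ Q := by
    rw [hFdef, Units.smul_def, Polynomial.smul_eq_C_mul]
    exact Q.mul_mem_left _ hGQ
  set q₀ : Ideal (MvPolynomial (Fin n) k) := Q.comap (C : _ →+* _) with hq₀
  haveI : q₀.IsPrime := Ideal.comap_isPrime _ _
  obtain ⟨φ₀, S₀, hφ₀, hS₀⟩ := IH q₀
  obtain ⟨hfin, hmem⟩ := step_poly Q F hFm hFQ φ₀.toRingHom hφ₀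
  -- the total map
  set Θ : (MvPolynomial (Fin n) k)[X] →ₐ[k] (MvPolynomial (Fin n) k)[X] :=
    ((aeval F : _ →ₐ[MvPolynomial (Fin n) k] _).restrictScalars k).comp (Polynomial.mapAlgHom φ₀)
    with hΘ
  have hΘr : (Θ : (MvPolynomial (Fin n) k)[X] →+* (MvPolynomial (Fin n) k)[X]) =
      ((aeval F : (MvPolynomial (Fin n) k)[X] →ₐ[MvPolynomial (Fin n) k] (MvPolynomial (Fin n) k)[X]) :
      (MvPolynomial (Fin n) k)[X] →+* (MvPolynomial (Fin n) k)[X]).comp
        (Polynomial.mapRingHom φ₀.toRingHom) := by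
    ext <;> simp [hΘ]
  set φ : MvPolynomial (Fin (n + 1)) k →ₐ[k] MvPolynomial (Fin (n + 1)) k :=
    (back.comp Θ).comp e.toAlgHom with hφ
  refine ⟨φ, insert 0 (Fin.succ '' S₀), ?_, ?_⟩
  · have h1 : e.toAlgHom.toRingHom.Finite := RingHom.Finite.of_surjective _ e.surjective
    have h2 : Θ.toRingHom.Finite := by
      have : Θ.toRingHom = (Θ : (MvPolynomial (Fin n) k)[X] →+* (MvPolynomial (Fin n) k)[X]) := rfl
      rw [this, hΘr]; exact hfin
    have h3 : back.toRingHom.Finite := by
      refine RingHom.Finite.of_surjective _ ?_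
      intro x
      refine ⟨e (σ x), ?_⟩
      simp [hback]
    exact (h3.comp h2).comp h1
  · -- membership criterion
    have hcrit : ∀ p, p ∈ q.comap φ ↔ (e p).coeff 0 ∈ Ideal.span (MvPolynomial.X '' S₀) := by
      intro p
      rw [← hS₀]
      have := hmem (e p)
      rw [← hΘr] at this
      exact this
    set κ : MvPolynomial (Fin (n + 1)) k →+* MvPolynomial (Fin n) k :=
      (Polynomial.constantCoeff).comp e.toAlgHom.toRingHom with hκ
    have hκp : ∀ p, κ p = (e p).coeff 0 := fun p => rfl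
    apply le_antisymm
    · intro p hp
      rw [hcrit, ← hκp] at hp
      have h1 : e p = C (κ p) + X * (e p).divX := by
        conv_lhs => rw [← Polynomial.divX_mul_X_add (e p)]
        rw [hκp]; ring
      have h2 : p = e.symm (C (κ p)) + MvPolynomial.X 0 * e.symm ((e p).divX) := by
        apply e.injective
        rw [map_add, map_mul, AlgEquiv.apply_symm_apply, AlgEquiv.apply_symm_apply, he,
          MvPolynomial.finSuccEquiv_X_zero]
        exact h1
      rw [h2]
      refine Ideal.add_mem _ ?_ (Ideal.mul_mem_right _ _ (Ideal.subset_span ⟨0, Set.mem_insert _ _, rfl⟩))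
      -- e.symm ∘ C maps span(X '' S₀) into the target
      set θ : MvPolynomial (Fin n) k →+* MvPolynomial (Fin (n + 1)) k :=
        e.symm.toAlgHom.toRingHom.comp (C : _ →+* _) with hθ
      have hle : (Ideal.span (MvPolynomial.X '' S₀)).map θ ≤
          Ideal.span (MvPolynomial.X '' (insert 0 (Fin.succ '' S₀))) := by
        rw [Ideal.map_span]
        apply Ideal.span_mono
        rintro _ ⟨_, ⟨i, hi, rfl⟩, rfl⟩
        refine ⟨Fin.succ i, Set.mem_insert_of_mem _ ⟨i, hi, rfl⟩, ?_⟩
        change _ = e.symm (C (MvPolynomial.X i))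
        rw [AlgEquiv.eq_symm_apply, he, MvPolynomial.finSuccEquiv_X_succ]
      exact hle (Ideal.mem_map_of_mem θ hp)
    · rw [Ideal.span_le]
      rintro _ ⟨j, hj, rfl⟩
      change _ ∈ q.comap φ
      rw [hcrit]
      rcases hj with rfl | ⟨i, hi, rfl⟩
      · rw [he, MvPolynomial.finSuccEquiv_X_zero]; simp
      · rw [he, MvPolynomial.finSuccEquiv_X_succ]
        simp only [Polynomial.coeff_C_zero]
        exact Ideal.subset_span ⟨i, hi, rfl⟩

end mv

theorem trdeg_quotient_comap_eq {k : Type u} {A B : Type u} [Field k] [CommRing A] [CommRing B]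
    [Algebra k A] [Algebra k B] [Algebra A B] [IsScalarTower k A B] [Algebra.IsIntegral A B]
    (q : Ideal B) [hq : q.IsPrime] :
    Algebra.trdeg k (A ⧸ q.comap (algebraMap A B)) = Algebra.trdeg k q.ResidueField := by
  set p := q.comap (algebraMap A B) with hp
  haveI : p.IsPrime := Ideal.comap_isPrime _ _
  letI : Algebra (A ⧸ p) q.ResidueField :=
    ((algebraMap (B ⧸ q) q.ResidueField).comp (algebraMap (A ⧸ p) (B ⧸ q))).toAlgebra
  haveI : IsScalarTower (A ⧸ p) (B ⧸ q) q.ResidueField := .of_algebraMap_eq (fun _ => rfl)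
  haveI : IsScalarTower k (A ⧸ p) q.ResidueField := by
    refine .of_algebraMap_eq (fun c => ?_)
    rw [IsScalarTower.algebraMap_apply (A ⧸ p) (B ⧸ q) q.ResidueField,
      ← IsScalarTower.algebraMap_apply k (A ⧸ p) (B ⧸ q),
      ← IsScalarTower.algebraMap_apply k (B ⧸ q) q.ResidueField]
  haveI : Algebra.IsAlgebraic (A ⧸ p) (B ⧸ q) := Algebra.IsIntegral.isAlgebraic
  haveI : Algebra.IsAlgebraic (A ⧸ p) q.ResidueField := Algebra.IsAlgebraic.trans (A ⧸ p) (B ⧸ q) _
  have hinj1 : Function.Injective (algebraMap (A ⧸ p) (B ⧸ q)) :=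
    Ideal.algebraMap_quotient_injective
  have hinj2 : Function.Injective (algebraMap (A ⧸ p) q.ResidueField) := by
    rw [IsScalarTower.algebraMap_eq (A ⧸ p) (B ⧸ q) q.ResidueField]
    exact (Ideal.injective_algebraMap_quotient_residueField (I := q)).comp hinj1
  haveI : FaithfulSMul (A ⧸ p) q.ResidueField := (faithfulSMul_iff_algebraMap_injective _ _).mpr hinj2
  haveI : FaithfulSMul k (A ⧸ p) :=
    (faithfulSMul_iff_algebraMap_injective _ _).mpr (algebraMap k (A ⧸ p)).injective
  have h := trdeg_add_eq k (A ⧸ p) (A := q.ResidueField)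
  rw [trdeg_eq_zero (R := A ⧸ p) (A := q.ResidueField), add_zero] at h
  exact h

theorem trdeg_quotient_comap_eq' {k : Type u} {A B : Type u} [Field k] [CommRing A] [CommRing B]
    [Algebra k A] [Algebra k B] (φ : A →ₐ[k] B) (hφ : φ.toRingHom.IsIntegral)
    (q : Ideal B) [hq : q.IsPrime] :
    Algebra.trdeg k (A ⧸ q.comap φ.toRingHom) = Algebra.trdeg k q.ResidueField := by
  letI : Algebra A B := φ.toRingHom.toAlgebra
  haveI : IsScalarTower k A B := .of_algebraMap_eq (fun c => (φ.commutes c).symm)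
  haveI : Algebra.IsIntegral A B := ⟨hφ⟩
  exact trdeg_quotient_comap_eq q

section final

variable (k : Type u) [Field k]

theorem trdeg_quotient_span_X (n : ℕ) (S : Set (Fin n)) :
    Algebra.trdeg k (MvPolynomial (Fin n) k ⧸ Ideal.span (MvPolynomial.X '' S : Set (MvPolynomial (Fin n) k))) =
      (Nat.card ↥(Sᶜ) : Cardinal.{u}) := by
  classical
  set I : Ideal (MvPolynomial (Fin n) k) := Ideal.span (MvPolynomial.X '' S) with hI
  set ι : ↥(Sᶜ) → Fin n := Subtype.val with hι
  have hιinj : Function.Injective ι := Subtype.val_injective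
  set g : MvPolynomial ↥(Sᶜ) k →ₐ[k] (MvPolynomial (Fin n) k ⧸ I) :=
    (Ideal.Quotient.mkₐ k I).comp (MvPolynomial.rename ι) with hg
  have hkill : ∀ x ∈ I, MvPolynomial.killCompl hιinj x = 0 := by
    intro x hx
    have : I.map (MvPolynomial.killCompl hιinj : MvPolynomial (Fin n) k →ₐ[k] _) = ⊥ := by
      rw [hI, Ideal.map_span, Ideal.span_eq_bot]
      rintro _ ⟨_, ⟨i, hi, rfl⟩, rfl⟩
      have hni : i ∉ Set.range ι := by
        rintro ⟨⟨j, hj⟩, rfl⟩
        exact hj hi
      rw [MvPolynomial.killCompl, MvPolynomial.aeval_X, dif_neg hni]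
    have h2 := Ideal.mem_map_of_mem (MvPolynomial.killCompl hιinj : MvPolynomial (Fin n) k →ₐ[k] _) hx
    rw [this] at h2
    simpa using h2
  have hginj : Function.Injective g := by
    rw [injective_iff_map_eq_zero]
    intro p hp
    have h1 : MvPolynomial.rename ι p ∈ I := by
      simpa [hg, Ideal.Quotient.eq_zero_iff_mem] using hp
    have := hkill _ h1
    rwa [MvPolynomial.killCompl_rename_app] at this
  have hgsurj : Function.Surjective g := by
    intro y
    obtain ⟨p, rfl⟩ := Ideal.Quotient.mk_surjective y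
    induction p using MvPolynomial.induction_on with
    | C a => exact ⟨MvPolynomial.C a, by simp [hg]; rfl⟩
    | add p q hp hq =>
      obtain ⟨a, ha⟩ := hp
      obtain ⟨b, hb⟩ := hq
      exact ⟨a + b, by rw [map_add, ha, hb, map_add]⟩
    | mul_X p i hp =>
      obtain ⟨a, ha⟩ := hp
      by_cases hi : i ∈ S
      · refine ⟨0, ?_⟩
        rw [map_zero, map_mul]
        have : Ideal.Quotient.mk I (MvPolynomial.X i) = 0 :=
          Ideal.Quotient.eq_zero_iff_mem.mpr (Ideal.subset_span ⟨i, hi, rfl⟩)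
        rw [this, mul_zero]
      · refine ⟨a * MvPolynomial.X ⟨i, hi⟩, ?_⟩
        rw [map_mul, ha, map_mul]
        congr 1
        simp [hg, hι]
  have e : MvPolynomial ↥(Sᶜ) k ≃ₐ[k] (MvPolynomial (Fin n) k ⧸ I) :=
    AlgEquiv.ofBijective g ⟨hginj, hgsurj⟩
  rw [← e.trdeg_eq, MvPolynomial.trdeg_of_isDomain]
  simp

theorem exists_finite_comap_eq_span : ∀ (n : ℕ) (q : Ideal (MvPolynomial (Fin n) k)) [q.IsPrime],
    ∃ (φ : MvPolynomial (Fin n) k →ₐ[k] MvPolynomial (Fin n) k) (S : Set (Fin n)),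
      φ.toRingHom.Finite ∧ q.comap φ = Ideal.span (MvPolynomial.X '' S) := by
  intro n
  induction n with
  | zero =>
    intro q hq
    refine ⟨AlgHom.id k _, ∅, RingHom.Finite.id _, ?_⟩
    rw [Set.image_empty, Ideal.span_empty]
    rw [eq_bot_iff]
    intro x hx
    change x ∈ q at hx
    rw [Ideal.mem_bot]
    by_contra hx0
    have hxC := MvPolynomial.eq_C_of_isEmpty x
    have hc : MvPolynomial.coeff 0 x ≠ 0 := by
      intro h0; apply hx0; rw [hxC, h0, map_zero]
    have hu : IsUnit x := by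
      rw [hxC]; exact (isUnit_iff_ne_zero.mpr hc).map MvPolynomial.C
    exact hq.ne_top (Ideal.eq_top_of_isUnit_mem _ hx hu)
  | succ n IH =>
    intro q hq
    by_cases hq0 : q = ⊥
    · refine ⟨AlgHom.id k _, ∅, RingHom.Finite.id _, ?_⟩
      rw [Set.image_empty, Ideal.span_empty, hq0]
      ext x; simp
    · exact step_mv k n (fun q₀ _ => IH q₀) q hq0

theorem refined_noether (n r : ℕ) (q : Ideal (MvPolynomial (Fin n) k))
    [q.IsPrime] (hr : Algebra.trdeg k q.ResidueField = r) :
    ∃ φ : MvPolynomial (Fin n) k →ₐ[k] MvPolynomial (Fin n) k, φ.toRingHom.Finite ∧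
      q.comap φ = Ideal.span (Set.range fun i : {i : Fin n // r ≤ (i : ℕ)} => MvPolynomial.X (i : Fin n)) := by
  classical
  obtain ⟨φ, S, hφ, hS⟩ := exists_finite_comap_eq_span k n q
  -- count
  have hcard : Nat.card ↥(Sᶜ) = r := by
    have h1 := trdeg_quotient_comap_eq' φ hφ.to_isIntegral q
    have h2 : q.comap φ.toRingHom = Ideal.span (MvPolynomial.X '' S) := by
      rw [← hS]; rfl
    rw [h2, trdeg_quotient_span_X, hr] at h1
    exact_mod_cast h1
  -- the target set
  set T : Set (Fin n) := {i | r ≤ (i : ℕ)} with hT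
  have hrn : r ≤ n := by
    rw [← hcard]
    calc Nat.card ↥(Sᶜ) ≤ Nat.card (Fin n) := Nat.card_le_card_of_injective _ Subtype.val_injective
      _ = n := by simp
  have hTc : Nat.card ↥(Tᶜ) = r := by
    have e : ↥(Tᶜ) ≃ Fin r :=
      { toFun := fun i => ⟨i.1.1, by
          have h2 : ¬ (r ≤ (i.1 : ℕ)) := i.2
          omega⟩
        invFun := fun j => ⟨⟨j.1, lt_of_lt_of_le j.2 hrn⟩, by simp [hT]⟩
        left_inv := fun i => rfl
        right_inv := fun j => rfl }
    rw [Nat.card_congr e, Nat.card_fin]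
  -- a permutation carrying `T` onto `S`
  haveI : DecidablePred (· ∈ T) := fun _ => Classical.dec _
  haveI : DecidablePred (· ∈ S) := fun _ => Classical.dec _
  have hcardTS : Fintype.card {x // x ∈ T} = Fintype.card {x // x ∈ S} := by
    have h1 : Fintype.card {x // x ∈ T} + Nat.card ↥(Tᶜ) = n := by
      rw [Nat.card_eq_fintype_card]
      have := Fintype.card_subtype_compl (fun x : Fin n => x ∈ T)
      simp only [Fintype.card_fin] at this
      have h3 : Fintype.card {x // x ∈ T} ≤ n := by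
        simpa using Fintype.card_subtype_le (fun x : Fin n => x ∈ T)
      have h4 : Fintype.card ↥(Tᶜ) = Fintype.card {x // ¬ x ∈ T} := Fintype.card_congr (Equiv.refl _)
      omega
    have h2 : Fintype.card {x // x ∈ S} + Nat.card ↥(Sᶜ) = n := by
      rw [Nat.card_eq_fintype_card]
      have := Fintype.card_subtype_compl (fun x : Fin n => x ∈ S)
      simp only [Fintype.card_fin] at this
      have h3 : Fintype.card {x // x ∈ S} ≤ n := by
        simpa using Fintype.card_subtype_le (fun x : Fin n => x ∈ S)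
      have h4 : Fintype.card ↥(Sᶜ) = Fintype.card {x // ¬ x ∈ S} := Fintype.card_congr (Equiv.refl _)
      omega
    omega
  obtain ⟨e₀⟩ : Nonempty ({x // x ∈ T} ≃ {x // x ∈ S}) := Fintype.card_eq.mp hcardTS
  set τ : Equiv.Perm (Fin n) := e₀.extendSubtype with hτ
  have hτT : ∀ x, x ∈ T → τ x ∈ S := fun x hx => e₀.extendSubtype_mem x hx
  have hτT' : ∀ x, x ∉ T → τ x ∉ S := fun x hx => e₀.extendSubtype_not_mem x hx
  set ρ : MvPolynomial (Fin n) k →ₐ[k] MvPolynomial (Fin n) k := MvPolynomial.rename τ with hρ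
  set ρ' : MvPolynomial (Fin n) k →ₐ[k] MvPolynomial (Fin n) k := MvPolynomial.rename τ.symm with hρ'
  have hρρ : ∀ p, ρ' (ρ p) = p := by
    intro p
    simp [hρ, hρ', MvPolynomial.rename_rename]
  refine ⟨φ.comp ρ, ?_, ?_⟩
  · have hρfin : ρ.toRingHom.Finite := by
      refine RingHom.Finite.of_surjective _ ?_
      intro x
      refine ⟨ρ' x, ?_⟩
      simp [hρ, hρ', MvPolynomial.rename_rename]
    exact hφ.comp hρfin
  · have hrange : (Set.range fun i : {i : Fin n // r ≤ (i : ℕ)} => (MvPolynomial.X (i : Fin n) : MvPolynomial (Fin n) k)) =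
        MvPolynomial.X '' T := by
      ext x
      constructor
      · rintro ⟨⟨i, hi⟩, rfl⟩
        exact ⟨i, hi, rfl⟩
      · rintro ⟨i, hi, rfl⟩
        exact ⟨⟨i, hi⟩, rfl⟩
    rw [hrange]
    have hcomap : ∀ p, p ∈ q.comap (φ.comp ρ) ↔ ρ p ∈ Ideal.span (MvPolynomial.X '' S : Set (MvPolynomial (Fin n) k)) := by
      intro p
      rw [← hS]
      rfl
    apply le_antisymm
    · intro p hp
      rw [hcomap] at hp
      have hle : (Ideal.span (MvPolynomial.X '' S : Set (MvPolynomial (Fin n) k))).map ρ' ≤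
          Ideal.span (MvPolynomial.X '' T) := by
        rw [Ideal.map_span]
        apply Ideal.span_mono
        rintro _ ⟨_, ⟨i, hi, rfl⟩, rfl⟩
        refine ⟨τ.symm i, ?_, ?_⟩
        · by_contra hnot
          exact hτT' _ hnot (by simpa using hi)
        · simp [hρ']
      have := hle (Ideal.mem_map_of_mem ρ' hp)
      rwa [hρρ] at this
    · rw [Ideal.span_le]
      rintro _ ⟨i, hi, rfl⟩
      change _ ∈ q.comap (φ.comp ρ)
      rw [hcomap]
      have : ρ (MvPolynomial.X i) = MvPolynomial.X (τ i) := by simp [hρ]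
      rw [this]
      exact Ideal.subset_span ⟨τ i, hτT i hi, rfl⟩

end final

end Groth.Agent.H1.RefNN
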