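import Mathlib
import Groth.Agent.Lib.Helper1.AusBuch
import Groth.Agent.Lib.Helper1.RegGlobal
import Groth.Agent.Lib.Helper1.CMFlat
import Groth.Agent.Lib.Helper6.ReflKer

/-! Helper1: reflexive modules over regular local rings of dimension `≤ 2` are free. -/

set_option autoImplicit false
universe u
open CategoryTheory IsLocalRing

namespace Groth.Agent.H1.ReflFree

/-- a finite module over a regular local ring whose depth is at least the dimension is free. -/
theorem free_of_depth_ge (R : Type u) [CommRing R] [IsRegularLocalRing R] (d : ℕ)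
    (hd : ringKrullDim R = d) (M : Type u) [AddCommGroup M] [Module R M] [Module.Finite R M]
    (hM : (d : ℕ∞) ≤ LocCoh.depth R M) : Module.Free R M := by
  rcases subsingleton_or_nontrivial M with hs | hn
  · exact Module.Free.of_subsingleton R M
  classical
  have hex : ∃ e : ℕ, HasProjectiveDimensionLT (ModuleCat.of R M) (e + 1) :=
    ⟨d, Groth.Agent.H1.Reg.hasProjectiveDimensionLT_of_isRegularLocalRing R d hd _⟩
  set e := Nat.find hex with he
  have h1 : HasProjectiveDimensionLT (ModuleCat.of R M) (e + 1) := Nat.find_spec hex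
  have hdepthR : LocCoh.depth R R = d := by
    have h := (Groth.Agent.H1.CMFlat.isCohenMacaulayLocalRing_of_isRegularLocalRing
      R).supportDim_eq_depth
    rw [Module.supportDim_self_eq_ringKrullDim, hd] at h
    exact_mod_cast h.symm
  rcases Nat.eq_zero_or_pos e with h0 | hpos
  · rw [h0] at h1
    haveI : Projective (ModuleCat.of R M) := projective_iff_hasProjectiveDimensionLT_one.mpr h1
    haveI : Module.Projective R M :=
      (IsProjective.iff_projective (R := R) (P := M)).mpr inferInstance
    exact Module.free_of_flat_of_isLocalRing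
  · exfalso
    have h2 : ¬ HasProjectiveDimensionLT (ModuleCat.of R M) e := by
      intro h
      have := Nat.find_min hex (m := e - 1) (by omega)
      apply this
      rwa [Nat.sub_add_cancel hpos]
    have hab := Groth.Agent.H1.AB.auslander_buchsbaum M e h1 h2
    rw [hdepthR] at hab
    have h3 : (e : ℕ∞) + d ≤ d := by
      calc (e : ℕ∞) + d ≤ e + LocCoh.depth R M := by gcongr
        _ = d := hab.symm
    have h4 : ((e + d : ℕ) : ℕ∞) ≤ (d : ℕ) := by exact_mod_cast h3
    have h5 : e + d ≤ d := by exact_mod_cast h4
    omega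

/-- reflexive finite modules over regular local rings of dimension at most two are free. -/
theorem free_of_isReflexive (R : Type u) [CommRing R] [IsRegularLocalRing R]
    (hdim : ringKrullDim R ≤ 2) (M : Type u) [AddCommGroup M] [Module R M] [Module.Finite R M]
    [Module.IsReflexive R M] : Module.Free R M := by
  obtain ⟨d, hd⟩ : ∃ d : ℕ, ringKrullDim R = d := by
    have h1 : ringKrullDim R ≠ ⊥ := ringKrullDim_ne_bot
    have h2 : ringKrullDim R ≠ ⊤ := by
      intro h; rw [h] at hdim; exact absurd hdim (by decide)
    obtain ⟨n, hn⟩ := WithBot.ne_bot_iff_exists.mp h1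
    have hn2 : n ≠ ⊤ := by
      rintro rfl; exact h2 hn.symm
    refine ⟨n.toNat, ?_⟩
    rw [← hn]
    have h3 : ((n.toNat : ℕ) : ℕ∞) = n := ENat.coe_toNat hn2
    conv_lhs => rw [← h3]
    rfl
  have hd2 : d ≤ 2 := by
    rw [hd] at hdim; exact_mod_cast hdim
  have hdepthR : LocCoh.depth R R = d := by
    have h := (Groth.Agent.H1.CMFlat.isCohenMacaulayLocalRing_of_isRegularLocalRing
      R).supportDim_eq_depth
    rw [Module.supportDim_self_eq_ringKrullDim, hd] at h
    exact_mod_cast h.symm
  refine free_of_depth_ge R d hd M ?_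
  obtain ⟨r1, r2, -, -⟩ := Groth.Agent.H6.Refl.reflexive_depth_sk (maximalIdeal R) M
  interval_cases d
  · simp
  · exact r1 (by show (1 : ℕ∞) ≤ LocCoh.depth R R; rw [hdepthR]; norm_num)
  · exact r2 (by show (2 : ℕ∞) ≤ LocCoh.depth R R; rw [hdepthR]; norm_num)


/-- a regular element in the maximal ideal gives depth at least one. -/
theorem one_le_depth_of_isSMulRegular (R : Type u) [CommRing R] [IsLocalRing R] (M : Type u)
    [AddCommGroup M] [Module R M] (a : R) (ha : a ∈ maximalIdeal R) (hreg : IsSMulRegular M a) :
    (1 : ℕ∞) ≤ LocCoh.depth R M := by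
  classical
  unfold LocCoh.depth LocCoh.idealDepth
  split_ifs with h
  · exact le_top
  · have hw : RingTheory.Sequence.IsWeaklyRegular M [a] ∧ ∀ r ∈ [a], r ∈ maximalIdeal R := by
      refine ⟨?_, fun r hr => by rw [List.mem_singleton.mp hr]; exact ha⟩
      rw [RingTheory.Sequence.isWeaklyRegular_cons_iff]
      exact ⟨hreg, RingTheory.Sequence.IsWeaklyRegular.nil R _⟩
    exact le_iSup₂_of_le [a] hw (by simp)

/-- torsion-free finite modules over regular local domains of dimension at most one are free. -/
theorem free_of_noZeroSMulDivisors (R : Type u) [CommRing R] [IsRegularLocalRing R] [IsDomain R]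
    (hdim : ringKrullDim R ≤ 1) (M : Type u) [AddCommGroup M] [Module R M] [Module.Finite R M]
    [NoZeroSMulDivisors R M] : Module.Free R M := by
  obtain ⟨d, hd⟩ : ∃ d : ℕ, ringKrullDim R = d := by
    have h1 : ringKrullDim R ≠ ⊥ := ringKrullDim_ne_bot
    have h2 : ringKrullDim R ≠ ⊤ := by
      intro h; rw [h] at hdim; exact absurd hdim (by decide)
    obtain ⟨n, hn⟩ := WithBot.ne_bot_iff_exists.mp h1
    have hn2 : n ≠ ⊤ := by
      rintro rfl; exact h2 hn.symm
    refine ⟨n.toNat, ?_⟩
    rw [← hn]
    have h3 : ((n.toNat : ℕ) : ℕ∞) = n := ENat.coe_toNat hn2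
    conv_lhs => rw [← h3]
    rfl
  have hd1 : d ≤ 1 := by
    rw [hd] at hdim; exact_mod_cast hdim
  refine free_of_depth_ge R d hd M ?_
  interval_cases d
  · simp
  · have hnf : ¬ IsField R := by
      intro hf
      letI := hf.toField
      have := ringKrullDim_eq_zero_of_field R
      rw [hd] at this
      exact absurd this (by norm_num)
    have hm : maximalIdeal R ≠ ⊥ := fun h => hnf (IsLocalRing.isField_iff_maximalIdeal_eq.mpr h)
    obtain ⟨a, ha, ha0⟩ := Submodule.exists_mem_ne_zero_of_ne_bot hm
    exact one_le_depth_of_isSMulRegular R M a ha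
      (fun x y hxy => smul_right_injective M ha0 hxy)

end Groth.Agent.H1.ReflFree
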