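import Mathlib
import Groth.Prelude.Def_Coh
import Groth.Prelude.Def_FlatMod2
import Groth.Agent.Lib.Helper1.ReflFree
import Groth.Agent.Lib.Helper1.CohLen
import Groth.Agent.Lib.Helper3.AG.FibreDim
import Groth.Agent.Lib.Lead.QC.LocFree
import Groth.Agent.Lib.Lead.QC.Coh

/-! Helper1: on regular schemes of small dimension, torsion-free / reflexive coherent modules are
finite locally free. -/

set_option autoImplicit false
universe u
open CategoryTheory AlgebraicGeometry IsLocalRing

namespace Groth.Agent.H1.ReflFree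

/-- statement shape of S1689. -/
theorem s1689 (X : Scheme.{u}) [IsLocallyNoetherian X]
    (hreg : ∀ x : ↥X, IsRegularLocalRing (X.presheaf.stalk x))
    (hdim : topologicalKrullDim ↥X ≤ 2) (F : X.Modules)
    (hF : Coh.IsCoh F) :
    (∀ x : ↥X, Module.IsReflexive (X.presheaf.stalk x) (F.presheaf.stalk x)) ↔
      FlatMod.IsFinLocFree F := by
  haveI : F.IsQuasicoherent := hF.1
  have hfin : ∀ x : X, Module.Finite (X.presheaf.stalk x) (F.presheaf.stalk x) :=
    fun x => Groth.Agent.H1.CohLen.finite_stalk F hF.2 x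
  constructor
  · intro h
    refine Groth.Agent.LD.QC.isFinLocFree_of_free_stalks F
      (Groth.Agent.LD.QC.isFinitePresentation_of_qc_ft F hF.1 hF.2) (fun x => ?_)
    haveI := hreg x
    haveI := hfin x
    haveI := h x
    exact free_of_isReflexive (X.presheaf.stalk x)
      ((Groth.Agent.H3.FibreDim.stalk_dim_le X x).trans hdim) (F.presheaf.stalk x)
  · intro h x
    haveI := hfin x
    haveI : Module.Free (X.presheaf.stalk x) (F.presheaf.stalk x) :=
      Groth.Agent.LD.QC.free_stalk_of_isFinLocFree F h x
    exact Module.IsReflexive.of_finite_of_free _ _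


/-- statement shape of S1688. -/
theorem s1688 (X : Scheme.{u}) [IsIntegral X] [IsLocallyNoetherian X]
    (hreg : ∀ x : ↥X, IsRegularLocalRing (X.presheaf.stalk x))
    (hdim : topologicalKrullDim ↥X ≤ 1) (F : X.Modules) (hF : Coh.IsCoh F) :
    (∀ x : ↥X, NoZeroSMulDivisors (X.presheaf.stalk x) (F.presheaf.stalk x)) ↔
      FlatMod.IsFinLocFree F := by
  haveI : F.IsQuasicoherent := hF.1
  have hfin : ∀ x : X, Module.Finite (X.presheaf.stalk x) (F.presheaf.stalk x) :=
    fun x => Groth.Agent.H1.CohLen.finite_stalk F hF.2 x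
  constructor
  · intro h
    refine Groth.Agent.LD.QC.isFinLocFree_of_free_stalks F
      (Groth.Agent.LD.QC.isFinitePresentation_of_qc_ft F hF.1 hF.2) (fun x => ?_)
    haveI := hreg x
    haveI := hfin x
    haveI := h x
    exact free_of_noZeroSMulDivisors (X.presheaf.stalk x)
      ((Groth.Agent.H3.FibreDim.stalk_dim_le X x).trans hdim) (F.presheaf.stalk x)
  · intro h x
    haveI : Module.Free (X.presheaf.stalk x) (F.presheaf.stalk x) :=
      Groth.Agent.LD.QC.free_stalk_of_isFinLocFree F h x
    haveI : Module.IsTorsionFree (X.presheaf.stalk x) (F.presheaf.stalk x) := inferInstance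
    exact ⟨fun h => smul_eq_zero.mp h⟩

end Groth.Agent.H1.ReflFree
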