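import Mathlib
import Groth.Agent.Lib.Helper9.Misc.GDH
import Groth.Agent.Lib.Helper7.Reg1
import Groth.Agent.Lib.Helper1.RegNormal
import Groth.Agent.Lib.Helper1.CMFlat
import Groth.Agent.Lib.Helper1.EGA142
import Groth.Agent.Lib.Helper1.DimFormula2

/-! helper1: finite morphisms between regular schemes with component-wise dominance are flat (S10881). -/

set_option linter.style.haveILetI false
set_option linter.unusedSectionVars false
set_option linter.unusedVariables false

universe u
open AlgebraicGeometry CategoryTheory IsLocalRing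

namespace Groth.Agent.H1.RegFinFlat

/-- `A` local integrally closed domain, `B` local domain, `A → B` local injective, `B` a localization
at a prime of a ring `B₀` integral over `A₀` (compatible): then `dim B = dim A`. -/
theorem dim_eq_of_integral {A₀ B₀ A B : Type u} [CommRing A₀] [CommRing B₀] [CommRing A] [CommRing B]
    [Algebra A₀ B₀] [Algebra.IsIntegral A₀ B₀]
    (q : Ideal B₀) [q.IsPrime]
    [Algebra A₀ A] [Algebra B₀ B] [IsLocalization.AtPrime B q]
    [Algebra A B] [Algebra A₀ B] [IsScalarTower A₀ A B] [IsScalarTower A₀ B₀ B]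
    [IsLocalRing A] [IsLocalRing B] [IsLocalHom (algebraMap A B)]
    [IsDomain A] [IsIntegrallyClosed A] [IsDomain B]
    (hinj : Function.Injective (algebraMap A B)) :
    ringKrullDim B = ringKrullDim A := by
  classical
  let C : Subalgebra A B := Algebra.adjoin A (Set.range (algebraMap B₀ B))
  have hgen : ∀ x ∈ Set.range (algebraMap B₀ B), IsIntegral A x := by
    rintro _ ⟨b, rfl⟩
    have h1 : IsIntegral A₀ b := Algebra.IsIntegral.isIntegral b
    have h2 : IsIntegral A₀ (algebraMap B₀ B b) := h1.map (IsScalarTower.toAlgHom A₀ B₀ B)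
    exact h2.tower_top
  haveI : Algebra.IsIntegral A C := Algebra.IsIntegral.adjoin hgen
  have hinjC : Function.Injective (algebraMap A C) := by
    intro a b hab
    apply hinj
    have := congrArg (Subtype.val) hab
    simpa using this
  let n : Ideal C := (maximalIdeal B).comap (algebraMap C B)
  haveI : n.IsPrime := Ideal.comap_isPrime _ _
  have hnA : n.comap (algebraMap A C) = maximalIdeal A := by
    show ((maximalIdeal B).comap (algebraMap C B)).comap (algebraMap A C) = maximalIdeal A
    rw [Ideal.comap_comap]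
    have : (algebraMap C B).comp (algebraMap A C) = algebraMap A B := by ext a; rfl
    rw [this]
    exact IsLocalRing.maximalIdeal_comap (algebraMap A B)
  haveI : n.IsMaximal :=
    Ideal.isMaximal_of_isIntegral_of_isMaximal_comap (R := A) n
      (hnA ▸ maximalIdeal.isMaximal A)
  have hmem : ∀ c : C, c ∈ n ↔ (c : B) ∈ maximalIdeal B := fun c => Iff.rfl
  haveI : IsLocalization.AtPrime B n := by
    show IsLocalization n.primeCompl B
    rw [isLocalization_iff]
    refine ⟨?_, ?_, ?_⟩
    · rintro ⟨s, hs⟩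
      have : (s : B) ∉ maximalIdeal B := fun h => hs ((hmem s).mpr h)
      rw [mem_maximalIdeal, mem_nonunits_iff, not_not] at this
      exact this
    · intro b
      obtain ⟨⟨b₀, s₀⟩, h⟩ := IsLocalization.surj q.primeCompl b
      have hs₀ : IsUnit (algebraMap B₀ B s₀) := IsLocalization.map_units B s₀
      refine ⟨⟨⟨algebraMap B₀ B b₀, Algebra.subset_adjoin ⟨b₀, rfl⟩⟩,
        ⟨⟨algebraMap B₀ B s₀, Algebra.subset_adjoin ⟨s₀, rfl⟩⟩, ?_⟩⟩, ?_⟩
      · intro hmm
        have : algebraMap B₀ B s₀ ∈ maximalIdeal B := (hmem _).mp hmm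
        rw [mem_maximalIdeal, mem_nonunits_iff] at this
        exact this hs₀
      · exact h
    · intro c₁ c₂ h
      refine ⟨1, ?_⟩
      have : c₁ = c₂ := Subtype.ext h
      rw [this]
  rw [IsLocalization.AtPrime.ringKrullDim_eq_height n B,
    ← IsLocalization.AtPrime.ringKrullDim_eq_height n (Localization.AtPrime n)]
  exact Groth.Agent.H9.GDH.S5764_main A C hinjC n

/-- If every irreducible component of `X` dominates an irreducible component of `Y`, and the local
ring of `Y` at `f x` is a domain, then the stalk map at `x` is injective. -/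
theorem stalkMap_injective {X Y : Scheme.{u}} (f : X ⟶ Y) (x : X)
    [IsDomain (Y.presheaf.stalk (f.base x))]
    (hdom : ∀ Z ∈ irreducibleComponents (X : Type u),
      closure (f.base '' Z) ∈ irreducibleComponents (Y : Type u)) :
    Function.Injective (f.stalkMap x).hom := by
  have hZ : irreducibleComponent x ∈ irreducibleComponents (X : Type u) :=
    irreducibleComponent_mem_irreducibleComponents x
  have hZirr : IsIrreducible (irreducibleComponent x) := isIrreducible_irreducibleComponent
  have hZcl : IsClosed (irreducibleComponent x) := isClosed_irreducibleComponent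
  obtain ⟨ζ, hζ⟩ := QuasiSober.sober hZirr hZcl
  have hζx : ζ ⤳ x := by
    rw [specializes_iff_mem_closure, hζ.def]
    exact mem_irreducibleComponent
  obtain ⟨P, hP⟩ : ζ ∈ Set.range (X.fromSpecStalk x).base := by
    rw [Scheme.range_fromSpecStalk]; exact hζx
  have hcomp := hdom _ hZ
  have hcl : closure (f.base '' irreducibleComponent x) = closure {f.base ζ} := by
    rw [← hζ.def, closure_image_closure f.continuous, Set.image_singleton]
  rw [hcl] at hcomp
  -- `f ζ` is a maximal point
  have hmax : ∀ η' : Y, η' ⤳ f.base ζ → η' = f.base ζ := by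
    intro η' h
    have h1 : closure {f.base ζ} ⊆ closure {η'} := specializes_iff_closure_subset.mp h
    have h2 : IsIrreducible (closure ({η'} : Set Y)) := isIrreducible_singleton.closure
    have h3 : closure {η'} ⊆ closure {f.base ζ} := hcomp.2 h2 h1
    have h4 : f.base ζ ⤳ η' := specializes_iff_closure_subset.mpr h3
    exact (h.antisymm h4).eq
  -- image of `ζ`
  have hfζ : f.base ζ = (Y.fromSpecStalk (f.base x)).base ((Spec.map (f.stalkMap x)).base P) := by
    rw [← hP]
    have := congrArg (fun g => g.base P) (Scheme.SpecMap_stalkMap_fromSpecStalk f (x := x))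
    simp only [Scheme.Hom.comp_base, TopCat.comp_app] at this
    exact this.symm
  set Q := (Spec.map (f.stalkMap x)).base P with hQ
  let O : ↥(Spec (Y.presheaf.stalk (f.base x))) := ⟨⊥, Ideal.isPrime_bot⟩
  have hOQ : O ⤳ Q :=
    (@PrimeSpectrum.le_iff_specializes (Y.presheaf.stalk (f.base x)) _ O Q).mp
      (show (⊥ : Ideal _) ≤ Q.asIdeal from bot_le)
  have h5 : (Y.fromSpecStalk (f.base x)).base O ⤳ f.base ζ := by
    rw [hfζ]; exact hOQ.map (Y.fromSpecStalk (f.base x)).continuous
  have h6 := hmax _ h5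
  rw [hfζ] at h6
  have h7 : O = Q := (Y.fromSpecStalk (f.base x)).isEmbedding.injective h6
  have h8 : Q.asIdeal = ⊥ := by rw [← h7]
  rw [injective_iff_map_eq_zero]
  intro a ha
  have : a ∈ Q.asIdeal := by
    show a ∈ (PrimeSpectrum.comap (f.stalkMap x).hom P).asIdeal
    rw [PrimeSpectrum.comap_asIdeal, Ideal.mem_comap, ha]
    exact zero_mem _
  rw [h8] at this
  exact this

theorem fibre_stalk_dim_zero {X Y : Scheme.{u}} (f : X ⟶ Y) [LocallyQuasiFinite f] (y : Y)
    (t : ↥(f.fiber y)) :
    ringKrullDim ((f.fiber y).presheaf.stalk t) = 0 := by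
  apply Groth.Agent.H1.DimFormula.ringKrullDim_stalk_eq_zero
  intro z hz
  exact hz.eq

theorem stalk_dim_eq {X Y : Scheme.{u}} (f : X ⟶ Y) [IsFinite f] (x : X)
    [IsRegularLocalRing (X.presheaf.stalk x)] [IsRegularLocalRing (Y.presheaf.stalk (f.base x))]
    (hinj : Function.Injective (f.stalkMap x).hom) :
    ringKrullDim (X.presheaf.stalk x) = ringKrullDim (Y.presheaf.stalk (f.base x)) := by
  obtain ⟨_, ⟨V, hV, rfl⟩, hyV, -⟩ := Y.isBasis_affineOpens.exists_subset_of_mem_open
    (Set.mem_univ (f.base x)) isOpen_univ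
  have hU : IsAffineOpen (f ⁻¹ᵁ V) := hV.preimage f
  have hxU : x ∈ f ⁻¹ᵁ V := hyV
  letI : Algebra Γ(Y, V) Γ(X, f ⁻¹ᵁ V) := (f.app V).hom.toAlgebra
  haveI : Algebra.IsIntegral Γ(Y, V) Γ(X, f ⁻¹ᵁ V) := by
    have hfin : (f.app V).hom.Finite := IsFinite.finite_app f V hV
    haveI : Module.Finite Γ(Y, V) Γ(X, f ⁻¹ᵁ V) := hfin
    exact Algebra.IsIntegral.of_finite _ _
  letI : Algebra Γ(Y, V) (Y.presheaf.stalk (f.base x)) :=
    (Y.presheaf.germ V (f.base x) hyV).hom.toAlgebra
  letI : Algebra Γ(X, f ⁻¹ᵁ V) (X.presheaf.stalk x) :=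
    (X.presheaf.germ (f ⁻¹ᵁ V) x hxU).hom.toAlgebra
  letI : Algebra (Y.presheaf.stalk (f.base x)) (X.presheaf.stalk x) :=
    (f.stalkMap x).hom.toAlgebra
  letI : Algebra Γ(Y, V) (X.presheaf.stalk x) :=
    ((f.stalkMap x).hom.comp (Y.presheaf.germ V (f.base x) hyV).hom).toAlgebra
  haveI : IsScalarTower Γ(Y, V) (Y.presheaf.stalk (f.base x)) (X.presheaf.stalk x) :=
    IsScalarTower.of_algebraMap_eq fun r => rfl
  haveI : IsScalarTower Γ(Y, V) Γ(X, f ⁻¹ᵁ V) (X.presheaf.stalk x) :=
    IsScalarTower.of_algebraMap_eq fun r => by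
      show (f.stalkMap x).hom ((Y.presheaf.germ V (f.base x) hyV).hom r) =
        (X.presheaf.germ (f ⁻¹ᵁ V) x hxU).hom ((f.app V).hom r)
      exact Scheme.Hom.germ_stalkMap_apply f V x hyV r
  haveI : IsLocalization.AtPrime (X.presheaf.stalk x) (hU.primeIdealOf ⟨x, hxU⟩).asIdeal :=
    hU.isLocalization_stalk ⟨x, hxU⟩
  haveI : IsLocalHom (algebraMap (Y.presheaf.stalk (f.base x)) (X.presheaf.stalk x)) := by
    show IsLocalHom (f.stalkMap x).hom
    infer_instance
  haveI : IsDomain (X.presheaf.stalk x) := Groth.Agent.H7.Reg.isDomain _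
  haveI : IsDomain (Y.presheaf.stalk (f.base x)) := Groth.Agent.H7.Reg.isDomain _
  haveI : IsIntegrallyClosed (Y.presheaf.stalk (f.base x)) :=
    Groth.Agent.H1.Reg.isIntegrallyClosed _
  exact dim_eq_of_integral (A₀ := Γ(Y, V)) (B₀ := Γ(X, f ⁻¹ᵁ V))
    (hU.primeIdealOf ⟨x, hxU⟩).asIdeal hinj

theorem main {X Y : Scheme.{u}} (f : X ⟶ Y) [IsFinite f]
    [IsLocallyNoetherian X] [IsLocallyNoetherian Y]
    (hX : ∀ x : X, IsRegularLocalRing (X.presheaf.stalk x))
    (hY : ∀ y : Y, IsRegularLocalRing (Y.presheaf.stalk y))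
    (hdom : ∀ Z ∈ irreducibleComponents (X : Type u),
      closure (f.base '' Z) ∈ irreducibleComponents (Y : Type u)) :
    Flat f := by
  rw [Flat.iff_flat_stalkMap]
  intro x
  haveI := hX x
  haveI := hY (f.base x)
  have hCM := Groth.Agent.H1.CMFlat.isCohenMacaulayLocalRing_of_isRegularLocalRing
    (X.presheaf.stalk x)
  have htfae := Groth.Agent.H1.EGA142.s3440 f x (hY _) hCM
  refine (htfae.out 1 4).mpr ?_
  rw [fibre_stalk_dim_zero f (f.base x) (f.asFiber x), add_zero]
  haveI : IsDomain (Y.presheaf.stalk (f.base x)) := Groth.Agent.H7.Reg.isDomain _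
  exact stalk_dim_eq f x (stalkMap_injective f x hdom)

end Groth.Agent.H1.RegFinFlat
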