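import Mathlib

/-! Helper1: representability of limit-preserving presheaves on Grothendieck abelian categories (SAFT). -/
open CategoryTheory Limits Opposite
universe u v

namespace Groth.Agent.H1

/-- A right adjoint functor to types on `Aᵒᵖ` is representable. -/
theorem isRepresentable_of_isRightAdjoint {A : Type u} [Category.{v} A] (F : Aᵒᵖ ⥤ Type v)
    [F.IsRightAdjoint] : F.IsRepresentable := by
  let adj := Adjunction.ofIsRightAdjoint F
  let Y : A := (F.leftAdjoint.obj PUnit).unop
  refine Functor.RepresentableBy.isRepresentable (Y := Y) ⟨fun {X} => ?_, ?_⟩
  · exact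
    { toFun := fun g => (adj.homEquiv PUnit (op X) g.op) PUnit.unit
      invFun := fun x => ((adj.homEquiv PUnit (op X)).symm (homOfElement x)).unop
      left_inv := fun g => by
        have : homOfElement ((adj.homEquiv PUnit (op X) g.op) PUnit.unit) =
            adj.homEquiv PUnit (op X) g.op := by
          ext ⟨⟩; rfl
        beta_reduce
        rw [this]; simp
      right_inv := fun x => by
        simp [homOfElement] }
  · intro X X' f g
    simp only [Equiv.coe_fn_mk, op_comp]
    rw [Adjunction.homEquiv_naturality_right]
    rfl

theorem isRepresentable_iff_preservesLimits_of_isGrothendieckAbelian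
    {A : Type u} [Category.{v} A] [Abelian A]
    [IsGrothendieckAbelian.{v} A] (F : Aᵒᵖ ⥤ Type v) :
    F.IsRepresentable ↔ PreservesLimitsOfSize.{v, v} F := by
  constructor
  · intro h
    exact preservesLimits_of_natIso F.reprW
  · intro h
    have hsep : IsCoseparator (op (separator A)) := by
      rw [isCoseparator_op_iff]
      exact isSeparator_separator A
    have : F.IsRightAdjoint := isRightAdjoint_of_preservesLimits_of_isCoseparating hsep F
    exact isRepresentable_of_isRightAdjoint F

end Groth.Agent.H1
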