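import Mathlib
import Groth.Agent.Lib.Helper1.RigidC

/-! helper1: rigidity for morphisms into group schemes over a locally Noetherian base
(GIT 6.4 and its corollary): S11438, S11439. -/

set_option autoImplicit false
set_option linter.style.haveILetI false
set_option linter.unusedSectionVars false
set_option linter.unusedVariables false
universe u

namespace Groth.Agent.H1.RigidE

open CategoryTheory MonoidalCategory CartesianMonoidalCategory MonObj GrpObj AlgebraicGeometry Limits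
open Groth.Agent.H1.RigidA Groth.Agent.H1.RigidB Groth.Agent.H1.RigidC

theorem s11438 (S : Scheme.{u}) [IsLocallyNoetherian S] [ConnectedSpace S]
    (X G : Over S) [GrpObj G] [IsLocallyNoetherian G.left] [IsSeparated G.hom] [IsProper X.hom]
    [Flat X.hom]
    (h0 : ∀ s : S, Function.Bijective
      (Limits.pullback.snd X.hom (S.fromSpecResidueField s)).appTop)
    (f g : X ⟶ G) (s : S)
    (hs : Limits.pullback.fst X.hom (S.fromSpecResidueField s) ≫ f.left =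
      Limits.pullback.fst X.hom (S.fromSpecResidueField s) ≫ g.left) :
    ∃ t : 𝟙_ (Over S) ⟶ G, f = (toUnit X ≫ t) * g := by
  obtain ⟨φ, hφ⟩ : ∃ φ : X ⟶ G, φ = f * g⁻¹ := ⟨_, rfl⟩
  obtain ⟨i, hi⟩ : ∃ i : pullback X.hom (S.fromSpecResidueField s) ⟶ X.left,
      i = pullback.fst X.hom (S.fromSpecResidueField s) := ⟨_, rfl⟩
  obtain ⟨I, hI⟩ : ∃ I : Over.mk (i ≫ X.hom) ⟶ X, I.left = i := ⟨Over.homMk i rfl, rfl⟩
  have hIfg : I ≫ f = I ≫ g := by
    ext
    simp only [Over.comp_left, hI, hi]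
    exact hs
  have hIφ : I ≫ φ = toUnit _ ≫ η[G] := by
    rw [hφ, MonObj.comp_mul, GrpObj.comp_inv, hIfg, _root_.mul_inv_cancel, Hom.one_def]
  have hleft : i ≫ φ.left = (i ≫ X.hom) ≫ η[G].left := by
    have := congrArg (fun ψ => ψ.left) hIφ
    simp only [Over.comp_left, hI] at this
    exact this
  have hrange : ∀ x : X.left, X.hom x = s → φ.left x = η[G].left s := by
    intro x hx
    obtain ⟨z, rfl⟩ : x ∈ Set.range i := by
      rw [hi]
      show x ∈ Set.range (X.hom.fiberι s)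
      rw [Scheme.Hom.range_fiberι]
      exact hx
    rw [← Scheme.Hom.comp_apply, hleft, Scheme.Hom.comp_apply, Scheme.Hom.comp_apply, hx]
  have hmem : s ∈ collapsed X.hom φ.left := by
    intro x x' hx hx'
    rw [hrange x hx, hrange x' hx']
  obtain ⟨hclopen, hfac⟩ := core_proper X.hom h0 G.hom (𝟙 S) φ.left
    (by rw [Over.w φ, Category.comp_id])
  obtain ⟨t₀, ht1, ht2⟩ := hfac (hclopen.eq_univ ⟨s, hmem⟩)
  obtain ⟨t, ht⟩ : ∃ t : 𝟙_ (Over S) ⟶ G, t.left = t₀ := ⟨Over.homMk t₀ ht1, rfl⟩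
  refine ⟨t, ?_⟩
  have hφt : φ = toUnit X ≫ t := by
    ext
    rw [Over.comp_left, ht, Over.toUnit_left]
    exact ht2
  rw [← hφt, hφ, inv_mul_cancel_right]

theorem s11439 (S : Scheme.{u}) [IsLocallyNoetherian S]
    (X Y G : Over S) [GrpObj G] [IsLocallyNoetherian G.left] [IsSeparated G.hom] [IsProper X.hom]
    [Flat X.hom]
    (h0 : ∀ s : S, Function.Bijective
      (Limits.pullback.snd X.hom (S.fromSpecResidueField s)).appTop)
    [IsLocallyNoetherian Y.left] [IsSeparated Y.hom] [ConnectedSpace Y.left]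
    (e : 𝟙_ (Over S) ⟶ Y) (f : X ⊗ Y ⟶ G) :
    ∃ (g : X ⟶ G) (h : Y ⟶ G), f = (fst X Y ≫ g) * (snd X Y ≫ h) := by
  obtain ⟨σ, hσ1, hσ2⟩ : ∃ σ : X ⟶ X ⊗ Y, σ ≫ fst X Y = 𝟙 X ∧ σ ≫ snd X Y = toUnit X ≫ e :=
    ⟨lift (𝟙 X) (toUnit X ≫ e), lift_fst _ _, lift_snd _ _⟩
  obtain ⟨g, hg⟩ : ∃ g : X ⟶ G, g = σ ≫ f := ⟨_, rfl⟩
  obtain ⟨F, hF⟩ : ∃ F : X ⊗ Y ⟶ G, F = (fst X Y ≫ g)⁻¹ * f := ⟨_, rfl⟩
  have hσF : σ ≫ F = toUnit X ≫ η[G] := by
    rw [hF, MonObj.comp_mul, GrpObj.comp_inv, ← Category.assoc, hσ1, Category.id_comp, hg,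
      inv_mul_cancel, Hom.one_def]
  obtain ⟨pr, hpr⟩ : ∃ pr : pullback X.hom Y.hom ⟶ Y.left, pr = pullback.snd X.hom Y.hom :=
    ⟨_, rfl⟩
  have H0' : ∀ y : Y.left, Function.Bijective
      (pullback.snd pr (Y.left.fromSpecResidueField y)).appTop := by
    intro y
    rw [hpr]
    exact bijective_snd_fiber_baseChange' X.hom h0 Y.hom y
  have hFw : F.left ≫ G.hom = pr ≫ Y.hom := by
    rw [Over.w F, hpr]
    show pullback.fst X.hom Y.hom ≫ X.hom = _
    exact pullback.condition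
  haveI : IsProper pr := by rw [hpr]; infer_instance
  haveI : Flat pr := by rw [hpr]; infer_instance
  obtain ⟨hclopen, hfac⟩ := core_proper pr H0' G.hom Y.hom F.left hFw
  obtain ⟨y₁⟩ : Nonempty Y.left := inferInstance
  obtain ⟨s₁, hs₁⟩ : ∃ s₁ : S, s₁ = Y.hom y₁ := ⟨_, rfl⟩
  have hpb : IsPullback σ.left X.hom pr e.left := by
    rw [hpr]
    refine IsPullback.of_right ?_ ?_ (IsPullback.of_hasPullback X.hom Y.hom)
    · have h1 : σ.left ≫ pullback.fst X.hom Y.hom = 𝟙 X.left := congrArg (fun ψ => ψ.left) hσ1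
      have h2 : e.left ≫ Y.hom = 𝟙 S := Over.w e
      rw [h1, h2]
      exact IsPullback.of_horiz_isIso ⟨by simp⟩
    · exact congrArg (fun ψ => ψ.left) hσ2
  have hrange : ∀ z : ↥(pullback X.hom Y.hom), pr z = e.left s₁ →
      F.left z = η[G].left s₁ := by
    intro z hz
    obtain ⟨w, hw1, hw2⟩ :=
      Scheme.Pullback.exists_preimage_pullback (f := pr) (g := e.left) z s₁ hz
    have h3 : σ.left (hpb.isoPullback.inv w) = z := by
      rw [← Scheme.Hom.comp_apply, hpb.isoPullback_inv_fst, hw1]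
    have h4 : X.hom (hpb.isoPullback.inv w) = s₁ := by
      rw [← Scheme.Hom.comp_apply, hpb.isoPullback_inv_snd, hw2]
    have h5 : σ.left ≫ F.left = X.hom ≫ η[G].left := congrArg (fun ψ => ψ.left) hσF
    rw [← h3, ← Scheme.Hom.comp_apply, h5, Scheme.Hom.comp_apply, h4]
  have hmem : e.left s₁ ∈ collapsed pr F.left := by
    intro z z' hz hz'
    rw [hrange z hz, hrange z' hz']
  obtain ⟨t₀, ht1, ht2⟩ := hfac (hclopen.eq_univ ⟨_, hmem⟩)
  obtain ⟨h, hh⟩ : ∃ h : Y ⟶ G, h.left = t₀ := ⟨Over.homMk t₀ ht1, rfl⟩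
  have hFh : F = snd X Y ≫ h := by
    ext
    rw [Over.comp_left, hh, Over.snd_left, ← hpr]
    exact ht2
  refine ⟨g, h, ?_⟩
  rw [← hFh, hF, mul_inv_cancel_left]

end Groth.Agent.H1.RigidE
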