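import Mathlib
import Groth.Agent.Lib.Helper1.RigidD

/-! helper1: rigidity for products over a field (S18368): a morphism `X × Y ⟶ Z` with `X` proper
geometrically integral, `Y` geometrically integral of finite type, `Z` separated, constant on one
geometric fibre `X × y₀`, factors uniquely through `Y`. -/

set_option autoImplicit false
set_option linter.style.haveILetI false
set_option linter.unusedSectionVars false
set_option linter.unusedVariables false
universe u

namespace Groth.Agent.H1.RigidH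

open CategoryTheory MonoidalCategory CartesianMonoidalCategory AlgebraicGeometry Limits
open Groth.Agent.H1.RigidA Groth.Agent.H1.RigidB Groth.Agent.H1.RigidC Groth.Agent.H1.RigidD

theorem s18368 (k : Type u) [Field k]
    (X Y Z : Over (Spec (CommRingCat.of k)))
    [IsProper X.hom] [GeometricallyIntegral X.hom]
    [LocallyOfFiniteType Y.hom] [GeometricallyIntegral Y.hom]
    [IsSeparated Z.hom] (f : X ⊗ Y ⟶ Z)
    (K : Type u) [Field K] [Algebra k K]
    (y₀ : (Over.mk (Spec.map (CommRingCat.ofHom (algebraMap k K))) :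
      Over (Spec (CommRingCat.of k))) ⟶ Y)
    (z₀ : (Over.mk (Spec.map (CommRingCat.ofHom (algebraMap k K))) :
      Over (Spec (CommRingCat.of k))) ⟶ Z)
    (h : (X ◁ y₀) ≫ f = snd X _ ≫ z₀) :
    ∃! g : Y ⟶ Z, f = snd X Y ≫ g := by
  obtain ⟨W, hW⟩ : ∃ W : Over (Spec (CommRingCat.of k)),
      W = Over.mk (Spec.map (CommRingCat.ofHom (algebraMap k K))) := ⟨_, rfl⟩
  subst hW
  haveI : Subsingleton ↥(Spec (CommRingCat.of k)) :=
    inferInstanceAs (Subsingleton (PrimeSpectrum k))
  haveI : IsLocallyNoetherian Y.left := LocallyOfFiniteType.isLocallyNoetherian Y.hom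
  haveI : IsIntegral Y.left := GeometricallyIntegral.isIntegral_of_subsingleton Y.hom
  have h0 : ∀ s : ↥(Spec (CommRingCat.of k)), Function.Bijective
      (pullback.snd X.hom ((Spec (CommRingCat.of k)).fromSpecResidueField s)).appTop :=
    fun s => bijective_appTop_of_geomIntegral ((Spec (CommRingCat.of k)).residueField s)
      (pullback.snd X.hom ((Spec (CommRingCat.of k)).fromSpecResidueField s))
  obtain ⟨pr, hpr⟩ : ∃ pr : pullback X.hom Y.hom ⟶ Y.left, pr = pullback.snd X.hom Y.hom :=
    ⟨_, rfl⟩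
  have H0' : ∀ y : Y.left, Function.Bijective
      (pullback.snd pr (Y.left.fromSpecResidueField y)).appTop := by
    intro y
    rw [hpr]
    exact bijective_snd_fiber_baseChange' X.hom h0 Y.hom y
  have hFw : f.left ≫ Z.hom = pr ≫ Y.hom := by
    rw [Over.w f, hpr]
    show pullback.fst X.hom Y.hom ≫ X.hom = _
    exact pullback.condition
  haveI : IsProper pr := by rw [hpr]; infer_instance
  haveI : Flat pr := by rw [hpr]; infer_instance
  obtain ⟨hclopen, hfac⟩ := core_proper pr H0' Z.hom Y.hom f.left hFw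
  obtain ⟨σ, hσ⟩ : ∃ σ : (X ⊗ Over.mk (Spec.map (CommRingCat.ofHom (algebraMap k K)))).left ⟶
      pullback X.hom Y.hom, σ = (X ◁ y₀).left := ⟨_, rfl⟩
  obtain ⟨sW, hsW⟩ : ∃ sW : (X ⊗ Over.mk (Spec.map (CommRingCat.ofHom (algebraMap k K)))).left ⟶
      Spec (CommRingCat.of K), sW = (snd X (Over.mk (Spec.map (CommRingCat.ofHom
        (algebraMap k K))))).left := ⟨_, rfl⟩
  have hpb : IsPullback σ sW pr y₀.left := by
    rw [hpr, hσ, hsW]
    refine IsPullback.of_right ?_ ?_ (IsPullback.of_hasPullback X.hom Y.hom)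
    · have h1 : (X ◁ y₀).left ≫ pullback.fst X.hom Y.hom =
          pullback.fst X.hom (Spec.map (CommRingCat.ofHom (algebraMap k K))) :=
        congrArg (fun ψ => ψ.left) (whiskerLeft_fst X y₀)
      have h2 : y₀.left ≫ Y.hom = Spec.map (CommRingCat.ofHom (algebraMap k K)) := Over.w y₀
      rw [h1, h2]
      exact IsPullback.of_hasPullback X.hom (Spec.map (CommRingCat.ofHom (algebraMap k K)))
    · exact congrArg (fun ψ => ψ.left) (whiskerLeft_snd X y₀)
  obtain ⟨pt⟩ : Nonempty ↥(Spec (CommRingCat.of K)) := inferInstance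
  have hrange : ∀ z : ↥(pullback X.hom Y.hom), pr z = y₀.left pt → f.left z = z₀.left pt := by
    intro z hz
    obtain ⟨w, hw1, hw2⟩ :=
      Scheme.Pullback.exists_preimage_pullback (f := pr) (g := y₀.left) z pt hz
    have h3 : σ (hpb.isoPullback.inv w) = z := by
      rw [← Scheme.Hom.comp_apply, hpb.isoPullback_inv_fst, hw1]
    have h4 : sW (hpb.isoPullback.inv w) = pt := by
      rw [← Scheme.Hom.comp_apply, hpb.isoPullback_inv_snd, hw2]
    have h5 : σ ≫ f.left = sW ≫ z₀.left := by
      rw [hσ, hsW]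
      exact congrArg (fun ψ => ψ.left) h
    rw [← h3, ← Scheme.Hom.comp_apply, h5, Scheme.Hom.comp_apply, h4]
  have hmem : y₀.left pt ∈ collapsed pr f.left := by
    intro z z' hz hz'
    rw [hrange z hz, hrange z' hz']
  obtain ⟨t₀, ht1, ht2⟩ := hfac (hclopen.eq_univ ⟨_, hmem⟩)
  obtain ⟨g, hg⟩ : ∃ g : Y ⟶ Z, g.left = t₀ := ⟨Over.homMk t₀ ht1, rfl⟩
  have hfg : f = snd X Y ≫ g := by
    ext
    rw [Over.comp_left, hg, Over.snd_left, ← hpr]
    exact ht2
  have hsurj : Function.Surjective pr := surjective_of_H0 pr H0'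
  haveI : Surjective pr := ⟨hsurj⟩
  haveI : EffectiveEpi pr := inferInstance
  haveI : Epi pr := inferInstance
  refine ⟨g, hfg, fun g' hg' => ?_⟩
  have h6 : pr ≫ g'.left = pr ≫ g.left := by
    have := congrArg (fun ψ => ψ.left) (hg'.symm.trans hfg)
    rw [hpr]
    exact this
  ext
  exact (cancel_epi pr).mp h6

end Groth.Agent.H1.RigidH
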