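import Mathlib
import Groth.Prelude.Def_RedSub

set_option autoImplicit false

namespace Groth.Agent.H1.RootPar

open Set Function RootPairing

variable {idx M N : Type} [Finite idx] [AddCommGroup M] [AddCommGroup N]
variable (P : RootPairing idx ℤ M N)

lemma equiv_mem_closure {A : Type} [AddCommGroup A] (e : A ≃ₗ[ℤ] A) {S : Set A} {x : A}
    (hx : x ∈ AddSubmonoid.closure S) : e x ∈ AddSubmonoid.closure (e '' S) := by
  induction hx using AddSubmonoid.closure_induction with
  | mem y hy => exact AddSubmonoid.subset_closure ⟨y, hy, rfl⟩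
  | zero => rw [map_zero]; exact zero_mem _
  | add y z _ _ hy hz => rw [map_add]; exact add_mem hy hz

lemma image_root_map (b : P.Base) (j : idx) :
    P.root '' ((b.support.map (P.reflectionPerm j).toEmbedding : Finset idx) : Set idx) =
      (P.reflection j) '' (P.root '' (b.support : Set idx)) := by
  ext x
  constructor
  · rintro ⟨i, hi, rfl⟩
    rw [Finset.coe_map] at hi
    obtain ⟨l, hl, rfl⟩ := hi
    exact ⟨P.root l, ⟨l, hl, rfl⟩, (P.root_reflectionPerm j l).symm⟩
  · rintro ⟨_, ⟨l, hl, rfl⟩, rfl⟩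
    refine ⟨P.reflectionPerm j l, ?_, P.root_reflectionPerm j l⟩
    rw [Finset.coe_map]
    exact ⟨l, hl, rfl⟩

lemma image_coroot_map (b : P.Base) (j : idx) :
    P.coroot '' ((b.support.map (P.reflectionPerm j).toEmbedding : Finset idx) : Set idx) =
      (P.coreflection j) '' (P.coroot '' (b.support : Set idx)) := by
  ext x
  constructor
  · rintro ⟨i, hi, rfl⟩
    rw [Finset.coe_map] at hi
    obtain ⟨l, hl, rfl⟩ := hi
    exact ⟨P.coroot l, ⟨l, hl, rfl⟩, (P.coroot_reflectionPerm j l).symm⟩
  · rintro ⟨_, ⟨l, hl, rfl⟩, rfl⟩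
    refine ⟨P.reflectionPerm j l, ?_, P.coroot_reflectionPerm j l⟩
    rw [Finset.coe_map]
    exact ⟨l, hl, rfl⟩

/-- The base obtained by reflecting a base in one of the roots. -/
noncomputable def reflBase (b : P.Base) (j : idx) : P.Base where
  support := b.support.map (P.reflectionPerm j).toEmbedding
  linearIndepOn_root := by
    have h1 : LinearIndepOn ℤ (((P.reflection j : M ≃ₗ[ℤ] M) : M →ₗ[ℤ] M) ∘ P.root)
        (b.support : Set idx) :=
      b.linearIndepOn_root.map_injOn _ ((P.reflection j).injective.injOn)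
    have h2 : (((P.reflection j : M ≃ₗ[ℤ] M) : M →ₗ[ℤ] M) ∘ P.root) =
        P.root ∘ (P.reflectionPerm j) := by
      funext i
      simp [root_reflectionPerm]
    rw [h2, linearIndepOn_equiv] at h1
    rw [Finset.coe_map]
    exact h1
  linearIndepOn_coroot := by
    have h1 : LinearIndepOn ℤ (((P.coreflection j : N ≃ₗ[ℤ] N) : N →ₗ[ℤ] N) ∘ P.coroot)
        (b.support : Set idx) :=
      b.linearIndepOn_coroot.map_injOn _ ((P.coreflection j).injective.injOn)
    have h2 : (((P.coreflection j : N ≃ₗ[ℤ] N) : N →ₗ[ℤ] N) ∘ P.coroot) =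
        P.coroot ∘ (P.reflectionPerm j) := by
      funext i
      simp [coroot_reflectionPerm]
    rw [h2, linearIndepOn_equiv] at h1
    rw [Finset.coe_map]
    exact h1
  root_mem_or_neg_mem i := by
    rw [image_root_map]
    have hi : (P.reflection j) (P.root (P.reflectionPerm j i)) = P.root i := by
      rw [← P.root_reflectionPerm j, P.reflectionPerm_self]
    rcases b.root_mem_or_neg_mem (P.reflectionPerm j i) with h | h
    · left; rw [← hi]; exact equiv_mem_closure _ h
    · right; rw [← hi, ← map_neg]; exact equiv_mem_closure _ h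
  coroot_mem_or_neg_mem i := by
    rw [image_coroot_map]
    have hi : (P.coreflection j) (P.coroot (P.reflectionPerm j i)) = P.coroot i := by
      rw [← P.coroot_reflectionPerm j, P.reflectionPerm_self]
    rcases b.coroot_mem_or_neg_mem (P.reflectionPerm j i) with h | h
    · left; rw [← hi]; exact equiv_mem_closure _ h
    · right; rw [← hi, ← map_neg]; exact equiv_mem_closure _ h

lemma mem_posRoots_refl (b : P.Base) (j : idx) {a : idx}
    (h : P.reflectionPerm j a ∈ RedSub.posRoots P b) : a ∈ RedSub.posRoots P (reflBase P b j) := by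
  show P.root a ∈ AddSubmonoid.closure
    (P.root '' ((b.support.map (P.reflectionPerm j).toEmbedding : Finset idx) : Set idx))
  rw [image_root_map]
  have hi : (P.reflection j) (P.root (P.reflectionPerm j a)) = P.root a := by
    rw [← P.root_reflectionPerm j, P.reflectionPerm_self]
  rw [← hi]
  exact equiv_mem_closure _ h

lemma simple_mem (b : P.Base) {j : idx} (hj : j ∈ b.support) : j ∈ RedSub.posRoots P b :=
  AddSubmonoid.subset_closure ⟨j, Finset.mem_coe.mpr hj, rfl⟩

lemma exists_nat_coeff (b : P.Base) {m : M}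
    (hm : m ∈ AddSubmonoid.closure (P.root '' (b.support : Set idx))) :
    ∃ f : idx → ℕ, m = ∑ l ∈ b.support, f l • P.root l := by
  classical
  induction hm using AddSubmonoid.closure_induction with
  | mem y hy =>
    obtain ⟨l, hl, rfl⟩ := hy
    refine ⟨Pi.single l 1, ?_⟩
    rw [Finset.sum_eq_single_of_mem l (Finset.mem_coe.mp hl)
      (by intro c _ hc; simp [hc])]
    simp
  | zero => exact ⟨0, by simp⟩
  | add y z _ _ hy hz =>
    obtain ⟨f, hf⟩ := hy
    obtain ⟨g, hg⟩ := hz
    exact ⟨f + g, by simp [hf, hg, add_smul, Finset.sum_add_distrib]⟩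

lemma isPos_of_mem (b : P.Base) {a : idx} (h : a ∈ RedSub.posRoots P b) : b.IsPos a := by
  obtain ⟨f, hf⟩ := exists_nat_coeff P b h
  have hf' : P.root a = ∑ l ∈ b.support, ((f l : ℤ)) • P.root l := by
    rw [hf]
    exact Finset.sum_congr rfl (fun l _ => (natCast_zsmul _ _).symm)
  rw [RootPairing.Base.isPos_iff', RootPairing.Base.height_eq_sum hf']
  exact Finset.sum_nonneg (fun l _ => Int.natCast_nonneg _)

lemma root_neg (a : idx) : P.root (P.reflectionPerm a a) = -P.root a := by
  rw [P.root_reflectionPerm, P.reflection_apply_self]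

lemma mem_of_isPos (b : P.Base) {a : idx} (h : b.IsPos a) : a ∈ RedSub.posRoots P b := by
  rcases b.root_mem_or_neg_mem a with h1 | h1
  · exact h1
  · exfalso
    have h2 : (P.reflectionPerm a a) ∈ RedSub.posRoots P b := by
      show P.root (P.reflectionPerm a a) ∈
        AddSubmonoid.closure (P.root '' (b.support : Set idx))
      rw [root_neg]
      exact h1
    have h3 := isPos_of_mem P b h2
    exact (RootPairing.Base.IsPos.neg_iff_not b a).mp h3 h

lemma neg_simple_not_mem (b : P.Base) {j : idx} (hj : j ∈ b.support) :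
    P.reflectionPerm j j ∉ RedSub.posRoots P b := by
  intro h
  have h3 := isPos_of_mem P b h
  exact (RootPairing.Base.IsPos.neg_iff_not b j).mp h3 (RootPairing.Base.isPos_of_mem_support hj)

lemma isPos_refl (b : P.Base) {i j : idx} (hj : j ∈ b.support) (h₀ : b.IsPos i) (hij : i ≠ j) :
    b.IsPos (P.reflectionPerm j i) := by
  classical
  haveI : Module.IsReflexive ℤ M := .of_isPerfPair P.toLinearMap
  haveI : Module.IsReflexive ℤ N := .of_isPerfPair P.flip.toLinearMap
  haveI : IsAddTorsionFree M := .of_isTorsionFree ℤ M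
  haveI : IsAddTorsionFree N := .of_isTorsionFree ℤ N
  obtain ⟨f, hf₀, hf₁, hf₂⟩ := b.exists_root_eq_sum_int i
  replace hf₁ : 0 < f := by
    refine hf₁.resolve_right ?_
    rw [RootPairing.Base.isPos_iff, RootPairing.Base.height_eq_sum hf₂] at h₀
    contrapose! h₀
    exact Finset.sum_nonpos fun i _ ↦ h₀.le i
  obtain ⟨z, hz⟩ : ∃ z : ℤ, z = P.pairing i j := ⟨_, rfl⟩
  obtain ⟨g, hgdef⟩ : ∃ g : idx → ℤ, g = fun l => f l - (if l = j then z else 0) := ⟨_, rfl⟩
  have hrefl : P.root (P.reflectionPerm j i) = P.root i - z • P.root j := by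
    rw [P.root_reflectionPerm, P.reflection_apply_root, hz]
  have hg : ∑ l ∈ b.support, g l • P.root l = P.root (P.reflectionPerm j i) := by
    have e1 : ∀ l ∈ b.support, g l • P.root l =
        f l • P.root l - (if l = j then z • P.root l else 0) := by
      intro l _
      rw [hgdef]
      by_cases hl : l = j
      · simp only [if_pos hl, sub_smul]
      · simp only [if_neg hl, sub_zero]
    rw [Finset.sum_congr rfl e1, Finset.sum_sub_distrib, Finset.sum_ite_eq' b.support j,
      if_pos hj, ← hf₂, hrefl]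
  have hgsupp : Function.support g ⊆ (b.support : Set idx) := by
    intro l hl
    by_contra hls
    have h1 : f l = 0 := by
      by_contra h
      exact hls (hf₀ h)
    have hlj : l ≠ j := fun h => hls (h ▸ Finset.mem_coe.mpr hj)
    apply hl
    rw [hgdef]
    simp only [if_neg hlj, h1, sub_zero]
  have hsign := b.pos_or_neg_of_sum_smul_root_mem g ⟨_, hg.symm⟩ hgsupp
  by_cases hex : ∃ l ∈ b.support, l ≠ j ∧ 0 < f l
  · obtain ⟨l, hl, hlj, hfl⟩ := hex
    have hgl : 0 < g l := by
      rw [hgdef]
      simp only [if_neg hlj, sub_zero]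
      exact hfl
    have hgpos : 0 < g := by
      refine hsign.resolve_right (fun hneg => ?_)
      have h' : g l ≤ 0 := hneg.le l
      exact absurd hgl (not_lt.mpr h')
    rw [RootPairing.Base.isPos_iff', RootPairing.Base.height_eq_sum hg.symm]
    exact Finset.sum_nonneg (fun l _ => hgpos.le l)
  · exfalso
    push Not at hex
    have hzero : ∀ l ∈ b.support, l ≠ j → f l = 0 :=
      fun l hl hlj => le_antisymm (hex l hl hlj) (hf₁.le l)
    have hi' : P.root i = f j • P.root j := by
      rw [hf₂]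
      exact Finset.sum_eq_single_of_mem j hj
        (fun l hl hlj => by rw [hzero l hl hlj, zero_smul])
    have h1 := b.eq_one_or_neg_one_of_mem_support_of_smul_mem j hj (f j) ⟨i, hi'⟩
    have hfj : f j = 1 := by
      rcases h1 with h | h
      · exact h
      · have h0 : (0 : ℤ) ≤ f j := hf₁.le j
        omega
    exact hij (P.root.injective (by rw [hi', hfj, one_smul]))

lemma refl_mem_posRoots (b : P.Base) {i j : idx} (hj : j ∈ b.support)
    (hi : i ∈ RedSub.posRoots P b) (hij : i ≠ j) :
    P.reflectionPerm j i ∈ RedSub.posRoots P b :=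
  mem_of_isPos P b (isPos_refl P b hj (isPos_of_mem P b hi) hij)

lemma posRoots_subset_of_simple (b : P.Base) (Q : Set idx)
    (hcl : ∀ a b c : idx, a ∈ Q → b ∈ Q → P.root a + P.root b = P.root c → c ∈ Q)
    (hs : ∀ l ∈ b.support, l ∈ Q) : RedSub.posRoots P b ⊆ Q := by
  intro a ha
  exact (isPos_of_mem P b ha).induction_on_add (p := fun i => i ∈ Q) hs
    (fun i l k hk hi hl => hcl i l k hi (hs l hl) hk.symm)

theorem exists_base_subset (Q : Set idx)
    (hcl : ∀ a b c : idx, a ∈ Q → b ∈ Q → P.root a + P.root b = P.root c → c ∈ Q)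
    (hpar : ∀ a : idx, a ∈ Q ∨ P.reflectionPerm a a ∈ Q)
    (b₀ : P.Base) : ∃ b : P.Base, RedSub.posRoots P b ⊆ Q := by
  by_contra hne
  push Not at hne
  have key : ∀ k : ℕ, ∃ b : P.Base, k ≤ (Q ∩ RedSub.posRoots P b).ncard := by
    intro k
    induction k with
    | zero => exact ⟨b₀, Nat.zero_le _⟩
    | succ k ih =>
      obtain ⟨b, hb⟩ := ih
      have hex : ∃ j ∈ b.support, j ∉ Q := by
        by_contra h
        push Not at h
        exact hne b (posRoots_subset_of_simple P b Q hcl h)
      obtain ⟨j, hj, hjQ⟩ := hex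
      refine ⟨reflBase P b j, ?_⟩
      have hnegQ : P.reflectionPerm j j ∈ Q := (hpar j).resolve_left hjQ
      have hsub : insert (P.reflectionPerm j j) (Q ∩ RedSub.posRoots P b) ⊆
          Q ∩ RedSub.posRoots P (reflBase P b j) := by
        intro a ha
        rcases ha with rfl | ⟨haQ, hab⟩
        · refine ⟨hnegQ, mem_posRoots_refl P b j ?_⟩
          rw [P.reflectionPerm_self]
          exact simple_mem P b hj
        · refine ⟨haQ, mem_posRoots_refl P b j ?_⟩
          have haj : a ≠ j := fun h => hjQ (h ▸ haQ)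
          exact refl_mem_posRoots P b hj hab haj
      have hnot : P.reflectionPerm j j ∉ Q ∩ RedSub.posRoots P b :=
        fun h => neg_simple_not_mem P b hj h.2
      calc k + 1 ≤ (Q ∩ RedSub.posRoots P b).ncard + 1 := Nat.succ_le_succ hb
        _ = (insert (P.reflectionPerm j j) (Q ∩ RedSub.posRoots P b)).ncard :=
            (Set.ncard_insert_of_notMem hnot (Set.toFinite _)).symm
        _ ≤ _ := Set.ncard_le_ncard hsub (Set.toFinite _)
  obtain ⟨b, hb⟩ := key (Nat.card idx + 1)
  have h1 : (Q ∩ RedSub.posRoots P b).ncard ≤ Nat.card idx := by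
    calc _ ≤ (Set.univ : Set idx).ncard := Set.ncard_le_ncard (Set.subset_univ _) Set.finite_univ
      _ = Nat.card idx := Set.ncard_univ idx
  omega

theorem main (R₁ R₂ : Set idx)
    (h₁ : ∀ a b c : idx, a ∈ R₁ → b ∈ R₁ → P.root a + P.root b = P.root c → c ∈ R₁)
    (h₂ : ∀ a b c : idx, a ∈ R₂ → b ∈ R₂ → P.root a + P.root b = P.root c → c ∈ R₂)
    (hb₁ : ∃ b : P.Base, RedSub.posRoots P b ⊆ R₁) (hb₂ : ∃ b : P.Base, RedSub.posRoots P b ⊆ R₂)
    (hunion : R₁ ∪ R₂ = Set.univ) :
    ∃ b : P.Base, RedSub.posRoots P b ⊆ {a | a ∈ R₁ ∧ ∃ c ∈ R₂, P.root a = -P.root c} := by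
  obtain ⟨b1, hb1⟩ := hb₁
  obtain ⟨b2, hb2⟩ := hb₂
  have par : ∀ (b : P.Base) (R : Set idx), RedSub.posRoots P b ⊆ R →
      ∀ a, a ∈ R ∨ P.reflectionPerm a a ∈ R := by
    intro b R hbR a
    rcases b.root_mem_or_neg_mem a with h | h
    · exact Or.inl (hbR h)
    · refine Or.inr (hbR ?_)
      show P.root (P.reflectionPerm a a) ∈
        AddSubmonoid.closure (P.root '' (b.support : Set idx))
      rw [root_neg]
      exact h
  have par₁ := par b1 R₁ hb1
  have par₂ := par b2 R₂ hb2
  have hu : ∀ x, x ∈ R₁ ∨ x ∈ R₂ := fun x => by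
    have : x ∈ R₁ ∪ R₂ := hunion ▸ Set.mem_univ x
    exact this
  refine exists_base_subset P _ ?_ ?_ b1
  · rintro a b c ⟨ha1, a2, ha2, hra⟩ ⟨hb1', b2', hb2', hrb⟩ habc
    refine ⟨h₁ a b c ha1 hb1' habc, P.reflectionPerm c c, ?_, by rw [root_neg, neg_neg]⟩
    refine h₂ a2 b2' _ ha2 hb2' ?_
    rw [root_neg, ← habc, hra, hrb]
    abel
  · intro a
    by_cases h1 : a ∈ R₁
    · by_cases h2 : P.reflectionPerm a a ∈ R₂
      · left
        exact ⟨h1, P.reflectionPerm a a, h2, by rw [root_neg, neg_neg]⟩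
      · right
        have h3 : P.reflectionPerm a a ∈ R₁ := (hu _).resolve_right h2
        have h4 : a ∈ R₂ := (par₂ a).resolve_right h2
        exact ⟨h3, a, h4, root_neg P a⟩
    · right
      have h3 : a ∈ R₂ := (hu a).resolve_left h1
      have h4 : P.reflectionPerm a a ∈ R₁ := (par₁ a).resolve_left h1
      exact ⟨h4, a, h3, root_neg P a⟩

end Groth.Agent.H1.RootPar
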