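import Mathlib

/-!
# Euler characteristic of pages of a spectral sequence (helper1)
-/

set_option autoImplicit false
universe u

open CategoryTheory CategoryTheory.Limits

namespace Groth.Agent.H1.SSEuler

variable {A : Type u} [Ring A]

/-- length of the range of a morphism of modules -/
noncomputable def rk {M N : ModuleCat.{u} A} (f : M ⟶ N) : ℕ∞ :=
  Module.length A (LinearMap.range f.hom)

lemma length_shortComplex (S : ShortComplex (ModuleCat.{u} A)) :
    Module.length A S.X₂ = Module.length A S.homology + rk S.f + rk S.g := by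
  have h1 : Module.length A S.X₂ =
      Module.length A (LinearMap.ker S.g.hom) + Module.length A (LinearMap.range S.g.hom) :=
    Module.length_eq_add_of_exact (LinearMap.ker S.g.hom).subtype S.g.hom.rangeRestrict
      (Submodule.subtype_injective _) (LinearMap.surjective_rangeRestrict _)
      (by
        intro x
        constructor
        · intro hx
          refine ⟨⟨x, ?_⟩, rfl⟩
          have := congrArg Subtype.val hx
          simpa using this
        · rintro ⟨y, rfl⟩
          ext
          simpa using y.2)
  have h2 : Module.length A (LinearMap.ker S.g.hom) =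
      Module.length A (LinearMap.range S.moduleCatToCycles) +
        Module.length A (LinearMap.ker S.g.hom ⧸ LinearMap.range S.moduleCatToCycles) :=
    Module.length_eq_add_of_exact (LinearMap.range S.moduleCatToCycles).subtype
      (LinearMap.range S.moduleCatToCycles).mkQ (Submodule.subtype_injective _)
      (Submodule.mkQ_surjective _) (LinearMap.exact_subtype_mkQ _)
  have h3 : Module.length A (LinearMap.range S.moduleCatToCycles) = rk S.f := by
    have e := Submodule.equivMapOfInjective (LinearMap.ker S.g.hom).subtype
      (Submodule.subtype_injective _) (LinearMap.range S.moduleCatToCycles)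
    rw [e.length_eq]
    unfold rk
    have hEq : Submodule.map (LinearMap.ker S.g.hom).subtype
        (LinearMap.range S.moduleCatToCycles) = LinearMap.range S.f.hom := by
      rw [← LinearMap.range_comp]
      rfl
    rw [hEq]
  have h4 : Module.length A S.homology =
      Module.length A (LinearMap.ker S.g.hom ⧸ LinearMap.range S.moduleCatToCycles) :=
    (S.moduleCatHomologyIso.toLinearEquiv).length_eq
  rw [h1, h2, h3, h4]
  unfold rk
  ring

lemma length_homologicalComplex {ι : Type*} {c : ComplexShape ι}
    (K : HomologicalComplex (ModuleCat.{u} A) c) (i j k : ι) (hi : c.prev j = i)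
    (hk : c.next j = k) :
    Module.length A (K.X j) = Module.length A (K.homology j) + rk (K.d i j) + rk (K.d j k) := by
  subst hi hk
  exact length_shortComplex (K.sc j)


lemma rk_eq_zero_of_src {M N : ModuleCat.{u} A} (f : M ⟶ N) (h : IsZero M) : rk f = 0 := by
  have : f = 0 := h.eq_of_src _ _
  subst this
  unfold rk
  rw [Module.length_eq_zero_iff]
  simp only [ModuleCat.hom_zero, LinearMap.range_zero]
  infer_instance

lemma rk_eq_zero_of_tgt {M N : ModuleCat.{u} A} (f : M ⟶ N) (h : IsZero N) : rk f = 0 := by
  have : f = 0 := h.eq_of_tgt _ _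
  subst this
  unfold rk
  rw [Module.length_eq_zero_iff]
  simp only [ModuleCat.hom_zero, LinearMap.range_zero]
  infer_instance

lemma rk_ne_top {M N : ModuleCat.{u} A} (f : M ⟶ N) (h : IsFiniteLength A N) : rk f ≠ ⊤ := by
  unfold rk
  rw [Module.length_ne_top_iff]
  exact IsFiniteLength.of_injective h (Submodule.subtype_injective _)

/-- sign -/
def eps (pq : ℤ × ℤ) : ℤ := (((pq.1 + pq.2).negOnePow : ℤˣ) : ℤ)

lemma eps_add (v : ℤ × ℤ) (hv : v.1 + v.2 = 1) (pq : ℤ × ℤ) : eps (pq + v) = - eps pq := by
  unfold eps
  have : (pq + v).1 + (pq + v).2 = (pq.1 + pq.2) + 1 := by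
    simp only [Prod.fst_add, Prod.snd_add]; omega
  rw [this, Int.negOnePow_succ]
  simp

lemma isFiniteLength_homology {ι : Type*} {c : ComplexShape ι}
    (K : HomologicalComplex (ModuleCat.{u} A) c) (j : ι) (h : IsFiniteLength A (K.X j)) :
    IsFiniteLength A (K.homology j) := by
  have h0 := length_homologicalComplex K _ j _ rfl rfl
  rw [← Module.length_ne_top_iff] at h ⊢
  intro htop
  rw [htop] at h0
  simp at h0
  exact h h0

lemma isZero_homology {ι : Type*} {c : ComplexShape ι}
    (K : HomologicalComplex (ModuleCat.{u} A) c) (j : ι) (h : IsZero (K.X j)) :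
    IsZero (K.homology j) := by
  have h0 := length_homologicalComplex K _ j _ rfl rfl
  have h1 : Module.length A (K.X j) = 0 := by
    rw [Module.length_eq_zero_iff]
    exact ModuleCat.subsingleton_of_isZero h
  rw [h1] at h0
  have h2 : Module.length A (K.homology j) = 0 := by
    have := h0.symm
    simp only [add_eq_zero] at this
    exact this.1.1
  rw [Module.length_eq_zero_iff] at h2
  exact ModuleCat.isZero_of_subsingleton _

theorem euler_page (v : ℤ × ℤ) (hv : v.1 + v.2 = 1)
    (K : HomologicalComplex (ModuleCat.{u} A) (ComplexShape.up' v)) (s : Finset (ℤ × ℤ))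
    (hs : ∀ pq : ℤ × ℤ, pq ∉ s → IsZero (K.X pq))
    (hfl : ∀ pq : ℤ × ℤ, IsFiniteLength A (K.X pq)) :
    (s.sum fun pq => eps pq * ((Module.length A (K.X pq)).toNat : ℤ)) =
      s.sum fun pq => eps pq * ((Module.length A (K.homology pq)).toNat : ℤ) := by
  set R : ℤ × ℤ → ℤ := fun i => ((rk (K.d i (i + v))).toNat : ℤ) with hR
  have hRz : ∀ i, i ∉ s → R i = 0 := by
    intro i hi
    simp only [hR]
    rw [rk_eq_zero_of_src _ (hs i hi)]
    simp
  have hRz' : ∀ i, i + v ∉ s → R i = 0 := by
    intro i hi
    simp only [hR]
    rw [rk_eq_zero_of_tgt _ (hs _ hi)]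
    simp
  have hcongr : ∀ i j j' : ℤ × ℤ, j = j' → rk (K.d i j) = rk (K.d i j') := by
    intro i j j' h; subst h; rfl
  have key : ∀ pq : ℤ × ℤ, ((Module.length A (K.X pq)).toNat : ℤ) =
      ((Module.length A (K.homology pq)).toNat : ℤ) + R (pq - v) + R pq := by
    intro pq
    have hprev : (ComplexShape.up' v).prev pq = pq - v := by
      apply ComplexShape.prev_eq'
      change pq - v + v = pq
      simp
    have hnext : (ComplexShape.up' v).next pq = pq + v := by
      apply ComplexShape.next_eq'
      rfl
    have h0 := length_homologicalComplex K _ pq _ hprev hnext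
    have hH : Module.length A (K.homology pq) ≠ ⊤ :=
      Module.length_ne_top_iff.mpr (isFiniteLength_homology K pq (hfl pq))
    have h1 : rk (K.d (pq - v) pq) ≠ ⊤ := rk_ne_top _ (hfl _)
    have h2 : rk (K.d pq (pq + v)) ≠ ⊤ := rk_ne_top _ (hfl _)
    have h3 : rk (K.d (pq - v) (pq - v + v)) = rk (K.d (pq - v) pq) :=
      hcongr _ _ _ (by simp)
    simp only [hR]
    rw [h3, h0]
    lift Module.length A (K.homology pq) to ℕ using hH with a
    lift rk (K.d (pq - v) pq) to ℕ using h1 with b
    lift rk (K.d pq (pq + v)) to ℕ using h2 with c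
    have : ((a : ℕ∞) + b + c) = ((a + b + c : ℕ) : ℕ∞) := by push_cast; rfl
    rw [this]
    simp only [ENat.toNat_natCast]
    push_cast
    ring
  have hsum1 : (s.sum fun pq => eps pq * R pq) = ∑ᶠ pq, eps pq * R pq := by
    rw [finsum_eq_sum_of_support_subset]
    intro pq hpq
    by_contra hns
    apply hpq
    simp only [Finset.mem_coe] at hns
    show eps pq * R pq = 0
    rw [hRz pq hns, mul_zero]
  have hsum2 : (s.sum fun pq => eps pq * R (pq - v)) = ∑ᶠ pq, eps pq * R (pq - v) := by
    rw [finsum_eq_sum_of_support_subset]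
    intro pq hpq
    by_contra hns
    apply hpq
    simp only [Finset.mem_coe] at hns
    show eps pq * R (pq - v) = 0
    rw [hRz' (pq - v) (by simpa using hns), mul_zero]
  have hshift : (∑ᶠ pq, eps pq * R (pq - v)) = ∑ᶠ pq, eps (pq + v) * R pq := by
    rw [← finsum_comp_equiv (Equiv.addRight v)]
    apply finsum_congr
    intro pq
    simp
  have htel : (s.sum fun pq => eps pq * (R (pq - v) + R pq)) = 0 := by
    simp only [mul_add]
    rw [Finset.sum_add_distrib, hsum1, hsum2, hshift]
    simp only [eps_add v hv, neg_mul]
    rw [finsum_neg_distrib]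
    simp
  calc (s.sum fun pq => eps pq * ((Module.length A (K.X pq)).toNat : ℤ))
      = s.sum fun pq => (eps pq * ((Module.length A (K.homology pq)).toNat : ℤ)
          + eps pq * (R (pq - v) + R pq)) := by
        apply Finset.sum_congr rfl
        intro pq _
        rw [key pq]; ring
    _ = _ := by
        rw [Finset.sum_add_distrib, htel, add_zero]


end Groth.Agent.H1.SSEuler
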