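import Mathlib
import Groth.Prelude.Def_Desc

/-! Helper1: the canonical-descent-datum functor for schemes is faithful (flat surjective) and
full (fpqc). -/
open CategoryTheory CategoryTheory.Limits AlgebraicGeometry Opposite
universe u
open Desc

namespace Groth.Agent.H1

theorem toDD_faithful {X S : Scheme.{u}} (p : X ⟶ S) [Surjective p] [Flat p] :
    (Desc.toDD p).Faithful := by
  constructor
  intro U U' g g' h
  have h1 : ((Desc.toDD p).map g).hom.left ≫ pullback.snd p U'.hom =
      ((Desc.toDD p).map g').hom.left ≫ pullback.snd p U'.hom := by rw [h]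
  have e1 : ∀ g : U ⟶ U', ((Desc.toDD p).map g).hom.left ≫ pullback.snd p U'.hom =
      pullback.snd p U.hom ≫ g.left := by
    intro g
    change pullback.map p U.hom p U'.hom (𝟙 X) g.left (𝟙 S) (by simp) (by simp) ≫
      pullback.snd p U'.hom = _
    exact pullback.lift_snd _ _ _
  rw [e1, e1] at h1
  have : Epi (pullback.snd p U.hom) := Flat.epi_of_flat_of_surjective _
  ext
  exact (cancel_epi (pullback.snd p U.hom)).1 h1

end Groth.Agent.H1

namespace Groth.Agent.H1

theorem toDD_full {X S : Scheme.{u}} (p : X ⟶ S) [Surjective p] [Flat p] [QuasiCompact p] :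
    (Desc.toDD p).Full := by
  constructor
  intro U U' F
  let q := pullback.snd p U.hom
  let q' := pullback.snd p U'.hom
  let Fl : pullback p U.hom ⟶ pullback p U'.hom := F.hom.left
  have hFfst : Fl ≫ pullback.fst p U'.hom = pullback.fst p U.hom := Over.w F.hom
  -- the descended map
  have hdesc : ∀ {Z : Scheme.{u}} (a b : Z ⟶ pullback p U.hom), a ≫ q = b ≫ q →
      a ≫ (Fl ≫ q') = b ≫ (Fl ≫ q') := by
    intro Z a b hab
    let x₀ : Z ⟶ X := a ≫ pullback.fst p U.hom
    let x₁ : Z ⟶ X := b ≫ pullback.fst p U.hom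
    have h : x₀ ≫ p = x₁ ≫ p := by
      simp only [x₀, x₁, Category.assoc, pullback.condition]
      rw [← Category.assoc, ← Category.assoc]
      congr 1
    let v : Lifts (Desc.toDD p |>.obj U).obj x₀ := ⟨a, rfl⟩
    let w : Lifts (Desc.toDD p |>.obj U').obj x₀ :=
      ⟨a ≫ Fl, (Category.assoc _ _ _).trans (congrArg (a ≫ ·) hFfst)⟩
    have hc : ((Desc.toDD p |>.obj U').φ x₀ x₁ h w).1 =
        ((Desc.toDD p |>.obj U).φ x₀ x₁ h v).1 ≫ Fl := F.comm x₀ x₁ h v w rfl
    have hb : ((Desc.toDD p |>.obj U).φ x₀ x₁ h v).1 = b := by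
      change pullback.lift x₁ (a ≫ pullback.snd p U.hom) _ = b
      apply pullback.hom_ext
      · exact pullback.lift_fst _ _ _
      · exact (pullback.lift_snd _ _ _).trans hab
    have hc' : ((Desc.toDD p |>.obj U').φ x₀ x₁ h w).1 ≫ q' = a ≫ Fl ≫ q' := by
      change pullback.lift x₁ ((a ≫ Fl) ≫ pullback.snd p U'.hom) _ ≫ pullback.snd p U'.hom = _
      exact (pullback.lift_snd _ _ _).trans (Category.assoc _ _ _)
    rw [hc, hb] at hc'
    exact hc'.symm.trans (Category.assoc _ _ _)
  have : EffectiveEpi q := inferInstance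
  let g : U.left ⟶ U'.left := EffectiveEpi.desc q (Fl ≫ q') hdesc
  have hg : q ≫ g = Fl ≫ q' := EffectiveEpi.fac q _ hdesc
  have hgS : g ≫ U'.hom = U.hom := by
    rw [← cancel_epi q, ← Category.assoc, hg, Category.assoc, ← pullback.condition,
      ← Category.assoc, hFfst, pullback.condition]
  refine ⟨Over.homMk g hgS, ?_⟩
  ext
  change pullback.map p U.hom p U'.hom (𝟙 X) g (𝟙 S) (by simp) (by simp [hgS]) = Fl
  apply pullback.hom_ext
  · rw [hFfst]; exact (pullback.lift_fst _ _ _).trans (Category.comp_id _)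
  · rw [← hg]; exact pullback.lift_snd _ _ _

end Groth.Agent.H1
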