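import Groth.Agent.Lib.Helper1.SchFlat
import Groth.Agent.Lib.Helper1.FPKer
import Groth.Agent.Lib.Lead.QC.SubExt
import Groth.Agent.Lib.Lead.QC.Gen
import Groth.Agent.Lib.Lead.QC.Closure

/-!
# Kernels of epimorphisms onto flat finitely presented modules (EGA IV 11.3.9.1, schemes)
-/

set_option autoImplicit false

universe u

open CategoryTheory Limits AlgebraicGeometry TopologicalSpace Opposite

namespace Groth.Agent.H1.SchFlat

open Groth.Agent.LD.QC

variable {X Y : Scheme.{u}}

/-- sections of the kernel over `U` as the kernel of the map on sections -/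
noncomputable def kernelSectionsEquiv {G H : X.Modules} (p : G ⟶ H) (U : X.Opens) :
    Γ(kernel p, U) ≃ₗ[Γ(X, U)]
      LinearMap.ker (appLinear p U : Γ(G, U) →ₗ[Γ(X, U)] Γ(H, U)) :=
  LinearEquiv.ofBijective
    ((appLinear (kernel.ι p) U).codRestrict
      (LinearMap.ker (appLinear p U : Γ(G, U) →ₗ[Γ(X, U)] Γ(H, U))) (fun t => by
      rw [LinearMap.mem_ker]
      exact kernel_ι_app_comp p U t))
    ⟨fun a b hab => mono_app (kernel.ι p) U (congrArg Subtype.val hab),
      fun ⟨s, hs⟩ => by
        have hs' : appLinear p U s = 0 := LinearMap.mem_ker.mp hs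
        obtain ⟨t, ht⟩ := exists_kernel_section p U s hs'
        exact ⟨t, Subtype.ext ht⟩⟩

/-- **EGA IV 11.3.9.1.** -/
theorem isFinitePresentation_kernel (f : X ⟶ Y) [LocallyOfFinitePresentation f]
    (G H : X.Modules) [G.IsQuasicoherent] [H.IsQuasicoherent] (hG : G.IsFinitePresentation)
    (hH : H.IsFinitePresentation) (hflat : FlatMod.IsFlatOver f H) (p : G ⟶ H) [Epi p] :
    (kernel p).IsFinitePresentation := by
  haveI : (kernel p).IsQuasicoherent := qc_kernel p inferInstance inferInstance
  refine isFinitePresentation_of_sections (kernel p) fun x => ?_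
  obtain ⟨V, hV, hfxV, -⟩ := exists_isAffineOpen_mem_and_subset (x := f x) (U := ⊤) trivial
  obtain ⟨U, hU, hxU, hUV⟩ := exists_isAffineOpen_mem_and_subset (x := x) (U := f ⁻¹ᵁ V) hfxV
  refine ⟨U, hU, hxU, ?_⟩
  letI := algΓ f hUV
  letI := sectionsModuleOver f H hUV
  haveI := isScalarTower_sections f H hUV
  haveI : Algebra.FinitePresentation Γ(Y, V) Γ(X, U) := f.finitePresentation_appLE hV hU hUV
  haveI : Module.FinitePresentation Γ(X, U) Γ(G, U) :=
    finitePresentation_sections_of_isFinitePresentation G hG hU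
  haveI : Module.FinitePresentation Γ(X, U) Γ(H, U) :=
    finitePresentation_sections_of_isFinitePresentation H hH hU
  haveI : Module.Flat Γ(Y, V) Γ(H, U) :=
    flat_sections_of_isFlatOverAt f H hU hV hUV (fun x' _ => hflat x')
  have hsurj : Function.Surjective (appLinear p U) :=
    epi_app_affine inferInstance inferInstance p hU
  haveI := Groth.Agent.H1.FPKer.finitePresentation_ker (A := Γ(Y, V)) (B := Γ(X, U))
    (appLinear p U) hsurj
  exact Module.FinitePresentation.of_equiv (kernelSectionsEquiv p U).symm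

end Groth.Agent.H1.SchFlat
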