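import Groth.Agent.Lib.Helper1.SchFibInj
import Groth.Agent.Lib.Helper1.FibInj7

/-!
# EGA IV 11.3.7 for schemes: openness
-/

set_option autoImplicit false

universe u

open CategoryTheory Limits AlgebraicGeometry TopologicalSpace Opposite

namespace Groth.Agent.H1.SchFlat

open Groth.Agent.LD.QC

variable {X Y : Scheme.{u}}

/-- injectivity of the stalk map in terms of sections over an affine chart -/
theorem injective_stalkFun_iff {F' F : X.Modules} [hqF' : F'.IsQuasicoherent]
    [hqF : F.IsQuasicoherent] (u : F' ⟶ F) {U : X.Opens} (hU : IsAffineOpen U) (x : X)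
    (hxU : x ∈ U) :
    Function.Injective (stalkFun u x) ↔
      ∀ s, appLinear u U s = 0 →
        ∃ τ ∈ (hU.primeIdealOf ⟨x, hxU⟩).asIdeal.primeCompl, τ • s = 0 := by
  letI sM := stalkΓModule F' x U hxU
  letI sN := stalkΓModule F x U hxU
  haveI locM := isLocalizedModule_germ F' hU x hxU
  haveI locN := isLocalizedModule_germ F hU x hxU
  have hcomm : ∀ s, stalkLinear u x U hxU (germLinear F' x U hxU s) =
      germLinear F x U hxU (appLinear u U s) := fun s => stalkFun_germ u x U hxU s
  exact Groth.Agent.H1.FibInj.injective_iff_of_isLocalizedModule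
    (hU.primeIdealOf ⟨x, hxU⟩).asIdeal.primeCompl (germLinear F' x U hxU)
    (germLinear F x U hxU) (appLinear u U) (stalkLinear u x U hxU) hcomm

/-- flatness of the cokernel at a point in terms of sections over affine charts -/
theorem isFlatOverAt_cokernel_iff (f : X ⟶ Y) {F' F : X.Modules} [hqF' : F'.IsQuasicoherent]
    [hqF : F.IsQuasicoherent] (u : F' ⟶ F) {U : X.Opens} {V : Y.Opens} (hU : IsAffineOpen U)
    (hV : IsAffineOpen V) (hUV : U ≤ f ⁻¹ᵁ V) (x : X) (hxU : x ∈ U) :
    letI := algΓ f hUV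
    letI := sectionsModuleOver f F hUV
    haveI := isScalarTower_sections f F hUV
    FlatMod.IsFlatOverAt f (cokernel u) x ↔
      Module.Flat Γ(Y, V) (LocalizedModule (hU.primeIdealOf ⟨x, hxU⟩).asIdeal.primeCompl
        (Γ(F, U) ⧸ LinearMap.range (appLinear u U))) := by
  letI algAB := algΓ f hUV
  letI mAN := sectionsModuleOver f F hUV
  haveI twN := isScalarTower_sections f F hUV
  haveI hC : (cokernel u).IsQuasicoherent := qc_cokernel u hqF' hqF
  letI mAC := sectionsModuleOver f (cokernel u) hUV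
  haveI twC := isScalarTower_sections f (cokernel u) hUV
  set q := (hU.primeIdealOf ⟨x, hxU⟩).asIdeal with hq
  rw [isFlatOverAt_iff_flat_localizedModule f (cokernel u) hU hV hUV x hxU]
  obtain ⟨hex, hsurj⟩ := exact_app_cokernel hqF' hqF u hU
  have hker : LinearMap.ker (appLinear (cokernel.π u) U) = LinearMap.range (appLinear u U) :=
    LinearMap.exact_iff.mp hex
  let e : (Γ(F, U) ⧸ LinearMap.range (appLinear u U)) ≃ₗ[Γ(X, U)] Γ(cokernel u, U) :=
    Submodule.quotEquivOfEq _ _ hker.symm ≪≫ₗ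
      (appLinear (cokernel.π u) U).quotKerEquivOfSurjective hsurj
  haveI : IsLocalizedModule q.primeCompl
      (LocalizedModule.mkLinearMap q.primeCompl Γ(cokernel u, U) ∘ₗ e.toLinearMap) :=
    IsLocalizedModule.of_linearEquiv_right q.primeCompl _ e
  exact flat_iff_of_isLocalizedModule (R := Γ(Y, V)) (B := Γ(X, U)) q.primeCompl
    (LocalizedModule.mkLinearMap q.primeCompl Γ(cokernel u, U) ∘ₗ e.toLinearMap)
    (LocalizedModule.mkLinearMap q.primeCompl (Γ(F, U) ⧸ LinearMap.range (appLinear u U)))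

/-- **EGA IV 11.3.7, openness.** -/
theorem isOpen_setOf_injective_and_flat_cokernel (f : X ⟶ Y) [LocallyOfFinitePresentation f]
    (F F' : X.Modules) [hqF : F.IsQuasicoherent] [hqF' : F'.IsQuasicoherent]
    (hF : F.IsFinitePresentation) (hF' : F'.IsFinitePresentation) (u : F' ⟶ F) :
    IsOpen {x : X | Function.Injective (stalkFun u x) ∧ FlatMod.IsFlatOverAt f (cokernel u) x} := by
  rw [isOpen_iff_forall_mem_open]
  rintro x ⟨hxinj, hxflat⟩
  obtain ⟨V, hV, hfxV, -⟩ := exists_isAffineOpen_mem_and_subset (x := f x) (U := ⊤) trivial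
  obtain ⟨U, hU, hxU, hUV⟩ := exists_isAffineOpen_mem_and_subset (x := x) (U := f ⁻¹ᵁ V) hfxV
  letI algAB := algΓ f hUV
  letI mAN := sectionsModuleOver f F hUV
  haveI twN := isScalarTower_sections f F hUV
  letI mAM := sectionsModuleOver f F' hUV
  haveI twM := isScalarTower_sections f F' hUV
  haveI : Algebra.FinitePresentation Γ(Y, V) Γ(X, U) := f.finitePresentation_appLE hV hU hUV
  haveI : Module.FinitePresentation Γ(X, U) Γ(F, U) :=
    finitePresentation_sections_of_isFinitePresentation F hF hU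
  haveI : Module.FinitePresentation Γ(X, U) Γ(F', U) :=
    finitePresentation_sections_of_isFinitePresentation F' hF' hU
  have h1 := (injective_stalkFun_iff u hU x hxU).mp hxinj
  have h2 := (isFlatOverAt_cokernel_iff f u hU hV hUV x hxU).mp hxflat
  obtain ⟨g, hg, hnhd⟩ := Groth.Agent.H1.FibInj.exists_nhd_injective_flat (A := Γ(Y, V))
    (B := Γ(X, U)) (appLinear u U) (hU.primeIdealOf ⟨x, hxU⟩).asIdeal h1 h2
  have hle : X.basicOpen g ≤ U := X.basicOpen_le g
  refine ⟨X.basicOpen g, ?_, (X.basicOpen g).isOpen, mem_basicOpen_of_notMem hU x hxU g hg⟩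
  intro x' hx'
  have hx'U : x' ∈ U := hle hx'
  obtain ⟨h3, h4⟩ := hnhd (hU.primeIdealOf ⟨x', hx'U⟩).asIdeal
    (mem_primeCompl_of_mem_basicOpen hU x' hx'U g hx')
  exact ⟨(injective_stalkFun_iff u hU x' hx'U).mpr h3,
    (isFlatOverAt_cokernel_iff f u hU hV hUV x' hx'U).mpr h4⟩

end Groth.Agent.H1.SchFlat
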