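import Mathlib
import Groth.Agent.Lib.Helper1.SchemeCI

set_option autoImplicit false
universe u

namespace Groth.Agent.H1.SchemeIso

open AlgebraicGeometry CategoryTheory Limits

/-- A finite étale morphism with a unique point `v` over `u` and trivial residue field extension
there is an isomorphism over a neighbourhood of `u`. -/
theorem exists_isIso {V U : Scheme.{u}} (φ : V ⟶ U) [IsFinite φ] [Etale φ]
    (u : U) (v : V) (hv : φ v = u) (huniq : ∀ w, φ w = u → w = v)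
    (hres : Function.Surjective (φ.residueFieldMap v).hom) :
    ∃ U' : U.Opens, u ∈ U' ∧ IsIso (φ ∣_ U') := by
  haveI : FormallyUnramified φ := inferInstance
  obtain ⟨U₁, hu₁, hci⟩ := SchemeCI.exists_isClosedImmersion φ u v hv huniq hres
  haveI : Etale (φ ∣_ U₁) := inferInstance
  haveI : Flat (φ ∣_ U₁) := inferInstance
  haveI : LocallyOfFinitePresentation (φ ∣_ U₁) := inferInstance
  haveI : Mono (φ ∣_ U₁) := inferInstance
  haveI : IsOpenImmersion (φ ∣_ U₁) := IsOpenImmersion.of_flat_of_mono _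
  let R : (U₁ : Scheme.{u}).Opens := (φ ∣_ U₁).opensRange
  refine ⟨U₁.ι ''ᵁ R, ?_, ?_⟩
  · -- u ∈ image
    subst hv
    let v' : ↥((φ ⁻¹ᵁ U₁ : V.Opens) : Scheme.{u}) := ⟨v, hu₁⟩
    refine ⟨(φ ∣_ U₁) v', ⟨v', rfl⟩, ?_⟩
    change ((φ ∣_ U₁) ≫ U₁.ι) v' = φ v
    rw [morphismRestrict_ι]
    rfl
  · have h1 : IsIso (φ ∣_ U₁ ∣_ R) := by
      rw [isIso_iff_isOpenImmersion_and_surjective]
      refine ⟨inferInstance, ⟨fun y => ?_⟩⟩
      obtain ⟨x₀, hx₀⟩ := y.2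
      let x : ↥(((φ ∣_ U₁) ⁻¹ᵁ R : (φ ⁻¹ᵁ U₁ : V.Opens).toScheme.Opens) : Scheme.{u}) :=
        ⟨x₀, by change (φ ∣_ U₁) x₀ ∈ R; exact ⟨x₀, rfl⟩⟩
      refine ⟨x, ?_⟩
      apply R.ι.injective
      change ((φ ∣_ U₁ ∣_ R) ≫ R.ι) x = _
      rw [morphismRestrict_ι]
      exact hx₀
    exact ((MorphismProperty.isomorphisms Scheme.{u}).arrow_mk_iso_iff
      (morphismRestrictRestrict φ U₁ R)).mp h1

end Groth.Agent.H1.SchemeIso
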