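import Mathlib
import Groth.Prelude
import Groth.Agent.Lib.Helper1.FibreStalk
import Groth.Agent.Lib.Helper1.RegImmGeo
import Groth.Agent.Lib.Helper1.Chev4

open AlgebraicGeometry CategoryTheory TopologicalSpace

universe u

namespace Groth.Agent.H1.SecDVR

theorem mem_map_of_mul_mem {R S : Type*} [CommRing R] [CommRing S] (φ : R →+* S) (σ : S →+* R)
    (hσφ : ∀ r, σ (φ r) = r) (t : S) (hker : ∀ s, σ s = 0 → ∃ s', s = t * s')
    (hσt : σ t = 0) (ht : ∀ a b : S, t * a = t * b → a = b) (m : Ideal R) (s : S)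
    (hs : t * s ∈ m.map φ) : s ∈ m.map φ := by
  have hdec : ∀ b : S, ∃ b', b = φ (σ b) + t * b' := by
    intro b
    obtain ⟨b', hb'⟩ := hker (b - φ (σ b)) (by rw [map_sub, hσφ, sub_self])
    exact ⟨b', by rw [← hb']; ring⟩
  have key : ∀ y ∈ m.map φ, ∃ a ∈ m, ∃ y' ∈ m.map φ, y = φ a + t * y' := by
    intro y hy
    refine Submodule.span_induction
      (p := fun y _ => ∃ a ∈ m, ∃ y' ∈ m.map φ, y = φ a + t * y') ?_ ?_ ?_ ?_ hy
    · rintro _ ⟨a, ha, rfl⟩
      exact ⟨a, ha, 0, Ideal.zero_mem _, by simp⟩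
    · exact ⟨0, Ideal.zero_mem _, 0, Ideal.zero_mem _, by simp⟩
    · rintro y₁ y₂ _ _ ⟨a₁, ha₁, y₁', hy₁', rfl⟩ ⟨a₂, ha₂, y₂', hy₂', rfl⟩
      exact ⟨a₁ + a₂, Ideal.add_mem _ ha₁ ha₂, y₁' + y₂', Ideal.add_mem _ hy₁' hy₂',
        by rw [map_add]; ring⟩
    · rintro b y _ ⟨a, ha, y', hy', rfl⟩
      obtain ⟨b', hb'⟩ := hdec b
      refine ⟨σ b * a, Ideal.mul_mem_left _ _ ha,
        b' * φ a + φ (σ b) * y' + t * b' * y', ?_, ?_⟩
      · refine Ideal.add_mem _ (Ideal.add_mem _ ?_ ?_) ?_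
        · exact Ideal.mul_mem_left _ _ (Ideal.mem_map_of_mem φ ha)
        · exact Ideal.mul_mem_left _ _ hy'
        · exact Ideal.mul_mem_left _ _ hy'
      · rw [smul_eq_mul, map_mul]
        calc b * (φ a + t * y') = (φ (σ b) + t * b') * (φ a + t * y') := by rw [← hb']
          _ = _ := by ring
  obtain ⟨a, ha, y', hy', h⟩ := key _ hs
  have h0 : a = 0 := by
    have := congrArg σ h
    rw [map_mul, hσt, zero_mul, map_add, hσφ, map_mul, hσt, zero_mul, add_zero] at this
    exact this.symm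
  rw [h0, map_zero, zero_add] at h
  rw [ht _ _ h]; exact hy'

theorem maximalIdeal_eq_span {R S B : Type*} [CommRing R] [CommRing S] [CommRing B]
    [IsLocalRing R] [IsLocalRing S] [IsLocalRing B]
    (φ : R →+* S) [IsLocalHom φ] (σ : S →+* R) (hσφ : ∀ r, σ (φ r) = r) (t : S)
    (hker : ∀ s, σ s = 0 → ∃ s', s = t * s') (hσt : σ t = 0)
    (ρ : S →+* B) (hρ : Function.Surjective ρ)
    (hρker : ∀ s, ρ s = 0 ↔ s ∈ (IsLocalRing.maximalIdeal R).map φ) :
    IsLocalRing.maximalIdeal B = Ideal.span {ρ t} := by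
  have htm : t ∈ IsLocalRing.maximalIdeal S := by
    rw [IsLocalRing.mem_maximalIdeal, mem_nonunits_iff]
    intro hu
    have := hu.map σ
    rw [hσt] at this
    exact not_isUnit_zero this
  have hJle : (IsLocalRing.maximalIdeal R).map φ ≤ IsLocalRing.maximalIdeal S := by
    rw [Ideal.map_le_iff_le_comap]
    intro a ha
    rw [Ideal.mem_comap, IsLocalRing.mem_maximalIdeal, mem_nonunits_iff]
    intro hu
    exact (IsLocalRing.mem_maximalIdeal a).mp ha (isUnit_of_map_unit φ a hu)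
  apply le_antisymm
  · intro b hb
    obtain ⟨s, rfl⟩ := hρ b
    have hs : s ∈ IsLocalRing.maximalIdeal S := by
      rw [IsLocalRing.mem_maximalIdeal, mem_nonunits_iff]
      intro hu
      exact (IsLocalRing.mem_maximalIdeal _).mp hb (hu.map ρ)
    obtain ⟨s', hs'⟩ := hker (s - φ (σ s)) (by rw [map_sub, hσφ, sub_self])
    have hσs : σ s ∈ IsLocalRing.maximalIdeal R := by
      rw [IsLocalRing.mem_maximalIdeal, mem_nonunits_iff]
      intro hu
      have h1 : IsUnit (φ (σ s)) := hu.map φ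
      have h2 : φ (σ s) ∈ IsLocalRing.maximalIdeal S := by
        have : φ (σ s) = s - t * s' := by rw [← hs']; ring
        rw [this]
        exact Ideal.sub_mem _ hs (Ideal.mul_mem_right _ _ htm)
      exact (IsLocalRing.mem_maximalIdeal _).mp h2 h1
    have h3 : ρ (φ (σ s)) = 0 := (hρker _).mpr (Ideal.mem_map_of_mem φ hσs)
    have h4 : ρ s = ρ t * ρ s' := by
      have : s = φ (σ s) + t * s' := by rw [← hs']; ring
      calc ρ s = ρ (φ (σ s) + t * s') := by rw [← this]
        _ = ρ t * ρ s' := by rw [map_add, h3, zero_add, map_mul]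
    rw [h4]
    exact Ideal.mul_mem_right _ _ (Ideal.subset_span rfl)
  · rw [Ideal.span_le, Set.singleton_subset_iff]
    show ρ t ∈ IsLocalRing.maximalIdeal B
    rw [IsLocalRing.mem_maximalIdeal, mem_nonunits_iff]
    intro hu
    obtain ⟨c, hc⟩ := hu.exists_right_inv
    obtain ⟨s₁, rfl⟩ := hρ c
    have h5 : ρ (t * s₁ - 1) = 0 := by rw [map_sub, map_mul, hc, map_one, sub_self]
    have h6 : t * s₁ - 1 ∈ IsLocalRing.maximalIdeal S := hJle ((hρker _).mp h5)
    have h7 : t * s₁ ∈ IsLocalRing.maximalIdeal S := Ideal.mul_mem_right _ _ htm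
    have h8 : (1 : S) ∈ IsLocalRing.maximalIdeal S := by
      have : (1 : S) = t * s₁ - (t * s₁ - 1) := by ring
      rw [this]; exact Ideal.sub_mem _ h7 h6
    exact (IsLocalRing.maximalIdeal.isMaximal S).ne_top ((Ideal.eq_top_iff_one _).mpr h8)

theorem isDVR_of_principal {B : Type*} [CommRing B] [IsLocalRing B] [IsNoetherianRing B]
    (τ : B) (hm : IsLocalRing.maximalIdeal B = Ideal.span {τ}) (hτ : ∀ b, τ * b = 0 → b = 0) :
    ∃ _ : IsDomain B, IsDiscreteValuationRing B := by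
  have hpow_ne : ∀ n : ℕ, τ ^ n ≠ 0 := by
    intro n
    induction n with
    | zero => simp
    | succ n ih => intro h; rw [pow_succ'] at h; exact ih (hτ _ h)
  have hmpow : ∀ n : ℕ, IsLocalRing.maximalIdeal B ^ n = Ideal.span {τ ^ n} := by
    intro n; rw [hm, Ideal.span_singleton_pow]
  have hfac : ∀ x : B, x ≠ 0 → ∃ (n : ℕ) (y : B), IsUnit y ∧ x = τ ^ n * y := by
    intro x hx
    have hK : ⨅ i, IsLocalRing.maximalIdeal B ^ i = ⊥ :=
      Ideal.iInf_pow_eq_bot_of_isLocalRing _ (IsLocalRing.maximalIdeal.isMaximal B).ne_top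
    have hex : ∃ n, x ∉ IsLocalRing.maximalIdeal B ^ n := by
      by_contra hcon
      push_neg at hcon
      apply hx
      have : x ∈ ⨅ i, IsLocalRing.maximalIdeal B ^ i := by
        rw [Ideal.mem_iInf]; exact hcon
      rw [hK] at this
      exact (Submodule.mem_bot B).mp this
    classical
    obtain ⟨n, hn, hmin⟩ : ∃ n, x ∉ IsLocalRing.maximalIdeal B ^ n ∧
        ∀ k < n, x ∈ IsLocalRing.maximalIdeal B ^ k :=
      ⟨Nat.find hex, Nat.find_spec hex, fun k hk => not_not.mp (Nat.find_min hex hk)⟩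
    have hn0 : n ≠ 0 := by
      rintro rfl; apply hn; rw [pow_zero, Ideal.one_eq_top]; trivial
    obtain ⟨k, rfl⟩ := Nat.exists_eq_succ_of_ne_zero hn0
    have hk' : x ∈ IsLocalRing.maximalIdeal B ^ k := hmin k (Nat.lt_succ_self k)
    rw [hmpow, Ideal.mem_span_singleton'] at hk'
    obtain ⟨y, hy⟩ := hk'
    refine ⟨k, y, ?_, by rw [← hy, mul_comm]⟩
    by_contra hyu
    have hym : y ∈ IsLocalRing.maximalIdeal B := (IsLocalRing.mem_maximalIdeal y).mpr hyu
    rw [hm, Ideal.mem_span_singleton'] at hym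
    obtain ⟨z, hz⟩ := hym
    apply hn
    rw [hmpow, Ideal.mem_span_singleton']
    exact ⟨z, by rw [← hy, ← hz, pow_succ]; ring⟩
  have hnzd : NoZeroDivisors B := by
    refine ⟨fun {a b} hab => ?_⟩
    by_contra hcon
    push_neg at hcon
    obtain ⟨n, y, hy, rfl⟩ := hfac a hcon.1
    obtain ⟨k, y', hy', rfl⟩ := hfac b hcon.2
    have h1 : τ ^ (n + k) * (y * y') = 0 := by rw [pow_add, ← hab]; ring
    have h2 : τ ^ (n + k) = 0 := ((hy.mul hy').mul_left_eq_zero).mp h1
    exact hpow_ne _ h2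
  haveI : IsDomain B := NoZeroDivisors.to_isDomain B
  refine ⟨inferInstance, ?_⟩
  have hnf : ¬ IsField B := by
    rw [IsLocalRing.isField_iff_maximalIdeal_eq, hm]
    intro h
    have h1 : τ = 0 := by
      have : τ ∈ Ideal.span {τ} := Ideal.subset_span rfl
      rw [h] at this
      exact (Submodule.mem_bot B).mp this
    exact hpow_ne 1 (by rw [pow_one, h1])
  have hp : (IsLocalRing.maximalIdeal B).IsPrincipal := ⟨⟨τ, hm⟩⟩
  exact ((IsDiscreteValuationRing.TFAE B hnf).out 0 4).mpr hp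

theorem ring_main {R R' S B : Type*} [CommRing R] [CommRing R'] [CommRing S] [CommRing B]
    [IsLocalRing R] [IsLocalRing S] [IsLocalRing B] [IsNoetherianRing B]
    (φ : R →+* S) [IsLocalHom φ] (σ₀ : S →+* R') (hbij : Function.Bijective (σ₀.comp φ))
    (t : S) (hkerσ₀ : RingHom.ker σ₀ = Ideal.span {t}) (ht : t ∈ nonZeroDivisors S)
    (ρ : S →+* B) (hρ : Function.Surjective ρ)
    (hρker : RingHom.ker ρ = (IsLocalRing.maximalIdeal R).map φ) :
    ∃ _ : IsDomain B, IsDiscreteValuationRing B := by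
  let e : R ≃+* R' := RingEquiv.ofBijective (σ₀.comp φ) hbij
  let σ : S →+* R := (e.symm : R' →+* R).comp σ₀
  have hσφ : ∀ r, σ (φ r) = r := by
    intro r
    show e.symm (e r) = r
    exact e.symm_apply_apply r
  have htker : t ∈ RingHom.ker σ₀ := by rw [hkerσ₀]; exact Ideal.subset_span rfl
  have hσt : σ t = 0 := by
    show e.symm (σ₀ t) = 0
    rw [RingHom.mem_ker.mp htker, map_zero]
  have hker : ∀ s, σ s = 0 → ∃ s', s = t * s' := by
    intro s hs
    have h1 : σ₀ s = 0 := by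
      have : e.symm (σ₀ s) = 0 := hs
      exact (RingEquiv.map_eq_zero_iff e.symm).mp this
    have h2 : s ∈ RingHom.ker σ₀ := RingHom.mem_ker.mpr h1
    rw [hkerσ₀, Ideal.mem_span_singleton'] at h2
    obtain ⟨s', hs'⟩ := h2
    exact ⟨s', by rw [← hs', mul_comm]⟩
  have ht' : ∀ a b : S, t * a = t * b → a = b := fun a b hab =>
    (mul_cancel_left_mem_nonZeroDivisors ht).mp hab
  have hρker' : ∀ s, ρ s = 0 ↔ s ∈ (IsLocalRing.maximalIdeal R).map φ := by
    intro s; rw [← hρker, RingHom.mem_ker]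
  have hm := maximalIdeal_eq_span φ σ hσφ t hker hσt ρ hρ hρker'
  have hτ : ∀ b : B, ρ t * b = 0 → b = 0 := by
    intro b hb
    obtain ⟨s, rfl⟩ := hρ b
    rw [← map_mul, hρker'] at hb
    exact (hρker' s).mpr (mem_map_of_mul_mem φ σ hσφ t hker hσt ht' _ s hb)
  exact isDVR_of_principal (ρ t) hm hτ

theorem s8283 {X V : Scheme.{u}} (π : V ⟶ X) [LocallyOfFiniteType π]
    (j : X ⟶ V) [IsClosedImmersion j] (hj : j ≫ π = 𝟙 X)
    (hJ : BlowUp.IsEffCartierIdeal j.ker) (x : X) :
    ∃ _ : IsDomain ((π.fiber (π.base (j.base x))).presheaf.stalk (π.asFiber (j.base x))),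
      IsDiscreteValuationRing
        ((π.fiber (π.base (j.base x))).presheaf.stalk (π.asFiber (j.base x))) := by
  obtain ⟨U, hvU, f, hf, hIU⟩ := hJ (j.base x)
  haveI : LocallyOfFiniteType (π.fiberToSpecResidueField (π.base (j.base x))) :=
    Groth.Agent.H1.Chev.locallyOfFiniteType_fiberToSpecResidueField π _
  haveI : IsLocallyNoetherian (π.fiber (π.base (j.base x))) :=
    LocallyOfFiniteType.isLocallyNoetherian (π.fiberToSpecResidueField (π.base (j.base x)))
  haveI : IsNoetherianRing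
      ((π.fiber (π.base (j.base x))).presheaf.stalk (π.asFiber (j.base x))) := inferInstance
  have hbij : Function.Bijective ((j.stalkMap x).hom.comp (π.stalkMap (j.base x)).hom) := by
    have h1 : (j ≫ π).stalkMap x = π.stalkMap (j.base x) ≫ j.stalkMap x :=
      Scheme.Hom.stalkMap_comp j π x
    have h2 := Scheme.Hom.stalkMap_congr_hom (j ≫ π) (𝟙 X) hj x
    have h3 : (j.stalkMap x).hom.comp (π.stalkMap (j.base x)).hom =
        ((j ≫ π).stalkMap x).hom := by
      rw [h1]; rfl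
    rw [h3, h2]
    exact ConcreteCategory.bijective_of_isIso _
  have hker : RingHom.ker (j.stalkMap x).hom =
      Ideal.span {(V.presheaf.germ U.1 (j.base x) hvU).hom f} := by
    have := RegImm.ker_stalkMap_of_isClosedImmersion j U x hvU
    rw [hIU, Ideal.map_span, Set.image_singleton] at this
    exact this
  have ht : (V.presheaf.germ U.1 (j.base x) hvU).hom f ∈
      nonZeroDivisors (V.presheaf.stalk (j.base x)) := by
    letI := V.presheaf.algebra_section_stalk (U := U.1) ⟨j.base x, hvU⟩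
    haveI := U.2.isLocalization_stalk ⟨j.base x, hvU⟩
    exact IsLocalization.map_nonZeroDivisors_le
      (U.2.primeIdealOf ⟨j.base x, hvU⟩).asIdeal.primeCompl _ (Submonoid.mem_map_of_mem _ hf)
  exact ring_main (π.stalkMap (j.base x)).hom (j.stalkMap x).hom hbij _ hker ht
    (FibreStalk.toFiberStalk π (j.base x)) (FibreStalk.toFiberStalk_surjective π (j.base x))
    (FibreStalk.ker_toFiberStalk π (j.base x))

end Groth.Agent.H1.SecDVR
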