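import Mathlib
import Groth.Prelude
import Groth.Agent.Lib.Helper1.UOVal

set_option autoImplicit false
set_option linter.style.haveILetI false

universe u

namespace Groth.Agent.H1.SecDimSpec

open AlgebraicGeometry CategoryTheory CategoryTheory.Limits TopologicalSpace Topology

theorem s5444 (S Y : Scheme.{u}) (f : Y ⟶ S) [QuasiCompact f] [LocallyOfFinitePresentation f]
    (ι : Type u) (a : ι → (S ⟶ Y)) (ha : ∀ i, a i ≫ f = 𝟙 S) (s₀ s₁ : S) (h : s₁ ⤳ s₀) :
    topologicalKrullDim ↥(f.base ⁻¹' {s₀} ∩ closure (Set.range fun i => (a i).base s₀)) ≤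
      topologicalKrullDim ↥(f.base ⁻¹' {s₁} ∩ closure (Set.range fun i => (a i).base s₁)) := by
  have e : ∀ i t, f.base ((a i).base t) = t := fun i t => by
    have h1 : (a i ≫ f).base t = (𝟙 S : S ⟶ S).base t := by rw [ha i]
    exact h1
  have key : ∀ s : S, (⋃ i, Set.range (a i).base) ∩ f.base ⁻¹' {s} =
      Set.range fun i => (a i).base s := by
    intro s
    ext y
    constructor
    · rintro ⟨hy1, hy2⟩
      obtain ⟨i, t, rfl⟩ := Set.mem_iUnion.mp hy1
      have hy2' : f.base ((a i).base t) = s := hy2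
      rw [e i t] at hy2'
      exact ⟨i, by rw [hy2']⟩
    · rintro ⟨i, rfl⟩
      exact ⟨Set.mem_iUnion.mpr ⟨i, s, rfl⟩, e i s⟩
  have h0 := Groth.Agent.H1.UOVal.s4972 f (fun _ : ι => S) (fun _ => 𝟙 S) a ha s₀ s₁ h
  have h0' : topologicalKrullDim
      ↥(f.base ⁻¹' {s₀} ∩ closure ((⋃ i, Set.range (a i).base) ∩ f.base ⁻¹' {s₀})) ≤
      topologicalKrullDim
      ↥(f.base ⁻¹' {s₁} ∩ closure ((⋃ i, Set.range (a i).base) ∩ f.base ⁻¹' {s₁})) := h0
  rw [key s₀, key s₁] at h0'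
  exact h0'

end Groth.Agent.H1.SecDimSpec
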