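import Mathlib

/-!
# Localization at the complement of a finite union of primes; associated primes through a
Noetherian quotient-like algebra
-/

set_option autoImplicit false

universe u

open Function Submodule

namespace Groth.Agent.H1.SemiLoc

section abstract

variable {S : Type u} [CommRing S] (T : Submonoid S) (A : Set (Ideal S))
  (hA : A.Finite) (hprime : ∀ q ∈ A, q.IsPrime)
  (hT : ∀ s : S, s ∈ T ↔ ∀ q ∈ A, s ∉ q)

include hA hprime hT

/-- prime avoidance for the complement of a finite union of primes -/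
theorem disjoint_iff (q : Ideal S) [q.IsPrime] :
    Disjoint (q : Set S) (T : Set S) ↔ ∃ q' ∈ A, q ≤ q' := by
  classical
  have h1 : Disjoint (q : Set S) (T : Set S) ↔ (q : Set S) ⊆ ⋃ i ∈ (↑hA.toFinset : Set (Ideal S)), i := by
    rw [Set.disjoint_left]
    constructor
    · intro h s hs
      have hsT : s ∉ T := h hs
      rw [hT] at hsT
      push Not at hsT
      obtain ⟨q', hq', hsq'⟩ := hsT
      exact Set.mem_biUnion (Finset.mem_coe.mpr (hA.mem_toFinset.mpr hq')) hsq'
    · intro h s hs hsT
      obtain ⟨q', hq', hsq'⟩ := Set.mem_iUnion₂.mp (h hs)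
      exact (hT s).mp hsT q' (hA.mem_toFinset.mp (Finset.mem_coe.mp hq')) hsq'
  rw [h1, Ideal.subset_union_prime (f := fun i : Ideal S => i) ⊥ ⊥
    (fun i hi _ _ => hprime i (hA.mem_toFinset.mp hi))]
  constructor
  · rintro ⟨i, hi, hqi⟩
    exact ⟨i, hA.mem_toFinset.mp hi, hqi⟩
  · rintro ⟨i, hi, hqi⟩
    exact ⟨i, hA.mem_toFinset.mpr hi, hqi⟩

theorem disjoint_of_mem (q : Ideal S) (hq : q ∈ A) : Disjoint (T : Set S) (q : Set S) := by
  haveI := hprime q hq
  exact ((disjoint_iff T A hA hprime hT q).mpr ⟨q, hq, le_rfl⟩).symm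

variable (L : Type u) [CommRing L] [Algebra S L] [IsLocalization T L]

/-- a maximal ideal of the localization contracts to a maximal element of `A` -/
theorem comap_maximal_of_isMaximal (Q : Ideal L) (hQ : Q.IsMaximal) :
    Maximal (fun r => r ∈ A) (Q.comap (algebraMap S L)) := by
  haveI := hQ.isPrime
  obtain ⟨hqp, hqd⟩ := (IsLocalization.isPrime_iff_isPrime_disjoint T L Q).mp hQ.isPrime
  haveI := hqp
  obtain ⟨q', hq', hle⟩ := (disjoint_iff T A hA hprime hT (Q.comap (algebraMap S L))).mp hqd.symm
  have key : ∀ q'' ∈ A, Q.comap (algebraMap S L) ≤ q'' → Q.comap (algebraMap S L) = q'' := by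
    intro q'' hq'' hle''
    have hd := disjoint_of_mem T A hA hprime hT q'' hq''
    have hp'' := hprime q'' hq''
    have h1 : (Ideal.map (algebraMap S L) q'').IsPrime :=
      IsLocalization.isPrime_of_isPrime_disjoint T L q'' hp'' hd
    have h2 : Q ≤ Ideal.map (algebraMap S L) q'' := by
      rw [← IsLocalization.map_under T L Q]
      exact Ideal.map_mono hle''
    have h3 : Q = Ideal.map (algebraMap S L) q'' := hQ.eq_of_le h1.ne_top h2
    rw [h3]
    exact IsLocalization.under_map_of_isPrime_disjoint T L hp'' hd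
  refine ⟨?_, ?_⟩
  · rw [key q' hq' hle]
    exact hq'
  · intro q'' hq'' hle''
    rw [key q'' hq'' hle'']

/-- the maximal ideals of the localization -/
theorem isMaximal_iff (Q : Ideal L) :
    Q.IsMaximal ↔ Q.IsPrime ∧ Maximal (fun r => r ∈ A) (Q.comap (algebraMap S L)) := by
  constructor
  · intro hQ
    exact ⟨hQ.isPrime, comap_maximal_of_isMaximal T A hA hprime hT L Q hQ⟩
  · rintro ⟨hQp, hmax⟩
    obtain ⟨Q'', hQ''max, hle⟩ := Ideal.exists_le_maximal Q hQp.ne_top
    have h1 := comap_maximal_of_isMaximal T A hA hprime hT L Q'' hQ''max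
    have h2 : Q.comap (algebraMap S L) ≤ Q''.comap (algebraMap S L) := Ideal.comap_mono hle
    have h3 : Q''.comap (algebraMap S L) ≤ Q.comap (algebraMap S L) := hmax.2 h1.1 h2
    have h4 : Q'' = Q := by
      rw [← IsLocalization.map_under T L Q'', ← IsLocalization.map_under T L Q]
      exact congrArg _ (le_antisymm h3 h2)
    rw [← h4]
    exact hQ''max

theorem finite_isMaximal : {Q : Ideal L | Q.IsMaximal}.Finite := by
  refine (hA.image (Ideal.map (algebraMap S L))).subset ?_
  intro Q hQ
  have h1 := comap_maximal_of_isMaximal T A hA hprime hT L Q hQ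
  exact ⟨Q.comap (algebraMap S L), h1.1, IsLocalization.map_under T L Q⟩

end abstract

section concrete

variable {S : Type u} (F : Type u) [CommRing S] [CommRing F] [Algebra S F]
  (M : Type u) [AddCommGroup M] [Module S M] [Module F M] [IsScalarTower S F M]

theorem comap_colon (x : M) :
    Ideal.comap (algebraMap S F) (colon (⊥ : Submodule F M) {x}) = colon (⊥ : Submodule S M) {x} := by
  ext s
  rw [Ideal.mem_comap, mem_colon_singleton, mem_colon_singleton, algebraMap_smul]
  rfl

variable [IsNoetherianRing F]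

theorem associatedPrimes_eq_image :
    associatedPrimes S M = Ideal.comap (algebraMap S F) '' associatedPrimes F M := by
  ext q
  constructor
  · rintro ⟨hq, x, hx⟩
    rw [← comap_colon F M x, ← Ideal.comap_radical] at hx
    set a := colon (⊥ : Submodule F M) {x} with ha
    have hfin := a.finite_minimalPrimes_of_isNoetherianRing F
    have h1 : a.radical = hfin.toFinset.inf id := by
      rw [← a.sInf_minimalPrimes, hfin.toFinset.inf_id_eq_sInf, hfin.coe_toFinset]
    rw [h1, Ideal.comap_finsetInf] at hx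
    have h2 : hfin.toFinset.inf (fun i => Ideal.comap (algebraMap S F) (id i)) ≤ q := hx.ge
    obtain ⟨P, hP, hPq⟩ := (Ideal.IsPrime.inf_le' hq).mp h2
    have hP' : P ∈ a.minimalPrimes := hfin.mem_toFinset.mp hP
    have hqP : q ≤ Ideal.comap (algebraMap S F) P := by
      rw [hx]
      exact Finset.inf_le (f := fun i => Ideal.comap (algebraMap S F) (id i)) hP
    refine ⟨P, ?_, le_antisymm hPq hqP⟩
    obtain ⟨x', hx'⟩ := exists_eq_colon_of_mem_minimalPrimes hP'
    exact (isAssociatedPrime_iff (I := P) (M := M)).mpr ⟨hP'.1.1, x', hx'⟩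
  · rintro ⟨P, hP, rfl⟩
    obtain ⟨hPp, x, hx⟩ := (isAssociatedPrime_iff (I := P) (M := M)).mp hP
    haveI := hPp
    refine ⟨Ideal.comap_isPrime _ _, x, ?_⟩
    rw [← comap_colon F M x, ← hx]
    exact (Ideal.IsPrime.radical (Ideal.comap_isPrime _ _)).symm

include F in
theorem mem_nonZeroSMulDivisors_iff_forall (s : S) :
    s ∈ nonZeroSMulDivisors S M ↔ ∀ q ∈ associatedPrimes S M, s ∉ q := by
  rw [associatedPrimes_eq_image F M, mem_nonZeroSMulDivisors_iff]
  constructor
  · rintro h _ ⟨P, hP, rfl⟩ hs
    obtain ⟨hPp, x, hx⟩ := (isAssociatedPrime_iff (I := P) (M := M)).mp hP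
    rw [Ideal.mem_comap, hx, mem_colon_singleton, algebraMap_smul] at hs
    have hx0 : x = 0 := h x hs
    apply hPp.ne_top
    rw [hx, hx0]
    simp
  · intro h m hm
    by_contra hm0
    obtain ⟨P, hP, hle⟩ := exists_le_isAssociatedPrime_of_isNoetherianRing F m hm0
    refine h _ ⟨P, hP, rfl⟩ ?_
    rw [Ideal.mem_comap]
    apply hle
    rw [mem_colon_singleton, algebraMap_smul]
    exact hm

include F in
theorem finite_associatedPrimes [Module.Finite F M] : (associatedPrimes S M).Finite := by
  rw [associatedPrimes_eq_image F M]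
  exact (associatedPrimes.finite F M).image _


theorem main [Module.Finite F M] (L : Type u) [CommRing L] [Algebra S L]
    [IsLocalization (nonZeroSMulDivisors S M) L] :
    (∀ (q : Ideal S) [q.IsPrime], Disjoint (q : Set S) (nonZeroSMulDivisors S M) ↔
        ∃ q' ∈ associatedPrimes S M, q ≤ q') ∧
    {Q : Ideal L | Q.IsMaximal}.Finite ∧
    (∀ Q : Ideal L, Q.IsMaximal ↔ (Q.IsPrime ∧
        Maximal (fun r => r ∈ associatedPrimes S M) (Q.comap (algebraMap S L)))) := by
  have hA : (associatedPrimes S M).Finite := finite_associatedPrimes F M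
  have hprime : ∀ q ∈ associatedPrimes S M, q.IsPrime := fun q hq => hq.isPrime
  have hT : ∀ s : S, s ∈ nonZeroSMulDivisors S M ↔ ∀ q ∈ associatedPrimes S M, s ∉ q :=
    mem_nonZeroSMulDivisors_iff_forall F M
  refine ⟨?_, ?_, ?_⟩
  · intro q _
    exact disjoint_iff (nonZeroSMulDivisors S M) (associatedPrimes S M) hA hprime hT q
  · exact finite_isMaximal (nonZeroSMulDivisors S M) (associatedPrimes S M) hA hprime hT L
  · intro Q
    exact isMaximal_iff (nonZeroSMulDivisors S M) (associatedPrimes S M) hA hprime hT L Q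

end concrete

end Groth.Agent.H1.SemiLoc
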