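import Mathlib
import Groth.Agent.Lib.Helper1.EtSlice

/-! Helper1: points with separable residue field in fibres of smooth morphisms, and étale-local
sections of smooth morphisms (EGA IV 17.16.3 (ii)). -/

open MvPolynomial AlgebraicGeometry CategoryTheory IsLocalRing

universe u

namespace Groth.Agent.H1.SepPt

section


theorem infinite_of_isSepClosed (K : Type*) [Field K] [IsSepClosed K] : Infinite K := by
  by_contra h
  rw [not_infinite_iff_finite] at h
  haveI := Fintype.ofFinite K
  obtain ⟨x, hx⟩ := IsSepClosed.exists_root_C_mul_X_pow_add_C_mul_X_add_C (k := K)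
    (n := Fintype.card K) 1 (-1) 1 (FiniteField.cast_card_eq_zero K) Fintype.one_lt_card
    (by simp)
  rw [FiniteField.pow_card] at hx
  simp at hx

/-- a nonzero polynomial over an infinite field has a non-vanishing point. -/
theorem exists_eval_ne_zero {K : Type*} [Field K] [Infinite K] {n : ℕ}
    (h : MvPolynomial (Fin n) K) (hh : h ≠ 0) : ∃ c : Fin n → K, MvPolynomial.eval c h ≠ 0 := by
  by_contra hcon
  push_neg at hcon
  apply hh
  apply MvPolynomial.funext
  intro c
  rw [hcon c, map_zero]


end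

section


variable {R B : Type u} [CommRing R] [CommRing B] [Algebra R B]

/-- a point with values in the separable closure for an étale algebra over a polynomial ring. -/
theorem exists_point_of_etale_mvPolynomial {n : ℕ} {B' : Type u} [CommRing B']
    [Algebra R B'] [Algebra (MvPolynomial (Fin n) R) B']
    [IsScalarTower R (MvPolynomial (Fin n) R) B'] [Algebra.Etale (MvPolynomial (Fin n) R) B']
    (q₀ : Ideal B') [q₀.IsPrime]
    {k : Type u} [Field k] (ι₀ : R →+* k) (hι : ∀ r, ι₀ r = 0 → algebraMap R B' r ∈ q₀) :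
    ∃ β : B' →+* SeparableClosure k,
      β.comp (algebraMap R B') = (algebraMap k (SeparableClosure k)).comp ι₀ := by
  classical
  let A := MvPolynomial (Fin n) R
  let K := SeparableClosure k
  let ι : R →+* K := (algebraMap k K).comp ι₀
  haveI : Infinite K := infinite_of_isSepClosed K
  -- open image
  have hopen : IsOpenMap (PrimeSpectrum.comap (algebraMap A B')) :=
    PrimeSpectrum.isOpenMap_comap_of_hasGoingDown_of_finitePresentation
  let a₀ : PrimeSpectrum A := PrimeSpectrum.comap (algebraMap A B') ⟨q₀, inferInstance⟩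
  have ha₀ : a₀ ∈ Set.range (PrimeSpectrum.comap (algebraMap A B')) := ⟨_, rfl⟩
  have hWopen : IsOpen (Set.range (PrimeSpectrum.comap (algebraMap A B'))) := hopen.isOpen_range
  obtain ⟨_, ⟨_, ⟨h, rfl⟩, rfl⟩, hha₀, hhW⟩ :=
    PrimeSpectrum.isBasis_basic_opens.exists_subset_of_mem_open ha₀ hWopen
  -- the image of `h` over `K` is nonzero
  have hbar : MvPolynomial.map ι h ≠ 0 := by
    intro h0
    have h1 : h ∈ RingHom.ker (MvPolynomial.map (σ := Fin n) ι) := h0
    rw [MvPolynomial.ker_map] at h1
    have h2 : (RingHom.ker ι).map (C : R →+* A) ≤ a₀.asIdeal := by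
      rw [Ideal.map_le_iff_le_comap]
      intro r hr
      have hr0 : ι₀ r = 0 := by
        have : algebraMap k K (ι₀ r) = 0 := hr
        exact (map_eq_zero_iff _ (algebraMap k K).injective).mp this
      have := hι r hr0
      change algebraMap A B' (C r) ∈ q₀
      rw [← MvPolynomial.algebraMap_eq, ← IsScalarTower.algebraMap_apply]
      exact this
    exact hha₀ (h2 h1)
  obtain ⟨c, hc⟩ := exists_eval_ne_zero _ hbar
  -- the evaluation point
  let ev : A →+* K := MvPolynomial.eval₂Hom ι c
  have hevh : ev h ≠ 0 := by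
    have : ev h = MvPolynomial.eval c (MvPolynomial.map ι h) := by
      rw [MvPolynomial.eval_map]; rfl
    rw [this]; exact hc
  let Ic : Ideal A := RingHom.ker ev
  haveI hIc : Ic.IsPrime := RingHom.ker_isPrime ev
  let ac : PrimeSpectrum A := ⟨Ic, hIc⟩
  have hac : ac ∈ (PrimeSpectrum.basicOpen h : Set (PrimeSpectrum A)) := hevh
  obtain ⟨Q, hQ⟩ := hhW hac
  haveI hlo : Q.asIdeal.LiesOver Ic := ⟨(congrArg PrimeSpectrum.asIdeal hQ).symm⟩
  letI := Localization.AtPrime.algebraOfLiesOver Ic Q.asIdeal
  haveI : Algebra.IsSeparable Ic.ResidueField Q.asIdeal.ResidueField := inferInstance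
  let j : Ic.ResidueField →+* K := Ideal.ResidueField.lift Ic ev le_rfl (by
    intro x hx
    have : ev x ≠ 0 := hx
    exact this.isUnit)
  letI : Algebra Ic.ResidueField K := j.toAlgebra
  let l : Q.asIdeal.ResidueField →ₐ[Ic.ResidueField] K := IsSepClosed.lift
  refine ⟨l.toRingHom.comp (algebraMap B' Q.asIdeal.ResidueField), ?_⟩
  refine RingHom.ext fun r => ?_
  change l (algebraMap B' Q.asIdeal.ResidueField (algebraMap R B' r)) = ι r
  rw [IsScalarTower.algebraMap_apply R A B', ← IsScalarTower.algebraMap_apply A B' Q.asIdeal.ResidueField,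
    IsScalarTower.algebraMap_apply A Ic.ResidueField Q.asIdeal.ResidueField, l.commutes]
  change j (algebraMap A Ic.ResidueField (algebraMap R A r)) = ι r
  have hj : j (algebraMap A Ic.ResidueField (algebraMap R A r)) = ev (algebraMap R A r) :=
    Ideal.ResidueField.lift_algebraMap Ic ev _ _ _
  rw [hj]
  change MvPolynomial.eval₂Hom ι c (C r) = ι r
  simp


end

section


variable {R B : Type u} [CommRing R] [CommRing B] [Algebra R B]

/-- a point with values in the separable closure of `k` on an algebra smooth at a prime lying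
over the kernel of `R → k`. -/
theorem exists_sepClosure_point [Algebra.FinitePresentation R B] (q₀ : Ideal B) [q₀.IsPrime]
    [Algebra.IsSmoothAt R q₀] {k : Type u} [Field k] (ι₀ : R →+* k)
    (hι : ∀ r, ι₀ r = 0 → algebraMap R B r ∈ q₀) :
    ∃ β : B →+* SeparableClosure k,
      β.comp (algebraMap R B) = (algebraMap k (SeparableClosure k)).comp ι₀ := by
  obtain ⟨t, ht, n, _, _, hstd⟩ :=
    Algebra.IsSmoothAt.exists_isStandardEtale_mvPolynomial (R := R) (p := q₀)
  haveI : (q₀.map (algebraMap B (Localization.Away t))).IsPrime :=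
    IsLocalization.isPrime_of_isPrime_disjoint (.powers t) _ _ ‹_›
      ((Ideal.disjoint_powers_iff_notMem_of_isPrime _).mpr ht)
  obtain ⟨β', hβ'⟩ := exists_point_of_etale_mvPolynomial (R := R) (n := n)
    (B' := Localization.Away t) (q₀.map (algebraMap B (Localization.Away t))) ι₀
    (fun r hr => by
      rw [IsScalarTower.algebraMap_apply R B]
      exact Ideal.mem_map_of_mem _ (hι r hr))
  refine ⟨β'.comp (algebraMap B _), ?_⟩
  rw [RingHom.comp_assoc, ← IsScalarTower.algebraMap_eq]
  exact hβ'


end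

section


theorem SpecMap_evaluation_fromSpec {X : Scheme.{u}} {U : X.Opens} (hU : IsAffineOpen U) (x : X)
    (hx : x ∈ U) : Spec.map (X.evaluation U x hx) ≫ hU.fromSpec = X.fromSpecResidueField x := by
  rw [← Scheme.germ_residue, Spec.map_comp, Category.assoc]
  change _ ≫ hU.fromSpecStalk hx = _
  rw [hU.fromSpecStalk_eq_fromSpecStalk]
  rfl

theorem mem_primeIdealOf_of_evaluation_eq_zero {X : Scheme.{u}} {U : X.Opens} (hU : IsAffineOpen U)
    (x : X) (hx : x ∈ U) (b : Γ(X, U)) (hb : (X.evaluation U x hx).hom b = 0) :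
    b ∈ (hU.primeIdealOf ⟨x, hx⟩).asIdeal := by
  letI : Algebra Γ(X, U) (X.presheaf.stalk x) := X.presheaf.algebra_section_stalk ⟨x, hx⟩
  haveI := hU.isLocalization_stalk ⟨x, hx⟩
  rw [← IsLocalization.AtPrime.to_map_mem_maximal_iff (X.presheaf.stalk x)
    (hU.primeIdealOf ⟨x, hx⟩).asIdeal b]
  rw [← IsLocalRing.residue_eq_zero_iff]
  exact hb


end

section


set_option backward.isDefEq.respectTransparency false in
/-- a nonempty fibre of a smooth morphism contains a point with separable residue field. -/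
theorem exists_sep_point {X S : Scheme.{u}} (f : X ⟶ S) [Smooth f] (x₀ : X) :
    ∃ x : X, f x = f x₀ ∧ @Algebra.IsSeparable (S.residueField (f x)) (X.residueField x) _ _
      (f.residueFieldMap x).hom.toAlgebra := by
  obtain ⟨V, hV, hsV, -⟩ := DVRCrit.exists_affine_nhd_le (f x₀) ⊤ trivial
  obtain ⟨U, hU, hxU, e⟩ := DVRCrit.exists_affine_nhd_le x₀ (f ⁻¹ᵁ V) hsV
  let φ := (f.appLE V U e).hom
  letI : Algebra Γ(S, V) Γ(X, U) := φ.toAlgebra
  have hsm : Algebra.Smooth Γ(S, V) Γ(X, U) := f.smooth_appLE hV hU e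
  let q₀ := (hU.primeIdealOf ⟨x₀, hxU⟩).asIdeal
  haveI : Algebra.IsSmoothAt Γ(S, V) q₀ := inferInstance
  let k := S.residueField (f x₀)
  let K := SeparableClosure k
  let ι₀ : Γ(S, V) →+* k := (S.evaluation V (f x₀) hsV).hom
  have hι : ∀ r, ι₀ r = 0 → algebraMap Γ(S, V) Γ(X, U) r ∈ q₀ := by
    intro r hr
    apply mem_primeIdealOf_of_evaluation_eq_zero hU x₀ hxU
    have := EtSlice.evaluation_appLE f V U e x₀ hxU r
    change (X.evaluation U x₀ hxU).hom (φ r) = 0
    rw [this]
    change (f.residueFieldMap x₀).hom (ι₀ r) = 0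
    rw [hr, map_zero]
  obtain ⟨β, hβ⟩ := exists_sepClosure_point (R := Γ(S, V)) (B := Γ(X, U)) q₀ ι₀ hι
  let ξ : Spec (.of K) ⟶ X := Spec.map (CommRingCat.ofHom β) ≫ hU.fromSpec
  have h1 : ξ ≫ f = (Scheme.SpecToEquivOfField K S).symm
      ⟨f x₀, CommRingCat.ofHom (algebraMap k K)⟩ := by
    change (Spec.map (CommRingCat.ofHom β) ≫ hU.fromSpec) ≫ f =
      Spec.map (CommRingCat.ofHom (algebraMap k K)) ≫ S.fromSpecResidueField (f x₀)
    rw [Category.assoc, ← IsAffineOpen.SpecMap_appLE_fromSpec f hV hU e, ← Category.assoc,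
      ← Spec.map_comp, ← SpecMap_evaluation_fromSpec hV (f x₀) hsV, ← Category.assoc,
      ← Spec.map_comp]
    congr 2
    refine CommRingCat.hom_ext (RingHom.ext fun r => ?_)
    exact congrFun (congrArg DFunLike.coe hβ) r
  have h2 := congrArg (Scheme.SpecToEquivOfField K S) h1
  rw [Equiv.apply_symm_apply, Scheme.SpecToEquivOfField_eq_iff] at h2
  obtain ⟨e1, he1⟩ := h2
  let x : X := ξ (closedPoint K)
  have hfx : f x = f x₀ := e1
  let a : X.residueField x ⟶ .of K := Scheme.descResidueField (Scheme.stalkClosedPointTo ξ)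
  have ha : f.residueFieldMap x ≫ a =
      (S.residueFieldCongr hfx).hom ≫ CommRingCat.ofHom (algebraMap k K) := by
    have := Scheme.descResidueField_stalkClosedPointTo_comp f ξ
    exact this.symm.trans he1
  refine ⟨x, hfx, ?_⟩
  letI : Algebra (S.residueField (f x)) (X.residueField x) := (f.residueFieldMap x).hom.toAlgebra
  letI : Algebra (X.residueField x) K := a.hom.toAlgebra
  letI : Algebra (S.residueField (f x)) K := (a.hom.comp (f.residueFieldMap x).hom).toAlgebra
  haveI : IsScalarTower (S.residueField (f x)) (X.residueField x) K :=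
    IsScalarTower.of_algebraMap_eq (fun r => rfl)
  haveI : Algebra.IsSeparable (S.residueField (f x)) K := by
    refine Algebra.IsSeparable.of_equiv_equiv (A₁ := k) (B₁ := K)
      (S.residueFieldCongr hfx).symm.commRingCatIsoToRingEquiv (RingEquiv.refl K) ?_
    refine RingHom.ext fun c => ?_
    change a.hom ((f.residueFieldMap x).hom ((S.residueFieldCongr hfx).symm.hom.hom c)) =
      algebraMap k K c
    have h3 := congrArg (fun m => m.hom ((S.residueFieldCongr hfx).symm.hom.hom c)) ha
    simp only [CommRingCat.hom_comp, RingHom.coe_comp, Function.comp_apply] at h3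
    rw [h3]
    change algebraMap k K ((S.residueFieldCongr hfx).hom.hom ((S.residueFieldCongr hfx).inv.hom c)) = _
    rw [← CommRingCat.comp_apply, Iso.inv_hom_id]
    rfl
  exact Algebra.isSeparable_tower_bot_of_isSeparable (S.residueField (f x)) (X.residueField x) K


end

section


theorem s0412 {X S : Scheme.{u}} (f : X ⟶ S) [Smooth f] (s : S) (hs : s ∈ Set.range f) :
    ∃ (S' : Scheme.{u}) (g : S' ⟶ S) (s' : S'), Etale g ∧ g s' = s ∧ ∃ h : S' ⟶ X, h ≫ f = g := by
  obtain ⟨x₀, rfl⟩ := hs
  obtain ⟨x, hfx, hsep⟩ := exists_sep_point f x₀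
  obtain ⟨Z, i, z, -, het, hiz, -⟩ := EtSlice.s0413 f x hsep
  exact ⟨Z, i ≫ f, z, het, by rw [Scheme.Hom.comp_apply, hiz, hfx], i, rfl⟩


end

end Groth.Agent.H1.SepPt
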