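import Mathlib
import Groth.Agent.Lib.Helper1.HS8
import Groth.Agent.Lib.Helper1.Serre4

set_option autoImplicit false
universe u
open Polynomial

namespace Groth.Agent.Lib.Helper1.Serre

open Groth.Agent.Lib.Helper1.HS

section

variable {A : Type u} [CommRing A] {T : Type u} [AddCommGroup T] [Module A T]

lemma pow_smul_top_eq_of_killed' {I I' J : Ideal A} (hI : I = J ⊔ I')
    (hJ : ∀ a ∈ J, ∀ t : T, a • t = 0) (n : ℕ) :
    (I ^ n • ⊤ : Submodule A T) = I' ^ n • ⊤ := by
  induction n with
  | zero => simp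
  | succ n ih =>
    rw [pow_succ', mul_smul, ih, pow_succ', mul_smul, hI, Submodule.sup_smul]
    have : (J • (I' ^ n • ⊤ : Submodule A T)) = ⊥ := by
      rw [eq_bot_iff]
      refine Submodule.smul_le.2 (fun r hr x _ => ?_)
      rw [hJ r hr x]
      exact Submodule.zero_mem _
    rw [this, bot_sup_eq]

end

variable {A : Type u} [CommRing A] [IsNoetherianRing A] [IsLocalRing A]

/-- if `M/IM` has finite length (`M ≠ 0` finite, `I ≤ 𝔪`), then `I + ann M` is an ideal of definition. -/
lemma exists_pow_le_sup_annihilator (I : Ideal A) (hI : I ≤ IsLocalRing.maximalIdeal A)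
    (M : Type u) [AddCommGroup M] [Module A M] [Module.Finite A M] [Nontrivial M]
    (hM : IsFiniteLength A (M ⧸ (I • ⊤ : Submodule A M))) :
    ∃ n : ℕ, IsLocalRing.maximalIdeal A ^ n ≤ Module.annihilator A M ⊔ I := by
  set J := Module.annihilator A M ⊔ I with hJ
  have hJm : J ≤ IsLocalRing.maximalIdeal A := by
    refine sup_le ?_ hI
    refine IsLocalRing.le_maximalIdeal ?_
    rw [Ne, Module.annihilator_eq_top_iff]
    exact not_subsingleton M
  have hdim := (Groth.Agent.H6.SLD.isFiniteLength_iff_supportDim_le_zero A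
    (M ⧸ (I • ⊤ : Submodule A M))).1 hM
  have hmax := Order.krullDim_nonpos_iff_forall_isMax.1 hdim
  have hprime : ∀ p : Ideal A, p.IsPrime → J ≤ p → p = IsLocalRing.maximalIdeal A := by
    intro p hp hJp
    have hpS : (⟨p, hp⟩ : PrimeSpectrum A) ∈ Module.support A (M ⧸ (I • ⊤ : Submodule A M)) := by
      rw [Module.support_quotient]
      refine ⟨?_, ?_⟩
      · rw [Module.mem_support_iff_of_finite]
        exact le_trans le_sup_left hJp
      · rw [PrimeSpectrum.mem_zeroLocus]
        exact fun a ha => hJp (Ideal.mem_sup_right ha)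
    have hle : (⟨p, hp⟩ : PrimeSpectrum A) ≤ IsLocalRing.closedPoint A :=
      IsLocalRing.le_maximalIdeal hp.ne_top
    have hmS := Module.mem_support_mono hle hpS
    have := hmax ⟨_, hpS⟩ (b := ⟨_, hmS⟩) hle
    exact le_antisymm (IsLocalRing.le_maximalIdeal hp.ne_top) this
  have hrad : IsLocalRing.maximalIdeal A ≤ J.radical := by
    rw [Ideal.radical_eq_sInf]
    refine le_sInf ?_
    rintro p ⟨hJp, hp⟩
    rw [hprime p hp hJp]
  exact Ideal.exists_pow_le_of_le_radical_of_fg hrad (IsNoetherian.noetherian _)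

/-- **Degree = dimension** for `M` with `M/IM` of finite length, `I ≤ 𝔪`. -/
theorem natDegree_hsPoly_of_local' (I : Ideal A) (hI : I ≤ IsLocalRing.maximalIdeal A)
    (M : Type u) [AddCommGroup M] [Module A M] [Module.Finite A M] [Nontrivial M]
    (hM : IsFiniteLength A (M ⧸ (I • ⊤ : Submodule A M))) :
    ((hsPoly I M).natDegree : WithBot ℕ∞) = Module.supportDim A M := by
  obtain ⟨n, hn⟩ := exists_pow_le_sup_annihilator I hI M hM
  set J := Module.annihilator A M ⊔ I with hJ
  have hJm : J ≤ IsLocalRing.maximalIdeal A := by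
    refine sup_le ?_ hI
    refine IsLocalRing.le_maximalIdeal ?_
    rw [Ne, Module.annihilator_eq_top_iff]
    exact not_subsingleton M
  have hpoly : hsPoly J M = hsPoly I M := by
    refine hsPoly_congr (fun k => ?_)
    unfold chi
    rw [pow_smul_top_eq_of_killed' hJ (fun a ha t => Module.mem_annihilator.1 ha t) k]
  rw [← hpoly]
  exact natDegree_hsPoly_of_local J ⟨hJm, n, hn⟩ M

end Groth.Agent.Lib.Helper1.Serre
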