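import Mathlib
import Groth.Agent.Lib.Helper1.Serre6
import Groth.Agent.Lib.Helper1.Serre7

set_option autoImplicit false
universe u
open CategoryTheory Polynomial Filter Topology

namespace Groth.Agent.Lib.Helper1.Serre

open DRing CohIII Groth.Agent.H4.KE5a Groth.Agent.H4.KE5b Groth.Agent.H4.KE6
  Groth.Agent.Lib.Helper1.HS

variable (A : Type u) [CommRing A] [IsNoetherianRing A]

/-- the Koszul Euler characteristic of the statement. -/
noncomputable abbrev kchi (l : List A) (M : Type u) [AddCommGroup M] [Module A M] : ℤ :=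
  ∑ᶠ i : ℤ, ((i.negOnePow : ℤˣ) : ℤ) *
    ((Module.length A ((DRing.tensorCx (Koszul.koszul A l) (ModuleCat.of A M)).homology i)).toNat : ℤ)

lemma idl_ofFn {d : ℕ} (x : Fin d → A) : idl (List.ofFn x) = Ideal.span (Set.range x) := by
  unfold idl
  congr 1
  ext a
  simp [List.mem_ofFn]

/-- **Serre**: `χ(x; M) = d! · (coefficient of nᵈ in the Hilbert–Samuel polynomial)`. -/
theorem kchi_eq (d : ℕ) (x : Fin d → A) (M : Type u) [AddCommGroup M] [Module A M]
    [Module.Finite A M]
    (hfl : IsFiniteLength A (M ⧸ (Ideal.span (Set.range x) • (⊤ : Submodule A M)))) :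
    (kchi A (List.ofFn x) M : ℚ) =
      (d.factorial : ℚ) * (hsPoly (Ideal.span (Set.range x)) M).coeff d := by
  have h := serreAt_all (List.ofFn x) M (by rw [idl_ofFn]; exact hfl)
  unfold SerreAt at h
  rw [idl_ofFn, List.length_ofFn] at h
  rw [← h]
  unfold kchi
  rw [chi_bridge]

theorem tendsto_kchi (d : ℕ) (x : Fin d → A) (M : Type u) [AddCommGroup M] [Module A M]
    [Module.Finite A M]
    (hfl : IsFiniteLength A (M ⧸ (Ideal.span (Set.range x) • (⊤ : Submodule A M)))) :
    Tendsto (fun n : ℕ => (d.factorial : ℝ) *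
        ((Module.length A (M ⧸ (Ideal.span (Set.range x) ^ n • (⊤ : Submodule A M)))).toNat : ℝ)
          / (n : ℝ) ^ d)
      atTop (𝓝 ((kchi A (List.ofFn x) M : ℤ) : ℝ)) := by
  have h1 := tendsto_chi (isHSPoly_hsPoly hfl) d (natDegree_hsPoly_le_of_span x rfl hfl)
  have h2 := kchi_eq A d x M hfl
  have h3 : ((kchi A (List.ofFn x) M : ℤ) : ℝ) =
      (d.factorial : ℝ) * (((hsPoly (Ideal.span (Set.range x)) M).coeff d : ℚ) : ℝ) := by
    have : ((kchi A (List.ofFn x) M : ℚ) : ℝ) =
        (((d.factorial : ℚ) * (hsPoly (Ideal.span (Set.range x)) M).coeff d : ℚ) : ℝ) := by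
      rw [h2]
    push_cast at this
    exact this
  rw [h3]
  exact h1

end Groth.Agent.Lib.Helper1.Serre
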