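import Mathlib
import Groth.Agent.Lib.Helper1.PairMain
import Groth.Agent.Lib.Helper1.Subtr1

set_option autoImplicit false

namespace Groth.Agent.Lib.Helper1.Subtr6

universe u

open CategoryTheory CategoryTheory.Limits AlgebraicGeometry TensorProduct IsLocalRing HTop
open Groth.Agent.Lib.Helper1.ValLift Groth.Agent.Lib.Helper1.PairLift
open Groth.Agent.Lib.Helper1.Subtr1

/-- **Finite type criterion for the valuative lifting property.**  A quasi-compact morphism has
the valuative lifting property as soon as, for every affine open `Spec A` of the target and every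
domain `R` of finite type over `A`, the pairs `(0) ⊆ p` of primes of `R` lift to the base change to
`Spec R`. -/
theorem valLift_of_forall_finiteType {X Y : Scheme.{u}} (f : X ⟶ Y) [QuasiCompact f]
    (H : ∀ (A : Type u) [CommRing A] (a : Spec (.of A) ⟶ Y) [IsOpenImmersion a]
      (R : Type u) [CommRing R] [IsDomain R] [Algebra A R] [Algebra.FiniteType A R]
      (p : Ideal R) [p.IsPrime],
      ∃ w' w : ↑(pullback (kR a R) f), w' ⤳ w ∧
        (pullback.fst (kR a R) f w').asIdeal = ⊥ ∧ (pullback.fst (kR a R) f w).asIdeal = p) :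
    ValLift f := by
  intro V _ _ g
  have hloc : IsLocalRing V := inferInstance
  obtain ⟨U, hU, hgU, -⟩ := TopologicalSpace.Opens.isBasis_iff_nbhd.mp Y.isBasis_affineOpens
    (show g (closedPoint V) ∈ (⊤ : Y.Opens) from trivial)
  have hU' : IsAffineOpen U := hU
  let A : Type u := Γ(Y, U)
  let a : Spec (.of A) ⟶ Y := hU'.fromSpec
  have ha : IsOpenImmersion a := inferInstanceAs (IsOpenImmersion hU'.fromSpec)
  have hrange : Set.range g ⊆ Set.range a := by
    have htop : g ⁻¹ᵁ U = ⊤ := Scheme.preimage_eq_top_of_closedPoint_mem g hgU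
    rintro _ ⟨x, rfl⟩
    change _ ∈ Set.range hU'.fromSpec
    rw [hU'.range_fromSpec]
    have : x ∈ g ⁻¹ᵁ U := by rw [htop]; trivial
    exact this
  let c : Spec V ⟶ Spec (.of A) := IsOpenImmersion.lift a g hrange
  have hc : c ≫ a = g := IsOpenImmersion.lift_fac _ _ _
  let ρ : CommRingCat.of A ⟶ V := Spec.preimage c
  have hρ : Spec.map ρ = c := Spec.map_preimage _
  letI : Algebra A V := ρ.hom.toAlgebra
  have hg : g = kR a (V : Type u) := by
    rw [← hc, ← hρ]
    rfl
  have key : ∃ w' w : ↑(pullback (kR a (V : Type u)) f), w' ⤳ w ∧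
      (pullback.fst (kR a (V : Type u)) f w').asIdeal = ⊥ ∧
      (pullback.fst (kR a (V : Type u)) f w).asIdeal = maximalIdeal V := by
    apply exists_pair_of_forall_fg
    intro R hR
    haveI : Algebra.FiniteType A R := R.fg_iff_finiteType.1 hR
    haveI : (contr (maximalIdeal V) R).IsPrime := Ideal.comap_isPrime _ _
    exact H A a R (contr (maximalIdeal V) R)
  obtain ⟨w', w, hw, h1, h2⟩ := key
  obtain ⟨W, hd, hv, φ, hφ, q, hq, -⟩ := exists_extVal_lift (V := V)
    (pullback.fst (kR a (V : Type u)) f) hw h1 (PrimeSpectrum.ext h2)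
  refine ⟨W, hd, hv, φ, hφ, q ≫ pullback.snd (kR a (V : Type u)) f, ?_⟩
  rw [Category.assoc, ← pullback.condition, ← Category.assoc, hq, hg]

end Groth.Agent.Lib.Helper1.Subtr6
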