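import Mathlib
import Groth.Agent.Lib.Helper1.Subtr6
import Groth.Agent.Lib.Helper1.Subtr3
import Groth.Agent.Lib.Helper8.DVRDominate
import Groth.Agent.Lib.Helper9.Misc.DVRSub

set_option autoImplicit false

namespace Groth.Agent.Lib.Helper1.Subtr7

universe u

open CategoryTheory CategoryTheory.Limits AlgebraicGeometry TensorProduct IsLocalRing HTop
open Groth.Agent.Lib.Helper1.ValLift Groth.Agent.Lib.Helper1.PairLift
open Groth.Agent.Lib.Helper1.Subtr1 Groth.Agent.Lib.Helper1.Subtr3 Groth.Agent.Lib.Helper1.Subtr6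

variable {X Y : Scheme.{u}}

/-- transfer of pairs along a morphism of bases -/
theorem exists_pair_of_comp {T T' : Scheme.{u}} (f : X ⟶ Y) (k : T ⟶ Y) (h : T' ⟶ T)
    {w' w : ↑(pullback (h ≫ k) f)} (hw : w' ⤳ w) :
    ∃ v' v : ↑(pullback k f), v' ⤳ v ∧
      pullback.fst k f v' = h (pullback.fst (h ≫ k) f w') ∧
      pullback.fst k f v = h (pullback.fst (h ≫ k) f w) := by
  let t : pullback (h ≫ k) f ⟶ pullback k f :=
    pullback.lift (pullback.fst _ _ ≫ h) (pullback.snd _ _) (by
      rw [Category.assoc, pullback.condition])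
  have ht : t ≫ pullback.fst k f = pullback.fst _ _ ≫ h := pullback.lift_fst _ _ _
  refine ⟨t w', t w, hw.map t.continuous, ?_, ?_⟩
  · rw [← Scheme.Hom.comp_apply, ht, Scheme.Hom.comp_apply]
  · rw [← Scheme.Hom.comp_apply, ht, Scheme.Hom.comp_apply]

/-- The pair property over discrete valuation rings. -/
def DVRPairs (f : X ⟶ Y) : Prop :=
  ∀ (D : Type u) [CommRing D] [IsDomain D] [IsDiscreteValuationRing D]
    (k : Spec (.of D) ⟶ Y), ∃ w' w : ↑(pullback k f), w' ⤳ w ∧
      (pullback.fst k f w').asIdeal = ⊥ ∧ (pullback.fst k f w).asIdeal = maximalIdeal D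

/-- over a Noetherian domain, pairs `(0) ⊆ p` lift as soon as they do over discrete valuation
rings -/
theorem exists_pair_of_dvrPairs (f : X ⟶ Y) (H : DVRPairs f) {A : Type u} [CommRing A]
    (a : Spec (.of A) ⟶ Y) (R : Type u) [CommRing R] [IsDomain R] [Algebra A R]
    [IsNoetherianRing R] (p : Ideal R) [hp : p.IsPrime] :
    ∃ w' w : ↑(pullback (kR a R) f), w' ⤳ w ∧
      (pullback.fst (kR a R) f w').asIdeal = ⊥ ∧ (pullback.fst (kR a R) f w).asIdeal = p := by
  by_cases hp0 : p = ⊥
  · subst hp0
    let K := FractionRing R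
    let D := PowerSeries K
    letI : Algebra R D := (PowerSeries.C.comp (algebraMap R K)).toAlgebra
    obtain ⟨w', w, hw, h1, h2⟩ := H D (Spec.map (CommRingCat.ofHom (algebraMap R D)) ≫ kR a R)
    obtain ⟨v', v, hv, e1, e2⟩ := exists_pair_of_comp f (kR a R)
      (Spec.map (CommRingCat.ofHom (algebraMap R D))) hw
    refine ⟨v, v, specializes_rfl, ?_, ?_⟩ <;>
    · rw [e2]
      change Ideal.comap (algebraMap R D) (pullback.fst _ f w).asIdeal = ⊥
      rw [h2, eq_bot_iff]
      intro x hx
      rw [Ideal.mem_comap, IsLocalRing.mem_maximalIdeal, mem_nonunits_iff] at hx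
      rw [Ideal.mem_bot]
      by_contra hx0
      apply hx
      change IsUnit (PowerSeries.C (algebraMap R K x))
      rw [PowerSeries.isUnit_iff_constantCoeff, PowerSeries.constantCoeff_C, isUnit_iff_ne_zero]
      exact (map_ne_zero_iff _ (IsFractionRing.injective R K)).2 hx0
  · have hlt : (⟨⊥, Ideal.isPrime_bot⟩ : PrimeSpectrum R) < ⟨p, hp⟩ := by
      change (⊥ : Ideal R) < p
      exact bot_lt_iff_ne_bot.2 hp0
    obtain ⟨D, _, _, _, _, hb, hc⟩ := Groth.Agent.H8.KA.exists_dvr_of_lt hlt
    obtain ⟨w', w, hw, h1, h2⟩ := H D (Spec.map (CommRingCat.ofHom (algebraMap R D)) ≫ kR a R)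
    obtain ⟨v', v, hv, e1, e2⟩ := exists_pair_of_comp f (kR a R)
      (Spec.map (CommRingCat.ofHom (algebraMap R D))) hw
    refine ⟨v', v, hv, ?_, ?_⟩
    · rw [e1]
      change Ideal.comap (algebraMap R D) (pullback.fst _ f w').asIdeal = ⊥
      rw [h1]
      exact congrArg PrimeSpectrum.asIdeal hb
    · rw [e2]
      change Ideal.comap (algebraMap R D) (pullback.fst _ f w).asIdeal = p
      rw [h2]
      exact congrArg PrimeSpectrum.asIdeal hc

/-- On a locally Noetherian base, the pair property over discrete valuation rings gives the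
valuative lifting property (quasi-compact case). -/
theorem valLift_of_dvrPairs [IsLocallyNoetherian Y] (f : X ⟶ Y) [QuasiCompact f]
    (H : DVRPairs f) : ValLift f := by
  apply valLift_of_forall_finiteType
  intro A _ a _ R _ _ _ _ p _
  have h1 : IsLocallyNoetherian (Spec (CommRingCat.of A)) := isLocallyNoetherian_of_isOpenImmersion a
  have hA : IsNoetherianRing A := isLocallyNoetherian_Spec.1 h1
  have hR : IsNoetherianRing R := Algebra.FiniteType.isNoetherianRing A R
  exact exists_pair_of_dvrPairs f H a R p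

/-- universally submersive morphisms have the pair property over discrete valuation rings -/
theorem dvrPairs_of_univSubmersive (f : X ⟶ Y) (hf : SGA1.UnivSubmersive f) : DVRPairs f := by
  intro D _ _ _ k
  have hq : Topology.IsQuotientMap (pullback.fst k f) :=
    hf (pullback.snd k f) k (pullback.fst k f) (IsPullback.of_hasPullback k f)
  have hs : Subtr.IsSSubtrusive (pullback.fst k f) := (Groth.Agent.H9.DVRSub.main D _).1 hq
  obtain ⟨x, x', hx, e1, e2⟩ := hs (bot_specializes (V := CommRingCat.of D) (closedPoint D))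
  refine ⟨x', x, hx, ?_, ?_⟩
  · rw [e2]
  · rw [e1]; rfl

end Groth.Agent.Lib.Helper1.Subtr7
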