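import Mathlib
import Groth.Agent.Lib.Helper1.Subtr7
import Groth.Agent.Lib.Helper1.HCov2

set_option autoImplicit false

namespace Groth.Agent.Lib.Helper1.SigmaVal

universe u

open CategoryTheory CategoryTheory.Limits AlgebraicGeometry HTop
open Groth.Agent.Lib.Helper1.ValLift Groth.Agent.Lib.Helper1.HCov Groth.Agent.Lib.Helper1.Subtr1
  Groth.Agent.Lib.Helper1.Subtr3 Groth.Agent.Lib.Helper1.Subtr7

theorem exists_sigmaι_eq {ι : Type u} (Y : ι → Scheme.{u}) (x : ↑(∐ Y)) :
    ∃ (i : ι) (y : Y i), Sigma.ι Y i y = x := by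
  obtain ⟨⟨i, y⟩, rfl⟩ := (sigmaMk Y).surjective x
  exact ⟨i, y, (sigmaMk_mk Y i y).symm⟩

theorem sigmaDesc_sigmaι_apply {X : Scheme.{u}} {ι : Type u} {Y : ι → Scheme.{u}}
    (f : ∀ i, Y i ⟶ X) (i : ι) (y : Y i) : (Sigma.desc f) (Sigma.ι Y i y) = f i y := by
  rw [← Scheme.Hom.comp_apply, Sigma.ι_desc]

/-- the morphism from a finite coproduct induced by quasi-compact morphisms is quasi-compact -/
theorem quasiCompact_sigmaDesc {X : Scheme.{u}} {ι : Type u} [Finite ι] {Y : ι → Scheme.{u}}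
    (f : ∀ i, Y i ⟶ X) [∀ i, QuasiCompact (f i)] : QuasiCompact (Sigma.desc f) := by
  constructor
  intro U hU hUc
  have : (Sigma.desc f) ⁻¹' U = ⋃ i, (Sigma.ι Y i) '' ((f i) ⁻¹' U) := by
    ext x
    obtain ⟨i, y, rfl⟩ := exists_sigmaι_eq Y x
    rw [Set.mem_preimage, sigmaDesc_sigmaι_apply, Set.mem_iUnion]
    constructor
    · intro h
      exact ⟨i, y, h, rfl⟩
    · rintro ⟨j, z, hz, hzy⟩
      rw [← sigmaDesc_sigmaι_apply f i y, ← hzy, sigmaDesc_sigmaι_apply]
      exact hz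
  rw [this]
  exact isCompact_iUnion fun i =>
    ((QuasiCompact.isCompact_preimage (f := f i) U hU hUc).image (Sigma.ι Y i).continuous)

/-- valuative lifting for the morphism from the coproduct is valuative lifting for the family -/
theorem valLift_sigmaDesc_iff {X : Scheme.{u}} (E : PreZeroHypercover.{u} X) :
    ValLift (Sigma.desc E.f) ↔ HasValLift E := by
  constructor
  · intro h V _ _ g
    obtain ⟨W, hd, hv, φ, hφ, g', hg'⟩ := h V g
    obtain ⟨j, q', hq'⟩ := exists_lift_openImmersion (W := W) (Sigma.ι E.X)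
      (fun j => inferInstance) (fun x => by
        obtain ⟨i, y, rfl⟩ := exists_sigmaι_eq E.X x
        exact ⟨i, y, rfl⟩) g'
    refine ⟨W, hd, hv, φ, hφ, j, q', ?_⟩
    rw [← hg', ← hq', Category.assoc, Sigma.ι_desc]
  · intro h V _ _ g
    obtain ⟨W, hd, hv, φ, hφ, j, g', hg'⟩ := h V g
    refine ⟨W, hd, hv, φ, hφ, g' ≫ Sigma.ι E.X j, ?_⟩
    rw [Category.assoc, Sigma.ι_desc, hg']

/-- an h covering gives a universally S-subtrusive morphism from the coproduct -/
theorem univSSubtrusive_sigmaDesc_of_isVCover {X : Scheme.{u}} (E : PreZeroHypercover.{u} X)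
    (h : IsVCover E) : Subtr.UnivSSubtrusive (Sigma.desc E.f) := by
  apply univSSubtrusive_of_valLift
  rw [valLift_sigmaDesc_iff]
  exact hasValLift_of_isVCover E h

end Groth.Agent.Lib.Helper1.SigmaVal
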