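import Mathlib
import Groth.Prelude.Def_CohSite

/-! Helper1: basics on cohomology of abelian sheaves on a small site:
free abelian sheaves on representables, `Hom(ℤ[U]^#, F) ≃ F(U)`, weakly contractible objects. -/

open CategoryTheory Limits Opposite
universe u

namespace Groth.Agent.H1
variable {C : Type u} [SmallCategory C] (J : GrothendieckTopology C)

/-- free abelian sheaf on representable -/
noncomputable abbrev freeSheafFunctor : C ⥤ Sheaf J AddCommGrpCat.{u} :=
  yoneda ⋙ (Functor.whiskeringRight _ _ _).obj AddCommGrpCat.free ⋙ presheafToSheaf J _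

/-- The adjunction between "free abelian sheaf on a presheaf of sets" and the forgetful functor. -/
noncomputable def freeSheafAdj :
    (Functor.whiskeringRight Cᵒᵖ _ _).obj AddCommGrpCat.free ⋙ presheafToSheaf J AddCommGrpCat.{u} ⊣
      sheafToPresheaf J _ ⋙ (Functor.whiskeringRight Cᵒᵖ _ _).obj (forget AddCommGrpCat) :=
  (Adjunction.whiskerRight Cᵒᵖ AddCommGrpCat.adj).comp (sheafificationAdjunction J _)

/-- `Hom(ℤ[U]^#, F) ≃ F(U)`. -/
noncomputable def freeSheafHomEquiv (U : C) (F : Sheaf J AddCommGrpCat.{u}) :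
    ((freeSheafFunctor J).obj U ⟶ F) ≃ F.obj.obj (op U) :=
  ((freeSheafAdj J).homEquiv (yoneda.obj U) F).trans yonedaEquiv

lemma freeSheafHomEquiv_comp (U : C) {F G : Sheaf J AddCommGrpCat.{u}}
    (h : (freeSheafFunctor J).obj U ⟶ F) (φ : F ⟶ G) :
    freeSheafHomEquiv J U G (h ≫ φ) = φ.hom.app (op U) (freeSheafHomEquiv J U F h) := by
  unfold freeSheafHomEquiv
  simp only [Equiv.trans_apply]
  rw [Adjunction.homEquiv_naturality_right, yonedaEquiv_comp]
  rfl

lemma surjective_app_of_epi_of_isWeaklyContractible {U : C}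
    (hU : CohSite.IsWeaklyContractible J U)
    {F G : Sheaf J AddCommGrpCat.{u}} (φ : F ⟶ G) [Epi φ] :
    Function.Surjective (φ.hom.app (op U)) := by
  have : Sheaf.IsLocallySurjective φ :=
    (Sheaf.isLocallySurjective_iff_epi' (φ := φ)).2 inferInstance
  have h2 : Sheaf.IsLocallySurjective ((sheafCompose J (forget AddCommGrpCat)).map φ) :=
    inferInstance
  have h3 : Epi ((sheafCompose J (forget AddCommGrpCat)).map φ) := inferInstance
  exact hU _ _ _ h3

/-- If sections over `U` send epimorphisms of abelian sheaves to surjections, `ℤ[U]^#` is projective. -/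
lemma projective_freeSheaf_of_forall_epi (U : C)
    (h : ∀ {F G : Sheaf J AddCommGrpCat.{u}} (φ : F ⟶ G), Epi φ →
      Function.Surjective (φ.hom.app (op U))) :
    Projective ((freeSheafFunctor J).obj U) where
  factors {E X} f e _ := by
    obtain ⟨y, hy⟩ := h e inferInstance (freeSheafHomEquiv J U X f)
    refine ⟨(freeSheafHomEquiv J U E).symm y, ?_⟩
    apply (freeSheafHomEquiv J U X).injective
    rw [freeSheafHomEquiv_comp, Equiv.apply_symm_apply, hy]

/-- sections functor on abelian sheaves -/
noncomputable abbrev sectionsFunctor (U : C) : Sheaf J AddCommGrpCat.{u} ⥤ AddCommGrpCat.{u} :=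
  sheafToPresheaf J AddCommGrpCat.{u} ⋙ (evaluation Cᵒᵖ AddCommGrpCat.{u}).obj (op U)

instance (U : C) : (sectionsFunctor J U).Additive where

lemma preservesFiniteColimits_sectionsFunctor_of_forall_epi (U : C)
    (h : ∀ {F G : Sheaf J AddCommGrpCat.{u}} (φ : F ⟶ G), Epi φ →
      Function.Surjective (φ.hom.app (op U))) :
    PreservesFiniteColimits (sectionsFunctor J U) := by
  rw [Functor.preservesFiniteColimits_iff_forall_exact_map_and_epi]
  intro S hS
  refine ⟨?_, ?_⟩
  · exact (((sectionsFunctor J U).preservesFiniteLimits_iff_forall_exact_map_and_mono).1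
      inferInstance S hS).1
  · have := hS.epi_g
    rw [AddCommGrpCat.epi_iff_surjective]
    exact h S.g inferInstance

/-- `H^{p+1}(U, F) = 0` as soon as `ℤ[U]^#` is projective. -/
lemma subsingleton_HU_of_projective_freeSheaf {J} (U : C)
    [Projective ((freeSheafFunctor J).obj U)] (F : Sheaf J AddCommGrpCat.{u}) (p : ℕ) :
    Subsingleton (CohSite.HU F (p + 1) U) := by
  change Subsingleton (Abelian.Ext ((freeSheafFunctor J).obj U) F (p + 1))
  exact subsingleton_of_forall_eq 0 fun x => Abelian.Ext.eq_zero_of_projective x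

end Groth.Agent.H1
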