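import Mathlib
import Groth.Agent.Lib.Helper9.EtaleCoord

/-! helper1: étale coordinates at a prime of a smooth algebra (generalising helper9's EtaleCoord
from maximal ideals to primes): a smooth `A`-algebra `B` is, near any prime, étale over a
polynomial ring `A[X₁,…,X_d]`. -/

set_option autoImplicit false
open KaehlerDifferential TensorProduct MvPolynomial

namespace Groth.Agent.H1.SmChart

universe u

open Groth.Agent.H9.EtaleCoord

theorem exists_coords (k R : Type u) [CommRing k] [CommRing R] [Algebra k R]
    (m : Ideal R) [m.IsPrime] (d : ℕ)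
    [Module.Finite (Localization.AtPrime m) Ω[Localization.AtPrime m⁄k]]
    (hdim : Module.finrank m.ResidueField
      (m.ResidueField ⊗[Localization.AtPrime m] Ω[Localization.AtPrime m⁄k]) = d) :
    ∃ x : Fin d → R, Function.Bijective (Finsupp.linearCombination m.ResidueField
      (fun i => (1 : m.ResidueField) ⊗ₜ[Localization.AtPrime m]
        D k (Localization.AtPrime m) (algebraMap R (Localization.AtPrime m) (x i)))) := by
  set T := Localization.AtPrime m
  set K := m.ResidueField
  set V := K ⊗[T] Ω[T⁄k]
  let g : R → V := fun r => (1 : K) ⊗ₜ[T] D k T (algebraMap R T r)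
  -- the differentials span
  have hspanT : Submodule.span T (Set.range (KaehlerDifferential.map k k R T ∘ D k R)) = ⊤ :=
    span_range_map_derivation_of_isLocalization k R T m.primeCompl
  have hspan : Submodule.span K (Set.range g) = ⊤ := by
    have h1 : (Submodule.span T (Set.range (KaehlerDifferential.map k k R T ∘ D k R))).map
        (TensorProduct.mk T K Ω[T⁄k] 1) = ⊤ := by
      rw [IsLocalRing.map_tensorProduct_mk_eq_top]
      exact hspanT
    rw [Submodule.map_span, ← Set.range_comp] at h1
    have h2 : (⇑(TensorProduct.mk T K Ω[T⁄k] 1) ∘ (KaehlerDifferential.map k k R T ∘ D k R)) = g := by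
      funext r
      simp [g]
    rw [h2] at h1
    rw [← Submodule.restrictScalars_eq_top_iff (R := K) (S := T), eq_top_iff, ← h1]
    apply Submodule.span_le_restrictScalars
  obtain ⟨b, hbt, hbspan, hbli⟩ := exists_linearIndependent K (Set.range g)
  rw [hspan] at hbspan
  let B : Module.Basis b K V := Module.Basis.mk hbli (by rw [Subtype.range_coe_subtype, Set.ofPred_mem_eq, hbspan])
  have hfin : Finite b := Module.Finite.finite_basis B
  have hcard : Nat.card b = d := by
    rw [← hdim, Module.finrank_eq_nat_card_basis B]
  let e : b ≃ Fin d := Finite.equivFinOfCardEq hcard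
  have hx : ∀ i : Fin d, ∃ r : R, g r = (e.symm i : V) := fun i => hbt (e.symm i).2
  choose x hx using hx
  refine ⟨x, ?_⟩
  let B' : Module.Basis (Fin d) K V := B.reindex e
  have hB' : (fun i => (1 : K) ⊗ₜ[T] D k T (algebraMap R T (x i))) = ⇑B' := by
    funext i
    rw [Module.Basis.reindex_apply]
    simp only [B, Module.Basis.mk_apply]
    exact hx i
  rw [hB']
  have : ⇑(Finsupp.linearCombination K ⇑B') = ⇑B'.repr.symm := by
    funext v
    rw [Module.Basis.repr_symm_apply]
  rw [this]
  exact B'.repr.symm.bijective

theorem isEtaleAt_of_coords (k R : Type u) [CommRing k] [CommRing R] [Algebra k R]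
    (m : Ideal R) [m.IsPrime] [Algebra.IsSmoothAt k m] (d : ℕ)
    [Algebra (MvPolynomial (Fin d) k) R] [IsScalarTower k (MvPolynomial (Fin d) k) R]
    [Module.Finite (Localization.AtPrime m) Ω[Localization.AtPrime m⁄k]]
    (hx : Function.Bijective (Finsupp.linearCombination m.ResidueField
      (fun i : Fin d => (1 : m.ResidueField) ⊗ₜ[Localization.AtPrime m]
        D k (Localization.AtPrime m) (algebraMap R (Localization.AtPrime m)
          (algebraMap (MvPolynomial (Fin d) k) R (X i)))))) :
    Algebra.IsEtaleAt (MvPolynomial (Fin d) k) m := by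
  set T := Localization.AtPrime m
  have hT : Algebra.FormallySmooth k T := ‹Algebra.IsSmoothAt k m›
  have hbij := Module.IsLocalRing.linearCombination_bijective_of_flat (R := T) (M := Ω[T⁄k])
    (fun i : Fin d => D k T (algebraMap R T (algebraMap (MvPolynomial (Fin d) k) R (X i)))) hx
  have hbij' : Function.Bijective (Finsupp.linearCombination T
      (fun i : Fin d => D k T (algebraMap (MvPolynomial (Fin d) k) T (X i)))) := by
    have hfun : (fun i : Fin d => D k T (algebraMap (MvPolynomial (Fin d) k) T (X i))) =
        fun i => D k T (algebraMap R T (algebraMap (MvPolynomial (Fin d) k) R (X i))) := by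
      funext i
      rw [IsScalarTower.algebraMap_apply (MvPolynomial (Fin d) k) R T]
    rw [hfun]
    exact hbij
  have := bijective_mapBaseChange_of_basis k d T hbij'
  exact formallyEtale_of_bijective_mapBaseChange k (MvPolynomial (Fin d) k) T this

/-- **Étale coordinates**: a smooth `A`-algebra `B` is étale over a polynomial ring over `A`
on a basic open neighbourhood of any given prime. -/
theorem exists_etale_chart (A B : Type u) [CommRing A] [CommRing B] [Algebra A B]
    [Algebra.Smooth A B] (q : Ideal B) [q.IsPrime] :
    ∃ (d : ℕ) (x : Fin d → B) (g : B), g ∉ q ∧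
      ∀ (Bg : Type u) [CommRing Bg] [Algebra B Bg] [IsLocalization.Away g Bg],
        ((algebraMap B Bg).comp
          (MvPolynomial.aeval x : MvPolynomial (Fin d) A →ₐ[A] B).toRingHom).Etale := by
  haveI : Algebra.FinitePresentation A B := Algebra.Smooth.finitePresentation
  haveI hB : Algebra.FormallySmooth A B := Algebra.Smooth.formallySmooth
  haveI : Algebra.FormallySmooth B (Localization.AtPrime q) :=
    Algebra.FormallySmooth.of_isLocalization q.primeCompl
  haveI hT : Algebra.FormallySmooth A (Localization.AtPrime q) :=
    Algebra.FormallySmooth.comp A B (Localization.AtPrime q)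
  haveI : Algebra.IsSmoothAt A q := hT
  haveI hfin : Module.Finite (Localization.AtPrime q) Ω[Localization.AtPrime q⁄A] := inferInstance
  obtain ⟨d, hd⟩ : ∃ d : ℕ, Module.finrank q.ResidueField
      (q.ResidueField ⊗[Localization.AtPrime q] Ω[Localization.AtPrime q⁄A]) = d := ⟨_, rfl⟩
  obtain ⟨x, hx⟩ := exists_coords A B q d hd
  -- algebra structure
  letI alg : Algebra (MvPolynomial (Fin d) A) B :=
    (MvPolynomial.aeval x : MvPolynomial (Fin d) A →ₐ[A] B).toRingHom.toAlgebra
  have halg : ∀ p : MvPolynomial (Fin d) A, algebraMap (MvPolynomial (Fin d) A) B p =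
      MvPolynomial.aeval x p := fun _ => rfl
  haveI : IsScalarTower A (MvPolynomial (Fin d) A) B := IsScalarTower.of_algebraMap_eq fun a => by
    rw [halg, AlgHom.commutes]
  have hX : ∀ i, algebraMap (MvPolynomial (Fin d) A) B (X i) = x i := fun i => by
    rw [halg, MvPolynomial.aeval_X]
  haveI : Algebra.IsEtaleAt (MvPolynomial (Fin d) A) q := by
    apply isEtaleAt_of_coords A B q d
    simpa only [hX] using hx
  haveI : Algebra.FinitePresentation (MvPolynomial (Fin d) A) B :=
    Algebra.FinitePresentation.of_restrict_scalars_finitePresentation A _ _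
  obtain ⟨g, hg, hét⟩ := Algebra.exists_etale_of_isEtaleAt (R := MvPolynomial (Fin d) A) q
  refine ⟨d, x, g, hg, ?_⟩
  intro Bg _ _ _
  let ε : Localization.Away g ≃ₐ[B] Bg :=
    IsLocalization.algEquiv (Submonoid.powers g) (Localization.Away g) Bg
  have h1 : ((algebraMap B (Localization.Away g)).comp
      (MvPolynomial.aeval x : MvPolynomial (Fin d) A →ₐ[A] B).toRingHom).Etale := by
    have : (algebraMap B (Localization.Away g)).comp
        (MvPolynomial.aeval x : MvPolynomial (Fin d) A →ₐ[A] B).toRingHom =
        algebraMap (MvPolynomial (Fin d) A) (Localization.Away g) :=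
      (IsScalarTower.algebraMap_eq _ _ _).symm
    rw [this, RingHom.etale_algebraMap]
    exact hét
  have h2 : (algebraMap B Bg).comp
      (MvPolynomial.aeval x : MvPolynomial (Fin d) A →ₐ[A] B).toRingHom =
      (ε : Localization.Away g ≃+* Bg).toRingHom.comp ((algebraMap B (Localization.Away g)).comp
      (MvPolynomial.aeval x : MvPolynomial (Fin d) A →ₐ[A] B).toRingHom) := by
    ext p <;> simp [ε]
  rw [h2]
  exact RingHom.Etale.respectsIso.1 _ _ h1

end Groth.Agent.H1.SmChart
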