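import Mathlib

/-! helper1: shrinking an étale neighbourhood carrying a section over an open of a closed
subscheme so that its restriction to the closed subscheme becomes an open immersion. -/

set_option autoImplicit false
universe u
open CategoryTheory CategoryTheory.Limits AlgebraicGeometry

namespace Groth.Agent.H1.SmChart

theorem exists_shrink {S X X₀ Y : Scheme.{u}} (p : X ⟶ S) (q : Y ⟶ S)
    (pr : X₀ ⟶ X) [IsClosedImmersion pr] (f₀ : X₀ ⟶ Y) (x₀ : X₀)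
    (O : X₀.Opens) (hx₀ : x₀ ∈ O)
    {U₁ : Scheme.{u}} (e₁ : U₁ ⟶ X) [Etale e₁] (f₁ : U₁ ⟶ Y) (hf₁ : f₁ ≫ q = e₁ ≫ p)
    (s₁ : (O : Scheme.{u}) ⟶ U₁) (hs₁ : s₁ ≫ e₁ = O.ι ≫ pr)
    (hs₁f : s₁ ≫ f₁ = O.ι ≫ f₀) :
    ∃ (U : Scheme.{u}) (e : U ⟶ X) (f : U ⟶ Y), Etale e ∧ f ≫ q = e ≫ p ∧
      IsOpenImmersion (pullback.snd e pr) ∧ x₀ ∈ Set.range (pullback.snd e pr).base ∧
      pullback.snd e pr ≫ f₀ = pullback.fst e pr ≫ f := by
  -- the restriction of the étale neighbourhood to `X₀`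
  have hs₀k : pullback.lift s₁ O.ι hs₁ ≫ pullback.fst e₁ pr = s₁ := pullback.lift_fst _ _ _
  have hs₀g : pullback.lift s₁ O.ι hs₁ ≫ pullback.snd e₁ pr = O.ι := pullback.lift_snd _ _ _
  generalize pullback.lift s₁ O.ι hs₁ = s₀ at hs₀k hs₀g
  haveI : Etale (s₀ ≫ pullback.snd e₁ pr) := by rw [hs₀g]; infer_instance
  haveI : Etale s₀ := Etale.of_comp s₀ (pullback.snd e₁ pr)
  haveI : Mono s₀ := mono_of_mono_fac hs₀g
  haveI : IsOpenImmersion s₀ := IsOpenImmersion.of_flat_of_mono s₀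
  -- the shrunk neighbourhood
  have hcl : IsClosed ((pullback.fst e₁ pr).base '' (Set.range s₀.base)ᶜ) :=
    (pullback.fst e₁ pr).isClosedEmbedding.isClosedMap _
      (s₀.isOpenEmbedding.isOpen_range.isClosed_compl)
  let U : U₁.Opens := ⟨((pullback.fst e₁ pr).base '' (Set.range s₀.base)ᶜ)ᶜ, hcl.isOpen_compl⟩
  have hUmem : ∀ u : U₁, u ∈ U ↔ u ∉ (pullback.fst e₁ pr).base '' (Set.range s₀.base)ᶜ :=
    fun u => Iff.rfl
  refine ⟨U, U.ι ≫ e₁, U.ι ≫ f₁, inferInstance, ?_, ?_⟩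
  · rw [Category.assoc, Category.assoc, hf₁]
  -- the comparison map
  have hcond : (pullback.fst (U.ι ≫ e₁) pr ≫ U.ι) ≫ e₁ = pullback.snd (U.ι ≫ e₁) pr ≫ pr := by
    rw [Category.assoc]; exact pullback.condition
  have hmk : pullback.lift (pullback.fst (U.ι ≫ e₁) pr ≫ U.ι) (pullback.snd (U.ι ≫ e₁) pr) hcond ≫
      pullback.fst e₁ pr = pullback.fst (U.ι ≫ e₁) pr ≫ U.ι := pullback.lift_fst _ _ _
  have hmg : pullback.lift (pullback.fst (U.ι ≫ e₁) pr ≫ U.ι) (pullback.snd (U.ι ≫ e₁) pr) hcond ≫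
      pullback.snd e₁ pr = pullback.snd (U.ι ≫ e₁) pr := pullback.lift_snd _ _ _
  generalize pullback.lift (pullback.fst (U.ι ≫ e₁) pr ≫ U.ι) (pullback.snd (U.ι ≫ e₁) pr) hcond
    = m at hmk hmg
  have hm_range : Set.range m.base ⊆ Set.range s₀.base := by
    rintro _ ⟨z, rfl⟩
    by_contra hz
    have h1 : (pullback.fst e₁ pr) (m z) ∈ U := by
      have : (m ≫ pullback.fst e₁ pr) z = (pullback.fst (U.ι ≫ e₁) pr ≫ U.ι) z := by rw [hmk]
      rw [Scheme.Hom.comp_apply, Scheme.Hom.comp_apply] at this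
      rw [this]
      exact (pullback.fst (U.ι ≫ e₁) pr z).2
    exact (hUmem _).mp h1 ⟨m z, hz, rfl⟩
  have hm' : IsOpenImmersion.lift s₀ m hm_range ≫ s₀ = m := IsOpenImmersion.lift_fac _ _ _
  generalize IsOpenImmersion.lift s₀ m hm_range = m' at hm'
  have hb : pullback.snd (U.ι ≫ e₁) pr = m' ≫ O.ι := by
    rw [← hmg, ← hm', Category.assoc, hs₀g]
  have ha : pullback.fst (U.ι ≫ e₁) pr ≫ U.ι = m' ≫ s₁ := by
    rw [← hmk, ← hm', Category.assoc, hs₀k]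
  haveI : Mono (pullback.snd (U.ι ≫ e₁) pr) := by
    constructor
    intro Z u v huv
    have h1 : u ≫ m' = v ≫ m' := by
      rw [← cancel_mono O.ι, Category.assoc, Category.assoc, ← hb, huv]
    apply pullback.hom_ext _ huv
    rw [← cancel_mono U.ι, Category.assoc, Category.assoc, ha, ← Category.assoc, h1,
      Category.assoc]
  refine ⟨IsOpenImmersion.of_flat_of_mono _, ?_, ?_⟩
  · -- the point
    have hu₀ : s₁ ⟨x₀, hx₀⟩ ∈ U := by
      rw [hUmem]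
      rintro ⟨y, hy, hyx⟩
      apply hy
      have h2 : (pullback.fst e₁ pr) (s₀ ⟨x₀, hx₀⟩) = s₁ ⟨x₀, hx₀⟩ := by
        rw [← Scheme.Hom.comp_apply, hs₀k]
      have h3 : y = s₀ ⟨x₀, hx₀⟩ :=
        (pullback.fst e₁ pr).isClosedEmbedding.injective (hyx.trans h2.symm)
      exact ⟨⟨x₀, hx₀⟩, h3.symm⟩
    have he : (U.ι ≫ e₁) ⟨s₁ ⟨x₀, hx₀⟩, hu₀⟩ = pr x₀ := by
      have h4 : (s₁ ≫ e₁) ⟨x₀, hx₀⟩ = (O.ι ≫ pr) ⟨x₀, hx₀⟩ := by rw [hs₁]
      rw [Scheme.Hom.comp_apply, Scheme.Hom.comp_apply] at h4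
      rw [Scheme.Hom.comp_apply]
      exact h4
    obtain ⟨z, -, hz⟩ := Scheme.Pullback.exists_preimage_pullback _ _ he
    exact ⟨z, hz⟩
  · rw [hb, Category.assoc, ← hs₁f, ← Category.assoc, ← ha, Category.assoc]

end Groth.Agent.H1.SmChart
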