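import Mathlib
import Groth.Agent.Lib.Helper1.SmChartA
import Groth.Agent.Lib.Helper1.SmChartB

/-! helper1: smooth morphisms are, locally, étale over affine space (scheme form), and the
étale-local extension of morphisms into smooth schemes from a closed subscheme (S14069). -/

set_option autoImplicit false
universe u
open CategoryTheory CategoryTheory.Limits AlgebraicGeometry TopologicalSpace

namespace Groth.Agent.H1.SmChart

/-- morphisms into `Spec P` are determined by the induced ring map. -/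
lemma hom_ext_toSpec {T : Scheme.{u}} {P : CommRingCat.{u}} {f g : T ⟶ Spec P}
    (h : (Scheme.ΓSpecIso P).inv ≫ f.appTop = (Scheme.ΓSpecIso P).inv ≫ g.appTop) : f = g := by
  apply ext_of_isAffine
  exact (cancel_epi (Scheme.ΓSpecIso P).inv).mp h

lemma toSpec_appTop (T : Scheme.{u}) {P : CommRingCat.{u}} (ψ : P ⟶ Γ(T, ⊤)) :
    (Scheme.ΓSpecIso P).inv ≫ (T.toSpecΓ ≫ Spec.map ψ).appTop = ψ := by
  rw [Scheme.Hom.comp_appTop, Scheme.toSpecΓ_appTop, ← Category.assoc,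
    ← Scheme.ΓSpecIso_inv_naturality, Category.assoc, Iso.inv_hom_id, Category.comp_id]

/-- **Étale charts**: a smooth morphism `h : W ⟶ X` is, near any point `w`, étale over an affine
space over an affine open of `X`: there are affine opens `U ⊆ X`, `w ∈ V ⊆ h⁻¹ U` and an étale
ring map `Γ(X,U)[X₁,…,X_d] → Γ(W,V)` extending `Γ(X,U) → Γ(W,V)`. -/
theorem exists_etale_chart_scheme {W X : Scheme.{u}} (h : W ⟶ X) [Smooth h] (w : W) :
    ∃ (U : X.Opens) (_ : IsAffineOpen U) (V : W.Opens) (_ : IsAffineOpen V) (e : V ≤ h ⁻¹ᵁ U)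
      (d : ℕ) (φ : MvPolynomial (Fin d) Γ(X, U) →+* Γ(W, V)),
      w ∈ V ∧ φ.Etale ∧ φ.comp MvPolynomial.C = (h.appLE U V e).hom := by
  obtain ⟨U, hU, hwU, -⟩ := Opens.isBasis_iff_nbhd.mp X.isBasis_affineOpens
    (show h w ∈ (⊤ : X.Opens) from trivial)
  obtain ⟨V₀, hV₀, hwV₀, hV₀U⟩ := Opens.isBasis_iff_nbhd.mp W.isBasis_affineOpens
    (show w ∈ h ⁻¹ᵁ U from hwU)
  letI alg : Algebra Γ(X, U) Γ(W, V₀) := (h.appLE U V₀ hV₀U).hom.toAlgebra
  haveI : Algebra.Smooth Γ(X, U) Γ(W, V₀) := h.smooth_appLE hU hV₀ hV₀U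
  haveI := (hV₀.primeIdealOf ⟨w, hwV₀⟩).isPrime
  obtain ⟨d, x, g, hg, hét⟩ := exists_etale_chart Γ(X, U) Γ(W, V₀)
    (hV₀.primeIdealOf ⟨w, hwV₀⟩).asIdeal
  haveI := hV₀.isLocalization_basicOpen g
  have hle : W.basicOpen g ≤ h ⁻¹ᵁ U := (W.basicOpen_le g).trans hV₀U
  refine ⟨U, hU, W.basicOpen g, hV₀.basicOpen g, hle, d,
    (algebraMap Γ(W, V₀) Γ(W, W.basicOpen g)).comp
      (MvPolynomial.aeval x : MvPolynomial (Fin d) Γ(X, U) →ₐ[Γ(X, U)] Γ(W, V₀)).toRingHom,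
    ?_, hét _, ?_⟩
  · have h1 : hV₀.fromSpec (hV₀.primeIdealOf ⟨w, hwV₀⟩) = w := hV₀.fromSpec_primeIdealOf ⟨w, hwV₀⟩
    have h2 : hV₀.primeIdealOf ⟨w, hwV₀⟩ ∈ hV₀.fromSpec ⁻¹ᵁ W.basicOpen g := by
      rw [hV₀.fromSpec_preimage_basicOpen]
      exact hg
    rw [← h1]
    exact h2
  · ext r
    simp only [RingHom.comp_apply, AlgHom.toRingHom_eq_coe, RingHom.coe_coe, MvPolynomial.aeval_C]
    have h3 : h.appLE U V₀ hV₀U ≫ W.presheaf.map (homOfLE (W.basicOpen_le g)).op =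
        h.appLE U (W.basicOpen g) hle := Scheme.Hom.appLE_map _ _ _
    rw [← h3]
    rfl

theorem main_aux {S X X₀ Y : Scheme.{u}} (p : X ⟶ S) (q : Y ⟶ S) [Smooth q]
    (pr : X₀ ⟶ X) [IsClosedImmersion pr] (f₀ : X₀ ⟶ Y) (hf₀ : f₀ ≫ q = pr ≫ p) (x₀ : X₀) :
    ∃ (U : Scheme.{u}) (e : U ⟶ X) (f : U ⟶ Y), Etale e ∧ f ≫ q = e ≫ p ∧
      IsOpenImmersion (pullback.snd e pr) ∧ x₀ ∈ Set.range (pullback.snd e pr).base ∧
      pullback.snd e pr ≫ f₀ = pullback.fst e pr ≫ f := by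
  -- the graph section `σ₀ : X₀ ⟶ W = X ×_S Y`
  have hσh : pullback.lift pr f₀ hf₀.symm ≫ pullback.fst p q = pr := pullback.lift_fst _ _ _
  have hσs : pullback.lift pr f₀ hf₀.symm ≫ pullback.snd p q = f₀ := pullback.lift_snd _ _ _
  generalize pullback.lift pr f₀ hf₀.symm = σ₀ at hσh hσs
  obtain ⟨U, hU, V, hV, e, d, φ, hwV, hφ, hφC⟩ :=
    exists_etale_chart_scheme (pullback.fst p q) (σ₀ x₀)
  -- the chart
  haveI : Etale (Spec.map (CommRingCat.ofHom φ)) :=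
    (HasRingHomProperty.Spec_iff (P := @Etale)).mpr hφ
  have hcπ : (hV.isoSpec.hom ≫ Spec.map (CommRingCat.ofHom φ)) ≫
      Spec.map (CommRingCat.ofHom (MvPolynomial.C : Γ(X, U) →+* _)) ≫ hU.fromSpec =
      V.ι ≫ pullback.fst p q := by
    rw [Category.assoc, ← Spec.map_comp_assoc, ← CommRingCat.ofHom_comp, hφC,
      CommRingCat.ofHom_hom, IsAffineOpen.SpecMap_appLE_fromSpec _ hU hV e,
      ← Category.assoc, hV.isoSpec_hom_fromSpec]
  generalize hcdef : hV.isoSpec.hom ≫ Spec.map (CommRingCat.ofHom φ) = c at hcπ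
  haveI : Etale c := by rw [← hcdef]; infer_instance
  -- shrinking on `X`
  have hx₀V : x₀ ∈ σ₀ ⁻¹ᵁ V := hwV
  have hprx₀ : pr x₀ ∈ U := by
    have h1 : (pullback.fst p q) (σ₀ x₀) ∈ U := e hwV
    rwa [← Scheme.Hom.comp_apply, hσh] at h1
  obtain ⟨N, hN⟩ : ∃ N : X.Opens, pr ⁻¹ᵁ N = σ₀ ⁻¹ᵁ V := by
    obtain ⟨N, hNo, hNeq⟩ := pr.isClosedEmbedding.isInducing.isOpen_iff.mp (σ₀ ⁻¹ᵁ V).isOpen
    exact ⟨⟨N, hNo⟩, Opens.ext hNeq⟩
  have hx₀N : pr x₀ ∈ N := by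
    have : x₀ ∈ pr ⁻¹ᵁ N := hN ▸ hx₀V
    exact this
  obtain ⟨a, haN, hax₀⟩ := hU.exists_basicOpen_le (V := N) ⟨pr x₀, hx₀N⟩ hprx₀
  have hU' : IsAffineOpen (X.basicOpen a) := hU.basicOpen a
  have hU'U : X.basicOpen a ≤ U := X.basicOpen_le a
  have hO : pr ⁻¹ᵁ (X.basicOpen a) ≤ σ₀ ⁻¹ᵁ V := by
    rw [← hN]
    exact fun z hz => haN hz
  generalize X.basicOpen a = U' at *
  -- the restriction of the section
  have hσ'range : Set.range ((pr ⁻¹ᵁ U').ι ≫ σ₀).base ⊆ Set.range V.ι.base := by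
    rintro _ ⟨z, rfl⟩
    rw [Scheme.Opens.range_ι]
    exact hO z.2
  have hσ' : IsOpenImmersion.lift V.ι ((pr ⁻¹ᵁ U').ι ≫ σ₀) hσ'range ≫ V.ι =
      (pr ⁻¹ᵁ U').ι ≫ σ₀ := IsOpenImmersion.lift_fac _ _ _
  generalize IsOpenImmersion.lift V.ι ((pr ⁻¹ᵁ U').ι ≫ σ₀) hσ'range = σ' at hσ'
  have hjrange : Set.range U'.ι.base ⊆ Set.range hU.fromSpec.base := by
    rw [hU.range_fromSpec, Scheme.Opens.range_ι]
    exact hU'U
  have hjU : IsOpenImmersion.lift hU.fromSpec U'.ι hjrange ≫ hU.fromSpec = U'.ι :=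
    IsOpenImmersion.lift_fac _ _ _
  generalize IsOpenImmersion.lift hU.fromSpec U'.ι hjrange = jU at hjU
  have hκ : (σ' ≫ c) ≫ Spec.map (CommRingCat.ofHom (MvPolynomial.C : Γ(X, U) →+* _)) =
      (pr ∣_ U') ≫ jU := by
    rw [← cancel_mono hU.fromSpec]
    simp only [Category.assoc]
    rw [hjU, morphismRestrict_ι, hcπ, ← Category.assoc, hσ', Category.assoc, hσh]
  -- ring maps
  have hstar : CommRingCat.ofHom (MvPolynomial.C : Γ(X, U) →+* _) ≫
      ((Scheme.ΓSpecIso _).inv ≫ (σ' ≫ c).appTop) =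
      ((Scheme.ΓSpecIso Γ(X, U)).inv ≫ jU.appTop) ≫ (pr ∣_ U').appTop := by
    have h1 := congrArg (fun t => (Scheme.ΓSpecIso Γ(X, U)).inv ≫ t.appTop) hκ
    simp only [Scheme.Hom.comp_appTop] at h1
    rw [← Category.assoc, ← Scheme.ΓSpecIso_inv_naturality, Category.assoc] at h1
    rw [Category.assoc, Scheme.Hom.comp_appTop]
    simpa only [Category.assoc] using h1
  generalize hκs : (Scheme.ΓSpecIso (CommRingCat.of (MvPolynomial (Fin d) Γ(X, U)))).inv ≫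
    (σ' ≫ c).appTop = κs at hstar
  generalize hjs : (Scheme.ΓSpecIso Γ(X, U)).inv ≫ jU.appTop = js at hstar
  haveI : IsAffine (U' : Scheme.{u}) := hU'
  have hsurj : Function.Surjective (pr ∣_ U').appTop :=
    (IsClosedImmersion.isAffine_surjective_of_isAffine (pr ∣_ U')).2
  choose t ht using fun i : Fin d => hsurj (κs (MvPolynomial.X i))
  obtain ⟨ψ, hψC, hψX⟩ : ∃ ψ : CommRingCat.of (MvPolynomial (Fin d) Γ(X, U)) ⟶ Γ(↑U', ⊤),
      (∀ r, ψ.hom (MvPolynomial.C r) = js.hom r) ∧ ∀ i, ψ.hom (MvPolynomial.X i) = t i :=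
    ⟨CommRingCat.ofHom (MvPolynomial.eval₂Hom js.hom t),
      fun r => by
        show (MvPolynomial.eval₂Hom js.hom t) (MvPolynomial.C r) = js.hom r
        exact MvPolynomial.eval₂Hom_C _ _ _,
      fun i => by
        show (MvPolynomial.eval₂Hom js.hom t) (MvPolynomial.X i) = t i
        exact MvPolynomial.eval₂Hom_X' _ _ _⟩
  have hψ : ψ ≫ (pr ∣_ U').appTop = κs := by
    apply CommRingCat.hom_ext
    apply MvPolynomial.ringHom_ext
    · intro r
      have h1 := congrArg (fun g => g.hom r) hstar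
      simp only [CommRingCat.hom_comp, RingHom.comp_apply, CommRingCat.hom_ofHom] at h1 ⊢
      rw [hψC]
      exact h1.symm
    · intro i
      simp only [CommRingCat.hom_comp, RingHom.comp_apply]
      rw [hψX]
      exact ht i
  have hψC' : CommRingCat.ofHom (MvPolynomial.C : Γ(X, U) →+* _) ≫ ψ = js := by
    apply CommRingCat.hom_ext
    ext r
    simp only [CommRingCat.hom_comp, RingHom.comp_apply, CommRingCat.hom_ofHom]
    exact hψC r
  have hτκ : (pr ∣_ U') ≫ ((U' : Scheme.{u}).toSpecΓ ≫ Spec.map ψ) = σ' ≫ c := by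
    apply hom_ext_toSpec
    rw [Scheme.Hom.comp_appTop, ← Category.assoc, toSpec_appTop, hψ, hκs]
  have hτC : ((U' : Scheme.{u}).toSpecΓ ≫ Spec.map ψ) ≫
      Spec.map (CommRingCat.ofHom (MvPolynomial.C : Γ(X, U) →+* _)) = jU := by
    apply hom_ext_toSpec
    rw [Scheme.Hom.comp_appTop, ← Category.assoc, ← Scheme.ΓSpecIso_inv_naturality,
      Category.assoc, toSpec_appTop, hψC']
    exact hjs.symm
  generalize (U' : Scheme.{u}).toSpecΓ ≫ Spec.map ψ = τ at hτκ hτC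
  have hτπ : τ ≫ Spec.map (CommRingCat.ofHom (MvPolynomial.C : Γ(X, U) →+* _)) ≫ hU.fromSpec =
      U'.ι := by
    rw [← Category.assoc, hτC, hjU]
  -- apply the shrinking lemma
  refine exists_shrink p q pr f₀ x₀ (pr ⁻¹ᵁ U') hax₀ (pullback.fst τ c ≫ U'.ι)
    (pullback.snd τ c ≫ V.ι ≫ pullback.snd p q) ?_ (pullback.lift (pr ∣_ U') σ' hτκ) ?_ ?_
  · have hc1 : pullback.snd p q ≫ q = pullback.fst p q ≫ p := pullback.condition.symm
    have h2 : pullback.snd τ c ≫ c = pullback.fst τ c ≫ τ := pullback.condition.symm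
    calc (pullback.snd τ c ≫ V.ι ≫ pullback.snd p q) ≫ q
        = pullback.snd τ c ≫ (V.ι ≫ pullback.fst p q) ≫ p := by
          simp only [Category.assoc, hc1]
      _ = (pullback.snd τ c ≫ c) ≫ (Spec.map (CommRingCat.ofHom
            (MvPolynomial.C : Γ(X, U) →+* _)) ≫ hU.fromSpec) ≫ p := by
          rw [← hcπ]; simp only [Category.assoc]
      _ = pullback.fst τ c ≫ (τ ≫ Spec.map (CommRingCat.ofHom
            (MvPolynomial.C : Γ(X, U) →+* _)) ≫ hU.fromSpec) ≫ p := by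
          rw [h2]; simp only [Category.assoc]
      _ = (pullback.fst τ c ≫ U'.ι) ≫ p := by
          rw [hτπ, Category.assoc]
  · rw [← Category.assoc, pullback.lift_fst, morphismRestrict_ι]
  · rw [← Category.assoc, pullback.lift_snd, ← Category.assoc, hσ', Category.assoc, hσs]

theorem main {S S₀ X Y : Scheme.{u}} (i : S₀ ⟶ S) [IsClosedImmersion i]
    (p : X ⟶ S) (q : Y ⟶ S) [Smooth q] (f₀ : pullback p i ⟶ Y)
    (hf₀ : f₀ ≫ q = pullback.fst p i ≫ p) (x₀ : ↥(pullback p i)) :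
    ∃ (U : Scheme.{u}) (e : U ⟶ X) (f : U ⟶ Y), Etale e ∧ f ≫ q = e ≫ p ∧
      IsOpenImmersion (pullback.snd e (pullback.fst p i)) ∧
      x₀ ∈ Set.range (pullback.snd e (pullback.fst p i)).base ∧
      pullback.snd e (pullback.fst p i) ≫ f₀ = pullback.fst e (pullback.fst p i) ≫ f :=
  main_aux p q (pullback.fst p i) f₀ hf₀ x₀

end Groth.Agent.H1.SmChart
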