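import Mathlib
import Groth.Agent.Lib.Helper1.PtFibCons
import Groth.Agent.Lib.Helper1.CritFib4
import Groth.Agent.Lib.Helper5.DF.DF11b

/-!
# The pointwise smooth locus of the fibres is locally constructible — helper1
-/

set_option autoImplicit false
set_option linter.style.haveILetI false
universe u

namespace Groth.Agent.H1.SmFibCons

open AlgebraicGeometry CategoryTheory CategoryTheory.Limits Topology
open Groth.Agent.H1.PtFibCons Groth.Agent.H1.CritFib

/-- the set of points at which the fibre through the point is smooth over the residue field. -/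
def smFib {X S : Scheme.{u}} (f : X ⟶ S) : Set X :=
  {x | ((f.fiberToSpecResidueField (f x)).stalkMap (f.asFiber x)).hom.FormallySmooth}

theorem mem_smFib_iff {X S : Scheme.{u}} (f : X ⟶ S) (x : X) (y : S) (hy : f x = y)
    (z : f.fiber y) (hz : f.fiberι y z = x) :
    x ∈ smFib f ↔ ((f.fiberToSpecResidueField y).stalkMap z).hom.FormallySmooth := by
  subst hy
  have hz' : z = f.asFiber x := by
    apply (f.fiberι (f x)).isEmbedding.injective
    rw [hz, Scheme.Hom.fiberι_asFiber]
  subst hz'
  rfl

theorem formallySmooth_stalkMap_congr {P Q : Scheme.{u}} {φ ψ : P ⟶ Q} (e : φ = ψ) (p : P) :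
    (φ.stalkMap p).hom.FormallySmooth ↔ (ψ.stalkMap p).hom.FormallySmooth := by
  subst e
  rfl

set_option backward.isDefEq.respectTransparency false in
theorem smFib_of_isPullback {X S X' S' : Scheme.{u}} (f : X ⟶ S)
    [LocallyOfFinitePresentation f] (f' : X' ⟶ S') (g' : X' ⟶ X) (g : S' ⟶ S)
    (hc : IsPullback g' f' f g) : smFib f' = g' ⁻¹' smFib f := by
  haveI : LocallyOfFinitePresentation f' :=
    MorphismProperty.of_isPullback (P := @LocallyOfFinitePresentation) hc inferInstance
  ext x'
  have hφ := isPullback_fiberToSpecResidueField_of_isPullback hc (f' x')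
  set φ : f'.fiber (f' x') ⟶ f.fiber (g (f' x')) :=
    pullback.map f' (S'.fromSpecResidueField (f' x')) f (S.fromSpecResidueField (g (f' x')))
      g' (Spec.map (g.residueFieldMap (f' x'))) g hc.w.symm (by simp) with hφdef
  haveI : LocallyOfFinitePresentation (f.fiberToSpecResidueField (g (f' x'))) :=
    H5.DF.lfp_fiberToSpecResidueField f _
  haveI : LocallyOfFinitePresentation (f'.fiberToSpecResidueField (f' x')) :=
    H5.DF.lfp_fiberToSpecResidueField f' _
  have hsl := H5.DF.main2155 (f.fiberToSpecResidueField (g (f' x')))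
    (Spec.map (g.residueFieldMap (f' x'))) (f'.fiberToSpecResidueField (f' x')) φ hφ
    (Or.inr inferInstance)
  have hφι : φ ≫ f.fiberι (g (f' x')) = f'.fiberι (f' x') ≫ g' := by
    simp only [hφdef, Scheme.Hom.fiberι]
    exact pullback.lift_fst _ _ _
  have hι : f.fiberι (g (f' x')) (φ (f'.asFiber x')) = g' x' := by
    rw [← Scheme.Hom.comp_apply, hφι, Scheme.Hom.comp_apply, f'.fiberι_asFiber]
  have hy : f (g' x') = g (f' x') := by
    rw [← Scheme.Hom.comp_apply, hc.w, Scheme.Hom.comp_apply]
  rw [Set.mem_preimage, mem_smFib_iff f (g' x') (g (f' x')) hy (φ (f'.asFiber x')) hι]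
  have h1 : f'.asFiber x' ∈ (f'.fiberToSpecResidueField (f' x')).smoothLocus ↔
      φ (f'.asFiber x') ∈ (f.fiberToSpecResidueField (g (f' x'))).smoothLocus := by
    rw [hsl]; rfl
  exact h1

set_option backward.isDefEq.respectTransparency false in
theorem smFib_comp_of_isOpenImmersion {U X S : Scheme.{u}} (j : U ⟶ X) [IsOpenImmersion j]
    (f : X ⟶ S) [LocallyOfFinitePresentation f] : smFib (j ≫ f) = j ⁻¹' smFib f := by
  ext x
  have hpb := isPullback_fiberMap j f (f (j x))
  haveI : IsOpenImmersion (MoreMor.fiberMap j f (f (j x))) :=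
    MorphismProperty.of_isPullback hpb inferInstance
  have hz : (MoreMor.fiberMap j f (f (j x))) ((j ≫ f).asFiber x) = f.asFiber (j x) :=
    fiberMap_asFiber j f x
  have hcomp : MoreMor.fiberMap j f (f (j x)) ≫ f.fiberToSpecResidueField (f (j x)) =
      (j ≫ f).fiberToSpecResidueField (f (j x)) := fiberMap_fiberToSpecResidueField j f (f (j x))
  haveI : LocallyOfFinitePresentation (f.fiberToSpecResidueField (f (j x))) :=
    H5.DF.lfp_fiberToSpecResidueField f _
  have h1 := Scheme.Hom.preimage_smoothLocus_eq (MoreMor.fiberMap j f (f (j x)))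
    (f.fiberToSpecResidueField (f (j x)))
  have h2 : (j ≫ f).asFiber x ∈ (MoreMor.fiberMap j f (f (j x)) ≫
      f.fiberToSpecResidueField (f (j x))).smoothLocus ↔
      (MoreMor.fiberMap j f (f (j x))) ((j ≫ f).asFiber x) ∈
        (f.fiberToSpecResidueField (f (j x))).smoothLocus := by
    rw [← h1]; rfl
  rw [hz] at h2
  have h3 : x ∈ smFib (j ≫ f) ↔ (j ≫ f).asFiber x ∈ (MoreMor.fiberMap j f (f (j x)) ≫
      f.fiberToSpecResidueField (f (j x))).smoothLocus :=
    formallySmooth_stalkMap_congr hcomp.symm _
  exact h3.trans h2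

theorem isOpen_smFib_of_flat {X S : Scheme.{u}} (f : X ⟶ S) [Flat f]
    [LocallyOfFinitePresentation f] : IsOpen (smFib f) := by
  have : smFib f = (f.smoothLocus : Set X) := by
    ext x
    have h := H5.DF.mem_smoothLocus_iff_fiber f x (f x) rfl (f.asFiber x) (f.fiberι_asFiber x)
    exact ⟨fun hx => h.mpr ⟨Flat.stalkMap f x, hx⟩, fun hx => (h.mp hx).2⟩
  rw [this]
  exact f.smoothLocus.isOpen

theorem ptFibProp_smFib : PtFibProp.{u} @smFib where
  of_isPullback := fun f _ f' g' g hc => smFib_of_isPullback f f' g' g hc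
  comp_openImm := fun j _ f _ => smFib_comp_of_isOpenImmersion j f
  isOpen_of_flat := fun f _ _ => isOpen_smFib_of_flat f

theorem isLocallyConstructible_smFib {X S : Scheme.{u}} (f : X ⟶ S)
    [LocallyOfFinitePresentation f] : IsLocallyConstructible (smFib f) :=
  isLocallyConstructible ptFibProp_smFib f

end Groth.Agent.H1.SmFibCons
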