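import Mathlib
import Groth.Agent.Lib.Helper8.Hens.Pointed

set_option autoImplicit false
universe u

namespace Groth.Agent.H1.SmHens

open IsLocalRing AlgebraicGeometry CategoryTheory Limits

/-- A finite type algebra over a local ring with algebraically closed residue field, having a
proper ideal containing the extension of the maximal ideal, has a point in the residue field. -/
theorem exists_residue_point (R : Type u) [CommRing R] [IsLocalRing R]
    [IsAlgClosed (ResidueField R)]
    (C : Type u) [CommRing C] [Algebra R C] [Algebra.FiniteType R C]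
    (Q : Ideal C) (hQ : Q ≠ ⊤) (hm : (maximalIdeal R).map (algebraMap R C) ≤ Q) :
    Nonempty (C →ₐ[R] ResidueField R) := by
  obtain ⟨M, hM, hQM⟩ := Ideal.exists_le_maximal Q hQ
  let L := C ⧸ M
  letI : Field L := Ideal.Quotient.field M
  have hkill : ∀ r ∈ maximalIdeal R, algebraMap R L r = 0 := by
    intro r hr
    have h1 : algebraMap R C r ∈ M := hQM (hm (Ideal.mem_map_of_mem _ hr))
    have h2 : algebraMap R L r = Ideal.Quotient.mk M (algebraMap R C r) := rfl
    rw [h2]
    exact Ideal.Quotient.eq_zero_iff_mem.mpr h1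
  let lf : ResidueField R →+* L := Ideal.Quotient.lift (maximalIdeal R) (algebraMap R L) hkill
  letI : Algebra (ResidueField R) L := lf.toAlgebra
  haveI : IsScalarTower R (ResidueField R) L := IsScalarTower.of_algebraMap_eq (fun r => by
    show algebraMap R L r = lf (Ideal.Quotient.mk (maximalIdeal R) r)
    exact (Ideal.Quotient.lift_mk _ _ _).symm)
  haveI : Algebra.FiniteType R L :=
    Algebra.FiniteType.of_surjective (Ideal.Quotient.mkₐ R M) (Ideal.Quotient.mkₐ_surjective R M)
  haveI : Algebra.FiniteType (ResidueField R) L :=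
    Algebra.FiniteType.of_restrictScalars_finiteType R (ResidueField R) L
  haveI : Module.Finite (ResidueField R) L := finite_of_finite_type_of_isJacobsonRing _ _
  have hbij : Function.Bijective (algebraMap (ResidueField R) L) :=
    IsAlgClosed.algebraMap_bijective_of_isIntegral
  let e : ResidueField R ≃+* L := RingEquiv.ofBijective (algebraMap (ResidueField R) L) hbij
  refine ⟨{ toRingHom := e.symm.toRingHom.comp (Ideal.Quotient.mk M), commutes' := ?_ }⟩
  intro r
  show e.symm (Ideal.Quotient.mk M (algebraMap R C r)) = algebraMap R (ResidueField R) r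
  rw [RingEquiv.symm_apply_eq]
  show algebraMap R L r = algebraMap (ResidueField R) L (algebraMap R (ResidueField R) r)
  exact IsScalarTower.algebraMap_apply R (ResidueField R) L r

/-- Core lemma: a smooth algebra over a henselian local ring with algebraically closed residue
field has a section through (a point near) any point of the special fibre. -/
theorem exists_algHom_of_smooth (R : Type u) [CommRing R] [HenselianLocalRing R]
    [IsAlgClosed (ResidueField R)]
    (B : Type u) [CommRing B] [Algebra R B] (hsm : (algebraMap R B).Smooth)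
    (q : Ideal B) [q.IsPrime] (hq : (maximalIdeal R).map (algebraMap R B) ≤ q)
    (g : B) (hg : g ∉ q) :
    ∃ τ : B →ₐ[R] R, τ g ∉ maximalIdeal R := by
  obtain ⟨s, hs, H⟩ := RingHom.smooth_iff_locally_isStandardSmooth.mp hsm
  obtain ⟨t, hts, htq⟩ : ∃ t ∈ s, t ∉ q := by
    by_contra hcon
    push Not at hcon
    have h1 : Ideal.span s ≤ q := Ideal.span_le.mpr hcon
    rw [hs] at h1
    exact (Ideal.IsPrime.ne_top ‹_›) (top_le_iff.mp h1)
  let Bt := Localization.Away t
  let g' : Bt := algebraMap B Bt g
  let B2 := Localization.Away g'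
  let ι : B →+* B2 := (algebraMap Bt B2).comp (algebraMap B Bt)
  have hι : algebraMap R B2 = ι.comp (algebraMap R B) := by
    rw [IsScalarTower.algebraMap_eq R Bt B2, IsScalarTower.algebraMap_eq R B Bt]
    rfl
  have hstd : (algebraMap R B2).IsStandardSmooth := by
    rw [IsScalarTower.algebraMap_eq R Bt B2, IsScalarTower.algebraMap_eq R B Bt]
    exact RingHom.IsStandardSmooth.comp
      ((RingHom.IsStandardSmoothOfRelativeDimension.algebraMap_isLocalizationAway g').isStandardSmooth)
      (H t hts)
  -- the map to the residue field of q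
  let κ := q.ResidueField
  have hu1 : IsUnit (algebraMap B κ t) := by
    rw [isUnit_iff_ne_zero, Ne, Ideal.algebraMap_residueField_eq_zero]
    exact htq
  let ρ1 : Bt →+* κ := IsLocalization.Away.lift t hu1
  have hρ1 : ∀ b : B, ρ1 (algebraMap B Bt b) = algebraMap B κ b := fun b =>
    IsLocalization.Away.lift_eq t hu1 b
  have hu2 : IsUnit (ρ1 g') := by
    rw [hρ1, isUnit_iff_ne_zero, Ne, Ideal.algebraMap_residueField_eq_zero]
    exact hg
  let ρ : B2 →+* κ := IsLocalization.Away.lift g' hu2
  have hρ : ∀ b : B, ρ (ι b) = algebraMap B κ b := fun b => by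
    show ρ (algebraMap Bt B2 (algebraMap B Bt b)) = _
    rw [IsLocalization.Away.lift_eq g' hu2, hρ1]
  have hQ : RingHom.ker ρ ≠ ⊤ := RingHom.ker_ne_top ρ
  have hmQ : (maximalIdeal R).map (algebraMap R B2) ≤ RingHom.ker ρ := by
    rw [Ideal.map_le_iff_le_comap]
    intro r hr
    rw [Ideal.mem_comap, RingHom.mem_ker, hι, RingHom.comp_apply, hρ,
      Ideal.algebraMap_residueField_eq_zero]
    exact hq (Ideal.mem_map_of_mem _ hr)
  haveI : Algebra.IsStandardSmooth R B2 := RingHom.isStandardSmooth_algebraMap.mp hstd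
  haveI : Algebra.FiniteType R B2 := inferInstance
  obtain ⟨σ⟩ := exists_residue_point R B2 (RingHom.ker ρ) hQ hmQ
  obtain ⟨n, ψ, hψC, hψ⟩ := hstd.exists_etale_mvPolynomial
  have hlift : ∀ i : Fin n, ∃ r : R, residue R r = σ (ψ (MvPolynomial.X i)) := fun i =>
    residue_surjective _
  choose r hr using hlift
  let ev : MvPolynomial (Fin n) R →ₐ[R] R := MvPolynomial.aeval r
  letI : Algebra (MvPolynomial (Fin n) R) R := ev.toRingHom.toAlgebra
  letI : Algebra (MvPolynomial (Fin n) R) B2 := ψ.toAlgebra
  haveI : Algebra.Etale (MvPolynomial (Fin n) R) B2 := hψ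
  have hcomp : (σ : B2 →+* ResidueField R).comp ψ = (residue R).comp ev.toRingHom := by
    apply MvPolynomial.ringHom_ext
    · intro a
      have h1 : ψ (MvPolynomial.C a) = algebraMap R B2 a := by
        rw [← hψC]; rfl
      simp only [RingHom.comp_apply, RingHom.coe_coe, AlgHom.toRingHom_eq_coe]
      rw [h1, σ.commutes]
      show algebraMap R (ResidueField R) a = residue R (MvPolynomial.aeval r (MvPolynomial.C a))
      rw [MvPolynomial.aeval_C]
      rfl
    · intro i
      simp only [RingHom.comp_apply, RingHom.coe_coe, AlgHom.toRingHom_eq_coe]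
      rw [← hr i]
      show residue R (r i) = residue R (MvPolynomial.aeval r (MvPolynomial.X i))
      rw [MvPolynomial.aeval_X]
  let σP : B2 →ₐ[MvPolynomial (Fin n) R] ResidueField R :=
    { toRingHom := (σ : B2 →+* ResidueField R)
      commutes' := fun f => by
        show (σ : B2 →+* ResidueField R) (ψ f) = residue R (ev f)
        exact congr($hcomp f) }
  obtain ⟨gg, hgg⟩ := Groth.Agent.H8.Hens.exists_algHom_of_henselian σP
    (AlgHom.id (MvPolynomial (Fin n) R) (ResidueField R))
  have hggC : ∀ a : R, gg (algebraMap R B2 a) = a := by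
    intro a
    have h1 : algebraMap R B2 a = algebraMap (MvPolynomial (Fin n) R) B2 (MvPolynomial.C a) := by
      show _ = ψ (MvPolynomial.C a)
      rw [← hψC]; rfl
    rw [h1, gg.commutes]
    show MvPolynomial.aeval r (MvPolynomial.C a) = a
    rw [MvPolynomial.aeval_C]
    rfl
  refine ⟨{ toRingHom := gg.toRingHom.comp ι, commutes' := ?_ }, ?_⟩
  · intro a
    show gg (ι (algebraMap R B a)) = algebraMap R R a
    have : ι (algebraMap R B a) = algebraMap R B2 a := by rw [hι]; rfl
    rw [this, hggC]
    rfl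
  · show gg (ι g) ∉ maximalIdeal R
    intro hmem
    have h0 : residue R (gg (ι g)) = 0 := (residue_eq_zero_iff _).mpr hmem
    rw [hgg] at h0
    have hunit : IsUnit (ι g) := IsLocalization.Away.algebraMap_isUnit g'
    have : IsUnit (σ (ι g)) := hunit.map σ
    exact this.ne_zero h0

theorem main (R : Type u) [CommRing R] [HenselianLocalRing R] [IsAlgClosed (ResidueField R)]
    {X : Scheme.{u}} (p : X ⟶ Spec (CommRingCat.of R)) [Smooth p]
    (x : X) (hx : p.base x = closedPoint R) :
    x ∈ closure {y : X | ∃ s : Spec (CommRingCat.of R) ⟶ X, s ≫ p = 𝟙 _ ∧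
      s.base (closedPoint R) = y} := by
  rw [mem_closure_iff]
  intro O hO hxO
  obtain ⟨_, ⟨V, hV : IsAffineOpen V, rfl⟩, hxV, -⟩ :=
    X.isBasis_affineOpens.exists_subset_of_mem_open (Set.mem_univ x) isOpen_univ
  let φ : CommRingCat.of R ⟶ Γ(X, V) := Spec.preimage (hV.fromSpec ≫ p)
  have hφ : Spec.map φ = hV.fromSpec ≫ p := Spec.map_preimage _
  have hsm : φ.hom.Smooth := by
    have : Smooth (Spec.map φ) := by rw [hφ]; infer_instance
    exact (HasRingHomProperty.Spec_iff (P := @Smooth)).mp this
  obtain ⟨x', hx'⟩ : ∃ x' : Spec Γ(X, V), hV.fromSpec.base x' = x := by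
    have : x ∈ Set.range hV.fromSpec.base := by rw [hV.range_fromSpec]; exact hxV
    exact this
  have hO' : IsOpen (hV.fromSpec.base ⁻¹' O) := hO.preimage hV.fromSpec.continuous
  have hx'O : x' ∈ hV.fromSpec.base ⁻¹' O := by
    show hV.fromSpec.base x' ∈ O
    rw [hx']; exact hxO
  obtain ⟨_, ⟨g, rfl⟩, hxg, hgO⟩ :=
    PrimeSpectrum.isTopologicalBasis_basic_opens.exists_subset_of_mem_open hx'O hO'
  letI : Algebra R Γ(X, V) := φ.hom.toAlgebra
  have hcomap : x'.asIdeal.comap φ.hom = maximalIdeal R := by
    have h1 : (Spec.map φ).base x' = closedPoint R := by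
      rw [hφ, Scheme.Hom.comp_base, TopCat.comp_app, hx', hx]
    exact congrArg PrimeSpectrum.asIdeal h1
  have hq : (maximalIdeal R).map (algebraMap R Γ(X, V)) ≤ x'.asIdeal := by
    rw [Ideal.map_le_iff_le_comap]
    exact le_of_eq hcomap.symm
  have hgq : g ∉ x'.asIdeal := hxg
  obtain ⟨τ, hτ⟩ := exists_algHom_of_smooth R Γ(X, V) hsm x'.asIdeal hq g hgq
  have hτφ : φ ≫ CommRingCat.ofHom τ.toRingHom = 𝟙 _ := by
    ext a
    exact τ.commutes a
  refine ⟨(Spec.map (CommRingCat.ofHom τ.toRingHom) ≫ hV.fromSpec).base (closedPoint R),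
    ?_, Spec.map (CommRingCat.ofHom τ.toRingHom) ≫ hV.fromSpec, ?_, rfl⟩
  · rw [Scheme.Hom.comp_base, TopCat.comp_app]
    apply hgO
    show g ∉ ((Spec.map (CommRingCat.ofHom τ.toRingHom)).base (closedPoint R)).asIdeal
    exact hτ
  · rw [Category.assoc, ← hφ, ← Spec.map_comp, hτφ, Spec.map_id]

end Groth.Agent.H1.SmHens
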