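import Mathlib
import Groth.Agent.Lib.Helper9.EtaleCoord

/-! helper1: adapted étale coordinates for a surjection of smooth algebras `B → C` over `A`
(ring-level input for S1479): near a prime `q ⊇ ker`, there are `x₁..x_m, z₁..z_n ∈ B` with
`A[X, Z] → B_g` étale and `ker · B_g = (z₁..z_n)`. -/

set_option autoImplicit false
open KaehlerDifferential TensorProduct MvPolynomial

namespace Groth.Agent.H1.SmPair

universe u

open Groth.Agent.H9.EtaleCoord

theorem bijective_mapBaseChange_of_basis' (k : Type u) (ι : Type u) (T : Type u)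
    [CommRing k] [CommRing T]
    [Algebra k T] [Algebra (MvPolynomial ι k) T] [IsScalarTower k (MvPolynomial ι k) T]
    (hb : Function.Bijective (Finsupp.linearCombination T
      (fun i : ι => D k T (algebraMap (MvPolynomial ι k) T (X i))))) :
    Function.Bijective (KaehlerDifferential.mapBaseChange k (MvPolynomial ι k) T) := by
  let b₁ := (KaehlerDifferential.mvPolynomialBasis k ι).baseChange T
  have hcomp : (KaehlerDifferential.mapBaseChange k (MvPolynomial ι k) T) =
      (Finsupp.linearCombination T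
        (fun i : ι => D k T (algebraMap (MvPolynomial ι k) T (X i)))) ∘ₗ
        b₁.repr.toLinearMap := by
    apply b₁.ext
    intro i
    rw [LinearMap.comp_apply, LinearEquiv.coe_coe, b₁.repr_self, Finsupp.linearCombination_single,
      one_smul]
    simp [b₁, KaehlerDifferential.mvPolynomialBasis_apply]
  rw [hcomp]
  exact hb.comp b₁.repr.bijective

theorem isEtaleAt_of_coords' (k R : Type u) [CommRing k] [CommRing R] [Algebra k R]
    (m : Ideal R) [m.IsPrime] [Algebra.IsSmoothAt k m] (ι : Type u)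
    [Algebra (MvPolynomial ι k) R] [IsScalarTower k (MvPolynomial ι k) R]
    [Module.Finite (Localization.AtPrime m) Ω[Localization.AtPrime m⁄k]]
    (hx : Function.Bijective (Finsupp.linearCombination m.ResidueField
      (fun i : ι => (1 : m.ResidueField) ⊗ₜ[Localization.AtPrime m]
        D k (Localization.AtPrime m) (algebraMap R (Localization.AtPrime m)
          (algebraMap (MvPolynomial ι k) R (X i)))))) :
    Algebra.IsEtaleAt (MvPolynomial ι k) m := by
  set T := Localization.AtPrime m
  have hT : Algebra.FormallySmooth k T := ‹Algebra.IsSmoothAt k m›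
  have hbij := Module.IsLocalRing.linearCombination_bijective_of_flat (R := T) (M := Ω[T⁄k])
    (fun i : ι => D k T (algebraMap R T (algebraMap (MvPolynomial ι k) R (X i)))) hx
  have hbij' : Function.Bijective (Finsupp.linearCombination T
      (fun i : ι => D k T (algebraMap (MvPolynomial ι k) T (X i)))) := by
    have hfun : (fun i : ι => D k T (algebraMap (MvPolynomial ι k) T (X i))) =
        fun i => D k T (algebraMap R T (algebraMap (MvPolynomial ι k) R (X i))) := by
      funext i
      rw [IsScalarTower.algebraMap_apply (MvPolynomial ι k) R T]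
    rw [hfun]
    exact hbij
  have := bijective_mapBaseChange_of_basis' k ι T hbij'
  exact formallyEtale_of_bijective_mapBaseChange k (MvPolynomial ι k) T this

/-- the retraction `Ω[B/A] → I/I²` of `d : I/I² → C ⊗ Ω[B/A]` for `C = B/I` smooth. -/
theorem exists_retraction (A B C : Type u) [CommRing A] [CommRing B] [CommRing C]
    [Algebra A B] [Algebra A C] [Algebra B C] [IsScalarTower A B C]
    [Algebra.FormallySmooth A B] [Algebra.FormallySmooth A C]
    (hsurj : Function.Surjective (algebraMap B C)) :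
    ∃ lam : Ω[B⁄A] →ₗ[B] (RingHom.ker (algebraMap B C)).Cotangent,
      ∀ b : RingHom.ker (algebraMap B C), lam (D A B b.1) = Ideal.toCotangent _ b := by
  obtain ⟨l, hl⟩ := (Algebra.FormallySmooth.iff_split_injection (R := A) (P := B) (A := C)
    hsurj).mp inferInstance
  refine ⟨l ∘ₗ (TensorProduct.mk B C Ω[B⁄A] 1), fun b => ?_⟩
  have h1 := LinearMap.congr_fun hl (Ideal.toCotangent _ b)
  rw [LinearMap.comp_apply, kerCotangentToTensor_toCotangent, LinearMap.id_apply] at h1
  rw [LinearMap.comp_apply, TensorProduct.mk_apply]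
  exact h1

theorem exists_cotangent_to_fiber (B : Type u) [CommRing B] (I q : Ideal B) [q.IsPrime]
    (hq : I ≤ q) :
    ∃ nu : I.Cotangent →ₗ[B] q.ResidueField ⊗[B] I,
      ∀ b : I, nu (Ideal.toCotangent I b) = (1 : q.ResidueField) ⊗ₜ[B] b := by
  refine ⟨Ideal.Cotangent.lift (TensorProduct.mk B q.ResidueField I 1) ?_, fun b => rfl⟩
  intro x y
  have hxy : (x * y : I) = x.1 • y := Subtype.ext (by simp [smul_eq_mul])
  rw [hxy, TensorProduct.mk_apply, ← TensorProduct.smul_tmul, Algebra.smul_def,
    (Ideal.algebraMap_residueField_eq_zero).mpr (hq x.2), zero_mul, TensorProduct.zero_tmul]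

theorem span_one_tmul_eq_top {B K M β : Type*} [CommRing B] [Field K] [Algebra B K]
    [AddCommGroup M] [Module B M] (d : β → M) (hd : Submodule.span B (Set.range d) = ⊤) :
    Submodule.span K (Set.range fun b => (1 : K) ⊗ₜ[B] d b) = ⊤ := by
  have h1 := Submodule.baseChange_span (R := B) (A := K) (M := M) (Set.range d)
  rw [hd, Submodule.baseChange_top, ← Set.range_comp] at h1
  rw [h1]
  rfl

theorem exists_basis_fiber (B : Type u) [CommRing B] (q : Ideal B) [q.IsPrime] (M : Type u)
    [AddCommGroup M] [Module B M] [Module.Finite B M] :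
    ∃ (n : ℕ) (z : Fin n → M) (bas : Module.Basis (Fin n) q.ResidueField (q.ResidueField ⊗[B] M)),
      ∀ j, bas j = (1 : q.ResidueField) ⊗ₜ[B] z j := by
  classical
  set K := q.ResidueField
  let g : M → K ⊗[B] M := fun b => (1 : K) ⊗ₜ[B] b
  have hspan : Submodule.span K (Set.range g) = ⊤ := by
    have := span_one_tmul_eq_top (B := B) (K := K) (M := M) (fun b : M => b)
      (by rw [Set.range_id']; exact Submodule.span_univ)
    exact this
  obtain ⟨b, hbt, hbspan, hbli⟩ := exists_linearIndependent K (Set.range g)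
  rw [hspan] at hbspan
  let Bb : Module.Basis b K (K ⊗[B] M) := Module.Basis.mk hbli
    (by rw [Subtype.range_coe_subtype, Set.ofPred_mem_eq, hbspan])
  have hfin : Finite b := Module.Finite.finite_basis Bb
  obtain ⟨n, hn⟩ : ∃ n : ℕ, Nat.card b = n := ⟨_, rfl⟩
  let e : b ≃ Fin n := Finite.equivFinOfCardEq hn
  have hx : ∀ i : Fin n, ∃ r : M, g r = (e.symm i : K ⊗[B] M) := fun i => hbt (e.symm i).2
  choose z hz using hx
  refine ⟨n, z, Bb.reindex e, fun j => ?_⟩
  rw [Module.Basis.reindex_apply]
  simp only [Bb, Module.Basis.mk_apply]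
  exact (hz j).symm

theorem exists_extend_basis {K V : Type*} [Field K] [AddCommGroup V] [Module K V]
    [Module.Finite K V] {β : Type*} (g : β → V) (hg : Submodule.span K (Set.range g) = ⊤)
    {n : ℕ} (w : Fin n → V) (hw : LinearIndependent K w) :
    ∃ (m : ℕ) (x : Fin m → β), LinearIndependent K (Sum.elim (g ∘ x) w) ∧
      Submodule.span K (Set.range (Sum.elim (g ∘ x) w)) = ⊤ := by
  classical
  obtain ⟨b, hbt, hsb, hspan, hbLI⟩ := exists_linearIndepOn_id_extension hw.linearIndepOn_id
    (Set.subset_union_left (s := Set.range w) (t := Set.range g))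
  have hbtop : Submodule.span K b = ⊤ := by
    rw [eq_top_iff, ← hg]
    exact Submodule.span_le.mpr (fun v hv => hspan (Or.inr hv))
  have hbLI' : LinearIndependent K ((↑) : b → V) := hbLI
  let Bb : Module.Basis b K V := Module.Basis.mk hbLI'
    (by rw [Subtype.range_coe_subtype, Set.ofPred_mem_eq, hbtop])
  have hfin : Finite b := Module.Finite.finite_basis Bb
  have hcfin : Finite ↥(b \ Set.range w) := Finite.Set.subset b Set.sdiff_subset
  have hc : ∀ v ∈ b \ Set.range w, ∃ r, g r = v := by
    rintro v ⟨hvb, hvw⟩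
    rcases hbt hvb with h | h
    · exact absurd h hvw
    · exact h
  obtain ⟨m, hm⟩ : ∃ m : ℕ, Nat.card ↥(b \ Set.range w) = m := ⟨_, rfl⟩
  let ε : Fin m ≃ ↥(b \ Set.range w) := (Finite.equivFinOfCardEq hm).symm
  choose x hx using fun i : Fin m => hc (ε i) (ε i).2
  have hgx : g ∘ x = (Subtype.val : ↥(b \ Set.range w) → V) ∘ ε := funext hx
  have hrange_gx : Set.range (g ∘ x) = b \ Set.range w := by
    rw [hgx, Set.range_comp, ε.range_eq_univ, Set.image_univ, Subtype.range_coe]
  have hrange : Set.range (Sum.elim (g ∘ x) w) = b := by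
    rw [Set.Sum.elim_range, hrange_gx, Set.sdiff_union_of_subset hsb]
  have hinj : Function.Injective (Sum.elim (g ∘ x) w) := by
    refine Function.Injective.sumElim ?_ hw.injective ?_
    · rw [hgx]
      exact Subtype.val_injective.comp ε.injective
    · intro a c h
      have h1 : (g ∘ x) a ∈ b \ Set.range w := hrange_gx ▸ Set.mem_range_self a
      exact h1.2 ⟨c, h.symm⟩
  refine ⟨m, x, ?_, ?_⟩
  · rw [← linearIndepOn_id_range_iff hinj, hrange]
    exact hbLI
  · rw [hrange, hbtop]

theorem exists_nakayama (B : Type u) [CommRing B] (I q : Ideal B) [q.IsPrime] (hI : I.FG)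
    {n : ℕ} (z : Fin n → I)
    (hz : Submodule.span q.ResidueField
      (Set.range fun j => (1 : q.ResidueField) ⊗ₜ[B] z j) = ⊤) :
    ∃ g : B, g ∉ q ∧ ∀ b ∈ I, g * b ∈ Ideal.span (Set.range fun j => (z j).1) := by
  haveI : Module.Finite B I := Module.Finite.of_fg hI
  set K := q.ResidueField
  let Z : Submodule B I := Submodule.span B (Set.range z)
  have hsub : Subsingleton (K ⊗[B] (I ⧸ Z)) := by
    let f : K ⊗[B] I →ₗ[K] K ⊗[B] (I ⧸ Z) := LinearMap.baseChange K Z.mkQ
    have hf0 : f = 0 := by
      apply LinearMap.ext_on hz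
      rintro _ ⟨j, rfl⟩
      have h0 : Z.mkQ (z j) = 0 := by
        rw [Submodule.mkQ_apply, Submodule.Quotient.mk_eq_zero]
        exact Submodule.subset_span ⟨j, rfl⟩
      simp only [f, LinearMap.baseChange_tmul, h0, TensorProduct.tmul_zero, LinearMap.zero_apply]
    have hfs : Function.Surjective f := by
      have : (f : K ⊗[B] I → K ⊗[B] (I ⧸ Z)) = LinearMap.lTensor K Z.mkQ := by
        funext t
        simp only [f, LinearMap.baseChange_eq_ltensor]
      rw [this]
      exact LinearMap.lTensor_surjective _ (Submodule.mkQ_surjective Z)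
    refine ⟨fun a b => ?_⟩
    obtain ⟨a', rfl⟩ := hfs a
    obtain ⟨b', rfl⟩ := hfs b
    rw [hf0, LinearMap.zero_apply, LinearMap.zero_apply]
  have hsupp : (⟨q, inferInstance⟩ : PrimeSpectrum B) ∉ Module.support B (I ⧸ Z) := by
    rw [Module.mem_support_iff_nontrivial_residueField_tensorProduct, not_nontrivial_iff_subsingleton]
    exact hsub
  rw [Module.mem_support_iff_of_finite, SetLike.not_le_iff_exists] at hsupp
  obtain ⟨g, hgann, hgq⟩ := hsupp
  refine ⟨g, hgq, fun b hb => ?_⟩
  have h1 : g • Z.mkQ ⟨b, hb⟩ = 0 := Module.mem_annihilator.mp hgann _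
  rw [← map_smul, Submodule.mkQ_apply, Submodule.Quotient.mk_eq_zero] at h1
  have h2 := Submodule.mem_map_of_mem (f := Submodule.subtype I) h1
  rw [Submodule.map_span, ← Set.range_comp] at h2
  exact h2

theorem exists_fiberOmegaEquiv (A B : Type u) [CommRing A] [CommRing B] [Algebra A B]
    (q : Ideal B) [q.IsPrime] :
    ∃ Φ : (q.ResidueField ⊗[B] Ω[B⁄A]) ≃ₗ[q.ResidueField]
        (q.ResidueField ⊗[Localization.AtPrime q] Ω[Localization.AtPrime q⁄A]),
      ∀ b : B, Φ ((1 : q.ResidueField) ⊗ₜ[B] D A B b) =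
        (1 : q.ResidueField) ⊗ₜ[Localization.AtPrime q]
          D A (Localization.AtPrime q) (algebraMap B (Localization.AtPrime q) b) := by
  haveI : Algebra.FormallyEtale B (Localization.AtPrime q) :=
    Algebra.FormallyEtale.of_isLocalization (Rₘ := Localization.AtPrime q) q.primeCompl
  refine ⟨(AlgebraTensorModule.cancelBaseChange B (Localization.AtPrime q) q.ResidueField
    q.ResidueField Ω[B⁄A]).symm.trans
    (LinearEquiv.baseChange (Localization.AtPrime q) q.ResidueField _ _
      (tensorKaehlerEquivOfFormallyEtale A B (Localization.AtPrime q))), fun b => ?_⟩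
  simp only [LinearEquiv.trans_apply, AlgebraTensorModule.cancelBaseChange_symm_tmul,
    LinearEquiv.baseChange_tmul, tensorKaehlerEquivOfFormallyEtale_apply, mapBaseChange_tmul,
    one_smul, map_D]

/-- **Adapted étale coordinates** for a surjection `B → C` of smooth `A`-algebras near a prime
`q ⊇ ker (B → C)`. -/
theorem exists_adapted_chart (A B C : Type u) [CommRing A] [CommRing B] [CommRing C]
    [Algebra A B] [Algebra A C] [Algebra B C] [IsScalarTower A B C]
    [Algebra.Smooth A B] [Algebra.Smooth A C]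
    (hsurj : Function.Surjective (algebraMap B C)) (q : Ideal B) [q.IsPrime]
    (hq : RingHom.ker (algebraMap B C) ≤ q) :
    ∃ (m n : ℕ) (x : Fin m → B) (z : Fin n → B) (g : B), g ∉ q ∧
      (∀ j, algebraMap B C (z j) = 0) ∧
      (∀ b, algebraMap B C b = 0 → g * b ∈ Ideal.span (Set.range z)) ∧
      ∀ (Bg : Type u) [CommRing Bg] [Algebra B Bg] [IsLocalization.Away g Bg],
        ((algebraMap B Bg).comp
          (MvPolynomial.aeval (fun j : ULift.{u} (Fin m ⊕ Fin n) => Sum.elim x z j.down) :
            MvPolynomial (ULift.{u} (Fin m ⊕ Fin n)) A →ₐ[A] B).toRingHom).Etale := by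
  classical
  haveI : Algebra.FinitePresentation A B := Algebra.Smooth.finitePresentation
  haveI : Algebra.FinitePresentation A C := Algebra.Smooth.finitePresentation
  haveI hBs : Algebra.FormallySmooth A B := Algebra.Smooth.formallySmooth
  haveI hCs : Algebra.FormallySmooth A C := Algebra.Smooth.formallySmooth
  haveI : Algebra.FormallySmooth B (Localization.AtPrime q) :=
    Algebra.FormallySmooth.of_isLocalization q.primeCompl
  haveI hT : Algebra.FormallySmooth A (Localization.AtPrime q) :=
    Algebra.FormallySmooth.comp A B (Localization.AtPrime q)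
  haveI : Algebra.IsSmoothAt A q := hT
  haveI hfin : Module.Finite (Localization.AtPrime q) Ω[Localization.AtPrime q⁄A] := inferInstance
  have hIfg : (RingHom.ker (algebraMap B C)).FG :=
    Algebra.FinitePresentation.ker_fG_of_surjective (IsScalarTower.toAlgHom A B C) hsurj
  haveI : Module.Finite B (RingHom.ker (algebraMap B C)) := Module.Finite.of_fg hIfg
  obtain ⟨lam, hlam⟩ := exists_retraction A B C hsurj
  obtain ⟨nu, hnu⟩ := exists_cotangent_to_fiber B (RingHom.ker (algebraMap B C)) q hq
  obtain ⟨n, z', bz, hbz⟩ := exists_basis_fiber B q (RingHom.ker (algebraMap B C))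
  -- independence of the `dz_j`
  have hTheta : ∀ j, LinearMap.liftBaseChange q.ResidueField (nu ∘ₗ lam)
      ((1 : q.ResidueField) ⊗ₜ[B] D A B (z' j).1) = bz j := by
    intro j
    rw [LinearMap.liftBaseChange_tmul, one_smul, LinearMap.comp_apply, hlam, hnu, hbz]
  have hwLI : LinearIndependent q.ResidueField
      (fun j => (1 : q.ResidueField) ⊗ₜ[B] D A B (z' j).1) := by
    apply LinearIndependent.of_comp (LinearMap.liftBaseChange q.ResidueField (nu ∘ₗ lam))
    have : ⇑(LinearMap.liftBaseChange q.ResidueField (nu ∘ₗ lam)) ∘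
        (fun j => (1 : q.ResidueField) ⊗ₜ[B] D A B (z' j).1) = ⇑bz := funext hTheta
    rw [this]
    exact bz.linearIndependent
  have hgspan : Submodule.span q.ResidueField
      (Set.range (fun b : B => (1 : q.ResidueField) ⊗ₜ[B] D A B b)) = ⊤ :=
    span_one_tmul_eq_top (D A B) (KaehlerDifferential.span_range_derivation A B)
  obtain ⟨m, x, hFLI, hFspan⟩ := exists_extend_basis (K := q.ResidueField)
    (V := q.ResidueField ⊗[B] Ω[B⁄A]) (fun b : B => (1 : q.ResidueField) ⊗ₜ[B] D A B b) hgspan
    (fun j => (1 : q.ResidueField) ⊗ₜ[B] D A B (z' j).1) hwLI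
  -- the coordinate family
  obtain ⟨c, hc⟩ : ∃ c : ULift.{u} (Fin m ⊕ Fin n) → B,
      c = fun j => Sum.elim x (fun j => (z' j).1) j.down := ⟨_, rfl⟩
  have hfam : (fun j : ULift.{u} (Fin m ⊕ Fin n) => (1 : q.ResidueField) ⊗ₜ[B] D A B (c j)) =
      Sum.elim ((fun b : B => (1 : q.ResidueField) ⊗ₜ[B] D A B b) ∘ x)
        (fun j => (1 : q.ResidueField) ⊗ₜ[B] D A B (z' j).1) ∘ ULift.down := by
    funext j
    rw [hc]
    rcases j with ⟨a | b⟩ <;> rfl
  have hLIB : LinearIndependent q.ResidueField
      (fun j : ULift.{u} (Fin m ⊕ Fin n) => (1 : q.ResidueField) ⊗ₜ[B] D A B (c j)) := by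
    rw [hfam]
    exact hFLI.comp _ ULift.down_injective
  have hspanB : Submodule.span q.ResidueField (Set.range
      (fun j : ULift.{u} (Fin m ⊕ Fin n) => (1 : q.ResidueField) ⊗ₜ[B] D A B (c j))) = ⊤ := by
    rw [hfam, Function.Surjective.range_comp ULift.down_surjective]
    exact hFspan
  -- transfer to the local ring
  obtain ⟨Φ, hΦ⟩ := exists_fiberOmegaEquiv A B q
  have hfamT : (fun j : ULift.{u} (Fin m ⊕ Fin n) =>
      (1 : q.ResidueField) ⊗ₜ[Localization.AtPrime q]
        D A (Localization.AtPrime q) (algebraMap B (Localization.AtPrime q) (c j))) =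
      ⇑Φ ∘ (fun j : ULift.{u} (Fin m ⊕ Fin n) => (1 : q.ResidueField) ⊗ₜ[B] D A B (c j)) := by
    funext j
    exact (hΦ (c j)).symm
  have hbijT : Function.Bijective (Finsupp.linearCombination q.ResidueField
      (fun j : ULift.{u} (Fin m ⊕ Fin n) =>
      (1 : q.ResidueField) ⊗ₜ[Localization.AtPrime q]
        D A (Localization.AtPrime q) (algebraMap B (Localization.AtPrime q) (c j)))) := by
    rw [hfamT]
    have hbijB : Function.Bijective (Finsupp.linearCombination q.ResidueField
        (fun j : ULift.{u} (Fin m ⊕ Fin n) => (1 : q.ResidueField) ⊗ₜ[B] D A B (c j))) :=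
      ⟨hLIB, by rw [← LinearMap.range_eq_top, Finsupp.range_linearCombination]; exact hspanB⟩
    have hcomp : Finsupp.linearCombination q.ResidueField
        (⇑Φ ∘ (fun j : ULift.{u} (Fin m ⊕ Fin n) => (1 : q.ResidueField) ⊗ₜ[B] D A B (c j))) =
        Φ.toLinearMap ∘ₗ Finsupp.linearCombination q.ResidueField
          (fun j : ULift.{u} (Fin m ⊕ Fin n) => (1 : q.ResidueField) ⊗ₜ[B] D A B (c j)) :=
      Finsupp.linearCombination_linear_comp q.ResidueField Φ.toLinearMap
    rw [hcomp, LinearMap.coe_comp]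
    exact Φ.bijective.comp hbijB
  -- algebra structure
  letI alg : Algebra (MvPolynomial (ULift.{u} (Fin m ⊕ Fin n)) A) B :=
    (MvPolynomial.aeval c : MvPolynomial (ULift.{u} (Fin m ⊕ Fin n)) A →ₐ[A] B).toRingHom.toAlgebra
  have halg : ∀ p : MvPolynomial (ULift.{u} (Fin m ⊕ Fin n)) A,
      algebraMap (MvPolynomial (ULift.{u} (Fin m ⊕ Fin n)) A) B p =
      MvPolynomial.aeval c p := fun _ => rfl
  haveI : IsScalarTower A (MvPolynomial (ULift.{u} (Fin m ⊕ Fin n)) A) B :=
    IsScalarTower.of_algebraMap_eq fun a => by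
      rw [halg, AlgHom.commutes]
  have hX : ∀ i, algebraMap (MvPolynomial (ULift.{u} (Fin m ⊕ Fin n)) A) B (X i) = c i :=
    fun i => by rw [halg, MvPolynomial.aeval_X]
  haveI : Algebra.IsEtaleAt (MvPolynomial (ULift.{u} (Fin m ⊕ Fin n)) A) q := by
    apply isEtaleAt_of_coords' A B q (ULift.{u} (Fin m ⊕ Fin n))
    simpa only [hX] using hbijT
  haveI : Algebra.FinitePresentation (MvPolynomial (ULift.{u} (Fin m ⊕ Fin n)) A) B :=
    Algebra.FinitePresentation.of_restrict_scalars_finitePresentation A _ _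
  obtain ⟨g₁, hg₁, hét₁⟩ := Algebra.exists_etale_of_isEtaleAt
    (R := MvPolynomial (ULift.{u} (Fin m ⊕ Fin n)) A) q
  -- Nakayama
  have hzspan : Submodule.span q.ResidueField
      (Set.range fun j => (1 : q.ResidueField) ⊗ₜ[B] z' j) = ⊤ := by
    have : (fun j => (1 : q.ResidueField) ⊗ₜ[B] z' j) = ⇑bz := funext fun j => (hbz j).symm
    rw [this]
    exact bz.span_eq
  obtain ⟨g₂, hg₂, hnak⟩ := exists_nakayama B (RingHom.ker (algebraMap B C)) q hIfg z' hzspan
  have hét : Algebra.Etale (MvPolynomial (ULift.{u} (Fin m ⊕ Fin n)) A)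
      (Localization.Away (g₁ * g₂)) := by
    rw [← Algebra.basicOpen_subset_etaleLocus_iff_etale]
    have h1 := (Algebra.basicOpen_subset_etaleLocus_iff_etale
      (R := MvPolynomial (ULift.{u} (Fin m ⊕ Fin n)) A) (A := B) (f := g₁)).mpr hét₁
    refine subset_trans ?_ h1
    exact SetLike.coe_subset_coe.mpr (PrimeSpectrum.basicOpen_mul_le_left g₁ g₂)
  refine ⟨m, n, x, fun j => (z' j).1, g₁ * g₂,
    fun h => (Ideal.IsPrime.mem_or_mem ‹_› h).elim hg₁ hg₂, fun j => (z' j).2, ?_, ?_⟩
  · intro b hb
    rw [mul_assoc]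
    exact Ideal.mul_mem_left _ g₁ (hnak b hb)
  intro Bg _ _ _
  rw [← hc]
  let ε : Localization.Away (g₁ * g₂) ≃ₐ[B] Bg :=
    IsLocalization.algEquiv (Submonoid.powers (g₁ * g₂)) (Localization.Away (g₁ * g₂)) Bg
  have h1 : ((algebraMap B (Localization.Away (g₁ * g₂))).comp
      (MvPolynomial.aeval c : MvPolynomial (ULift.{u} (Fin m ⊕ Fin n)) A →ₐ[A] B).toRingHom).Etale := by
    have : (algebraMap B (Localization.Away (g₁ * g₂))).comp
        (MvPolynomial.aeval c : MvPolynomial (ULift.{u} (Fin m ⊕ Fin n)) A →ₐ[A] B).toRingHom =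
        algebraMap (MvPolynomial (ULift.{u} (Fin m ⊕ Fin n)) A) (Localization.Away (g₁ * g₂)) :=
      (IsScalarTower.algebraMap_eq _ _ _).symm
    rw [this, RingHom.etale_algebraMap]
    exact hét
  have h2 : (algebraMap B Bg).comp
      (MvPolynomial.aeval c : MvPolynomial (ULift.{u} (Fin m ⊕ Fin n)) A →ₐ[A] B).toRingHom =
      (ε : Localization.Away (g₁ * g₂) ≃+* Bg).toRingHom.comp
        ((algebraMap B (Localization.Away (g₁ * g₂))).comp
      (MvPolynomial.aeval c : MvPolynomial (ULift.{u} (Fin m ⊕ Fin n)) A →ₐ[A] B).toRingHom) := by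
    ext p <;> simp [ε]
  rw [h2]
  exact RingHom.Etale.respectsIso.1 _ _ h1

end Groth.Agent.H1.SmPair
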