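import Mathlib

/-! helper1: scheme-level lemmas for adapted étale coordinates (S1479):
pushouts of rings along surjections, the coordinate subspace of affine space as a pullback of
its integral model, the pullback square for a closed subscheme cut out by coordinates, and
étaleness of a morphism to affine space from the ring-level statement. -/

set_option autoImplicit false
universe u
open CategoryTheory CategoryTheory.Limits AlgebraicGeometry TopologicalSpace

namespace Groth.Agent.H1.SmPair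

/-- pushout of commutative rings along a surjection, detected by kernels. -/
theorem isPushout_of_surjective {A B C P : CommRingCat.{u}} (f : A ⟶ B) (g : A ⟶ C)
    (inl : B ⟶ P) (inr : C ⟶ P) (hcomm : f ≫ inl = g ≫ inr)
    (hf : Function.Surjective f.hom) (hinr : Function.Surjective inr.hom)
    (s : Set A) (hs : ∀ a ∈ s, f.hom a = 0)
    (hker : RingHom.ker inr.hom ≤ Ideal.span (g.hom '' s)) : IsPushout f g inl inr := by
  have hle : ∀ c : PushoutCocone f g, RingHom.ker inr.hom ≤ RingHom.ker c.inr.hom := by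
    intro c
    refine hker.trans (Ideal.span_le.mpr ?_)
    rintro _ ⟨a, ha, rfl⟩
    have h1 : (f ≫ c.inl).hom a = (g ≫ c.inr).hom a := by rw [c.condition]
    simp only [CommRingCat.hom_comp, RingHom.comp_apply] at h1
    rw [SetLike.mem_coe, RingHom.mem_ker, ← h1, hs a ha, map_zero]
  refine ⟨⟨hcomm⟩, ⟨PushoutCocone.IsColimit.mk hcomm
    (fun c => CommRingCat.ofHom (RingHom.liftOfSurjective inr.hom hinr ⟨c.inr.hom, hle c⟩))
    ?_ ?_ ?_⟩⟩
  · intro c
    apply CommRingCat.hom_ext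
    apply RingHom.ext
    intro b
    obtain ⟨a, rfl⟩ := hf b
    have h1 : (f ≫ inl).hom a = (g ≫ inr).hom a := by rw [hcomm]
    have h2 : (f ≫ c.inl).hom a = (g ≫ c.inr).hom a := by rw [c.condition]
    simp only [CommRingCat.hom_comp, RingHom.comp_apply, CommRingCat.hom_ofHom] at h1 h2 ⊢
    rw [h1, RingHom.liftOfSurjective_comp_apply, h2]
  · intro c
    apply CommRingCat.hom_ext
    apply RingHom.ext
    intro x
    simp only [CommRingCat.hom_comp, RingHom.comp_apply, CommRingCat.hom_ofHom]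
    rw [RingHom.liftOfSurjective_comp_apply]
  · intro c m _ hm
    apply CommRingCat.hom_ext
    apply RingHom.ext
    intro p
    obtain ⟨x, rfl⟩ := hinr p
    have h1 : (inr ≫ m).hom x = c.inr.hom x := by rw [hm]
    simp only [CommRingCat.hom_comp, RingHom.comp_apply, CommRingCat.hom_ofHom] at h1 ⊢
    rw [h1, RingHom.liftOfSurjective_comp_apply]

/-- `ℤ[X_a, Z_b] → ℤ[X_a]`, `Z_b ↦ 0`. -/
noncomputable def zeta (m n : ℕ) :
    CommRingCat.of (MvPolynomial (ULift.{u} (Fin m ⊕ Fin n)) (ULift.{u} ℤ)) ⟶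
      CommRingCat.of (MvPolynomial (ULift.{u} (Fin m)) (ULift.{u} ℤ)) :=
  CommRingCat.ofHom (MvPolynomial.eval₂Hom MvPolynomial.C
    (fun j : ULift.{u} (Fin m ⊕ Fin n) =>
      Sum.elim (fun a => MvPolynomial.X (ULift.up a)) (fun _ => 0) j.down))

lemma zeta_X_inl (m n : ℕ) (a : Fin m) :
    (zeta.{u} m n).hom (MvPolynomial.X ⟨Sum.inl a⟩) = MvPolynomial.X ⟨a⟩ := by
  simp [zeta]

lemma zeta_X_inr (m n : ℕ) (b : Fin n) :
    (zeta.{u} m n).hom (MvPolynomial.X ⟨Sum.inr b⟩) = 0 := by
  simp [zeta]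

lemma zeta_surjective (m n : ℕ) : Function.Surjective (zeta.{u} m n).hom := by
  intro p
  refine ⟨MvPolynomial.rename
    (fun a : ULift.{u} (Fin m) => (⟨Sum.inl a.down⟩ : ULift.{u} (Fin m ⊕ Fin n))) p, ?_⟩
  simp only [zeta, CommRingCat.hom_ofHom, MvPolynomial.coe_eval₂Hom, MvPolynomial.eval₂_rename]
  have : ((fun j : ULift.{u} (Fin m ⊕ Fin n) => Sum.elim
      (fun a => (MvPolynomial.X (ULift.up a) : MvPolynomial (ULift.{u} (Fin m)) (ULift.{u} ℤ)))
      (fun _ => 0) j.down) ∘
      fun a : ULift.{u} (Fin m) => (⟨Sum.inl a.down⟩ : ULift.{u} (Fin m ⊕ Fin n))) =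
      MvPolynomial.X := by
    funext a
    rfl
  rw [this, MvPolynomial.eval₂_eta]

/-- the coordinate subspace `𝔸^m_S → 𝔸^{m+n}_S` is the pullback of its integral model. -/
theorem isPullback_zero (S : Scheme.{u}) (m n : ℕ) :
    IsPullback (AffineSpace.toSpecMvPoly (ULift.{u} (Fin m)) S)
      (AffineSpace.homOfVector (𝔸(ULift.{u} (Fin m); S) ↘ S)
        (fun j : ULift.{u} (Fin m ⊕ Fin n) =>
          Sum.elim (fun a => AffineSpace.coord S (ULift.up a)) (fun _ => 0) j.down))
      (Spec.map (zeta.{u} m n))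
      (AffineSpace.toSpecMvPoly (ULift.{u} (Fin m ⊕ Fin n)) S) := by
  have hcomm : AffineSpace.toSpecMvPoly (ULift.{u} (Fin m)) S ≫ Spec.map (zeta.{u} m n) =
      AffineSpace.homOfVector (𝔸(ULift.{u} (Fin m); S) ↘ S)
        (fun j : ULift.{u} (Fin m ⊕ Fin n) =>
          Sum.elim (fun a => AffineSpace.coord S (ULift.up a)) (fun _ => 0) j.down) ≫
        AffineSpace.toSpecMvPoly (ULift.{u} (Fin m ⊕ Fin n)) S := by
    rw [AffineSpace.homOfVector_toSpecMvPoly]
    apply (AffineSpace.toSpecMvPolyIntEquiv _).injective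
    rw [Equiv.apply_symm_apply]
    funext j
    rw [AffineSpace.toSpecMvPolyIntEquiv_comp]
    have h1 : AffineSpace.toSpecMvPolyIntEquiv (ULift.{u} (Fin m ⊕ Fin n))
        (Spec.map (zeta.{u} m n)) j =
        (Scheme.ΓSpecIso _).inv ((zeta.{u} m n).hom (MvPolynomial.X j)) := by
      have := Scheme.ΓSpecIso_inv_naturality (zeta.{u} m n)
      exact (congrArg (fun t => t.hom (MvPolynomial.X j)) this).symm
    rw [h1]
    rcases j with ⟨a | b⟩
    · rw [zeta_X_inl]
      rfl
    · rw [zeta_X_inr, map_zero, map_zero]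
      rfl
  have hover : AffineSpace.homOfVector (𝔸(ULift.{u} (Fin m); S) ↘ S)
        (fun j : ULift.{u} (Fin m ⊕ Fin n) =>
          Sum.elim (fun a => AffineSpace.coord S (ULift.up a)) (fun _ => 0) j.down) ≫
      (𝔸(ULift.{u} (Fin m ⊕ Fin n); S) ↘ S) = 𝔸(ULift.{u} (Fin m); S) ↘ S :=
    AffineSpace.homOfVector_over _ _
  have t' : IsPullback (AffineSpace.toSpecMvPoly (ULift.{u} (Fin m)) S)
      (AffineSpace.homOfVector (𝔸(ULift.{u} (Fin m); S) ↘ S)
        (fun j : ULift.{u} (Fin m ⊕ Fin n) =>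
          Sum.elim (fun a => AffineSpace.coord S (ULift.up a)) (fun _ => 0) j.down) ≫
        (𝔸(ULift.{u} (Fin m ⊕ Fin n); S) ↘ S))
      (Spec.map (zeta.{u} m n) ≫ terminal.from _) (terminal.from S) := by
    rw [hover, terminal.comp_from]
    exact (IsPullback.of_hasPullback _ _).flip
  exact IsPullback.of_bot t' hcomm (IsPullback.of_hasPullback _ _).flip

/-- the pullback square for a closed subscheme cut out by the last `n` coordinates. -/
theorem isPullback_of_ker {S X Y : Scheme.{u}} (pX : X ⟶ S) (pY : Y ⟶ S) (i : Y ⟶ X)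
    [IsClosedImmersion i] (w : i ≫ pX = pY) (U : X.Opens) (hU : IsAffineOpen U) (m n : ℕ)
    (v : ULift.{u} (Fin m ⊕ Fin n) → Γ(↑U, ⊤))
    (hv0 : ∀ b : Fin n, (i ∣_ U).appTop.hom (v ⟨Sum.inr b⟩) = 0)
    (hker : RingHom.ker (i ∣_ U).appTop.hom ≤
      Ideal.span (Set.range fun b : Fin n => v ⟨Sum.inr b⟩)) :
    IsPullback
      (AffineSpace.homOfVector ((i ⁻¹ᵁ U).ι ≫ pY)
        (fun a : ULift.{u} (Fin m) => (i ∣_ U).appTop.hom (v ⟨Sum.inl a.down⟩)))
      (i ∣_ U)
      (AffineSpace.homOfVector (𝔸(ULift.{u} (Fin m); S) ↘ S)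
        (fun j : ULift.{u} (Fin m ⊕ Fin n) =>
          Sum.elim (fun a => AffineSpace.coord S (ULift.up a)) (fun _ => 0) j.down))
      (AffineSpace.homOfVector (U.ι ≫ pX) v) := by
  haveI : IsAffine (U : Scheme.{u}) := hU
  haveI : IsAffine ((i ⁻¹ᵁ U : Y.Opens) : Scheme.{u}) := hU.preimage i
  -- commutativity
  have hsq : AffineSpace.homOfVector ((i ⁻¹ᵁ U).ι ≫ pY)
        (fun a : ULift.{u} (Fin m) => (i ∣_ U).appTop.hom (v ⟨Sum.inl a.down⟩)) ≫
      AffineSpace.homOfVector (𝔸(ULift.{u} (Fin m); S) ↘ S)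
        (fun j : ULift.{u} (Fin m ⊕ Fin n) =>
          Sum.elim (fun a => AffineSpace.coord S (ULift.up a)) (fun _ => 0) j.down) =
      (i ∣_ U) ≫ AffineSpace.homOfVector (U.ι ≫ pX) v := by
    apply AffineSpace.hom_ext
    · rw [Category.assoc, Category.assoc, AffineSpace.homOfVector_over,
        AffineSpace.homOfVector_over, AffineSpace.homOfVector_over, morphismRestrict_ι_assoc, w]
    · intro j
      rw [Scheme.Hom.comp_appTop, Scheme.Hom.comp_appTop, CommRingCat.comp_apply,
        CommRingCat.comp_apply, AffineSpace.homOfVector_appTop_coord,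
        AffineSpace.homOfVector_appTop_coord]
      rcases j with ⟨a | b⟩
      · exact AffineSpace.homOfVector_appTop_coord _ _ _
      · exact (map_zero _).trans (hv0 b).symm
  refine IsPullback.of_right ?_ hsq (isPullback_zero S m n)
  -- the ring maps from the integral models
  obtain ⟨α, hα⟩ : ∃ α : CommRingCat.of (MvPolynomial (ULift.{u} (Fin m ⊕ Fin n)) (ULift.{u} ℤ)) ⟶
      Γ(↑U, ⊤), α = CommRingCat.ofHom (MvPolynomial.eval₂Hom
        ((algebraMap ℤ Γ(↑U, ⊤)).comp ULift.ringEquiv.toRingHom) v) := ⟨_, rfl⟩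
  obtain ⟨β, hβ⟩ : ∃ β : CommRingCat.of (MvPolynomial (ULift.{u} (Fin m)) (ULift.{u} ℤ)) ⟶
      Γ(↑(i ⁻¹ᵁ U), ⊤), β = CommRingCat.ofHom (MvPolynomial.eval₂Hom
        ((algebraMap ℤ Γ(↑(i ⁻¹ᵁ U), ⊤)).comp ULift.ringEquiv.toRingHom)
        (fun a : ULift.{u} (Fin m) => (i ∣_ U).appTop.hom (v ⟨Sum.inl a.down⟩))) := ⟨_, rfl⟩
  have hαX : ∀ j, α.hom (MvPolynomial.X j) = v j := by
    intro j
    rw [hα, CommRingCat.hom_ofHom, MvPolynomial.eval₂Hom_X']
  have hβX : ∀ a : ULift.{u} (Fin m), β.hom (MvPolynomial.X a) =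
      (i ∣_ U).appTop.hom (v ⟨Sum.inl a.down⟩) := by
    intro a
    rw [hβ, CommRingCat.hom_ofHom, MvPolynomial.eval₂Hom_X']
  have hπ : AffineSpace.homOfVector (U.ι ≫ pX) v ≫
      AffineSpace.toSpecMvPoly (ULift.{u} (Fin m ⊕ Fin n)) S =
      (U : Scheme.{u}).toSpecΓ ≫ Spec.map α := by
    rw [AffineSpace.homOfVector_toSpecMvPoly, hα]
    rfl
  have hρ : AffineSpace.homOfVector ((i ⁻¹ᵁ U).ι ≫ pY)
        (fun a : ULift.{u} (Fin m) => (i ∣_ U).appTop.hom (v ⟨Sum.inl a.down⟩)) ≫
      AffineSpace.toSpecMvPoly (ULift.{u} (Fin m)) S =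
      ((i ⁻¹ᵁ U : Y.Opens) : Scheme.{u}).toSpecΓ ≫ Spec.map β := by
    rw [AffineSpace.homOfVector_toSpecMvPoly, hβ]
    rfl
  rw [hπ, hρ]
  -- the ring-level pushout
  have hpo : IsPushout (zeta.{u} m n) α β (i ∣_ U).appTop := by
    refine isPushout_of_surjective _ _ _ _ ?_ (zeta_surjective m n)
      (IsClosedImmersion.isAffine_surjective_of_isAffine (i ∣_ U)).2
      (Set.range fun b : Fin n => MvPolynomial.X ⟨Sum.inr b⟩) ?_ ?_
    · apply AffineSpace.of_mvPolynomial_int_ext
      intro j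
      rcases j with ⟨a | b⟩
      · show β.hom ((zeta.{u} m n).hom (MvPolynomial.X ⟨Sum.inl a⟩)) =
          (i ∣_ U).appTop.hom (α.hom (MvPolynomial.X ⟨Sum.inl a⟩))
        rw [zeta_X_inl, hβX, hαX]
      · show β.hom ((zeta.{u} m n).hom (MvPolynomial.X ⟨Sum.inr b⟩)) =
          (i ∣_ U).appTop.hom (α.hom (MvPolynomial.X ⟨Sum.inr b⟩))
        rw [zeta_X_inr, hαX, map_zero, hv0 b]
    · rintro _ ⟨b, rfl⟩
      exact zeta_X_inr m n b
    · refine hker.trans (le_of_eq ?_)
      congr 1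
      rw [← Set.range_comp]
      congr 1
      funext b
      exact (hαX _).symm
  have hright := isPullback_SpecMap_of_isPushout _ _ _ _ hpo
  have hleft : IsPullback ((i ⁻¹ᵁ U : Y.Opens) : Scheme.{u}).toSpecΓ (i ∣_ U)
      (Spec.map (i ∣_ U).appTop) (U : Scheme.{u}).toSpecΓ :=
    IsPullback.of_horiz_isIso ⟨(Scheme.toSpecΓ_naturality (i ∣_ U)).symm⟩
  exact hleft.paste_horiz hright

/-- étaleness of a morphism to affine space over `S` from the ring-level statement. -/
theorem etale_homOfVector {S X : Scheme.{u}} (pX : X ⟶ S) (W : S.Opens) (hW : IsAffineOpen W)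
    (U : X.Opens) (hU : IsAffineOpen U) (e : U ≤ pX ⁻¹ᵁ W) {N : Type u} (v : N → Γ(↑U, ⊤))
    (ψ : MvPolynomial N Γ(S, W) →+* Γ(X, U)) (hψ : ψ.Etale)
    (hψC : ψ.comp MvPolynomial.C = (pX.appLE W U e).hom)
    (hψX : ∀ j, ψ (MvPolynomial.X j) = U.topIso.hom (v j)) :
    Etale (AffineSpace.homOfVector (U.ι ≫ pX) v) := by
  haveI : IsAffine (U : Scheme.{u}) := hU
  haveI : IsAffine (W : Scheme.{u}) := hW
  -- factor through affine space over `W`
  have hfac : AffineSpace.homOfVector (U.ι ≫ pX) v =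
      AffineSpace.homOfVector (pX.resLE W U e) v ≫ AffineSpace.map N W.ι := by
    apply AffineSpace.hom_ext
    · rw [Category.assoc, AffineSpace.map_over, AffineSpace.homOfVector_over,
        AffineSpace.homOfVector_over_assoc, Scheme.Hom.resLE_comp_ι]
    · intro j
      rw [Scheme.Hom.comp_appTop, CommRingCat.comp_apply, AffineSpace.map_appTop_coord,
        AffineSpace.homOfVector_appTop_coord, AffineSpace.homOfVector_appTop_coord]
  have h4 : Etale (AffineSpace.map N W.ι) :=
    MorphismProperty.of_isPullback (P := @Etale) (AffineSpace.isPullback_map (n := N) W.ι).flip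
      inferInstance
  -- the ring map over `W`
  have hψ' : (MvPolynomial.eval₂Hom (pX.resLE W U e).appTop.hom v).Etale := by
    have heq : MvPolynomial.eval₂Hom (pX.resLE W U e).appTop.hom v =
        (U.topIso.symm.commRingCatIsoToRingEquiv).toRingHom.comp (ψ.comp
          (MvPolynomial.mapEquiv N W.topIso.commRingCatIsoToRingEquiv).toRingHom) := by
      apply MvPolynomial.ringHom_ext
      · intro a
        have h1 : (pX.resLE W U e).appTop = W.topIso.hom ≫ pX.appLE W U e ≫ U.topIso.inv :=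
          Scheme.Hom.resLE_app_top _ _
        have h2 : ψ (MvPolynomial.C (W.topIso.hom.hom a)) = (pX.appLE W U e).hom (W.topIso.hom.hom a) :=
          congrArg (fun t => t (W.topIso.hom.hom a)) hψC
        simp only [MvPolynomial.eval₂Hom_C, RingHom.comp_apply, RingEquiv.toRingHom_eq_coe,
          RingHom.coe_coe, MvPolynomial.mapEquiv_apply, MvPolynomial.map_C]
        rw [h1]
        simp only [CommRingCat.hom_comp, RingHom.comp_apply]
        erw [h2]
        rfl
      · intro j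
        simp only [MvPolynomial.eval₂Hom_X', RingHom.comp_apply, RingEquiv.toRingHom_eq_coe,
          RingHom.coe_coe, MvPolynomial.mapEquiv_apply, MvPolynomial.map_X]
        rw [hψX]
        exact (U.topIso.hom_inv_id_apply (v j)).symm
    rw [heq]
    exact RingHom.Etale.respectsIso.1 _ _ (RingHom.Etale.respectsIso.2 _ _ hψ)
  have h2 : Etale (Spec.map (CommRingCat.ofHom
      (MvPolynomial.eval₂Hom (pX.resLE W U e).appTop.hom v))) :=
    (HasRingHomProperty.Spec_iff (P := @Etale)).mpr hψ'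
  have hE : CommRingCat.ofHom (MvPolynomial.eval₂Hom
        ((𝔸(N; (W : Scheme.{u})) ↘ (W : Scheme.{u})).appTop).hom (AffineSpace.coord (W : Scheme.{u}))) ≫
      (AffineSpace.homOfVector (pX.resLE W U e) v).appTop =
      CommRingCat.ofHom (MvPolynomial.eval₂Hom (pX.resLE W U e).appTop.hom v) := by
    apply CommRingCat.hom_ext
    apply MvPolynomial.ringHom_ext
    · intro a
      rw [CommRingCat.hom_comp, RingHom.comp_apply, CommRingCat.hom_ofHom, CommRingCat.hom_ofHom,
        MvPolynomial.eval₂Hom_C, MvPolynomial.eval₂Hom_C, ← RingHom.comp_apply,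
        ← CommRingCat.hom_comp, ← Scheme.Hom.comp_appTop, AffineSpace.homOfVector_over]
    · intro j
      rw [CommRingCat.hom_comp, RingHom.comp_apply, CommRingCat.hom_ofHom, CommRingCat.hom_ofHom,
        MvPolynomial.eval₂Hom_X', MvPolynomial.eval₂Hom_X']
      exact AffineSpace.homOfVector_appTop_coord _ _ _
  have hW' : AffineSpace.homOfVector (pX.resLE W U e) v =
      (U : Scheme.{u}).toSpecΓ ≫ Spec.map (CommRingCat.ofHom
        (MvPolynomial.eval₂Hom (pX.resLE W U e).appTop.hom v)) ≫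
        (AffineSpace.isoOfIsAffine N (W : Scheme.{u})).inv := by
    rw [← Category.assoc, Iso.eq_comp_inv, AffineSpace.isoOfIsAffine_hom,
      Scheme.toSpecΓ_naturality_assoc, ← Spec.map_comp, hE]
    rfl
  have h1 : Etale (U : Scheme.{u}).toSpecΓ := inferInstance
  have h3 : Etale (AffineSpace.isoOfIsAffine N (W : Scheme.{u})).inv := inferInstance
  have hπW : Etale (AffineSpace.homOfVector (pX.resLE W U e) v) := by
    rw [hW']
    exact MorphismProperty.comp_mem _ _ _ h1 (MorphismProperty.comp_mem _ _ _ h2 h3)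
  rw [hfac]
  exact MorphismProperty.comp_mem _ _ _ hπW h4

end Groth.Agent.H1.SmPair
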