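import Mathlib
import Groth.Agent.Lib.Helper1.SmPairA
import Groth.Agent.Lib.Helper1.SmPairB

/-! helper1: adapted étale coordinates for a closed immersion of smooth `S`-schemes (S1479). -/

set_option autoImplicit false
universe u
open CategoryTheory CategoryTheory.Limits AlgebraicGeometry TopologicalSpace

namespace Groth.Agent.H1.SmPair

lemma notMem_primeIdealOf_iff {X : Scheme.{u}} {U : X.Opens} (hU : IsAffineOpen U) (x : X)
    (hx : x ∈ U) (f : Γ(X, U)) :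
    f ∉ (hU.primeIdealOf ⟨x, hx⟩).asIdeal ↔ x ∈ X.basicOpen f := by
  have h1 : hU.fromSpec (hU.primeIdealOf ⟨x, hx⟩) = x := hU.fromSpec_primeIdealOf ⟨x, hx⟩
  have h2 : hU.primeIdealOf ⟨x, hx⟩ ∈ hU.fromSpec ⁻¹ᵁ X.basicOpen f ↔
      f ∉ (hU.primeIdealOf ⟨x, hx⟩).asIdeal := by
    rw [hU.fromSpec_preimage_basicOpen]
    rfl
  rw [← h2]
  constructor
  · intro h
    rw [← h1]
    exact h
  · intro h
    show hU.fromSpec (hU.primeIdealOf ⟨x, hx⟩) ∈ X.basicOpen f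
    rw [h1]
    exact h

theorem main {S X Y : Scheme.{u}} (pX : X ⟶ S) (pY : Y ⟶ S) [Smooth pX] [Smooth pY]
    (i : Y ⟶ X) [IsClosedImmersion i] (w : i ≫ pX = pY) (y : Y) :
    ∃ (U : X.Opens) (m n : ℕ) (π : (U : Scheme.{u}) ⟶ 𝔸(ULift.{u} (Fin m ⊕ Fin n); S))
      (ρ : (↑(i ⁻¹ᵁ U) : Scheme.{u}) ⟶ 𝔸(ULift.{u} (Fin m); S)),
      i y ∈ U ∧ Etale π ∧ π ≫ (𝔸(ULift.{u} (Fin m ⊕ Fin n); S) ↘ S) = U.ι ≫ pX ∧
      IsPullback ρ (i ∣_ U)
        (AffineSpace.homOfVector (𝔸(ULift.{u} (Fin m); S) ↘ S)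
          (fun j : ULift.{u} (Fin m ⊕ Fin n) =>
            Sum.elim (fun a => AffineSpace.coord S (ULift.up a)) (fun _ => 0) j.down))
        π := by
  subst w
  -- affine opens
  obtain ⟨W, hW, hyW, -⟩ := Opens.isBasis_iff_nbhd.mp S.isBasis_affineOpens
    (show pX (i y) ∈ (⊤ : S.Opens) from trivial)
  obtain ⟨U₀, hU₀, hyU₀, e₀⟩ := Opens.isBasis_iff_nbhd.mp X.isBasis_affineOpens
    (show i y ∈ pX ⁻¹ᵁ W from hyW)
  have hV₀ : IsAffineOpen (i ⁻¹ᵁ U₀) := hU₀.preimage i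
  have e₁ : i ⁻¹ᵁ U₀ ≤ (i ≫ pX) ⁻¹ᵁ W := by
    intro y' hy'
    show (i ≫ pX) y' ∈ W
    rw [Scheme.Hom.comp_apply]
    exact e₀ hy'
  -- algebra structures
  letI algAB : Algebra Γ(S, W) Γ(X, U₀) := (pX.appLE W U₀ e₀).hom.toAlgebra
  letI algBC : Algebra Γ(X, U₀) Γ(Y, i ⁻¹ᵁ U₀) := (i.app U₀).hom.toAlgebra
  letI algAC : Algebra Γ(S, W) Γ(Y, i ⁻¹ᵁ U₀) :=
    ((i ≫ pX).appLE W (i ⁻¹ᵁ U₀) e₁).hom.toAlgebra
  haveI : IsScalarTower Γ(S, W) Γ(X, U₀) Γ(Y, i ⁻¹ᵁ U₀) :=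
    IsScalarTower.of_algebraMap_eq fun a => by
      have h1 := Scheme.Hom.appLE_comp_appLE i pX W U₀ (i ⁻¹ᵁ U₀) e₀ le_rfl
      rw [Scheme.Hom.appLE_eq_app] at h1
      exact (congrArg (fun t => t.hom a) h1).symm
  haveI : Algebra.Smooth Γ(S, W) Γ(X, U₀) := pX.smooth_appLE hW hU₀ e₀
  haveI : Algebra.Smooth Γ(S, W) Γ(Y, i ⁻¹ᵁ U₀) := (i ≫ pX).smooth_appLE hW hV₀ e₁
  have hsurj : Function.Surjective (algebraMap Γ(X, U₀) Γ(Y, i ⁻¹ᵁ U₀)) :=
    i.app_surjective U₀ hU₀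
  haveI := (hU₀.primeIdealOf ⟨i y, hyU₀⟩).isPrime
  have hq : RingHom.ker (algebraMap Γ(X, U₀) Γ(Y, i ⁻¹ᵁ U₀)) ≤
      (hU₀.primeIdealOf ⟨i y, hyU₀⟩).asIdeal := by
    intro b hb
    by_contra hbq
    have h1 : i y ∈ X.basicOpen b := (notMem_primeIdealOf_iff hU₀ (i y) hyU₀ b).mp hbq
    have h2 : y ∈ i ⁻¹ᵁ X.basicOpen b := h1
    rw [Scheme.preimage_basicOpen] at h2
    have h3 : (i.app U₀) b = 0 := hb
    rw [h3, Scheme.basicOpen_zero] at h2
    exact h2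
  obtain ⟨m, n, x, z, g, hg, hz, hnak, hét⟩ := exists_adapted_chart Γ(S, W) Γ(X, U₀)
    Γ(Y, i ⁻¹ᵁ U₀) hsurj (hU₀.primeIdealOf ⟨i y, hyU₀⟩).asIdeal hq
  -- the neighbourhood
  have hU : IsAffineOpen (X.basicOpen g) := hU₀.basicOpen g
  have hyU : i y ∈ X.basicOpen g := (notMem_primeIdealOf_iff hU₀ (i y) hyU₀ g).mp hg
  have hUU₀ : X.basicOpen g ≤ U₀ := X.basicOpen_le g
  have e : X.basicOpen g ≤ pX ⁻¹ᵁ W := hUU₀.trans e₀
  haveI := hU₀.isLocalization_basicOpen g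
  have hétU := hét Γ(X, X.basicOpen g)
  obtain ⟨v, hv⟩ : ∃ v : ULift.{u} (Fin m ⊕ Fin n) → Γ(↑(X.basicOpen g), ⊤),
      v = fun j => (X.basicOpen g).topIso.inv.hom
        (algebraMap Γ(X, U₀) Γ(X, X.basicOpen g) (Sum.elim x z j.down)) := ⟨_, rfl⟩
  have hψC : ((algebraMap Γ(X, U₀) Γ(X, X.basicOpen g)).comp
      (MvPolynomial.aeval (fun j : ULift.{u} (Fin m ⊕ Fin n) => Sum.elim x z j.down) :
        MvPolynomial (ULift.{u} (Fin m ⊕ Fin n)) Γ(S, W) →ₐ[Γ(S, W)] Γ(X, U₀)).toRingHom).comp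
      MvPolynomial.C = (pX.appLE W (X.basicOpen g) e).hom := by
    ext r
    simp only [RingHom.comp_apply, AlgHom.toRingHom_eq_coe, RingHom.coe_coe, MvPolynomial.aeval_C]
    have h3 : pX.appLE W U₀ e₀ ≫ X.presheaf.map (homOfLE (X.basicOpen_le g)).op =
        pX.appLE W (X.basicOpen g) e := Scheme.Hom.appLE_map _ _ _
    rw [← h3]
    rfl
  have hψX : ∀ j, ((algebraMap Γ(X, U₀) Γ(X, X.basicOpen g)).comp
      (MvPolynomial.aeval (fun j : ULift.{u} (Fin m ⊕ Fin n) => Sum.elim x z j.down) :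
        MvPolynomial (ULift.{u} (Fin m ⊕ Fin n)) Γ(S, W) →ₐ[Γ(S, W)] Γ(X, U₀)).toRingHom)
      (MvPolynomial.X j) = (X.basicOpen g).topIso.hom (v j) := by
    intro j
    rw [hv]
    simp only [RingHom.comp_apply, AlgHom.toRingHom_eq_coe, RingHom.coe_coe, MvPolynomial.aeval_X]
    exact ((X.basicOpen g).topIso.inv_hom_id_apply _).symm
  -- the restricted closed immersion on global sections
  have happ : (i ∣_ X.basicOpen g).appTop = (X.basicOpen g).topIso.hom ≫ i.app (X.basicOpen g) ≫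
      (i ⁻¹ᵁ X.basicOpen g).topIso.inv := by
    have h1 : (i.resLE (X.basicOpen g) (i ⁻¹ᵁ X.basicOpen g) le_rfl).appTop =
        (X.basicOpen g).topIso.hom ≫ i.appLE (X.basicOpen g) (i ⁻¹ᵁ X.basicOpen g) le_rfl ≫
          (i ⁻¹ᵁ X.basicOpen g).topIso.inv := Scheme.Hom.resLE_app_top _ _
    rw [Scheme.Hom.resLE_eq_morphismRestrict, Scheme.Hom.appLE_eq_app] at h1
    exact h1
  have hnat : ∀ b : Γ(X, U₀), (i.app (X.basicOpen g)).hom
      (algebraMap Γ(X, U₀) Γ(X, X.basicOpen g) b) =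
      (Y.presheaf.map ((Opens.map i.base).op.map (homOfLE hUU₀).op)).hom ((i.app U₀).hom b) :=
    fun b => congrArg (fun t => t.hom b) (i.naturality (homOfLE hUU₀).op)
  have hv0 : ∀ b : Fin n, (i ∣_ X.basicOpen g).appTop.hom (v ⟨Sum.inr b⟩) = 0 := by
    intro b
    rw [happ, hv]
    simp only [CommRingCat.hom_comp, RingHom.comp_apply, Sum.elim_inr]
    have h1 : (X.basicOpen g).topIso.hom.hom ((X.basicOpen g).topIso.inv.hom
        (algebraMap Γ(X, U₀) Γ(X, X.basicOpen g) (z b))) =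
        algebraMap Γ(X, U₀) Γ(X, X.basicOpen g) (z b) :=
      (X.basicOpen g).topIso.inv_hom_id_apply _
    rw [h1, hnat, show (i.app U₀).hom (z b) = 0 from hz b, map_zero, map_zero]
  have hker : RingHom.ker (i ∣_ X.basicOpen g).appTop.hom ≤
      Ideal.span (Set.range fun b : Fin n => v ⟨Sum.inr b⟩) := by
    intro r' hr'
    rw [RingHom.mem_ker, happ] at hr'
    have h1 : (i.app (X.basicOpen g)).hom ((X.basicOpen g).topIso.hom.hom r') = 0 := by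
      have h2 := congrArg (i ⁻¹ᵁ X.basicOpen g).topIso.hom.hom hr'
      simp only [CommRingCat.hom_comp, RingHom.comp_apply, map_zero] at h2
      rw [← h2]
      exact ((i ⁻¹ᵁ X.basicOpen g).topIso.inv_hom_id_apply _).symm
    have h3 : (X.basicOpen g).topIso.hom.hom r' ∈ i.ker.ideal ⟨X.basicOpen g, hU⟩ := by
      rw [Scheme.Hom.ker_apply]
      exact h1
    rw [← i.ker.map_ideal (U := ⟨X.basicOpen g, hU⟩) (V := ⟨U₀, hU₀⟩) hUU₀,
      Scheme.Hom.ker_apply] at h3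
    have h4 : (RingHom.ker (i.app U₀).hom).map (X.presheaf.map (homOfLE hUU₀).op).hom ≤
        Ideal.span (Set.range fun b : Fin n =>
          algebraMap Γ(X, U₀) Γ(X, X.basicOpen g) (z b)) := by
      rw [Ideal.map_le_iff_le_comap]
      intro b hb
      rw [Ideal.mem_comap]
      have h5 := hnak b hb
      have h6 : algebraMap Γ(X, U₀) Γ(X, X.basicOpen g) (g * b) ∈ Ideal.span
          (Set.range fun b : Fin n => algebraMap Γ(X, U₀) Γ(X, X.basicOpen g) (z b)) := by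
        have := Ideal.mem_map_of_mem (algebraMap Γ(X, U₀) Γ(X, X.basicOpen g)) h5
        rw [Ideal.map_span, ← Set.range_comp] at this
        exact this
      rw [map_mul] at h6
      obtain ⟨u, hu⟩ := IsLocalization.Away.algebraMap_isUnit (S := Γ(X, X.basicOpen g)) g
      have h7 : algebraMap Γ(X, U₀) Γ(X, X.basicOpen g) b = ↑u⁻¹ *
          (algebraMap Γ(X, U₀) Γ(X, X.basicOpen g) g *
            algebraMap Γ(X, U₀) Γ(X, X.basicOpen g) b) := by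
        rw [← hu, ← mul_assoc, Units.inv_mul, one_mul]
      show algebraMap Γ(X, U₀) Γ(X, X.basicOpen g) b ∈ _
      rw [h7]
      exact Ideal.mul_mem_left _ _ h6
    have h8 := h4 h3
    have h9 := Ideal.mem_map_of_mem (X.basicOpen g).topIso.inv.hom h8
    rw [Ideal.map_span, ← Set.range_comp] at h9
    have h10 : (X.basicOpen g).topIso.inv.hom ((X.basicOpen g).topIso.hom.hom r') = r' :=
      (X.basicOpen g).topIso.hom_inv_id_apply _
    rw [h10] at h9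
    rw [hv]
    exact h9
  refine ⟨X.basicOpen g, m, n, AffineSpace.homOfVector ((X.basicOpen g).ι ≫ pX) v,
    AffineSpace.homOfVector ((i ⁻¹ᵁ X.basicOpen g).ι ≫ (i ≫ pX))
      (fun a : ULift.{u} (Fin m) => (i ∣_ X.basicOpen g).appTop.hom (v ⟨Sum.inl a.down⟩)),
    hyU, ?_, AffineSpace.homOfVector_over _ _, ?_⟩
  · exact etale_homOfVector pX W hW (X.basicOpen g) hU e v _ hétU hψC hψX
  · exact isPullback_of_ker pX (i ≫ pX) i rfl (X.basicOpen g) hU m n v hv0 hker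

end Groth.Agent.H1.SmPair
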