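import Mathlib
import Groth.Prelude.Def_AlgSpInf
import Groth.Agent.Lib.Helper5.Thick.FEtHom2
import Groth.Agent.Lib.Helper4.AlgSp.Inf
import Groth.Agent.Lib.Helper1.SmLift

set_option autoImplicit false
universe u

open AlgebraicGeometry CategoryTheory Limits MorphismProperty

namespace Groth.Agent.H1.SmSp

open _root_.AlgSp Groth.Agent.H5.Thick Groth.Agent.H4.AlgSpInf

variable {S : Scheme.{u}}

/-- sections of formally unramified morphisms are determined on a first order thickening. -/
theorem over_uniq {P V W : Over S} (p : P ⟶ V) (hp : FormallyUnramified p.left) (snd : W ⟶ V)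
    (hfo : MoreMor.IsFirstOrderThickening snd.left) (σ σ' : V ⟶ P) (h1 : snd ≫ σ = snd ≫ σ')
    (h2 : σ ≫ p = σ' ≫ p) : σ = σ' := by
  haveI : IsClosedImmersion snd.left := hfo.1.1
  apply Over.OverMorphism.ext
  refine FormallyUnramified.hom_ext snd.left (isNilpotent_ker_of_isFirstOrderThickening hfo)
    p.left ?_ ?_
  · rw [← Over.comp_left, ← Over.comp_left, h1]
  · rw [← Over.comp_left, ← Over.comp_left, h2]

variable {F G : Sp S} (a : F ⟶ G)

theorem rep_uniq {Q : MorphismProperty Scheme.{u}} (ha : RepWith Q a)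
    (hQ : Q ≤ @FormallyUnramified) {V W : Over S} (snd : W ⟶ V)
    (hfo : MoreMor.IsFirstOrderThickening snd.left)
    (l l' : (yon S).obj V ⟶ F) (h1 : (yon S).map snd ≫ l = (yon S).map snd ≫ l')
    (h2 : l ≫ a = l' ≫ a) : l = l' := by
  have psq := ha.1.isPullback (l ≫ a)
  have hp : FormallyUnramified (ha.1.snd (l ≫ a)).left := hQ _ (ha.2 _ _ _ psq)
  obtain ⟨σ, hσ⟩ := (yon S).map_surjective
    (psq.lift l ((yon S).map (𝟙 V)) (by rw [(yon S).map_id, Category.id_comp]))
  obtain ⟨σ', hσ'⟩ := (yon S).map_surjective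
    (psq.lift l' ((yon S).map (𝟙 V)) (by rw [(yon S).map_id, Category.id_comp, h2]))
  have e1 : (yon S).map σ ≫ ha.1.fst (l ≫ a) = l := by rw [hσ, psq.lift_fst]
  have e2 : (yon S).map σ' ≫ ha.1.fst (l ≫ a) = l' := by rw [hσ', psq.lift_fst]
  have e3 : σ ≫ ha.1.snd (l ≫ a) = 𝟙 V := by
    apply (yon S).map_injective
    rw [Functor.map_comp, hσ, psq.lift_snd]
  have e4 : σ' ≫ ha.1.snd (l ≫ a) = 𝟙 V := by
    apply (yon S).map_injective
    rw [Functor.map_comp, hσ', psq.lift_snd]
  have key : σ = σ' := by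
    refine over_uniq (ha.1.snd (l ≫ a)) hp snd hfo σ σ' ?_ (e3.trans e4.symm)
    apply (yon S).map_injective
    apply psq.hom_ext
    · rw [Functor.map_comp, Functor.map_comp, Category.assoc, Category.assoc, e1, e2, h1]
    · rw [← Functor.map_comp, ← Functor.map_comp, Category.assoc, Category.assoc, e3, e4]
  rw [← e1, ← e2, key]

lemma isFirstOrderThickening_j {f : F ⟶ G} (sq : InfSq f) :
    MoreMor.IsFirstOrderThickening sq.j.left :=
  isFirstOrderThickening_SpecMap_mk sq.I sq.sq_zero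

theorem isFormallyUnramifiedMor_of_repWith {Q : MorphismProperty Scheme.{u}} (ha : RepWith Q a)
    (hQ : Q ≤ @FormallyUnramified) : IsFormallyUnramifiedMor a := by
  rw [isFormallyUnramifiedMor_iff]
  intro sq l l' h1 h2
  exact rep_uniq a ha hQ sq.j (isFirstOrderThickening_j sq) l l' h1 h2

/-- sections of smooth morphisms extend along `Spec (A/I) → Spec A`, `I² = 0`. -/
theorem over_lift_smooth {f : F ⟶ G} (sq : InfSq f) {P : Over S} (p : P ⟶ sq.ptT')
    (hp : Smooth p.left) (s : sq.ptT ⟶ P) (hs : s ≫ p = sq.j) :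
    ∃ σ : sq.ptT' ⟶ P, sq.j ≫ σ = s ∧ σ ≫ p = 𝟙 _ := by
  haveI := hp
  have hs' : s.left ≫ p.left = sq.j.left := by rw [← Over.comp_left, hs]
  obtain ⟨l, hl1, hl2⟩ := Groth.Agent.H1.SmLift.isFormallySmoothHom_of_smooth p.left sq.A sq.I
    sq.sq_zero s.left (𝟙 _) (by rw [Category.comp_id]; exact hs'.symm)
  refine ⟨Over.homMk l ?_, ?_, ?_⟩
  · rw [← Over.w p, ← Category.assoc, hl2]
    exact Category.id_comp _
  · apply Over.OverMorphism.ext
    simpa using hl1
  · apply Over.OverMorphism.ext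
    simpa using hl2

/-- **representable smooth morphisms of fppf sheaves are formally smooth.** -/
theorem isFormallySmoothMor_of_repWith_smooth (ha : RepWith @Smooth a) :
    IsFormallySmoothMor a := by
  intro sq
  have psq := ha.1.isPullback sq.bot
  have hp : Smooth (ha.1.snd sq.bot).left := ha.2 _ _ _ psq
  obtain ⟨s, hs⟩ := (yon S).map_surjective (psq.lift sq.top ((yon S).map sq.j) sq.comm)
  have hs1 : (yon S).map s ≫ ha.1.fst sq.bot = sq.top := by rw [hs, psq.lift_fst]
  have hs2 : s ≫ ha.1.snd sq.bot = sq.j := by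
    apply (yon S).map_injective
    rw [Functor.map_comp, hs, psq.lift_snd]
  obtain ⟨σ, hσ1, hσ2⟩ := over_lift_smooth sq (ha.1.snd sq.bot) hp s hs2
  refine ⟨(yon S).map σ ≫ ha.1.fst sq.bot, ?_, ?_⟩
  · rw [← Category.assoc, ← Functor.map_comp, hσ1, hs1]
  · rw [Category.assoc, psq.w, ← Category.assoc, ← Functor.map_comp, hσ2, (yon S).map_id,
      Category.id_comp]

theorem isFormallyEtaleMor_of_repWith_etale (ha : RepWith @Etale a) : IsFormallyEtaleMor a := by
  rw [isFormallyEtaleMor_iff]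
  refine ⟨isFormallySmoothMor_of_repWith_smooth a ⟨ha.1, fun U V g fst snd h => ?_⟩,
    isFormallyUnramifiedMor_of_repWith a ha (fun _ _ f hf => ?_)⟩
  · have : Etale snd.left := ha.2 g fst snd h
    exact (inferInstance : Smooth snd.left)
  · have : Etale f := hf
    exact (inferInstance : FormallyUnramified f)

theorem main {F G : AlgSp.Sp S} (a : F ⟶ G) :
    (AlgSp.RepWith @Smooth a → AlgSp.IsFormallySmoothMor a) ∧
    (AlgSp.RepWith @Etale a → AlgSp.IsFormallyEtaleMor a) ∧
    (AlgSp.RepWith (@LocallyOfFiniteType ⊓ @FormallyUnramified) a →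
      AlgSp.IsFormallyUnramifiedMor a) :=
  ⟨isFormallySmoothMor_of_repWith_smooth a, isFormallyEtaleMor_of_repWith_etale a,
    fun ha => isFormallyUnramifiedMor_of_repWith a ha inf_le_right⟩

end Groth.Agent.H1.SmSp
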