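import Mathlib
import Groth.Prelude.Def_Curv2
import Groth.Agent.Lib.Helper1.SmoothReg2
import Groth.Agent.Lib.Helper1.DimFormula3
import Groth.Agent.Lib.Helper3.AG.FibreDim
import Groth.Agent.Lib.Helper5.AG.NormalDim1

/-! Helper1: smoothness of curves over a field at points with separable residue field. -/

set_option autoImplicit false
universe u
open CategoryTheory CategoryTheory.Limits AlgebraicGeometry IsLocalRing
attribute [local instance] Curv2.resAlgebra

namespace Groth.Agent.H1.SmoothReg

/-- statement shape of S13844. -/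
theorem s13844 (K : Type u) [Field K] (C : Scheme.{u}) [C.Over (Spec (CommRingCat.of K))]
    [IsIntegral C] [IsSeparated (C ↘ (Spec (CommRingCat.of K)))]
    [LocallyOfFinitePresentation (C ↘ (Spec (CommRingCat.of K)))]
    [QuasiCompact (C ↘ (Spec (CommRingCat.of K)))]
    (hN : ∀ x : C, IsIntegrallyClosed (C.presheaf.stalk x))
    (hdim : topologicalKrullDim C = 1) (S : Set C)
    (hS : ∀ x ∈ S, IsClosed ({x} : Set C) ∧ Algebra.IsSeparable K (C.residueField x))
    (hsm : ∀ x : C, x ∉ S → x ∈ (C ↘ (Spec (CommRingCat.of K))).smoothLocus) :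
    AlgebraicGeometry.Smooth (C ↘ (Spec (CommRingCat.of K))) := by
  haveI : LocallyOfFiniteType (C ↘ (Spec (CommRingCat.of K))) := inferInstance
  haveI : IsLocallyNoetherian C :=
    LocallyOfFiniteType.isLocallyNoetherian (C ↘ (Spec (CommRingCat.of K)))
  rw [← Scheme.Hom.smoothLocus_eq_top_iff, eq_top_iff]
  rintro x -
  by_cases hx : x ∈ S
  · have hreg : IsRegularLocalRing (C.presheaf.stalk x) :=
      Groth.Agent.H5.AG.stalk_regular_of_normal_dim_le_one C
        (fun y => ⟨inferInstance, hN y⟩) hdim.le x
    exact mem_smoothLocus_of_isRegularLocalRing_of_isSeparable K _ x hreg (hS x hx).2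
  · exact hsm x hx

/-- statement shape of S1556. -/
theorem s1556 (k : Type u) [Field k] (X : Scheme.{u}) [X.Over (Spec (CommRingCat.of k))]
    [IsIntegral X]
    [IsSeparated (X ↘ (Spec (CommRingCat.of k)))]
    [LocallyOfFinitePresentation (X ↘ (Spec (CommRingCat.of k)))]
    [QuasiCompact (X ↘ (Spec (CommRingCat.of k)))]
    (hdim : topologicalKrullDim X = 1) (x : X) (hx : IsClosed ({x} : Set X))
    [hsep : Algebra.IsSeparable k (X.residueField x)] :
    IsDiscreteValuationRing (X.presheaf.stalk x) ↔
      x ∈ (X ↘ (Spec (CommRingCat.of k))).smoothLocus := by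
  haveI : LocallyOfFiniteType (X ↘ (Spec (CommRingCat.of k))) := inferInstance
  haveI : IsLocallyNoetherian X :=
    LocallyOfFiniteType.isLocallyNoetherian (X ↘ (Spec (CommRingCat.of k)))
  constructor
  · intro hdvr
    have hreg : IsRegularLocalRing (X.presheaf.stalk x) := inferInstance
    exact mem_smoothLocus_of_isRegularLocalRing_of_isSeparable k _ x hreg hsep
  · intro hsm
    have hreg := isRegularLocalRing_of_mem_smoothLocus k _ x hsm
    have hle : ringKrullDim (X.presheaf.stalk x) ≤ 1 :=
      (Groth.Agent.H3.FibreDim.stalk_dim_le X x).trans hdim.le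
    have hne : genericPoint X ≠ x := by
      intro h
      have huniv : (Set.univ : Set X) = {x} := by
        rw [← (show closure {genericPoint X} = Set.univ from genericPoint_spec X), h,
          hx.closure_eq]
      have hsub : Subsingleton X := by
        refine ⟨fun a b => ?_⟩
        have ha : a ∈ ({x} : Set X) := huniv ▸ Set.mem_univ a
        have hb : b ∈ ({x} : Set X) := huniv ▸ Set.mem_univ b
        rw [Set.mem_singleton_iff.mp ha, Set.mem_singleton_iff.mp hb]
      have : Subsingleton (TopologicalSpace.IrreducibleCloseds X) := ⟨fun a b => by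
        apply TopologicalSpace.IrreducibleCloseds.ext
        obtain ⟨p, hp⟩ := a.isIrreducible.nonempty
        obtain ⟨q, hq⟩ := b.isIrreducible.nonempty
        ext z
        constructor
        · intro _; rwa [Subsingleton.elim z q]
        · intro _; rwa [Subsingleton.elim z p]⟩
      have h0 : topologicalKrullDim X ≤ 0 := by
        unfold topologicalKrullDim
        exact Order.krullDim_nonpos_of_subsingleton
      rw [hdim] at h0
      exact absurd h0 (by decide)
    have hlt := Groth.Agent.H1.DimFormula.ringKrullDim_stalk_lt_of_specializes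
      ((genericPoint_spec X).specializes (Set.mem_univ x)) hne
    have hge : (1 : WithBot ℕ∞) ≤ ringKrullDim (X.presheaf.stalk x) := by
      have h0 : (0 : WithBot ℕ∞) ≤ ringKrullDim (X.presheaf.stalk (genericPoint X)) :=
        ringKrullDim_nonneg_of_nontrivial
      have hpos := lt_of_le_of_lt h0 hlt
      obtain ⟨n, hn⟩ : ∃ n : ℕ∞, ringKrullDim (X.presheaf.stalk x) = n := by
        cases h : ringKrullDim (X.presheaf.stalk x) with
        | bot => rw [h] at hpos; exact absurd hpos (by simp)
        | coe n => exact ⟨n, rfl⟩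
      rw [hn] at hpos ⊢
      have h1 : (1 : ℕ∞) ≤ n := Order.one_le_iff_pos.mpr (by exact_mod_cast hpos)
      exact_mod_cast h1
    have h1 : ringKrullDim (X.presheaf.stalk x) = 1 := le_antisymm hle hge
    have h2 := (IsRegularLocalRing.iff_finrank_cotangentSpace (R := X.presheaf.stalk x)).mp hreg
    rw [h1] at h2
    exact IsLocalRing.finrank_CotangentSpace_eq_one_iff.mp (by exact_mod_cast h2)

end Groth.Agent.H1.SmoothReg
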