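import Mathlib
import Groth.Agent.Lib.Helper5.JacDim.A
import Groth.Agent.Lib.Helper5.CA.NG21
import Groth.Agent.Lib.Helper5.CA.PerfGR
import Groth.Agent.Lib.Helper5.EtPrime.C
import Groth.Agent.Lib.Helper1.DimFormula3

/-! Helper1: a reduced finite type algebra over a perfect field with projective Kähler differentials
is smooth. -/

set_option autoImplicit false
universe u
open TensorProduct IsLocalRing KaehlerDifferential

namespace Groth.Agent.H1.SmoothProjKaehler

variable (k A : Type u) [Field k] [CommRing A] [Algebra k A] [Algebra.FiniteType k A]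

/-- at a minimal prime of a reduced ring, the residue field is formally étale. -/
theorem formallyEtale_residueField_of_minimal [_root_.IsReduced A] (η : Ideal A) [η.IsPrime]
    (hη : η ∈ minimalPrimes A) : Algebra.FormallyEtale A η.ResidueField := by
  haveI : Ring.KrullDimLE 0 (Localization.AtPrime η) := .of_isLocalization _ hη _
  have hF : IsField (Localization.AtPrime η) := Ring.KrullDimLE.isField_of_isReduced
  have hmax : maximalIdeal (Localization.AtPrime η) = ⊥ :=
    (IsLocalRing.isField_iff_maximalIdeal_eq.mp hF)
  haveI : Algebra.FormallyEtale (Localization.AtPrime η) η.ResidueField := by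
    rw [Algebra.FormallyEtale.iff_of_surjective (R := Localization.AtPrime η)
      (S := η.ResidueField) IsLocalRing.residue_surjective]
    have : RingHom.ker (algebraMap (Localization.AtPrime η) η.ResidueField) = ⊥ := by
      rw [← hmax]
      exact IsLocalRing.ker_residue
    rw [this]
    show (⊥ : Ideal _) * ⊥ = ⊥
    exact Ideal.bot_mul ⊥
  haveI : Algebra.FormallyEtale A (Localization.AtPrime η) :=
    Algebra.FormallyEtale.of_isLocalization η.primeCompl
  exact Algebra.FormallyEtale.comp A (Localization.AtPrime η) η.ResidueField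

/-- at a minimal prime `η` of a reduced finite type algebra over a perfect field, the fibre of
`Ω_{A/k}` has dimension `trdeg κ(η)`. -/
theorem finrank_fiber_minimal [PerfectField k] [_root_.IsReduced A] (η : Ideal A) [η.IsPrime]
    (hη : η ∈ minimalPrimes A) :
    Module.finrank η.ResidueField (η.ResidueField ⊗[A] Ω[A⁄k]) =
      Cardinal.toNat (Algebra.trdeg k η.ResidueField) := by
  haveI := formallyEtale_residueField_of_minimal A η hη
  haveI : Algebra.EssFiniteType k η.ResidueField := Algebra.EssFiniteType.comp k A η.ResidueField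
  haveI : Algebra.IsGeometricallyReduced k η.ResidueField :=
    Groth.Agent.H5.isGeometricallyReduced_of_perfectField k _
  rw [(KaehlerDifferential.tensorKaehlerEquivOfFormallyEtale k A η.ResidueField).finrank_eq]
  exact Groth.Agent.H5.EtPrime.finrank_eq_of_isGeometricallyReduced k η.ResidueField

/-- statement shape of S7623. -/
theorem s7623 [PerfectField k] [_root_.IsReduced A] [Module.Projective A Ω[A⁄k]] :
    Algebra.Smooth k A := by
  haveI : IsNoetherianRing A := Algebra.FiniteType.isNoetherianRing k A
  haveI : Algebra.FormallySmooth k k := Algebra.FormallySmooth.inst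
  have hfs : Algebra.FormallySmooth k A := by
    refine ((H5.NG.tfae4579 (k₀ := k) (k := k) (C := A)).out 2 0).mp ?_
    intro m hm
    haveI := hm.isPrime
    apply Groth.Agent.H5.JacDim.formallySmooth_localization_of_dim k A m
    obtain ⟨η, hηm, hηmin, hdim⟩ :=
      Groth.Agent.H1.DimFormula.exists_minimal_ringKrullDim_quotient_eq k A ⟨m, inferInstance⟩
    have h0 : ringKrullDim (A ⧸ m) = 0 := by
      letI := Ideal.Quotient.field m
      exact ringKrullDim_eq_zero_of_field _
    rw [show (⟨m, inferInstance⟩ : PrimeSpectrum A).asIdeal = m from rfl, h0, add_zero] at hdim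
    obtain ⟨r, hr1, hr2, -⟩ := Groth.Agent.H1.DimFormula.localDim_primeSpectrum (k := k) η.asIdeal
    have hrank : Module.finrank m.ResidueField (m.ResidueField ⊗[A] Ω[A⁄k]) = r := by
      have h1 := Module.rankAtStalk_eq_of_le_of_finite_of_flat (R := A) Ω[A⁄k]
        (p := η) (q := ⟨m, inferInstance⟩) hηm
      have h2 := Ideal.finrank_fiber_eq_rankAtStalk (M := Ω[A⁄k]) m
      have h3 := Ideal.finrank_fiber_eq_rankAtStalk (M := Ω[A⁄k]) η.asIdeal
      have h4 := finrank_fiber_minimal k A η.asIdeal hηmin
      rw [hr1] at h4
      have h5 : Module.finrank m.ResidueField (m.ResidueField ⊗[A] Ω[A⁄k]) =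
          Module.finrank η.asIdeal.ResidueField (η.asIdeal.ResidueField ⊗[A] Ω[A⁄k]) := by
        change Module.finrank m.ResidueField (m.Fiber Ω[A⁄k]) =
          Module.finrank η.asIdeal.ResidueField (η.asIdeal.Fiber Ω[A⁄k])
        rw [h2, h3]
        exact h1.symm
      rw [h5, h4]
      simp
    rw [hrank, IsLocalization.AtPrime.ringKrullDim_eq_height m, ← hdim, hr2]
  exact ⟨hfs, Algebra.FinitePresentation.of_finiteType.mp inferInstance⟩

end Groth.Agent.H1.SmoothProjKaehler
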