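import Mathlib
import Groth.Agent.Lib.Helper5.FSm.FlatFibre
import Groth.Agent.Lib.Helper5.Jac.Jac3
import Groth.Agent.Lib.Helper5.CA.FSField
import Groth.Agent.Lib.Helper8.Japanese.SepGR
import Groth.Agent.Lib.Helper1.RegDer

/-! Helper1: a flat local homomorphism with regular closed fibre and trivial residue field extension
is formally smooth; sections of regular schemes over Dedekind bases land in the smooth locus. -/

set_option autoImplicit false
universe u
open IsLocalRing

namespace Groth.Agent.H1.SmoothSection

theorem isGeometricallyReduced_of_surjective (k L : Type*) [Field k] [Field L] [Algebra k L]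
    (h : Function.Surjective (algebraMap k L)) : Algebra.IsGeometricallyReduced k L := by
  haveI : Algebra.IsSeparable k L := ⟨fun x => by
    obtain ⟨a, rfl⟩ := h x
    exact isSeparable_algebraMap a⟩
  exact Groth.Agent.H8.Jap.isGeometricallyReduced_of_isSeparable k L

theorem formallySmooth_of_flat_of_regular_fibre {A B : Type u} [CommRing A] [CommRing B]
    [IsLocalRing A] [IsLocalRing B] [IsNoetherianRing A] [IsNoetherianRing B] [Algebra A B]
    [IsLocalHom (algebraMap A B)] [Module.Flat A B] [Algebra.EssFiniteType A B]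
    [hreg : IsRegularLocalRing (B ⧸ (maximalIdeal A).map (algebraMap A B))]
    (hres : Function.Surjective (ResidueField.map (algebraMap A B))) :
    Algebra.FormallySmooth A B := by
  letI : Field (A ⧸ maximalIdeal A) := Ideal.Quotient.field (maximalIdeal A)
  have hmax : (maximalIdeal B).map (Ideal.Quotient.mk ((maximalIdeal A).map (algebraMap A B))) =
      maximalIdeal (B ⧸ (maximalIdeal A).map (algebraMap A B)) :=
    IsLocalRing.map_maximalIdeal_of_surjective _ Ideal.Quotient.mk_surjective
  have hsurj : Function.Surjective (algebraMap (A ⧸ maximalIdeal A)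
      (ResidueField (B ⧸ (maximalIdeal A).map (algebraMap A B)))) := by
    intro y
    obtain ⟨q, rfl⟩ := residue_surjective y
    obtain ⟨b, rfl⟩ := Ideal.Quotient.mk_surjective q
    obtain ⟨a', ha'⟩ := hres (residue B b)
    obtain ⟨a, rfl⟩ := residue_surjective a'
    rw [ResidueField.map_residue] at ha'
    refine ⟨Ideal.Quotient.mk _ a, ?_⟩
    rw [IsScalarTower.algebraMap_apply (A ⧸ maximalIdeal A)
      (B ⧸ (maximalIdeal A).map (algebraMap A B))
      (ResidueField (B ⧸ (maximalIdeal A).map (algebraMap A B)))]
    show residue _ (Ideal.Quotient.mk _ (algebraMap A B a)) = residue _ (Ideal.Quotient.mk _ b)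
    rw [← sub_eq_zero, ← map_sub, ← map_sub, residue_eq_zero_iff, ← hmax]
    apply Ideal.mem_map_of_mem
    rw [← residue_eq_zero_iff, map_sub, ha', sub_self]
  haveI := isGeometricallyReduced_of_surjective _ _ hsurj
  have hadic := ((Groth.Agent.H5.FSField.tfae (A ⧸ maximalIdeal A)
    (B ⧸ (maximalIdeal A).map (algebraMap A B))).out 0 3).mpr hreg
  rw [← hmax] at hadic
  have h1 := Groth.Agent.H5.FSm.isAdicFormallySmooth_of_flat_of_fibre hadic
  exact Groth.Agent.H5.Jac.formallySmooth_of_isAdicFormallySmooth_of_essFiniteType h1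


/-- if a local homomorphism `φ : O → A` from a local principal ideal domain to a regular local ring
admits a local retraction, then the closed fibre `A/𝔪_O A` is regular. -/
theorem isRegularLocalRing_fibre_of_retraction {O A : Type u} [CommRing O] [CommRing A]
    [IsLocalRing O] [IsDomain O] [IsPrincipalIdealRing O] [IsRegularLocalRing A]
    (φ : O →+* A) [IsLocalHom φ] (σ : A →+* O) [IsLocalHom σ] (hσ : ∀ a, σ (φ a) = a) :
    IsRegularLocalRing (A ⧸ (maximalIdeal O).map φ) := by
  obtain ⟨π, hπ⟩ : ∃ π, maximalIdeal O = Ideal.span {π} :=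
    ⟨_, (Submodule.IsPrincipal.span_singleton_generator (maximalIdeal O)).symm⟩
  have hmap : (maximalIdeal O).map φ = Ideal.span {φ π} := by
    rw [hπ, Ideal.map_span, Set.image_singleton]
  rw [hmap]
  by_cases h0 : π = 0
  · have : Ideal.span ({φ π} : Set A) = ⊥ := by
      rw [h0, map_zero]; exact Ideal.span_singleton_eq_bot.mpr rfl
    rw [this]
    exact IsRegularLocalRing.of_ringEquiv (RingEquiv.quotientBot A).symm
  · have hπm : π ∈ maximalIdeal O := by rw [hπ]; exact Ideal.mem_span_singleton_self π
    have hφπ : φ π ∈ maximalIdeal A := map_maximalIdeal_le φ (Ideal.mem_map_of_mem φ hπm)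
    refine Groth.Agent.H1.RegDer.isRegularLocalRing_quotient_of_not_mem_sq A (φ π) hφπ ?_
    intro hsq
    have h1 : σ (φ π) ∈ maximalIdeal O ^ 2 := by
      have h2 : (maximalIdeal A ^ 2).map σ ≤ maximalIdeal O ^ 2 := by
        rw [Ideal.map_pow]
        exact Ideal.pow_right_mono (map_maximalIdeal_le σ) 2
      exact h2 (Ideal.mem_map_of_mem σ hsq)
    rw [hσ, hπ, Ideal.span_singleton_pow, Ideal.mem_span_singleton'] at h1
    obtain ⟨c, hc⟩ := h1
    have h3 : π * (c * π - 1) = 0 := by
      have : c * π ^ 2 = π := hc
      linear_combination this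
    rcases mul_eq_zero.mp h3 with h4 | h4
    · exact h0 h4
    · have hu : IsUnit π := IsUnit.of_mul_eq_one_right c (by
        have := sub_eq_zero.mp h4
        exact this)
      exact (mem_maximalIdeal π).mp hπm hu

/-- variant with a retraction only up to an isomorphism of the base. -/
theorem isRegularLocalRing_fibre_of_section {O₁ O₂ A : Type u} [CommRing O₁] [CommRing O₂]
    [CommRing A] [IsLocalRing O₁] [IsDomain O₁] [IsPrincipalIdealRing O₁] [IsLocalRing O₂]
    [IsRegularLocalRing A]
    (φ : O₁ →+* A) [IsLocalHom φ] (σ : A →+* O₂) [IsLocalHom σ]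
    (hbij : Function.Bijective (σ.comp φ)) :
    IsRegularLocalRing (A ⧸ (maximalIdeal O₁).map φ) := by
  let e : O₁ ≃+* O₂ := RingEquiv.ofBijective (σ.comp φ) hbij
  let τ : A →+* O₁ := e.symm.toRingHom.comp σ
  haveI : IsLocalHom τ := by
    constructor
    intro a ha
    have h1 : IsUnit (e (τ a)) := ha.map e
    have h2 : e (τ a) = σ a := e.apply_symm_apply (σ a)
    rw [h2] at h1
    exact h1.of_map
  refine isRegularLocalRing_fibre_of_retraction φ τ (fun a => ?_)
  show e.symm (σ (φ a)) = a
  exact e.symm_apply_apply a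

end Groth.Agent.H1.SmoothSection
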