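import Mathlib
import Groth.Agent.Lib.Helper1.SmoothSection

/-! Helper1: sections of regular schemes flat over Dedekind bases land in the smooth locus. -/

set_option autoImplicit false
universe u
open CategoryTheory CategoryTheory.Limits AlgebraicGeometry IsLocalRing

namespace Groth.Agent.H1.SmoothSection

noncomputable section

/-- the local rings of the spectrum of a Dedekind domain are principal ideal domains. -/
theorem isPrincipalIdealRing_stalk_dedekind (R : Type u) [CommRing R] [IsDedekindDomain R]
    (y : Spec (CommRingCat.of R)) :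
    IsPrincipalIdealRing ((Spec (CommRingCat.of R)).presheaf.stalk y) := by
  letI : Algebra R ((Spec (CommRingCat.of R)).presheaf.stalk y) :=
    inferInstanceAs (Algebra R ((Spec.structureSheaf R).presheaf.stalk y))
  haveI : IsLocalization.AtPrime ((Spec (CommRingCat.of R)).presheaf.stalk y) y.asIdeal :=
    inferInstanceAs (IsLocalization.AtPrime ((Spec.structureSheaf R).presheaf.stalk y) y.asIdeal)
  haveI : IsDedekindDomain ((Spec (CommRingCat.of R)).presheaf.stalk y) :=
    IsLocalization.AtPrime.isDedekindDomain (A := R) y.asIdeal _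
  have hfin : {I : Ideal ((Spec (CommRingCat.of R)).presheaf.stalk y) | I.IsMaximal}.Finite := by
    have : {I : Ideal ((Spec (CommRingCat.of R)).presheaf.stalk y) | I.IsMaximal} =
        {IsLocalRing.maximalIdeal _} := by
      ext I
      simp only [Set.mem_ofPred_eq, Set.mem_singleton_iff]
      exact ⟨fun hI => IsLocalRing.eq_maximalIdeal hI, fun hI => hI ▸ inferInstance⟩
    rw [this]
    exact Set.finite_singleton _
  exact IsPrincipalIdealRing.of_finite_maximals hfin

/-- statement shape of S11100. -/
theorem s11100 {R : Type u} [CommRing R] [IsDedekindDomain R]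
    {X : Scheme.{u}} (p : X ⟶ Spec (CommRingCat.of R)) [Flat p] [LocallyOfFinitePresentation p]
    (hreg : ∀ x : X, IsRegularLocalRing (X.presheaf.stalk x))
    (s : Spec (CommRingCat.of R) ⟶ X) (hs : s ≫ p = 𝟙 _) (t : Spec (CommRingCat.of R)) :
    s.base t ∈ p.smoothLocus := by
  haveI : LocallyOfFiniteType p := inferInstance
  rw [Scheme.Hom.mem_smoothLocus]
  haveI := hreg (s.base t)
  haveI := isPrincipalIdealRing_stalk_dedekind R (p (s.base t))
  haveI : IsIso (s ≫ p) := by rw [hs]; infer_instance
  have hcomp : (s ≫ p).stalkMap t = p.stalkMap (s t) ≫ s.stalkMap t :=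
    Scheme.Hom.stalkMap_comp s p t
  have hbij : Function.Bijective ((s.stalkMap t).hom.comp (p.stalkMap (s.base t)).hom) := by
    have h1 : Function.Bijective ((s ≫ p).stalkMap t).hom :=
      ConcreteCategory.bijective_of_isIso ((s ≫ p).stalkMap t)
    rw [hcomp] at h1
    exact h1
  haveI : IsRegularLocalRing (X.presheaf.stalk (s.base t) ⧸
      (maximalIdeal ((Spec (CommRingCat.of R)).presheaf.stalk (p (s.base t)))).map
        (p.stalkMap (s.base t)).hom) :=
    isRegularLocalRing_fibre_of_section (p.stalkMap (s.base t)).hom (s.stalkMap t).hom hbij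
  have hflat := Flat.stalkMap p (s.base t)
  have hft := LocallyOfFiniteType.stalkMap p (s.base t)
  haveI : IsNoetherianRing ((Spec (CommRingCat.of R)).presheaf.stalk (p (s.base t))) :=
    inferInstance
  algebraize [(p.stalkMap (s.base t)).hom]
  haveI : IsLocalHom (algebraMap ((Spec (CommRingCat.of R)).presheaf.stalk (p (s.base t)))
      (X.presheaf.stalk (s.base t))) :=
    inferInstanceAs (IsLocalHom (p.stalkMap (s.base t)).hom)
  refine formallySmooth_of_flat_of_regular_fibre ?_
  -- residue fields
  intro y
  have h2 : Function.Bijective (ResidueField.map ((s.stalkMap t).hom.comp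
      (p.stalkMap (s.base t)).hom)) := by
    let e := RingEquiv.ofBijective _ hbij
    exact (ResidueField.mapEquiv e).bijective
  obtain ⟨a, ha⟩ := h2.2 (ResidueField.map (s.stalkMap t).hom y)
  refine ⟨a, ?_⟩
  apply (ResidueField.map (s.stalkMap t).hom).injective
  rw [← ha, ← RingHom.comp_apply, ← ResidueField.map_comp]
  rfl

end

end Groth.Agent.H1.SmoothSection
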