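import Mathlib
import Groth.Agent.Lib.Helper1.DVRUnif
import Groth.Agent.Lib.Helper6.GorQuot
import Groth.Agent.Lib.Helper7.GorBC
import Groth.Agent.S0342

/-!
# The special fibre of a regular flat scheme over a DVR has Gorenstein local rings
-/

set_option autoImplicit false

universe u

open AlgebraicGeometry CategoryTheory Limits IsLocalRing

namespace Groth.Agent.H1.SpFibGor

open Groth.Agent.H1.DVRUnif Groth.Agent.H1.FibreStalk

section
variable {R : Type u} [CommRing R] [IsLocalRing R]

/-- the base change to the residue field of a local ring is isomorphic to the scheme-theoretic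
fibre over the closed point -/
theorem exists_iso_fiber {X : Scheme.{u}} (f : X ⟶ Spec (CommRingCat.of R)) :
    ∃ (y₀ : Spec (CommRingCat.of R))
      (m : pullback f (Spec.map (CommRingCat.ofHom
        (algebraMap R (IsLocalRing.ResidueField R)))) ⟶ f.fiber y₀),
      IsIso m ∧ y₀ = IsLocalRing.closedPoint R := by
  obtain ⟨t, ht⟩ : ∃ t : Spec (CommRingCat.of (IsLocalRing.ResidueField R)) ⟶
      Spec (CommRingCat.of R),
      t = Spec.map (CommRingCat.ofHom (algebraMap R (IsLocalRing.ResidueField R))) := ⟨_, rfl⟩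
  rw [← ht]
  have htci : IsClosedImmersion t := by
    rw [ht]
    exact IsClosedImmersion.spec_of_surjective _ IsLocalRing.residue_surjective
  have hy : t (IsLocalRing.closedPoint (IsLocalRing.ResidueField R)) =
      IsLocalRing.closedPoint R := by
    rw [ht]
    exact IsLocalRing.comap_closedPoint (IsLocalRing.residue R)
  refine ⟨t (IsLocalRing.closedPoint (IsLocalRing.ResidueField R)), ?_⟩
  let c : Spec (CommRingCat.of (IsLocalRing.ResidueField R)) ⟶
      Spec ((Spec (CommRingCat.of R)).residueField
        (t (IsLocalRing.closedPoint (IsLocalRing.ResidueField R)))) :=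
    Spec.map ((Spec (CommRingCat.of R)).descResidueField (Scheme.stalkClosedPointTo t))
  have hc : c ≫ (Spec (CommRingCat.of R)).fromSpecResidueField
      (t (IsLocalRing.closedPoint (IsLocalRing.ResidueField R))) = t :=
    Scheme.descResidueField_stalkClosedPointTo_fromSpecResidueField _ _ t
  let m : pullback f t ⟶
      f.fiber (t (IsLocalRing.closedPoint (IsLocalRing.ResidueField R))) :=
    pullback.lift (pullback.fst f t) (pullback.snd f t ≫ c)
      (by rw [Category.assoc, hc, pullback.condition])
  have sq : IsPullback m (pullback.snd f t) (f.fiberToSpecResidueField _) c := by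
    refine IsPullback.of_right (h₁₂ := f.fiberι _)
      (h₂₂ := (Spec (CommRingCat.of R)).fromSpecResidueField _) ?_
      (pullback.lift_snd _ _ _) (IsPullback.of_hasPullback f
        ((Spec (CommRingCat.of R)).fromSpecResidueField _))
    have h1 : m ≫ f.fiberι _ = pullback.fst f t := pullback.lift_fst _ _ _
    rw [h1, hc]
    exact IsPullback.of_hasPullback f t
  haveI hcf : Flat c := flat_of_fields
    (K := IsLocalRing.ResidueField R)
    (K₀ := (Spec (CommRingCat.of R)).residueField
      (t (IsLocalRing.closedPoint (IsLocalRing.ResidueField R)))) c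
  haveI hcs : Surjective c := surjective_of_fields
    (K := IsLocalRing.ResidueField R)
    (K₀ := (Spec (CommRingCat.of R)).residueField
      (t (IsLocalRing.closedPoint (IsLocalRing.ResidueField R)))) c
  haveI : Mono t := inferInstance
  haveI : Mono c := mono_of_mono_fac hc
  haveI : IsIso c := Flat.isIso_of_surjective_of_mono c
  exact ⟨m, sq.isIso_fst_of_isIso, hy⟩

end

theorem main (R : Type u) [CommRing R] [IsDomain R] [IsDiscreteValuationRing R]
    (X : Scheme.{u}) (p : X ⟶ Spec (CommRingCat.of R)) [Flat p]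
    (hreg : ∀ x : X, IsRegularLocalRing (X.presheaf.stalk x))
    (x : ↥(pullback p (Spec.map (CommRingCat.ofHom
      (algebraMap R (IsLocalRing.ResidueField R)))))) :
    LocCoh.IsGorensteinLocalRing ((pullback p (Spec.map (CommRingCat.ofHom
      (algebraMap R (IsLocalRing.ResidueField R))))).presheaf.stalk x) := by
  obtain ⟨y₀, m, hm, hy₀⟩ := exists_iso_fiber p
  haveI := hm
  refine (Groth.Agent.H7.GorBC.gor_stalk_iff_of_iso (asIso m) x).mp ?_
  change LocCoh.IsGorensteinLocalRing ((p.fiber y₀).presheaf.stalk (m x))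
  obtain ⟨a, ha⟩ : ∃ a : p.fiber y₀, a = m x := ⟨_, rfl⟩
  rw [← ha]
  obtain ⟨x', hx'⟩ : ∃ x' : X, p.fiberι y₀ a = x' := ⟨_, rfl⟩
  have hy : p x' = y₀ := by
    have h1 : x' ∈ Set.range (p.fiberι y₀) := ⟨a, hx'⟩
    rw [Scheme.Hom.range_fiberι] at h1
    exact h1
  refine (Groth.Agent.H7.GorBC.gor_stalk_fiber_congr p x' y₀ hy a hx').mpr ?_
  refine (Groth.Agent.H7.GorFib.gor_iff_of_ringEquiv (fiberStalkEquiv p x')).mp ?_
  have hxI : (p x' : PrimeSpectrum R).asIdeal = maximalIdeal R := by
    rw [hy, hy₀]
    rfl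
  obtain ⟨ϖ, hϖ⟩ := IsDiscreteValuationRing.exists_irreducible R
  have hspan : maximalIdeal R = Ideal.span {ϖ} :=
    (IsDiscreteValuationRing.irreducible_iff_uniformizer ϖ).mp hϖ
  obtain ⟨τ, hτ⟩ : ∃ τ : R →+* (Spec (CommRingCat.of R)).presheaf.stalk (p x'),
      τ = ((Spec (CommRingCat.of R)).presheaf.germ ⊤ (p x') trivial).hom.comp
        (Scheme.ΓSpecIso (CommRingCat.of R)).inv.hom := ⟨_, rfl⟩
  have hmax : maximalIdeal ((Spec (CommRingCat.of R)).presheaf.stalk (p x')) =
      Ideal.span {τ ϖ} := by
    rw [← map_toStalk_eq R (p x'), hxI, hspan, Ideal.map_span, Set.image_singleton, hτ]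
  have hI : (maximalIdeal ((Spec (CommRingCat.of R)).presheaf.stalk (p x'))).map
      (p.stalkMap x').hom = Ideal.span {(p.stalkMap x').hom (τ ϖ)} := by
    rw [hmax, Ideal.map_span, Set.image_singleton]
  refine (Groth.Agent.H7.GorFib.gor_iff_of_ringEquiv (Ideal.quotEquivOfEq hI)).mpr ?_
  haveI := hreg x'
  have hmem : (p.stalkMap x').hom (τ ϖ) ∈ maximalIdeal (X.presheaf.stalk x') := by
    have h1 : τ ϖ ∈ maximalIdeal ((Spec (CommRingCat.of R)).presheaf.stalk (p x')) := by
      rw [hmax]
      exact Ideal.subset_span rfl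
    rw [IsLocalRing.mem_maximalIdeal, mem_nonunits_iff] at h1 ⊢
    intro hu
    exact h1 (isUnit_of_map_unit (p.stalkMap x').hom _ hu)
  have hτinj : Function.Injective τ := by
    rw [hτ]
    exact toStalk_injective R (p x')
  have hne : τ ϖ ≠ 0 := fun h => hϖ.ne_zero (hτinj (by rw [h, map_zero]))
  have hdom : IsDomain ((Spec (CommRingCat.of R)).presheaf.stalk (p x')) := by
    letI k : Algebra R ((Spec (CommRingCat.of R)).presheaf.stalk (p x')) :=
      StructureSheaf.stalkAlgebra R (p x')
    haveI hloc : IsLocalization.AtPrime ((Spec (CommRingCat.of R)).presheaf.stalk (p x'))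
        (p x' : PrimeSpectrum R).asIdeal := StructureSheaf.IsLocalization.to_stalk R (p x')
    exact IsLocalization.isDomain_of_le_nonZeroDivisors
      ((Spec (CommRingCat.of R)).presheaf.stalk (p x'))
      (Ideal.primeCompl_le_nonZeroDivisors (p x' : PrimeSpectrum R).asIdeal)
  have hreg1 : IsSMulRegular ((Spec (CommRingCat.of R)).presheaf.stalk (p x')) (τ ϖ) :=
    isLeftRegular_iff.mp (IsRegular.of_ne_zero hne).left
  have hreg2 : IsSMulRegular (X.presheaf.stalk x') ((p.stalkMap x').hom (τ ϖ)) := by
    have hfl : (p.stalkMap x').hom.Flat := Flat.stalkMap p x'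
    algebraize [(p.stalkMap x').hom]
    exact IsSMulRegular.of_flat hreg1
  exact (Groth.Agent.H6.CR.gorenstein_quot_iff _ hmem hreg2).mp (Groth.Agent.S0342.result _)

end Groth.Agent.H1.SpFibGor
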