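import Mathlib
import Groth.Agent.Lib.Helper8.Hens.IndEtale
import Groth.Agent.Lib.Helper8.Hens.FibreRing
import Groth.Agent.H4.IndEtTrans

/-! Helper1: algebra maps out of an ind-étale algebra (elementwise criterion `Crit`) into henselian
local rings: uniqueness modulo the maximal ideal, existence of lifts of residue-field points, and
existence of points in separably closed fields.  Applied to strict henselizations. -/

set_option autoImplicit false
universe u
open CategoryTheory CategoryTheory.Limits IsLocalRing TensorProduct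

namespace Groth.Agent.H1.SpSt

open Groth.Agent.H4.IndEtCrit Groth.Agent.H4.IndEtTrans Groth.Agent.H8.Hens

section Uniq
variable {A B : Type u} [CommRing A] [CommRing B] [Algebra A B]

/-- Two `A`-algebra maps from an ind-étale algebra into a local ring agreeing modulo the maximal
ideal are equal. -/
theorem hom_ext_of_crit (h : Crit A B) {T : Type u} [CommRing T] [IsLocalRing T] [Algebra A T]
    (φ₁ φ₂ : B →ₐ[A] T) (hres : ∀ b, φ₁ b - φ₂ b ∈ maximalIdeal T) : φ₁ = φ₂ := by
  ext b
  obtain ⟨C, _, _, _, g, c, rfl⟩ := h.lift b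
  have h1 : φ₁.comp g = φ₂.comp g :=
    algHom_ext_of_sub_mem_maximalIdeal (φ₁.comp g) (φ₂.comp g) (fun x => hres (g x))
  exact DFunLike.congr_fun h1 c

end Uniq

section Exist
variable {A B : Type u} [CommRing A] [CommRing B] [Algebra A B]
variable {T : Type u} [CommRing T] [HenselianLocalRing T] [Algebra A T]
variable (ψ : B →ₐ[A] ResidueField T)

theorem exists_lam (C : Type u) [CommRing C] [Algebra A C] [Algebra.Etale A C] (g : C →ₐ[A] B) :
    ∃ l : C →ₐ[A] T, ∀ x, residue T (l x) = ψ (g x) := by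
  obtain ⟨l, hl⟩ := exists_algHom_of_henselian (ψ.comp g) (AlgHom.id A (ResidueField T))
  exact ⟨l, fun x => by rw [hl x]; rfl⟩

theorem lam_unique (C : Type u) [CommRing C] [Algebra A C] [Algebra.Etale A C] (g : C →ₐ[A] B)
    (l l' : C →ₐ[A] T) (hl : ∀ x, residue T (l x) = ψ (g x))
    (hl' : ∀ x, residue T (l' x) = ψ (g x)) : l = l' := by
  apply algHom_ext_of_sub_mem_maximalIdeal
  intro x
  rw [← residue_eq_zero_iff, map_sub, hl x, hl' x, sub_self]

noncomputable def lam (X : EtObj A B) : X.R →ₐ[A] T := (exists_lam ψ X.R X.g).choose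

theorem lam_spec (X : EtObj A B) (y : X.R) : residue T (lam ψ X y) = ψ (X.g y) :=
  (exists_lam ψ X.R X.g).choose_spec y

theorem lam_comp {X Y : EtObj A B} (f : X ⟶ Y) : (lam ψ Y).comp f.1 = lam ψ X := by
  apply lam_unique ψ X.R X.g
  · intro y
    rw [AlgHom.comp_apply, lam_spec]
    exact congrArg ψ (DFunLike.congr_fun f.2 y)
  · exact lam_spec ψ X

noncomputable def liftCocone : Cocone (Dfun A B) where
  pt := Under.mk (CommRingCat.ofHom (algebraMap A T))
  ι :=
    { app := fun X => Under.homMk (CommRingCat.ofHom (lam ψ X).toRingHom) (by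
        ext a
        exact (lam ψ X).commutes a)
      naturality := fun X Y f => by
        ext y
        exact DFunLike.congr_fun (lam_comp ψ f) y }

/-- A residue-field point of an ind-étale algebra lifts to a henselian local ring. -/
theorem exists_lift_of_crit (h : Crit A B) :
    ∃ φ : B →ₐ[A] T, ∀ b, residue T (φ b) = ψ b := by
  let d := (isCol h).desc (liftCocone ψ)
  have hfac : ∀ X : EtObj A B, (cocone A B).ι.app X ≫ d = (liftCocone ψ).ι.app X :=
    fun X => (isCol h).fac _ X
  let φ₀ : B →+* T := d.right.hom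
  have hA : ∀ a, φ₀ (algebraMap A B a) = algebraMap A T a := by
    intro a
    have h1 := Under.w d
    exact congrArg (fun f => (CommRingCat.Hom.hom f) a) h1
  have hX : ∀ (X : EtObj A B) (y : X.R), φ₀ (X.g y) = lam ψ X y := by
    intro X y
    have h1 := congrArg (fun f => (CommRingCat.Hom.hom (CommaMorphism.right f)) y) (hfac X)
    exact h1
  let φ : B →ₐ[A] T := { φ₀ with commutes' := hA }
  refine ⟨φ, fun b => ?_⟩
  obtain ⟨C, _, _, _, g, c, rfl⟩ := h.lift b
  obtain ⟨X, e, he⟩ := exists_obj C g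
  have hb : g c = X.g (e.symm c) := by
    rw [← he]
    simp
  show residue T (φ₀ (g c)) = ψ (g c)
  rw [hb, hX, lam_spec]

end Exist

section Sep
variable {A B : Type u} [CommRing A] [CommRing B] [Algebra A B]

/-- Residue fields of `Ω ⊗ B` are separable over the field `Ω` when `B` is ind-étale over `A`. -/
theorem isSeparable_quot (h : Crit A B) (Ω : Type u) [Field Ω] [Algebra A Ω]
    (m : Ideal (Ω ⊗[A] B)) [m.IsMaximal] :
    letI := Ideal.Quotient.field m
    Algebra.IsSeparable Ω ((Ω ⊗[A] B) ⧸ m) := by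
  letI := Ideal.Quotient.field m
  refine ⟨fun y => ?_⟩
  obtain ⟨f, rfl⟩ := Ideal.Quotient.mk_surjective y
  induction f using TensorProduct.induction_on with
  | zero =>
    rw [map_zero, ← map_zero (algebraMap Ω _)]
    exact isSeparable_algebraMap 0
  | tmul a b =>
    obtain ⟨C, _, _, _, g, c, hc⟩ := h.lift b
    let θ : Ω ⊗[A] C →ₐ[Ω] (Ω ⊗[A] B) ⧸ m :=
      (Ideal.Quotient.mkₐ Ω m).comp
        (Algebra.TensorProduct.map (AlgHom.id Ω Ω) g)
    have h1 : IsSeparable Ω (θ ((1 : Ω) ⊗ₜ[A] c)) :=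
      isSeparable_of_etale_algHom θ _
    have h2 : θ ((1 : Ω) ⊗ₜ[A] c) =
        Ideal.Quotient.mk m ((1 : Ω) ⊗ₜ[A] b) := by
      simp only [θ, AlgHom.comp_apply, Algebra.TensorProduct.map_tmul, hc]
      rfl
    rw [h2] at h1
    have e1 : a ⊗ₜ[A] b = algebraMap Ω (Ω ⊗[A] B) a *
        ((1 : Ω) ⊗ₜ[A] b) := by
      rw [Algebra.TensorProduct.algebraMap_apply, Algebra.TensorProduct.tmul_mul_tmul, mul_one,
        one_mul]
      rfl
    rw [e1, map_mul]
    exact Field.isSeparable_mul (isSeparable_algebraMap a) h1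
  | add x y hx hy =>
    rw [map_add]
    exact Field.isSeparable_add hx hy

/-- A faithfully flat ind-étale algebra has a point in every separably closed field over the base. -/
theorem exists_algHom_of_isSepClosed (h : Crit A B) [Module.FaithfullyFlat A B]
    (Ω : Type u) [Field Ω] [Algebra A Ω] [IsSepClosed Ω] : Nonempty (B →ₐ[A] Ω) := by
  obtain ⟨m, hm⟩ := Ideal.exists_maximal (Ω ⊗[A] B)
  letI := Ideal.Quotient.field m
  haveI : Algebra.IsSeparable Ω ((Ω ⊗[A] B) ⧸ m) := isSeparable_quot h Ω m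
  have hsurj : Function.Surjective (algebraMap Ω ((Ω ⊗[A] B) ⧸ m)) :=
    IsSepClosed.algebraMap_surjective Ω ((Ω ⊗[A] B) ⧸ m)
  let e : Ω ≃ₐ[Ω] ((Ω ⊗[A] B) ⧸ m) :=
    AlgEquiv.ofBijective (Algebra.ofId Ω _) ⟨(algebraMap Ω _).injective, hsurj⟩
  let q : B →ₐ[A] (Ω ⊗[A] B) ⧸ m :=
    ((Ideal.Quotient.mkₐ Ω m).restrictScalars A).comp Algebra.TensorProduct.includeRight
  exact ⟨((e.symm : ((Ω ⊗[A] B) ⧸ m) →ₐ[Ω] Ω).restrictScalars A).comp q⟩

end Sep

section Strict
variable (R S : Type u) [CommRing R] [IsLocalRing R] [CommRing S] [IsLocalRing S] [Algebra R S]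
  [IsLocalHom (algebraMap R S)] [Hensel.IsStrictHenselization R S]

/-- A strict henselization is ind-étale (elementwise criterion). -/
theorem crit_of_isStrictHenselization : Crit R S :=
  Crit.of_algEquiv (crit_H (R := R) (K := SepK R)) (algEquivStrict (R := R) S)

theorem faithfullyFlat_strict : Module.FaithfullyFlat R S :=
  faithfullyFlat_of_isStrictHenselization (R := R) S

end Strict

end Groth.Agent.H1.SpSt
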