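import Mathlib
import Groth.Prelude.Def_Hens2
import Groth.Agent.Lib.Helper1.SpSt1

/-! Helper1: specialization arrows between strict localizations of a scheme. -/

set_option autoImplicit false
universe u
open CategoryTheory AlgebraicGeometry IsLocalRing

namespace Groth.Agent.H1.SpSt

open Groth.Agent.H4.IndEtCrit

section Gen

variable (X : Scheme.{u}) (x x' : X)
  (R : Type u) [CommRing R] [Algebra (X.presheaf.stalk x) R]
  (R' : Type u) [CommRing R'] [IsLocalRing R'] [Algebra (X.presheaf.stalk x') R']
  [IsLocalHom (algebraMap (X.presheaf.stalk x') R')]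

/-- The closed point of `Spec R'` lies over `x'`. -/
theorem specOf_closedPoint : (Hens2.specOf X x' R') (closedPoint R') = x' := by
  have h1 : (Spec.map (CommRingCat.ofHom (algebraMap (X.presheaf.stalk x') R'))) (closedPoint R') =
      closedPoint (X.presheaf.stalk x') := by
    rw [Spec.map_apply]
    exact IsLocalRing.comap_closedPoint (algebraMap (X.presheaf.stalk x') R')
  rw [Scheme.Hom.comp_apply, h1]
  exact Scheme.fromSpecStalk_closedPoint

/-- The closed point of `Spec κ(R')` lies over `x'`. -/
theorem geomPt_closedPoint :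
    (Hens2.geomPt X x' R') (closedPoint (ResidueField R')) = x' := by
  have h1 : (Spec.map (CommRingCat.ofHom (residue R'))) (closedPoint (ResidueField R')) =
      closedPoint R' := by
    rw [Spec.map_apply]
    exact IsLocalRing.comap_closedPoint (residue R')
  rw [Scheme.Hom.comp_apply, h1]
  exact specOf_closedPoint X x' R'

/-- A point mapping to `x'` through `Spec R ⟶ X` forces `x' ⤳ x`. -/
theorem specializes_of_comp {Z : Scheme.{u}} (z : Z) (k : Z ⟶ Spec (CommRingCat.of R))
    (hz : (k ≫ Hens2.specOf X x R) z = x') : x' ⤳ x := by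
  have h1 : x' ∈ Set.range (X.fromSpecStalk x) := by
    refine ⟨(k ≫ Spec.map (CommRingCat.ofHom (algebraMap (X.presheaf.stalk x) R))) z, ?_⟩
    rw [← hz, ← Scheme.Hom.comp_apply, Category.assoc]
  rw [Scheme.range_fromSpecStalk] at h1
  exact h1

/-- Translation of the compatibility with the maps to `X` into an identity of ring maps. -/
theorem comp_specOf_iff (hs : x' ⤳ x) {S' : CommRingCat.{u}} (a' : X.presheaf.stalk x' ⟶ S')
    (φ : CommRingCat.of R ⟶ S') :
    Spec.map φ ≫ Hens2.specOf X x R = Spec.map a' ≫ X.fromSpecStalk x' ↔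
      CommRingCat.ofHom (algebraMap (X.presheaf.stalk x) R) ≫ φ =
        X.presheaf.stalkSpecializes hs ≫ a' := by
  rw [← Scheme.SpecMap_stalkSpecializes_fromSpecStalk hs]
  show Spec.map φ ≫ Spec.map _ ≫ X.fromSpecStalk x =
    Spec.map a' ≫ Spec.map _ ≫ X.fromSpecStalk x ↔ _
  rw [← Category.assoc, ← Category.assoc (Spec.map a'), ← Spec.map_comp, ← Spec.map_comp,
    cancel_mono, Spec.map_injective.eq_iff]

end Gen

section Main

variable (X : Scheme.{u}) (x x' : X)
  (R : Type u) [CommRing R] [IsLocalRing R] [Algebra (X.presheaf.stalk x) R]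
  [IsLocalHom (algebraMap (X.presheaf.stalk x) R)]
  [Hensel.IsStrictHenselization (X.presheaf.stalk x) R]
  (R' : Type u) [CommRing R'] [IsLocalRing R'] [Algebra (X.presheaf.stalk x') R']
  [IsLocalHom (algebraMap (X.presheaf.stalk x') R')]
  [Hensel.IsStrictHenselization (X.presheaf.stalk x') R']

theorem s5593 :
    (∃ g : Spec (CommRingCat.of R') ⟶ Spec (CommRingCat.of R),
      g ≫ Hens2.specOf X x R = Hens2.specOf X x' R') ↔ x' ⤳ x := by
  constructor
  · rintro ⟨g, hg⟩
    exact specializes_of_comp X x x' R (closedPoint R') g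
      (by rw [hg]; exact specOf_closedPoint X x' R')
  · intro hs
    letI : Algebra (X.presheaf.stalk x) R' :=
      ((algebraMap (X.presheaf.stalk x') R').comp (X.presheaf.stalkSpecializes hs).hom).toAlgebra
    haveI hT : HenselianLocalRing R' :=
      Hensel.IsStrictHenselization.henselian (R := X.presheaf.stalk x')
    haveI : IsSepClosed (ResidueField R') :=
      (Hensel.IsStrictHenselization.isSepClosure (R := X.presheaf.stalk x') (S := R')).sep_closed
    haveI : Module.FaithfullyFlat (X.presheaf.stalk x) R :=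
      faithfullyFlat_strict (X.presheaf.stalk x) R
    have hcrit : Crit (X.presheaf.stalk x) R := crit_of_isStrictHenselization _ R
    obtain ⟨ψ⟩ := exists_algHom_of_isSepClosed hcrit (ResidueField R')
    obtain ⟨φ, -⟩ := exists_lift_of_crit ψ hcrit
    refine ⟨Spec.map (CommRingCat.ofHom φ.toRingHom), ?_⟩
    refine (comp_specOf_iff X x x' R hs
      (CommRingCat.ofHom (algebraMap (X.presheaf.stalk x') R')) _).mpr ?_
    ext a
    exact φ.commutes a

theorem s5594 :
    (∀ g₁ g₂ : Spec (CommRingCat.of R') ⟶ Spec (CommRingCat.of R),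
      g₁ ≫ Hens2.specOf X x R = Hens2.specOf X x' R' → g₂ ≫ Hens2.specOf X x R = Hens2.specOf X x' R' →
      Spec.map (CommRingCat.ofHom (IsLocalRing.residue R')) ≫ g₁ =
        Spec.map (CommRingCat.ofHom (IsLocalRing.residue R')) ≫ g₂ → g₁ = g₂) ∧
    (∀ h : Spec (CommRingCat.of (IsLocalRing.ResidueField R')) ⟶ Spec (CommRingCat.of R),
      h ≫ Hens2.specOf X x R = Hens2.geomPt X x' R' →
      ∃ g : Spec (CommRingCat.of R') ⟶ Spec (CommRingCat.of R),
        g ≫ Hens2.specOf X x R = Hens2.specOf X x' R' ∧
        Spec.map (CommRingCat.ofHom (IsLocalRing.residue R')) ≫ g = h) := by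
  have hcrit : Crit (X.presheaf.stalk x) R := crit_of_isStrictHenselization _ R
  haveI hT : HenselianLocalRing R' :=
    Hensel.IsStrictHenselization.henselian (R := X.presheaf.stalk x')
  refine ⟨fun g₁ g₂ h₁ h₂ hres => ?_, fun h hh => ?_⟩
  · have hs : x' ⤳ x := specializes_of_comp X x x' R (closedPoint R') g₁
      (by rw [h₁]; exact specOf_closedPoint X x' R')
    have e₁ := (comp_specOf_iff X x x' R hs
      (CommRingCat.ofHom (algebraMap (X.presheaf.stalk x') R')) (Spec.preimage g₁)).mp
      (by rw [Spec.map_preimage]; exact h₁)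
    have e₂ := (comp_specOf_iff X x x' R hs
      (CommRingCat.ofHom (algebraMap (X.presheaf.stalk x') R')) (Spec.preimage g₂)).mp
      (by rw [Spec.map_preimage]; exact h₂)
    letI : Algebra (X.presheaf.stalk x) R' :=
      ((algebraMap (X.presheaf.stalk x') R').comp (X.presheaf.stalkSpecializes hs).hom).toAlgebra
    let ψ₁ : R →ₐ[X.presheaf.stalk x] R' :=
      { (Spec.preimage g₁).hom with
        commutes' := fun a => congrArg (fun f => (CommRingCat.Hom.hom f) a) e₁ }
    let ψ₂ : R →ₐ[X.presheaf.stalk x] R' :=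
      { (Spec.preimage g₂).hom with
        commutes' := fun a => congrArg (fun f => (CommRingCat.Hom.hom f) a) e₂ }
    have h3 : Spec.preimage g₁ ≫ CommRingCat.ofHom (residue R') =
        Spec.preimage g₂ ≫ CommRingCat.ofHom (residue R') := by
      apply Spec.map_injective
      rw [Spec.map_comp, Spec.map_comp, Spec.map_preimage, Spec.map_preimage]
      exact hres
    have hres' : ∀ b, ψ₁ b - ψ₂ b ∈ maximalIdeal R' := by
      intro b
      rw [← residue_eq_zero_iff, map_sub, sub_eq_zero]
      exact congrArg (fun f => (CommRingCat.Hom.hom f) b) h3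
    have h4 := hom_ext_of_crit hcrit ψ₁ ψ₂ hres'
    have h5 : Spec.preimage g₁ = Spec.preimage g₂ := by
      ext b
      exact DFunLike.congr_fun h4 b
    calc g₁ = Spec.map (Spec.preimage g₁) := (Spec.map_preimage g₁).symm
      _ = Spec.map (Spec.preimage g₂) := by rw [h5]
      _ = g₂ := Spec.map_preimage g₂
  · have hs : x' ⤳ x := specializes_of_comp X x x' R (closedPoint (ResidueField R')) h
      (by rw [hh]; exact geomPt_closedPoint X x' R')
    have e := (comp_specOf_iff X x x' R hs
      (CommRingCat.ofHom (algebraMap (X.presheaf.stalk x') R') ≫ CommRingCat.ofHom (residue R'))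
      (Spec.preimage h)).mp
      (by rw [Spec.map_preimage, hh, Spec.map_comp, Category.assoc]; rfl)
    letI : Algebra (X.presheaf.stalk x) R' :=
      ((algebraMap (X.presheaf.stalk x') R').comp (X.presheaf.stalkSpecializes hs).hom).toAlgebra
    let ψ : R →ₐ[X.presheaf.stalk x] ResidueField R' :=
      { (Spec.preimage h).hom with
        commutes' := fun a => congrArg (fun f => (CommRingCat.Hom.hom f) a) e }
    obtain ⟨φ, hφ⟩ := exists_lift_of_crit ψ hcrit
    refine ⟨Spec.map (CommRingCat.ofHom φ.toRingHom), ?_, ?_⟩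
    · refine (comp_specOf_iff X x x' R hs
        (CommRingCat.ofHom (algebraMap (X.presheaf.stalk x') R')) _).mpr ?_
      ext a
      exact φ.commutes a
    · rw [← Spec.map_comp]
      have h6 : CommRingCat.ofHom φ.toRingHom ≫ CommRingCat.ofHom (residue R') =
          Spec.preimage h := by
        ext b
        exact hφ b
      rw [h6, Spec.map_preimage]

end Main

end Groth.Agent.H1.SpSt
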