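import Mathlib

/-!
# Specialization closure of the image of a closed set under a quasi-compact morphism is closed
-/

set_option autoImplicit false
set_option linter.style.haveILetI false
universe u

namespace Groth.Agent.H1.SpecClosure

open AlgebraicGeometry CategoryTheory Limits

/-- affine case: the specialization closure of the image of a closed set is closed -/
theorem isClosed_specializations_image_comap {R S : Type*} [CommRing R] [CommRing S] (φ : S →+* R)
    (Z : Set (PrimeSpectrum R)) (hZ : IsClosed Z) :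
    IsClosed {y : PrimeSpectrum S | ∃ z ∈ Z, PrimeSpectrum.comap φ z ⤳ y} := by
  obtain ⟨I, rfl⟩ := (PrimeSpectrum.isClosed_iff_zeroLocus_ideal Z).mp hZ
  have : {y : PrimeSpectrum S | ∃ z ∈ PrimeSpectrum.zeroLocus (I : Set R),
      PrimeSpectrum.comap φ z ⤳ y} = PrimeSpectrum.zeroLocus ((I.comap φ : Ideal S) : Set S) := by
    ext y
    simp only [Set.mem_ofPred_eq, PrimeSpectrum.mem_zeroLocus, SetLike.coe_subset_coe]
    constructor
    · rintro ⟨z, hz, hzy⟩
      rw [← PrimeSpectrum.le_iff_specializes] at hzy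
      exact (Ideal.comap_mono hz).trans hzy
    · intro hy
      obtain ⟨P, hP, hPy⟩ := Ideal.exists_minimalPrimes_le hy
      obtain ⟨Q, hQ, hIQ, rfl⟩ := Ideal.exists_comap_eq_of_mem_minimalPrimes φ P hP
      refine ⟨⟨Q, hQ⟩, hIQ, ?_⟩
      rw [← PrimeSpectrum.le_iff_specializes]
      exact hPy
  rw [this]
  exact PrimeSpectrum.isClosed_zeroLocus _

/-- closedness can be tested after pulling back along an open embedding onto each member of an
open cover -/
theorem isClosed_coe_preimage_of_isClosed_preimage {W Y : Type*} [TopologicalSpace W]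
    [TopologicalSpace Y] (j : W → Y) (hj : Topology.IsOpenEmbedding j) (C : Set Y)
    (h : IsClosed (j ⁻¹' C)) : IsClosed ((↑) ⁻¹' C : Set (Set.range j)) := by
  let e := hj.isEmbedding.toHomeomorph
  have : ((↑) ⁻¹' C : Set (Set.range j)) = e.symm ⁻¹' (j ⁻¹' C) := by
    ext v
    simp only [Set.mem_preimage]
    have : j (e.symm v) = v := by
      obtain ⟨w, hw⟩ := v.2
      have : e w = v := Subtype.ext hw
      rw [← this, e.symm_apply_apply]
      rfl
    rw [this]
  rw [this]
  exact h.preimage e.symm.continuous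

theorem isClosed_specializations_image {X Y : Scheme.{u}} (f : X ⟶ Y) [QuasiCompact f]
    (T : Set X) (hT : IsClosed T) : IsClosed {y : Y | ∃ t ∈ T, f t ⤳ y} := by
  let 𝒰 := Y.affineOpenCover.openCover
  rw [𝒰.isOpenCover_opensRange.isClosed_iff_coe_preimage]
  intro i
  let j : Spec (Y.affineOpenCover.X i) ⟶ Y := 𝒰.f i
  haveI : IsOpenImmersion j := 𝒰.map_prop i
  refine isClosed_coe_preimage_of_isClosed_preimage j j.isOpenEmbedding _ ?_
  haveI : CompactSpace ↑(pullback f j) := inferInstance
  obtain ⟨R, h, hh⟩ := compactSpace_iff_exists.mp (inferInstance : CompactSpace ↑(pullback f j))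
  obtain ⟨φ, hφ⟩ : ∃ φ : Y.affineOpenCover.X i ⟶ R, Spec.map φ = h ≫ pullback.snd f j :=
    ⟨Spec.preimage (h ≫ pullback.snd f j), Spec.map_preimage _⟩
  let T' : Set (Spec R) := (h ≫ pullback.fst f j) ⁻¹' T
  have hT' : IsClosed T' := hT.preimage (h ≫ pullback.fst f j).continuous
  have key := isClosed_specializations_image_comap φ.hom T' hT'
  have hcomm : ∀ z : Spec R, j (PrimeSpectrum.comap φ.hom z) = f (pullback.fst f j (h z)) := by
    intro z
    have e1 : PrimeSpectrum.comap φ.hom z = (Spec.map φ) z := rfl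
    rw [e1, hφ]
    have e2 := congrArg (fun g => g.base (h z)) (pullback.condition (f := f) (g := j))
    simp only [Scheme.Hom.comp_base] at e2
    exact e2.symm
  have hset : (j ⁻¹' {y : Y | ∃ t ∈ T, f t ⤳ y} : Set (Spec (Y.affineOpenCover.X i))) =
      {y : PrimeSpectrum (Y.affineOpenCover.X i) | ∃ z ∈ T', PrimeSpectrum.comap φ.hom z ⤳ y} := by
    ext y₀
    simp only [Set.mem_preimage, Set.mem_ofPred_eq]
    constructor
    · rintro ⟨t, ht, hty⟩
      have h1 : f t ∈ Set.range j :=
        hty.mem_open j.isOpenEmbedding.isOpen_range ⟨y₀, rfl⟩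
      have h2 : t ∈ Set.range (pullback.fst f j) := by
        rw [Scheme.Pullback.range_fst]
        exact h1
      obtain ⟨x, rfl⟩ := h2
      obtain ⟨z, rfl⟩ := hh x
      refine ⟨z, ht, ?_⟩
      have h3 : j (PrimeSpectrum.comap φ.hom z) = f (pullback.fst f j (h z)) := hcomm z
      have h4 : j (PrimeSpectrum.comap φ.hom z) ⤳ j y₀ := by rw [h3]; exact hty
      exact j.isOpenEmbedding.isInducing.specializes_iff.mp h4
    · rintro ⟨z, hz, hzy⟩
      refine ⟨pullback.fst f j (h z), hz, ?_⟩
      rw [← hcomm z]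
      exact hzy.map j.continuous
  rw [hset]
  exact key

end Groth.Agent.H1.SpecClosure
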