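import Mathlib
import Groth.Agent.Lib.Helper1.PrincFibD
import Groth.Agent.Lib.Helper1.ValDimB
import Groth.Agent.Lib.Helper1.EquidimLocC
import Groth.Agent.Lib.Helper1.DimFormula2

set_option autoImplicit false
set_option linter.style.haveILetI false
universe u
open IsLocalRing Polynomial AlgebraicGeometry TensorProduct

namespace Groth.Agent.H1.SpecDense

set_option backward.isDefEq.respectTransparency false in
/-- the transcendence degree of the residue field extension equals that of the quotient domains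
(extracted from `PrincFib.natCast_le_trdeg_of_minimal`). -/
theorem trdeg_residue_eq (R T : Type u) [CommRing R] [CommRing T] [Algebra R T]
    (ξ : Ideal T) [ξ.IsPrime] (p₀ : Ideal R) [p₀.IsPrime] [ξ.LiesOver p₀]
    (ψ : Localization.AtPrime p₀ →+* Localization.AtPrime ξ) [IsLocalHom ψ]
    (hψ : ∀ r : R, ψ (algebraMap R _ r) = algebraMap T _ (algebraMap R T r)) :
    @Algebra.trdeg (ResidueField (Localization.AtPrime p₀))
      (ResidueField (Localization.AtPrime ξ)) _ _ (ResidueField.map ψ).toAlgebra =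
    Algebra.trdeg (R ⧸ p₀) (T ⧸ ξ) := by
  letI algKL : Algebra p₀.ResidueField ξ.ResidueField := (ResidueField.map ψ).toAlgebra
  letI algAL : Algebra (R ⧸ p₀) ξ.ResidueField :=
    ((algebraMap (T ⧸ ξ) ξ.ResidueField).comp (algebraMap (R ⧸ p₀) (T ⧸ ξ))).toAlgebra
  haveI : IsScalarTower (R ⧸ p₀) (T ⧸ ξ) ξ.ResidueField :=
    IsScalarTower.of_algebraMap_eq (fun _ => rfl)
  haveI : IsScalarTower (R ⧸ p₀) p₀.ResidueField ξ.ResidueField :=
    IsScalarTower.of_algebraMap_eq (fun a => by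
      obtain ⟨r, rfl⟩ := Ideal.Quotient.mk_surjective a
      show algebraMap (T ⧸ ξ) ξ.ResidueField
          (algebraMap (R ⧸ p₀) (T ⧸ ξ) (Ideal.Quotient.mk p₀ r)) =
        ResidueField.map ψ (algebraMap (R ⧸ p₀) p₀.ResidueField (Ideal.Quotient.mk p₀ r))
      rw [Ideal.Quotient.algebraMap_mk_of_liesOver, Ideal.algebraMap_quotient_residueField_mk,
        Ideal.algebraMap_quotient_residueField_mk,
        IsScalarTower.algebraMap_apply R (Localization.AtPrime p₀) p₀.ResidueField,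
        IsLocalRing.ResidueField.algebraMap_eq, ResidueField.map_residue, hψ,
        IsScalarTower.algebraMap_apply T (Localization.AtPrime ξ) ξ.ResidueField,
        IsLocalRing.ResidueField.algebraMap_eq])
  haveI : FaithfulSMul (T ⧸ ξ) ξ.ResidueField :=
    (faithfulSMul_iff_algebraMap_injective _ _).mpr (IsFractionRing.injective _ _)
  haveI : FaithfulSMul (R ⧸ p₀) p₀.ResidueField :=
    (faithfulSMul_iff_algebraMap_injective _ _).mpr (IsFractionRing.injective _ _)
  haveI : FaithfulSMul p₀.ResidueField ξ.ResidueField :=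
    (faithfulSMul_iff_algebraMap_injective _ _).mpr (RingHom.injective _)
  haveI : Algebra.IsAlgebraic (R ⧸ p₀) p₀.ResidueField :=
    IsLocalization.isAlgebraic _ (nonZeroDivisors (R ⧸ p₀))
  haveI : Algebra.IsAlgebraic (T ⧸ ξ) ξ.ResidueField :=
    IsLocalization.isAlgebraic _ (nonZeroDivisors (T ⧸ ξ))
  exact (DimLoc.trdeg_eq_of_isAlgebraic_square (R ⧸ p₀) (T ⧸ ξ) p₀.ResidueField
    ξ.ResidueField).symm

/-- finitely many primes minimal over `m T` for a maximal ideal `m` of the base. -/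
theorem finite_minimalPrimes_map (R T : Type u) [CommRing R] [CommRing T] [Algebra R T]
    [Algebra.FiniteType R T] (m : Ideal R) [m.IsMaximal] :
    (m.map (algebraMap R T)).minimalPrimes.Finite := by
  letI := Ideal.Quotient.field m
  haveI : Algebra.FiniteType (R ⧸ m) (T ⧸ m.map (algebraMap R T)) :=
    Algebra.FiniteType.of_restrictScalars_finiteType R (R ⧸ m) _
  haveI : IsNoetherianRing (T ⧸ m.map (algebraMap R T)) :=
    Algebra.FiniteType.isNoetherianRing (R ⧸ m) _
  rw [Ideal.minimalPrimes_eq_comap]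
  exact (minimalPrimes.finite_of_isNoetherianRing _).image _

/-- Krull's principal ideal theorem in the generic fibre: a finite set of primes over `0` such
that, if `g` avoids them, no prime over `0` minimal over `g` contains `g₀`. -/
theorem pit_generic (R T : Type u) [CommRing R] [IsDomain R] [CommRing T] [IsDomain T]
    [Algebra R T] [Algebra.FiniteType R T] (hinj : Function.Injective (algebraMap R T))
    (g₀ : T) (hg₀ : g₀ ≠ 0) :
    ∃ s : Finset (Ideal T), (∀ P ∈ s, P.IsPrime ∧ P.under R = ⊥) ∧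
      ∀ (g : T) (Q : Ideal T), (∀ P ∈ s, g ∉ P) → Q ∈ (Ideal.span {g}).minimalPrimes →
        Q.under R = ⊥ → g₀ ∉ Q := by
  classical
  haveI : IsNoetherianRing ((⊥ : Ideal R).Fiber T) :=
    Algebra.FiniteType.isNoetherianRing (⊥ : Ideal R).ResidueField _
  let ι : T →ₐ[R] (⊥ : Ideal R).Fiber T := Algebra.TensorProduct.includeRight
  let e := PrimeSpectrum.primesOverOrderIsoFiber R T (⊥ : Ideal R)
  have hesymm : ∀ y : PrimeSpectrum ((⊥ : Ideal R).Fiber T),
      ((e.symm y : (⊥ : Ideal R).primesOver T) : Ideal T) = y.asIdeal.comap ι := fun _ => rfl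
  have hfin : (Ideal.span {ι g₀}).minimalPrimes.Finite :=
    Ideal.finite_minimalPrimes_of_isNoetherianRing _ _
  refine ⟨hfin.toFinset.image (fun P => P.comap ι), ?_, ?_⟩
  · intro P hP
    rw [Finset.mem_image] at hP
    obtain ⟨P', hP', rfl⟩ := hP
    rw [Set.Finite.mem_toFinset] at hP'
    haveI : P'.IsPrime := hP'.1.1
    have h2 := (e.symm ⟨P', inferInstance⟩).2
    rw [hesymm] at h2
    exact ⟨h2.1, h2.2.over.symm⟩
  · intro g Q hg hQ hQbot hg₀Q
    haveI hQp : Q.IsPrime := hQ.1.1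
    have hgQ : g ∈ Q := hQ.1.2 (Ideal.subset_span rfl)
    let x : (⊥ : Ideal R).primesOver T := ⟨Q, hQp, ⟨hQbot.symm⟩⟩
    have h𝔔 : (e x).asIdeal.comap ι = Q := by
      have h := congrArg Subtype.val (e.symm_apply_apply x)
      rw [hesymm] at h
      exact h
    have hιg₀ : ι g₀ ∈ (e x).asIdeal := by
      have : g₀ ∈ (e x).asIdeal.comap ι := by rw [h𝔔]; exact hg₀Q
      exact this
    have hιg : ι g ∈ (e x).asIdeal := by
      have : g ∈ (e x).asIdeal.comap ι := by rw [h𝔔]; exact hgQ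
      exact this
    obtain ⟨P', hP'min, hP'le⟩ := Ideal.exists_minimalPrimes_le
      (show Ideal.span {ι g₀} ≤ (e x).asIdeal from
        (Ideal.span_singleton_le_iff_mem _).mpr hιg₀)
    haveI hP'p : P'.IsPrime := hP'min.1.1
    have hιg₀P' : ι g₀ ∈ P' := hP'min.1.2 (Ideal.subset_span rfl)
    have hgP' : ι g ∉ P' := fun h =>
      hg (P'.comap ι) (Finset.mem_image.mpr ⟨P', hfin.mem_toFinset.mpr hP'min, rfl⟩) h
    have h𝔔min : (e x).asIdeal ∈ (Ideal.span {ι g}).minimalPrimes := by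
      refine ⟨⟨(e x).isPrime, (Ideal.span_singleton_le_iff_mem _).mpr hιg⟩, ?_⟩
      rintro J ⟨hJp, hJg⟩ hJle
      have hy : ((e.symm ⟨J, hJp⟩ : (⊥ : Ideal R).primesOver T) : Ideal T) = J.comap ι :=
        hesymm _
      have hyQ : ((e.symm ⟨J, hJp⟩ : (⊥ : Ideal R).primesOver T) : Ideal T) ≤ Q := by
        rw [hy, ← h𝔔]; exact Ideal.comap_mono hJle
      have hgy : Ideal.span {g} ≤
          ((e.symm ⟨J, hJp⟩ : (⊥ : Ideal R).primesOver T) : Ideal T) := by
        rw [Ideal.span_singleton_le_iff_mem, hy]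
        exact hJg (Ideal.subset_span rfl)
      have hQy : Q ≤ ((e.symm ⟨J, hJp⟩ : (⊥ : Ideal R).primesOver T) : Ideal T) :=
        hQ.2 ⟨(e.symm ⟨J, hJp⟩).2.1, hgy⟩ hyQ
      have hxy : x ≤ e.symm ⟨J, hJp⟩ := hQy
      have h := e.monotone hxy
      rw [e.apply_symm_apply] at h
      exact h
    have hht : (e x).asIdeal.height ≤ 1 :=
      Ideal.height_le_one_of_isPrincipal_of_mem_minimalPrimes (Ideal.span {ι g}) _ h𝔔min
    have hlt : P' < (e x).asIdeal := lt_of_le_of_ne hP'le (fun h => hgP' (h ▸ hιg))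
    have hP'0 : P'.height = 0 := by
      have h := (Ideal.height_le_iff (p := (e x).asIdeal) (n := 1)).mp
        (by exact_mod_cast hht) P' hP'p hlt
      have h' : P'.height < 1 := by exact_mod_cast h
      exact Order.lt_one_iff.mp h'
    have hP'minR : P' ∈ minimalPrimes ((⊥ : Ideal R).Fiber T) := Ideal.height_eq_zero_iff.mp hP'0
    let x₀ : (⊥ : Ideal R).primesOver T := ⟨⊥, inferInstance, ⟨by
      rw [Ideal.under_def, ← RingHom.ker_eq_comap_bot]
      exact ((RingHom.injective_iff_ker_eq_bot _).mp hinj).symm⟩⟩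
    have hx₀y' : x₀ ≤ e.symm ⟨P', hP'p⟩ := (bot_le : (⊥ : Ideal T) ≤ _)
    have h1 : e x₀ ≤ ⟨P', hP'p⟩ := by
      have h := e.monotone hx₀y'
      rw [e.apply_symm_apply] at h
      exact h
    have h2 : P' ≤ (e x₀).asIdeal := hP'minR.2 ⟨(e x₀).isPrime, bot_le⟩ h1
    have h3 : g₀ ∈ (e x₀).asIdeal.comap ι := h2 hιg₀P'
    have h4 : (e x₀).asIdeal.comap ι = ⊥ := by
      have h := congrArg Subtype.val (e.symm_apply_apply x₀)
      rw [hesymm] at h
      exact h
    rw [h4] at h3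
    exact hg₀ (Ideal.mem_bot.mp h3)

set_option backward.isDefEq.respectTransparency false in
/-- a prime of `T` over `m₀` with algebraic residue extension, in a domain `T` of finite type and
positive transcendence degree over `V₀`, is not minimal over `m₀ T` (Chevalley semicontinuity). -/
theorem not_mem_minimalPrimes (V₀ T : Type u) [CommRing V₀] [CommRing T] [IsDomain T]
    [Algebra V₀ T] [Algebra.FiniteType V₀ T] (q : Ideal T) [q.IsPrime] (m₀ : Ideal V₀)
    [m₀.IsPrime] [q.LiesOver m₀]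
    (halg : Algebra.IsAlgebraic (V₀ ⧸ m₀) (T ⧸ q))
    (htr : ¬ Algebra.IsAlgebraic V₀ T) :
    q ∉ (m₀.map (algebraMap V₀ T)).minimalPrimes := by
  intro hmin
  haveI hbot : (⊥ : Ideal T).IsPrime := Ideal.isPrime_bot
  let f := Spec.map (CommRingCat.ofHom (algebraMap V₀ T))
  haveI : LocallyOfFiniteType f := by
    rw [HasRingHomProperty.Spec_iff (P := @LocallyOfFiniteType)]
    exact RingHom.finiteType_algebraMap.mpr inferInstance
  obtain ⟨tξ, ψξ, hψξloc, hψξ, htξ, hfdξ⟩ := PrincFib.fibreDimAt_eq V₀ T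
    (⟨⊥, hbot⟩ : PrimeSpectrum T) ((⊥ : Ideal T).under V₀) rfl
  obtain ⟨tq, ψq, hψqloc, hψq, htq, hfdq⟩ := PrincFib.fibreDimAt_eq V₀ T
    (⟨q, inferInstance⟩ : PrimeSpectrum T) m₀ (q.over_def m₀)
  haveI := hψξloc
  haveI := hψqloc
  -- `tq = 0`
  have h1 := trdeg_residue_eq V₀ T q m₀ ψq hψq
  rw [htq] at h1
  have htq0 : tq = 0 := by
    have h0 : Algebra.trdeg (V₀ ⧸ m₀) (T ⧸ q) = 0 := _root_.trdeg_eq_zero_iff.mpr halg
    rw [h0] at h1
    exact_mod_cast h1
  -- `tξ ≥ 1`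
  have h2 := trdeg_residue_eq V₀ T (⊥ : Ideal T) ((⊥ : Ideal T).under V₀) ψξ hψξ
  rw [htξ] at h2
  have htξ1 : 1 ≤ tξ := by
    by_contra hlt
    have h0 : tξ = 0 := by omega
    rw [h0] at h2
    have halg' : Algebra.IsAlgebraic (V₀ ⧸ (⊥ : Ideal T).under V₀) (T ⧸ (⊥ : Ideal T)) :=
      _root_.trdeg_eq_zero_iff.mp (by exact_mod_cast h2.symm)
    apply htr
    haveI : Algebra.IsIntegral V₀ (V₀ ⧸ (⊥ : Ideal T).under V₀) :=
      Algebra.IsIntegral.of_surjective (Ideal.Quotient.mkₐ V₀ _)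
        (Ideal.Quotient.mkₐ_surjective V₀ _)
    haveI : Algebra.IsAlgebraic V₀ (T ⧸ (⊥ : Ideal T)) :=
      Algebra.IsIntegral.trans_isAlgebraic V₀ (V₀ ⧸ (⊥ : Ideal T).under V₀) _
    refine Algebra.IsAlgebraic.of_injective (Ideal.Quotient.mkₐ V₀ (⊥ : Ideal T)) ?_
    rw [injective_iff_map_eq_zero]
    intro a ha
    exact Ideal.mem_bot.mp (Ideal.Quotient.eq_zero_iff_mem.mp ha)
  -- the local ring of the fibre at `q` has dimension `0`
  have hDq : ringKrullDim (Localization.AtPrime q ⧸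
      m₀.map (algebraMap V₀ (Localization.AtPrime q))) ≤ 0 := by
    have hI : m₀.map (algebraMap V₀ (Localization.AtPrime q)) =
        (m₀.map (algebraMap V₀ T)).map (algebraMap T (Localization.AtPrime q)) := by
      rw [Ideal.map_map, ← IsScalarTower.algebraMap_eq]
    have hrad := IsLocalization.AtPrime.radical_map_of_mem_minimalPrimes
      (Localization.AtPrime q) q (m₀.map (algebraMap V₀ T)) hmin
    rw [IsLocalization.AtPrime.map_eq_maximalIdeal q (Localization.AtPrime q), ← hI] at hrad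
    rw [ringKrullDim_quotient]
    haveI : Subsingleton ↥(PrimeSpectrum.zeroLocus
        (m₀.map (algebraMap V₀ (Localization.AtPrime q)) : Set (Localization.AtPrime q))) := by
      refine ⟨fun a b => ?_⟩
      have key : ∀ c : ↥(PrimeSpectrum.zeroLocus
          (m₀.map (algebraMap V₀ (Localization.AtPrime q)) : Set (Localization.AtPrime q))),
          c.1.asIdeal = maximalIdeal (Localization.AtPrime q) := by
        intro c
        refine le_antisymm (le_maximalIdeal c.1.isPrime.ne_top) ?_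
        rw [← hrad]
        exact (Ideal.IsPrime.radical_le_iff c.1.isPrime).mpr c.2
      exact Subtype.ext (PrimeSpectrum.ext ((key a).trans (key b).symm))
    exact Order.krullDim_nonpos_of_subsingleton
  have hDξ : 0 ≤ ringKrullDim (Localization.AtPrime (⊥ : Ideal T) ⧸
      ((⊥ : Ideal T).under V₀).map (algebraMap V₀ (Localization.AtPrime (⊥ : Ideal T)))) := by
    haveI : Nontrivial (Localization.AtPrime (⊥ : Ideal T) ⧸
        ((⊥ : Ideal T).under V₀).map
          (algebraMap V₀ (Localization.AtPrime (⊥ : Ideal T)))) := by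
      rw [Ideal.Quotient.nontrivial_iff]
      intro htop
      have hle : ((⊥ : Ideal T).under V₀).map
          (algebraMap V₀ (Localization.AtPrime (⊥ : Ideal T))) ≤ ⊥ := by
        rw [Ideal.map_le_iff_le_comap]
        intro r hr
        have hr0 : algebraMap V₀ T r = 0 := Ideal.mem_bot.mp hr
        rw [Ideal.mem_comap, IsScalarTower.algebraMap_apply V₀ T, hr0, map_zero]
        exact Ideal.zero_mem _
      rw [htop] at hle
      exact bot_ne_top (le_bot_iff.mp hle).symm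
    exact ringKrullDim_nonneg_of_nontrivial
  have hspec : (⟨⊥, hbot⟩ : PrimeSpectrum T) ⤳ (⟨q, inferInstance⟩ : PrimeSpectrum T) :=
    (PrimeSpectrum.le_iff_specializes _ _).mp (bot_le : (⊥ : Ideal T) ≤ q)
  have hle := EquidimLoc.fibreDimAt_le_of_specializes f hspec
  rw [hfdξ, hfdq, htq0] at hle
  have h10 : ((1 : ℕ) : WithBot ℕ∞) ≤ ((0 : ℕ) : WithBot ℕ∞) := by
    calc ((1 : ℕ) : WithBot ℕ∞) ≤ (tξ : WithBot ℕ∞) := by exact_mod_cast htξ1
      _ ≤ _ := le_add_of_nonneg_left hDξ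
      _ ≤ _ := hle
      _ ≤ 0 + ((0 : ℕ) : WithBot ℕ∞) := add_le_add hDq le_rfl
      _ = ((0 : ℕ) : WithBot ℕ∞) := zero_add _
  have : (1 : ℕ) ≤ 0 := by exact_mod_cast h10
  omega

set_option backward.isDefEq.respectTransparency false in
/-- **Key lemma over a valuation ring.** -/
theorem keyVal (V₀ T : Type u) [CommRing V₀] [IsDomain V₀] [ValuationRing V₀] [CommRing T]
    [IsDomain T] [Algebra V₀ T] [Algebra.FiniteType V₀ T]
    (hinj : Function.Injective (algebraMap V₀ T))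
    (q : Ideal T) [q.IsPrime] (m₀ : Ideal V₀) [m₀.IsMaximal] [q.LiesOver m₀] (hm₀ : m₀ ≠ ⊥)
    (halg : Algebra.IsAlgebraic (V₀ ⧸ m₀) (T ⧸ q))
    (htr : ¬ Algebra.IsAlgebraic V₀ T) (g₀ : T) (hg₀ : g₀ ≠ 0) :
    ∃ Q : Ideal T, Q.IsPrime ∧ Q ≤ q ∧ Q ≠ ⊥ ∧ Q.under V₀ = ⊥ ∧ g₀ ∉ Q := by
  classical
  haveI hbot : (⊥ : Ideal T).IsPrime := Ideal.isPrime_bot
  have hqm₀ : q.under V₀ = m₀ := (q.over_def m₀).symm
  have hnotmin := not_mem_minimalPrimes V₀ T q m₀ halg htr
  have hfinN := finite_minimalPrimes_map V₀ T m₀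
  obtain ⟨s, hs1, hs2⟩ := pit_generic V₀ T hinj g₀ hg₀
  have hbotc : (⊥ : Ideal T).comap (algebraMap V₀ T) = ⊥ := by
    rw [← RingHom.ker_eq_comap_bot]
    exact (RingHom.injective_iff_ker_eq_bot _).mp hinj
  -- prime avoidance
  let S : Finset (Ideal T) := insert ⊥ (hfinN.toFinset ∪ s)
  have hSprime : ∀ P ∈ S, P.IsPrime := by
    intro P hP
    rw [Finset.mem_insert, Finset.mem_union] at hP
    rcases hP with rfl | hP | hP
    · exact hbot
    · exact (hfinN.mem_toFinset.mp hP).1.1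
    · exact (hs1 P hP).1
  have hm₀q : m₀.map (algebraMap V₀ T) ≤ q := by
    rw [Ideal.map_le_iff_le_comap]
    exact hqm₀.ge
  have hqS : ∀ P ∈ S, ¬ q ≤ P := by
    intro P hP hqP
    rw [Finset.mem_insert, Finset.mem_union] at hP
    have hunder : m₀ ≤ P.under V₀ := by
      rw [← hqm₀]
      exact Ideal.comap_mono hqP
    rcases hP with rfl | hP | hP
    · apply hm₀
      rw [eq_bot_iff]
      exact hunder.trans hbotc.le
    · have hPmin := hfinN.mem_toFinset.mp hP
      have hPq : P ≤ q := hPmin.2 ⟨inferInstance, hm₀q⟩ hqP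
      have hPeq : P = q := le_antisymm hPq hqP
      rw [hPeq] at hPmin
      exact hnotmin hPmin
    · have h := (hs1 P hP).2
      apply hm₀
      rw [eq_bot_iff, ← h]
      exact hunder
  obtain ⟨g, hgq, hgS⟩ : ∃ g ∈ q, ∀ P ∈ S, g ∉ P := by
    by_contra hcon
    push Not at hcon
    have hsub : ((q : Ideal T) : Set T) ⊆ ⋃ P ∈ (S : Set (Ideal T)), ((id P : Ideal T) : Set T) := by
      intro g hg
      obtain ⟨P, hP, hgP⟩ := hcon g hg
      exact Set.mem_biUnion (Finset.mem_coe.mpr hP) hgP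
    obtain ⟨P, hP, hqP⟩ := (Ideal.subset_union_prime (s := S) (f := id) ⊥ ⊥
      (fun P hP _ _ => hSprime P hP)).mp hsub
    exact hqS P hP hqP
  have hg0 : g ≠ 0 := fun h => hgS ⊥ (Finset.mem_insert_self _ _) (h ▸ Ideal.zero_mem _)
  have hgN : ∀ N ∈ (m₀.map (algebraMap V₀ T)).minimalPrimes, g ∉ N := fun N hN =>
    hgS N (Finset.mem_insert_of_mem (Finset.mem_union_left _ (hfinN.mem_toFinset.mpr hN)))
  have hgs : ∀ P ∈ s, g ∉ P := fun P hP =>
    hgS P (Finset.mem_insert_of_mem (Finset.mem_union_right _ hP))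
  have hmin : ∀ P ∈ ((q.comap (algebraMap V₀ T)).map
        (algebraMap V₀ (Localization.AtPrime q))).minimalPrimes,
      algebraMap T (Localization.AtPrime q) g ∉ P := by
    intro P hP hgP
    have hI : (q.comap (algebraMap V₀ T)).map (algebraMap V₀ (Localization.AtPrime q)) =
        (m₀.map (algebraMap V₀ T)).map (algebraMap T (Localization.AtPrime q)) := by
      rw [Ideal.map_map, ← IsScalarTower.algebraMap_eq,
        show q.comap (algebraMap V₀ T) = m₀ from hqm₀]
    rw [hI, IsLocalization.minimalPrimes_map q.primeCompl (Localization.AtPrime q)] at hP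
    exact hgN _ hP hgP
  let f := Spec.map (CommRingCat.ofHom (algebraMap V₀ T))
  haveI : LocallyOfFiniteType f := by
    rw [HasRingHomProperty.Spec_iff (P := @LocallyOfFiniteType)]
    exact RingHom.finiteType_algebraMap.mpr inferInstance
  have hξmax : ∀ z' : ↥(Spec (CommRingCat.of T)),
      f z' = f (⟨⊥, hbot⟩ : PrimeSpectrum T) → z' ⤳ (⟨⊥, hbot⟩ : PrimeSpectrum T) →
      z' = (⟨⊥, hbot⟩ : PrimeSpectrum T) := by
    intro z' _ hz'
    have hle : (z' : PrimeSpectrum T).asIdeal ≤ (⊥ : Ideal T) :=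
      (@PrimeSpectrum.le_iff_specializes T _ z' ⟨⊥, hbot⟩).mpr hz'
    exact PrimeSpectrum.ext (le_bot_iff.mp hle)
  obtain ⟨t, -, ht⟩ := DimFormula.fibreDimAt_eq_trdeg_of_generic f
    (⟨⊥, hbot⟩ : PrimeSpectrum T) hξmax
  obtain ⟨z, hz1, hz2, hz3, hz4⟩ := FibGen.exists_fibre_generic_fibreDimAt_eq f
    (⟨q, inferInstance⟩ : PrimeSpectrum T)
  have hξz : (⟨⊥, hbot⟩ : PrimeSpectrum T) ⤳ z :=
    (PrimeSpectrum.le_iff_specializes (⟨⊥, hbot⟩ : PrimeSpectrum T) z).mp
      (bot_le : (⊥ : Ideal T) ≤ _)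
  have h1 : FlatMor.fibreDimAt f (⟨q, inferInstance⟩ : PrimeSpectrum T) ≤ (t : WithBot ℕ∞) := by
    rw [← hz4, ← ht]
    exact ValDim.fibreDimAt_le_of_specializes_of_fibreMax f hξz
      (fun z' h1 h2 => hz3 z' (h1.trans hz1) h2)
  have h2 : (t : WithBot ℕ∞) ≤ FlatMor.fibreDimAt f (⟨⊥, hbot⟩ : PrimeSpectrum T) := ht.ge
  have hξmin : (⊥ : Ideal T) ∈ minimalPrimes T := by
    rw [IsDomain.minimalPrimes_eq_singleton_bot]
    rfl
  obtain ⟨Q, hQp, hQq, hgQ, hQc⟩ := PrincFib.exists_prime_chart V₀ T q ⊥ bot_le hξmin g hgq hmin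
    t h1 h2
  obtain ⟨Q', hQ'min, hQ'le⟩ := Ideal.exists_minimalPrimes_le
    (show Ideal.span {g} ≤ Q from (Ideal.span_singleton_le_iff_mem _).mpr hgQ)
  have hQ'p : Q'.IsPrime := hQ'min.1.1
  have hgQ' : g ∈ Q' := hQ'min.1.2 (Ideal.subset_span rfl)
  have hQ'c : Q'.under V₀ = ⊥ := by
    rw [eq_bot_iff, ← hbotc, ← hQc]
    exact Ideal.comap_mono hQ'le
  refine ⟨Q', hQ'p, hQ'le.trans hQq, fun h => hg0 ?_, hQ'c, hs2 g Q' hgs hQ'min hQ'c⟩
  rw [h] at hgQ'
  exact Ideal.mem_bot.mp hgQ'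

end Groth.Agent.H1.SpecDense
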