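import Mathlib
import Groth.Agent.Lib.Helper1.SpecDenseA

set_option autoImplicit false
set_option linter.style.haveILetI false
universe u
open IsLocalRing Polynomial AlgebraicGeometry TensorProduct

namespace Groth.Agent.H1.SpecDense

section AlgMod

variable {A C : Type u} [CommRing A] [CommRing C] [Algebra A C]

theorem aeval_mk_map_poly (I : Ideal A) (J : Ideal C) [J.LiesOver I] (t : C) (a : A[X]) :
    Polynomial.aeval (Ideal.Quotient.mk J t) (a.map (Ideal.Quotient.mk I)) =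
      Ideal.Quotient.mk J (Polynomial.aeval t a) := by
  rw [Polynomial.aeval_def, Polynomial.eval₂_map, Polynomial.aeval_def, Polynomial.hom_eval₂]
  rfl

/-- `C/𝔮` is algebraic over `A/𝔭`, in polynomial form. -/
def AlgMod (A C : Type u) [CommRing A] [CommRing C] [Algebra A C] (𝔭 : Ideal A) (𝔮 : Ideal C) :
    Prop :=
  ∀ c : C, ∃ P : A[X], (∃ i, P.coeff i ∉ 𝔭) ∧ Polynomial.aeval c P ∈ 𝔮

theorem algMod_of_isAlgebraic (𝔭 : Ideal A) (𝔮 : Ideal C) [𝔮.LiesOver 𝔭]
    (h : Algebra.IsAlgebraic (A ⧸ 𝔭) (C ⧸ 𝔮)) : AlgMod A C 𝔭 𝔮 := by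
  intro c
  obtain ⟨Pb, hPb, h0⟩ := h.isAlgebraic (Ideal.Quotient.mk 𝔮 c)
  obtain ⟨P, rfl⟩ := Polynomial.map_surjective (Ideal.Quotient.mk 𝔭)
    Ideal.Quotient.mk_surjective Pb
  refine ⟨P, ?_, ?_⟩
  · by_contra hall
    push Not at hall
    apply hPb
    ext i
    rw [Polynomial.coeff_map, Polynomial.coeff_zero, Ideal.Quotient.eq_zero_iff_mem]
    exact hall i
  · rw [aeval_mk_map_poly] at h0
    exact Ideal.Quotient.eq_zero_iff_mem.mp h0

theorem isAlgebraic_mk_of_poly (𝔭 : Ideal A) (𝔮 : Ideal C) [𝔮.LiesOver 𝔭] (c : C) (P : A[X])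
    (hi : ∃ i, P.coeff i ∉ 𝔭) (hP : Polynomial.aeval c P ∈ 𝔮) :
    IsAlgebraic (A ⧸ 𝔭) (Ideal.Quotient.mk 𝔮 c) := by
  obtain ⟨i, hi⟩ := hi
  refine ⟨P.map (Ideal.Quotient.mk 𝔭), ?_, ?_⟩
  · intro h0
    apply hi
    have h1 := congrArg (fun p => p.coeff i) h0
    simp only [Polynomial.coeff_map, Polynomial.coeff_zero] at h1
    exact Ideal.Quotient.eq_zero_iff_mem.mp h1
  · rw [aeval_mk_map_poly]
    exact Ideal.Quotient.eq_zero_iff_mem.mpr hP

end AlgMod

/-- second core: `T` abstract. -/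
theorem keyDom_core2 (R B V₀ T : Type u) [CommRing R] [IsDomain R] [CommRing B] [IsDomain B]
    [Algebra R B] [CommRing V₀] [IsDomain V₀] [ValuationRing V₀] [Algebra R V₀]
    [CommRing T] [IsDomain T] [Algebra V₀ T] [Algebra.FiniteType V₀ T] [Algebra R T]
    [IsScalarTower R V₀ T]
    (hRV : Function.Injective (algebraMap R V₀)) (hVT : Function.Injective (algebraMap V₀ T))
    (hfrac : ∀ v : V₀, ∃ a s : R, s ≠ 0 ∧ algebraMap R V₀ s * v = algebraMap R V₀ a)
    (β : B →ₐ[R] T) (hβ : Function.Injective β) (hgenT : Algebra.adjoin V₀ (Set.range β) = ⊤)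
    (q' : Ideal B) [q'.IsPrime] (p' : Ideal R) (hp' : p' ≠ ⊥)
    (qt : Ideal T) [qt.IsPrime] (m₀ : Ideal V₀) [m₀.IsMaximal] [qt.LiesOver m₀]
    (hβq : qt.comap β = q') (hm : m₀.comap (algebraMap R V₀) = p')
    (halg : AlgMod R B p' q') (htr : ¬ Algebra.IsAlgebraic R B) (g₀ : B) (hg₀ : g₀ ≠ 0) :
    ∃ Q : Ideal B, Q.IsPrime ∧ Q ≤ q' ∧ Q ≠ ⊥ ∧ Q.under R = ⊥ ∧ g₀ ∉ Q := by
  classical
  haveI : m₀.IsPrime := Ideal.IsMaximal.isPrime inferInstance
  letI := Ideal.Quotient.field m₀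
  -- `m₀ ≠ ⊥`
  have hm₀ : m₀ ≠ ⊥ := by
    intro h
    apply hp'
    rw [← hm, h, ← RingHom.ker_eq_comap_bot]
    exact (RingHom.injective_iff_ker_eq_bot _).mp hRV
  -- algebraicity of the residue extension
  have hint : ∀ b : B, IsIntegral (V₀ ⧸ m₀) (Ideal.Quotient.mk qt (β b)) := by
    intro b
    obtain ⟨P, ⟨i, hi⟩, hP⟩ := halg b
    refine IsAlgebraic.isIntegral (isAlgebraic_mk_of_poly m₀ qt (β b)
      (P.map (algebraMap R V₀)) ⟨i, ?_⟩ ?_)
    · rw [Polynomial.coeff_map]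
      intro hc
      apply hi
      rw [← hm]
      exact hc
    · rw [Polynomial.aeval_map_algebraMap, Polynomial.aeval_algHom_apply]
      have : Polynomial.aeval b P ∈ qt.comap β := by rw [hβq]; exact hP
      exact this
  have key : ∀ t : T, IsIntegral (V₀ ⧸ m₀) (Ideal.Quotient.mk qt t) := by
    intro t
    have ht : t ∈ Algebra.adjoin V₀ (Set.range β) := by rw [hgenT]; trivial
    induction ht using Algebra.adjoin_induction with
    | mem x hx =>
      obtain ⟨b, rfl⟩ := hx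
      exact hint b
    | algebraMap v =>
      show IsIntegral _ (algebraMap (V₀ ⧸ m₀) (T ⧸ qt) (Ideal.Quotient.mk m₀ v))
      exact isIntegral_algebraMap
    | add x y _ _ hx hy =>
      rw [map_add]
      exact hx.add hy
    | mul x y _ _ hx hy =>
      rw [map_mul]
      exact hx.mul hy
  have halgT : Algebra.IsAlgebraic (V₀ ⧸ m₀) (T ⧸ qt) := by
    refine ⟨fun y => ?_⟩
    obtain ⟨t, rfl⟩ := Ideal.Quotient.mk_surjective y
    exact (key t).isAlgebraic
  -- transcendence
  have htrT : ¬ Algebra.IsAlgebraic V₀ T := by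
    intro hT
    apply htr
    haveI : Algebra.IsAlgebraic R V₀ := by
      refine ⟨fun v => ?_⟩
      obtain ⟨a, s, hs, hsv⟩ := hfrac v
      refine ⟨Polynomial.C s * Polynomial.X - Polynomial.C a, ?_, ?_⟩
      · intro h0
        have h1 := congrArg (fun p => p.coeff 1) h0
        simp at h1
        exact hs h1
      · simp only [map_sub, map_mul, Polynomial.aeval_C, Polynomial.aeval_X]
        rw [hsv, sub_self]
    haveI : Algebra.IsAlgebraic R T := Algebra.IsAlgebraic.trans R V₀ T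
    exact Algebra.IsAlgebraic.of_injective β hβ
  -- generation up to denominators
  have hgen : ∀ t : T, ∃ r : R, r ≠ 0 ∧ ∃ b : B, algebraMap R T r * t = β b := by
    intro t
    have ht : t ∈ Algebra.adjoin V₀ (Set.range β) := by rw [hgenT]; trivial
    induction ht using Algebra.adjoin_induction with
    | mem x hx =>
      obtain ⟨b, rfl⟩ := hx
      exact ⟨1, one_ne_zero, b, by rw [map_one, one_mul]⟩
    | algebraMap v =>
      obtain ⟨a, s, hs, hsv⟩ := hfrac v
      refine ⟨s, hs, algebraMap R B a, ?_⟩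
      rw [β.commutes, IsScalarTower.algebraMap_apply R V₀ T, ← map_mul, hsv,
        ← IsScalarTower.algebraMap_apply R V₀ T]
    | add x y _ _ hx hy =>
      obtain ⟨r₁, hr₁, b₁, h₁⟩ := hx
      obtain ⟨r₂, hr₂, b₂, h₂⟩ := hy
      refine ⟨r₁ * r₂, mul_ne_zero hr₁ hr₂, r₂ • b₁ + r₁ • b₂, ?_⟩
      rw [map_add, map_smul, map_smul, ← h₁, ← h₂, map_mul, Algebra.smul_def, Algebra.smul_def]
      ring
    | mul x y _ _ hx hy =>
      obtain ⟨r₁, hr₁, b₁, h₁⟩ := hx
      obtain ⟨r₂, hr₂, b₂, h₂⟩ := hy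
      refine ⟨r₁ * r₂, mul_ne_zero hr₁ hr₂, b₁ * b₂, ?_⟩
      rw [map_mul, map_mul, ← h₁, ← h₂]
      ring
  have hβg₀ : β g₀ ≠ 0 := fun h => hg₀ (hβ (by rw [h, map_zero]))
  obtain ⟨Q, hQp, hQq, hQ0, hQc, hgQ⟩ := keyVal V₀ T hVT qt m₀ hm₀ halgT htrT (β g₀) hβg₀
  refine ⟨Q.comap β, Ideal.comap_isPrime β Q, ?_, ?_, ?_, hgQ⟩
  · rw [← hβq]
    exact Ideal.comap_mono hQq
  · intro h
    apply hQ0
    rw [eq_bot_iff]
    intro t ht
    obtain ⟨r, hr, b, hb⟩ := hgen t
    have hbQ : b ∈ Q.comap β := by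
      rw [Ideal.mem_comap, ← hb]
      exact Q.mul_mem_left _ ht
    rw [h, Ideal.mem_bot] at hbQ
    rw [hbQ, map_zero] at hb
    rcases mul_eq_zero.mp hb with h0 | h0
    · exfalso
      apply hr
      have hRT : Function.Injective (algebraMap R T) := by
        rw [IsScalarTower.algebraMap_eq R V₀ T]
        exact hVT.comp hRV
      exact hRT (by rw [h0, map_zero])
    · rw [Ideal.mem_bot]
      exact h0
  · rw [eq_bot_iff]
    intro r hr
    rw [Ideal.mem_bot]
    have h1 : algebraMap R V₀ r ∈ Q.under V₀ := by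
      rw [Ideal.mem_comap, ← IsScalarTower.algebraMap_apply R V₀ T, ← β.commutes]
      exact hr
    rw [hQc, Ideal.mem_bot] at h1
    exact hRV (by rw [h1, map_zero])

section Core

variable {R B V₀ Wt : Type u} [CommRing R] [CommRing B] [Algebra R B] [CommRing V₀] [Algebra R V₀]
  [CommRing Wt] [Algebra R Wt] (j : V₀ →ₐ[R] Wt) (σ : B →ₐ[R] Wt)

/-- the image of `V₀ ⊗ B` in `Wt`, as a quotient ring. -/
abbrev TT : Type u := (V₀ ⊗[R] B) ⧸ RingHom.ker (Algebra.TensorProduct.productMap j σ)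

/-- `B → TT`. -/
noncomputable def ββ : B →ₐ[R] TT j σ :=
  (Ideal.Quotient.mkₐ R (RingHom.ker (Algebra.TensorProduct.productMap j σ))).comp
    Algebra.TensorProduct.includeRight

theorem kerLift_algebraMap (v : V₀) :
    Ideal.kerLiftAlg (Algebra.TensorProduct.productMap j σ) (algebraMap V₀ (TT j σ) v) = j v := by
  show Ideal.kerLiftAlg _ (Ideal.Quotient.mk _ (v ⊗ₜ[R] (1 : B))) = j v
  rw [Ideal.kerLiftAlg_mk, Algebra.TensorProduct.productMap_apply_tmul, map_one, mul_one]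

theorem kerLift_ββ (b : B) :
    Ideal.kerLiftAlg (Algebra.TensorProduct.productMap j σ) (ββ j σ b) = σ b := by
  show Ideal.kerLiftAlg _ (Ideal.Quotient.mk _ ((1 : V₀) ⊗ₜ[R] b)) = σ b
  rw [Ideal.kerLiftAlg_mk, Algebra.TensorProduct.productMap_apply_tmul, map_one, one_mul]

theorem adjoin_range_ββ : Algebra.adjoin V₀ (Set.range (ββ j σ)) = ⊤ := by
  rw [eq_top_iff]
  rintro y -
  obtain ⟨x, rfl⟩ := Ideal.Quotient.mk_surjective y
  induction x using TensorProduct.induction_on with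
  | zero =>
    rw [map_zero]
    exact Subalgebra.zero_mem _
  | tmul v b =>
    have h : Ideal.Quotient.mk (RingHom.ker (Algebra.TensorProduct.productMap j σ))
        (v ⊗ₜ[R] b) = v • ββ j σ b := by
      have h1 : v ⊗ₜ[R] b = v • ((1 : V₀) ⊗ₜ[R] b) := by
        rw [TensorProduct.smul_tmul', smul_eq_mul, mul_one]
      rw [h1]
      exact map_smul (Ideal.Quotient.mkₐ V₀
        (RingHom.ker (Algebra.TensorProduct.productMap j σ))) v _
    rw [h]
    exact Subalgebra.smul_mem _ (Algebra.subset_adjoin (Set.mem_range_self b)) v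
  | add x y hx hy =>
    rw [map_add]
    exact Subalgebra.add_mem _ hx hy

end Core

/-- first core: `V₀`, `Wt` abstract. -/
theorem keyDom_core (R B V₀ Wt : Type u) [CommRing R] [IsDomain R] [CommRing B] [IsDomain B]
    [Algebra R B] [Algebra.FiniteType R B] [CommRing V₀] [IsDomain V₀] [ValuationRing V₀]
    [Algebra R V₀] [CommRing Wt] [IsDomain Wt] [Algebra R Wt]
    (j : V₀ →ₐ[R] Wt) (σ : B →ₐ[R] Wt) (hj : Function.Injective j) (hσ : Function.Injective σ)
    (hRV : Function.Injective (algebraMap R V₀))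
    (hfrac : ∀ v : V₀, ∃ a s : R, s ≠ 0 ∧ algebraMap R V₀ s * v = algebraMap R V₀ a)
    (𝔪 : Ideal Wt) [𝔪.IsPrime] (q' : Ideal B) [q'.IsPrime] (hq' : 𝔪.comap σ = q')
    (m₀ : Ideal V₀) [m₀.IsMaximal] (hm₀ : 𝔪.comap j = m₀)
    (p' : Ideal R) (hp' : p' ≠ ⊥) (hpq : q'.under R = p')
    (halg : AlgMod R B p' q') (htr : ¬ Algebra.IsAlgebraic R B) (g₀ : B) (hg₀ : g₀ ≠ 0) :
    ∃ Q : Ideal B, Q.IsPrime ∧ Q ≤ q' ∧ Q ≠ ⊥ ∧ Q.under R = ⊥ ∧ g₀ ∉ Q := by
  haveI hker : (RingHom.ker (Algebra.TensorProduct.productMap j σ)).IsPrime :=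
    RingHom.ker_isPrime _
  have hVT : Function.Injective (algebraMap V₀ (TT j σ)) := by
    intro a b hab
    apply hj
    rw [← kerLift_algebraMap j σ a, ← kerLift_algebraMap j σ b, hab]
  have hβ : Function.Injective (ββ j σ) := by
    intro a b hab
    apply hσ
    rw [← kerLift_ββ j σ a, ← kerLift_ββ j σ b, hab]
  haveI hqtp : (𝔪.comap (Ideal.kerLiftAlg (Algebra.TensorProduct.productMap j σ))).IsPrime :=
    Ideal.comap_isPrime _ _
  haveI : (𝔪.comap (Ideal.kerLiftAlg (Algebra.TensorProduct.productMap j σ))).LiesOver m₀ :=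
    ⟨by
      rw [← hm₀]
      ext v
      rw [Ideal.mem_comap, Ideal.under_def, Ideal.mem_comap, Ideal.mem_comap,
        kerLift_algebraMap]⟩
  refine keyDom_core2 R B V₀ (TT j σ) hRV hVT hfrac (ββ j σ) hβ (adjoin_range_ββ j σ) q' p' hp'
    (𝔪.comap (Ideal.kerLiftAlg (Algebra.TensorProduct.productMap j σ))) m₀ ?_ ?_ halg htr g₀ hg₀
  · rw [← hq']
    ext b
    rw [Ideal.mem_comap, Ideal.mem_comap, Ideal.mem_comap, kerLift_ββ]
  · rw [← hpq, ← hq', ← hm₀]
    ext r
    rw [Ideal.mem_comap, Ideal.mem_comap, Ideal.under_def, Ideal.mem_comap, Ideal.mem_comap,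
      j.commutes, σ.commutes]

/-- the valuation ring `V₀ = W ∩ K`. -/
theorem keyDom_fields (R B K L : Type u) [CommRing R] [IsDomain R] [CommRing B] [IsDomain B]
    [Algebra R B] [Algebra.FiniteType R B] [Field K] [Field L] [Algebra R K] [IsFractionRing R K]
    [Algebra B L] [Algebra K L] [Algebra R L] [IsScalarTower R K L] [IsScalarTower R B L]
    (hBL : Function.Injective (algebraMap B L))
    (W : ValuationSubring L) (σ₀ : B →+* W)
    (hσcoe : ∀ s, ((σ₀ s : W) : L) = algebraMap B L s)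
    (q' : Ideal B) [q'.IsPrime] (hσm : (IsLocalRing.maximalIdeal W).comap σ₀ = q')
    (p' : Ideal R) (hp' : p' ≠ ⊥) (hpq : q'.under R = p')
    (halg : AlgMod R B p' q') (htr : ¬ Algebra.IsAlgebraic R B) (g₀ : B) (hg₀ : g₀ ≠ 0) :
    ∃ Q : Ideal B, Q.IsPrime ∧ Q ≤ q' ∧ Q ≠ ⊥ ∧ Q.under R = ⊥ ∧ g₀ ∉ Q := by
  classical
  letI algRW : Algebra R W := (σ₀.comp (algebraMap R B)).toAlgebra
  let σ : B →ₐ[R] W := { σ₀ with commutes' := fun r => rfl }
  have hmem : ∀ r : R, algebraMap R K r ∈ W.comap (algebraMap K L) := by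
    intro r
    rw [ValuationSubring.mem_comap, ← IsScalarTower.algebraMap_apply R K L,
      IsScalarTower.algebraMap_apply R B L, ← hσcoe]
    exact (σ₀ (algebraMap R B r)).2
  letI algRV : Algebra R (W.comap (algebraMap K L)) :=
    ((algebraMap R K).codRestrict (W.comap (algebraMap K L)) hmem).toAlgebra
  let j₀ : (W.comap (algebraMap K L)) →+* W :=
    ((algebraMap K L).comp (W.comap (algebraMap K L)).subtype).codRestrict W
      (fun v => ValuationSubring.mem_comap.mp v.2)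
  have hj₀coe : ∀ v : W.comap (algebraMap K L), ((j₀ v : W) : L) = algebraMap K L (v : K) :=
    fun v => rfl
  let j : (W.comap (algebraMap K L)) →ₐ[R] W :=
    { j₀ with
      commutes' := fun r => by
        apply Subtype.ext
        show algebraMap K L (algebraMap R K r) = ((σ₀ (algebraMap R B r) : W) : L)
        rw [hσcoe, ← IsScalarTower.algebraMap_apply, ← IsScalarTower.algebraMap_apply] }
  have hjcoe : ∀ v : W.comap (algebraMap K L), ((j v : W) : L) = algebraMap K L (v : K) :=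
    fun v => rfl
  have hj : Function.Injective j := by
    intro v v' h
    have h1 : algebraMap K L (v : K) = algebraMap K L (v' : K) := by
      rw [← hjcoe, ← hjcoe, h]
    exact Subtype.ext ((algebraMap K L).injective h1)
  have hσ : Function.Injective σ := by
    intro b b' h
    have h1 : algebraMap B L b = algebraMap B L b' := by
      rw [← hσcoe, ← hσcoe]
      exact congrArg (fun w : W => (w : L)) h
    exact hBL h1
  have hRV : Function.Injective (algebraMap R (W.comap (algebraMap K L))) := by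
    intro r r' h
    have h1 : algebraMap R K r = algebraMap R K r' :=
      congrArg (fun v : W.comap (algebraMap K L) => (v : K)) h
    exact IsFractionRing.injective R K h1
  have hfrac : ∀ v : W.comap (algebraMap K L), ∃ a s : R, s ≠ 0 ∧
      algebraMap R (W.comap (algebraMap K L)) s * v =
        algebraMap R (W.comap (algebraMap K L)) a := by
    intro v
    obtain ⟨⟨a, s⟩, h⟩ := IsLocalization.surj (nonZeroDivisors R) (v : K)
    refine ⟨a, s, nonZeroDivisors.ne_zero s.2, Subtype.ext ?_⟩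
    show algebraMap R K s * (v : K) = algebraMap R K a
    rw [mul_comm]
    exact h
  have hq' : (IsLocalRing.maximalIdeal W).comap σ = q' := by
    rw [← hσm]
    rfl
  haveI hm₀max : ((IsLocalRing.maximalIdeal W).comap j).IsMaximal := by
    have hunit : ∀ v : W.comap (algebraMap K L),
        v ∉ (IsLocalRing.maximalIdeal W).comap j → IsUnit v := by
      intro v hv
      have h1 : IsUnit (j v) := by
        by_contra h
        exact hv ((IsLocalRing.mem_maximalIdeal _).mpr h)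
      obtain ⟨w, hw⟩ := isUnit_iff_exists_inv.mp h1
      have hwL : algebraMap K L (v : K) * (w : L) = 1 := by
        have := congrArg (fun w : W => (w : L)) hw
        exact this
      have hv0 : (v : K) ≠ 0 := by
        intro h0
        rw [h0, map_zero, zero_mul] at hwL
        exact zero_ne_one hwL
      have hinv : algebraMap K L ((v : K)⁻¹) = (w : L) := by
        rw [map_inv₀]
        exact inv_eq_of_mul_eq_one_right hwL
      have hmem' : (v : K)⁻¹ ∈ W.comap (algebraMap K L) := by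
        rw [ValuationSubring.mem_comap, hinv]
        exact w.2
      exact isUnit_iff_exists_inv.mpr ⟨⟨(v : K)⁻¹, hmem'⟩, Subtype.ext (mul_inv_cancel₀ hv0)⟩
    rw [Ideal.isMaximal_iff]
    refine ⟨(Ideal.ne_top_iff_one _).mp (Ideal.IsPrime.ne_top (Ideal.comap_isPrime _ _)), ?_⟩
    intro J x _ hx hxJ
    rw [← Ideal.eq_top_iff_one]
    exact Ideal.eq_top_of_isUnit_mem J hxJ (hunit x hx)
  exact keyDom_core R B (W.comap (algebraMap K L)) W j σ hj hσ hRV hfrac
    (IsLocalRing.maximalIdeal W) q' hq' ((IsLocalRing.maximalIdeal W).comap j) rfl p' hp' hpq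
    halg htr g₀ hg₀

/-- **Key lemma for domains.** -/
theorem keyDom (R B : Type u) [CommRing R] [IsDomain R] [CommRing B] [IsDomain B] [Algebra R B]
    [Algebra.FiniteType R B] (hRB : Function.Injective (algebraMap R B))
    (q' : Ideal B) [q'.IsPrime] (p' : Ideal R) (hp' : p' ≠ ⊥) (hpq : q'.under R = p')
    (halg : AlgMod R B p' q') (htr : ¬ Algebra.IsAlgebraic R B) (g₀ : B) (hg₀ : g₀ ≠ 0) :
    ∃ Q : Ideal B, Q.IsPrime ∧ Q ≤ q' ∧ Q ≠ ⊥ ∧ Q.under R = ⊥ ∧ g₀ ∉ Q := by
  haveI : FaithfulSMul R B := (faithfulSMul_iff_algebraMap_injective R B).mpr hRB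
  haveI : FaithfulSMul R (FractionRing B) := by
    rw [faithfulSMul_iff_algebraMap_injective, IsScalarTower.algebraMap_eq R B (FractionRing B)]
    exact (IsFractionRing.injective B (FractionRing B)).comp hRB
  letI algKL : Algebra (FractionRing R) (FractionRing B) :=
    FractionRing.liftAlgebra R (FractionRing B)
  haveI : IsScalarTower R (FractionRing R) (FractionRing B) :=
    FractionRing.isScalarTower_liftAlgebra R (FractionRing B)
  obtain ⟨W, σ₀, hσcoe, hσm⟩ := PrincFib.exists_valuationSubring B q'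
  exact keyDom_fields R B (FractionRing R) (FractionRing B)
    (IsFractionRing.injective B (FractionRing B)) W σ₀ hσcoe q' hσm p' hp' hpq halg htr g₀ hg₀

/-- **Key lemma for rings**: a chain `P ≤ P'` over `p ≠ p'`. -/
theorem keyRing (R₀ A : Type u) [CommRing R₀] [CommRing A] [Algebra R₀ A]
    [Algebra.FiniteType R₀ A]
    (P P' : Ideal A) [P.IsPrime] [P'.IsPrime] (hPP' : P ≤ P')
    (p p' : Ideal R₀) [p.IsPrime] [p'.IsPrime] [P.LiesOver p] [P'.LiesOver p'] (hpp' : p ≠ p')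
    (halg : Algebra.IsAlgebraic (R₀ ⧸ p') (A ⧸ P'))
    (htr : ¬ Algebra.IsAlgebraic (R₀ ⧸ p) (A ⧸ P)) (a : A) (ha : a ∉ P) :
    ∃ P₂ : Ideal A, P₂.IsPrime ∧ P < P₂ ∧ P₂ ≤ P' ∧ P₂.under R₀ = p ∧ a ∉ P₂ := by
  classical
  have hple : p ≤ p' := by
    rw [P.over_def p, P'.over_def p']
    exact Ideal.comap_mono hPP'
  haveI : Algebra.FiniteType (R₀ ⧸ p) (A ⧸ P) :=
    Algebra.FiniteType.of_restrictScalars_finiteType R₀ (R₀ ⧸ p) (A ⧸ P)
  have hinj : Function.Injective (algebraMap (R₀ ⧸ p) (A ⧸ P)) :=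
    FaithfulSMul.algebraMap_injective _ _
  have hkerP : RingHom.ker (Ideal.Quotient.mk P) ≤ P' := by
    rw [Ideal.mk_ker]
    exact hPP'
  haveI hq'p : (P'.map (Ideal.Quotient.mk P)).IsPrime :=
    Ideal.map_isPrime_of_surjective Ideal.Quotient.mk_surjective hkerP
  have hcomapq' : (P'.map (Ideal.Quotient.mk P)).comap (Ideal.Quotient.mk P) = P' := by
    rw [Ideal.comap_map_of_surjective _ Ideal.Quotient.mk_surjective,
      ← RingHom.ker_eq_comap_bot, Ideal.mk_ker]
    exact sup_eq_left.mpr hPP'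
  have hcomapp' : (p'.map (Ideal.Quotient.mk p)).comap (Ideal.Quotient.mk p) = p' := by
    rw [Ideal.comap_map_of_surjective _ Ideal.Quotient.mk_surjective,
      ← RingHom.ker_eq_comap_bot, Ideal.mk_ker]
    exact sup_eq_left.mpr hple
  have hpq : (P'.map (Ideal.Quotient.mk P)).under (R₀ ⧸ p) = p'.map (Ideal.Quotient.mk p) := by
    ext y
    obtain ⟨r, rfl⟩ := Ideal.Quotient.mk_surjective y
    constructor
    · intro h
      have h1 : algebraMap R₀ A r ∈
          (P'.map (Ideal.Quotient.mk P)).comap (Ideal.Quotient.mk P) := h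
      rw [hcomapq'] at h1
      have h2 : r ∈ p' := by
        rw [P'.over_def p']
        exact h1
      exact Ideal.mem_map_of_mem _ h2
    · intro h
      have h1 : r ∈ (p'.map (Ideal.Quotient.mk p)).comap (Ideal.Quotient.mk p) := h
      rw [hcomapp', P'.over_def p'] at h1
      exact Ideal.mem_map_of_mem (Ideal.Quotient.mk P) h1
  have hp''ne : p'.map (Ideal.Quotient.mk p) ≠ ⊥ := by
    intro h
    apply hpp'
    refine le_antisymm hple ?_
    intro r hr
    have h1 : Ideal.Quotient.mk p r ∈ p'.map (Ideal.Quotient.mk p) :=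
      Ideal.mem_map_of_mem _ hr
    rw [h, Ideal.mem_bot] at h1
    exact Ideal.Quotient.eq_zero_iff_mem.mp h1
  have halg0 := algMod_of_isAlgebraic p' P' halg
  have halg' : AlgMod (R₀ ⧸ p) (A ⧸ P) (p'.map (Ideal.Quotient.mk p))
      (P'.map (Ideal.Quotient.mk P)) := by
    intro c
    obtain ⟨c, rfl⟩ := Ideal.Quotient.mk_surjective c
    obtain ⟨Q, ⟨i, hi⟩, hQ⟩ := halg0 c
    refine ⟨Q.map (Ideal.Quotient.mk p), ⟨i, ?_⟩, ?_⟩
    · rw [Polynomial.coeff_map]
      intro hc
      apply hi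
      have h1 : Q.coeff i ∈ (p'.map (Ideal.Quotient.mk p)).comap (Ideal.Quotient.mk p) := hc
      rwa [hcomapp'] at h1
    · rw [aeval_mk_map_poly]
      exact Ideal.mem_map_of_mem _ hQ
  have hmka : Ideal.Quotient.mk P a ≠ 0 := fun h => ha (Ideal.Quotient.eq_zero_iff_mem.mp h)
  obtain ⟨Q₁, hQ₁p, hQ₁q', hQ₁0, hQ₁c, haQ₁⟩ := keyDom (R₀ ⧸ p) (A ⧸ P) hinj
    (P'.map (Ideal.Quotient.mk P)) (p'.map (Ideal.Quotient.mk p)) hp''ne hpq halg' htr
    (Ideal.Quotient.mk P a) hmka
  have hle : P ≤ Q₁.comap (Ideal.Quotient.mk P) := by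
    intro x hx
    rw [Ideal.mem_comap, Ideal.Quotient.eq_zero_iff_mem.mpr hx]
    exact Q₁.zero_mem
  refine ⟨Q₁.comap (Ideal.Quotient.mk P), Ideal.comap_isPrime _ _, lt_of_le_of_ne hle ?_, ?_, ?_,
    haQ₁⟩
  · intro h
    apply hQ₁0
    rw [← Ideal.map_comap_of_surjective (Ideal.Quotient.mk P) Ideal.Quotient.mk_surjective Q₁,
      ← h, Ideal.map_quotient_self]
  · rw [← hcomapq']
    exact Ideal.comap_mono hQ₁q'
  · ext r
    constructor
    · intro h
      have h1 : Ideal.Quotient.mk p r ∈ Q₁.under (R₀ ⧸ p) := h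
      rw [hQ₁c, Ideal.mem_bot] at h1
      exact Ideal.Quotient.eq_zero_iff_mem.mp h1
    · intro h
      have h1 : Ideal.Quotient.mk p r ∈ Q₁.under (R₀ ⧸ p) := by
        rw [hQ₁c, Ideal.mem_bot]
        exact Ideal.Quotient.eq_zero_iff_mem.mpr h
      exact h1

end Groth.Agent.H1.SpecDense
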