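import Mathlib
import Groth.Agent.Lib.Helper1.SpecDenseB
import Groth.Agent.Lib.Helper1.DimIneqE
import Groth.Agent.Lib.Helper1.DimLocC
import Groth.Agent.Lib.Helper1.QFSub
import Groth.Agent.Lib.Helper1.AlgFibFin
import Groth.Agent.Lib.Helper5.FibDim.Spec

set_option autoImplicit false
set_option linter.style.haveILetI false
universe u
open AlgebraicGeometry CategoryTheory TopologicalSpace Topology
open Groth.Agent.H1.DimLoc Groth.Agent.H1.DimIneq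

namespace Groth.Agent.H1.SpecDense

variable {X S : Scheme.{u}}

set_option backward.isDefEq.respectTransparency false in
/-- the geometric key step: a proper specialization of `x` inside its fibre, in a given open
neighbourhood of `x`, still generizing `x'`. -/
theorem key_scheme (f : X ⟶ S) [LocallyOfFiniteType f] (x x' : X) (hsp : x ⤳ x')
    (hne : f x ≠ f x') (h0' : Dual3.resTrdeg f x' = 0) (h0 : Dual3.resTrdeg f x ≠ 0)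
    (W : Set X) (hW : IsOpen W) (hxW : x ∈ W) :
    ∃ x₂ : X, x₂ ∈ W ∧ x₂ ≠ x ∧ f x₂ = f x ∧ x ⤳ x₂ ∧ x₂ ⤳ x' := by
  classical
  obtain ⟨V, hV, hfxV⟩ : ∃ V : S.Opens, IsAffineOpen V ∧ f x' ∈ V := by
    obtain ⟨_, ⟨V, hV, rfl⟩, hz, -⟩ :=
      S.isBasis_affineOpens.exists_subset_of_mem_open (Set.mem_univ (f x')) isOpen_univ
    exact ⟨V, hV, hz⟩
  obtain ⟨_, ⟨U, hU, rfl⟩, hx'U, hUV⟩ :=
    X.isBasis_affineOpens.exists_subset_of_mem_open (show x' ∈ (f ⁻¹ᵁ V : Set ↑X) from hfxV)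
      (f ⁻¹ᵁ V).isOpen
  have e : U ≤ f ⁻¹ᵁ V := hUV
  have hxU : x ∈ U := hsp.mem_open U.2 hx'U
  letI algRT : Algebra Γ(S, V) Γ(X, U) := (f.appLE V U e).hom.toAlgebra
  haveI : Algebra.FiniteType Γ(S, V) Γ(X, U) := f.finiteType_appLE hV hU e
  letI hlo := liesOver_primeIdealOf f hU hV e x hxU
  letI hlo' := liesOver_primeIdealOf f hU hV e x' hx'U
  have hy : hU.fromSpec (hU.primeIdealOf ⟨x, hxU⟩) = x := hU.fromSpec_primeIdealOf ⟨x, hxU⟩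
  have hy' : hU.fromSpec (hU.primeIdealOf ⟨x', hx'U⟩) = x' :=
    hU.fromSpec_primeIdealOf ⟨x', hx'U⟩
  have hinj : Function.Injective hU.fromSpec := hU.fromSpec.isOpenEmbedding.injective
  have hinjV : Function.Injective hV.fromSpec := hV.fromSpec.isOpenEmbedding.injective
  have hspec : ∀ w w' : PrimeSpectrum Γ(X, U),
      hU.fromSpec w ⤳ hU.fromSpec w' ↔ w.asIdeal ≤ w'.asIdeal := by
    intro w w'
    rw [hU.fromSpec.isOpenEmbedding.isInducing.specializes_iff,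
      ← PrimeSpectrum.le_iff_specializes]
    rfl
  have hfw : ∀ w : PrimeSpectrum Γ(X, U),
      f (hU.fromSpec w) = hV.fromSpec (Spec.map (f.appLE V U e) w) := by
    intro w
    rw [← Scheme.Hom.comp_apply, ← IsAffineOpen.SpecMap_appLE_fromSpec f hV hU e,
      Scheme.Hom.comp_apply]
  have hfeq : ∀ w w' : PrimeSpectrum Γ(X, U), f (hU.fromSpec w) = f (hU.fromSpec w') ↔
      w.asIdeal.comap (algebraMap Γ(S, V) Γ(X, U)) =
        w'.asIdeal.comap (algebraMap Γ(S, V) Γ(X, U)) := by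
    intro w w'
    rw [hfw, hfw, hinjV.eq_iff]
    constructor
    · intro h
      exact congrArg PrimeSpectrum.asIdeal h
    · intro h
      exact PrimeSpectrum.ext h
  have hPP' : (hU.primeIdealOf ⟨x, hxU⟩).asIdeal ≤ (hU.primeIdealOf ⟨x', hx'U⟩).asIdeal :=
    primeIdealOf_le_of_specializes hU x' x hx'U hxU hsp
  have hpp' : (hV.primeIdealOf ⟨f x, e hxU⟩).asIdeal ≠
      (hV.primeIdealOf ⟨f x', e hx'U⟩).asIdeal := by
    intro h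
    apply hne
    have h1 : hV.primeIdealOf ⟨f x, e hxU⟩ = hV.primeIdealOf ⟨f x', e hx'U⟩ :=
      PrimeSpectrum.ext h
    have h2 := congrArg hV.fromSpec h1
    rw [hV.fromSpec_primeIdealOf, hV.fromSpec_primeIdealOf] at h2
    exact h2
  have halg : Algebra.IsAlgebraic (Γ(S, V) ⧸ (hV.primeIdealOf ⟨f x', e hx'U⟩).asIdeal)
      (Γ(X, U) ⧸ (hU.primeIdealOf ⟨x', hx'U⟩).asIdeal) := by
    rw [← trdeg_eq_zero_iff, ← resTrdeg_eq_trdeg_quotient f hU hV e x' hx'U]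
    exact h0'
  have htr : ¬ Algebra.IsAlgebraic (Γ(S, V) ⧸ (hV.primeIdealOf ⟨f x, e hxU⟩).asIdeal)
      (Γ(X, U) ⧸ (hU.primeIdealOf ⟨x, hxU⟩).asIdeal) := by
    rw [← trdeg_eq_zero_iff, ← resTrdeg_eq_trdeg_quotient f hU hV e x hxU]
    exact h0
  have hWU : IsOpen (hU.fromSpec ⁻¹' W) := hW.preimage hU.fromSpec.continuous
  have hyW : hU.primeIdealOf ⟨x, hxU⟩ ∈ hU.fromSpec ⁻¹' W := by
    show hU.fromSpec (hU.primeIdealOf ⟨x, hxU⟩) ∈ W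
    rw [hy]
    exact hxW
  obtain ⟨_, ⟨a, rfl⟩, hya, haW⟩ :=
    PrimeSpectrum.isTopologicalBasis_basic_opens.exists_subset_of_mem_open hyW hWU
  have hya' : a ∉ (hU.primeIdealOf ⟨x, hxU⟩).asIdeal := hya
  obtain ⟨P₂, hP₂p, hlt, hP₂P', hP₂c, haP₂⟩ := keyRing Γ(S, V) Γ(X, U)
    (hU.primeIdealOf ⟨x, hxU⟩).asIdeal (hU.primeIdealOf ⟨x', hx'U⟩).asIdeal hPP'
    (hV.primeIdealOf ⟨f x, e hxU⟩).asIdeal (hV.primeIdealOf ⟨f x', e hx'U⟩).asIdeal hpp' halg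
    htr a hya'
  refine ⟨hU.fromSpec ⟨P₂, hP₂p⟩, haW (show (⟨P₂, hP₂p⟩ : PrimeSpectrum Γ(X, U)) ∈
    (PrimeSpectrum.basicOpen a : Set (PrimeSpectrum Γ(X, U))) from haP₂), ?_, ?_, ?_, ?_⟩
  · intro h
    rw [← hy] at h
    have h1 := hinj h
    exact hlt.ne (congrArg PrimeSpectrum.asIdeal h1).symm
  · rw [← hy]
    exact (hfeq ⟨P₂, hP₂p⟩ (hU.primeIdealOf ⟨x, hxU⟩)).mpr (hP₂c.trans hlo.over)
  · rw [← hy]
    exact (hspec (hU.primeIdealOf ⟨x, hxU⟩) ⟨P₂, hP₂p⟩).mpr hlt.le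
  · rw [← hy']
    exact (hspec ⟨P₂, hP₂p⟩ (hU.primeIdealOf ⟨x', hx'U⟩)).mpr hP₂P'

theorem aux (f : X ⟶ S) [LocallyOfFiniteType f] (x' : X) (h0' : Dual3.resTrdeg f x' = 0)
    (W : Set X) (hW : IsOpen W) :
    ∀ (c : Cardinal.{u}) (x : X), Dual3.resTrdeg f x = c → x ⤳ x' → f x ≠ f x' → x ∈ W →
      ∃ x₁ : X, x₁ ∈ W ∧ f x₁ = f x ∧ Dual3.resTrdeg f x₁ = 0 ∧ x ⤳ x₁ ∧ x₁ ⤳ x' := by
  intro c
  refine Cardinal.lt_wf.induction (C := fun c => ∀ x : X, Dual3.resTrdeg f x = c → x ⤳ x' →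
    f x ≠ f x' → x ∈ W →
      ∃ x₁ : X, x₁ ∈ W ∧ f x₁ = f x ∧ Dual3.resTrdeg f x₁ = 0 ∧ x ⤳ x₁ ∧ x₁ ⤳ x') c ?_
  intro c ih x hc hsp hne hxW
  by_cases h0 : Dual3.resTrdeg f x = 0
  · exact ⟨x, hxW, rfl, h0, specializes_rfl, hsp⟩
  · obtain ⟨x₂, hx₂W, hx₂ne, hfx₂, hxx₂, hx₂x'⟩ := key_scheme f x x' hsp hne h0' h0 W hW hxW
    have hlt : Dual3.resTrdeg f x₂ < c := by
      rw [← hc]
      exact H5FibDim.main9381 f x x₂ hxx₂ hx₂ne.symm hfx₂.symm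
    obtain ⟨x₁, hx₁W, hfx₁, hx₁0, hx₂x₁, hx₁x'⟩ :=
      ih _ hlt x₂ rfl hx₂x' (by rw [hfx₂]; exact hne) hx₂W
    exact ⟨x₁, hx₁W, hfx₁.trans hfx₂, hx₁0, hxx₂.trans hx₂x₁, hx₁x'⟩

theorem main_S1374 (f : X ⟶ S) [LocallyOfFiniteType f] (x x' : X) (hsp : x ⤳ x')
    (hne : f x ≠ f x') (hcl : IsClosed (Subtype.val ⁻¹' {x'} : Set ↑(f ⁻¹' {f x'}))) :
    Dense (Subtype.val ⁻¹' {x₁ : ↑X | f x₁ = f x ∧
      IsClosed (Subtype.val ⁻¹' {x₁} : Set ↑(f ⁻¹' {f x})) ∧ x ⤳ x₁ ∧ x₁ ⤳ x'} :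
      Set ↑(closure {x} ∩ f ⁻¹' {f x})) := by
  have h0' := QFSub.resTrdeg_eq_zero_of_closed f x' hcl
  rw [dense_iff_inter_open]
  rintro O hO ⟨⟨z, hz⟩, hzO⟩
  obtain ⟨W, hW, rfl⟩ := isOpen_induced_iff.mp hO
  have hxz : x ⤳ z := specializes_iff_mem_closure.mpr hz.1
  have hxW : x ∈ W := hxz.mem_open hW hzO
  obtain ⟨x₁, hx₁W, hfx₁, hx₁0, hxx₁, hx₁x'⟩ := aux f x' h0' W hW _ x rfl hsp hne hxW
  have hx₁Y : x₁ ∈ closure {x} ∩ f ⁻¹' {f x} :=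
    ⟨specializes_iff_mem_closure.mp hxx₁, hfx₁⟩
  refine ⟨⟨x₁, hx₁Y⟩, hx₁W, hfx₁, ?_, hxx₁, hx₁x'⟩
  have h1 := AlgFibFin.isClosed_singleton_fiberHomeo_symm f (f x) x₁ hfx₁ hx₁0
  have h2 : (Subtype.val ⁻¹' {x₁} : Set ↑(f ⁻¹' {f x})) =
      (f.fiberHomeo (f x)).symm ⁻¹' {(f.fiberHomeo (f x)).symm ⟨x₁, hfx₁⟩} := by
    ext w
    simp only [Set.mem_preimage, Set.mem_singleton_iff]
    rw [(f.fiberHomeo (f x)).symm.injective.eq_iff]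
    exact ⟨fun h => Subtype.ext h, fun h => by rw [h]⟩
  rw [h2]
  exact h1.preimage (f.fiberHomeo (f x)).symm.continuous

end Groth.Agent.H1.SpecDense
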