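import Mathlib
import Groth.Agent.Lib.Helper1.Spectral2

set_option autoImplicit false
universe u
open Topology TopologicalSpace

namespace Groth.Agent.H1.Spec2

section Prod
variable {X T : Type*} [TopologicalSpace X] [TopologicalSpace T]

/-- product of a quasi-sober space with a Hausdorff space is quasi-sober. -/
theorem quasiSober_prod [QuasiSober X] [T2Space T] : QuasiSober (X × T) := by
  constructor
  intro S hSirr hScl
  -- the image in T is a single point
  have hT : (Prod.snd '' S).Subsingleton :=
    (hSirr.image Prod.snd continuous_snd.continuousOn).isPreirreducible.subsingleton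
  obtain ⟨⟨x₁, t⟩, hxt⟩ := hSirr.nonempty
  have hsnd : ∀ p ∈ S, p.2 = t := fun p hp => hT ⟨p, hp, rfl⟩ ⟨(x₁, t), hxt, rfl⟩
  set S' : Set X := Prod.fst '' S with hS'
  have hS'eq : S' = (fun x => (x, t)) ⁻¹' S := by
    ext x
    constructor
    · rintro ⟨p, hp, rfl⟩
      have : p = (p.1, t) := Prod.ext rfl (hsnd p hp)
      simpa [← this] using hp
    · intro hx
      exact ⟨(x, t), hx, rfl⟩
  have hS'cl : IsClosed S' := by
    rw [hS'eq]
    exact hScl.preimage (by fun_prop)
  have hS'irr : IsIrreducible S' := hSirr.image Prod.fst continuous_fst.continuousOn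
  obtain ⟨x₀, hx₀⟩ := QuasiSober.sober hS'irr hS'cl
  refine ⟨(x₀, t), ?_⟩
  show closure {(x₀, t)} = S
  rw [← Set.singleton_prod_singleton, closure_prod_eq, hx₀.def, closure_singleton]
  ext p
  constructor
  · rintro ⟨hp1, hp2⟩
    rw [hS'eq] at hp1
    have : p = (p.1, t) := Prod.ext rfl hp2
    rw [this]; exact hp1
  · intro hp
    exact ⟨⟨p, hp, rfl⟩, hsnd p hp⟩

variable [CompactSpace T] [T2Space T] [TotallyDisconnectedSpace T]

theorem isTopologicalBasis_prod_clopen [PrespectralSpace X] :
    IsTopologicalBasis (Set.image2 (· ×ˢ ·) {U : Set X | IsOpen U ∧ IsCompact U}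
      {V : Set T | IsClopen V}) :=
  (PrespectralSpace.isTopologicalBasis (X := X)).prod isTopologicalBasis_isClopen

theorem prespectralSpace_prod [PrespectralSpace X] : PrespectralSpace (X × T) := by
  refine PrespectralSpace.of_isTopologicalBasis isTopologicalBasis_prod_clopen ?_
  rintro _ ⟨U, ⟨-, hUc⟩, V, hV, rfl⟩
  exact hUc.prod hV.isClosed.isCompact

theorem quasiSeparatedSpace_prod [PrespectralSpace X] [QuasiSeparatedSpace X] :
    QuasiSeparatedSpace (X × T) := by
  let ι := {p : Set X × Set T // (IsOpen p.1 ∧ IsCompact p.1) ∧ IsClopen p.2}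
  let b : ι → Set (X × T) := fun p => p.1.1 ×ˢ p.1.2
  have hrange : Set.range b = Set.image2 (· ×ˢ ·) {U : Set X | IsOpen U ∧ IsCompact U}
      {V : Set T | IsClopen V} := by
    ext W
    constructor
    · rintro ⟨p, rfl⟩
      exact ⟨p.1.1, p.2.1, p.1.2, p.2.2, rfl⟩
    · rintro ⟨U, hU, V, hV, rfl⟩
      exact ⟨⟨(U, V), hU, hV⟩, rfl⟩
  refine QuasiSeparatedSpace.of_isTopologicalBasis (b := b) ?_ ?_
  · rw [hrange]; exact isTopologicalBasis_prod_clopen
  · intro p q
    show IsCompact (p.1.1 ×ˢ p.1.2 ∩ q.1.1 ×ˢ q.1.2)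
    rw [Set.prod_inter_prod]
    exact (QuasiSeparatedSpace.inter_isCompact _ _ p.2.1.1 p.2.1.2 q.2.1.1 q.2.1.2).prod
      (p.2.2.inter q.2.2).isClosed.isCompact

theorem spectralSpace_prod [SpectralSpace X] : SpectralSpace (X × T) :=
  { toT0Space := inferInstance
    toCompactSpace := inferInstance
    toQuasiSober := quasiSober_prod
    toQuasiSeparatedSpace := quasiSeparatedSpace_prod
    toPrespectralSpace := prespectralSpace_prod }

end Prod



section Fib
variable {X T : Type*} [TopologicalSpace X] [TopologicalSpace T]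
  (g : T → ConnectedComponents X)

/-- the fibre product of `X` and `T` over `π₀(X)`. -/
abbrev FibProd : Type _ := {p : X × T // ConnectedComponents.mk p.1 = g p.2}

theorem isClosed_fibProd [CompactSpace X] [PrespectralSpace X] [QuasiSeparatedSpace X]
    (hg : Continuous g) : IsClosed {p : X × T | ConnectedComponents.mk p.1 = g p.2} :=
  isClosed_eq (ConnectedComponents.continuous_coe.comp continuous_fst) (hg.comp continuous_snd)

/-- two points of the fibre product with the same `T`-coordinate lie in the same connected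
component. -/
theorem mk_eq_mk_of_snd_eq (y₁ y₂ : FibProd g) (h : y₁.1.2 = y₂.1.2) :
    (ConnectedComponents.mk y₁ : ConnectedComponents (FibProd g)) = ConnectedComponents.mk y₂ := by
  obtain ⟨⟨x₁, t⟩, h₁⟩ := y₁
  obtain ⟨⟨x₂, t₂⟩, h₂⟩ := y₂
  simp only at h h₁ h₂
  subst h
  let φ : connectedComponent x₁ → FibProd g := fun x => ⟨(x.1, t), by
    show ConnectedComponents.mk x.1 = g t
    rw [← h₁]
    exact ConnectedComponents.coe_eq_coe'.mpr x.2⟩
  have hφ : Continuous φ :=
    Continuous.subtype_mk (continuous_subtype_val.prodMk continuous_const) _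
  have : ConnectedSpace (connectedComponent x₁) :=
    isConnected_iff_connectedSpace.mp isConnected_connectedComponent
  have hconn : IsConnected (Set.range φ) := isConnected_range hφ
  have hx₂ : x₂ ∈ connectedComponent x₁ := by
    apply ConnectedComponents.coe_eq_coe'.mp
    rw [h₂, h₁]
  have hm1 : (⟨(x₁, t), h₁⟩ : FibProd g) ∈ Set.range φ := ⟨⟨x₁, mem_connectedComponent⟩, rfl⟩
  have hm2 : (⟨(x₂, t), h₂⟩ : FibProd g) ∈ Set.range φ := ⟨⟨x₂, hx₂⟩, rfl⟩
  have := hconn.isPreconnected.subset_connectedComponent hm2 hm1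
  exact ConnectedComponents.coe_eq_coe'.mpr this

end Fib

theorem s0703 (X T : Type u) [TopologicalSpace X] [SpectralSpace X]
    [TopologicalSpace T] [CompactSpace T] [T2Space T] [TotallyDisconnectedSpace T]
    (g : C(T, _root_.ConnectedComponents X)) :
    SpectralSpace {p : X × T // _root_.ConnectedComponents.mk p.1 = g p.2} ∧
      ∃ e : _root_.ConnectedComponents
          {p : X × T // _root_.ConnectedComponents.mk p.1 = g p.2} ≃ₜ T,
        ∀ y : {p : X × T // _root_.ConnectedComponents.mk p.1 = g p.2},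
          e (_root_.ConnectedComponents.mk y) = y.1.2 := by
  have : SpectralSpace (X × T) := spectralSpace_prod
  have hS : SpectralSpace {p : X × T // _root_.ConnectedComponents.mk p.1 = g p.2} :=
    Groth.Agent.H1.spectralSpace_of_isClosed
      {p : X × T | ConnectedComponents.mk p.1 = g p.2} (isClosed_fibProd g g.continuous)
  refine ⟨hS, ?_⟩
  have hf : Continuous (fun y : FibProd g => y.1.2) :=
    continuous_snd.comp continuous_subtype_val
  have hbij : Function.Bijective hf.connectedComponentsLift := by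
    constructor
    · intro a b hab
      obtain ⟨y₁, rfl⟩ := ConnectedComponents.surjective_coe a
      obtain ⟨y₂, rfl⟩ := ConnectedComponents.surjective_coe b
      rw [hf.connectedComponentsLift_apply_coe, hf.connectedComponentsLift_apply_coe] at hab
      exact mk_eq_mk_of_snd_eq g y₁ y₂ hab
    · intro t
      obtain ⟨x, hx⟩ := ConnectedComponents.surjective_coe (g t)
      refine ⟨ConnectedComponents.mk (⟨(x, t), hx⟩ : FibProd g), ?_⟩
      rw [hf.connectedComponentsLift_apply_coe]
  have : CompactSpace (FibProd g) := hS.toCompactSpace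
  let e₀ : ConnectedComponents (FibProd g) ≃ T := Equiv.ofBijective _ hbij
  refine ⟨Continuous.homeoOfEquivCompactToT2 (f := e₀) hf.connectedComponentsLift_continuous, ?_⟩
  intro y
  exact hf.connectedComponentsLift_apply_coe y



theorem isClosed_singleton_iff_forall_specializes {Y : Type*} [TopologicalSpace Y] (y : Y) :
    IsClosed ({y} : Set Y) ↔ ∀ y', y ⤳ y' → y' = y := by
  constructor
  · intro h y' hy'
    have : y' ∈ closure ({y} : Set Y) := specializes_iff_mem_closure.mp hy'
    rw [h.closure_eq] at this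
    exact this
  · intro h
    rw [← closure_subset_iff_isClosed]
    intro y' hy'
    exact h y' (specializes_iff_mem_closure.mpr hy')

theorem mk_eq_mk_of_specializes {X : Type*} [TopologicalSpace X] {x x' : X} (h : x ⤳ x') :
    (ConnectedComponents.mk x' : ConnectedComponents X) = ConnectedComponents.mk x := by
  apply ConnectedComponents.coe_eq_coe'.mpr
  have hpc : IsPreconnected (closure ({x} : Set X)) := isPreconnected_singleton.closure
  exact hpc.subset_connectedComponent (subset_closure rfl) (specializes_iff_mem_closure.mp h)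

section Fib
variable {X T : Type*} [TopologicalSpace X] [TopologicalSpace T] [T1Space T]
  (g : T → ConnectedComponents X)

theorem fibProd_specializes_iff (y y' : FibProd g) :
    y ⤳ y' ↔ y.1.1 ⤳ y'.1.1 ∧ y.1.2 = y'.1.2 := by
  rw [subtype_specializes_iff]
  obtain ⟨⟨x, t⟩, h⟩ := y
  obtain ⟨⟨x', t'⟩, h'⟩ := y'
  simp only [specializes_prod, specializes_iff_eq]

theorem fibProd_isClosed_singleton_iff (y : FibProd g) :
    IsClosed ({y} : Set (FibProd g)) ↔ IsClosed ({y.1.1} : Set X) := by
  rw [isClosed_singleton_iff_forall_specializes, isClosed_singleton_iff_forall_specializes]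
  constructor
  · intro h x' hx'
    have hmk : ConnectedComponents.mk x' = g y.1.2 := by
      rw [mk_eq_mk_of_specializes hx']; exact y.2
    have := h ⟨(x', y.1.2), hmk⟩ ((fibProd_specializes_iff g _ _).mpr ⟨hx', rfl⟩)
    exact congrArg (fun z : FibProd g => z.1.1) this
  · intro h y' hy'
    obtain ⟨h1, h2⟩ := (fibProd_specializes_iff g _ _).mp hy'
    apply Subtype.ext
    exact Prod.ext (h _ h1) h2.symm

end Fib

theorem s0704 (X T : Type u) [TopologicalSpace X]
    [TopologicalSpace T] [CompactSpace T] [T2Space T] [TotallyDisconnectedSpace T]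
    (hX : ProEtW.IsWLocal X) (g : C(T, _root_.ConnectedComponents X)) :
    ProEtW.IsWLocal {p : X × T // _root_.ConnectedComponents.mk p.1 = g p.2} ∧
      ProEtW.IsWLocalMap
        (fun y : {p : X × T // _root_.ConnectedComponents.mk p.1 = g p.2} => y.1.1) ∧
      ProEtW.closedPoints {p : X × T // _root_.ConnectedComponents.mk p.1 = g p.2} =
        (fun y : {p : X × T // _root_.ConnectedComponents.mk p.1 = g p.2} => y.1.1) ⁻¹'
          ProEtW.closedPoints X := by
  obtain ⟨hXs, hX0, hXu⟩ := hX
  have hp : Continuous (fun y : FibProd g => y.1.1) :=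
    continuous_fst.comp continuous_subtype_val
  have hcp : ProEtW.closedPoints (FibProd g) =
      (fun y : FibProd g => y.1.1) ⁻¹' ProEtW.closedPoints X := by
    ext y
    exact fibProd_isClosed_singleton_iff g y
  have hS := (s0703 X T g).1
  refine ⟨⟨hS, ?_, ?_⟩, ⟨⟨hp, ?_⟩, ?_⟩, hcp⟩
  · show IsClosed (ProEtW.closedPoints (FibProd g))
    rw [hcp]
    exact hX0.preimage hp
  · intro y
    obtain ⟨x₀, ⟨hx₀c, hx₀s⟩, hx₀u⟩ := hXu y.1.1
    have hmk : ConnectedComponents.mk x₀ = g y.1.2 := by
      rw [mk_eq_mk_of_specializes hx₀s]; exact y.2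
    refine ⟨⟨(x₀, y.1.2), hmk⟩, ⟨(fibProd_isClosed_singleton_iff g _).mpr hx₀c,
      (fibProd_specializes_iff g _ _).mpr ⟨hx₀s, rfl⟩⟩, ?_⟩
    rintro y' ⟨hy'c, hy's⟩
    obtain ⟨h1, h2⟩ := (fibProd_specializes_iff g _ _).mp hy's
    apply Subtype.ext
    exact Prod.ext (hx₀u _ ⟨(fibProd_isClosed_singleton_iff g _).mp hy'c, h1⟩) h2.symm
  · intro U hUo hUc
    have hcl : IsClosedEmbedding ((↑) : FibProd g → X × T) :=
      (isClosed_fibProd g g.continuous).isClosedEmbedding_subtypeVal
    have : (fun y : FibProd g => y.1.1) ⁻¹' U = (↑) ⁻¹' (U ×ˢ (Set.univ : Set T)) := by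
      ext y; simp
    rw [this]
    exact hcl.isCompact_preimage (hUc.prod isCompact_univ)
  · intro y hy
    exact (fibProd_isClosed_singleton_iff g y).mp hy

end Groth.Agent.H1.Spec2
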