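import Mathlib
import Groth.Agent.Lib.Helper1.Spectral2

set_option autoImplicit false
universe u
open Topology TopologicalSpace

namespace Groth.Agent.H1.Spec2

theorem s0152 (X : Type u) [TopologicalSpace X] [SpectralSpace X]
    (Z : Set X) (hZ : IsClosed Z)
    (hconn : ∀ x : X, IsConnected (Z ∩ closure {x}))
    (Z₁ Z₂ : Set X) (h₁ : IsClosed Z₁) (h₂ : IsClosed Z₂) (hdisj : Disjoint Z₁ Z₂)
    (hunion : Z₁ ∪ Z₂ = Z) :
    ∃ X₁ X₂ : Set X, IsClosed X₁ ∧ IsClosed X₂ ∧ Disjoint X₁ X₂ ∧ X₁ ∪ X₂ = Set.univ ∧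
      Z₁ = Z ∩ X₁ ∧ Z₂ = Z ∩ X₂ := by
  -- each `Z ∩ closure {x}` lies in `Z₁` or in `Z₂`
  have hdich : ∀ x : X, Z ∩ closure {x} ⊆ Z₁ ∨ Z ∩ closure {x} ⊆ Z₂ := by
    intro x
    have := (hconn x).isPreconnected
    rw [isPreconnected_iff_subset_of_fully_disjoint_closed (hZ.inter isClosed_closure)] at this
    exact this Z₁ Z₂ h₁ h₂ (by rw [hunion]; exact Set.inter_subset_left) hdisj
  -- general closedness statement
  have hclosed : ∀ A B : Set X, IsClosed A → Disjoint A B → A ∪ B = Z →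
      (∀ x : X, Z ∩ closure {x} ⊆ A ∨ Z ∩ closure {x} ⊆ B) →
      IsClosed {z : X | ∃ a ∈ A, z ⤳ a} := by
    intro A B hA hAB hABZ hd
    rw [← closure_subset_iff_isClosed]
    intro w hw
    obtain ⟨z, ⟨a, haA, hza⟩, hzw⟩ := exists_specializes_of_mem_closure_generalizations
      hA.isCompact hw
    obtain ⟨b, hbZ, hbw⟩ := (hconn w).nonempty
    have haZ : a ∈ Z := by rw [← hABZ]; exact Or.inl haA
    have hzb : z ⤳ b := hzw.trans (specializes_iff_mem_closure.mpr hbw)
    rcases hd z with h | h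
    · exact ⟨b, h ⟨hbZ, specializes_iff_mem_closure.mp hzb⟩, specializes_iff_mem_closure.mpr hbw⟩
    · exact (Set.disjoint_left.mp hAB haA (h ⟨haZ, specializes_iff_mem_closure.mp hza⟩)).elim
  have hc₁ := hclosed Z₁ Z₂ h₁ hdisj hunion hdich
  have hc₂ := hclosed Z₂ Z₁ h₂ hdisj.symm (by rw [Set.union_comm]; exact hunion)
    (fun x => (hdich x).symm)
  refine ⟨_, _, hc₁, hc₂, ?_, ?_, ?_, ?_⟩
  · rw [Set.disjoint_left]
    rintro z ⟨a, haA, hza⟩ ⟨b, hbB, hzb⟩
    have haZ : a ∈ Z := by rw [← hunion]; exact Or.inl haA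
    have hbZ : b ∈ Z := by rw [← hunion]; exact Or.inr hbB
    rcases hdich z with h | h
    · exact Set.disjoint_left.mp hdisj (h ⟨hbZ, specializes_iff_mem_closure.mp hzb⟩) hbB
    · exact Set.disjoint_left.mp hdisj haA (h ⟨haZ, specializes_iff_mem_closure.mp hza⟩)
  · rw [Set.eq_univ_iff_forall]
    intro z
    obtain ⟨b, hbZ, hbz⟩ := (hconn z).nonempty
    rw [← hunion] at hbZ
    rcases hbZ with h | h
    · exact Or.inl ⟨b, h, specializes_iff_mem_closure.mpr hbz⟩
    · exact Or.inr ⟨b, h, specializes_iff_mem_closure.mpr hbz⟩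
  · ext z
    constructor
    · intro hz
      exact ⟨by rw [← hunion]; exact Or.inl hz, z, hz, specializes_rfl⟩
    · rintro ⟨hzZ, a, haA, hza⟩
      have haZ : a ∈ Z := by rw [← hunion]; exact Or.inl haA
      rcases hdich z with h | h
      · exact h ⟨hzZ, subset_closure rfl⟩
      · exact (Set.disjoint_left.mp hdisj haA (h ⟨haZ, specializes_iff_mem_closure.mp hza⟩)).elim
  · ext z
    constructor
    · intro hz
      exact ⟨by rw [← hunion]; exact Or.inr hz, z, hz, specializes_rfl⟩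
    · rintro ⟨hzZ, a, haA, hza⟩
      have haZ : a ∈ Z := by rw [← hunion]; exact Or.inr haA
      rcases hdich z with h | h
      · exact (Set.disjoint_left.mp hdisj (h ⟨haZ, specializes_iff_mem_closure.mp hza⟩) haA).elim
      · exact h ⟨hzZ, subset_closure rfl⟩

end Groth.Agent.H1.Spec2
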