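import Mathlib

/-!
# Spreading out isomorphisms of local rings of finitely presented algebras
-/

set_option autoImplicit false
set_option linter.style.haveILetI false
universe u

namespace Groth.Agent.H1.SpreadIso

section basic

variable {R : Type*} [CommRing R] {B : Type*} [CommRing B] [Algebra R B]

/-- a divisor of `u` is a unit in `B[1/u]` -/
theorem isUnit_of_dvd {t u : B} (h : t ∣ u) (D : Type*) [CommRing D] [Algebra B D]
    [IsLocalization.Away u D] : IsUnit (algebraMap B D t) := by
  obtain ⟨v, rfl⟩ := h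
  have : IsUnit (algebraMap B D (t * v)) := IsLocalization.Away.algebraMap_isUnit (t * v)
  rw [map_mul] at this
  exact isUnit_of_mul_isUnit_left this

/-- maps out of `B[1/t]` into an `R`-algebra where `t` becomes a unit -/
noncomputable def ext (t : B) {D : Type*} [CommRing D] [Algebra R D] (f : B →ₐ[R] D)
    (h : IsUnit (f t)) : Localization.Away t →ₐ[R] D :=
  IsLocalization.liftAlgHom (M := Submonoid.powers t) (f := f) (by
    rintro ⟨_, k, rfl⟩
    simp only [map_pow]
    exact h.pow k)

@[simp]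
theorem ext_algebraMap (t : B) {D : Type*} [CommRing D] [Algebra R D] (f : B →ₐ[R] D)
    (h : IsUnit (f t)) (b : B) : ext t f h (algebraMap B (Localization.Away t) b) = f b := by
  simp [ext]

theorem ext_unique (t : B) {D : Type*} [CommRing D] [Algebra R D] (f g : Localization.Away t →ₐ[R] D)
    (h : ∀ b : B, f (algebraMap B _ b) = g (algebraMap B _ b)) : f = g := by
  apply IsLocalization.algHom_ext (Submonoid.powers t)
  ext b
  exact h b

/-- the transition map `B[1/t] → B[1/u]` for `t ∣ u` -/
noncomputable def tr (t u : B) (h : t ∣ u) : Localization.Away t →ₐ[R] Localization.Away u :=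
  ext t (Algebra.algHom R B (Localization.Away u)) (isUnit_of_dvd h _)

@[simp]
theorem tr_algebraMap (t u : B) (h : t ∣ u) (b : B) :
    tr (R := R) t u h (algebraMap B _ b) = algebraMap B _ b := by
  exact ext_algebraMap t _ _ b

theorem tr_tr (t u v : B) (h : t ∣ u) (h' : u ∣ v) (x : Localization.Away t) :
    tr (R := R) u v h' (tr (R := R) t u h x) = tr (R := R) t v (h.trans h') x := by
  have : (tr (R := R) u v h').comp (tr (R := R) t u h) = tr (R := R) t v (h.trans h') :=
    ext_unique t _ _ fun b => by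
      rw [AlgHom.comp_apply, tr_algebraMap, tr_algebraMap, tr_algebraMap]
  exact AlgHom.congr_fun this x

variable (N : Submonoid B)

/-- the map to the limit -/
noncomputable def lam (t : B) (ht : t ∈ N) : Localization.Away t →ₐ[R] Localization N :=
  ext t (Algebra.algHom R B (Localization N)) (IsLocalization.map_units _ (⟨t, ht⟩ : N))

@[simp]
theorem lam_algebraMap (t : B) (ht : t ∈ N) (b : B) :
    lam (R := R) N t ht (algebraMap B _ b) = algebraMap B _ b := by
  exact ext_algebraMap t _ _ b

theorem lam_tr (t u : B) (h : t ∣ u) (ht : t ∈ N) (hu : u ∈ N) (x : Localization.Away t) :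
    lam (R := R) N u hu (tr (R := R) t u h x) = lam (R := R) N t ht x := by
  have : (lam (R := R) N u hu).comp (tr (R := R) t u h) = lam (R := R) N t ht :=
    ext_unique t _ _ fun b => by
      rw [AlgHom.comp_apply, tr_algebraMap, lam_algebraMap, lam_algebraMap]
  exact AlgHom.congr_fun this x

/-- an element dying in the limit dies at a finite stage -/
theorem exists_tr_eq_zero (t : B) (ht : t ∈ N) (y : Localization.Away t)
    (hy : lam (R := R) N t ht y = 0) :
    ∃ u ∈ N, ∀ (v : B) (h : t ∣ v), u ∣ v → tr (R := R) t v h y = 0 := by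
  obtain ⟨⟨c, ⟨_, k, rfl⟩⟩, rfl⟩ := IsLocalization.mk'_surjective (Submonoid.powers t) y
  have h1 : algebraMap B (Localization N) c = 0 := by
    have := IsLocalization.mk'_spec (Localization.Away t) c (⟨t ^ k, k, rfl⟩ : Submonoid.powers t)
    have h2 := congrArg (lam (R := R) N t ht) this
    rw [map_mul, hy, zero_mul, lam_algebraMap] at h2
    exact h2.symm
  obtain ⟨⟨u, hu⟩, huc⟩ := (IsLocalization.map_eq_zero_iff N (Localization N) c).mp h1
  refine ⟨u, hu, fun v h huv => ?_⟩
  have h3 : algebraMap B (Localization.Away v) c = 0 := by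
    have hunit : IsUnit (algebraMap B (Localization.Away v) u) := isUnit_of_dvd huv _
    have : algebraMap B (Localization.Away v) u * algebraMap B (Localization.Away v) c = 0 := by
      rw [← map_mul]
      simp only at huc
      rw [huc, map_zero]
    exact (hunit.mul_right_eq_zero).mp this
  have h4 := IsLocalization.mk'_spec (Localization.Away t) c (⟨t ^ k, k, rfl⟩ : Submonoid.powers t)
  have h5 := congrArg (tr (R := R) t v h) h4
  rw [map_mul, tr_algebraMap, tr_algebraMap, h3] at h5
  have hunit : IsUnit (algebraMap B (Localization.Away v) (t ^ k)) := by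
    rw [map_pow]
    exact (isUnit_of_dvd h _).pow k
  exact (hunit.mul_left_eq_zero).mp h5

end basic

section prime

variable {R : Type*} [CommRing R] {B : Type*} [CommRing B] [Algebra R B] (q : Ideal B) [q.IsPrime]

/-- an element which is a unit in the limit is a unit at a finite stage -/
theorem exists_isUnit_tr (t : B) (ht : t ∈ q.primeCompl) (y : Localization.Away t)
    (hy : IsUnit (lam (R := R) q.primeCompl t ht y)) :
    ∃ c ∈ q.primeCompl, ∀ (v : B) (h : t ∣ v), c ∣ v → IsUnit (tr (R := R) t v h y) := by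
  obtain ⟨⟨c, ⟨_, k, rfl⟩⟩, rfl⟩ := IsLocalization.mk'_surjective (Submonoid.powers t) y
  have h4 := IsLocalization.mk'_spec (Localization.Away t) c (⟨t ^ k, k, rfl⟩ : Submonoid.powers t)
  have h1 : IsUnit (algebraMap B (Localization.AtPrime q) c) := by
    have h2 := congrArg (lam (R := R) q.primeCompl t ht) h4
    rw [map_mul, lam_algebraMap, lam_algebraMap] at h2
    rw [← h2]
    refine hy.mul ?_
    exact IsLocalization.map_units _ (⟨t ^ k, pow_mem ht k⟩ : q.primeCompl)
  have hc : c ∈ q.primeCompl := (IsLocalization.AtPrime.isUnit_to_map_iff _ q c).mp h1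
  refine ⟨c, hc, fun v h hcv => ?_⟩
  have h5 := congrArg (tr (R := R) t v h) h4
  rw [map_mul, tr_algebraMap, tr_algebraMap] at h5
  have hu1 : IsUnit (algebraMap B (Localization.Away v) (t ^ k)) := by
    rw [map_pow]
    exact (isUnit_of_dvd h _).pow k
  have hu2 : IsUnit (algebraMap B (Localization.Away v) c) := isUnit_of_dvd hcv _
  rw [← h5] at hu2
  exact isUnit_of_mul_isUnit_left hu2

end prime


section hom

variable {R : Type*} [CommRing R] {B : Type*} [CommRing B] [Algebra R B] (N : Submonoid B)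

/-- uniqueness of spread-out homomorphisms from finite type algebras -/
theorem exists_tr_comp_eq {S : Type*} [CommRing S] [Algebra R S] [Algebra.FiniteType R S]
    (t : B) (ht : t ∈ N) (β₁ β₂ : S →ₐ[R] Localization.Away t)
    (h : ∀ s, lam (R := R) N t ht (β₁ s) = lam (R := R) N t ht (β₂ s)) :
    ∃ u ∈ N, ∀ (v : B) (hv : t ∣ v), u ∣ v →
      ∀ s, tr (R := R) t v hv (β₁ s) = tr (R := R) t v hv (β₂ s) := by
  classical
  obtain ⟨G, hG⟩ := (Algebra.FiniteType.out : (⊤ : Subalgebra R S).FG)
  have hz : ∀ x : S, ∃ u ∈ N, ∀ (v : B) (h : t ∣ v), u ∣ v →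
      tr (R := R) t v h (β₁ x - β₂ x) = 0 := fun x =>
    exists_tr_eq_zero N t ht (β₁ x - β₂ x) (by rw [map_sub, h x, sub_self])
  choose u hu huz using hz
  refine ⟨∏ x ∈ G, u x, prod_mem fun x _ => hu x, fun v hv huv => ?_⟩
  have : (tr (R := R) t v hv).comp β₁ = (tr (R := R) t v hv).comp β₂ := by
    refine AlgHom.ext_of_adjoin_eq_top hG fun x hx => ?_
    have h1 := huz x v hv ((Finset.dvd_prod_of_mem u hx).trans huv)
    rw [map_sub, sub_eq_zero] at h1
    exact h1
  exact fun s => AlgHom.congr_fun this s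

/-- existence of spread-out homomorphisms from finitely presented algebras -/
theorem exists_algHom_away {S : Type*} [CommRing S] [Algebra R S] [Algebra.FinitePresentation R S]
    (α : S →ₐ[R] Localization N) :
    ∃ (t : B) (ht : t ∈ N) (β : S →ₐ[R] Localization.Away t),
      ∀ s, lam (R := R) N t ht (β s) = α s := by
  classical
  obtain ⟨n, π, hπ, hker⟩ := Algebra.FinitePresentation.out (R := R) (A := S)
  obtain ⟨⟨t₀, ht₀⟩, hb⟩ := IsLocalization.exist_integer_multiples_of_finite N
    (fun i : Fin n => α (π (MvPolynomial.X i)))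
  choose b hb using hb
  -- hb i : algebraMap b i = t₀ • α (π X_i)
  let γ₀ : MvPolynomial (Fin n) R →ₐ[R] Localization.Away t₀ :=
    MvPolynomial.aeval fun i => IsLocalization.mk' (Localization.Away t₀) (b i)
      (⟨t₀, Submonoid.mem_powers t₀⟩ : Submonoid.powers t₀)
  have hγ₀ : ∀ p, lam (R := R) N t₀ ht₀ (γ₀ p) = α (π p) := by
    have : (lam (R := R) N t₀ ht₀).comp γ₀ = α.comp π := by
      apply MvPolynomial.algHom_ext
      intro i
      rw [AlgHom.comp_apply, AlgHom.comp_apply, MvPolynomial.aeval_X]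
      have h1 := IsLocalization.mk'_spec (Localization.Away t₀) (b i)
        (⟨t₀, Submonoid.mem_powers t₀⟩ : Submonoid.powers t₀)
      have h2 := congrArg (lam (R := R) N t₀ ht₀) h1
      rw [map_mul, lam_algebraMap, lam_algebraMap, hb i] at h2
      have hunit : IsUnit (algebraMap B (Localization N) t₀) :=
        IsLocalization.map_units _ (⟨t₀, ht₀⟩ : N)
      have h3 : (((⟨t₀, ht₀⟩ : N) : B)) • α (π (MvPolynomial.X i)) =
          α (π (MvPolynomial.X i)) * algebraMap B (Localization N) t₀ := by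
        rw [Algebra.smul_def, mul_comm]
      rw [h3] at h2
      exact hunit.mul_left_injective h2
    exact fun p => AlgHom.congr_fun this p
  obtain ⟨s, hs⟩ := hker
  have hz : ∀ f : MvPolynomial (Fin n) R, ∃ u ∈ N, f ∈ s → ∀ (v : B) (h : t₀ ∣ v), u ∣ v →
      tr (R := R) t₀ v h (γ₀ f) = 0 := by
    intro f
    by_cases hf : f ∈ s
    · have hf0 : π f = 0 := by
        have : f ∈ RingHom.ker π.toRingHom := by rw [← hs]; exact Ideal.subset_span hf
        exact this
      obtain ⟨u, hu, h⟩ := exists_tr_eq_zero (R := R) N t₀ ht₀ (γ₀ f)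
        (by rw [hγ₀, hf0, map_zero])
      exact ⟨u, hu, fun _ => h⟩
    · exact ⟨1, one_mem _, fun h => absurd h hf⟩
  choose u hu huz using hz
  let t : B := t₀ * ∏ f ∈ s, u f
  have ht : t ∈ N := mul_mem ht₀ (prod_mem fun f _ => hu f)
  have ht₀t : t₀ ∣ t := Dvd.intro _ rfl
  let γ : MvPolynomial (Fin n) R →ₐ[R] Localization.Away t := (tr (R := R) t₀ t ht₀t).comp γ₀
  have hγ : RingHom.ker π.toRingHom ≤ RingHom.ker γ.toRingHom := by
    rw [← hs, Ideal.span_le]
    intro f hf
    change γ f = 0
    exact huz f hf t ht₀t ((Finset.dvd_prod_of_mem u hf).trans (Dvd.intro_left _ rfl))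
  refine ⟨t, ht, AlgHom.liftOfSurjective π hπ γ hγ, fun x => ?_⟩
  obtain ⟨p, rfl⟩ := hπ x
  rw [AlgHom.liftOfSurjective_apply]
  change lam (R := R) N t ht (tr (R := R) t₀ t ht₀t (γ₀ p)) = _
  rw [lam_tr N t₀ t ht₀t ht₀ ht, hγ₀]

end hom


section prime2

variable {R : Type*} [CommRing R] {B : Type*} [CommRing B] [Algebra R B] (q : Ideal B) [q.IsPrime]

/-- strengthened version: the witness is "minimal" -/
theorem exists_isUnit_tr' (t : B) (ht : t ∈ q.primeCompl) (y : Localization.Away t)
    (hy : IsUnit (lam (R := R) q.primeCompl t ht y)) :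
    ∃ c ∈ q.primeCompl, (∀ (v : B) (h : t ∣ v), c ∣ v → IsUnit (tr (R := R) t v h y)) ∧
      ∀ (D : Type u) [CommRing D] [Algebra R D] (φ : Localization.Away t →ₐ[R] D),
        IsUnit (φ y) → IsUnit (φ (algebraMap B _ c)) := by
  obtain ⟨⟨c, ⟨_, k, rfl⟩⟩, rfl⟩ := IsLocalization.mk'_surjective (Submonoid.powers t) y
  have h4 := IsLocalization.mk'_spec (Localization.Away t) c (⟨t ^ k, k, rfl⟩ : Submonoid.powers t)
  have h1 : IsUnit (algebraMap B (Localization.AtPrime q) c) := by
    have h2 := congrArg (lam (R := R) q.primeCompl t ht) h4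
    rw [map_mul, lam_algebraMap, lam_algebraMap] at h2
    rw [← h2]
    refine hy.mul ?_
    exact IsLocalization.map_units _ (⟨t ^ k, pow_mem ht k⟩ : q.primeCompl)
  have hc : c ∈ q.primeCompl := (IsLocalization.AtPrime.isUnit_to_map_iff _ q c).mp h1
  refine ⟨c, hc, fun v h hcv => ?_, fun D _ _ φ hφ => ?_⟩
  · have h5 := congrArg (tr (R := R) t v h) h4
    rw [map_mul, tr_algebraMap, tr_algebraMap] at h5
    have hu1 : IsUnit (algebraMap B (Localization.Away v) (t ^ k)) := by
      rw [map_pow]
      exact (isUnit_of_dvd h _).pow k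
    have hu2 : IsUnit (algebraMap B (Localization.Away v) c) := isUnit_of_dvd hcv _
    rw [← h5] at hu2
    exact isUnit_of_mul_isUnit_left hu2
  · have h5 := congrArg φ h4
    rw [map_mul] at h5
    rw [← h5]
    refine hφ.mul ?_
    have : IsUnit (algebraMap B (Localization.Away t) (t ^ k)) :=
      IsLocalization.map_units _ (⟨t ^ k, k, rfl⟩ : Submonoid.powers t)
    exact this.map φ

end prime2

section side

variable {R : Type u} [CommRing R] {S : Type u} [CommRing S] [Algebra R S]
  {S' : Type u} [CommRing S'] [Algebra R S'] (q : Ideal S) [q.IsPrime] (q' : Ideal S') [q'.IsPrime]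
  (ε : Localization.AtPrime q →ₐ[R] Localization.AtPrime q')
  (ε' : Localization.AtPrime q' →ₐ[R] Localization.AtPrime q)

/-- one side of the construction -/
theorem side [Algebra.FiniteType R S] (hε : ∀ x, ε' (ε x) = x)
    (t : S) (ht : t ∈ q.primeCompl) (β' : S' →ₐ[R] Localization.Away t)
    (hβ' : ∀ s', lam (R := R) q.primeCompl t ht (β' s') = ε' (algebraMap S' _ s'))
    (t' : S') (ht' : t' ∈ q'.primeCompl) (β : S →ₐ[R] Localization.Away t')
    (hβ : ∀ s, lam (R := R) q'.primeCompl t' ht' (β s) = ε (algebraMap S _ s)) :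
    ∃ (w : S) (_ : w ∈ q.primeCompl) (htw : t ∣ w)
      (βw : Localization.Away t' →ₐ[R] Localization.Away w),
      (∀ s', βw (algebraMap S' _ s') = tr (R := R) t w htw (β' s')) ∧
      (∀ s, βw (β s) = algebraMap S _ s) := by
  -- step 1
  have hunit : IsUnit (lam (R := R) q.primeCompl t ht (β' t')) := by
    rw [hβ']
    have : IsUnit (algebraMap S' (Localization.AtPrime q') t') :=
      IsLocalization.map_units _ (⟨t', ht'⟩ : q'.primeCompl)
    exact this.map ε'
  obtain ⟨c, hc, hcu⟩ := exists_isUnit_tr (R := R) q t ht (β' t') hunit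
  have htv₁ : t ∣ t * c := Dvd.intro _ rfl
  have hv₁ : t * c ∈ q.primeCompl := mul_mem ht hc
  let β'₁ : Localization.Away t' →ₐ[R] Localization.Away (t * c) :=
    ext t' ((tr (R := R) t (t * c) htv₁).comp β') (hcu _ htv₁ (Dvd.intro_left _ rfl))
  have hβ'₁ : ∀ s', β'₁ (algebraMap S' _ s') = tr (R := R) t (t * c) htv₁ (β' s') := fun s' =>
    ext_algebraMap t' _ _ s'
  -- step 3
  have hlam : ∀ x, lam (R := R) q.primeCompl (t * c) hv₁ (β'₁ x) =
      ε' (lam (R := R) q'.primeCompl t' ht' x) := by
    have : (lam (R := R) q.primeCompl (t * c) hv₁).comp β'₁ =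
        ε'.comp (lam (R := R) q'.primeCompl t' ht') := by
      refine ext_unique t' _ _ fun s' => ?_
      rw [AlgHom.comp_apply, AlgHom.comp_apply, hβ'₁, lam_tr _ t (t * c) htv₁ ht hv₁, hβ',
        lam_algebraMap]
    exact fun x => AlgHom.congr_fun this x
  obtain ⟨u, hu, huv⟩ := exists_tr_comp_eq (R := R) q.primeCompl (t * c) hv₁ (β'₁.comp β)
    (Algebra.algHom R S (Localization.Away (t * c))) (fun s => by
      rw [AlgHom.comp_apply, hlam, hβ, hε]
      exact (lam_algebraMap _ _ _ s).symm)
  have hv₁w : t * c ∣ t * c * u := Dvd.intro _ rfl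
  refine ⟨t * c * u, mul_mem hv₁ hu, htv₁.trans hv₁w,
    (tr (R := R) (t * c) (t * c * u) hv₁w).comp β'₁, fun s' => ?_, fun s => ?_⟩
  · rw [AlgHom.comp_apply, hβ'₁, tr_tr]
  · have := huv (t * c * u) hv₁w (Dvd.intro_left _ rfl) s
    rw [AlgHom.comp_apply] at this
    rw [AlgHom.comp_apply, this]
    exact tr_algebraMap _ _ _ s

end side


section half

variable {R : Type u} [CommRing R] {S : Type u} [CommRing S] [Algebra R S]
  {S' : Type u} [CommRing S'] [Algebra R S']

/-- one half of the verification -/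
theorem half
    (t : S) (β' : S' →ₐ[R] Localization.Away t)
    (t' : S') (β : S →ₐ[R] Localization.Away t')
    (w : S) (htw : t ∣ w) (βw : Localization.Away t' →ₐ[R] Localization.Away w)
    (h1 : ∀ s', βw (algebraMap S' _ s') = tr (R := R) t w htw (β' s'))
    (h2 : ∀ s, βw (β s) = algebraMap S _ s)
    (w' : S') (htw' : t' ∣ w')
    (c : S) (hP1 : ∀ (v : S) (h : w ∣ v), c ∣ v →
      IsUnit (tr (R := R) w v h (tr (R := R) t w htw (β' w'))))
    (c' : S') (hP2' : ∀ (D : Type u) [CommRing D] [Algebra R D]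
      (φ : Localization.Away w' →ₐ[R] D),
      IsUnit (φ (tr (R := R) t' w' htw' (β w))) → IsUnit (φ (algebraMap S' _ c'))) :
    ∃ hu : IsUnit (((tr (R := R) t (w * c) (htw.trans (Dvd.intro _ rfl))).comp β') (w' * c')),
      ∀ s, ext (w' * c') ((tr (R := R) t (w * c) (htw.trans (Dvd.intro _ rfl))).comp β') hu
        (((tr (R := R) t' (w' * c') (htw'.trans (Dvd.intro _ rfl))).comp β) s) =
          algebraMap S _ s := by
  have hwG : w ∣ w * c := Dvd.intro _ rfl
  have htG : t ∣ w * c := htw.trans hwG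
  have hwG' : w' ∣ w' * c' := Dvd.intro _ rfl
  have htG' : t' ∣ w' * c' := htw'.trans hwG'
  set a' : S' →ₐ[R] Localization.Away (w * c) := (tr (R := R) t (w * c) htG).comp β' with ha'
  set a : S →ₐ[R] Localization.Away (w' * c') := (tr (R := R) t' (w' * c') htG').comp β with ha
  -- `a' w'` is a unit
  have hu1 : IsUnit (a' w') := by
    have := hP1 (w * c) hwG (Dvd.intro_left _ rfl)
    rw [tr_tr] at this
    exact this
  -- the extension of `a'` to `S'[1/w']`
  let φ' : Localization.Away w' →ₐ[R] Localization.Away (w * c) := ext w' a' hu1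
  have hφ' : ∀ x, φ' (tr (R := R) t' w' htw' x) = tr (R := R) w (w * c) hwG (βw x) := by
    have : φ'.comp (tr (R := R) t' w' htw') = (tr (R := R) w (w * c) hwG).comp βw := by
      refine ext_unique t' _ _ fun s' => ?_
      rw [AlgHom.comp_apply, AlgHom.comp_apply, tr_algebraMap, h1, tr_tr]
      exact ext_algebraMap w' _ _ s'
    exact fun x => AlgHom.congr_fun this x
  have hu2 : IsUnit (a' c') := by
    have h3 : IsUnit (φ' (tr (R := R) t' w' htw' (β w))) := by
      rw [hφ', h2, tr_algebraMap]
      exact isUnit_of_dvd hwG _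
    have := hP2' _ φ' h3
    rwa [show φ' (algebraMap S' _ c') = a' c' from ext_algebraMap w' _ _ c'] at this
  have hu : IsUnit (a' (w' * c')) := by
    rw [map_mul]
    exact hu1.mul hu2
  refine ⟨hu, fun s => ?_⟩
  -- compare the two extensions on `S'[1/t']`
  have hcmp : ∀ x, ext (w' * c') a' hu (tr (R := R) t' (w' * c') htG' x) =
      tr (R := R) w (w * c) hwG (βw x) := by
    have : (ext (w' * c') a' hu).comp (tr (R := R) t' (w' * c') htG') =
        (tr (R := R) w (w * c) hwG).comp βw := by
      refine ext_unique t' _ _ fun s' => ?_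
      rw [AlgHom.comp_apply, AlgHom.comp_apply, tr_algebraMap, h1, tr_tr, ext_algebraMap]
      rfl
    exact fun x => AlgHom.congr_fun this x
  rw [ha, AlgHom.comp_apply, hcmp, h2, tr_algebraMap]


/-- **Spreading out an isomorphism of local rings** (Stacks 00QS-type). -/
theorem exists_algEquiv_away [Algebra.FinitePresentation R S] [Algebra.FinitePresentation R S']
    (q : Ideal S) [q.IsPrime] (q' : Ideal S') [q'.IsPrime]
    (e : Localization.AtPrime q ≃ₐ[R] Localization.AtPrime q') :
    ∃ (g : S) (g' : S'), g ∉ q ∧ g' ∉ q' ∧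
      Nonempty (Localization.Away g ≃ₐ[R] Localization.Away g') := by
  let ε : Localization.AtPrime q →ₐ[R] Localization.AtPrime q' := e.toAlgHom
  let ε' : Localization.AtPrime q' →ₐ[R] Localization.AtPrime q := e.symm.toAlgHom
  have hε : ∀ x, ε' (ε x) = x := fun x => e.symm_apply_apply x
  have hε' : ∀ x, ε (ε' x) = x := fun x => e.apply_symm_apply x
  obtain ⟨t', ht', β, hβ⟩ := exists_algHom_away (R := R) q'.primeCompl
    (ε.comp (Algebra.algHom R S (Localization.AtPrime q)))
  obtain ⟨t, ht, β', hβ'⟩ := exists_algHom_away (R := R) q.primeCompl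
    (ε'.comp (Algebra.algHom R S' (Localization.AtPrime q')))
  have hβ₁ : ∀ s, lam (R := R) q'.primeCompl t' ht' (β s) = ε (algebraMap S _ s) := hβ
  have hβ'₁ : ∀ s', lam (R := R) q.primeCompl t ht (β' s') = ε' (algebraMap S' _ s') := hβ'
  obtain ⟨w, hw, htw, βw, h1, h2⟩ := side q q' ε ε' hε t ht β' hβ'₁ t' ht' β hβ₁
  obtain ⟨w', hw', htw', βw', h1', h2'⟩ := side q' q ε' ε hε' t' ht' β hβ₁ t ht β' hβ'₁
  -- the numerators
  have hy : IsUnit (lam (R := R) q.primeCompl w hw (tr (R := R) t w htw (β' w'))) := by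
    rw [lam_tr _ t w htw ht hw, hβ'₁]
    have : IsUnit (algebraMap S' (Localization.AtPrime q') w') :=
      IsLocalization.map_units _ (⟨w', hw'⟩ : q'.primeCompl)
    exact this.map ε'
  have hy' : IsUnit (lam (R := R) q'.primeCompl w' hw' (tr (R := R) t' w' htw' (β w))) := by
    rw [lam_tr _ t' w' htw' ht' hw', hβ₁]
    have : IsUnit (algebraMap S (Localization.AtPrime q) w) :=
      IsLocalization.map_units _ (⟨w, hw⟩ : q.primeCompl)
    exact this.map ε
  obtain ⟨c, hc, hP1, hP2⟩ := exists_isUnit_tr' (R := R) q w hw _ hy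
  obtain ⟨c', hc', hP1', hP2'⟩ := exists_isUnit_tr' (R := R) q' w' hw' _ hy'
  obtain ⟨hu', H3⟩ := half t β' t' β w htw βw h1 h2 w' htw' c hP1 c' hP2'
  obtain ⟨hu, H4⟩ := half t' β t β' w' htw' βw' h1' h2' w htw c' hP1' c hP2
  refine ⟨w * c, w' * c', fun h => mul_mem hw hc h, fun h => mul_mem hw' hc' h, ⟨?_⟩⟩
  refine AlgEquiv.ofAlgHom (ext (w * c) _ hu) (ext (w' * c') _ hu') ?_ ?_
  · refine ext_unique (w' * c') _ _ fun s' => ?_
    rw [AlgHom.comp_apply, ext_algebraMap, H4]
    rfl
  · refine ext_unique (w * c) _ _ fun s => ?_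
    rw [AlgHom.comp_apply, ext_algebraMap, H3]
    rfl


end half

end Groth.Agent.H1.SpreadIso
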