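import Mathlib.AlgebraicGeometry.Normalization
import Mathlib.AlgebraicGeometry.Morphisms.UniversallyClosed
import Mathlib.AlgebraicGeometry.Morphisms.QuasiSeparated
import Mathlib.AlgebraicGeometry.Morphisms.UnderlyingMap
import Mathlib.AlgebraicGeometry.Morphisms.Proper

namespace Groth.Agent.H1
open AlgebraicGeometry CategoryTheory Limits TopologicalSpace Topology

universe u

theorem isIntegral_app_of_universallyClosed {X Y : Scheme.{u}} (f : X ⟶ Y) [UniversallyClosed f]
    {V : Y.Opens} (hV : IsAffineOpen V) : (f.app V).hom.IsIntegral := by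
  have : IsAffine V := hV
  have h := isIntegral_appTop_of_universallyClosed (f ∣_ V)
  rw [morphismRestrict_appTop] at h
  have key : ∀ (V' : Y.Opens) (_ : V' = V) (W : X.Opens) (e : W = f ⁻¹ᵁ V'),
      (f.app V' ≫ X.presheaf.map (eqToHom e).op).hom.IsIntegral → (f.app V).hom.IsIntegral := by
    rintro _ rfl _ rfl h
    simpa using h
  exact key _ (by simp) _ _ h

/-- Abstract localization lemma. -/
theorem bijective_of_isLocalization_away {A A' R R' : Type*} [CommRing A] [CommRing A']
    [CommRing R] [CommRing R'] [Algebra A A'] [Algebra R R'] (b : A) [IsLocalization.Away b A']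
    (φ : A →+* R) (hφ : Function.Bijective φ) [IsLocalization.Away (φ b) R'] (φ' : A' →+* R')
    (h : φ'.comp (algebraMap A A') = (algebraMap R R').comp φ) : Function.Bijective φ' := by
  let e : A ≃+* R := RingEquiv.ofBijective φ hφ
  have hM : Submonoid.map e.toMonoidHom (Submonoid.powers b) = Submonoid.powers (φ b) := by
    rw [Submonoid.map_powers]; rfl
  let e' : A' ≃+* R' := IsLocalization.ringEquivOfRingEquiv (M := Submonoid.powers b) A'
    (T := Submonoid.powers (φ b)) R' e hM
  have : φ' = e'.toRingHom := by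
    apply IsLocalization.ringHom_ext (Submonoid.powers b)
    rw [h]
    ext a
    simp [e', e, IsLocalization.ringEquivOfRingEquiv_apply]
  rw [this]
  exact e'.bijective

theorem isLocalization_away_of_eq_basicOpen {X : Scheme.{u}} {U V : X.Opens} (hU : IsCompact U.1)
    (hU' : IsQuasiSeparated U.1) (r : Γ(X, U)) (hV : V = X.basicOpen r) :
    letI := (X.presheaf.map (homOfLE (hV.le.trans (X.basicOpen_le r))).op).hom.toAlgebra
    IsLocalization.Away r Γ(X, V) := by
  subst hV
  exact isLocalization_basicOpen_of_qcqs hU hU' r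

/-- If `g` induces an isomorphism on sections over an affine open `W` with qcqs preimage,
it does so on every basic open of `W`. -/
theorem isIso_app_basicOpen_of_isIso_app {X X' : Scheme.{u}} (g : X ⟶ X') {W : X'.Opens}
    (hW : IsAffineOpen W) (hc : IsCompact (g ⁻¹ᵁ W).1) (hqs : IsQuasiSeparated (g ⁻¹ᵁ W).1)
    [IsIso (g.app W)] (b : Γ(X', W)) : IsIso (g.app (X'.basicOpen b)) := by
  have hpre : g ⁻¹ᵁ X'.basicOpen b = X.basicOpen (g.app W b) := g.preimage_basicOpen b
  let alg : Algebra Γ(X, g ⁻¹ᵁ W) Γ(X, g ⁻¹ᵁ X'.basicOpen b) :=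
    (X.presheaf.map (homOfLE (hpre.le.trans (X.basicOpen_le _))).op).hom.toAlgebra
  have h1 : IsLocalization.Away (g.app W b) Γ(X, g ⁻¹ᵁ X'.basicOpen b) :=
    isLocalization_away_of_eq_basicOpen hc hqs (g.app W b) hpre
  have h2 : IsLocalization.Away b Γ(X', X'.basicOpen b) := hW.isLocalization_basicOpen b
  have hbij : Function.Bijective (g.app W).hom :=
    ConcreteCategory.bijective_of_isIso (g.app W)
  have := bijective_of_isLocalization_away (A := Γ(X', W)) (A' := Γ(X', X'.basicOpen b))
    (R := Γ(X, g ⁻¹ᵁ W)) (R' := Γ(X, g ⁻¹ᵁ X'.basicOpen b)) b (g.app W).hom hbij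
    (g.app (X'.basicOpen b)).hom (by
      have := g.naturality (homOfLE (X'.basicOpen_le b)).op
      simp only [RingHom.algebraMap_toAlgebra, ← CommRingCat.hom_comp]
      exact congr($(this).hom))
  exact (ConcreteCategory.isIso_iff_bijective _).mpr this

/-- A morphism of schemes inducing isomorphisms of sections on a basis of opens induces
isomorphisms on all opens. -/
theorem isIso_app_of_isBasis {X X' : Scheme.{u}} (g : X ⟶ X') {ι : Type*} (B : ι → X'.Opens)
    (hB : Opens.IsBasis (Set.range B)) (h : ∀ i, IsIso (g.app (B i))) (U : X'.Opens) :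
    IsIso (g.app U) := by
  let φ : X'.sheaf ⟶ (TopCat.Sheaf.pushforward CommRingCat g.base).obj X.sheaf := ⟨g.c⟩
  have : IsIso φ := TopCat.Sheaf.isIso_iff_isIso_basis (B := B) hB (fun i ↦ h i)
  have h2 : IsIso φ.hom := by
    change IsIso ((TopCat.Sheaf.forget _ _).map φ)
    infer_instance
  exact (NatTrans.isIso_iff_isIso_app φ.hom).mp h2 (Opposite.op U)

theorem isIso_toNormalization_app_preimage {X S : Scheme.{u}} (f : X ⟶ S) [UniversallyClosed f]
    [QuasiSeparated f] (V : S.affineOpens) :
    IsIso (f.toNormalization.app (f.fromNormalization ⁻¹ᵁ V)) := by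
  let := (f.app V.1).hom.toAlgebra
  have h := f.toNormalization_app_preimage V
  have htop : integralClosure Γ(S, V.1) Γ(X, f ⁻¹ᵁ V.1) = ⊤ := by
    rw [integralClosure_eq_top_iff, ← algebraMap_isIntegral_iff, RingHom.algebraMap_toAlgebra]
    exact isIntegral_app_of_universallyClosed f V.2
  have h3 : IsIso (CommRingCat.ofHom
      (integralClosure Γ(S, V.1) Γ(X, f ⁻¹ᵁ V.1)).val.toRingHom) := by
    refine (ConcreteCategory.isIso_iff_bijective _).mpr ⟨Subtype.val_injective, fun x ↦ ?_⟩
    exact ⟨⟨x, htop ▸ Algebra.mem_top⟩, rfl⟩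
  rw [h]
  exact @IsIso.comp_isIso _ _ _ _ _ _ _ inferInstance
    (@IsIso.comp_isIso _ _ _ _ _ _ _ h3 inferInstance)

theorem isIso_toNormalization_app {X S : Scheme.{u}} (f : X ⟶ S) [UniversallyClosed f]
    [QuasiSeparated f] (U : f.normalization.Opens) : IsIso (f.toNormalization.app U) := by
  let g := f.toNormalization
  let B : (Σ V : S.affineOpens, Γ(f.normalization, f.fromNormalization ⁻¹ᵁ V.1)) →
      f.normalization.Opens := fun p ↦ f.normalization.basicOpen p.2
  refine isIso_app_of_isBasis g B ?_ ?_ U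
  · rw [Opens.isBasis_iff_nbhd]
    intro U x hxU
    obtain ⟨V, hV⟩ : ∃ V : S.affineOpens, f.fromNormalization x ∈ V.1 := by
      obtain ⟨_, ⟨V, hV, rfl⟩, hxV, -⟩ := S.isBasis_affineOpens.exists_subset_of_mem_open
        (Set.mem_univ (f.fromNormalization x)) isOpen_univ
      exact ⟨⟨V, hV⟩, hxV⟩
    have hW : IsAffineOpen (f.fromNormalization ⁻¹ᵁ V.1) := V.2.preimage f.fromNormalization
    obtain ⟨b, hb1, hb2⟩ := hW.exists_basicOpen_le ⟨x, hxU⟩ hV
    exact ⟨_, ⟨⟨V, b⟩, rfl⟩, hb2, hb1⟩
  · rintro ⟨V, b⟩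
    have hW : IsAffineOpen (f.fromNormalization ⁻¹ᵁ V.1) := V.2.preimage f.fromNormalization
    have := isIso_toNormalization_app_preimage f V
    have hpre : g ⁻¹ᵁ (f.fromNormalization ⁻¹ᵁ V.1) = f ⁻¹ᵁ V.1 := by
      rw [← Scheme.Hom.comp_preimage, f.toNormalization_fromNormalization]
    refine isIso_app_basicOpen_of_isIso_app g hW ?_ ?_ b
    · rw [hpre]; exact f.isCompact_preimage V.2.isCompact
    · rw [hpre]; exact f.isQuasiSeparated_preimage V.2.isQuasiSeparated

end Groth.Agent.H1
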