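import Mathlib
import Groth.Prelude.Def_SGA1
import Groth.Agent.Lib.Helper1.Subtr3

set_option autoImplicit false

namespace Groth.Agent.Lib.Helper1.Subtr4

open CategoryTheory CategoryTheory.Limits AlgebraicGeometry HTop Subtr IsLocalRing Topology
open Groth.Agent.Lib.Helper1.ValLift Groth.Agent.Lib.Helper1.ValChain
open Groth.Agent.Lib.Helper1.Subtr1 Groth.Agent.Lib.Helper1.Subtr2 Groth.Agent.Lib.Helper1.Subtr3
open Groth.Agent.H2.ProConsLib Groth.Agent.H2.ConsTop
open scoped Set.Notation

universe u

section top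

variable {Y : Type*} [TopologicalSpace Y] [CompactSpace Y] [QuasiSober Y] [PrespectralSpace Y]
  [QuasiSeparatedSpace Y]

theorem CC.isCompact {K : Set Y} (hK : CC K) : IsCompact K := by
  have hcs := compactSpace_cons (Y := Y)
  have h1 : @IsCompact Y (constructibleTopology Y) K :=
    @IsClosed.isCompact Y (constructibleTopology Y) K hcs hK
  have hcont : @Continuous Y Y (constructibleTopology Y) _ id := by
    refine @Continuous.mk Y Y (constructibleTopology Y) _ id ?_
    intro s hs
    exact co_of_isOpen hs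
  have := @IsCompact.image Y Y (constructibleTopology Y) _ K id h1 hcont
  simpa using this

theorem cc_of_isClosed {K : Set Y} (hK : IsClosed K) : CC K :=
  cc_iff.mpr (co_of_isOpen hK.isOpen_compl)

/-- a compact locally closed subset of a spectral space is closed for the constructible
topology -/
theorem cc_of_isLocallyClosed_of_isCompact {E : Set Y} (h1 : IsLocallyClosed E)
    (h2 : IsCompact E) : CC E := by
  obtain ⟨O, C, hO, hC, rfl⟩ := h1
  obtain ⟨W, hWc, hWo, hEW, hWO⟩ :=
    PrespectralSpace.exists_isCompact_and_isOpen_between h2 hO Set.inter_subset_left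
  have : O ∩ C = W ∩ C := by
    apply Set.Subset.antisymm
    · intro y hy
      exact ⟨hEW hy, hy.2⟩
    · intro y hy
      exact ⟨hWO hy.1, hy.2⟩
  rw [this]
  exact (cc_of_isCompact_isOpen hWc hWo).inter (cc_of_isClosed hC)

end top

variable {X Y : Scheme.{u}}

/-- a retrocompact locally closed subset of a scheme is pro-constructible -/
theorem isProConstructible_of_isLocallyClosed_of_isRetrocompact {E : Set X}
    (h1 : IsLocallyClosed E) (h2 : IsRetrocompact E) : ProCons.IsProConstructible E := by
  apply isProConstructible_of_cc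
  intro x
  obtain ⟨V, hV, hxV, -⟩ := exists_affine_nhd x isOpen_univ (Set.mem_univ _)
  obtain ⟨i1, i2, i3, i4⟩ := spectral_of_isAffineOpen hV
  refine ⟨V, hV, hxV, ?_⟩
  apply cc_of_isLocallyClosed_of_isCompact
  · exact h1.preimage continuous_subtype_val
  · have hc : IsCompact (E ∩ (V : Set X)) := h2 hV.isCompact V.2
    have hemb : IsEmbedding (Subtype.val : ↥(V : Set X) → X) := IsEmbedding.subtypeVal
    rw [hemb.isCompact_iff]
    have : Subtype.val '' ((V : Set X) ↓∩ E) = E ∩ (V : Set X) := by
      rw [Subtype.image_preimage_coe, Set.inter_comm]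
    rw [this]
    exact hc

/-- a pro-constructible subset of a scheme is retrocompact -/
theorem isRetrocompact_of_isProConstructible {E : Set X} (h : ProCons.IsProConstructible E) :
    IsRetrocompact E := by
  intro U hUc hUo
  obtain ⟨n, W, hW, hWle, hWcov⟩ := exists_fin_affineOpens_of_isCompact (⟨U, hUo⟩ : X.Opens) hUc
  have heq : E ∩ U = ⋃ k : Fin n, E ∩ (W k : Set X) := by
    ext y
    simp only [Set.mem_inter_iff, Set.mem_iUnion]
    constructor
    · rintro ⟨hyE, hyU⟩
      obtain ⟨k, hk⟩ := hWcov y hyU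
      exact ⟨k, hyE, hk⟩
    · rintro ⟨k, hyE, hk⟩
      exact ⟨hyE, hWle k hk⟩
  rw [heq]
  apply isCompact_iUnion
  intro k
  obtain ⟨i1, i2, i3, i4⟩ := spectral_of_isAffineOpen (hW k)
  have hcc := cc_of_isProConstructible (W k).isOpen h
  have hc := CC.isCompact hcc
  have hemb : IsEmbedding (Subtype.val : ↥((W k : X.Opens) : Set X) → X) := IsEmbedding.subtypeVal
  rw [hemb.isCompact_iff] at hc
  have : Subtype.val '' (((W k : X.Opens) : Set X) ↓∩ E) = E ∩ (W k : Set X) := by
    rw [Subtype.image_preimage_coe, Set.inter_comm]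
  rw [this] at hc
  exact hc

/-- **Descent of locally closed subsets.** -/
theorem isLocallyClosed_of_preimage {f : X ⟶ Y} [QuasiCompact f] (hf : ValLift f) {E : Set Y}
    (hE' : IsLocallyClosed (f ⁻¹' E)) (Z₁ : Set Y) (h1 : E ⊆ Z₁)
    (h3 : ProCons.IsProConstructible Z₁) (h4 : f ⁻¹' Z₁ ⊆ closure (f ⁻¹' E)) :
    IsLocallyClosed E := by
  have hcl : IsClosed (closure (f ⁻¹' E) \ f ⁻¹' E) := by
    have := hE'.isOpen_coborder
    rw [coborder] at this
    exact isOpen_compl_iff.1 this
  have hclZ1 : closure E ⊆ closure Z₁ := closure_mono h1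
  -- lifting of specializations starting in Z₁
  have himgsub : ∀ x ∈ closure (f ⁻¹' E), f x ∈ closure E := by
    intro x hx
    have h5 : f x ∈ f '' closure (f ⁻¹' E) := ⟨x, hx, rfl⟩
    have h6 := image_closure_subset_closure_image f.continuous h5
    exact closure_mono (Set.image_preimage_subset _ _) h6
  have hT : closure E \ E = f '' (closure (f ⁻¹' E) \ f ⁻¹' E) := by
    apply Set.Subset.antisymm
    · rintro y ⟨hyZ, hyE⟩
      obtain ⟨z₁, hz₁, hzy⟩ := exists_specializes_of_mem_closure h3 (hclZ1 hyZ)
      obtain ⟨x, hx, hfx⟩ := exists_chain_lift hf 1 ![z₁, y] (by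
        intro i j hij
        fin_cases i <;> fin_cases j
        · exact specializes_rfl
        · exact hzy
        · exact absurd hij (by decide)
        · exact specializes_rfl)
      have hx0 : x 0 ∈ closure (f ⁻¹' E) := h4 (by
        change f (x 0) ∈ Z₁
        rw [hfx 0]; exact hz₁)
      have hx1 : x 1 ∈ closure (f ⁻¹' E) :=
        isClosed_closure.stableUnderSpecialization (hx 0 1 (by decide)) hx0
      refine ⟨x 1, ⟨hx1, ?_⟩, hfx 1⟩
      intro hmem
      apply hyE
      have : f (x 1) ∈ E := hmem
      rwa [hfx 1] at this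
    · rintro _ ⟨x, ⟨hx1, hx2⟩, rfl⟩
      exact ⟨himgsub x hx1, hx2⟩
  have hTcl : IsClosed (closure E \ E) := by
    rw [hT]
    apply isClosed_image_of_stableUnderSpecialization f hcl
    rw [← hT]
    rintro t y hty ⟨htZ, htE⟩
    refine ⟨isClosed_closure.stableUnderSpecialization hty htZ, fun hyE => htE ?_⟩
    obtain ⟨z₁, hz₁, hzt⟩ := exists_specializes_of_mem_closure h3 (hclZ1 htZ)
    obtain ⟨x, hx, hfx⟩ := exists_chain_lift hf 2 ![z₁, t, y] (by
      intro i j hij
      fin_cases i <;> fin_cases j
      · exact specializes_rfl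
      · exact hzt
      · exact hzt.trans hty
      · exact absurd hij (by decide)
      · exact specializes_rfl
      · exact hty
      · exact absurd hij (by decide)
      · exact absurd hij (by decide)
      · exact specializes_rfl)
    have hx0 : x 0 ∈ closure (f ⁻¹' E) := h4 (by
      change f (x 0) ∈ Z₁
      rw [hfx 0]; exact hz₁)
    have hx1 : x 1 ∈ closure (f ⁻¹' E) :=
      isClosed_closure.stableUnderSpecialization (hx 0 1 (by decide)) hx0
    by_contra hcon
    have h7 : x 1 ∈ closure (f ⁻¹' E) \ f ⁻¹' E := by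
      refine ⟨hx1, fun hmem => hcon ?_⟩
      have : f (x 1) ∈ E := hmem
      rwa [hfx 1] at this
    have h8 : x 2 ∈ closure (f ⁻¹' E) \ f ⁻¹' E :=
      hcl.stableUnderSpecialization (hx 1 2 (by decide)) h7
    apply h8.2
    change f (x 2) ∈ E
    rw [hfx 2]
    exact hyE
  have : E = closure E ∩ (closure E \ E)ᶜ := by
    ext y
    simp only [Set.mem_inter_iff, Set.mem_compl_iff, Set.mem_sdiff, not_and, not_not]
    exact ⟨fun hy => ⟨subset_closure hy, fun _ => hy⟩, fun hy => hy.2 hy.1⟩
  rw [this]
  exact isClosed_closure.isLocallyClosed.inter hTcl.isOpen_compl.isLocallyClosed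

end Groth.Agent.Lib.Helper1.Subtr4
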