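import Mathlib
import Groth.Prelude.Def_SGA1

set_option autoImplicit false

namespace Groth.Agent.Lib.Helper1.Subtr5

open CategoryTheory CategoryTheory.Limits AlgebraicGeometry Topology

universe u

variable {X S S' : Scheme.{u}}

/-- a base change of a universally submersive morphism is a quotient map -/
theorem isQuotientMap_of_isPullback {g : S' ⟶ S} (hg : SGA1.UnivSubmersive g) {T T' : Scheme.{u}}
    {q : T' ⟶ T} {a : T' ⟶ S'} {b : T ⟶ S} (h : IsPullback q a b g) : IsQuotientMap q :=
  hg a b q h

/-- Universal closedness descends along universally submersive morphisms. -/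
theorem universallyClosed_of_univSubmersive (g : S' ⟶ S) (hg : SGA1.UnivSubmersive g) (f : X ⟶ S)
    [UniversallyClosed (pullback.snd f g)] : UniversallyClosed f := by
  refine ⟨fun X' Y' i₁ i₂ f' hsq => ?_⟩
  let q : pullback i₂ g ⟶ Y' := pullback.fst i₂ g
  have hq : IsQuotientMap q := isQuotientMap_of_isPullback hg (IsPullback.of_hasPullback i₂ g)
  let p : pullback f' q ⟶ X' := pullback.fst f' q
  let r : pullback f' q ⟶ pullback i₂ g := pullback.snd f' q
  have hleft : IsPullback p r f' q := IsPullback.of_hasPullback f' q
  have hbig : IsPullback (p ≫ i₁) r f (q ≫ i₂) := hleft.paste_horiz hsq.flip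
  let l : pullback f' q ⟶ pullback f g :=
    pullback.lift (p ≫ i₁) (r ≫ pullback.snd i₂ g) (by
      have := hbig.w
      simp only [Category.assoc] at this
      rw [Category.assoc, Category.assoc, ← pullback.condition]
      exact this)
  have hl1 : l ≫ pullback.fst f g = p ≫ i₁ := pullback.lift_fst _ _ _
  have hl2 : l ≫ pullback.snd f g = r ≫ pullback.snd i₂ g := pullback.lift_snd _ _ _
  have hs : IsPullback (l ≫ pullback.fst f g) r f (pullback.snd i₂ g ≫ g) := by
    rw [hl1, ← pullback.condition]
    exact hbig
  have hr : IsPullback l r (pullback.snd f g) (pullback.snd i₂ g) :=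
    IsPullback.of_right hs hl2 (IsPullback.of_hasPullback f g)
  have hruc : UniversallyClosed r := MorphismProperty.of_isPullback hr inferInstance
  change IsClosedMap f'
  intro A hA
  rw [← hq.isClosed_preimage]
  have := Scheme.image_preimage_eq_of_isPullback hleft A
  rw [← this]
  exact r.isClosedMap _ (hA.preimage p.continuous)

/-- Separatedness descends along universally submersive morphisms for morphisms with open
diagonal (e.g. unramified ones). -/
theorem isSeparated_of_univSubmersive (g : S' ⟶ S) (hg : SGA1.UnivSubmersive g) (f : X ⟶ S)
    [IsOpenImmersion (pullback.diagonal f)] [IsSeparated (pullback.snd f g)] : IsSeparated f := by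
  -- `f'' = pullback.fst g f` is separated
  have hsym : pullback.fst g f = (pullbackSymmetry g f).hom ≫ pullback.snd f g := by
    rw [pullbackSymmetry_hom_comp_snd]
  have hsep : IsSeparated (pullback.fst g f) := by
    rw [hsym]; infer_instance
  have hci : IsClosedImmersion (pullback.diagonal (pullback.fst g f)) :=
    hsep.isClosedImmersion_diagonal
  let h : pullback.diagonalObj f ⟶ S := pullback.snd f f ≫ f
  let φ : Over.mk f ⟶ Over.mk h := Over.homMk (pullback.diagonal f) (by simp [h])
  let m : pullback f g ⟶ pullback h g := ((Over.pullback g).map φ).left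
  have hm : pullback.diagonal (pullback.fst g f) =
      (pullbackSymmetry g f).hom ≫ m ≫ (diagonalObjPullbackFstIso g f).inv :=
    diagonal_pullback_fst g f
  have hmci : IsClosedImmersion m := by
    have : m = (pullbackSymmetry g f).inv ≫ pullback.diagonal (pullback.fst g f) ≫
        (diagonalObjPullbackFstIso g f).hom := by
      rw [hm]; simp
    rw [this]; infer_instance
  have hm1 : m ≫ pullback.fst h g = pullback.fst f g ≫ pullback.diagonal f := by
    simp only [m, φ, Over.pullback_map_left, Over.mk_left, Over.mk_hom, Over.homMk_left]
    exact pullback.lift_fst _ _ _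
  have hm2 : m ≫ pullback.snd h g = pullback.snd f g := by
    simp only [m, φ, Over.pullback_map_left, Over.mk_left, Over.mk_hom, Over.homMk_left]
    exact pullback.lift_snd _ _ _
  have hsq : IsPullback m (pullback.fst f g) (pullback.fst h g) (pullback.diagonal f) := by
    refine IsPullback.of_right (h₁₂ := pullback.snd h g) (h₂₂ := h) (v₁₃ := g) ?_ hm1
      (IsPullback.of_hasPullback h g).flip
    rw [hm2]
    have : pullback.diagonal f ≫ h = f := by simp [h]
    rw [this]
    exact (IsPullback.of_hasPullback f g).flip
  have hpr : IsQuotientMap (pullback.fst h g) :=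
    isQuotientMap_of_isPullback hg (IsPullback.of_hasPullback h g)
  have hrange : IsClosed (Set.range (pullback.diagonal f)) := by
    rw [← hpr.isClosed_preimage]
    have := Scheme.image_preimage_eq_of_isPullback hsq.flip Set.univ
    rw [Set.preimage_univ, Set.image_univ, Set.image_univ] at this
    rw [← this]
    exact m.isClosedEmbedding.isClosed_range
  exact ⟨IsClosedImmersion.of_isPreimmersion _ hrange⟩

end Groth.Agent.Lib.Helper1.Subtr5
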