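import Mathlib
import Groth.Prelude.Def_SGA1
import Groth.Agent.Lib.Helper1.Subtr5

set_option autoImplicit false

namespace Groth.Agent.Lib.Helper1.Subtr8

open CategoryTheory CategoryTheory.Limits AlgebraicGeometry Topology
open Groth.Agent.Lib.Helper1.Subtr5

universe u

variable {X S S' X' : Scheme.{u}}

theorem univSubmersive_of_isPullback {g : S' ⟶ S} (hg : SGA1.UnivSubmersive g) {T T' : Scheme.{u}}
    {q : T' ⟶ T} {a : T' ⟶ S'} {b : T ⟶ S} (h : IsPullback q a b g) : SGA1.UnivSubmersive q :=
  (MorphismProperty.universally_isStableUnderBaseChange _).of_isPullback h.flip hg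

/-- Open maps descend along universally submersive morphisms. -/
theorem isOpenMap_of_isPullback {g : S' ⟶ S} (hg : SGA1.UnivSubmersive g) {f : X ⟶ S}
    {gX : X' ⟶ X} {f' : X' ⟶ S'} (h : IsPullback gX f' f g) (hf' : IsOpenMap f') :
    IsOpenMap f := by
  have hq : IsQuotientMap g := hg (𝟙 _) (𝟙 _) g IsPullback.of_id_snd
  intro U hU
  rw [← hq.isOpen_preimage, ← Scheme.image_preimage_eq_of_isPullback h U]
  exact hf' _ (hU.preimage gX.continuous)

/-- Closed maps descend along universally submersive morphisms. -/
theorem isClosedMap_of_isPullback {g : S' ⟶ S} (hg : SGA1.UnivSubmersive g) {f : X ⟶ S}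
    {gX : X' ⟶ X} {f' : X' ⟶ S'} (h : IsPullback gX f' f g) (hf' : IsClosedMap f') :
    IsClosedMap f := by
  have hq : IsQuotientMap g := hg (𝟙 _) (𝟙 _) g IsPullback.of_id_snd
  intro U hU
  rw [← hq.isClosed_preimage, ← Scheme.image_preimage_eq_of_isPullback h U]
  exact hf' _ (hU.preimage gX.continuous)

/-- the double base change square -/
theorem exists_double_square {g : S' ⟶ S} {f : X ⟶ S} {gX : X' ⟶ X} {f' : X' ⟶ S'}
    (h : IsPullback gX f' f g) {XT T : Scheme.{u}} {fT : XT ⟶ T} {i₁ : XT ⟶ X} {i₂ : T ⟶ S}
    (hsq : IsPullback fT i₁ i₂ f) :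
    ∃ (W T' : Scheme.{u}) (p : W ⟶ XT) (r : W ⟶ T') (q : T' ⟶ T) (l : W ⟶ X') (m : T' ⟶ S'),
      IsPullback q m i₂ g ∧ IsPullback p r fT q ∧ IsPullback l r f' m := by
  let q : pullback i₂ g ⟶ T := pullback.fst i₂ g
  let p : pullback fT q ⟶ XT := pullback.fst fT q
  let r : pullback fT q ⟶ pullback i₂ g := pullback.snd fT q
  have hleft : IsPullback p r fT q := IsPullback.of_hasPullback fT q
  have hbig : IsPullback (p ≫ i₁) r f (q ≫ i₂) := hleft.paste_horiz hsq.flip
  let l : pullback fT q ⟶ X' :=
    h.lift (p ≫ i₁) (r ≫ pullback.snd i₂ g) (by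
      have := hbig.w
      simp only [Category.assoc] at this
      rw [Category.assoc, Category.assoc, ← pullback.condition]
      exact this)
  have hl1 : l ≫ gX = p ≫ i₁ := h.lift_fst _ _ _
  have hl2 : l ≫ f' = r ≫ pullback.snd i₂ g := h.lift_snd _ _ _
  have hs : IsPullback (l ≫ gX) r f (pullback.snd i₂ g ≫ g) := by
    rw [hl1, ← pullback.condition]
    exact hbig
  have hr : IsPullback l r f' (pullback.snd i₂ g) := IsPullback.of_right hs hl2 h
  exact ⟨_, _, p, r, q, l, pullback.snd i₂ g, IsPullback.of_hasPullback i₂ g, hleft, hr⟩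

/-- Universal openness descends along universally submersive morphisms. -/
theorem universallyOpen_of_isPullback {g : S' ⟶ S} (hg : SGA1.UnivSubmersive g) {f : X ⟶ S}
    {gX : X' ⟶ X} {f' : X' ⟶ S'} (h : IsPullback gX f' f g) [UniversallyOpen f'] :
    UniversallyOpen f := by
  refine ⟨fun XT T i₁ i₂ fT hsq => ?_⟩
  obtain ⟨W, T', p, r, q, l, m, h1, h2, h3⟩ := exists_double_square h hsq
  have hro : UniversallyOpen r := MorphismProperty.of_isPullback h3 inferInstance
  exact isOpenMap_of_isPullback (univSubmersive_of_isPullback hg h1) h2 r.isOpenMap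

/-- Universal closedness descends along universally submersive morphisms. -/
theorem universallyClosed_of_isPullback {g : S' ⟶ S} (hg : SGA1.UnivSubmersive g) {f : X ⟶ S}
    {gX : X' ⟶ X} {f' : X' ⟶ S'} (h : IsPullback gX f' f g) [UniversallyClosed f'] :
    UniversallyClosed f := by
  refine ⟨fun XT T i₁ i₂ fT hsq => ?_⟩
  obtain ⟨W, T', p, r, q, l, m, h1, h2, h3⟩ := exists_double_square h hsq
  have hro : UniversallyClosed r := MorphismProperty.of_isPullback h3 inferInstance
  exact isClosedMap_of_isPullback (univSubmersive_of_isPullback hg h1) h2 r.isClosedMap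

/-- Separatedness descends along universally submersive morphisms. -/
theorem isSeparated_of_isPullback {g : S' ⟶ S} (hg : SGA1.UnivSubmersive g) {f : X ⟶ S}
    {gX : X' ⟶ X} {f' : X' ⟶ S'} (h : IsPullback gX f' f g) [IsSeparated f'] :
    IsSeparated f := by
  have he : pullback.snd f g = h.isoPullback.inv ≫ f' := by
    rw [Iso.eq_inv_comp, h.isoPullback_hom_snd]
  have hsep' : IsSeparated (pullback.snd f g) := by rw [he]; infer_instance
  have hsym : pullback.fst g f = (pullbackSymmetry g f).hom ≫ pullback.snd f g := by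
    rw [pullbackSymmetry_hom_comp_snd]
  have hsep : IsSeparated (pullback.fst g f) := by
    rw [hsym]; infer_instance
  have hci : IsClosedImmersion (pullback.diagonal (pullback.fst g f)) :=
    hsep.isClosedImmersion_diagonal
  let k : pullback.diagonalObj f ⟶ S := pullback.snd f f ≫ f
  let φ : Over.mk f ⟶ Over.mk k := Over.homMk (pullback.diagonal f) (by simp [k])
  let m : pullback f g ⟶ pullback k g := ((Over.pullback g).map φ).left
  have hm : pullback.diagonal (pullback.fst g f) =
      (pullbackSymmetry g f).hom ≫ m ≫ (diagonalObjPullbackFstIso g f).inv :=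
    diagonal_pullback_fst g f
  have hmci : IsClosedImmersion m := by
    have : m = (pullbackSymmetry g f).inv ≫ pullback.diagonal (pullback.fst g f) ≫
        (diagonalObjPullbackFstIso g f).hom := by
      rw [hm]; simp
    rw [this]; infer_instance
  have hm1 : m ≫ pullback.fst k g = pullback.fst f g ≫ pullback.diagonal f := by
    simp only [m, φ, Over.pullback_map_left, Over.mk_left, Over.mk_hom, Over.homMk_left]
    exact pullback.lift_fst _ _ _
  have hm2 : m ≫ pullback.snd k g = pullback.snd f g := by
    simp only [m, φ, Over.pullback_map_left, Over.mk_left, Over.mk_hom, Over.homMk_left]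
    exact pullback.lift_snd _ _ _
  have hsq : IsPullback m (pullback.fst f g) (pullback.fst k g) (pullback.diagonal f) := by
    refine IsPullback.of_right (h₁₂ := pullback.snd k g) (h₂₂ := k) (v₁₃ := g) ?_ hm1
      (IsPullback.of_hasPullback k g).flip
    rw [hm2]
    have : pullback.diagonal f ≫ k = f := by simp [k]
    rw [this]
    exact (IsPullback.of_hasPullback f g).flip
  have hpr : IsQuotientMap (pullback.fst k g) :=
    isQuotientMap_of_isPullback hg (IsPullback.of_hasPullback k g)
  have hrange : IsClosed (Set.range (pullback.diagonal f)) := by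
    rw [← hpr.isClosed_preimage]
    have := Scheme.image_preimage_eq_of_isPullback hsq.flip Set.univ
    rw [Set.preimage_univ, Set.image_univ, Set.image_univ] at this
    rw [← this]
    exact m.isClosedEmbedding.isClosed_range
  exact ⟨IsClosedImmersion.of_isPreimmersion _ hrange⟩

end Groth.Agent.Lib.Helper1.Subtr8
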