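import Mathlib

set_option autoImplicit false
universe v u v' u'
open CategoryTheory CategoryTheory.Limits CategoryTheory.Pretriangulated CategoryTheory.Triangulated

namespace Groth.Agent.H1.TStrHom

section abelian

variable {A : Type*} [Category A] [Abelian A]

lemma exact_of_factor {X₁ X₂ X₃ U : A} (f : X₁ ⟶ X₂) (g : X₂ ⟶ X₃) (w : f ≫ g = 0)
    (p : X₂ ⟶ U) (m : U ⟶ X₃) [Mono m] (hpm : p ≫ m = g) (ψ : U ⟶ cokernel f)
    (hψ : p ≫ ψ = cokernel.π f) : (ShortComplex.mk f g w).Exact := by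
  rw [ShortComplex.exact_iff_kernel_ι_comp_cokernel_π_zero]
  show kernel.ι g ≫ cokernel.π f = 0
  have : kernel.ι g ≫ p = 0 := by
    rw [← cancel_mono m, Category.assoc, hpm, kernel.condition, zero_comp]
  rw [← hψ, ← Category.assoc, this, zero_comp]

end abelian

variable {C : Type u} [Category.{v} C] [Preadditive C] [HasZeroObject C] [HasShift C ℤ]
  [∀ n : ℤ, (shiftFunctor C n).Additive] [Pretriangulated C] [IsTriangulated C] (t : TStructure C)

set_option backward.defeqAttrib.useBackward true in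
set_option backward.isDefEq.respectTransparency false in
/-- If `Z ≥ 0` in a distinguished triangle `X ⟶ Y ⟶ Z`, there is a distinguished triangle
`τ≥0 X ⟶ τ≥0 Y ⟶ Z`. -/
lemma exists_tri_truncGE (T : Triangle C) (hT : T ∈ distTriang C) (h₃ : t.IsGE T.obj₃ 0) :
    ∃ (v : (t.truncGE 0).obj T.obj₂ ⟶ T.obj₃)
      (w : T.obj₃ ⟶ ((t.truncGE 0).obj T.obj₁)⟦(1 : ℤ)⟧),
      Triangle.mk ((t.truncGE 0).map T.mor₁) v w ∈ distTriang C := by
  have hiso : IsIso ((t.truncLT 0).map T.mor₁) := t.isIso₁_truncLT_map_of_isGE T hT 0 h₃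
  have mem : Triangle.mk ((t.truncLTι 0).app T.obj₁ ≫ T.mor₁) ((t.truncGEπ 0).app T.obj₂)
      ((t.truncGEδLT 0).app T.obj₂ ≫ (inv ((t.truncLT 0).map T.mor₁))⟦(1 : ℤ)⟧') ∈
        distTriang C := by
    refine isomorphic_distinguished _ (t.triangleLTGE_distinguished 0 T.obj₂) _ ?_
    exact Triangle.isoMk _ _ (asIso ((t.truncLT 0).map T.mor₁)) (Iso.refl _) (Iso.refl _)
  have H := someOctahedron rfl (t.triangleLTGE_distinguished 0 T.obj₁) hT mem
  have h1 : (t.truncGEπ 0).app T.obj₁ ≫ H.m₁ = T.mor₁ ≫ (t.truncGEπ 0).app T.obj₂ := H.comm₁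
  have hm : H.m₁ = (t.truncGE 0).map T.mor₁ := by
    apply t.from_truncGE_obj_ext
    rw [h1, t.truncGEπ_naturality]
  have := H.mem
  rw [hm] at this
  exact ⟨_, _, this⟩

set_option backward.defeqAttrib.useBackward true in
set_option backward.isDefEq.respectTransparency false in
/-- If `X ≤ 0` in a distinguished triangle `X ⟶ Y ⟶ Z`, there is a distinguished triangle
`X ⟶ τ≤0 Y ⟶ τ≤0 Z`. -/
lemma exists_tri_truncLE (T : Triangle C) (hT : T ∈ distTriang C) (h₁ : t.IsLE T.obj₁ 0) :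
    ∃ (u : T.obj₁ ⟶ (t.truncLE 0).obj T.obj₂)
      (w : (t.truncLE 0).obj T.obj₃ ⟶ T.obj₁⟦(1 : ℤ)⟧),
      u ≫ (t.truncLEι 0).app T.obj₂ = T.mor₁ ∧
      Triangle.mk u ((t.truncLE 0).map T.mor₂) w ∈ distTriang C := by
  have hiso : IsIso ((t.truncGE 1).map T.mor₂) :=
    t.isIso₂_truncGE_map_of_isLE T hT 0 1 (by lia) h₁
  have mem : Triangle.mk ((t.truncLEι 0).app T.obj₂) (T.mor₂ ≫ (t.truncGEπ 1).app T.obj₃)
      (inv ((t.truncGE 1).map T.mor₂) ≫ (t.truncGEδLE 0 1 (by lia)).app T.obj₂) ∈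
        distTriang C := by
    refine isomorphic_distinguished _ (t.triangleLEGE_distinguished 0 1 (by lia) T.obj₂) _ ?_
    exact Iso.symm (Triangle.isoMk _ _ (Iso.refl _) (Iso.refl _)
      (asIso ((t.truncGE 1).map T.mor₂)) (by simp) (by simp) (by simp))
  have h23 : Triangle.mk ((t.truncLEι 0).app T.obj₃) ((t.truncGEπ 1).app T.obj₃)
      ((t.truncGEδLE 0 1 (by lia)).app T.obj₃) ∈ distTriang C :=
    t.triangleLEGE_distinguished 0 1 (by lia) T.obj₃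
  have H := someOctahedron' rfl hT h23 mem
  have h1 : H.m₁ ≫ (t.truncLEι 0).app T.obj₂ = T.mor₁ := H.comm₁
  have h4 : H.m₃ ≫ (t.truncLEι 0).app T.obj₃ = (t.truncLEι 0).app T.obj₂ ≫ T.mor₂ := H.comm₄
  have hm : H.m₃ = (t.truncLE 0).map T.mor₂ := by
    apply t.to_truncLE_obj_ext
    rw [h4]
    exact ((t.truncLEι 0).naturality T.mor₂).symm
  have := H.mem
  rw [hm] at this
  exact ⟨_, _, h1, this⟩

/-- Injectivity part: if `Z ≥ 0`, then `τ≤0 τ≥0 X ⟶ τ≤0 τ≥0 Y` is "mono" against objects `≤ 0`. -/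
lemma eq_zero_of_comp_map (T : Triangle C) (hT : T ∈ distTriang C) (h₃ : t.IsGE T.obj₃ 0)
    {W : C} [t.IsLE W 0] (φ : W ⟶ (t.truncLE 0).obj ((t.truncGE 0).obj T.obj₁))
    (hφ : φ ≫ (t.truncLE 0).map ((t.truncGE 0).map T.mor₁) = 0) : φ = 0 := by
  obtain ⟨v, w, mem⟩ := exists_tri_truncGE t T hT h₃
  apply t.to_truncLE_obj_ext
  rw [zero_comp]
  have h1 : (φ ≫ (t.truncLEι 0).app ((t.truncGE 0).obj T.obj₁)) ≫
      (t.truncGE 0).map T.mor₁ = 0 := by
    have := (t.truncLEι 0).naturality ((t.truncGE 0).map T.mor₁)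
    dsimp at this
    rw [Category.assoc, ← this, ← Category.assoc, hφ, zero_comp]
  obtain ⟨ψ, hψ⟩ := Triangle.coyoneda_exact₂ _ (inv_rot_of_distTriang _ mem)
    (φ ≫ (t.truncLEι 0).app ((t.truncGE 0).obj T.obj₁)) h1
  have hz : ψ = 0 := t.zero_of_isLE_of_isGE ψ 0 1 (by lia) inferInstance
    (t.isGE_shift T.obj₃ 0 (-1) 1)
  rw [hz, zero_comp] at hψ
  exact hψ

/-- Cokernel part: if `X ≤ 0`, maps out of `τ≥0 τ≤0 Y` killing `τ≥0 τ≤0 X` descend to
`τ≥0 τ≤0 Z` (for targets `≥ 0`). -/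
lemma exists_desc_map (T : Triangle C) (hT : T ∈ distTriang C) (h₁ : t.IsLE T.obj₁ 0)
    {W : C} [t.IsGE W 0] (φ : (t.truncGE 0).obj ((t.truncLE 0).obj T.obj₂) ⟶ W)
    (hφ : (t.truncGE 0).map ((t.truncLE 0).map T.mor₁) ≫ φ = 0) :
    ∃ ψ : (t.truncGE 0).obj ((t.truncLE 0).obj T.obj₃) ⟶ W,
      (t.truncGE 0).map ((t.truncLE 0).map T.mor₂) ≫ ψ = φ := by
  obtain ⟨u, w, hu, mem⟩ := exists_tri_truncLE t T hT h₁
  have hu' : (t.truncLEι 0).app T.obj₁ ≫ u = (t.truncLE 0).map T.mor₁ := by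
    apply t.to_truncLE_obj_ext
    rw [Category.assoc, hu]
    exact ((t.truncLEι 0).naturality T.mor₁).symm
  have h1 : u ≫ ((t.truncGEπ 0).app ((t.truncLE 0).obj T.obj₂) ≫ φ) = 0 := by
    have : IsIso ((t.truncLEι 0).app T.obj₁) := inferInstance
    rw [← cancel_epi ((t.truncLEι 0).app T.obj₁), comp_zero, ← Category.assoc, hu',
      ← t.truncGEπ_naturality_assoc, hφ, comp_zero]
  obtain ⟨ψ', hψ'⟩ : ∃ ψ' : (t.truncLE 0).obj T.obj₃ ⟶ W,
      (t.truncGEπ 0).app ((t.truncLE 0).obj T.obj₂) ≫ φ = (t.truncLE 0).map T.mor₂ ≫ ψ' :=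
    Triangle.yoneda_exact₂ _ mem
      ((t.truncGEπ 0).app ((t.truncLE 0).obj T.obj₂) ≫ φ) h1
  refine ⟨t.descTruncGE ψ' 0, ?_⟩
  have nat := t.truncGEπ_naturality 0 ((t.truncLE 0).map T.mor₂)
  have d := t.π_descTruncGE ψ' 0
  apply t.from_truncGE_obj_ext
  exact ((Category.assoc _ _ _).symm.trans (congrArg (· ≫ t.descTruncGE ψ' 0) nat)).trans
    ((Category.assoc _ _ _).trans ((congrArg ((t.truncLE 0).map T.mor₂ ≫ ·) d).trans hψ'.symm))

variable {H : Type u'} [Category.{v'} H] [Abelian H] [t.Heart H] (H0 : C ⥤ H)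
  (e : H0 ⋙ t.ιHeart ≅ t.truncGE 0 ⋙ t.truncLE 0)

include e in
lemma mono_map (T : Triangle C) (hT : T ∈ distTriang C) (h₃ : t.IsGE T.obj₃ 0) :
    Mono (H0.map T.mor₁) := by
  apply Preadditive.mono_of_cancel_zero
  intro P k hk
  apply t.ιHeart.map_injective
  rw [t.ιHeart.map_zero]
  have key : t.ιHeart.map k ≫ e.hom.app T.obj₁ = 0 := by
    apply eq_zero_of_comp_map t T hT h₃
    have := e.hom.naturality T.mor₁
    dsimp at this
    rw [Category.assoc, ← this, ← Category.assoc, ← Functor.map_comp, hk, t.ιHeart.map_zero,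
      zero_comp]
  have h2 : t.ιHeart.map k = (t.ιHeart.map k ≫ e.hom.app T.obj₁) ≫ e.inv.app T.obj₁ := by
    rw [Category.assoc, Iso.hom_inv_id_app]
    exact (Category.comp_id _).symm
  rw [h2, key, zero_comp]

include e in
lemma exists_desc (T : Triangle C) (hT : T ∈ distTriang C) (h₁ : t.IsLE T.obj₁ 0)
    {W : H} (φ : H0.obj T.obj₂ ⟶ W) (hφ : H0.map T.mor₁ ≫ φ = 0) :
    ∃ ψ : H0.obj T.obj₃ ⟶ W, H0.map T.mor₂ ≫ ψ = φ := by
  obtain ⟨e', -⟩ : ∃ e' : H0 ⋙ t.ιHeart ≅ t.truncLE 0 ⋙ t.truncGE 0, True :=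
    ⟨e ≪≫ (t.truncGELEIsoLEGE 0 0).symm, trivial⟩
  have n1 := e'.inv.naturality T.mor₁
  have n2 := e'.hom.naturality T.mor₂
  dsimp at n1 n2
  obtain ⟨ψ, hψ⟩ := exists_desc_map t T hT h₁ (W := t.ιHeart.obj W)
    (e'.inv.app T.obj₂ ≫ t.ιHeart.map φ) (by
      rw [← Category.assoc, n1, Category.assoc, ← Functor.map_comp, hφ, t.ιHeart.map_zero,
        comp_zero])
  refine ⟨t.ιHeart.preimage (e'.hom.app T.obj₃ ≫ ψ), t.ιHeart.map_injective ?_⟩
  rw [Functor.map_comp, Functor.map_preimage, ← Category.assoc, n2, Category.assoc, hψ,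
    Iso.hom_inv_id_app_assoc]

include e in
lemma preservesZero : H0.PreservesZeroMorphisms := ⟨fun X Y => by
  apply t.ιHeart.map_injective
  have := e.hom.naturality (0 : X ⟶ Y)
  dsimp at this
  rw [(t.truncGE 0).map_zero, (t.truncLE 0).map_zero, comp_zero] at this
  rw [← cancel_mono (e.hom.app Y), this, t.ιHeart.map_zero, zero_comp]⟩

include e in
theorem main : H0.IsHomological := by
  haveI : H0.PreservesZeroMorphisms := preservesZero t H0 e
  refine ⟨fun T hT => ?_⟩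
  obtain ⟨U, p, q, mem⟩ := distinguished_cocone_triangle ((t.truncLEι 0).app T.obj₁ ≫ T.mor₁)
  have h12 : Triangle.mk ((t.truncLEι 0).app T.obj₁) ((t.truncGEπ 1).app T.obj₁)
      ((t.truncGEδLE 0 1 (by lia)).app T.obj₁) ∈ distTriang C :=
    t.triangleLEGE_distinguished 0 1 (by lia) T.obj₁
  have O := someOctahedron rfl h12 hT mem
  have c3 : p ≫ O.m₃ = T.mor₂ := O.comm₃
  have hm : Mono (H0.map O.m₃) := mono_map t H0 e _ (rot_of_distTriang _ O.mem)
    (t.isGE_shift ((t.truncGE 1).obj T.obj₁) 1 1 0)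
  have hcok : H0.map ((t.truncLEι 0).app T.obj₁ ≫ T.mor₁) ≫ cokernel.π (H0.map T.mor₁) = 0 := by
    rw [H0.map_comp, Category.assoc, cokernel.condition, comp_zero]
  obtain ⟨ψ, hψ⟩ : ∃ ψ : H0.obj U ⟶ cokernel (H0.map T.mor₁),
      H0.map p ≫ ψ = cokernel.π (H0.map T.mor₁) := exists_desc t H0 e _ mem
    (inferInstanceAs (t.IsLE ((t.truncLE 0).obj T.obj₁) 0))
    (cokernel.π (H0.map T.mor₁)) hcok
  have hg : H0.map p ≫ H0.map O.m₃ = H0.map T.mor₂ := by rw [← H0.map_comp, c3]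
  exact exact_of_factor (H0.map T.mor₁) (H0.map T.mor₂) _ (H0.map p) (H0.map O.m₃) hg ψ hψ

end Groth.Agent.H1.TStrHom
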