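import Mathlib
import Groth.Agent.Lib.Helper1.ThickeningLocal
import Groth.Agent.Lib.Helper1.ThickAff6

universe u
open CategoryTheory Limits AlgebraicGeometry

namespace Groth.Agent.H1

section pushout

variable (A' A B' B : Type*) [CommRing A'] [CommRing A] [CommRing B'] [CommRing B]
  [Algebra A' A] [Algebra A' B'] [Algebra A B] [Algebra B' B] [Algebra A' B]
  [IsScalarTower A' A B] [IsScalarTower A' B' B] [Algebra.IsPushout A' A B' B]

/-- If `A' → A` is surjective with nilpotent kernel, and `A ⊗ B'` is finite over `A`,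
then `B'` is finite over `A'`. -/
lemma finite_of_isPushout_of_isNilpotent (hsurj : Function.Surjective (algebraMap A' A))
    (hI : IsNilpotent (RingHom.ker (algebraMap A' A))) [Module.Finite A B] :
    Module.Finite A' B' := by
  have hσ := surjective_algebraMap_of_isPushout A' A B' B hsurj
  have hK := ker_algebraMap_of_isPushout A' A B' B hsurj
  have : Module.Finite A' A := Module.Finite.of_surjective (Algebra.linearMap A' A) hsurj
  have : Module.Finite A' B := Module.Finite.trans A B
  obtain ⟨s, hs⟩ := (this : Module.Finite A' B).fg_top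
  choose g hg using hσ
  classical
  let s' : Finset B' := s.image g
  let C : Submodule A' B' := Submodule.span A' (s' : Set B')
  have hC : C.map (IsScalarTower.toAlgHom A' B' B).toLinearMap = ⊤ := by
    rw [eq_top_iff, ← hs, Submodule.map_span]
    apply Submodule.span_mono
    intro x hx
    refine ⟨g x, ?_, hg x⟩
    simp only [s', Finset.coe_image]
    exact ⟨x, hx, rfl⟩
  have h1 : (⊤ : Submodule A' B') ≤ C ⊔ (RingHom.ker (algebraMap A' A)) • ⊤ := by
    intro b _
    have : algebraMap B' B b ∈ C.map (IsScalarTower.toAlgHom A' B' B).toLinearMap := by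
      rw [hC]; trivial
    obtain ⟨c, hc, hcb⟩ := this
    rw [Submodule.mem_sup]
    refine ⟨c, hc, b - c, ?_, by ring⟩
    rw [Ideal.smul_top_eq_map]
    change b - c ∈ (RingHom.ker (algebraMap A' A)).map (algebraMap A' B')
    rw [← hK, RingHom.mem_ker, map_sub, sub_eq_zero]
    exact hcb.symm
  have h2 := Submodule.le_of_le_sup_smul_of_isNilpotent hI h1
  exact ⟨⟨s', eq_top_iff.mpr h2⟩⟩

end pushout

section catPushout

variable {A' A B' B : CommRingCat.{u}} {ψ : A' ⟶ B'} {φ : A' ⟶ A} {σ : B' ⟶ B} {τ : A ⟶ B}

lemma finite_of_isPushout_cat (h : IsPushout ψ φ σ τ) (hφ : Function.Surjective φ)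
    (hI : IsNilpotent (RingHom.ker φ.hom)) (hτ : τ.hom.Finite) : ψ.hom.Finite := by
  let := ψ.hom.toAlgebra
  let := φ.hom.toAlgebra
  let := σ.hom.toAlgebra
  let := τ.hom.toAlgebra
  let := (ψ ≫ σ).hom.toAlgebra
  obtain ⟨_, _, _⟩ := algebraIsPushout_of_isPushout h
  have : Module.Finite A B := hτ
  exact finite_of_isPushout_of_isNilpotent A' A B' B hφ hI

end catPushout

end Groth.Agent.H1
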