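import Mathlib
import Groth.Prelude.Def_Red2
import Groth.Prelude.Def_AlgGrp
import Groth.Agent.Lib.Helper1.ActQuot
import Groth.Agent.Lib.Helper3.HomDiag.Triv
import Groth.Agent.Lib.Helper9.Misc.GAM1

/-!
# Homomorphisms from a `𝔾_a`-filtered group to a torus are trivial (helper1)
-/

set_option autoImplicit false

universe u

open CategoryTheory Limits MonoidalCategory CartesianMonoidalCategory MonObj GrpObj
  AlgebraicGeometry

namespace Groth.Agent.H1.UniTor

open Groth.Agent.H1.ActQuot Groth.Agent.H3.HomDiag Groth.Agent.H3.DSKit Groth.Agent.H4.GaGm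

section DescHom

variable {S : Scheme.{u}} {G Q T : Over S} [GrpObj G] [GrpObj Q] [GrpObj T]
  (π : G ⟶ Q) [IsMonHom π] [Flat π.left] [Surjective π.left] [QuasiCompact π.left]

omit [GrpObj G] [GrpObj Q] [GrpObj T] [IsMonHom π] in
include π in
theorem exists_desc_mor (f : G ⟶ T)
    (hcoeq : ∀ (Z : Over S) (g₁ g₂ : Z ⟶ G), g₁ ≫ π = g₂ ≫ π → g₁ ≫ f = g₂ ≫ f) :
    ∃ β : Q ⟶ T, π ≫ β = f := by
  have hdesc : ∀ {Z : Scheme.{u}} (g₁ g₂ : Z ⟶ G.left),
      g₁ ≫ π.left = g₂ ≫ π.left → g₁ ≫ f.left = g₂ ≫ f.left := by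
    intro Z g₁ g₂ h
    have hw : g₂ ≫ G.hom = g₁ ≫ G.hom := by
      calc g₂ ≫ G.hom = (g₂ ≫ π.left) ≫ Q.hom := by rw [Category.assoc, Over.w π]
        _ = (g₁ ≫ π.left) ≫ Q.hom := by rw [h]
        _ = g₁ ≫ G.hom := by rw [Category.assoc, Over.w π]
    obtain ⟨t₁, ht₁⟩ : ∃ t : Over.mk (g₁ ≫ G.hom) ⟶ G, t.left = g₁ := ⟨Over.homMk g₁ rfl, rfl⟩
    obtain ⟨t₂, ht₂⟩ : ∃ t : Over.mk (g₁ ≫ G.hom) ⟶ G, t.left = g₂ := ⟨Over.homMk g₂ hw, rfl⟩
    have ht : t₁ ≫ π = t₂ ≫ π := by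
      apply Over.OverMorphism.ext
      rw [Over.comp_left, Over.comp_left, ht₁, ht₂]
      exact h
    have h3 := hcoeq _ t₁ t₂ ht
    have h4 := congrArg (fun f => f.left) h3
    simp only [Over.comp_left, ht₁, ht₂] at h4
    exact h4
  haveI : EffectiveEpi π.left := inferInstance
  have hβ₀ : π.left ≫ EffectiveEpi.desc π.left f.left hdesc = f.left := EffectiveEpi.fac _ _ _
  have hwβ : EffectiveEpi.desc π.left f.left hdesc ≫ T.hom = Q.hom := by
    rw [← cancel_epi π.left, ← Category.assoc, hβ₀, Over.w f, Over.w π]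
  refine ⟨Over.homMk (EffectiveEpi.desc π.left f.left hdesc) hwβ, ?_⟩
  apply Over.OverMorphism.ext
  rw [Over.comp_left]
  exact hβ₀

include π in
/-- a homomorphism killing the kernel of a flat surjective quasi-compact homomorphism `π`
factors through `π`, by a homomorphism -/
theorem exists_desc_hom {N : Over S} (i : N ⟶ G) (hk : AlgGrp.IsKernel i π) (f : G ⟶ T)
    [IsMonHom f] (hf : i ≫ f = 1) : ∃ β : Q ⟶ T, IsMonHom β ∧ π ≫ β = f := by
  have hcoeq : ∀ (Z : Over S) (g₁ g₂ : Z ⟶ G), g₁ ≫ π = g₂ ≫ π → g₁ ≫ f = g₂ ≫ f := by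
    intro Z g₁ g₂ h
    have h1 : (g₁ * g₂⁻¹) ≫ π = 1 := by
      rw [MonObj.mul_comp, GrpObj.inv_comp, h, mul_inv_cancel]
    obtain ⟨m, hm⟩ := ker_exists_lift hk _ h1
    have h2 : (g₁ * g₂⁻¹) ≫ f = 1 := by
      rw [← hm, Category.assoc, hf, MonObj.comp_one]
    rw [MonObj.mul_comp, GrpObj.inv_comp, mul_inv_eq_one] at h2
    exact h2
  obtain ⟨β, hβ⟩ := exists_desc_mor π f hcoeq
  refine ⟨β, ⟨?_, ?_⟩, hβ⟩
  · have h1 : η[Q] = η[G] ≫ π := (IsMonHom.one_hom (f := π)).symm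
    rw [h1, Category.assoc, hβ, IsMonHom.one_hom]
  · haveI e1 : Epi (π ▷ G) := by
      obtain ⟨_, _, _⟩ := fsq_whiskerRight G π
      exact epi_of_fsq _
    haveI e2 : Epi (Q ◁ π) := by
      obtain ⟨_, _, _⟩ := fsq_whiskerLeft Q π
      exact epi_of_fsq _
    haveI : Epi (π ⊗ₘ π) := by
      rw [MonoidalCategory.tensorHom_def]
      infer_instance
    rw [← cancel_epi (π ⊗ₘ π)]
    calc (π ⊗ₘ π) ≫ μ[Q] ≫ β = μ[G] ≫ π ≫ β := by
          rw [← Category.assoc, ← IsMonHom.mul_hom, Category.assoc]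
      _ = μ[G] ≫ f := by rw [hβ]
      _ = (f ⊗ₘ f) ≫ μ[T] := IsMonHom.mul_hom f
      _ = ((π ≫ β) ⊗ₘ (π ≫ β)) ≫ μ[T] := by rw [hβ]
      _ = (π ⊗ₘ π) ≫ (β ⊗ₘ β) ≫ μ[T] := by
          rw [← MonoidalCategory.tensorHom_comp_tensorHom, Category.assoc]

end DescHom

section Field

theorem flat_of_field_base (k : Type u) [Field k] (R : CommRingCat.{u})
    (q : Spec R ⟶ Spec (CommRingCat.of k)) : Flat q := by
  rw [← Spec.map_preimage q, Flat.SpecMap_iff]
  letI : Algebra k R := (Spec.preimage q).hom.toAlgebra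
  have h : Module.Flat k R := inferInstance
  exact h

theorem surjective_of_field_base (k : Type u) [Field k] (X : Scheme.{u}) [Nonempty X]
    (q : X ⟶ Spec (CommRingCat.of k)) : Surjective q := by
  obtain ⟨x⟩ := ‹Nonempty X›
  exact ⟨fun y => ⟨x, Subsingleton.elim _ _⟩⟩

end Field

section GaTorus

/-- equality of morphisms descends along a flat surjective quasi-compact base change -/
theorem eq_of_bc_fpqc {S T : Scheme.{u}} {X Y : Over S} (q : T ⟶ S) [Flat q] [Surjective q]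
    [QuasiCompact q] (f g : X ⟶ Y)
    (h : (Over.pullback q).map f = (Over.pullback q).map g) : f = g := by
  have hmem : Sieve.generate (Presieve.singleton q) ∈ Scheme.fpqcTopology S :=
    Precoverage.generate_mem_toGrothendieck (Scheme.Hom.singleton_mem_fpqcPrecoverage q)
  refine eq_of_sieve hmem _ _ ?_
  rintro T'' t'' ⟨Z, r, _, ⟨⟩, rfl⟩
  exact bc_eq_comp r q _ _ h

/-- over a reduced base, every homomorphism from `𝔾_a` to a diagonalisable group is trivial -/
theorem hom_Ga_DS_eq_one (S : Scheme.{u}) [IsReduced S] (M : Type) [AddCommGroup M]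
    (z : Red.Ga S ⟶ Red.DS S M) [IsMonHom z] : z = 1 := by
  apply chr_injective
  rw [chr_one]
  refine MonoidHom.ext fun m => ?_
  have h1 : z ≫ Red.DSmap S (zmultiplesHom M (Multiplicative.toAdd m)) = 1 :=
    Groth.Agent.H9.GAM.S13371_main S _
  have h2 := chr_comp_DSmap z (zmultiplesHom M (Multiplicative.toAdd m))
    (Multiplicative.ofAdd (1 : ℤ))
  have h3 : AddMonoidHom.toMultiplicative (zmultiplesHom M (Multiplicative.toAdd m))
      (Multiplicative.ofAdd (1 : ℤ)) = m := by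
    show Multiplicative.ofAdd ((zmultiplesHom M (Multiplicative.toAdd m)) (1 : ℤ)) = m
    rw [zmultiplesHom_apply, one_smul]
    rfl
  rw [h3] at h2
  rw [← h2, h1, chr_one]
  rfl

/-- `𝔾_a` commutes with base change, as groups. -/
noncomputable def gaBC {T T' : Scheme.{u}} (t' : T' ⟶ T) :
    Grp.mk (Red.bc t' (Red.Ga T)) ≅ Grp.mk (Red.Ga T') :=
  (bcComp t' (fZ T) Red.GaZ).symm ≪≫
    bcEq (specULiftZIsTerminal.hom_ext (t' ≫ fZ T) (fZ T')) Red.GaZ

/-- every homomorphism from `𝔾_a` to a torus over a field is trivial -/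
theorem hom_Ga_torus_eq_one (k : Type u) [Field k] (T : Over (Spec (CommRingCat.of k)))
    [GrpObj T] (hT : Red.IsTorus T) (β : Red.Ga (Spec (CommRingCat.of k)) ⟶ T) [IsMonHom β] :
    β = 1 := by
  obtain ⟨S', f, hflat, hsurj, hqc, hloc⟩ := hT
  obtain ⟨s0⟩ : Nonempty (Spec (CommRingCat.of k)) := inferInstance
  obtain ⟨s', -⟩ := f.surjective s0
  obtain ⟨U, hU, r, ⟨e⟩⟩ := hloc s'
  obtain ⟨x, hx⟩ : ∃ x : U.toScheme, x = ⟨s', hU⟩ := ⟨_, rfl⟩
  obtain ⟨q, hq⟩ : ∃ q : Spec (U.toScheme.residueField x) ⟶ Spec (CommRingCat.of k),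
      q = U.toScheme.fromSpecResidueField x ≫ (U.ι ≫ f) := ⟨_, rfl⟩
  haveI : Flat q := flat_of_field_base k _ q
  haveI : Surjective q := surjective_of_field_base k _ q
  haveI : QuasiCompact q := inferInstance
  apply eq_of_bc_fpqc q
  rw [bc_one]
  subst hq
  obtain ⟨a, ha⟩ : ∃ a : Grp.mk (Red.bc (U.toScheme.fromSpecResidueField x ≫ (U.ι ≫ f))
      (Red.Ga (Spec (CommRingCat.of k)))) ≅ Grp.mk (Red.Ga (Spec (U.toScheme.residueField x))),
      a = gaBC _ := ⟨_, rfl⟩
  obtain ⟨b, hb⟩ : ∃ b : Grp.mk (Red.bc (U.toScheme.fromSpecResidueField x ≫ (U.ι ≫ f)) T) ≅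
      Grp.mk (Red.DS (Spec (U.toScheme.residueField x)) (Fin r → ℤ)),
      b = trivBC (U.toScheme.fromSpecResidueField x) (U.ι ≫ f) e := ⟨_, rfl⟩
  haveI h1 : IsMonHom a.inv.hom.hom := inferInstanceAs (IsMonHom a.inv.hom.hom)
  haveI h2 : IsMonHom b.hom.hom.hom := inferInstanceAs (IsMonHom b.hom.hom.hom)
  have hz : a.inv.hom.hom ≫
      (Over.pullback (U.toScheme.fromSpecResidueField x ≫ (U.ι ≫ f))).map β ≫ b.hom.hom.hom = 1 :=
    hom_Ga_DS_eq_one _ _ _
  have h3 : (Over.pullback (U.toScheme.fromSpecResidueField x ≫ (U.ι ≫ f))).map β ≫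
      b.hom.hom.hom = 1 := by
    have h4 := congrArg (fun w => a.hom.hom.hom ≫ w) hz
    simp only at h4
    rw [← Category.assoc a.hom.hom.hom, grp_hom_inv, Category.id_comp, MonObj.comp_one] at h4
    exact h4
  exact eq_one_of_comp_iso _ b h3

end GaTorus

section Main

theorem main (k : Type u) [Field k]
    (T U : Over (Spec (CommRingCat.of k))) [GrpObj T] [GrpObj U] (hT : Red.IsTorus T)
    [QuasiCompact U.hom]
    (n : ℕ) (Us : Fin (n + 1) → Over (Spec (CommRingCat.of k))) [∀ i, GrpObj (Us i)]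
    (h0 : Red.IsTrivialGrp (Us 0))
    (e : Us (Fin.last n) ≅ U) [IsMonHom e.hom]
    (incl : ∀ i : Fin n, Us i.castSucc ⟶ Us i.succ) [∀ i, IsMonHom (incl i)]
    [∀ i, IsClosedImmersion (incl i).left]
    (quot : ∀ i : Fin n, Us i.succ ⟶ Red.Ga (Spec (CommRingCat.of k))) [∀ i, IsMonHom (quot i)]
    [∀ i, Surjective (quot i).left] [∀ i, Flat (quot i).left]
    (hker : ∀ i : Fin n, AlgGrp.IsKernel (incl i) (quot i))
    (f : U ⟶ T) [IsMonHom f] :
    f = 1 := by
  have hqc : ∀ j : Fin (n + 1), QuasiCompact (Us j).hom := by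
    intro j
    induction j using Fin.reverseInduction with
    | last =>
      haveI : IsIso e.hom.left := (Over.forget _).map_isIso e.hom
      rw [← Over.w e.hom]
      infer_instance
    | cast i ih =>
      haveI := ih
      rw [← Over.w (incl i)]
      infer_instance
  haveI : IsAffine (Red.GaZ.{u}).left := inferInstanceAs (IsAffine (Spec _))
  haveI : IsAffineHom (Red.GaZ.{u}).hom := inferInstance
  haveI : IsAffineHom (Red.Ga (Spec (CommRingCat.of k))).hom :=
    MorphismProperty.pullback_snd (P := @IsAffineHom) Red.GaZ.hom _ inferInstance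
  have hqcq : ∀ i : Fin n, QuasiCompact (quot i).left := by
    intro i
    haveI := hqc i.succ
    haveI : QuasiCompact ((quot i).left ≫ (Red.Ga (Spec (CommRingCat.of k))).hom) := by
      rw [Over.w (quot i)]; infer_instance
    exact QuasiCompact.of_comp (quot i).left (Red.Ga (Spec (CommRingCat.of k))).hom
  have key : ∀ j : Fin (n + 1), ∀ (g : Us j ⟶ T) [IsMonHom g], g = 1 := by
    intro j
    induction j using Fin.induction with
    | zero =>
      intro g _
      haveI : IsIso (Us 0).hom := h0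
      have hsub : ∀ (a b : Us 0 ⟶ Us 0), a = b := by
        intro a b
        apply Over.OverMorphism.ext
        rw [← cancel_mono (Us 0).hom, Over.w a, Over.w b]
      have h1 : toUnit (Us 0) ≫ η[Us 0] = 𝟙 (Us 0) := hsub _ _
      calc g = (toUnit (Us 0) ≫ η[Us 0]) ≫ g := by rw [h1, Category.id_comp]
        _ = toUnit (Us 0) ≫ η[T] := by rw [Category.assoc, IsMonHom.one_hom]
        _ = 1 := (Hom.one_def).symm
    | succ i ih =>
      intro g _
      haveI := hqcq i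
      have h1 : incl i ≫ g = 1 := ih (incl i ≫ g)
      obtain ⟨β, hβm, hβ⟩ := exists_desc_hom (quot i) (incl i) (hker i) g h1
      haveI := hβm
      have h2 : β = 1 := hom_Ga_torus_eq_one k T hT β
      rw [← hβ, h2, MonObj.comp_one]
  have h := key (Fin.last n) (e.hom ≫ f)
  have h' : f = e.inv ≫ (e.hom ≫ f) := by rw [Iso.inv_hom_id_assoc]
  rw [h', h, MonObj.comp_one]

end Main

end Groth.Agent.H1.UniTor
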