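import Mathlib
import Groth.Prelude.Def_Red2
import Groth.Prelude.Def_AlgGrp
import Groth.Prelude.Def_NonAbH2
import Groth.Agent.Lib.Helper1.UniTor
import Groth.Agent.Lib.Helper1.FixDegB

/-!
# Homomorphisms from a torus to a proper group scheme over a field are trivial (helper1)

A homomorphism `𝔾_m → A` into a proper `k`-group gives a translation action of `𝔾_m` on `A`, which
has a fixed point (`FixDeg.main`), so the homomorphism is trivial.  A split torus `D(ℤ^r)` is
generated by its coordinate copies of `𝔾_m`, and a torus is split fpqc-locally.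
-/

set_option autoImplicit false

universe u

open CategoryTheory Limits MonoidalCategory CartesianMonoidalCategory MonObj GrpObj
  AlgebraicGeometry

namespace Groth.Agent.H1.TorAb

open Groth.Agent.H1.ActQuot Groth.Agent.H3.HomDiag Groth.Agent.H3.DSKit Groth.Agent.H4.GaGm
  Groth.Agent.H1.UniTor

section Gm

theorem hom_Gm_proper_eq_one (k : Type u) [Field k] (A : Over (Spec (CommRingCat.of k)))
    [GrpObj A] [IsProper A.hom] (φ : Red.Gm (Spec (CommRingCat.of k)) ⟶ A) [IsMonHom φ] :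
    φ = 1 := by
  obtain ⟨x, hx⟩ := Groth.Agent.H1.FixDeg.main k (Red.Gm (Spec (CommRingCat.of k))) A
    (Or.inr ⟨Iso.refl _⟩) η[A] ((NonAbH1.trivialAction A).restrict φ)
  have h := hx (Red.Gm (Spec (CommRingCat.of k))) (𝟙 _)
  rw [AlgGrp.Action.restrict_act] at h
  have h' : lift (𝟙 _ ≫ φ) (toUnit _ ≫ x) ≫ μ[A] = toUnit _ ≫ x := by
    rw [← lift_whiskerRight_assoc]
    exact h
  rw [Category.id_comp, ← Hom.mul_def] at h'
  exact mul_right_cancel (h'.trans (_root_.one_mul _).symm)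

end Gm

section Lists

theorem chr_list_prod {S : Scheme.{u}} {X : Over S} {M : Type} [AddCommGroup M]
    (l : List (X ⟶ Red.DS S M)) (m : Multiplicative M) :
    chr l.prod m = (l.map (fun z => chr z m)).prod := by
  induction l with
  | nil =>
    rw [List.prod_nil, chr_one]
    rfl
  | cons a l ih =>
    rw [List.prod_cons, chr_mul, ih, List.map_cons, List.prod_cons]

theorem list_prod_comp {S : Scheme.{u}} {X G H : Over S} [GrpObj G] [GrpObj H]
    (l : List (X ⟶ G)) (g : G ⟶ H) [IsMonHom g] :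
    l.prod ≫ g = (l.map (fun z => z ≫ g)).prod := by
  induction l with
  | nil =>
    rw [List.prod_nil, MonObj.one_comp]
    rfl
  | cons a l ih =>
    rw [List.prod_cons, MonObj.mul_comp, ih, List.map_cons, List.prod_cons]

theorem prod_toMult {M : Type} [AddCommGroup M] {J : Type} (l : List J) (f : J → M) :
    (l.map (fun i => Multiplicative.ofAdd (f i))).prod = Multiplicative.ofAdd ((l.map f).sum) := by
  induction l with
  | nil => rfl
  | cons a l ih =>
    simp only [List.map_cons, List.prod_cons, List.sum_cons, ih]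
    rfl

/-- the `i`-th coordinate idempotent of `ℤ^r`. -/
def coordEnd (r : ℕ) (i : Fin r) : (Fin r → ℤ) →+ (Fin r → ℤ) :=
  (AddMonoidHom.single (fun _ : Fin r => ℤ) i).comp (Pi.evalAddMonoidHom (fun _ : Fin r => ℤ) i)

theorem sum_coordEnd (r : ℕ) (x : Fin r → ℤ) :
    ((List.finRange r).map (fun i => coordEnd r i x)).sum = x := by
  rw [← Fin.sum_univ_def]
  exact Finset.univ_sum_single x

theorem id_eq_prod (S : Scheme.{u}) (r : ℕ) :
    𝟙 (Red.DS S (Fin r → ℤ)) =
      ((List.finRange r).map (fun i => Red.DSmap S (coordEnd r i))).prod := by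
  apply chr_injective
  refine MonoidHom.ext fun m => ?_
  rw [chr_list_prod, List.map_map]
  have hf : ((fun z => chr z m) ∘ fun i => Red.DSmap S (coordEnd r i)) =
      fun i => chr (𝟙 (Red.DS S (Fin r → ℤ)))
        (Multiplicative.ofAdd (coordEnd r i (Multiplicative.toAdd m))) := by
    funext i
    show chr (Red.DSmap S (coordEnd r i)) m = _
    rw [← Category.id_comp (Red.DSmap S (coordEnd r i)), chr_comp_DSmap]
    rfl
  rw [hf]
  have h2 : (List.map (fun i => chr (𝟙 (Red.DS S (Fin r → ℤ)))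
        (Multiplicative.ofAdd (coordEnd r i (Multiplicative.toAdd m)))) (List.finRange r)).prod =
      chr (𝟙 (Red.DS S (Fin r → ℤ)))
        ((List.map (fun i => Multiplicative.ofAdd (coordEnd r i (Multiplicative.toAdd m)))
          (List.finRange r)).prod) := by
    rw [map_list_prod, List.map_map]
    rfl
  rw [h2, prod_toMult, sum_coordEnd]
  rfl

end Lists

section Split

theorem hom_DS_proper_eq_one (k : Type u) [Field k] (r : ℕ)
    (A : Over (Spec (CommRingCat.of k))) [GrpObj A] [IsProper A.hom]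
    (ψ : Red.DS (Spec (CommRingCat.of k)) (Fin r → ℤ) ⟶ A) [IsMonHom ψ] : ψ = 1 := by
  have hp : ∀ i : Fin r, Red.DSmap (Spec (CommRingCat.of k)) (coordEnd r i) ≫ ψ = 1 := by
    intro i
    have h1 : Red.DSmap (Spec (CommRingCat.of k))
        (Pi.evalAddMonoidHom (fun _ : Fin r => ℤ) i) ≫ ψ = 1 :=
      hom_Gm_proper_eq_one k A _
    show Red.DSmap (Spec (CommRingCat.of k))
      ((AddMonoidHom.single (fun _ : Fin r => ℤ) i).comp
        (Pi.evalAddMonoidHom (fun _ : Fin r => ℤ) i)) ≫ ψ = 1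
    rw [DSmap_comp, Category.assoc, h1, MonObj.comp_one]
  calc ψ = 𝟙 _ ≫ ψ := (Category.id_comp ψ).symm
    _ = ((List.finRange r).map
          (fun i => Red.DSmap (Spec (CommRingCat.of k)) (coordEnd r i))).prod ≫ ψ := by
        rw [← id_eq_prod]
    _ = 1 := by
        rw [list_prod_comp, List.map_map]
        apply List.prod_eq_one
        intro x hx
        rw [List.mem_map] at hx
        obtain ⟨i, -, rfl⟩ := hx
        exact hp i

end Split

section Torus

/-- every homomorphism from a torus to a proper group scheme over a field is trivial -/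
theorem hom_torus_proper_eq_one (k : Type u) [Field k] (T A : Over (Spec (CommRingCat.of k)))
    [GrpObj T] [GrpObj A] (hT : Red.IsTorus T) [IsProper A.hom] (β : T ⟶ A) [IsMonHom β] :
    β = 1 := by
  obtain ⟨S', f, hflat, hsurj, hqc, hloc⟩ := hT
  obtain ⟨s0⟩ : Nonempty (Spec (CommRingCat.of k)) := inferInstance
  obtain ⟨s', -⟩ := f.surjective s0
  obtain ⟨U, hU, r, ⟨e⟩⟩ := hloc s'
  obtain ⟨x, hx⟩ : ∃ x : U.toScheme, x = ⟨s', hU⟩ := ⟨_, rfl⟩
  obtain ⟨q, hq⟩ : ∃ q : Spec (U.toScheme.residueField x) ⟶ Spec (CommRingCat.of k),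
      q = U.toScheme.fromSpecResidueField x ≫ (U.ι ≫ f) := ⟨_, rfl⟩
  haveI : Flat q := flat_of_field_base k _ q
  haveI : Surjective q := surjective_of_field_base k _ q
  haveI : QuasiCompact q := inferInstance
  apply eq_of_bc_fpqc q
  rw [bc_one]
  subst hq
  obtain ⟨b, hb⟩ : ∃ b : Grp.mk (Red.bc (U.toScheme.fromSpecResidueField x ≫ (U.ι ≫ f)) T) ≅
      Grp.mk (Red.DS (Spec (U.toScheme.residueField x)) (Fin r → ℤ)),
      b = trivBC (U.toScheme.fromSpecResidueField x) (U.ι ≫ f) e := ⟨_, rfl⟩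
  haveI h2 : IsMonHom b.inv.hom.hom := inferInstanceAs (IsMonHom b.inv.hom.hom)
  haveI hprop : IsProper (Red.bc (U.toScheme.fromSpecResidueField x ≫ (U.ι ≫ f)) A).hom := by
    change IsProper (pullback.snd A.hom (U.toScheme.fromSpecResidueField x ≫ (U.ι ≫ f)))
    infer_instance
  have hz : b.inv.hom.hom ≫
      (Over.pullback (U.toScheme.fromSpecResidueField x ≫ (U.ι ≫ f))).map β = 1 :=
    hom_DS_proper_eq_one (U.toScheme.residueField x) r
      (Red.bc (U.toScheme.fromSpecResidueField x ≫ (U.ι ≫ f)) A) _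
  have h3 := congrArg (fun w => b.hom.hom.hom ≫ w) hz
  simp only at h3
  rw [← Category.assoc b.hom.hom.hom, grp_hom_inv, Category.id_comp, MonObj.comp_one] at h3
  exact h3

end Torus

section Main

theorem mono_of_isKernel {S : Scheme.{u}} {N G Q : Over S} [GrpObj Q] {i : N ⟶ G} {q : G ⟶ Q}
    (hk : AlgGrp.IsKernel i q) : Mono i :=
  ⟨fun _ _ h => hk.hom_ext h (toUnit_unique _ _)⟩

theorem main (k : Type u) [Field k]
    (G : Over (Spec (CommRingCat.of k))) [GrpObj G]
    (T₁ T₂ A₁ A₂ : Over (Spec (CommRingCat.of k))) [GrpObj T₁] [GrpObj T₂] [GrpObj A₁] [GrpObj A₂]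
    (i₁ : T₁ ⟶ G) [IsMonHom i₁] (h₁ : Red.IsTorus T₁)
    (i₂ : T₂ ⟶ G) [IsMonHom i₂] (h₂ : Red.IsTorus T₂)
    (q₁ : G ⟶ A₁) [IsMonHom q₁] (hk₁ : AlgGrp.IsKernel i₁ q₁) [IsProper A₁.hom]
    (q₂ : G ⟶ A₂) [IsMonHom q₂] (hk₂ : AlgGrp.IsKernel i₂ q₂) [IsProper A₂.hom] :
    ∃ e : T₁ ≅ T₂, e.hom ≫ i₂ = i₁ := by
  have t1 : i₁ ≫ q₂ = 1 := hom_torus_proper_eq_one k T₁ A₂ h₁ (i₁ ≫ q₂)
  have t2 : i₂ ≫ q₁ = 1 := hom_torus_proper_eq_one k T₂ A₁ h₂ (i₂ ≫ q₁)
  obtain ⟨e₁, he₁⟩ := ker_exists_lift hk₂ i₁ t1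
  obtain ⟨e₂, he₂⟩ := ker_exists_lift hk₁ i₂ t2
  haveI m1 : Mono i₁ := mono_of_isKernel hk₁
  haveI m2 : Mono i₂ := mono_of_isKernel hk₂
  refine ⟨⟨e₁, e₂, ?_, ?_⟩, he₁⟩
  · rw [← cancel_mono i₁, Category.assoc, he₂, he₁, Category.id_comp]
  · rw [← cancel_mono i₂, Category.assoc, he₁, he₂, Category.id_comp]

end Main

end Groth.Agent.H1.TorAb
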