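import Mathlib
import Groth.Agent.Lib.Helper1.PdFibre
import Groth.Agent.Lib.Helper2.MatRes
import Groth.Agent.Lib.Helper2.TorBalMod

/-!
# Projective dimension equals Tor-dimension for flat finitely presented modules
-/

set_option autoImplicit false

universe u

open TensorProduct Function CategoryTheory

namespace Groth.Agent.H1.PdFibre

section splice

variable {R : Type u} [CommRing R] {P₁ P₂ P₃ Z₁ : Type u} [AddCommGroup P₁] [Module R P₁]
  [AddCommGroup P₂] [Module R P₂] [AddCommGroup P₃] [Module R P₃] [AddCommGroup Z₁] [Module R Z₁]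
  (π₁ : P₁ →ₗ[R] Z₁) (hπ₁ : Surjective π₁) (π₂ : P₂ →ₗ[R] LinearMap.ker π₁) (hπ₂ : Surjective π₂)
  (π₃ : P₃ →ₗ[R] LinearMap.ker π₂) (hπ₃ : Surjective π₃)

include hπ₁ hπ₂ hπ₃ in
/-- exactness of the spliced complex after tensoring, when the cokernel is flat -/
theorem exact_rTensor_of_flat [Module.Flat R Z₁] (N : Type u) [AddCommGroup N] [Module R N] :
    Exact (((LinearMap.ker π₂).subtype ∘ₗ π₃).rTensor N)
      (((LinearMap.ker π₁).subtype ∘ₗ π₂).rTensor N) := by
  have hinj : Injective ((LinearMap.ker π₁).subtype.rTensor N) := by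
    rw [← LinearMap.lTensor_inj_iff_rTensor_inj]
    exact Groth.Agent.H1.lTensor_injective_of_exact_of_flat (LinearMap.ker π₁).subtype π₁
      Subtype.val_injective (LinearMap.exact_subtype_ker_map π₁) hπ₁ N
  have hex := rTensor_exact N (LinearMap.exact_subtype_ker_map π₂) hπ₂
  intro a
  constructor
  · intro ha
    rw [LinearMap.rTensor_comp, LinearMap.comp_apply] at ha
    have h1 : π₂.rTensor N a = 0 := hinj (by rw [ha, map_zero])
    obtain ⟨z, rfl⟩ := (hex a).mp h1
    obtain ⟨w, rfl⟩ := LinearMap.rTensor_surjective N hπ₃ z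
    exact ⟨w, by rw [LinearMap.rTensor_comp, LinearMap.comp_apply]⟩
  · rintro ⟨w, rfl⟩
    rw [← LinearMap.comp_apply, ← LinearMap.rTensor_comp]
    have : ((LinearMap.ker π₁).subtype ∘ₗ π₂) ∘ₗ ((LinearMap.ker π₂).subtype ∘ₗ π₃) = 0 := by
      ext x
      have : π₂ ((LinearMap.ker π₂).subtype (π₃ x)) = 0 := (π₃ x).2
      simp only [LinearMap.comp_apply, this, map_zero, LinearMap.zero_apply]
    rw [this, LinearMap.rTensor_zero, LinearMap.zero_apply]

include hπ₁ hπ₂ hπ₃ in
/-- conversely exactness of the spliced complex after tensoring gives flatness of the cokernel -/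
theorem flat_of_exact_rTensor [Module.Flat R P₁]
    (h : ∀ I : Ideal R, Exact (((LinearMap.ker π₂).subtype ∘ₗ π₃).rTensor (R ⧸ I))
      (((LinearMap.ker π₁).subtype ∘ₗ π₂).rTensor (R ⧸ I))) : Module.Flat R Z₁ := by
  rw [Module.Flat.iff_lTensor_injective']
  intro I
  refine lTensor_injective_of_exact_of_exact_of_rTensor_injective
    (LinearMap.exact_subtype_ker_map π₁) hπ₁ (LinearMap.exact_subtype_mkQ I)
    (Submodule.mkQ_surjective I) ?_
    (Module.Flat.lTensor_preserves_injective_linearMap _ Subtype.val_injective)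
  rw [injective_iff_map_eq_zero]
  intro z hz
  obtain ⟨y, rfl⟩ := LinearMap.rTensor_surjective (R ⧸ I) hπ₂ z
  have h1 : ((LinearMap.ker π₁).subtype ∘ₗ π₂).rTensor (R ⧸ I) y = 0 := by
    rw [LinearMap.rTensor_comp, LinearMap.comp_apply]
    exact hz
  obtain ⟨w, rfl⟩ := (h I y).mp h1
  rw [← LinearMap.comp_apply, ← LinearMap.rTensor_comp]
  have : π₂ ∘ₗ ((LinearMap.ker π₂).subtype ∘ₗ π₃) = 0 := by
    ext x
    have : π₂ ((LinearMap.ker π₂).subtype (π₃ x)) = 0 := (π₃ x).2
    simp only [LinearMap.comp_apply, this, LinearMap.zero_apply]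
  rw [this, LinearMap.rTensor_zero, LinearMap.zero_apply]

end splice

namespace GMod

variable {A B : Type u} [CommRing A] [CommRing B] [Algebra A B]
  [Algebra.FinitePresentation A B] [Module.Flat A B] (X : GMod A B)

/-- ranks -/
noncomputable abbrev rks (i : ℕ) : ℕ := (X.seq i).rk

/-- the differential `P_{i+1} → P_i` -/
noncomputable def del (i : ℕ) : (Fin (X.rks (i + 1)) → B) →ₗ[B] (Fin (X.rks i) → B) :=
  (LinearMap.ker (X.seq i).pr).subtype ∘ₗ (X.seq i).next.pr

theorem del_apply (i : ℕ) (v : Fin (X.rks (i + 1)) → B) :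
    X.del i v = ((show ↥(LinearMap.ker (X.seq i).pr) from (X.seq i).next.pr v) :
      Fin (X.rks i) → B) := rfl

theorem ker_del (i : ℕ) : LinearMap.ker (X.del i) = LinearMap.ker (X.seq (i + 1)).pr := by
  ext v
  constructor
  · intro hv
    have h1 : X.del i v = 0 := hv
    rw [del_apply] at h1
    show (X.seq i).next.pr v = 0
    exact Subtype.ext h1
  · intro hv
    have h1 : (X.seq i).next.pr v = 0 := hv
    show X.del i v = 0
    rw [del_apply]
    exact congrArg Subtype.val h1

theorem range_del (i : ℕ) : LinearMap.range (X.del i) = LinearMap.ker (X.seq i).pr := by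
  ext v
  constructor
  · rintro ⟨w, rfl⟩
    rw [del_apply]
    exact (show ↥(LinearMap.ker (X.seq i).pr) from (X.seq i).next.pr w).2
  · intro hv
    obtain ⟨w, hw⟩ := (X.seq i).next.pr_surjective
      (show (X.seq i).next.Z from (⟨v, hv⟩ : ↥(LinearMap.ker (X.seq i).pr)))
    exact ⟨w, congrArg Subtype.val hw⟩

theorem linearCombination_pr (Y : GMod A B) :
    Fintype.linearCombination B (fun j : Fin Y.rk => Y.pr (Pi.single j 1)) = Y.pr := by
  refine LinearMap.pi_ext' fun j => LinearMap.ext_ring ?_
  simp [Fintype.linearCombination_apply_single]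

/-- the matrix resolution attached to the sequence of syzygies -/
noncomputable def matRes : Groth.Agent.H2.MatRes B (X.seq 0).Z where
  rk := fun i => (X.seq i).rk
  d i := LinearMap.toMatrix' (X.del i)
  aug := fun j : Fin (X.seq 0).rk => (X.seq 0).pr (Pi.single j 1)
  aug_surjective := by
    rw [linearCombination_pr (X.seq 0)]
    exact (X.seq 0).pr_surjective
  exact_zero := by
    rw [linearCombination_pr (X.seq 0), ← Matrix.toLin'_apply', Matrix.toLin'_toMatrix']
    exact (X.range_del 0).symm
  exact_succ i := by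
    rw [← Matrix.toLin'_apply', Matrix.toLin'_toMatrix', ← Matrix.toLin'_apply',
      Matrix.toLin'_toMatrix', X.ker_del i]
    exact (X.range_del (i + 1)).symm

theorem mulVecLin_matRes_d (a : ℕ) : Matrix.mulVecLin (X.matRes.d a) = X.del a := by
  change Matrix.mulVecLin (LinearMap.toMatrix' (X.del a)) = X.del a
  rw [← Matrix.toLin'_apply', Matrix.toLin'_toMatrix']

open MonoidalCategory in
theorem tensorRight_map_d (N : ModuleCat.{u} B) (a : ℕ) :
    ((tensorRight N).map (X.matRes.projRes.complex.d (a + 1) a)).hom = (X.del a).rTensor N := by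
  have h1 : X.matRes.projRes.complex.d (a + 1) a = X.matRes.dHom a := X.matRes.complex_d a
  rw [h1]
  change ((X.matRes.dHom a) ▷ N).hom = _
  rw [ModuleCat.hom_whiskerRight]
  change (Matrix.mulVecLin (X.matRes.d a)).rTensor N = _
  rw [mulVecLin_matRes_d]
  rfl

open MonoidalCategory in
theorem isZero_tor_succ_iff (N : ModuleCat.{u} B) (j : ℕ) :
    Limits.IsZero (((Tor (ModuleCat.{u} B) (j + 1)).obj (ModuleCat.of B (X.seq 0).Z)).obj N) ↔
      Function.Exact ((X.del (j + 1)).rTensor N) ((X.del j).rTensor N) := by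
  obtain ⟨e⟩ := Groth.Agent.H2.TorBal.nonempty_tor_iso (ModuleCat.of B (X.seq 0).Z) N
    X.matRes.projRes (j + 1)
  rw [e.isZero_iff, ← HomologicalComplex.exactAt_iff_isZero_homology,
    HomologicalComplex.exactAt_iff' _ (j + 1 + 1) (j + 1) j (by simp) (by simp),
    ShortComplex.ShortExact.moduleCat_exact_iff_function_exact]
  have hf : ((((tensorRight N).mapHomologicalComplex (ComplexShape.down ℕ)).obj
      X.matRes.projRes.complex).sc' (j + 1 + 1) (j + 1) j).f.hom = (X.del (j + 1)).rTensor N :=
    X.tensorRight_map_d N (j + 1)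
  have hg : ((((tensorRight N).mapHomologicalComplex (ComplexShape.down ℕ)).obj
      X.matRes.projRes.complex).sc' (j + 1 + 1) (j + 1) j).g.hom = (X.del j).rTensor N :=
    X.tensorRight_map_d N j
  change Function.Exact ⇑((((tensorRight N).mapHomologicalComplex (ComplexShape.down ℕ)).obj
      X.matRes.projRes.complex).sc' (j + 1 + 1) (j + 1) j).f.hom
    ⇑((((tensorRight N).mapHomologicalComplex (ComplexShape.down ℕ)).obj
      X.matRes.projRes.complex).sc' (j + 1 + 1) (j + 1) j).g.hom ↔ _
  rw [hf, hg]
  exact Iff.rfl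

/-- flatness propagates to the higher syzygies -/
theorem flat_seq_of_flat (n : ℕ) (h : Module.Flat B (X.seq n).Z) :
    ∀ k, Module.Flat B (X.seq (n + k)).Z
  | 0 => h
  | k + 1 => by
    haveI := flat_seq_of_flat n h k
    exact Groth.Agent.H9.flat_ker_of_surjective (X.seq (n + k)).pr (X.seq (n + k)).pr_surjective

theorem flat_iff_tor (n : ℕ) : Module.Flat B (X.seq n).Z ↔
    ∀ i : ℕ, n < i → ∀ N : ModuleCat.{u} B,
      Limits.IsZero (((Tor (ModuleCat.{u} B) i).obj (ModuleCat.of B (X.seq 0).Z)).obj N) := by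
  constructor
  · intro h i hi N
    obtain ⟨j, rfl⟩ : ∃ j, i = j + 1 := ⟨i - 1, by omega⟩
    obtain ⟨k, rfl⟩ : ∃ k, j = n + k := ⟨j - n, by omega⟩
    rw [isZero_tor_succ_iff]
    haveI := X.flat_seq_of_flat n h k
    exact exact_rTensor_of_flat (X.seq (n + k)).pr (X.seq (n + k)).pr_surjective
      (X.seq (n + k)).next.pr (X.seq (n + k)).next.pr_surjective
      (X.seq (n + k + 1)).next.pr (X.seq (n + k + 1)).next.pr_surjective N
  · intro h
    refine flat_of_exact_rTensor (X.seq n).pr (X.seq n).pr_surjective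
      (X.seq n).next.pr (X.seq n).next.pr_surjective
      (X.seq (n + 1)).next.pr (X.seq (n + 1)).next.pr_surjective fun I => ?_
    have := (X.isZero_tor_succ_iff (ModuleCat.of B (B ⧸ I)) n).mp
      (h (n + 1) (Nat.lt_succ_self n) _)
    exact this

end GMod

section main

open MonoidalCategory in
/-- **Projective dimension equals Tor-dimension** for a finitely presented module, flat over `A`,
over a flat finitely presented `A`-algebra. -/
theorem projectiveDimension_eq_torDim (A B M : Type u) [CommRing A] [CommRing B] [Algebra A B]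
    [Algebra.FinitePresentation A B] [Module.Flat A B] [AddCommGroup M] [Module B M] [Module A M]
    [IsScalarTower A B M] [Module.FinitePresentation B M] [Module.Flat A M] :
    projectiveDimension (ModuleCat.of B M) =
    sInf {n : WithBot ℕ∞ | ∀ i : ℕ, n < i → ∀ N : ModuleCat.{u} B,
      Limits.IsZero (((Tor (ModuleCat.{u} B) i).obj (ModuleCat.of B M)).obj N)} := by
  let X : GMod A B := ⟨M⟩
  set T : Set (WithBot ℕ∞) := {n : WithBot ℕ∞ | ∀ i : ℕ, n < i → ∀ N : ModuleCat.{u} B,
      Limits.IsZero (((Tor (ModuleCat.{u} B) i).obj (ModuleCat.of B M)).obj N)} with hT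
  have hup : ∀ a b : WithBot ℕ∞, a ≤ b → a ∈ T → b ∈ T := fun a b hab ha i hi N =>
    ha i (lt_of_le_of_lt hab hi) N
  have hmem : sInf T ∈ T := csInf_mem ⟨⊤, fun i hi => absurd hi (by simp)⟩
  have hle : ∀ a : WithBot ℕ∞, sInf T ≤ a ↔ a ∈ T := fun a =>
    ⟨fun h => hup _ _ h hmem, fun h => csInf_le (OrderBot.bddBelow T) h⟩
  have hflat : ∀ n : ℕ, (n : WithBot ℕ∞) ∈ T ↔ Module.Flat B (X.seq n).Z := by
    intro n
    rw [X.flat_iff_tor n]
    constructor
    · intro h i hi N
      exact h i (by exact_mod_cast hi) N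
    · intro h i hi N
      exact h i (by exact_mod_cast hi) N
  refine withBot_enat_eq_of_forall ?_ fun n => ?_
  · rw [← le_bot_iff (a := sInf T), hle, projectiveDimension_eq_bot_iff,
      ModuleCat.isZero_iff_subsingleton]
    constructor
    · intro hM i _ N
      change Subsingleton M at hM
      by_cases hi : i = 0
      · subst hi
        refine Limits.IsZero.of_iso ?_
          ((Functor.leftDerivedZeroIsoSelf (tensorLeft (ModuleCat.of B M))).app N)
        rw [ModuleCat.isZero_iff_subsingleton]
        change Subsingleton (M ⊗[B] N)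
        refine ⟨fun a b => ?_⟩
        have h0 : ∀ c : M ⊗[B] N, c = 0 := by
          intro c
          induction c using TensorProduct.induction_on with
          | zero => rfl
          | add a b ha hb => rw [ha, hb, add_zero]
          | tmul x y => rw [Subsingleton.elim x 0, TensorProduct.zero_tmul]
        rw [h0 a, h0 b]
      · have hfl : Module.Flat B (X.seq 0).Z := by
          change Module.Flat B M
          infer_instance
        exact (X.flat_iff_tor 0).mp hfl i (Nat.pos_of_ne_zero hi) N
    · intro h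
      have h0 := h 0 (by simp) (𝟙_ (ModuleCat.{u} B))
      have h1 : Limits.IsZero (ModuleCat.of B M ⊗ 𝟙_ (ModuleCat.{u} B)) :=
        Limits.IsZero.of_iso h0
          ((Functor.leftDerivedZeroIsoSelf (tensorLeft (ModuleCat.of B M))).app _).symm
      have h2 : Limits.IsZero (ModuleCat.of B M) := Limits.IsZero.of_iso h1 (ρ_ _).symm
      exact (ModuleCat.isZero_iff_subsingleton).mp h2
  · rw [hle, hflat, projectiveDimension_le_iff]
    change HasProjectiveDimensionLT (ModuleCat.of B X.Z) (n + 1) ↔ _
    rw [X.hasPDLT_iff n]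
    constructor
    · intro h
      infer_instance
    · intro h
      exact Module.Flat.projective_of_finitePresentation

end main

end Groth.Agent.H1.PdFibre
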