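import Mathlib
import Groth.Agent.Lib.Helper1.TorKos2
import Groth.Agent.Lib.Helper2.TorBalOne

set_option autoImplicit false
universe u
open CategoryTheory CategoryTheory.Limits CochainComplex MonoidalCategory

namespace Groth.Agent.Lib.Helper1.TorKos

open CohIII Groth.Agent.H2.Kos Groth.Agent.H2.TorBal

variable {A : Type u} [CommRing A]

theorem length_tor_succ (l : List A) (hreg : RingTheory.Sequence.IsWeaklyRegular A l)
    (I : Ideal A) (hI : I = Ideal.ofList l)
    (M : Type u) [AddCommGroup M] [Module A M] (m : ℕ) :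
    Module.length A (DRing.Tor A (m + 1) (A ⧸ I) M) =
      Module.length A ((DRing.tensorCx (Koszul.koszul A l) (ModuleCat.of A M)).homology
        (-((m + 1 : ℕ) : ℤ))) := by
  subst hI
  obtain ⟨P, hP⟩ := exists_projRes l hreg
  have hI2 : (Ideal.ofList l • (⊤ : Submodule A A)) = Ideal.ofList l := by
    rw [smul_eq_mul, Ideal.mul_top]
  let e0 : ModuleCat.of A (A ⧸ Ideal.ofList l) ≅
      ModuleCat.of A (A ⧸ (Ideal.ofList l • (⊤ : Submodule A A))) :=
    (Submodule.quotEquivOfEq _ _ hI2.symm).toModuleIso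
  let e1 :=
    ((Tor (ModuleCat.{u} A) (m + 1)).mapIso e0).app (ModuleCat.of A M)
  obtain ⟨e2⟩ := nonempty_tor_iso _ (ModuleCat.of A M) P (m + 1)
  rw [hP] at e2
  let e3 := (HomologicalComplex.homologyFunctor _ _ (m + 1)).mapIso
    (toChainMapIso (tensorRight (ModuleCat.of A M)) (koszulCx (ModuleCat.of A A) l))
  let e4 := toChainHomologyIso (((tensorRight (ModuleCat.of A M)).mapHomologicalComplex
    (ComplexShape.up ℤ)).obj (koszulCx (ModuleCat.of A A) l)) m
  have key := (e1 ≪≫ e2 ≪≫ e3 ≪≫ e4).toLinearEquiv.length_eq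
  rw [koszul_eq]
  exact key


theorem length_tor_zero (l : List A)
    (I : Ideal A) (hI : I = Ideal.ofList l)
    (M : Type u) [AddCommGroup M] [Module A M] :
    Module.length A (DRing.Tor A 0 (A ⧸ I) M) =
      Module.length A ((DRing.tensorCx (Koszul.koszul A l) (ModuleCat.of A M)).homology 0) := by
  subst hI
  obtain ⟨e1⟩ := nonempty_homology0_equiv_quot M l
  have e2 : (DRing.tensorCx (Koszul.koszul A l) (ModuleCat.of A M)).homology 0 ≅
      (koszulCx (ModuleCat.of A M) l).homology 0 :=
    (HomologicalComplex.homologyFunctor _ _ 0).mapIso (Groth.Agent.H4.KE3.bridge (ModuleCat.of A M) l)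
  rw [e2.toLinearEquiv.length_eq, e1.length_eq]
  exact ((torZeroLinearEquiv (R := A) (A ⧸ Ideal.ofList l) M).trans
    (TensorProduct.quotTensorEquivQuotSMul M (Ideal.ofList l))).length_eq

theorem length_tor (l : List A) (hreg : RingTheory.Sequence.IsWeaklyRegular A l)
    (I : Ideal A) (hI : I = Ideal.ofList l)
    (M : Type u) [AddCommGroup M] [Module A M] (n : ℕ) :
    Module.length A (DRing.Tor A n (A ⧸ I) M) =
      Module.length A ((DRing.tensorCx (Koszul.koszul A l) (ModuleCat.of A M)).homology
        (-(n : ℤ))) := by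
  cases n with
  | zero =>
    rw [length_tor_zero l I hI M]
    simp
  | succ m => exact length_tor_succ l hreg I hI M m

end Groth.Agent.Lib.Helper1.TorKos
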