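import Mathlib
import Groth.Agent.Lib.Helper1.TorKos3
import Groth.Agent.Lib.Helper1.Serre8
import Groth.Prelude.Def_IntMult

set_option autoImplicit false
universe u
open CategoryTheory CategoryTheory.Limits CochainComplex MonoidalCategory

namespace Groth.Agent.Lib.Helper1.TorKos

open CohIII Groth.Agent.H2.Kos Groth.Agent.H2.TorBal Groth.Agent.Lib.Helper1.Serre

variable {A : Type u} [CommRing A]

theorem chi_eq_kchi (l : List A) (hreg : RingTheory.Sequence.IsWeaklyRegular A l)
    (I : Ideal A) (hI : I = Ideal.ofList l)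
    (M : Type u) [AddCommGroup M] [Module A M] :
    IntMult.chi A (A ⧸ I) M = kchi A l M := by
  unfold IntMult.chi kchi
  set f : ℤ → ℤ := fun i => ((i.negOnePow : ℤˣ) : ℤ) *
    ((Module.length A ((DRing.tensorCx (Koszul.koszul A l) (ModuleCat.of A M)).homology i)).toNat : ℤ)
    with hf
  have hsupp : ∀ x ∈ Function.support f, x ∈ (Set.univ : Set ℤ) ↔ x ∈ Set.range (fun n : ℕ => -(n : ℤ)) := by
    intro x hx
    refine ⟨fun _ => ?_, fun _ => Set.mem_univ _⟩
    by_contra hnot
    apply hx
    have hpos : 0 < x := by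
      by_contra h0
      apply hnot
      refine ⟨(-x).toNat, ?_⟩
      show -((-x).toNat : ℤ) = x
      rw [Int.toNat_of_nonneg (by omega)]
      omega
    have e2 : (DRing.tensorCx (Koszul.koszul A l) (ModuleCat.of A M)).homology x ≅
        (koszulCx (ModuleCat.of A M) l).homology x :=
      (HomologicalComplex.homologyFunctor _ _ x).mapIso (Groth.Agent.H4.KE3.bridge (ModuleCat.of A M) l)
    have hs := Groth.Agent.H4.KE6.subsingleton_homology_koszulCx (ModuleCat.of A M) l x (Or.inr hpos)
    show ((x.negOnePow : ℤˣ) : ℤ) * _ = 0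
    rw [e2.toLinearEquiv.length_eq, Module.length_eq_zero_iff.2 hs]
    simp
  have hinj : Function.Injective (fun n : ℕ => -(n : ℤ)) := by
    intro a b hab
    simp only [neg_inj, Nat.cast_inj] at hab
    exact hab
  rw [← finsum_mem_univ f, finsum_mem_inter_support_eq' f _ _ hsupp, finsum_mem_range hinj]
  refine finsum_congr (fun n => ?_)
  rw [hf]
  show _ = (((-(n : ℤ)).negOnePow : ℤˣ) : ℤ) * _
  rw [Int.negOnePow_neg, Int.coe_negOnePow_natCast, length_tor l hreg I hI M n]

end Groth.Agent.Lib.Helper1.TorKos
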