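import Mathlib

namespace Groth.Agent.H1.TraceIntegral

open TensorProduct

variable {K : Type*} {A : Type*} [Field K] [CommRing A] [HopfAlgebra K A]

local notation "Δ" => (CoalgebraStruct.comul (R := K) (A := A))
local notation "ε" => (CoalgebraStruct.counit (R := K) (A := A))
local notation "S" => (HopfAlgebraStruct.antipode K (A := A))

variable (K A) in
/-- the twisted comultiplication `b ↦ Σ b₂ ⊗ b₁` as an algebra hom -/
noncomputable def comulOp : A →ₐ[K] A ⊗[K] A :=
  (Algebra.TensorProduct.comm K A A).toAlgHom.comp (Bialgebra.comulAlgHom K A)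

lemma comulOp_apply (b : A) : comulOp K A b = TensorProduct.comm K A A (Δ b) := rfl

variable (K A) in
/-- the shear map `a ⊗ b ↦ (a ⊗ 1) * Σ b₂ ⊗ b₁`, an `A`-algebra endomorphism of `A ⊗ A` -/
noncomputable def shear : A ⊗[K] A →ₐ[A] A ⊗[K] A :=
  Algebra.TensorProduct.lift (Algebra.ofId A (A ⊗[K] A)) (comulOp K A) (fun _ _ => Commute.all _ _)

lemma shear_tmul (a b : A) :
    shear K A (a ⊗ₜ b) = (a ⊗ₜ[K] (1 : A)) * TensorProduct.comm K A A (Δ b) := by
  simp [shear, comulOp_apply, Algebra.ofId_apply, Algebra.TensorProduct.algebraMap_apply]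

variable (K A) in
/-- `v ⊗ w ↦ v * S w` -/
noncomputable def mS : A ⊗[K] A →ₗ[K] A := LinearMap.mul' K A ∘ₗ LinearMap.lTensor A S

lemma mS_tmul (v w : A) : mS K A (v ⊗ₜ w) = v * S w := by simp [mS]

variable (K A) in
/-- `u ⊗ (v ⊗ w) ↦ (v * S w) ⊗ u` -/
noncomputable def Θ : A ⊗[K] (A ⊗[K] A) →ₗ[K] A ⊗[K] A :=
  (TensorProduct.comm K A A).toLinearMap ∘ₗ LinearMap.lTensor A (mS K A)

lemma Θ_tmul (u : A) (t : A ⊗[K] A) : Θ K A (u ⊗ₜ t) = mS K A t ⊗ₜ u := by simp [Θ]

lemma Θ_lTensor_comul (z : A ⊗[K] A) :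
    Θ K A (LinearMap.lTensor A Δ z) =
      (1 : A) ⊗ₜ[K] (TensorProduct.rid K A (LinearMap.lTensor A ε z)) := by
  induction z using TensorProduct.induction_on with
  | zero => simp
  | add x y hx hy => simp only [map_add, hx, hy, tmul_add]
  | tmul x y =>
    rw [LinearMap.lTensor_tmul, Θ_tmul, LinearMap.lTensor_tmul, TensorProduct.rid_tmul]
    have h := HopfAlgebra.mul_antipode_lTensor_comul_apply (R := K) (A := A) y
    rw [show mS K A (Δ y) = algebraMap K A (ε y) from h, Algebra.algebraMap_eq_smul_one,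
      smul_tmul]

lemma Θ_assoc_tmul (t : A ⊗[K] A) (y : A) :
    Θ K A (TensorProduct.assoc K A A A (t ⊗ₜ y)) =
      ((S y) ⊗ₜ[K] (1 : A)) * TensorProduct.comm K A A t := by
  induction t using TensorProduct.induction_on with
  | zero => simp
  | add x y hx hy => simp only [add_tmul, map_add, hx, hy, mul_add]
  | tmul u v =>
    rw [TensorProduct.assoc_tmul, Θ_tmul, mS_tmul, TensorProduct.comm_tmul,
      Algebra.TensorProduct.tmul_mul_tmul, one_mul, mul_comm]

lemma shear_map_antipode (z : A ⊗[K] A) :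
    shear K A (TensorProduct.map S LinearMap.id (TensorProduct.comm K A A z)) =
      Θ K A (TensorProduct.assoc K A A A (LinearMap.rTensor A Δ z)) := by
  induction z using TensorProduct.induction_on with
  | zero => simp
  | add x y hx hy => simp only [map_add, hx, hy]
  | tmul x y =>
    rw [TensorProduct.comm_tmul, TensorProduct.map_tmul, LinearMap.id_apply, shear_tmul,
      LinearMap.rTensor_tmul, Θ_assoc_tmul]

lemma shear_preimage (b : A) :
    shear K A (TensorProduct.map S LinearMap.id (TensorProduct.comm K A A (Δ b))) =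
      (1 : A) ⊗ₜ[K] b := by
  rw [shear_map_antipode, Coalgebra.coassoc_apply, Θ_lTensor_comul,
    Coalgebra.lTensor_counit_comul, TensorProduct.rid_tmul, one_smul]

lemma shear_surjective : Function.Surjective (shear K A) := by
  intro z
  induction z using TensorProduct.induction_on with
  | zero => exact ⟨0, map_zero _⟩
  | add x y hx hy =>
    obtain ⟨x', rfl⟩ := hx
    obtain ⟨y', rfl⟩ := hy
    exact ⟨x' + y', map_add _ _ _⟩
  | tmul a b =>
    refine ⟨a • TensorProduct.map S LinearMap.id (TensorProduct.comm K A A (Δ b)), ?_⟩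
    rw [map_smul, shear_preimage, TensorProduct.smul_tmul', smul_eq_mul, mul_one]


section trace

variable [Module.Finite K A]

lemma trace_one_tmul (b : A) :
    Algebra.trace A (A ⊗[K] A) ((1 : A) ⊗ₜ[K] b) = algebraMap K A (Algebra.trace K A b) := by
  rw [Algebra.trace_apply, Algebra.trace_apply, ← LinearMap.trace_baseChange]
  congr 1
  apply TensorProduct.AlgebraTensorModule.ext
  intro a m
  simp [Algebra.TensorProduct.tmul_mul_tmul]

lemma trace_tmul (a b : A) :
    Algebra.trace A (A ⊗[K] A) (a ⊗ₜ[K] b) = Algebra.trace K A b • a := by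
  have : a ⊗ₜ[K] b = a • ((1 : A) ⊗ₜ[K] b) := by
    rw [TensorProduct.smul_tmul', smul_eq_mul, mul_one]
  rw [this, map_smul, trace_one_tmul, smul_eq_mul, Algebra.smul_def, mul_comm]

lemma lid_rTensor_trace (z : A ⊗[K] A) :
    TensorProduct.lid K A (LinearMap.rTensor A (Algebra.trace K A) z) =
      Algebra.trace A (A ⊗[K] A) (TensorProduct.comm K A A z) := by
  induction z using TensorProduct.induction_on with
  | zero => simp
  | add x y hx hy => simp only [map_add, hx, hy]
  | tmul x y =>
    rw [LinearMap.rTensor_tmul, TensorProduct.lid_tmul, TensorProduct.comm_tmul, trace_tmul]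

/-- The trace form of a finite commutative Hopf algebra over a field is a (left) integral:
`Σ Tr(b₁) b₂ = Tr(b) 1`. -/
theorem trace_isIntegral (b : A) :
    TensorProduct.lid K A (LinearMap.rTensor A (Algebra.trace K A) (Δ b)) =
      Algebra.trace K A b • (1 : A) := by
  have hfin : FiniteDimensional K (A ⊗[K] A) := inferInstance
  have hbij : Function.Bijective (shear K A) := by
    refine ⟨?_, shear_surjective⟩
    have := (LinearMap.injective_iff_surjective
      (f := ((shear K A).toLinearMap.restrictScalars K))).mpr shear_surjective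
    exact this
  let e : (A ⊗[K] A) ≃ₐ[A] (A ⊗[K] A) := AlgEquiv.ofBijective (shear K A) hbij
  rw [lid_rTensor_trace]
  have h1 : TensorProduct.comm K A A (Δ b) = e ((1 : A) ⊗ₜ[K] b) := by
    have : e ((1 : A) ⊗ₜ[K] b) = shear K A ((1 : A) ⊗ₜ[K] b) := rfl
    rw [this, shear_tmul, ← Algebra.TensorProduct.one_def, one_mul]
  rw [h1, Algebra.trace_eq_of_algEquiv, trace_one_tmul, Algebra.algebraMap_eq_smul_one]

end trace

end Groth.Agent.H1.TraceIntegral
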