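import Mathlib
import Groth.Agent.Lib.Lead.TW.Ample
import Groth.Agent.Lib.Lead.TW.SerreGen
import Groth.Agent.Lib.Helper2.PicCodim2
import Groth.Prelude.Def_ProjUP
open AlgebraicGeometry CategoryTheory Limits TopologicalSpace Opposite

namespace Groth.Agent.H1.TwCov

universe u

open Groth.Agent.LD.QC Groth.Agent.LD.TW Twist

variable {R A : Type u} [CommRing R] [CommRing A] [Algebra R A] {𝒜 : ℕ → Submodule R A}
  [GradedAlgebra 𝒜]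

/-- `Proj` is covered by the `D₊(f)`, `f` of degree one. -/
def Cov1 (𝒜 : ℕ → Submodule R A) [GradedAlgebra 𝒜] : Prop :=
  ∀ x : Proj 𝒜, ∃ f : A, f ∈ 𝒜 1 ∧ x ∈ Proj.basicOpen 𝒜 f

lemma cov1_of_iSup (hcov : (⨆ f : 𝒜 1, Proj.basicOpen 𝒜 (f : A)) = ⊤) : Cov1 𝒜 := by
  intro x
  have hx : x ∈ (⨆ f : 𝒜 1, Proj.basicOpen 𝒜 (f : A)) := by rw [hcov]; trivial
  obtain ⟨f, hf⟩ := Opens.mem_iSup.mp hx
  exact ⟨f.1, f.2, hf⟩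

theorem isInvertible_twist_of_cov1 (h : Cov1 𝒜) (n : ℤ) : PicF.IsInvertible (twist 𝒜 n) := by
  rw [isInvertible_iff_exists_isBasisOver]
  intro x
  obtain ⟨f, hf, hxf⟩ := h x
  obtain ⟨u, hu⟩ := exists_isUnitSec_one f hf n (le_refl (ProjectiveSpectrum.basicOpen 𝒜 f))
  exact ⟨Proj.basicOpen 𝒜 f, _, hxf, hu.isBasisOver⟩

theorem isIso_mulTensor_of_cov1 (h : Cov1 𝒜) (m n : ℤ) : IsIso (mulTensor 𝒜 m n) := by
  apply isIso_mulTensor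
  intro x
  obtain ⟨f, hf, hxf⟩ := h x
  obtain ⟨u, hu⟩ := exists_isUnitSec_one f hf m (le_refl (ProjectiveSpectrum.basicOpen 𝒜 f))
  obtain ⟨u', hu'⟩ := exists_isUnitSec_one f hf n (le_refl (ProjectiveSpectrum.basicOpen 𝒜 f))
  exact ⟨Proj.basicOpen 𝒜 f, u, u', hxf, hu, hu'⟩

noncomputable def mulTensorIso' (h : Cov1 𝒜) (m n : ℤ) :
    CohB1.tensorMod (twist 𝒜 m) (twist 𝒜 n) ≅ twist 𝒜 (m + n) :=
  haveI := isIso_mulTensor_of_cov1 h m n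
  asIso (mulTensor 𝒜 m n)

theorem nonempty_twist_iso_tensorPow_of_cov1 (h : Cov1 𝒜) (n : ℕ) :
    Nonempty (twist 𝒜 (n : ℤ) ≅ CohB1.tensorPow (twist 𝒜 1) n) := by
  induction n with
  | zero => exact ⟨twistCongr (by simp) ≪≫ twistZeroIso 𝒜⟩
  | succ n ih =>
    obtain ⟨e⟩ := ih
    exact ⟨twistCongr (by push_cast; ring) ≪≫ (mulTensorIso' h (n : ℤ) 1).symm ≪≫
      tensorIso' e (Iso.refl _)⟩

theorem s12453 (𝒜 : ℕ → Submodule R A) [GradedAlgebra 𝒜]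
    (hcov : (⨆ f : 𝒜 1, Proj.basicOpen 𝒜 (f : A)) = ⊤) :
    (∀ n : ℤ, PicF.IsInvertible (Twist.twist 𝒜 n)) ∧
      (∀ m n : ℤ, Nonempty (CohB1.tensorMod (Twist.twist 𝒜 m) (Twist.twist 𝒜 n) ≅ Twist.twist 𝒜 (m + n))) ∧
      ∀ n : ℕ, Nonempty (Twist.twist 𝒜 (n : ℤ) ≅ CohB1.tensorPow (Twist.twist 𝒜 1) n) :=
  have h := cov1_of_iSup hcov
  ⟨isInvertible_twist_of_cov1 h, fun m n => ⟨mulTensorIso' h m n⟩,
    nonempty_twist_iso_tensorPow_of_cov1 h⟩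

/-- `b / 1` for `b = f ^ n` is the section `powGlobal`. -/
lemma globalOf_pow_eq (f : A) (hf : f ∈ 𝒜 1) (n : ℕ) (h : f ^ n ∈ 𝒜 n) :
    globalOf 𝒜 (⟨f ^ n, h⟩ : 𝒜 n) = powGlobal f hf n := by
  apply sectN_ext
  intro x
  rw [powGlobal, castSec_val]
  rfl

theorem s13172 (𝒜 : ℕ → Submodule R A) [GradedAlgebra 𝒜]
    (hcov : (⨆ g : 𝒜 1, Proj.basicOpen 𝒜 (g : A)) = ⊤) (n : ℕ) :
    ProjUP.GeneratedBy (Twist.twist 𝒜 (n : ℤ))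
      (fun b : 𝒜 n => (Twist.globalOf 𝒜 b : ProjUP.Γm (Twist.twist 𝒜 (n : ℤ)))) := by
  intro x
  obtain ⟨f, hf, hxf⟩ := cov1_of_iSup hcov x
  have hmem : f ^ n ∈ 𝒜 n := by
    have := SetLike.pow_mem_graded n hf
    rwa [smul_eq_mul, mul_one] at this
  have hb := (isUnitSec_powGlobal f hf n (le_refl (ProjectiveSpectrum.basicOpen 𝒜 f))).isBasisOver
  have hbij := Groth.Agent.H2.PicCodim2.bijective_toSpanSingleton_germ _ _ _ hb x hxf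
  rw [eq_top_iff]
  intro z _
  obtain ⟨a, rfl⟩ := hbij.2 z
  rw [LinearMap.toSpanSingleton_apply]
  refine Submodule.smul_mem _ _ (Submodule.subset_span ⟨⟨f ^ n, hmem⟩, ?_⟩)
  change ((twist 𝒜 (n : ℤ)).presheaf.germ ⊤ x trivial).hom (globalOf 𝒜 (⟨f ^ n, hmem⟩ : 𝒜 n)) = _
  rw [globalOf_pow_eq f hf n hmem]
  exact (germ_res (twist 𝒜 (n : ℤ)) x (le_top : Proj.basicOpen 𝒜 f ≤ ⊤) hxf
    (show Γ(twist 𝒜 (n : ℤ), ⊤) from powGlobal f hf n)).symm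

theorem genLocus_powHomSec_le' (hc : Cov1 𝒜)
    (f : A) (hf : f ∈ 𝒜 1) (n : ℕ) (hn : 0 < n) :
    CohB1.genLocus (twist 𝒜 (n : ℤ)) (powHomSec f hf n) ≤ Proj.basicOpen 𝒜 f := by
  intro (y : ProjectiveSpectrum 𝒜) hy
  obtain ⟨U, hyU, hU⟩ := (mem_genLocus_iff (X := Proj 𝒜) _ _ y).mp hy
  obtain ⟨g, hg1, hyg⟩ := hc y
  rw [powHomSec, val_homOfSection] at hU
  have hV : U ⊓ Proj.basicOpen 𝒜 g ≤ U := inf_le_left
  obtain ⟨a, ha⟩ := (hU (U ⊓ Proj.basicOpen 𝒜 g) hV).2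
    (show Γ(twist 𝒜 (n : ℤ), U ⊓ Proj.basicOpen 𝒜 g) from
      resSec (le_top : U ⊓ Proj.basicOpen 𝒜 g ≤ ⊤) (powGlobal g hg1 n))
  let y' : (U ⊓ Proj.basicOpen 𝒜 g : (Proj 𝒜).Opens) := ⟨y, hyU, hyg⟩
  have h1 := congrArg (fun t : Γ(twist 𝒜 (n : ℤ), U ⊓ Proj.basicOpen 𝒜 g) =>
    (((show sectN (𝒜 := 𝒜) (n : ℤ) (op (U ⊓ Proj.basicOpen 𝒜 g)) from t).1 y' :
      twistAt 𝒜 n y) : Loc 𝒜 y)) ha
  simp only [smul_sec_val, res_sec_val] at h1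
  have h2 : ((resSec (le_top : U ⊓ Proj.basicOpen 𝒜 g ≤ ⊤) (powGlobal g hg1 n)).1 y').1 =
      algebraMap A (Loc 𝒜 y) (g ^ n) := powGlobal_val g hg1 n ⟨y, trivial⟩
  have h3 : ((powGlobal f hf n).1 ⟨y'.1, trivial⟩).1 = algebraMap A (Loc 𝒜 y) (f ^ n) :=
    powGlobal_val f hf n ⟨y, trivial⟩
  have h1' : ((show O (𝒜 := 𝒜) (op (U ⊓ Proj.basicOpen 𝒜 g)) from a).1 y').val *
      algebraMap A (Loc 𝒜 y) (f ^ n) = algebraMap A (Loc 𝒜 y) (g ^ n) := by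
    rw [← h2, ← h3]; exact h1
  have hgu : IsUnit (algebraMap A (Loc 𝒜 y) (g ^ n)) := by
    rw [IsLocalization.AtPrime.isUnit_to_map_iff (Loc 𝒜 y) y.asHomogeneousIdeal.toIdeal]
    intro hmem
    exact hyg (y.isPrime.mem_of_pow_mem n hmem)
  rw [← h1'] at hgu
  have hfu := isUnit_of_mul_isUnit_right hgu
  rw [IsLocalization.AtPrime.isUnit_to_map_iff (Loc 𝒜 y) y.asHomogeneousIdeal.toIdeal] at hfu
  intro hfy
  exact hfu (Ideal.pow_mem_of_mem _ hfy n hn)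

theorem isAmple_twist_of_cov1 (hc : Cov1 𝒜) [CompactSpace (Proj 𝒜)] (n : ℕ) (hn : 0 < n) :
    CohB1.IsAmple (twist 𝒜 (n : ℤ)) := by
  have hinv := isInvertible_twist_of_cov1 hc (n : ℤ)
  refine ⟨hinv, inferInstance, fun x => ?_⟩
  obtain ⟨f, hf, hxf⟩ := hc x
  let σ : unitMod (Proj 𝒜) ⟶ twist 𝒜 (n : ℤ) := powHomSec f hf n
  have hσ : CohB1.genLocus (twist 𝒜 (n : ℤ)) σ = Proj.basicOpen 𝒜 f :=
    le_antisymm (genLocus_powHomSec_le' hc f hf n hn) (basicOpen_le_genLocus_powHomSec f hf n)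
  have hσ1 : CohB1.genLocus _ (SecTwist.powHom σ (0 + 1)) = Proj.basicOpen 𝒜 f := by
    change CohB1.genLocus _ (SecTwist.tmulHom (𝟙 _) σ) = _
    rw [genLocus_tmulHom (isInvertible_unit _) hinv, genLocus_id, top_inf_eq, hσ]
  refine ⟨0, SecTwist.powHom σ (0 + 1), ?_, ?_⟩
  · rw [hσ1]; exact hxf
  · rw [hσ1]; exact Proj.isAffineOpen_basicOpen 𝒜 f hf Nat.one_pos

theorem s13173 (𝒜 : ℕ → Submodule R A) [GradedAlgebra 𝒜]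
    (hcov : (⨆ g : 𝒜 1, Proj.basicOpen 𝒜 (g : A)) = ⊤) [CompactSpace (Proj 𝒜)] (n : ℕ)
    (hn : 0 < n) : CohB1.IsAmple (Twist.twist 𝒜 (n : ℤ)) :=
  isAmple_twist_of_cov1 (cov1_of_iSup hcov) n hn

end Groth.Agent.H1.TwCov
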