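import Mathlib
import Groth.Agent.Lib.Lead.TW.Triv
import Groth.Agent.Lib.Lead.QC.InvRestrict
open AlgebraicGeometry CategoryTheory Limits TopologicalSpace Opposite

namespace Groth.Agent.H1.TwCov2

universe u

open Groth.Agent.LD.QC Groth.Agent.LD.TW Twist

variable {R A : Type u} [CommRing R] [CommRing A] [Algebra R A] {𝒜 : ℕ → Submodule R A}
  [GradedAlgebra 𝒜]

/-- every point of `Proj` lies in some `D₊(f)` with `f` homogeneous of positive degree. -/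
theorem exists_pos_deg_mem_basicOpen (x : Proj 𝒜) :
    ∃ i : (Σ m : ℕ+, 𝒜 m), x ∈ Proj.basicOpen 𝒜 (i.2 : A) := by
  obtain ⟨y, hy⟩ := (Proj.affineOpenCover 𝒜).openCover.covers x
  refine ⟨(Proj.affineOpenCover 𝒜).openCover.idx x, ?_⟩
  rw [← Proj.opensRange_awayι 𝒜 _ ((Proj.affineOpenCover 𝒜).openCover.idx x).2.2
    ((Proj.affineOpenCover 𝒜).openCover.idx x).1.2]
  exact ⟨y, hy⟩

theorem s9580 (𝒜 : ℕ → Submodule R A) [GradedAlgebra 𝒜]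
    (Y : (Proj 𝒜).Opens) (hY : IsCompact (Y : Set (Proj 𝒜))) :
    ∃ d : ℕ, 0 < d ∧
      (∀ y : Proj 𝒜, y ∈ Y → ∃ (i j : ℕ) (a b : A), a ∈ 𝒜 i ∧ b ∈ 𝒜 j ∧ i = j + d ∧
        y ∈ Proj.basicOpen 𝒜 (a * b)) ∧
      ∀ n : ℤ, PicF.IsInvertible ((Twist.twist 𝒜 (n * d)).restrict Y.ι) := by
  classical
  obtain ⟨t, ht⟩ := hY.elim_finite_subcover
    (fun i : (Σ m : ℕ+, 𝒜 m) => ((Proj.basicOpen 𝒜 (i.2 : A) : (Proj 𝒜).Opens) : Set (Proj 𝒜)))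
    (fun i => (Proj.basicOpen 𝒜 (i.2 : A)).isOpen)
    (fun y _ => by
      obtain ⟨i, hi⟩ := exists_pos_deg_mem_basicOpen y
      exact Set.mem_iUnion.mpr ⟨i, hi⟩)
  let d : ℕ := ∏ i ∈ t, ((i.1 : ℕ+) : ℕ)
  have hd : 0 < d := Finset.prod_pos fun i _ => i.1.2
  have key : ∀ y : Proj 𝒜, y ∈ Y → ∃ (a b : A), a ∈ 𝒜 d ∧ b ∈ 𝒜 0 ∧
      y ∈ Proj.basicOpen 𝒜 (a * b) := by
    intro y hy
    obtain ⟨i, hi⟩ := Set.mem_iUnion.mp (ht hy)
    obtain ⟨hit, hyi⟩ := Set.mem_iUnion.mp hi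
    obtain ⟨q, hq⟩ : ((i.1 : ℕ+) : ℕ) ∣ d := Finset.dvd_prod_of_mem _ hit
    have hq0 : 0 < q := by
      rcases Nat.eq_zero_or_pos q with rfl | h
      · rw [mul_zero] at hq; omega
      · exact h
    refine ⟨(i.2 : A) ^ q, 1, ?_, SetLike.GradedOne.one_mem, ?_⟩
    · have := SetLike.pow_mem_graded q i.2.2
      rwa [smul_eq_mul, mul_comm, ← hq] at this
    · rw [mul_one, Proj.basicOpen_pow 𝒜 _ q hq0]
      exact hyi
  refine ⟨d, hd, fun y hy => ?_, fun n => ?_⟩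
  · obtain ⟨a, b, ha, hb, hy'⟩ := key y hy
    exact ⟨d, 0, a, b, ha, hb, (zero_add d).symm, hy'⟩
  · apply isInvertible_restrict_of_forall
    intro x hx
    obtain ⟨a, b, ha, hb, hx'⟩ := key x hx
    exact ⟨Proj.basicOpen 𝒜 (a * b), hx',
      nonempty_iso_unit_of_mem_mul a b ha hb (zero_add d).symm n _ le_rfl⟩

end Groth.Agent.H1.TwCov2
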