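import Mathlib
import Groth.Agent.Lib.Lead.TW.Deg1
import Groth.Agent.Lib.Lead.QC.TensorComm
import Groth.Agent.Lib.Lead.QC.InvRestrict
import Groth.Prelude.Def_DDual2
import Groth.Agent.Lib.Lead.TW.Ample
import Groth.Agent.Lib.Lead.TW.SerreGen
import Groth.Agent.Lib.Helper2.PicCodim2
import Groth.Prelude.Def_ProjUP
open AlgebraicGeometry CategoryTheory Limits TopologicalSpace Opposite

namespace Groth.Agent.H1.TwCov3

universe u

open Groth.Agent.LD.QC Groth.Agent.LD.TW Twist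

variable {R A : Type u} [CommRing R] [CommRing A] [Algebra R A] {𝒜 : ℕ → Submodule R A}
  [GradedAlgebra 𝒜]

/-- the symmetry `M ⊗ N ≅ N ⊗ M` for arbitrary modules. -/
noncomputable def tensorCommGen {X : Scheme.{u}} (M N : X.Modules) :
    CohB1.tensorMod M N ≅ CohB1.tensorMod N M :=
  DCoh.shP.mapIso (β_ (CohB1.toPMod M) (CohB1.toPMod N))

/-- multiplication by a pointwise invertible section is bijective on sections. -/
theorem bijective_mulSec_right {n m : ℤ} {V : Opens (ProjectiveSpectrum.top 𝒜)}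
    {u : sectN (𝒜 := 𝒜) m (op V)} (hu : IsUnitSec u) :
    Function.Bijective (fun t : sectN (𝒜 := 𝒜) n (op V) => mulSec (le_refl V) t u) := by
  obtain ⟨v, hv⟩ := hu
  constructor
  · intro t t' h
    apply sectN_ext
    intro x
    have h1 := congrArg (fun s : sectN (𝒜 := 𝒜) (n + m) (op V) => ((s.1 x).1 : Loc 𝒜 x.1)) h
    simp only [mulSec_apply] at h1
    calc ((t.1 x).1 : Loc 𝒜 x.1) = (t.1 x).1 * ((u.1 x).1 * (v.1 x).1) := by rw [hv x, mul_one]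
      _ = (t.1 x).1 * (u.1 x).1 * (v.1 x).1 := by ring
      _ = (t'.1 x).1 * (u.1 x).1 * (v.1 x).1 := by rw [h1]
      _ = (t'.1 x).1 * ((u.1 x).1 * (v.1 x).1) := by ring
      _ = (t'.1 x).1 := by rw [hv x, mul_one]
  · intro s
    refine ⟨castSec (by ring) (mulSec (le_refl V) s v), ?_⟩
    apply sectN_ext
    intro x
    rw [mulSec_apply, castSec_val, mulSec_apply]
    calc (s.1 ⟨x.1, _⟩).1 * (v.1 x).1 * (u.1 x).1 = (s.1 x).1 * ((u.1 x).1 * (v.1 x).1) := by ring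
      _ = (s.1 x).1 := by rw [hv x, mul_one]

/-- if `O(m)` has pointwise invertible sections near every point, then
`O(n) ⊗ O(m) ≅ O(n + m)` for every `n`. -/
theorem isIso_mulTensor_right (n m : ℤ)
    (h : ∀ x : Proj 𝒜, ∃ (U : (Proj 𝒜).Opens) (u : sectN (𝒜 := 𝒜) m (op U)),
      x ∈ U ∧ IsUnitSec u) :
    IsIso (mulTensor 𝒜 n m) := by
  apply isIso_of_local_bijective
  intro x W hxW
  obtain ⟨U, u, hxU, hu⟩ := h x
  refine ⟨W ⊓ U, ⟨hxW, hxU⟩, inf_le_left, ?_⟩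
  have hV : W ⊓ U ≤ U := inf_le_right
  have hb := bijective_tmul_of_isBasisOver (twist 𝒜 n) (twist 𝒜 m) hu.isBasisOver (W ⊓ U) hV
  have hu' : IsUnitSec (resSec hV u) := hu.res hV
  have hm := bijective_mulSec_right (n := n) hu'
  have hcomp : (fun t : Γ(twist 𝒜 n, W ⊓ U) =>
      (mulTensor 𝒜 n m).app (W ⊓ U) (SecTwist.tmul (twist 𝒜 n) (twist 𝒜 m) (W ⊓ U) t
        ((twist 𝒜 m).presheaf.map (homOfLE hV).op (show Γ(twist 𝒜 m, U) from u)))) =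
      fun t => (show Γ(twist 𝒜 (n + m), W ⊓ U) from mulSec (le_refl _)
        (show sectN (𝒜 := 𝒜) n (op (W ⊓ U)) from t) (resSec hV u)) := by
    funext t
    rw [mulTensor_app_tmul, mulBilin_apply]
    rfl
  have h2 : Function.Bijective ((mulTensor 𝒜 n m).app (W ⊓ U) ∘
      (fun t : Γ(twist 𝒜 n, W ⊓ U) => SecTwist.tmul (twist 𝒜 n) (twist 𝒜 m) (W ⊓ U) t
        ((twist 𝒜 m).presheaf.map (homOfLE hV).op (show Γ(twist 𝒜 m, U) from u)))) := by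
    have : ((mulTensor 𝒜 n m).app (W ⊓ U) ∘
      (fun t : Γ(twist 𝒜 n, W ⊓ U) => SecTwist.tmul (twist 𝒜 n) (twist 𝒜 m) (W ⊓ U) t
        ((twist 𝒜 m).presheaf.map (homOfLE hV).op (show Γ(twist 𝒜 m, U) from u)))) =
      fun t => (show Γ(twist 𝒜 (n + m), W ⊓ U) from mulSec (le_refl _)
        (show sectN (𝒜 := 𝒜) n (op (W ⊓ U)) from t) (resSec hV u)) := hcomp
    rw [this]
    exact hm
  exact (Function.Bijective.of_comp_iff _ hb).mp h2

section ZC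
variable {s : ℕ} (f : Fin s → A) (deg : Fin s → ℕ)
  (hf : ∀ i, f i ∈ 𝒜 (deg i)) (hgen : Algebra.adjoin R (Set.range f) = ⊤)

include hf hgen in
lemma exists_mem_basicOpen (x : Proj 𝒜) : ∃ i, x ∈ Proj.basicOpen 𝒜 (f i) := by
  have h0 : Algebra.adjoin (𝒜 0) (Set.range f) = ⊤ := by
    rw [eq_top_iff]
    intro z hz0
    have hz : z ∈ Algebra.adjoin R (Set.range f) := by rw [hgen]; trivial
    clear * - hz
    induction hz using Algebra.adjoin_induction with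
    | mem z hz => exact Algebra.subset_adjoin hz
    | algebraMap r =>
      have : algebraMap R A r = algebraMap (𝒜 0) A (algebraMap R (𝒜 0) r) := rfl
      rw [this]
      exact Subalgebra.algebraMap_mem _ _
    | add z z' _ _ h h' => exact add_mem h h'
    | mul z z' _ _ h h' => exact mul_mem h h'
  have h1 := Proj.iSup_basicOpen_eq_top' 𝒜 f (fun i => ⟨deg i, hf i⟩) h0
  have hx : x ∈ (⨆ i, Proj.basicOpen 𝒜 (f i)) := by rw [h1]; trivial
  exact Opens.mem_iSup.mp hx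

include hf hgen in
lemma exists_isUnitSec_lcm (a : ℤ) (x : Proj 𝒜) :
    ∃ (U : (Proj 𝒜).Opens) (u : sectN (𝒜 := 𝒜) (a * (Finset.univ.lcm deg : ℕ)) (op U)),
      x ∈ U ∧ IsUnitSec u := by
  obtain ⟨i, hxi⟩ := exists_mem_basicOpen f deg hf hgen x
  obtain ⟨q, hq⟩ : deg i ∣ Finset.univ.lcm deg := Finset.dvd_lcm (Finset.mem_univ i)
  obtain ⟨u, hu⟩ := exists_isUnitSec (f i) (hf i) (a * q)
    (le_refl (ProjectiveSpectrum.basicOpen 𝒜 (f i)))
  refine ⟨Proj.basicOpen 𝒜 (f i), castSec ?_ u, hxi, hu.cast _⟩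
  rw [hq]; push_cast; ring

include hf hgen in
theorem s13170 (a n : ℤ) :
    Nonempty (CohB1.tensorMod (Twist.twist 𝒜 (a * (Finset.univ.lcm deg : ℕ))) (Twist.twist 𝒜 n) ≅
      Twist.twist 𝒜 (a * (Finset.univ.lcm deg : ℕ) + n)) := by
  have := isIso_mulTensor_right (𝒜 := 𝒜) n (a * (Finset.univ.lcm deg : ℕ))
    (exists_isUnitSec_lcm f deg hf hgen a)
  exact ⟨tensorCommGen _ _ ≪≫ asIso (mulTensor 𝒜 n (a * (Finset.univ.lcm deg : ℕ))) ≪≫
    twistCongr (add_comm _ _)⟩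

end ZC




open Groth.Agent.LD.QC Groth.Agent.LD.TW Twist

variable {R A : Type u} [CommRing R] [CommRing A] [Algebra R A] {𝒜 : ℕ → Submodule R A}
  [GradedAlgebra 𝒜]

/-- the morphism `O ⟶ O(n)` attached to `g ∈ 𝒜 n`. -/
noncomputable def homOfElt {n : ℕ} (g : 𝒜 n) : unitMod (Proj 𝒜) ⟶ twist 𝒜 (n : ℤ) :=
  homOfSection (twist 𝒜 (n : ℤ)) (show Γ(twist 𝒜 (n : ℤ), ⊤) from globalOf 𝒜 g)

theorem basicOpen_le_genLocus_homOfElt {n : ℕ} (g : 𝒜 n) :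
    Proj.basicOpen 𝒜 (g : A) ≤ CohB1.genLocus (twist 𝒜 (n : ℤ)) (homOfElt g) := by
  rw [le_genLocus_iff_isBasisOver, homOfElt, val_homOfSection]
  exact (isUnitSec_globalOf g (le_refl (ProjectiveSpectrum.basicOpen 𝒜 (g : A)))).isBasisOver

theorem genLocus_homOfElt_le {n : ℕ}
    (hc : ∀ y : Proj 𝒜, ∃ g' : 𝒜 n, y ∈ Proj.basicOpen 𝒜 (g' : A)) (g : 𝒜 n) :
    CohB1.genLocus (twist 𝒜 (n : ℤ)) (homOfElt g) ≤ Proj.basicOpen 𝒜 (g : A) := by
  intro (y : ProjectiveSpectrum 𝒜) hy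
  obtain ⟨U, hyU, hU⟩ := (mem_genLocus_iff (X := Proj 𝒜) _ _ y).mp hy
  obtain ⟨g', hyg⟩ := hc y
  rw [homOfElt, val_homOfSection] at hU
  have hV : U ⊓ Proj.basicOpen 𝒜 (g' : A) ≤ U := inf_le_left
  obtain ⟨a, ha⟩ := (hU (U ⊓ Proj.basicOpen 𝒜 (g' : A)) hV).2
    (show Γ(twist 𝒜 (n : ℤ), U ⊓ Proj.basicOpen 𝒜 (g' : A)) from
      resSec (le_top : U ⊓ Proj.basicOpen 𝒜 (g' : A) ≤ ⊤) (globalOf 𝒜 g'))
  let y' : (U ⊓ Proj.basicOpen 𝒜 (g' : A) : (Proj 𝒜).Opens) := ⟨y, hyU, hyg⟩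
  have h1 := congrArg (fun t : Γ(twist 𝒜 (n : ℤ), U ⊓ Proj.basicOpen 𝒜 (g' : A)) =>
    (((show sectN (𝒜 := 𝒜) (n : ℤ) (op (U ⊓ Proj.basicOpen 𝒜 (g' : A))) from t).1 y' :
      twistAt 𝒜 n y) : Loc 𝒜 y)) ha
  simp only [smul_sec_val, res_sec_val] at h1
  have h2 : ((resSec (le_top : U ⊓ Proj.basicOpen 𝒜 (g' : A) ≤ ⊤) (globalOf 𝒜 g')).1 y').1 =
      algebraMap A (Loc 𝒜 y) (g' : A) :=
    (globalOf_val g' ⟨y, trivial⟩).trans (Localization.mk_one_eq_algebraMap _)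
  have h3 : ((globalOf 𝒜 g).1 ⟨y'.1, trivial⟩).1 = algebraMap A (Loc 𝒜 y) (g : A) :=
    (globalOf_val g ⟨y, trivial⟩).trans (Localization.mk_one_eq_algebraMap _)
  have h1' : ((show O (𝒜 := 𝒜) (op (U ⊓ Proj.basicOpen 𝒜 (g' : A))) from a).1 y').val *
      algebraMap A (Loc 𝒜 y) (g : A) = algebraMap A (Loc 𝒜 y) (g' : A) := by
    rw [← h2, ← h3]; exact h1
  have hgu : IsUnit (algebraMap A (Loc 𝒜 y) (g' : A)) := by
    rw [IsLocalization.AtPrime.isUnit_to_map_iff (Loc 𝒜 y) y.asHomogeneousIdeal.toIdeal]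
    exact hyg
  rw [← h1'] at hgu
  have hfu := isUnit_of_mul_isUnit_right hgu
  rw [IsLocalization.AtPrime.isUnit_to_map_iff (Loc 𝒜 y) y.asHomogeneousIdeal.toIdeal] at hfu
  exact hfu

/-- `O(n)` is ample and globally generated by the `b / 1`, `b ∈ 𝒜 n`, as soon as `Proj` is
quasi-compact and covered by the `D₊(g)`, `g ∈ 𝒜 n`, with `n > 0`. -/
theorem isAmple_and_generatedBy_of_cover [CompactSpace (Proj 𝒜)] {n : ℕ} (hn : 0 < n)
    (hc : ∀ y : Proj 𝒜, ∃ g' : 𝒜 n, y ∈ Proj.basicOpen 𝒜 (g' : A)) :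
    CohB1.IsAmple (twist 𝒜 (n : ℤ)) ∧
      ProjUP.GeneratedBy (twist 𝒜 (n : ℤ))
        (fun b : 𝒜 n => (globalOf 𝒜 b : ProjUP.Γm (twist 𝒜 (n : ℤ)))) := by
  have hinv : PicF.IsInvertible (twist 𝒜 (n : ℤ)) := by
    rw [isInvertible_iff_exists_isBasisOver]
    intro x
    obtain ⟨g, hxg⟩ := hc x
    exact ⟨Proj.basicOpen 𝒜 (g : A), _, hxg,
      (isUnitSec_globalOf g (le_refl (ProjectiveSpectrum.basicOpen 𝒜 (g : A)))).isBasisOver⟩
  refine ⟨⟨hinv, inferInstance, fun x => ?_⟩, fun x => ?_⟩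
  · obtain ⟨g, hxg⟩ := hc x
    let σ : unitMod (Proj 𝒜) ⟶ twist 𝒜 (n : ℤ) := homOfElt g
    have hσ : CohB1.genLocus (twist 𝒜 (n : ℤ)) σ = Proj.basicOpen 𝒜 (g : A) :=
      le_antisymm (genLocus_homOfElt_le hc g) (basicOpen_le_genLocus_homOfElt g)
    have hσ1 : CohB1.genLocus _ (SecTwist.powHom σ (0 + 1)) = Proj.basicOpen 𝒜 (g : A) := by
      change CohB1.genLocus _ (SecTwist.tmulHom (𝟙 _) σ) = _
      rw [genLocus_tmulHom (isInvertible_unit _) hinv, genLocus_id, top_inf_eq, hσ]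
    refine ⟨0, SecTwist.powHom σ (0 + 1), ?_, ?_⟩
    · rw [hσ1]; exact hxg
    · rw [hσ1]; exact Proj.isAffineOpen_basicOpen 𝒜 (g : A) g.2 hn
  · obtain ⟨g, hxg⟩ := hc x
    have hb := (isUnitSec_globalOf g
      (le_refl (ProjectiveSpectrum.basicOpen 𝒜 (g : A)))).isBasisOver
    have hbij := Groth.Agent.H2.PicCodim2.bijective_toSpanSingleton_germ _ _ _ hb x hxg
    rw [eq_top_iff]
    intro z _
    obtain ⟨a, rfl⟩ := hbij.2 z
    rw [LinearMap.toSpanSingleton_apply]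
    refine Submodule.smul_mem _ _ (Submodule.subset_span ⟨g, ?_⟩)
    exact (germ_res (twist 𝒜 (n : ℤ)) x (le_top : Proj.basicOpen 𝒜 (g : A) ≤ ⊤) hxg
      (show Γ(twist 𝒜 (n : ℤ), ⊤) from globalOf 𝒜 g)).symm

section ZC
variable {s : ℕ} (f : Fin s → A) (deg : Fin s → ℕ) (hdeg : ∀ i, 0 < deg i)
  (hf : ∀ i, f i ∈ 𝒜 (deg i)) (hgen : Algebra.adjoin R (Set.range f) = ⊤)

include hdeg hf hgen in
theorem compactSpace_proj_of_adjoin : CompactSpace (Proj 𝒜) := by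
  rw [← isCompact_univ_iff]
  have h : (Set.univ : Set (Proj 𝒜)) =
      ⋃ i : Fin s, ((Proj.basicOpen 𝒜 (f i) : (Proj 𝒜).Opens) : Set (Proj 𝒜)) := by
    ext x
    simp only [Set.mem_univ, Set.mem_iUnion, true_iff]
    exact exists_mem_basicOpen f deg hf hgen x
  rw [h]
  exact isCompact_iUnion fun i =>
    (Proj.isAffineOpen_basicOpen 𝒜 (f i) (hf i) (hdeg i)).isCompact

include hdeg hf hgen in
theorem s13169 (a : ℕ) (ha : 0 < a) :
    CohB1.IsAmple (Twist.twist 𝒜 ((a * Finset.univ.lcm deg : ℕ) : ℤ)) ∧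
      ProjUP.GeneratedBy (Twist.twist 𝒜 ((a * Finset.univ.lcm deg : ℕ) : ℤ))
        (fun b : 𝒜 (a * Finset.univ.lcm deg) =>
          (Twist.globalOf 𝒜 b : ProjUP.Γm (Twist.twist 𝒜 ((a * Finset.univ.lcm deg : ℕ) : ℤ)))) := by
  have := compactSpace_proj_of_adjoin f deg hdeg hf hgen
  have hl : 0 < Finset.univ.lcm deg := by
    apply Nat.pos_of_ne_zero
    rw [Ne, Finset.lcm_eq_zero_iff]
    rintro ⟨i, -, hi⟩
    exact (hdeg i).ne' hi
  have hn : 0 < a * Finset.univ.lcm deg := Nat.mul_pos ha hl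
  apply isAmple_and_generatedBy_of_cover hn
  intro y
  obtain ⟨i, hyi⟩ := exists_mem_basicOpen f deg hf hgen y
  obtain ⟨q, hq⟩ : deg i ∣ a * Finset.univ.lcm deg :=
    Dvd.dvd.mul_left (Finset.dvd_lcm (Finset.mem_univ i)) a
  have hq0 : 0 < q := by
    rcases Nat.eq_zero_or_pos q with rfl | h
    · rw [mul_zero] at hq; omega
    · exact h
  have hmem : f i ^ q ∈ 𝒜 (a * Finset.univ.lcm deg) := by
    have := SetLike.pow_mem_graded q (hf i)
    rwa [smul_eq_mul, mul_comm, ← hq] at this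
  refine ⟨⟨f i ^ q, hmem⟩, ?_⟩
  change y ∈ Proj.basicOpen 𝒜 (f i ^ q)
  rw [Proj.basicOpen_pow 𝒜 _ q hq0]
  exact hyi

end ZC

end Groth.Agent.H1.TwCov3
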