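import Mathlib
import Groth.Agent.Lib.Helper1.TwCov2
import Groth.Agent.Lib.Helper1.TwCov3
import Groth.Agent.Lib.Lead.QC.RestrictOpen
import Groth.Agent.Lib.Lead.QC.AmpleIso
open AlgebraicGeometry CategoryTheory Limits TopologicalSpace Opposite

namespace Groth.Agent.H1.TwCov4

universe u

open Groth.Agent.LD.QC Groth.Agent.LD.TW Twist Groth.Agent.H1.TwCov3

variable {R A : Type u} [CommRing R] [CommRing A] [Algebra R A] {𝒜 : ℕ → Submodule R A}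
  [GradedAlgebra 𝒜]

/-- basic opens of homogeneous elements of positive degree form a basis of `Proj`. -/
theorem exists_pos_deg_basicOpen_le (Y : (Proj 𝒜).Opens) (y : Proj 𝒜) (hy : y ∈ Y) :
    ∃ i : (Σ m : ℕ+, 𝒜 m), y ∈ Proj.basicOpen 𝒜 (i.2 : A) ∧ Proj.basicOpen 𝒜 (i.2 : A) ≤ Y := by
  classical
  obtain ⟨_, ⟨a, rfl⟩, hya, haY⟩ :=
    (ProjectiveSpectrum.isTopologicalBasis_basic_opens 𝒜).exists_subset_of_mem_open
      (show (y : ProjectiveSpectrum 𝒜) ∈ Y.1 from hy) Y.isOpen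
  -- some homogeneous component of `a` is not in `y`
  have hya' : a ∉ (y : ProjectiveSpectrum 𝒜).asHomogeneousIdeal := hya
  obtain ⟨i, hi⟩ : ∃ i : ℕ, (DirectSum.decompose 𝒜 a i : A) ∉
      (y : ProjectiveSpectrum 𝒜).asHomogeneousIdeal := by
    by_contra hcon
    push Not at hcon
    apply hya'
    rw [← DirectSum.sum_support_decompose 𝒜 a]
    exact sum_mem fun i _ => hcon i
  obtain ⟨f, hf⟩ := Groth.Agent.H1.TwCov2.exists_pos_deg_mem_basicOpen y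
  refine ⟨⟨⟨i + (f.1 : ℕ), Nat.add_pos_right i f.1.pos⟩,
    ⟨(DirectSum.decompose 𝒜 a i : A) * f.2, SetLike.mul_mem_graded (SetLike.coe_mem _) f.2.2⟩⟩,
    ?_, ?_⟩
  · change y ∈ Proj.basicOpen 𝒜 ((DirectSum.decompose 𝒜 a i : A) * f.2)
    rw [Proj.basicOpen_mul]
    exact ⟨hi, hf⟩
  · change Proj.basicOpen 𝒜 ((DirectSum.decompose 𝒜 a i : A) * f.2) ≤ Y
    rw [Proj.basicOpen_mul]
    intro x hx
    apply haY
    change a ∉ (x : ProjectiveSpectrum 𝒜).asHomogeneousIdeal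
    intro hax
    exact hx.1 ((x : ProjectiveSpectrum 𝒜).asHomogeneousIdeal.isHomogeneous i hax)

/-- a quasi-compact open of `Proj` is a union of `D₊(g)`, `g` homogeneous of a fixed positive
degree. -/
theorem exists_deg_cover (Y : (Proj 𝒜).Opens) (hY : IsCompact (Y : Set (Proj 𝒜))) :
    ∃ d : ℕ, 0 < d ∧ ∀ y : Proj 𝒜, y ∈ Y → ∃ g : 𝒜 d, y ∈ Proj.basicOpen 𝒜 (g : A) ∧
      Proj.basicOpen 𝒜 (g : A) ≤ Y := by
  classical
  obtain ⟨t, ht⟩ := hY.elim_finite_subcover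
    (fun i : {i : (Σ m : ℕ+, 𝒜 m) // Proj.basicOpen 𝒜 (i.2 : A) ≤ Y} =>
      ((Proj.basicOpen 𝒜 (i.1.2 : A) : (Proj 𝒜).Opens) : Set (Proj 𝒜)))
    (fun i => (Proj.basicOpen 𝒜 (i.1.2 : A)).isOpen)
    (fun y hy => by
      obtain ⟨i, hi, hiY⟩ := exists_pos_deg_basicOpen_le Y y hy
      exact Set.mem_iUnion.mpr ⟨⟨i, hiY⟩, hi⟩)
  let d : ℕ := ∏ i ∈ t, ((i.1.1 : ℕ+) : ℕ)
  have hd : 0 < d := Finset.prod_pos fun i _ => i.1.1.2
  refine ⟨d, hd, fun y hy => ?_⟩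
  obtain ⟨i, hi⟩ := Set.mem_iUnion.mp (ht hy)
  obtain ⟨hit, hyi⟩ := Set.mem_iUnion.mp hi
  obtain ⟨q, hq⟩ : ((i.1.1 : ℕ+) : ℕ) ∣ d := Finset.dvd_prod_of_mem _ hit
  have hq0 : 0 < q := by
    rcases Nat.eq_zero_or_pos q with rfl | h
    · rw [mul_zero] at hq; omega
    · exact h
  have hmem : (i.1.2 : A) ^ q ∈ 𝒜 d := by
    have := SetLike.pow_mem_graded q i.1.2.2
    rwa [smul_eq_mul, mul_comm, ← hq] at this
  refine ⟨⟨(i.1.2 : A) ^ q, hmem⟩, ?_, ?_⟩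
  · change y ∈ Proj.basicOpen 𝒜 ((i.1.2 : A) ^ q)
    rw [Proj.basicOpen_pow 𝒜 _ q hq0]; exact hyi
  · change Proj.basicOpen 𝒜 ((i.1.2 : A) ^ q) ≤ Y
    rw [Proj.basicOpen_pow 𝒜 _ q hq0]; exact i.2

/-- local version: on an open covered by the `D₊(g')`, `g' ∈ 𝒜 n`, the generating locus of
`g / 1` is contained in `D₊(g)`. -/
theorem genLocus_homOfElt_inf_le {n : ℕ} (g : 𝒜 n) (W : (Proj 𝒜).Opens)
    (hW : ∀ y : Proj 𝒜, y ∈ W → ∃ g' : 𝒜 n, y ∈ Proj.basicOpen 𝒜 (g' : A)) :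
    CohB1.genLocus (twist 𝒜 (n : ℤ)) (homOfElt g) ⊓ W ≤ Proj.basicOpen 𝒜 (g : A) := by
  intro (y : ProjectiveSpectrum 𝒜) hy'
  have hc := hW y hy'.2
  have hy := hy'.1
  obtain ⟨U, hyU, hU⟩ := (mem_genLocus_iff (X := Proj 𝒜) _ _ y).mp hy
  obtain ⟨g', hyg⟩ := hc
  rw [homOfElt, val_homOfSection] at hU
  have hV : U ⊓ Proj.basicOpen 𝒜 (g' : A) ≤ U := inf_le_left
  obtain ⟨a, ha⟩ := (hU (U ⊓ Proj.basicOpen 𝒜 (g' : A)) hV).2
    (show Γ(twist 𝒜 (n : ℤ), U ⊓ Proj.basicOpen 𝒜 (g' : A)) from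
      resSec (le_top : U ⊓ Proj.basicOpen 𝒜 (g' : A) ≤ ⊤) (globalOf 𝒜 g'))
  let y' : (U ⊓ Proj.basicOpen 𝒜 (g' : A) : (Proj 𝒜).Opens) := ⟨y, hyU, hyg⟩
  have h1 := congrArg (fun t : Γ(twist 𝒜 (n : ℤ), U ⊓ Proj.basicOpen 𝒜 (g' : A)) =>
    (((show sectN (𝒜 := 𝒜) (n : ℤ) (op (U ⊓ Proj.basicOpen 𝒜 (g' : A))) from t).1 y' :
      twistAt 𝒜 n y) : Loc 𝒜 y)) ha
  simp only [smul_sec_val, res_sec_val] at h1
  have h2 : ((resSec (le_top : U ⊓ Proj.basicOpen 𝒜 (g' : A) ≤ ⊤) (globalOf 𝒜 g')).1 y').1 =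
      algebraMap A (Loc 𝒜 y) (g' : A) :=
    (globalOf_val g' ⟨y, trivial⟩).trans (Localization.mk_one_eq_algebraMap _)
  have h3 : ((globalOf 𝒜 g).1 ⟨y'.1, trivial⟩).1 = algebraMap A (Loc 𝒜 y) (g : A) :=
    (globalOf_val g ⟨y, trivial⟩).trans (Localization.mk_one_eq_algebraMap _)
  have h1' : ((show O (𝒜 := 𝒜) (op (U ⊓ Proj.basicOpen 𝒜 (g' : A))) from a).1 y').val *
      algebraMap A (Loc 𝒜 y) (g : A) = algebraMap A (Loc 𝒜 y) (g' : A) := by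
    rw [← h2, ← h3]; exact h1
  have hgu : IsUnit (algebraMap A (Loc 𝒜 y) (g' : A)) := by
    rw [IsLocalization.AtPrime.isUnit_to_map_iff (Loc 𝒜 y) y.asHomogeneousIdeal.toIdeal]
    exact hyg
  rw [← h1'] at hgu
  have hfu := isUnit_of_mul_isUnit_right hgu
  rw [IsLocalization.AtPrime.isUnit_to_map_iff (Loc 𝒜 y) y.asHomogeneousIdeal.toIdeal] at hfu
  exact hfu

theorem s9817 (𝒜 : ℕ → Submodule R A) [GradedAlgebra 𝒜] (X : Scheme.{u}) [CompactSpace X]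
    (j : X ⟶ Proj 𝒜) [IsOpenImmersion j] :
    ∃ d : ℕ, 0 < d ∧ CohB1.IsAmple ((Scheme.Modules.pullback j).obj (Twist.twist 𝒜 (d : ℤ))) := by
  have hYc : IsCompact (j.opensRange : Set (Proj 𝒜)) := by
    rw [Scheme.Hom.coe_opensRange]; exact isCompact_range j.continuous
  obtain ⟨d, hd, hcov⟩ := exists_deg_cover j.opensRange hYc
  refine ⟨d, hd, ?_⟩
  refine isAmple_of_iso ((Scheme.Modules.restrictFunctorIsoPullback j).app (twist 𝒜 (d : ℤ))) ?_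
  change CohB1.IsAmple ((twist 𝒜 (d : ℤ)).restrict j)
  -- local data at a point of `X`
  have key : ∀ x : X, ∃ g : 𝒜 d, j x ∈ Proj.basicOpen 𝒜 (g : A) ∧
      Proj.basicOpen 𝒜 (g : A) ≤ j.opensRange := fun x => hcov (j x) ⟨x, rfl⟩
  have hinv : PicF.IsInvertible ((twist 𝒜 (d : ℤ)).restrict j) := by
    rw [isInvertible_iff_exists_isBasisOver]
    intro x
    obtain ⟨g, hxg, hgY⟩ := key x
    have he := (isUnitSec_globalOf g
      (le_refl (ProjectiveSpectrum.basicOpen 𝒜 (g : A)))).isBasisOver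
    have hle : j ''ᵁ (j ⁻¹ᵁ Proj.basicOpen 𝒜 (g : A)) ≤ Proj.basicOpen 𝒜 (g : A) := by
      rintro _ ⟨y', hy', rfl⟩; exact hy'
    refine ⟨j ⁻¹ᵁ Proj.basicOpen 𝒜 (g : A), _, hxg,
      (isBasisOver_restrict_iff j (twist 𝒜 (d : ℤ)) _ _).mpr (he.mono hle)⟩
  refine ⟨hinv, inferInstance, fun x => ?_⟩
  obtain ⟨g, hxg, hgY⟩ := key x
  let σ : unitMod X ⟶ (twist 𝒜 (d : ℤ)).restrict j := LD.QC.resSec j (homOfElt g)
  have hσ : CohB1.genLocus _ σ = j ⁻¹ᵁ Proj.basicOpen 𝒜 (g : A) := by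
    rw [genLocus_resSec]
    ext x'
    constructor
    · intro hx'
      exact genLocus_homOfElt_inf_le g j.opensRange
        (fun y hy => by obtain ⟨g', h1, -⟩ := hcov y hy; exact ⟨g', h1⟩) ⟨hx', ⟨x', rfl⟩⟩
    · intro hx'
      exact basicOpen_le_genLocus_homOfElt g hx'
  have hσ1 : CohB1.genLocus _ (SecTwist.powHom σ (0 + 1)) = j ⁻¹ᵁ Proj.basicOpen 𝒜 (g : A) := by
    change CohB1.genLocus _ (SecTwist.tmulHom (𝟙 _) σ) = _
    rw [genLocus_tmulHom (isInvertible_unit _) hinv, genLocus_id, top_inf_eq, hσ]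
  refine ⟨0, SecTwist.powHom σ (0 + 1), ?_, ?_⟩
  · rw [hσ1]; exact hxg
  · rw [hσ1, ← Scheme.Hom.isAffineOpen_iff_of_isOpenImmersion j,
      Scheme.Hom.image_preimage_eq_opensRange_inf, inf_eq_right.mpr hgY]
    exact Proj.isAffineOpen_basicOpen 𝒜 (g : A) g.2 hd

end Groth.Agent.H1.TwCov4
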