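import Mathlib
import Groth.Prelude.Def_GrTwist
import Groth.Agent.H4.ProjG

/-! # `O(n)` along `Proj.map ψ` for `ψ` bijective in large degrees (S9574)

`awayMap_bijective_of_bijOn_ge` is copied from helper4's `Groth.Agent.H4.PConeIso` (to avoid its import closure). -/

set_option autoImplicit false

namespace Groth.Agent.H1.TwEv

open CategoryTheory AlgebraicGeometry TopologicalSpace Opposite DirectSum
open scoped HomogeneousIdeal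

universe u

section adj

variable {X Y : Scheme.{u}}

theorem isIso_adjunct_of_isIso (r : X ⟶ Y) [IsIso r] {M : Y.Modules} {N : X.Modules}
    (θ : M ⟶ (Scheme.Modules.pushforward r).obj N) [IsIso θ] :
    IsIso (((Scheme.Modules.pullbackPushforwardAdjunction r).homEquiv _ _).symm θ) := by
  haveI : (Scheme.Modules.pushforward r).IsEquivalence :=
    Functor.IsEquivalence.mk' (Scheme.Modules.pushforward (inv r))
      ((Scheme.Modules.pushforwardId X).symm ≪≫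
        Scheme.Modules.pushforwardCongr (IsIso.hom_inv_id r).symm ≪≫
        (Scheme.Modules.pushforwardComp r (inv r)).symm)
      (Scheme.Modules.pushforwardComp (inv r) r ≪≫
        Scheme.Modules.pushforwardCongr (IsIso.inv_hom_id r) ≪≫
        Scheme.Modules.pushforwardId Y)
  rw [Adjunction.homEquiv_counit]
  infer_instance

end adj

section ring

variable {R A B : Type u} [CommRing R] [CommRing A] [Algebra R A] {𝒜 : ℕ → Submodule R A} [GradedAlgebra 𝒜]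
  [CommRing B] [Algebra R B] {ℬ : ℕ → Submodule R B} [GradedAlgebra ℬ]
  (ψ : 𝒜 →+*ᵍ ℬ) (hψ : ℬ₊ ≤ (𝒜₊).map ψ) (d₀ : ℕ)

theorem awayMap_bijective_of_bijOn_ge
    (hbij : ∀ n : ℕ, d₀ ≤ n → Set.BijOn ψ (𝒜 n) (ℬ n))
    {d : ℕ} (hd : 0 < d) (s : A) (hs : s ∈ 𝒜 d) :
    Function.Bijective (HomogeneousLocalization.Away.map ψ s) := by
  constructor
  · rw [injective_iff_map_eq_zero]
    intro x hx
    obtain ⟨n, a, ha, rfl⟩ := HomogeneousLocalization.Away.mk_surjective 𝒜 hs x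
    rw [HomogeneousLocalization.Away.map_mk] at hx
    have h1 := congrArg HomogeneousLocalization.val hx
    rw [HomogeneousLocalization.Away.val_mk, HomogeneousLocalization.val_zero,
      Localization.mk_eq_mk', IsLocalization.mk'_eq_zero_iff] at h1
    obtain ⟨⟨_, m, rfl⟩, hm⟩ := h1
    have hm' : ψ s ^ m * ψ a = 0 := hm
    have h2 : ψ (s ^ (m + d₀) * a) = 0 := by
      rw [map_mul, map_pow, pow_add, mul_assoc, mul_comm (ψ s ^ d₀), ← mul_assoc, hm', zero_mul]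
    have hmem : s ^ (m + d₀) * a ∈ 𝒜 ((m + d₀) • d + n • d) :=
      SetLike.mul_mem_graded (SetLike.pow_mem_graded _ hs) ha
    have hge : d₀ ≤ (m + d₀) • d + n • d := by
      simp only [smul_eq_mul]
      nlinarith
    have h3 : s ^ (m + d₀) * a = 0 :=
      (hbij _ hge).injOn hmem (zero_mem _) (by rw [h2, map_zero])
    apply HomogeneousLocalization.val_injective
    rw [HomogeneousLocalization.Away.val_mk, HomogeneousLocalization.val_zero,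
      Localization.mk_eq_mk', IsLocalization.mk'_eq_zero_iff]
    exact ⟨⟨s ^ (m + d₀), m + d₀, rfl⟩, h3⟩
  · intro y
    obtain ⟨n, b, hb, rfl⟩ := HomogeneousLocalization.Away.mk_surjective ℬ (ψ.2 hs) y
    have hmem : b * ψ s ^ d₀ ∈ ℬ ((n + d₀) • d) := by
      have := SetLike.mul_mem_graded hb (SetLike.pow_mem_graded d₀ (ψ.2 hs))
      rwa [show n • d + d₀ • d = (n + d₀) • d by simp [add_mul]] at this
    have hge : d₀ ≤ (n + d₀) • d := by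
      simp only [smul_eq_mul]
      nlinarith
    obtain ⟨a, ha, hab⟩ := (hbij _ hge).surjOn hmem
    refine ⟨HomogeneousLocalization.Away.mk 𝒜 hs (n + d₀) a ha, ?_⟩
    rw [HomogeneousLocalization.Away.map_mk]
    apply HomogeneousLocalization.val_injective
    rw [HomogeneousLocalization.Away.val_mk, HomogeneousLocalization.Away.val_mk,
      Localization.mk_eq_mk_iff, Localization.r_iff_exists]
    refine ⟨1, ?_⟩
    simp only [OneMemClass.coe_one, one_mul]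
    rw [hab, pow_add]
    change ψ s ^ n * (b * ψ s ^ d₀) = ψ s ^ n * ψ s ^ d₀ * b
    ring

theorem isIso_map (hbij : ∀ d : ℕ, d₀ ≤ d → Set.BijOn ψ (𝒜 d) (ℬ d)) : IsIso (Proj.map ψ hψ) := by
  refine Groth.Agent.H4.ProjG.of_isPullback_openCover (P := MorphismProperty.isomorphisms Scheme.{u})
    (Proj.map ψ hψ) (Proj.affineOpenCover 𝒜).openCover
    (fun i => Spec (.of (HomogeneousLocalization.Away ℬ (ψ i.2.1))))
    (fun i => Spec.map (CommRingCat.ofHom (HomogeneousLocalization.Away.map ψ i.2.1)))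
    (fun i => Proj.awayι ℬ (ψ i.2.1) (ψ.2 i.2.2) i.1.2)
    (fun i => Groth.Agent.H4.ProjG.isPullback_awayι_map ψ hψ i.1.2 i.2.1 i.2.2) ?_
  intro i
  have hb := awayMap_bijective_of_bijOn_ge ψ d₀ hbij i.1.2 i.2.1 i.2.2
  have : IsIso (CommRingCat.ofHom (HomogeneousLocalization.Away.map ψ i.2.1)) := by
    rw [ConcreteCategory.isIso_iff_bijective]
    exact hb
  change IsIso (Spec.map (CommRingCat.ofHom (HomogeneousLocalization.Away.map ψ i.2.1)))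
  infer_instance

theorem exists_pos_notMem (y : ProjectiveSpectrum ℬ) :
    ∃ (e : ℕ) (h : B), 0 < e ∧ h ∈ ℬ e ∧ h ∉ y.asHomogeneousIdeal := by
  by_contra hcon
  push Not at hcon
  exact y.not_irrelevant_le ((HomogeneousIdeal.irrelevant_le _).mpr fun i hi x hx => hcon i x hi hx)

theorem mk_eq_zero_of_locMap_eq_zero (hbij : ∀ d : ℕ, d₀ ≤ d → Set.BijOn ψ (𝒜 d) (ℬ d))
    (y : ProjectiveSpectrum ℬ) {i : ℕ} {a : A} (ha : a ∈ 𝒜 i)
    (f : (ProjectiveSpectrum.comap ψ hψ y).asHomogeneousIdeal.toIdeal.primeCompl)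
    (h : GrTwist.locMap ψ hψ y (Localization.mk a f) = 0) :
    (Localization.mk a f : GrTwist.Loc 𝒜 (ProjectiveSpectrum.comap ψ hψ y)) = 0 := by
  classical
  rw [GrTwist.locMap_mk, Localization.mk_eq_mk', IsLocalization.mk'_eq_zero_iff] at h
  obtain ⟨⟨t, ht⟩, htm⟩ := h
  replace htm : t * ψ a = 0 := htm
  have hty : ¬ ∀ k, (decompose ℬ t k : B) ∈ y.asHomogeneousIdeal.toIdeal := fun hall =>
    ht ((y.asHomogeneousIdeal.isHomogeneous.mem_iff).mpr hall)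
  push Not at hty
  obtain ⟨k, hk⟩ := hty
  have hψa : ψ a ∈ ℬ i := ψ.map_mem ha
  have hka : (decompose ℬ t k : B) * ψ a = 0 := by
    rw [← DirectSum.coe_decompose_mul_add_of_right_mem ℬ hψa, htm, decompose_zero]
    rfl
  obtain ⟨e, hh, he, hhe, hhy⟩ := exists_pos_notMem y
  have hTmem : (decompose ℬ t k : B) * hh ∈ ℬ (k + e) :=
    SetLike.mul_mem_graded (SetLike.coe_mem _) hhe
  have hTy : (decompose ℬ t k : B) * hh ∉ y.asHomogeneousIdeal.toIdeal := fun hc =>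
    (y.isPrime.mem_or_mem hc).elim hk hhy
  have hTa : (decompose ℬ t k : B) * hh * ψ a = 0 := by
    rw [mul_right_comm, hka, zero_mul]
  have hpow : ((decompose ℬ t k : B) * hh) ^ (d₀ + 1) ∈ ℬ ((d₀ + 1) • (k + e)) :=
    SetLike.pow_mem_graded _ hTmem
  have hge : d₀ ≤ (d₀ + 1) • (k + e) := by
    rw [smul_eq_mul]
    calc d₀ ≤ (d₀ + 1) * 1 := by omega
      _ ≤ (d₀ + 1) * (k + e) := Nat.mul_le_mul_left _ (by omega)
  obtain ⟨t₀, ht₀, ht₀e⟩ := (hbij _ hge).surjOn hpow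
  have ht₀x : t₀ ∉ (ProjectiveSpectrum.comap ψ hψ y).asHomogeneousIdeal.toIdeal := by
    intro hc
    have h2 : ψ t₀ ∈ y.asHomogeneousIdeal.toIdeal := hc
    rw [ht₀e] at h2
    exact hTy (y.isPrime.mem_of_pow_mem _ h2)
  have hzero : t₀ * a = 0 := by
    have hmem : t₀ * a ∈ 𝒜 ((d₀ + 1) • (k + e) + i) := SetLike.mul_mem_graded ht₀ ha
    have hge' : d₀ ≤ (d₀ + 1) • (k + e) + i := le_trans hge (Nat.le_add_right _ _)
    refine (hbij _ hge').injOn hmem (zero_mem _) ?_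
    rw [map_mul, ht₀e, map_zero, pow_succ, mul_assoc, hTa, mul_zero]
  rw [Localization.mk_eq_mk', IsLocalization.mk'_eq_zero_iff]
  exact ⟨⟨t₀, ht₀x⟩, hzero⟩

theorem mk_eq_mk_of_map (hbij : ∀ d : ℕ, d₀ ≤ d → Set.BijOn ψ (𝒜 d) (ℬ d)) (n : ℤ)
    (y : ProjectiveSpectrum ℬ) {i j i' j' : ℕ} {a f a' f' : A}
    (ha : a ∈ 𝒜 i) (hf : f ∈ 𝒜 j) (ha' : a' ∈ 𝒜 i') (hf' : f' ∈ 𝒜 j')
    (hij : (i : ℤ) = j + n) (hij' : (i' : ℤ) = j' + n)
    (hfy : ψ f ∉ y.asHomogeneousIdeal) (hfy' : ψ f' ∉ y.asHomogeneousIdeal)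
    (h : (Localization.mk (ψ a) ⟨ψ f, hfy⟩ : GrTwist.Loc ℬ y) = Localization.mk (ψ a') ⟨ψ f', hfy'⟩) :
    (Localization.mk a ⟨f, hfy⟩ : GrTwist.Loc 𝒜 (ProjectiveSpectrum.comap ψ hψ y)) =
      Localization.mk a' ⟨f', hfy'⟩ := by
  have key : (Localization.mk a ⟨f, hfy⟩ : GrTwist.Loc 𝒜 (ProjectiveSpectrum.comap ψ hψ y)) -
      Localization.mk a' ⟨f', hfy'⟩ = Localization.mk (f' * a - f * a') (⟨f, hfy⟩ * ⟨f', hfy'⟩) :=
    Localization.sub_mk _ _ _ _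
  rw [← sub_eq_zero, key]
  have hdeg : j + i' = j' + i := by omega
  have hN : f' * a - f * a' ∈ 𝒜 (j' + i) :=
    sub_mem (SetLike.mul_mem_graded hf' ha) (by rw [← hdeg]; exact SetLike.mul_mem_graded hf ha')
  refine mk_eq_zero_of_locMap_eq_zero ψ hψ d₀ hbij y hN _ ?_
  rw [← key, map_sub, GrTwist.locMap_mk, GrTwist.locMap_mk, sub_eq_zero]
  exact h

theorem mk_eq_mk_of_map' (hbij : ∀ d : ℕ, d₀ ≤ d → Set.BijOn ψ (𝒜 d) (ℬ d)) (n : ℤ)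
    (y : ProjectiveSpectrum ℬ) (x : ProjectiveSpectrum 𝒜) (hx : ProjectiveSpectrum.comap ψ hψ y = x)
    {i j i' j' : ℕ} {a f a' f' : A}
    (ha : a ∈ 𝒜 i) (hf : f ∈ 𝒜 j) (ha' : a' ∈ 𝒜 i') (hf' : f' ∈ 𝒜 j')
    (hij : (i : ℤ) = j + n) (hij' : (i' : ℤ) = j' + n)
    (hfx : f ∉ x.asHomogeneousIdeal) (hfx' : f' ∉ x.asHomogeneousIdeal)
    (hfy : ψ f ∉ y.asHomogeneousIdeal) (hfy' : ψ f' ∉ y.asHomogeneousIdeal)
    (h : (Localization.mk (ψ a) ⟨ψ f, hfy⟩ : GrTwist.Loc ℬ y) = Localization.mk (ψ a') ⟨ψ f', hfy'⟩) :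
    (Localization.mk a ⟨f, hfx⟩ : GrTwist.Loc 𝒜 x) = Localization.mk a' ⟨f', hfx'⟩ := by
  subst hx
  exact mk_eq_mk_of_map ψ hψ d₀ hbij n y ha hf ha' hf' hij hij' hfy hfy' h

theorem exists_frac_repr (hbij : ∀ d : ℕ, d₀ ≤ d → Set.BijOn ψ (𝒜 d) (ℬ d)) (n : ℤ)
    (y : ProjectiveSpectrum ℬ) {i' j' : ℕ} {b g : B}
    (hb : b ∈ ℬ i') (hg : g ∈ ℬ j') (hgy : g ∉ y.asHomogeneousIdeal)
    (hij : (i' : ℤ) = j' + n ∨ b = 0) :
    ∃ (i j : ℕ) (a f : A) (X : B), a ∈ 𝒜 i ∧ f ∈ 𝒜 j ∧ (i : ℤ) = j + n ∧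
      X ∉ y.asHomogeneousIdeal ∧ ψ a = b * X ∧ ψ f = g * X := by
  obtain ⟨e, h, he, hhe, hhy⟩ := exists_pos_notMem y
  obtain ⟨k, hk⟩ : ∃ k : ℕ, -n ≤ (k : ℤ) := ⟨(-n).toNat, Int.self_le_toNat _⟩
  have hGmem : g * h ∈ ℬ (j' + e) := SetLike.mul_mem_graded hg hhe
  obtain ⟨p, hp⟩ : ∃ p : ℕ, p = (d₀ + k) • (j' + e) := ⟨_, rfl⟩
  have hGm : (g * h) ^ (d₀ + k) ∈ ℬ p := hp ▸ SetLike.pow_mem_graded (d₀ + k) hGmem
  have hpge : d₀ + k ≤ p := by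
    rw [hp, smul_eq_mul]
    exact Nat.le_mul_of_pos_right _ (by omega)
  have hXmem : h * (g * h) ^ (d₀ + k) ∈ ℬ (e + p) := SetLike.mul_mem_graded hhe hGm
  have hXy : h * (g * h) ^ (d₀ + k) ∉ y.asHomogeneousIdeal := by
    intro hc
    rcases y.isPrime.mem_or_mem hc with h1 | h1
    · exact hhy h1
    · rcases y.isPrime.mem_or_mem (y.isPrime.mem_of_pow_mem _ h1) with h2 | h2
      · exact hgy h2
      · exact hhy h2
  have hgX : g * (h * (g * h) ^ (d₀ + k)) ∈ ℬ (j' + (e + p)) := SetLike.mul_mem_graded hg hXmem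
  have hJn : (0 : ℤ) ≤ ((j' + (e + p) : ℕ) : ℤ) + n := by push_cast; omega
  obtain ⟨iN, hiN⟩ : ∃ iN : ℕ, (iN : ℤ) = ((j' + (e + p) : ℕ) : ℤ) + n :=
    ⟨_, Int.toNat_of_nonneg hJn⟩
  have hbX : b * (h * (g * h) ^ (d₀ + k)) ∈ ℬ iN := by
    rcases hij with hij | hb0
    · have : iN = i' + (e + p) := by push_cast at hiN; omega
      rw [this]; exact SetLike.mul_mem_graded hb hXmem
    · rw [hb0, zero_mul]; exact zero_mem _
  have hd1 : d₀ ≤ j' + (e + p) := by omega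
  have hd2 : d₀ ≤ iN := by push_cast at hiN; omega
  obtain ⟨f, hf, hfe⟩ := (hbij _ hd1).surjOn hgX
  obtain ⟨a, ha, hae⟩ := (hbij _ hd2).surjOn hbX
  exact ⟨iN, j' + (e + p), a, f, _, ha, hf, hiN, hXy, hae, hfe⟩

theorem exists_local_repr (hbij : ∀ d : ℕ, d₀ ≤ d → Set.BijOn ψ (𝒜 d) (ℬ d)) (n : ℤ)
    (V : Opens (ProjectiveSpectrum.top ℬ)) (t : GrTwist.sectN (𝒜 := ℬ) n (op V)) (y : V) :
    ∃ (W' : Opens (ProjectiveSpectrum.top ℬ)) (_ : y.1 ∈ W') (hWV : W' ≤ V) (i j : ℕ) (a f : A)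
      (_ : a ∈ 𝒜 i) (_ : f ∈ 𝒜 j) (hf : ∀ y' : W', ψ f ∉ y'.1.asHomogeneousIdeal),
      (i : ℤ) = j + n ∧
      ∀ y' : W', ((t.1 ⟨y'.1, hWV y'.2⟩ : GrTwist.twistAt ℬ n y'.1) : GrTwist.Loc ℬ y'.1) =
        Localization.mk (ψ a) ⟨ψ f, hf y'⟩ := by
  obtain ⟨W₁, hyW₁, i₁, i', j', b, g, hg, hij, hfrac⟩ := t.2 y
  obtain ⟨i, j, a, f, X, ha, hf, hijn, hXy, hae, hfe⟩ :=
    exists_frac_repr ψ d₀ hbij n y.1 b.2 g.2 (hg ⟨y.1, hyW₁⟩) hij
  refine ⟨W₁ ⊓ ProjectiveSpectrum.basicOpen ℬ X, ⟨hyW₁, hXy⟩, inf_le_left.trans i₁.le, i, j, a, f,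
    ha, hf, fun y' hc => ?_, hijn, fun y' => ?_⟩
  · rw [hfe] at hc
    rcases y'.1.isPrime.mem_or_mem hc with h1 | h1
    · exact hg ⟨y'.1, y'.2.1⟩ h1
    · exact y'.2.2 h1
  · refine (hfrac ⟨y'.1, y'.2.1⟩).trans ?_
    refine Localization.mk_eq_mk_iff.mpr (Localization.r_of_eq ?_)
    show ψ f * (b : B) = (g : B) * ψ a
    rw [hae, hfe]; ring

theorem comapApp_injective (hbij : ∀ d : ℕ, d₀ ≤ d → Set.BijOn ψ (𝒜 d) (ℬ d)) (n : ℤ)
    (U : Opens (ProjectiveSpectrum.top 𝒜)) (V : Opens (ProjectiveSpectrum.top ℬ))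
    (hUV : V.1 ⊆ ProjectiveSpectrum.comap ψ hψ ⁻¹' U.1)
    (hVU : ∀ y, ProjectiveSpectrum.comap ψ hψ y ∈ U.1 → y ∈ V.1)
    (hsurj : Function.Surjective (ProjectiveSpectrum.comap ψ hψ)) :
    Function.Injective (GrTwist.comapApp ψ hψ n U V hUV) := by
  rw [injective_iff_map_eq_zero]
  intro s hs
  refine Subtype.ext (funext fun x => Subtype.ext ?_)
  obtain ⟨x, hxU⟩ := x
  obtain ⟨y, rfl⟩ := hsurj x
  have hyV : y ∈ V.1 := hVU y hxU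
  obtain ⟨W, hxW, iWU, i, j, a, f, hf, hij, hfrac⟩ := s.2 ⟨_, hxU⟩
  have e1 : ((s.1 ⟨_, hxU⟩ : GrTwist.twistAt 𝒜 n _) : GrTwist.Loc 𝒜 _) =
      Localization.mk (a : A) ⟨f, hf ⟨_, hxW⟩⟩ := hfrac ⟨_, hxW⟩
  have h0 : GrTwist.locMap ψ hψ y (s.1 ⟨ProjectiveSpectrum.comap ψ hψ y, hxU⟩).1 = 0 :=
    congrArg (fun t : GrTwist.sectN (𝒜 := ℬ) n (op V) =>
      ((t.1 ⟨y, hyV⟩ : GrTwist.twistAt ℬ n y) : GrTwist.Loc ℬ y)) hs
  rw [e1] at h0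
  exact e1.trans (mk_eq_zero_of_locMap_eq_zero ψ hψ d₀ hbij y a.2 _ h0)

theorem comapApp_surjective (hbij : ∀ d : ℕ, d₀ ≤ d → Set.BijOn ψ (𝒜 d) (ℬ d)) (n : ℤ)
    (U : Opens (ProjectiveSpectrum.top 𝒜)) (V : Opens (ProjectiveSpectrum.top ℬ))
    (hUV : V.1 ⊆ ProjectiveSpectrum.comap ψ hψ ⁻¹' U.1)
    (hVU : ∀ y, ProjectiveSpectrum.comap ψ hψ y ∈ U.1 → y ∈ V.1)
    (hsurj : Function.Surjective (ProjectiveSpectrum.comap ψ hψ))
    (hinj : Function.Injective (ProjectiveSpectrum.comap ψ hψ))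
    (hopen : IsOpenMap (ProjectiveSpectrum.comap ψ hψ)) :
    Function.Surjective (GrTwist.comapApp ψ hψ n U V hUV) := by
  intro t
  have hex : ∀ x : U, ∃ q : GrTwist.twistAt 𝒜 n x.1,
      ∃ (y : ProjectiveSpectrum ℬ) (_ : ProjectiveSpectrum.comap ψ hψ y = x.1)
        (W' : Opens (ProjectiveSpectrum.top ℬ)) (_ : y ∈ W') (hWV : W' ≤ V) (i j : ℕ) (a f : A)
        (_ : a ∈ 𝒜 i) (_ : f ∈ 𝒜 j) (hf : ∀ y' : W', ψ f ∉ y'.1.asHomogeneousIdeal)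
        (hfx : f ∉ x.1.asHomogeneousIdeal),
        (i : ℤ) = j + n ∧
        (∀ y' : W', ((t.1 ⟨y'.1, hWV y'.2⟩ : GrTwist.twistAt ℬ n y'.1) : GrTwist.Loc ℬ y'.1) =
          Localization.mk (ψ a) ⟨ψ f, hf y'⟩) ∧
        (q : GrTwist.Loc 𝒜 x.1) = Localization.mk a ⟨f, hfx⟩ := by
    rintro ⟨x, hxU⟩
    obtain ⟨y, rfl⟩ := hsurj x
    have hyV : y ∈ V.1 := hVU y hxU
    obtain ⟨W', hyW, hWV, i, j, a, f, ha, hf, hfW, hij, hrep⟩ :=
      exists_local_repr ψ d₀ hbij n V t ⟨y, hyV⟩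
    have hfx : f ∉ (ProjectiveSpectrum.comap ψ hψ y).asHomogeneousIdeal := hfW ⟨y, hyW⟩
    exact ⟨⟨Localization.mk a ⟨f, hfx⟩,
      Submodule.subset_span ⟨i, j, ⟨a, ha⟩, ⟨f, hf⟩, hfx, hij, rfl⟩⟩,
      y, rfl, W', hyW, hWV, i, j, a, f, ha, hf, hfW, hfx, hij, hrep, rfl⟩
  choose s y hy W' hyW hWV i j a f ha hf hfW hfx hij hrep hs using hex
  have hloc : (GrTwist.isLocFracN 𝒜 n).pred s := by
    intro x
    have hNU : (⟨ProjectiveSpectrum.comap ψ hψ '' (W' x).1, hopen _ (W' x).2⟩ :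
        Opens (ProjectiveSpectrum.top 𝒜)) ≤ U := by
      rintro _ ⟨y', hy'W, rfl⟩
      exact hUV (hWV x hy'W)
    refine ⟨⟨ProjectiveSpectrum.comap ψ hψ '' (W' x).1, hopen _ (W' x).2⟩, ⟨y x, hyW x, hy x⟩,
      homOfLE hNU, i x, j x, ⟨a x, ha x⟩, ⟨f x, hf x⟩, ?_, Or.inl (hij x), ?_⟩
    · rintro ⟨_, y', hy'W, rfl⟩
      exact hfW x ⟨y', hy'W⟩
    · rintro ⟨_, y', hy'W, rfl⟩
      have hx'U : ProjectiveSpectrum.comap ψ hψ y' ∈ U.1 := hUV (hWV x hy'W)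
      have hyy : y ⟨ProjectiveSpectrum.comap ψ hψ y', hx'U⟩ = y' := hinj (hy _)
      have hmem : y ⟨ProjectiveSpectrum.comap ψ hψ y', hx'U⟩ ∈ W' x := by rw [hyy]; exact hy'W
      have r1 := hrep x ⟨y ⟨ProjectiveSpectrum.comap ψ hψ y', hx'U⟩, hmem⟩
      have r2 := hrep ⟨ProjectiveSpectrum.comap ψ hψ y', hx'U⟩ ⟨_, hyW _⟩
      refine (hs ⟨ProjectiveSpectrum.comap ψ hψ y', hx'U⟩).trans ?_
      exact mk_eq_mk_of_map' ψ hψ d₀ hbij n _ _ (hy ⟨ProjectiveSpectrum.comap ψ hψ y', hx'U⟩)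
        (ha _) (hf _) (ha x) (hf x) (hij _) (hij x) _ _ (hfW _ ⟨_, hyW _⟩) (hfW x ⟨_, hmem⟩)
        (r2.symm.trans r1)
  refine ⟨⟨s, hloc⟩, Subtype.ext (funext fun y₀ => Subtype.ext ?_)⟩
  obtain ⟨y₀, hy₀V⟩ := y₀
  have hyy : y ⟨ProjectiveSpectrum.comap ψ hψ y₀, hUV hy₀V⟩ = y₀ := hinj (hy _)
  have hmem : y₀ ∈ W' ⟨ProjectiveSpectrum.comap ψ hψ y₀, hUV hy₀V⟩ := by
    have := hyW ⟨ProjectiveSpectrum.comap ψ hψ y₀, hUV hy₀V⟩
    rwa [hyy] at this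
  exact (congrArg (GrTwist.locMap ψ hψ y₀) (hs ⟨ProjectiveSpectrum.comap ψ hψ y₀, hUV hy₀V⟩)).trans
    ((GrTwist.locMap_mk ψ hψ y₀ _ _).trans (hrep ⟨ProjectiveSpectrum.comap ψ hψ y₀, hUV hy₀V⟩ ⟨y₀, hmem⟩).symm)

theorem isIso_comap (hbij : ∀ d : ℕ, d₀ ≤ d → Set.BijOn ψ (𝒜 d) (ℬ d))
    (hr : IsIso (Proj.map ψ hψ)) (n : ℤ) : IsIso (GrTwist.comap ψ hψ n) := by
  have hbijr : Function.Bijective (ProjectiveSpectrum.comap ψ hψ) :=
    (Proj.map ψ hψ).homeomorph.bijective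
  have hopen : IsOpenMap (ProjectiveSpectrum.comap ψ hψ) :=
    (Proj.map ψ hψ).homeomorph.isOpenMap
  rw [Scheme.Modules.Hom.isIso_iff_isIso_app]
  intro U
  rw [ConcreteCategory.isIso_iff_bijective]
  exact ⟨comapApp_injective ψ hψ d₀ hbij n U _ Set.Subset.rfl (fun y hy => hy) hbijr.2,
    comapApp_surjective ψ hψ d₀ hbij n U _ Set.Subset.rfl (fun y hy => hy) hbijr.2 hbijr.1 hopen⟩

theorem main (hbij : ∀ d : ℕ, d₀ ≤ d → Set.BijOn ψ (𝒜 d) (ℬ d)) (n : ℤ) :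
    IsIso (((Scheme.Modules.pullbackPushforwardAdjunction (Proj.map ψ hψ)).homEquiv _ _).symm
      (GrTwist.comap ψ hψ n)) := by
  haveI hr : IsIso (Proj.map ψ hψ) := isIso_map ψ hψ d₀ hbij
  haveI := isIso_comap ψ hψ d₀ hbij hr n
  exact isIso_adjunct_of_isIso (Proj.map ψ hψ) (GrTwist.comap ψ hψ n)

end ring

end Groth.Agent.H1.TwEv
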