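import Mathlib
import Groth.Agent.Lib.Helper1.GradedMonomial
open DirectSum

/-! # Monomial splitting for graded algebras generated in several degrees (numeric core and
an induction principle over monomials). -/

namespace Groth.Agent.H1.TwGen

open Groth.Agent.H1.GM

/-- numeric core: from `∑ αᵢ dᵢ = ∑ κᵢ dᵢ + n` with `n ≥ (s-1)(l-1)` one finds `β` of weight `n`
with `βᵢ ≤ αᵢ` outside `i0` and the support of `κ`. -/
theorem numeric {s : ℕ} (d : Fin s → ℕ) (hd : ∀ i, 0 < d i) (i0 : Fin s) (α κ : Fin s → ℕ) (n : ℕ)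
    (hn : (s - 1) * (Finset.univ.lcm d - 1) ≤ n)
    (h : ∑ i, α i * d i = ∑ i, κ i * d i + n) :
    ∃ β : Fin s → ℕ, (∑ i, β i * d i = n) ∧ ∀ i, i ≠ i0 → κ i = 0 → β i ≤ α i := by
  classical
  obtain ⟨l, hl⟩ : ∃ l, l = Finset.univ.lcm d := ⟨_, rfl⟩
  rw [← hl] at hn
  have hdl : ∀ i, d i ∣ l := fun i => hl ▸ Finset.dvd_lcm (Finset.mem_univ i)
  have hlpos : 0 < l := by
    apply Nat.pos_of_ne_zero
    rw [hl, Ne, Finset.lcm_eq_zero_iff]
    rintro ⟨i, -, hi⟩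
    exact (hd i).ne' hi
  choose m hm using hdl
  have hmpos : ∀ i, 0 < m i := fun i => by
    rcases Nat.eq_zero_or_pos (m i) with h0 | h0
    · have := hm i; rw [h0, mul_zero] at this; omega
    · exact h0
  have hmZ : ∀ i, (0 : ℤ) < (m i : ℤ) := fun i => by exact_mod_cast hmpos i
  have hlZ : ∀ i, (l : ℤ) = (d i : ℤ) * (m i : ℤ) := fun i => by exact_mod_cast hm i
  have hdZ : ∀ i, (1 : ℤ) ≤ (d i : ℤ) := fun i => by exact_mod_cast hd i
  obtain ⟨c, hcdef⟩ : ∃ c : Fin s → ℤ, ∀ i, c i = (α i : ℤ) - (κ i : ℤ) := ⟨_, fun _ => rfl⟩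
  obtain ⟨q, r, hc, hr0, hrlt⟩ : ∃ q r : Fin s → ℤ, (∀ i, c i = (m i : ℤ) * q i + r i) ∧
      (∀ i, 0 ≤ r i) ∧ (∀ i, r i < (m i : ℤ)) :=
    ⟨fun i => c i / (m i : ℤ), fun i => c i % (m i : ℤ),
      fun i => by have := Int.emod_add_mul_ediv (c i) (m i : ℤ); linarith,
      fun i => Int.emod_nonneg _ (hmZ i).ne', fun i => Int.emod_lt_of_pos _ (hmZ i)⟩
  have hsum : (∑ i, c i * (d i : ℤ)) = (n : ℤ) := by
    have h' : (∑ i, ((α i : ℤ) * (d i : ℤ))) = ∑ i, ((κ i : ℤ) * (d i : ℤ)) + (n : ℤ) := by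
      exact_mod_cast h
    simp only [hcdef, sub_mul, Finset.sum_sub_distrib]
    linarith
  obtain ⟨Q, hQdef⟩ : ∃ Q : ℤ, Q = c i0 + ∑ i ∈ Finset.univ.erase i0, q i * (m i0 : ℤ) := ⟨_, rfl⟩
  have hQ : Q * (d i0 : ℤ) + ∑ i ∈ Finset.univ.erase i0, r i * (d i : ℤ) = (n : ℤ) := by
    rw [← hsum, ← Finset.add_sum_erase _ _ (Finset.mem_univ i0), hQdef]
    simp only [add_mul, Finset.sum_mul]
    rw [add_assoc, ← Finset.sum_add_distrib]
    congr 1
    apply Finset.sum_congr rfl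
    intro i _
    rw [hc i]
    have h1 := hlZ i
    have h2 := hlZ i0
    have h3 : q i * (m i0 : ℤ) * (d i0 : ℤ) = q i * ((m i : ℤ) * (d i : ℤ)) := by
      rw [mul_assoc, mul_comm (m i0 : ℤ), ← h2, h1, mul_comm (d i : ℤ)]
    rw [h3]; ring
  have hbound : ∑ i ∈ Finset.univ.erase i0, r i * (d i : ℤ) ≤ (n : ℤ) := by
    have h1 : ∀ i ∈ Finset.univ.erase i0, r i * (d i : ℤ) ≤ (l : ℤ) - 1 := by
      intro i _
      have := hrlt i
      have h3 : r i * (d i : ℤ) ≤ ((m i : ℤ) - 1) * (d i : ℤ) :=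
        mul_le_mul_of_nonneg_right (by linarith) (by linarith [hdZ i])
      have h4 : ((m i : ℤ) - 1) * (d i : ℤ) = (l : ℤ) - (d i : ℤ) := by rw [hlZ i]; ring
      linarith [hdZ i]
    have h2 := Finset.sum_le_sum h1
    rw [Finset.sum_const, Finset.card_erase_of_mem (Finset.mem_univ i0), Finset.card_univ,
      Fintype.card_fin, nsmul_eq_mul] at h2
    have h5 : ((s - 1 : ℕ) : ℤ) * ((l - 1 : ℕ) : ℤ) ≤ (n : ℤ) := by exact_mod_cast hn
    have h6 : ((l - 1 : ℕ) : ℤ) = (l : ℤ) - 1 := by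
      rw [Nat.cast_sub hlpos]; simp
    rw [h6] at h5
    linarith
  have hQ0 : 0 ≤ Q := by
    by_contra hneg
    push Not at hneg
    have hd0 : (0 : ℤ) < (d i0 : ℤ) := by linarith [hdZ i0]
    have := mul_neg_of_neg_of_pos hneg hd0
    linarith
  refine ⟨fun i => if i = i0 then Q.toNat else (r i).toNat, ?_, ?_⟩
  · have : ((∑ i, (if i = i0 then Q.toNat else (r i).toNat) * d i : ℕ) : ℤ) = (n : ℤ) := by
      push_cast
      rw [← hQ, ← Finset.add_sum_erase _ _ (Finset.mem_univ i0)]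
      congr 1
      · rw [if_pos rfl, Int.toNat_of_nonneg hQ0]
      · apply Finset.sum_congr rfl
        intro i hi
        rw [if_neg (Finset.ne_of_mem_erase hi), Int.toNat_of_nonneg (hr0 i)]
    exact_mod_cast this
  · intro i hi hκ
    show (if i = i0 then Q.toNat else (r i).toNat) ≤ α i
    rw [if_neg hi, Int.toNat_le]
    have hci : c i = (α i : ℤ) := by rw [hcdef, hκ]; simp
    have hq0 : 0 ≤ q i := by
      by_contra hq
      push Not at hq
      have h1 : q i ≤ -1 := by omega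
      have h2 : (m i : ℤ) * q i ≤ (m i : ℤ) * (-1) := mul_le_mul_of_nonneg_left h1 (hmZ i).le
      have h3 := hc i
      have h4 := hrlt i
      have h5 : (0 : ℤ) ≤ (α i : ℤ) := Int.natCast_nonneg _
      linarith
    have h1 := mul_nonneg (hmZ i).le hq0
    have h2 := hc i
    linarith

variable {R A : Type*} [CommRing R] [CommRing A] [Algebra R A] (𝒜 : ℕ → Submodule R A)
  [GradedAlgebra 𝒜] {s : ℕ} (f : Fin s → A) (deg : Fin s → ℕ)

theorem mon_eq_prod (α : Fin s →₀ ℕ) : mon f α = ∏ i, f i ^ α i := by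
  unfold mon
  exact Finsupp.prod_fintype _ _ (fun i => pow_zero _)

theorem wt_eq_sum (α : Fin s →₀ ℕ) : wt deg α = ∑ i, α i * deg i := by
  unfold wt
  exact Finsupp.sum_fintype _ _ (fun i => zero_mul _)

variable {f deg} in
theorem prod_pow_mem (hf : ∀ i, f i ∈ 𝒜 (deg i)) (g : Fin s → ℕ) (S : Finset (Fin s)) :
    ∏ i ∈ S, f i ^ g i ∈ 𝒜 (∑ i ∈ S, g i * deg i) := by
  classical
  induction S using Finset.induction_on with
  | empty => simpa using SetLike.one_mem_graded 𝒜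
  | insert a S ha ih =>
    rw [Finset.prod_insert ha, Finset.sum_insert ha]
    refine SetLike.mul_mem_graded ?_ ih
    have := SetLike.pow_mem_graded (g a) (hf a)
    rwa [smul_eq_mul] at this

theorem prod_pow_mul (a m b c : Fin s → ℕ) (h : ∀ i, a i + m i = b i + c i) :
    (∏ i, f i ^ a i) * ∏ i, f i ^ m i = (∏ i, f i ^ b i) * ∏ i, f i ^ c i := by
  simp only [← Finset.prod_mul_distrib, ← pow_add, h]

theorem prod_pow_notMem {I : Ideal A} (hI : I.IsPrime) (μ : Fin s → ℕ)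
    (h : ∀ i, μ i ≠ 0 → f i ∉ I) : ∏ i, f i ^ μ i ∉ I := by
  intro hmem
  rw [Ideal.IsPrime.prod_mem_iff] at hmem
  obtain ⟨i, -, hi⟩ := hmem
  by_cases h0 : μ i = 0
  · rw [h0, pow_zero] at hi
    exact hI.ne_top ((Ideal.eq_top_iff_one _).mpr hi)
  · exact h i h0 (hI.mem_of_pow_mem _ hi)

theorem notMem_of_prod_pow_notMem {I : Ideal A} (κ : Fin s → ℕ) (h : ∏ i, f i ^ κ i ∉ I)
    (i : Fin s) (hi : κ i ≠ 0) : f i ∉ I := by
  intro hfi
  apply h
  have h1 : f i ^ κ i ∈ I := Ideal.pow_mem_of_mem I hfi _ (Nat.pos_of_ne_zero hi)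
  exact Ideal.mem_of_dvd I (Finset.dvd_prod_of_mem _ (Finset.mem_univ i)) h1

variable {f deg} in
theorem exists_mon_notMem (hf : ∀ i, f i ∈ 𝒜 (deg i))
    (hgen0 : Algebra.adjoin (𝒜 0) (Set.range f) = ⊤) {I : Ideal A} {j : ℕ} {t : A}
    (ht : t ∈ 𝒜 j) (htI : t ∉ I) :
    ∃ κ : Fin s →₀ ℕ, wt deg κ = j ∧ mon f κ ∉ I := by
  by_contra hcon
  push Not at hcon
  exact htI (le_of_monomials' 𝒜 hf hgen0 j I.toAddSubmonoid
    (fun c _ t ht => I.mul_mem_left c ht) hcon t ht)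

variable {f deg} in
/-- induction over `𝒜 n` via monomials with coefficients in `𝒜 0`. -/
theorem induction_monomials (hf : ∀ i, f i ∈ 𝒜 (deg i))
    (hgen0 : Algebra.adjoin (𝒜 0) (Set.range f) = ⊤) (n : ℕ)
    (P : 𝒜 n → Prop) (h0 : P 0) (hadd : ∀ a b, P a → P b → P (a + b))
    (hmon : ∀ (c : A) (_ : c ∈ 𝒜 0) (α : Fin s →₀ ℕ) (_ : wt deg α = n)
      (h : c * mon f α ∈ 𝒜 n), P ⟨c * mon f α, h⟩) :
    ∀ a : 𝒜 n, P a := by
  classical
  let T : AddSubmonoid A :=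
    { carrier := {a | ∀ c ∈ 𝒜 0, P (decompose 𝒜 (c * a) n)}
      zero_mem' := fun c _ => by
        simp only [mul_zero, decompose_zero, DirectSum.zero_apply]
        exact h0
      add_mem' := fun {a b} ha hb c hc => by
        rw [mul_add, decompose_add, DirectSum.add_apply]
        exact hadd _ _ (ha c hc) (hb c hc) }
  have hT : ∀ x ∈ 𝒜 n, x ∈ T := by
    apply le_of_monomials' 𝒜 hf hgen0 n T
    · intro c' hc' a ha
      show ∀ c ∈ 𝒜 0, P (decompose 𝒜 (c * (c' * a)) n)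
      intro c hc
      have ha' : ∀ c ∈ 𝒜 0, P (decompose 𝒜 (c * a) n) := ha
      have e : c * (c' * a) = (c * c') * a := by ring
      rw [e]
      exact ha' (c * c') (by simpa using SetLike.mul_mem_graded hc hc')
    · intro α hα
      show ∀ c ∈ 𝒜 0, P (decompose 𝒜 (c * mon f α) n)
      intro c hc
      have hmem : c * mon f α ∈ 𝒜 n := by
        have := SetLike.mul_mem_graded hc (mon_mem 𝒜 hf α)
        rwa [zero_add, hα] at this
      have e : decompose 𝒜 (c * mon f α) n = ⟨c * mon f α, hmem⟩ :=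
        Subtype.ext (decompose_of_mem_same 𝒜 hmem)
      rw [e]
      exact hmon c hc α hα hmem
  intro a
  have h1 : ∀ c ∈ 𝒜 0, P (decompose 𝒜 (c * (a : A)) n) := hT a.1 a.2
  have h2 := h1 1 SetLike.GradedOne.one_mem
  rw [one_mul] at h2
  have h3 : decompose 𝒜 (a : A) n = a := Subtype.ext (decompose_of_mem_same 𝒜 a.2)
  rwa [h3] at h2

end Groth.Agent.H1.TwGen
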