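import Mathlib
import Groth.Agent.Lib.Helper1.TwCov3
import Groth.Agent.Lib.Helper1.TwGenA
open AlgebraicGeometry CategoryTheory Limits TopologicalSpace Opposite

/-! # `O(n)` on `Proj` of an algebra generated in several degrees is generated by `𝒜 n` for
`n ≥ (s-1)(l-1)`. -/

namespace Groth.Agent.H1.TwGen

universe u

open Groth.Agent.LD.QC Groth.Agent.LD.TW Twist Groth.Agent.H1.GM

variable {R A : Type u} [CommRing R] [CommRing A] [Algebra R A] {𝒜 : ℕ → Submodule R A}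
  [GradedAlgebra 𝒜]

/-- the section `a / w` of `O(m)` over `D₊(w)`. -/
def fracSec {p q : ℕ} {m : ℤ} (a : 𝒜 p) (w : 𝒜 q) (h : (p : ℤ) = q + m) :
    sectN (𝒜 := 𝒜) m (op (ProjectiveSpectrum.basicOpen 𝒜 (w : A))) :=
  ⟨fun x => ⟨Localization.mk a.1 ⟨w.1, x.2⟩, mk_mem_twistAt a w x.2 h⟩,
   fun x => ⟨ProjectiveSpectrum.basicOpen 𝒜 (w : A), x.2, 𝟙 _, p, q, a, w, fun y => y.2,
    Or.inl h, fun _ => rfl⟩⟩

lemma fracSec_val {p q : ℕ} {m : ℤ} (a : 𝒜 p) (w : 𝒜 q) (h : (p : ℤ) = q + m)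
    (x : ProjectiveSpectrum.basicOpen 𝒜 (w : A)) :
    (((fracSec a w h).1 x : twistAt 𝒜 m x.1) : Loc 𝒜 x.1) = Localization.mk a.1 ⟨w.1, x.2⟩ := rfl

lemma fracSec_zero {p q : ℕ} {m : ℤ} (w : 𝒜 q) (h : (p : ℤ) = q + m) :
    fracSec (0 : 𝒜 p) w h = 0 :=
  sectN_ext fun _ => Localization.mk_zero _

lemma fracSec_add {p q : ℕ} {m : ℤ} (a b : 𝒜 p) (w : 𝒜 q) (h : (p : ℤ) = q + m) :
    fracSec (a + b) w h = fracSec a w h + fracSec b w h :=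
  sectN_ext fun _ => (Localization.add_mk_self _ _ _).symm

/-- a section with values `(c b) / w`, `deg c = deg w`, is a multiple of the global section `b / 1`. -/
theorem exists_smul_eq (n : ℕ) {V : (Proj 𝒜).Opens} (τ : Γ(twist 𝒜 (n : ℤ), V)) {q : ℕ}
    (c : 𝒜 q) (w : 𝒜 q) (b : 𝒜 n) (hVw : V ≤ Proj.basicOpen 𝒜 (w : A))
    (hτ : ∀ y : V, (((show sectN (𝒜 := 𝒜) (n : ℤ) (op V) from τ).1 y : twistAt 𝒜 n y.1) :
      Loc 𝒜 y.1) = Localization.mk ((c : A) * (b : A)) ⟨w.1, hVw y.2⟩) :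
    ∃ r : Γ(Proj 𝒜, V), τ = r • (twist 𝒜 (n : ℤ)).presheaf.map (homOfLE (le_top : V ≤ ⊤)).op
      (show Γ(twist 𝒜 (n : ℤ), ⊤) from globalOf 𝒜 b) := by
  obtain ⟨r, hr⟩ := ofO_surjective (op V) (resSec hVw (fracSec c w (by simp)))
  refine ⟨r, ?_⟩
  have key : (show sectN (𝒜 := 𝒜) (n : ℤ) (op V) from τ) =
      (show sectN (𝒜 := 𝒜) (n : ℤ) (op V) from
        (show Γ(Proj 𝒜, V) from r) • (twist 𝒜 (n : ℤ)).presheaf.map (homOfLE (le_top : V ≤ ⊤)).op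
          (show Γ(twist 𝒜 (n : ℤ), ⊤) from globalOf 𝒜 b)) := by
    apply sectN_ext
    intro y
    refine (hτ y).trans ?_
    refine Eq.trans ?_ (smul_sec_val (show Γ(Proj 𝒜, V) from r)
      ((twist 𝒜 (n : ℤ)).presheaf.map (homOfLE (le_top : V ≤ ⊤)).op
        (show Γ(twist 𝒜 (n : ℤ), ⊤) from globalOf 𝒜 b)) y).symm
    have h1 : ((show O (𝒜 := 𝒜) (op V) from r).1 y).val = Localization.mk c.1 ⟨w.1, hVw y.2⟩ :=
      congrArg (fun s : sectN (𝒜 := 𝒜) 0 (op V) => ((s.1 y : twistAt 𝒜 0 y.1) : Loc 𝒜 y.1)) hr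
    have h2 := globalOf_val b ⟨y.1, trivial⟩
    refine Eq.trans ?_ (congrArg₂ (· * ·) h1 h2).symm
    rw [Localization.mk_mul]
    congr 1
    exact Subtype.ext (mul_one _).symm
  exact key

/-- the germ at `x` of the section `a / t` of `O(n)`. -/
noncomputable def germFrac (n : ℕ) (x : Proj 𝒜) {j : ℕ} (t : 𝒜 j)
    (ht : x ∈ Proj.basicOpen 𝒜 (t : A)) (a : 𝒜 (j + n)) :
    (twist 𝒜 (n : ℤ)).presheaf.stalk x :=
  (twist 𝒜 (n : ℤ)).presheaf.germ (Proj.basicOpen 𝒜 (t : A)) x ht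
    (show Γ(twist 𝒜 (n : ℤ), Proj.basicOpen 𝒜 (t : A)) from fracSec a t (by push_cast; ring))

lemma germFrac_zero (n : ℕ) (x : Proj 𝒜) {j : ℕ} (t : 𝒜 j) (ht : x ∈ Proj.basicOpen 𝒜 (t : A)) :
    germFrac n x t ht 0 = 0 := by
  unfold germFrac
  rw [fracSec_zero]
  exact map_zero _

lemma germFrac_add (n : ℕ) (x : Proj 𝒜) {j : ℕ} (t : 𝒜 j) (ht : x ∈ Proj.basicOpen 𝒜 (t : A))
    (a b : 𝒜 (j + n)) :
    germFrac n x t ht (a + b) = germFrac n x t ht a + germFrac n x t ht b := by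
  unfold germFrac
  rw [fracSec_add]
  exact map_add _ _ _

/-- locally a section of `O(n)` is a fraction `a / t` with `a ∈ 𝒜 (j + n)`, `t ∈ 𝒜 j`. -/
lemma exists_local_frac (n : ℕ) {V : (Proj 𝒜).Opens} (σ : Γ(twist 𝒜 (n : ℤ), V)) (x : Proj 𝒜)
    (hxV : x ∈ V) :
    ∃ (W : (Proj 𝒜).Opens) (_ : x ∈ W) (hWV : W ≤ V) (j : ℕ) (t : 𝒜 j)
      (hWt : W ≤ Proj.basicOpen 𝒜 (t : A)) (a : 𝒜 (j + n)),
      ∀ y : W, (((show sectN (𝒜 := 𝒜) (n : ℤ) (op V) from σ).1 ⟨y.1, hWV y.2⟩ :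
        twistAt 𝒜 n y.1) : Loc 𝒜 y.1) = Localization.mk (a : A) ⟨t.1, hWt y.2⟩ := by
  have hσ : (isLocFracN 𝒜 (n : ℤ)).pred (show sectN (𝒜 := 𝒜) (n : ℤ) (op V) from σ).1 :=
    (show sectN (𝒜 := 𝒜) (n : ℤ) (op V) from σ).2
  obtain ⟨V', hxV', ι, i, j, ⟨a, a_mem⟩, ⟨t, t_mem⟩, nin, ca, wa⟩ := hσ ⟨x, hxV⟩
  replace ca : (i : ℤ) = j + n ∨ a = 0 := ca
  obtain ⟨a', ha'⟩ : ∃ a' : 𝒜 (j + n), (a' : A) = a := by
    rcases ca with h | h
    · have hij : i = j + n := by omega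
      subst hij
      exact ⟨⟨a, a_mem⟩, rfl⟩
    · exact ⟨0, by rw [h]; rfl⟩
  refine ⟨V', hxV', leOfHom ι, j, ⟨t, t_mem⟩, fun y hy => nin ⟨y, hy⟩, a', fun y => ?_⟩
  refine (wa ⟨y.1, y.2⟩).trans ?_
  exact Eq.trans (b := Localization.mk (a' : A) ⟨t, nin ⟨y.1, y.2⟩⟩) (by rw [ha']) rfl

section Main

variable {s : ℕ} (f : Fin s → A) (deg : Fin s → ℕ) (hdeg : ∀ i, 0 < deg i)
  (hf : ∀ i, f i ∈ 𝒜 (deg i)) (hgen : Algebra.adjoin R (Set.range f) = ⊤)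
  (hgen0 : Algebra.adjoin (𝒜 0) (Set.range f) = ⊤)

include hdeg hf hgen hgen0 in
theorem germFrac_mem (n : ℕ) (hn : (s - 1) * (Finset.univ.lcm deg - 1) ≤ n) (x : Proj 𝒜)
    (Sp : Submodule ((Proj 𝒜).presheaf.stalk x) ((twist 𝒜 (n : ℤ)).presheaf.stalk x))
    (hSp : ∀ b : 𝒜 n, (twist 𝒜 (n : ℤ)).presheaf.germ ⊤ x trivial
      (show Γ(twist 𝒜 (n : ℤ), ⊤) from globalOf 𝒜 b) ∈ Sp)
    {j : ℕ} (t : 𝒜 j) (ht : x ∈ Proj.basicOpen 𝒜 (t : A)) (a : 𝒜 (j + n)) :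
    germFrac n x t ht a ∈ Sp := by
  classical
  have hxI : x.asHomogeneousIdeal.toIdeal.IsPrime := x.isPrime
  obtain ⟨i0, hi0'⟩ := Groth.Agent.H1.TwCov3.exists_mem_basicOpen f deg hf hgen x
  have hi0 : f i0 ∉ x.asHomogeneousIdeal.toIdeal := hi0'
  have htx : (t : A) ∉ x.asHomogeneousIdeal.toIdeal := ht
  obtain ⟨κ, hκwt, hκx⟩ := exists_mon_notMem 𝒜 hf hgen0 t.2 htx
  refine induction_monomials 𝒜 hf hgen0 (j + n) (fun a => germFrac n x t ht a ∈ Sp) ?_ ?_ ?_ a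
  · show germFrac n x t ht 0 ∈ Sp
    rw [germFrac_zero]; exact Sp.zero_mem
  · intro a b ha hb
    show germFrac n x t ht (a + b) ∈ Sp
    rw [germFrac_add]; exact Sp.add_mem ha hb
  · intro c0 hc0 α hα hmem
    show germFrac n x t ht ⟨c0 * mon f α, hmem⟩ ∈ Sp
    have hsum : ∑ i, α i * deg i = ∑ i, κ i * deg i + n := by
      rw [← wt_eq_sum, ← wt_eq_sum, hα, hκwt]
    obtain ⟨β, hβ, hβle⟩ := numeric deg hdeg i0 (⇑α) (⇑κ) n hn hsum
    obtain ⟨μ, hμdef⟩ : ∃ μ : Fin s → ℕ, ∀ i, μ i = if i = i0 ∨ κ i ≠ 0 then β i else 0 :=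
      ⟨_, fun _ => rfl⟩
    obtain ⟨γ, hγdef⟩ : ∃ γ : Fin s → ℕ, ∀ i, γ i = α i + μ i - β i := ⟨_, fun _ => rfl⟩
    have hsplit : ∀ i, α i + μ i = β i + γ i := by
      intro i
      rw [hγdef i, hμdef i]
      by_cases hi : i = i0 ∨ κ i ≠ 0
      · rw [if_pos hi]; omega
      · rw [if_neg hi]
        push Not at hi
        have := hβle i hi.1 hi.2
        omega
    have hμx : ∏ i, f i ^ μ i ∉ x.asHomogeneousIdeal.toIdeal := by
      apply prod_pow_notMem f hxI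
      intro i hμi
      have hi : i = i0 ∨ κ i ≠ 0 := by
        by_contra hcon
        exact hμi (by rw [hμdef i, if_neg hcon])
      rcases hi with hi | hi
      · rw [hi]; exact hi0
      · exact notMem_of_prod_pow_notMem f (⇑κ) (by rwa [← mon_eq_prod]) i hi
    have hdegsum : ∑ i, α i * deg i + ∑ i, μ i * deg i =
        ∑ i, β i * deg i + ∑ i, γ i * deg i := by
      rw [← Finset.sum_add_distrib, ← Finset.sum_add_distrib]
      exact Finset.sum_congr rfl fun i _ => by rw [← add_mul, ← add_mul, hsplit i]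
    have hαsum : ∑ i, α i * deg i = j + n := by rw [← wt_eq_sum, hα]
    have hq : 0 + ∑ i, γ i * deg i = j + ∑ i, μ i * deg i := by omega
    have hu_mem : ∏ i, f i ^ μ i ∈ 𝒜 (∑ i, μ i * deg i) := prod_pow_mem 𝒜 hf μ Finset.univ
    have hb_mem : ∏ i, f i ^ β i ∈ 𝒜 n := by
      rw [← hβ]; exact prod_pow_mem 𝒜 hf β Finset.univ
    have hg_mem : ∏ i, f i ^ γ i ∈ 𝒜 (∑ i, γ i * deg i) := prod_pow_mem 𝒜 hf γ Finset.univ
    have hc_mem : c0 * ∏ i, f i ^ γ i ∈ 𝒜 (j + ∑ i, μ i * deg i) := by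
      have := SetLike.mul_mem_graded hc0 hg_mem
      rwa [hq] at this
    have hw_mem : (t : A) * ∏ i, f i ^ μ i ∈ 𝒜 (j + ∑ i, μ i * deg i) :=
      SetLike.mul_mem_graded t.2 hu_mem
    have hwx : (t : A) * ∏ i, f i ^ μ i ∉ x.asHomogeneousIdeal.toIdeal :=
      fun h => (hxI.mem_or_mem h).elim htx hμx
    have hpm := prod_pow_mul f (⇑α) μ β γ hsplit
    -- the data
    obtain ⟨c, hcv⟩ : ∃ c : 𝒜 (j + ∑ i, μ i * deg i), (c : A) = c0 * ∏ i, f i ^ γ i :=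
      ⟨⟨_, hc_mem⟩, rfl⟩
    obtain ⟨w, hwv⟩ : ∃ w : 𝒜 (j + ∑ i, μ i * deg i), (w : A) = (t : A) * ∏ i, f i ^ μ i :=
      ⟨⟨_, hw_mem⟩, rfl⟩
    obtain ⟨b, hbv⟩ : ∃ b : 𝒜 n, (b : A) = ∏ i, f i ^ β i := ⟨⟨_, hb_mem⟩, rfl⟩
    have hxV1 : x ∈ Proj.basicOpen 𝒜 (w : A) := by
      show (w : A) ∉ x.asHomogeneousIdeal.toIdeal
      rw [hwv]; exact hwx
    have hV1t : Proj.basicOpen 𝒜 (w : A) ≤ Proj.basicOpen 𝒜 (t : A) := by
      rw [hwv]; exact ProjectiveSpectrum.basicOpen_mul_le_left 𝒜 _ _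
    have hτ1 : ∀ y : Proj.basicOpen 𝒜 (w : A),
        (((show sectN (𝒜 := 𝒜) (n : ℤ) (op (Proj.basicOpen 𝒜 (w : A))) from
          (twist 𝒜 (n : ℤ)).presheaf.map (homOfLE hV1t).op
            (show Γ(twist 𝒜 (n : ℤ), Proj.basicOpen 𝒜 (t : A)) from
              fracSec (⟨c0 * mon f α, hmem⟩ : 𝒜 (j + n)) t (by push_cast; ring))).1 y :
          twistAt 𝒜 n y.1) : Loc 𝒜 y.1) =
        Localization.mk ((c : A) * (b : A)) ⟨w.1, (le_refl _ :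
          Proj.basicOpen 𝒜 (w : A) ≤ Proj.basicOpen 𝒜 (w : A)) y.2⟩ := by
      intro y
      refine Eq.trans (b := Localization.mk (c0 * mon f α) ⟨(t : A), hV1t y.2⟩) rfl ?_
      apply Localization.mk_eq_mk_iff.mpr
      apply Localization.r_of_eq
      show (w : A) * (c0 * mon f α) = (t : A) * ((c : A) * (b : A))
      rw [hwv, hcv, hbv, mon_eq_prod]
      linear_combination ((t : A) * c0) * hpm
    obtain ⟨r, hr⟩ := exists_smul_eq (V := Proj.basicOpen 𝒜 (w : A)) n _ c w b (le_refl _) hτ1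
    have e1 : germFrac n x t ht ⟨c0 * mon f α, hmem⟩ =
        (twist 𝒜 (n : ℤ)).presheaf.germ (Proj.basicOpen 𝒜 (w : A)) x hxV1
          ((twist 𝒜 (n : ℤ)).presheaf.map (homOfLE hV1t).op
            (show Γ(twist 𝒜 (n : ℤ), Proj.basicOpen 𝒜 (t : A)) from
              fracSec (⟨c0 * mon f α, hmem⟩ : 𝒜 (j + n)) t (by push_cast; ring))) :=
      (germ_res (twist 𝒜 (n : ℤ)) x hV1t hxV1 _).symm
    rw [e1, hr, germ_smul]
    refine Sp.smul_mem _ ?_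
    rw [germ_res]
    exact hSp b

include hdeg hf hgen hgen0 in
theorem all_mem (n : ℕ) (hn : (s - 1) * (Finset.univ.lcm deg - 1) ≤ n) (x : Proj 𝒜)
    (Sp : Submodule ((Proj 𝒜).presheaf.stalk x) ((twist 𝒜 (n : ℤ)).presheaf.stalk x))
    (hSp : ∀ b : 𝒜 n, (twist 𝒜 (n : ℤ)).presheaf.germ ⊤ x trivial
      (show Γ(twist 𝒜 (n : ℤ), ⊤) from globalOf 𝒜 b) ∈ Sp)
    (z : (twist 𝒜 (n : ℤ)).presheaf.stalk x) : z ∈ Sp := by
  obtain ⟨V, hxV, σ, rfl⟩ := TopCat.Presheaf.germ_exist (twist 𝒜 (n : ℤ)).presheaf z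
  obtain ⟨W, hxW, hWV, j, t, hWt, a, hval⟩ := exists_local_frac n σ x hxV
  have htx : x ∈ Proj.basicOpen 𝒜 (t : A) := hWt hxW
  have key : (show sectN (𝒜 := 𝒜) (n : ℤ) (op W) from
      (twist 𝒜 (n : ℤ)).presheaf.map (homOfLE hWV).op σ) =
      (show sectN (𝒜 := 𝒜) (n : ℤ) (op W) from
        (twist 𝒜 (n : ℤ)).presheaf.map (homOfLE hWt).op
          (show Γ(twist 𝒜 (n : ℤ), Proj.basicOpen 𝒜 (t : A)) from
            fracSec a t (by push_cast; ring))) := by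
    apply sectN_ext
    intro y
    exact hval y
  have key' : (twist 𝒜 (n : ℤ)).presheaf.map (homOfLE hWV).op σ =
      (twist 𝒜 (n : ℤ)).presheaf.map (homOfLE hWt).op
        (show Γ(twist 𝒜 (n : ℤ), Proj.basicOpen 𝒜 (t : A)) from
          fracSec a t (by push_cast; ring)) := key
  have e1 := germ_res (twist 𝒜 (n : ℤ)) x hWV hxW σ
  have e2 := germ_res (twist 𝒜 (n : ℤ)) x hWt hxW
    (show Γ(twist 𝒜 (n : ℤ), Proj.basicOpen 𝒜 (t : A)) from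
      fracSec a t (by push_cast; ring))
  rw [← e1, key', e2]
  exact germFrac_mem f deg hdeg hf hgen hgen0 n hn x Sp hSp t htx a

include hdeg hf hgen in
theorem s13171 (n : ℕ) (hn : (s - 1) * (Finset.univ.lcm deg - 1) ≤ n) :
    ProjUP.GeneratedBy (Twist.twist 𝒜 (n : ℤ))
      (fun b : 𝒜 n => (Twist.globalOf 𝒜 b : ProjUP.Γm (Twist.twist 𝒜 (n : ℤ)))) := by
  have hgen0 : Algebra.adjoin (𝒜 0) (Set.range f) = ⊤ := by
    rw [eq_top_iff]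
    intro z _
    have hz : z ∈ Algebra.adjoin R (Set.range f) := by rw [hgen]; trivial
    clear * - hz
    induction hz using Algebra.adjoin_induction with
    | mem z hz => exact Algebra.subset_adjoin hz
    | algebraMap r =>
      have : algebraMap R A r = algebraMap (𝒜 0) A (algebraMap R (𝒜 0) r) := rfl
      rw [this]
      exact Subalgebra.algebraMap_mem _ _
    | add z z' _ _ h h' => exact add_mem h h'
    | mul z z' _ _ h h' => exact mul_mem h h'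
  intro x
  rw [eq_top_iff]
  intro z _
  refine all_mem f deg hdeg hf hgen hgen0 n hn x _ ?_ z
  intro b
  exact Submodule.subset_span ⟨b, rfl⟩

end Main

end Groth.Agent.H1.TwGen
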