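import Mathlib
import Groth.Prelude.Def_GrTwist
import Groth.Agent.H4.ProjG
import Groth.Agent.H4.TwGlue

/-! # `Proj` of a localization at a degree-zero element (S9573)

Uses helper4's `Groth.Agent.H4.TwGlue` (`IsLocAt`, `comapApp_bijective`) and `Groth.Agent.H4.ProjG`. -/

set_option autoImplicit false

namespace Groth.Agent.H1.TwLoc

open CategoryTheory AlgebraicGeometry TopologicalSpace Opposite DirectSum HomogeneousLocalization
open scoped HomogeneousIdeal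
open Groth.Agent.H4.TwGlue

universe u

section adj

variable {X Y : Scheme.{u}}

theorem isIso_adjunct_of_isOpenImmersion (r : X ⟶ Y) [IsOpenImmersion r] {M : Y.Modules}
    {N : X.Modules} (θ : M ⟶ (Scheme.Modules.pushforward r).obj N)
    (h : ∀ U : X.Opens, Function.Bijective (θ.app (r ''ᵁ U))) :
    IsIso (((Scheme.Modules.pullbackPushforwardAdjunction r).homEquiv _ _).symm θ) := by
  have h1 : IsIso ((Scheme.Modules.restrictFunctor r).map θ) := by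
    rw [Scheme.Modules.Hom.isIso_iff_isIso_app]
    intro U
    rw [ConcreteCategory.isIso_iff_bijective]
    exact h U
  haveI h2 : IsIso ((Scheme.Modules.pullback r).map θ) :=
    (NatIso.isIso_map_iff (Scheme.Modules.restrictFunctorIsoPullback r) θ).mp h1
  rw [Adjunction.homEquiv_counit]
  infer_instance

end adj

section gen

variable {A σ : Type u} [CommRing A] [SetLike σ A] [AddSubgroupClass σ A] (𝒜 : ℕ → σ) [GradedRing 𝒜]

theorem away_mk_eq_iff {d : ℕ} {f : A} (hf : f ∈ 𝒜 d) {n n' : ℕ} {a a' : A}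
    (ha : a ∈ 𝒜 (n • d)) (ha' : a' ∈ 𝒜 (n' • d)) :
    Away.mk 𝒜 hf n a ha = Away.mk 𝒜 hf n' a' ha' ↔
      ∃ m : ℕ, f ^ m * (f ^ n' * a) = f ^ m * (f ^ n * a') := by
  constructor
  · intro h
    have h1 := congrArg HomogeneousLocalization.val h
    rw [Away.val_mk, Away.val_mk, Localization.mk_eq_mk_iff, Localization.r_iff_exists] at h1
    obtain ⟨⟨_, m, rfl⟩, hm⟩ := h1
    exact ⟨m, hm⟩
  · rintro ⟨m, hm⟩
    apply HomogeneousLocalization.val_injective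
    rw [Away.val_mk, Away.val_mk, Localization.mk_eq_mk_iff, Localization.r_iff_exists]
    exact ⟨⟨f ^ m, m, rfl⟩, hm⟩

theorem away_mk_zero_eq_fromZero {d : ℕ} {f : A} (hf : f ∈ 𝒜 d) (c : A) (hc : c ∈ 𝒜 0)
    (hc0 : c ∈ 𝒜 (0 • d)) :
    Away.mk 𝒜 hf 0 c hc0 = fromZeroRingHom 𝒜 (Submonoid.powers f) ⟨c, hc⟩ := by
  apply HomogeneousLocalization.val_injective
  rw [Away.val_mk]
  show Localization.mk c _ = Localization.mk c 1
  congr 1
  exact Subtype.ext (pow_zero f)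

end gen

section ring

variable {R A B : Type u} [CommRing R] [CommRing A] [Algebra R A] {𝒜 : ℕ → Submodule R A}
  [GradedAlgebra 𝒜] [CommRing B] [Algebra R B] {ℬ : ℕ → Submodule R B} [GradedAlgebra ℬ]
  {ψ : 𝒜 →+*ᵍ ℬ} (hψ : ℬ₊ ≤ (𝒜₊).map ψ) {c : A}

theorem isLocAt_of_away (g : A) (hg : g ∈ 𝒜 0) [Algebra A B]
    (hψA : ∀ a : A, ψ a = algebraMap A B a) [IsLocalization.Away g B] : IsLocAt ψ g := by
  refine ⟨hg, ?_, ?_, ?_⟩
  · have hu : IsUnit (algebraMap A B g) :=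
      IsLocalization.map_units (M := Submonoid.powers g) B ⟨g, 1, pow_one g⟩
    obtain ⟨u, hu'⟩ := hu.exists_right_inv
    exact ⟨u, by rw [hψA]; exact hu'⟩
  · intro b
    obtain ⟨⟨x, s, hs⟩, hxs⟩ := IsLocalization.surj (Submonoid.powers g) b
    obtain ⟨k, rfl⟩ := (Submonoid.mem_powers_iff _ _).mp hs
    refine ⟨x, k, ?_⟩
    rw [hψA, hψA, ← map_pow, mul_comm]
    exact hxs
  · intro a ha
    rw [hψA] at ha
    obtain ⟨⟨_, k, rfl⟩, hm⟩ := (IsLocalization.map_eq_zero_iff (Submonoid.powers g) B a).mp ha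
    exact ⟨k, hm⟩

theorem exists_unit_zero (hc : IsLocAt ψ c) : ∃ u₀ : B, u₀ ∈ ℬ 0 ∧ ψ c * u₀ = 1 := by
  classical
  obtain ⟨u, hu⟩ := hc.unit
  have hψc : ψ c ∈ ℬ 0 := ψ.map_mem hc.c_mem
  refine ⟨(decompose ℬ u 0 : B), SetLike.coe_mem _, ?_⟩
  have h1 := DirectSum.coe_decompose_mul_add_of_left_mem ℬ (i := 0) (j := 0) (b := u) hψc
  rw [hu, zero_add, DirectSum.decompose_of_mem_same ℬ SetLike.GradedOne.one_mem] at h1
  exact h1.symm

theorem isLocalization_chart (hc : IsLocAt ψ c) {d : ℕ} {f : A} (hf : f ∈ 𝒜 d)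
    (hc0 : c ∈ 𝒜 (0 • d)) :
    @IsLocalization.Away (Away 𝒜 f) _ (Away.mk 𝒜 hf 0 c hc0) (Away ℬ (ψ f)) _
      (Away.map ψ f).toAlgebra := by
  letI : Algebra (Away 𝒜 f) (Away ℬ (ψ f)) := (Away.map ψ f).toAlgebra
  have hf' : ψ f ∈ ℬ d := ψ.map_mem hf
  obtain ⟨u₀, hu₀mem, hu0⟩ := exists_unit_zero hc
  have hu0mem : u₀ ∈ ℬ (0 • d) := by rw [zero_smul]; exact hu₀mem
  have hψc0 : ψ c ∈ ℬ (0 • d) := by rw [zero_smul]; exact ψ.map_mem hc.c_mem
  have hg₀ : Away.map ψ f (Away.mk 𝒜 hf 0 c hc0) = Away.mk ℬ hf' 0 (ψ c) hψc0 :=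
    Away.map_mk ψ f hf 0 c hc0
  have hunit : IsUnit (Away.map ψ f (Away.mk 𝒜 hf 0 c hc0)) := by
    rw [hg₀]
    refine IsUnit.of_mul_eq_one (Away.mk ℬ hf' 0 u₀ hu0mem) ?_
    apply HomogeneousLocalization.val_injective
    rw [HomogeneousLocalization.val_mul, Away.val_mk, Away.val_mk, HomogeneousLocalization.val_one,
      Localization.mk_mul, hu0, ← Localization.mk_one]
    refine Localization.mk_eq_mk_iff.mpr (Localization.r_of_eq ?_)
    simp
  refine (isLocalization_iff _ _).mpr ⟨?_, ?_, ?_⟩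
  · rintro ⟨_, k, rfl⟩
    show IsUnit (Away.map ψ f (Away.mk 𝒜 hf 0 c hc0 ^ k))
    rw [map_pow]
    exact hunit.pow k
  · intro z
    obtain ⟨n, b, hb, rfl⟩ := Away.mk_surjective ℬ hf' z
    obtain ⟨a, k, ha, hak⟩ := exists_homog_lift hc hb
    refine ⟨(Away.mk 𝒜 hf n a ha, ⟨Away.mk 𝒜 hf 0 c hc0 ^ k, k, rfl⟩), ?_⟩
    show Away.mk ℬ hf' n b hb * Away.map ψ f (Away.mk 𝒜 hf 0 c hc0 ^ k) =
      Away.map ψ f (Away.mk 𝒜 hf n a ha)
    rw [map_pow, hg₀, Away.map_mk]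
    apply HomogeneousLocalization.val_injective
    rw [HomogeneousLocalization.val_mul, HomogeneousLocalization.val_pow, Away.val_mk, Away.val_mk,
      Away.val_mk, Localization.mk_pow, Localization.mk_mul, hak]
    refine Localization.mk_eq_mk_iff.mpr (Localization.r_of_eq ?_)
    simp only [Submonoid.coe_mul, SubmonoidClass.coe_pow, pow_zero, one_pow, mul_one]
    ring
  · intro x x' hxx
    replace hxx : Away.map ψ f x = Away.map ψ f x' := hxx
    obtain ⟨n, a, ha, rfl⟩ := Away.mk_surjective 𝒜 hf x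
    obtain ⟨n', a', ha', rfl⟩ := Away.mk_surjective 𝒜 hf x'
    rw [Away.map_mk, Away.map_mk, away_mk_eq_iff] at hxx
    obtain ⟨m, hm⟩ := hxx
    have hz : ψ (f ^ m * (f ^ n' * a) - f ^ m * (f ^ n * a')) = 0 := by
      rw [map_sub, map_mul, map_mul, map_mul, map_mul, map_pow, map_pow, map_pow, hm, sub_self]
    obtain ⟨l, hl⟩ := hc.ker _ hz
    refine ⟨⟨Away.mk 𝒜 hf 0 c hc0 ^ l, l, rfl⟩, ?_⟩
    show Away.mk 𝒜 hf 0 c hc0 ^ l * Away.mk 𝒜 hf n a ha =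
      Away.mk 𝒜 hf 0 c hc0 ^ l * Away.mk 𝒜 hf n' a' ha'
    apply HomogeneousLocalization.val_injective
    rw [HomogeneousLocalization.val_mul, HomogeneousLocalization.val_mul,
      HomogeneousLocalization.val_pow, Away.val_mk, Away.val_mk, Away.val_mk, Localization.mk_pow,
      Localization.mk_mul, Localization.mk_mul, Localization.mk_eq_mk_iff, Localization.r_iff_exists]
    refine ⟨⟨f ^ m, m, rfl⟩, ?_⟩
    simp only [Submonoid.coe_mul, SubmonoidClass.coe_pow, pow_zero, one_pow, one_mul]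
    linear_combination hl

theorem isOpenImmersion_map (hc : IsLocAt ψ c) : IsOpenImmersion (Proj.map ψ hψ) := by
  refine Groth.Agent.H4.ProjG.of_isPullback_openCover (P := @IsOpenImmersion) (Proj.map ψ hψ)
    (Proj.affineOpenCover 𝒜).openCover
    (fun i => Spec (.of (Away ℬ (ψ i.2.1))))
    (fun i => Spec.map (CommRingCat.ofHom (Away.map ψ i.2.1)))
    (fun i => Proj.awayι ℬ (ψ i.2.1) (ψ.2 i.2.2) i.1.2)
    (fun i => Groth.Agent.H4.ProjG.isPullback_awayι_map ψ hψ i.1.2 i.2.1 i.2.2) ?_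
  intro i
  have hc0 : c ∈ 𝒜 (0 • (i.1 : ℕ)) := by rw [zero_smul]; exact hc.c_mem
  letI : Algebra (Away 𝒜 i.2.1) (Away ℬ (ψ i.2.1)) := (Away.map ψ i.2.1).toAlgebra
  haveI := isLocalization_chart hc i.2.2 hc0
  exact IsOpenImmersion.of_isLocalization (Away.mk 𝒜 i.2.2 0 c hc0)

theorem range_map (hc : IsLocAt ψ c) :
    Set.range (Proj.map ψ hψ).base =
      (Proj.toSpecZero 𝒜).base ⁻¹'
        (PrimeSpectrum.basicOpen (⟨c, hc.c_mem⟩ : 𝒜 0) : Set (PrimeSpectrum (𝒜 0))) := by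
  apply Set.Subset.antisymm
  · rintro _ ⟨y, rfl⟩
    have h : (Proj.toSpecZero 𝒜).base ((Proj.map ψ hψ).base y) =
        (Spec.map (CommRingCat.ofHom (Groth.Agent.H4.ProjG.zeroHom ψ))).base
          ((Proj.toSpecZero ℬ).base y) :=
      congrArg (fun k : Proj ℬ ⟶ Spec (.of (𝒜 0)) => k.base y)
        (Groth.Agent.H4.ProjG.map_toSpecZero ψ hψ)
    show (Proj.toSpecZero 𝒜).base ((Proj.map ψ hψ).base y) ∈
      (PrimeSpectrum.basicOpen (⟨c, hc.c_mem⟩ : 𝒜 0) : Set (PrimeSpectrum (𝒜 0)))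
    rw [h]
    intro hmem
    obtain ⟨u₀, hu₀mem, hu0⟩ := exists_unit_zero hc
    have hunit : IsUnit (Groth.Agent.H4.ProjG.zeroHom ψ ⟨c, hc.c_mem⟩) :=
      IsUnit.of_mul_eq_one (⟨u₀, hu₀mem⟩ : ℬ 0) (Subtype.ext hu0)
    have hmem' : Groth.Agent.H4.ProjG.zeroHom ψ ⟨c, hc.c_mem⟩ ∈
        PrimeSpectrum.asIdeal ((Proj.toSpecZero ℬ).base y) := hmem
    exact (PrimeSpectrum.isPrime ((Proj.toSpecZero ℬ).base y)).ne_top
      (Ideal.eq_top_of_isUnit_mem _ hmem' hunit)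
  · intro x hx
    obtain ⟨i, w, hw⟩ := (Proj.affineOpenCover 𝒜).openCover.exists_eq x
    have hw' : (Proj.awayι 𝒜 i.2.1 i.2.2 i.1.2).base w = x := hw
    have hc0 : c ∈ 𝒜 (0 • (i.1 : ℕ)) := by rw [zero_smul]; exact hc.c_mem
    have h1 : (Proj.toSpecZero 𝒜).base x =
        (Spec.map (CommRingCat.ofHom (fromZeroRingHom 𝒜 (Submonoid.powers i.2.1)))).base w := by
      rw [← hw']
      exact congrArg (fun k : Spec (.of (Away 𝒜 i.2.1)) ⟶ Spec (.of (𝒜 0)) => k.base w)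
        (Proj.awayι_toSpecZero 𝒜 i.2.1 i.2.2 i.1.2)
    have hx' : (Proj.toSpecZero 𝒜).base x ∈
        (PrimeSpectrum.basicOpen (⟨c, hc.c_mem⟩ : 𝒜 0) : Set (PrimeSpectrum (𝒜 0))) := hx
    rw [h1] at hx'
    have hnot : Away.mk 𝒜 i.2.2 0 c hc0 ∉ PrimeSpectrum.asIdeal w := by
      rw [away_mk_zero_eq_fromZero 𝒜 i.2.2 c hc.c_mem hc0]
      exact hx'
    letI : Algebra (Away 𝒜 i.2.1) (Away ℬ (ψ i.2.1)) := (Away.map ψ i.2.1).toAlgebra
    haveI := isLocalization_chart hc i.2.2 hc0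
    have hrange := PrimeSpectrum.localization_away_comap_range (Away ℬ (ψ i.2.1))
      (Away.mk 𝒜 i.2.2 0 c hc0)
    have hwmem : w ∈ Set.range (PrimeSpectrum.comap (algebraMap (Away 𝒜 i.2.1) (Away ℬ (ψ i.2.1)))) := by
      rw [hrange]; exact hnot
    obtain ⟨v, hv⟩ := hwmem
    refine ⟨(Proj.awayι ℬ (ψ i.2.1) (ψ.2 i.2.2) i.1.2).base v, ?_⟩
    have h2 := congrArg (fun k : Spec (.of (Away ℬ (ψ i.2.1))) ⟶ Proj 𝒜 => k.base v)
      (Proj.awayι_comp_map ψ hψ i.1.2 i.2.1 i.2.2)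
    have h3 : (Proj.map ψ hψ).base ((Proj.awayι ℬ (ψ i.2.1) (ψ.2 i.2.2) i.1.2).base v) =
        (Proj.awayι 𝒜 i.2.1 i.2.2 i.1.2).base
          ((Spec.map (CommRingCat.ofHom (Away.map ψ i.2.1))).base v) := h2
    rw [h3, ← hw']
    congr 1

theorem isIso_twist_adjunct (hc : IsLocAt ψ c) (n : ℤ) :
    IsIso (((Scheme.Modules.pullbackPushforwardAdjunction (Proj.map ψ hψ)).homEquiv _ _).symm
      (GrTwist.comap ψ hψ n)) := by
  haveI := isOpenImmersion_map hψ hc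
  refine isIso_adjunct_of_isOpenImmersion (Proj.map ψ hψ) (GrTwist.comap ψ hψ n) fun U => ?_
  have hinj : Function.Injective (ProjectiveSpectrum.comap ψ hψ) :=
    (Proj.map ψ hψ).isOpenEmbedding.injective
  have hopen : IsOpenMap (ProjectiveSpectrum.comap ψ hψ) :=
    (Proj.map ψ hψ).isOpenEmbedding.isOpenMap
  exact comapApp_bijective hψ hc n (Proj.map ψ hψ ''ᵁ U) (Proj.map ψ hψ ⁻¹ᵁ (Proj.map ψ hψ ''ᵁ U))
    Set.Subset.rfl (fun y hy => hy) (fun x hx => by obtain ⟨y, -, rfl⟩ := hx; exact ⟨y, rfl⟩)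
    hinj hopen

theorem main (g : A) (hg : g ∈ 𝒜 0) [Algebra A B] (hψA : ∀ a : A, ψ a = algebraMap A B a)
    [IsLocalization.Away g B] :
    IsOpenImmersion (Proj.map ψ hψ) ∧
      Set.range (Proj.map ψ hψ).base =
        (Proj.toSpecZero 𝒜).base ⁻¹'
          (PrimeSpectrum.basicOpen (⟨g, hg⟩ : 𝒜 0) : Set (PrimeSpectrum (𝒜 0))) ∧
      ∀ n : ℤ, IsIso (((Scheme.Modules.pullbackPushforwardAdjunction (Proj.map ψ hψ)).homEquiv _ _).symm
        (GrTwist.comap ψ hψ n)) := by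
  have hc : IsLocAt ψ g := isLocAt_of_away g hg hψA
  exact ⟨isOpenImmersion_map hψ hc, range_map hψ hc, fun n => isIso_twist_adjunct hψ hc n⟩

end ring

end Groth.Agent.H1.TwLoc
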