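import Mathlib
import Groth.Prelude.Def_EGA43
import Groth.Agent.Lib.Helper1.UOMax
import Groth.Agent.Lib.Helper1.CondT
import Groth.Agent.Lib.Helper3.UO4931

/-!
# Universally open morphisms locally of finite type: every point lies on an irreducible
component which is equidimensional over the base at that point (helper1)
-/

set_option autoImplicit false
set_option linter.style.haveILetI false
universe u

namespace Groth.Agent.H1.UO14

open AlgebraicGeometry CategoryTheory CategoryTheory.Limits TopologicalSpace Topology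
open Groth.Agent.H1.DimFormula Groth.Agent.H3

theorem s14075 {X S : Scheme.{u}} (f : X ⟶ S) [LocallyOfFiniteType f] [UniversallyOpen f]
    (x : X) :
    ∃ W : TopologicalSpace.Closeds X, (W : Set X) ∈ irreducibleComponents (X : Type u) ∧
      ∃ w : ↥((Scheme.IdealSheafData.vanishingIdeal W).subscheme),
        (Scheme.IdealSheafData.vanishingIdeal W).subschemeι.base w = x ∧
        EGA43.IsEquidimAt ((Scheme.IdealSheafData.vanishingIdeal W).subschemeι ≫ f) w := by
  obtain ⟨z, hfz, hzx, hmaxz, hdz⟩ := Groth.Agent.H1.FibGen.exists_fibre_generic_fibreDimAt_eq f x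
  have hmaxz' : ∀ z' : X, f z' = f z → z' ⤳ z → z' = z :=
    fun z' h1 h2 => hmaxz z' (h1.trans hfz) h2
  obtain ⟨d, -, hd⟩ := fibreDimAt_eq_trdeg_of_generic f z hmaxz'
  have hUO : EGA43.IsUnivOpenAt f z :=
    Groth.Agent.H3.UO4931.isUnivOpenAt_of_universallyOpen f z
  have hY₀ := irreducibleComponent_mem_irreducibleComponents (f.base z)
  obtain ⟨η, hη⟩ := QuasiSober.sober hY₀.1 (isClosed_of_mem_irreducibleComponents _ hY₀)
  have hηd : closure ({η} : Set S) = irreducibleComponent (f.base z) := hη.def
  have hηcomp : closure ({η} : Set S) ∈ irreducibleComponents (S : Type u) := by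
    rw [hηd]; exact hY₀
  have hηmax : ∀ η' : S, η' ⤳ η → η' = η :=
    Groth.Agent.H1.EquidimLoc.eq_of_specializes_of_closure_mem_irreducibleComponents η hηcomp
  have hηz : η ⤳ f.base z := by
    rw [specializes_iff_mem_closure, hηd]; exact mem_irreducibleComponent
  obtain ⟨ζ, hζmax, hζz, hfζ, hdle⟩ := exists_maxPt_of_dim_ge' f z d η hηmax (fun U hU => by
    rw [← hd]
    exact s4933_part1 f z
      (fun x' h1 h2 => hmaxz' x' h1 (specializes_iff_mem_closure.mpr h2)) hUO U hU η hηz)
  have hζfm : ∀ z' : X, f z' = f ζ → z' ⤳ ζ → z' = ζ := fun z' _ h2 => hζmax z' h2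
  obtain ⟨e, -, he⟩ := fibreDimAt_eq_trdeg_of_generic f ζ hζfm
  have hW := Groth.Agent.H1.GenPts.closure_singleton_mem_irreducibleComponents ζ hζmax
  have hxW : x ∈ closure ({ζ} : Set X) := specializes_iff_mem_closure.mp (hζz.trans hzx)
  refine ⟨⟨closure {ζ}, isClosed_closure⟩, hW, ?_⟩
  have hr : Set.range (Scheme.IdealSheafData.vanishingIdeal
      (⟨closure {ζ}, isClosed_closure⟩ : TopologicalSpace.Closeds X)).subschemeι.base =
      closure ({ζ} : Set X) :=
    (Scheme.IdealSheafData.range_subschemeι _).trans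
      (Scheme.IdealSheafData.coe_support_vanishingIdeal _)
  refine Groth.Agent.H1.CondT.condT_aux _ f x (closure {ζ}) hW hr hxW e ?_ ?_
  · intro ξ hξ
    have hξζ : ξ = ζ :=
      IsGenericPoint.eq (show IsGenericPoint ξ (closure {ζ}) from hξ) isGenericPoint_closure
    subst hξζ
    refine ⟨?_, he⟩
    rw [hfζ]; exact hηcomp
  · rw [he] at hdle
    rw [← hdz, hd]
    exact hdle

end Groth.Agent.H1.UO14
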