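import Mathlib
import Groth.Prelude.Def_Pi1

set_option autoImplicit false
universe u
open TensorProduct

namespace Groth.Agent.Lib.Helper1.UnivInj

variable {R S : Type u} [CommRing R] [CommRing S] [Algebra R S]

lemma mk_one_injective (h : Pi1.UnivInjective R S) (P : Type u) [AddCommGroup P] [Module R P] :
    Function.Injective (fun p : P => (1 : S) ⊗ₜ[R] p) := by
  intro p q hpq
  have h1 := h P
  have h2 : (LinearMap.lTensor P (Algebra.linearMap R S)) (p ⊗ₜ[R] (1 : R)) =
      (LinearMap.lTensor P (Algebra.linearMap R S)) (q ⊗ₜ[R] (1 : R)) := by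
    simp only [LinearMap.lTensor_tmul, Algebra.linearMap_apply, map_one]
    have := congrArg (TensorProduct.comm R S P) hpq
    simpa using this
  have h3 := h1 h2
  have := congrArg (TensorProduct.rid R P) h3
  simpa using this

lemma surjective_of_lTensor (h : Pi1.UnivInjective R S) {N : Type*} {M : Type u} [AddCommGroup N]
    [Module R N] [AddCommGroup M] [Module R M] (f : N →ₗ[R] M)
    (hf : Function.Surjective (LinearMap.lTensor S f)) : Function.Surjective f := by
  rw [← LinearMap.range_eq_top, ← Submodule.Quotient.subsingleton_iff]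
  refine ⟨fun a b => ?_⟩
  apply mk_one_injective h
  obtain ⟨a, rfl⟩ := Submodule.mkQ_surjective _ a
  obtain ⟨b, rfl⟩ := Submodule.mkQ_surjective _ b
  have key : ∀ m : M, (1 : S) ⊗ₜ[R] ((LinearMap.range f).mkQ m) = 0 := by
    intro m
    obtain ⟨z, hz⟩ := hf ((1 : S) ⊗ₜ[R] m)
    have : (1 : S) ⊗ₜ[R] ((LinearMap.range f).mkQ m) =
        (LinearMap.lTensor S (LinearMap.range f).mkQ) (LinearMap.lTensor S f z) := by
      rw [hz, LinearMap.lTensor_tmul]
    rw [this, ← LinearMap.comp_apply, ← LinearMap.lTensor_comp]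
    have : (LinearMap.range f).mkQ ∘ₗ f = 0 := by
      ext x
      simp
    rw [this, LinearMap.lTensor_zero, LinearMap.zero_apply]
  show (1 : S) ⊗ₜ[R] ((LinearMap.range f).mkQ a) = (1 : S) ⊗ₜ[R] ((LinearMap.range f).mkQ b)
  rw [key a, key b]

lemma injective_of_lTensor (h : Pi1.UnivInjective R S) {M' : Type u} {M : Type*} [AddCommGroup M']
    [Module R M'] [AddCommGroup M] [Module R M] (g : M' →ₗ[R] M)
    (hg : Function.Injective (LinearMap.lTensor S g)) : Function.Injective g := by
  intro a b hab
  apply mk_one_injective h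
  apply hg
  simp only [LinearMap.lTensor_tmul, hab]

end Groth.Agent.Lib.Helper1.UnivInj
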