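import Mathlib
import Groth.Agent.Lib.Helper1.UnivInj1

set_option autoImplicit false
universe u
open TensorProduct

namespace Groth.Agent.Lib.Helper1.UnivInj

variable {R S : Type u} [CommRing R] [CommRing S] [Algebra R S]

theorem finite_of_tensor (h : Pi1.UnivInjective R S) (M : Type u) [AddCommGroup M] [Module R M]
    [Module.Finite S (S ⊗[R] M)] : Module.Finite R M := by
  obtain ⟨n, s, hs⟩ := Module.Finite.exists_fin (R := S) (M := S ⊗[R] M)
  choose k t m hm using fun i : Fin n ↦ TensorProduct.exists_sum_tmul_eq (s i)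
  let f₀ : ((Σ i, Fin (k i)) → R) →ₗ[R] M := (Pi.basisFun R _).constr R fun ⟨i, j⟩ ↦ m i j
  apply Module.Finite.of_surjective f₀
  have : Function.Surjective (AlgebraTensorModule.lTensor S S f₀) := by
    rw [← LinearMap.range_eq_top, eq_top_iff, ← hs, Submodule.span_le, Set.range_subset_iff]
    intro i
    use ∑ (j : Fin (k i)), t i j ⊗ₜ Pi.basisFun R _ ⟨i, j⟩
    simp [f₀, -Pi.basisFun_equivFun, -Pi.basisFun_apply, hm i]
  exact surjective_of_lTensor h f₀ this

theorem finiteType_of_tensor (h : Pi1.UnivInjective R S) (A : Type u) [CommRing A] [Algebra R A]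
    [Algebra.FiniteType S (S ⊗[R] A)] : Algebra.FiniteType R A := by
  obtain ⟨s, hs⟩ := Algebra.FiniteType.out (R := S) (A := S ⊗[R] A)
  have (x : s) := TensorProduct.exists_sum_tmul_eq x.1
  choose k t m hm using this
  let f : MvPolynomial (Σ x : s, Fin (k x)) R →ₐ[R] A := MvPolynomial.aeval (fun ⟨x, i⟩ ↦ m x i)
  apply Algebra.FiniteType.of_surjective f
  have hf : Function.Surjective (Algebra.TensorProduct.map (.id S S) f) := by
    rw [← AlgHom.range_eq_top, _root_.eq_top_iff, ← hs, Algebra.adjoin_le_iff]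
    intro x hx
    let i : s := ⟨x, hx⟩
    use ∑ (j : Fin (k i)), t i j ⊗ₜ MvPolynomial.X ⟨i, j⟩
    simp [f, ← hm, i]
  exact surjective_of_lTensor h f.toLinearMap hf

end Groth.Agent.Lib.Helper1.UnivInj

namespace Groth.Agent.Lib.Helper1.UnivInj

variable {R S : Type u} [CommRing R] [CommRing S] [Algebra R S]

theorem finitePresentation_of_tensor (h : Pi1.UnivInjective R S) (M : Type u) [AddCommGroup M]
    [Module R M] [Module.FinitePresentation S (S ⊗[R] M)] : Module.FinitePresentation R M := by
  classical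
  haveI : Module.Finite R M := finite_of_tensor h M
  obtain ⟨n, f, hf⟩ := Module.Finite.exists_fin' R M
  set K := LinearMap.ker f with hK
  let fS : S ⊗[R] (Fin n → R) →ₗ[S] S ⊗[R] M := AlgebraTensorModule.lTensor S S f
  have hfS : Function.Surjective fS := LinearMap.lTensor_surjective S hf
  have hker : (LinearMap.ker fS).FG := Module.FinitePresentation.fg_ker fS hfS
  set X : Set (S ⊗[R] (Fin n → R)) := Set.range (fun k : K => (1 : S) ⊗ₜ[R] (k : Fin n → R)) with hX
  have hspan : LinearMap.ker fS = Submodule.span S X := by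
    apply le_antisymm
    · intro w hw
      have hex := lTensor_exact S (LinearMap.exact_subtype_ker_map f) hf
      obtain ⟨y, rfl⟩ := (hex w).1 hw
      induction y with
      | zero => simp
      | add a b ha hb =>
        rw [map_add]
        refine Submodule.add_mem _ (ha ?_) (hb ?_)
        · exact (hex _).2 ⟨a, rfl⟩
        · exact (hex _).2 ⟨b, rfl⟩
      | tmul s k =>
        have : (LinearMap.lTensor S (LinearMap.ker f).subtype) (s ⊗ₜ[R] k) =
            s • ((1 : S) ⊗ₜ[R] (k : Fin n → R)) := by
          simp [TensorProduct.smul_tmul']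
        rw [this]
        exact Submodule.smul_mem _ _ (Submodule.subset_span ⟨k, rfl⟩)
    · rw [Submodule.span_le]
      rintro _ ⟨k, rfl⟩
      show fS ((1 : S) ⊗ₜ[R] (k : Fin n → R)) = 0
      simp only [fS, AlgebraTensorModule.lTensor_tmul]
      rw [show f (k : Fin n → R) = 0 from k.2, tmul_zero]
  rw [hspan, Submodule.fg_span_iff_fg_span_finset_subset] at hker
  obtain ⟨X', hX'sub, hX'⟩ := hker
  choose kx hkx using fun x : X' => hX'sub x.2
  set K' : Submodule R (Fin n → R) := Submodule.span R (Set.range fun x : X' => ((kx x : K) : Fin n → R))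
    with hK'
  have hK'le : K' ≤ K := by
    rw [Submodule.span_le]
    rintro _ ⟨x, rfl⟩
    exact (kx x).2
  have hK'fg : K'.FG := Submodule.fg_span (Set.finite_range _)
  let g : ((Fin n → R) ⧸ K') →ₗ[R] M := K'.liftQ f hK'le
  have hgsurj : Function.Surjective g := by
    intro m
    obtain ⟨v, rfl⟩ := hf m
    exact ⟨K'.mkQ v, by simp [g]⟩
  haveI : Module.FinitePresentation R ((Fin n → R) ⧸ K') :=
    Module.finitePresentation_of_free_of_surjective K'.mkQ (Submodule.mkQ_surjective _)
      (by rw [Submodule.ker_mkQ]; exact hK'fg)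
  have hginj : Function.Injective g := by
    apply injective_of_lTensor h g
    rw [injective_iff_map_eq_zero]
    intro z hz
    obtain ⟨w, rfl⟩ := LinearMap.lTensor_surjective S (Submodule.mkQ_surjective K') z
    rw [← LinearMap.comp_apply, ← LinearMap.lTensor_comp] at hz
    have hgm : g ∘ₗ K'.mkQ = f := by
      ext v
      simp [g]
    rw [hgm] at hz
    have hw : w ∈ LinearMap.ker fS := hz
    rw [hspan, hX'] at hw
    have hle : Submodule.span S (X' : Set (S ⊗[R] (Fin n → R))) ≤
        LinearMap.ker (AlgebraTensorModule.lTensor S S K'.mkQ) := by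
      rw [Submodule.span_le]
      intro x hx
      have h1 := hkx ⟨x, hx⟩
      simp only at h1
      rw [SetLike.mem_coe, LinearMap.mem_ker, ← h1, AlgebraTensorModule.lTensor_tmul]
      have : K'.mkQ ((kx ⟨x, hx⟩ : K) : Fin n → R) = 0 := by
        rw [Submodule.mkQ_apply, Submodule.Quotient.mk_eq_zero]
        exact Submodule.subset_span ⟨⟨x, hx⟩, rfl⟩
      rw [this, tmul_zero]
    exact hle hw
  exact Module.FinitePresentation.of_equiv (LinearEquiv.ofBijective g ⟨hginj, hgsurj⟩)

end Groth.Agent.Lib.Helper1.UnivInj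

namespace Groth.Agent.Lib.Helper1.UnivInj

variable {R S : Type u} [CommRing R] [CommRing S] [Algebra R S]

attribute [local instance] Algebra.TensorProduct.rightAlgebra in
theorem algFinitePresentation_of_tensor (h : Pi1.UnivInjective R S) (A : Type u) [CommRing A]
    [Algebra R A] [Algebra.FinitePresentation S (S ⊗[R] A)] : Algebra.FinitePresentation R A := by
  classical
  have hft : Algebra.FiniteType R A := finiteType_of_tensor h A
  rw [Algebra.FiniteType.iff_quotient_mvPolynomial''] at hft
  obtain ⟨n, f, hf⟩ := hft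
  let fS := Algebra.TensorProduct.map (AlgHom.id S S) f
  have hfS : Function.Surjective fS := Algebra.FiniteType.baseChangeAux_surj S hf
  have hkerFG : (RingHom.ker fS.toRingHom).FG :=
    Algebra.FinitePresentation.ker_fG_of_surjective fS hfS
  have hkereq : (RingHom.ker f.toRingHom).map
      (algebraMap (MvPolynomial (Fin n) R) (S ⊗[R] MvPolynomial (Fin n) R)) = RingHom.ker fS :=
    (Algebra.TensorProduct.lTensor_ker f hf).symm
  set φ := algebraMap (MvPolynomial (Fin n) R) (S ⊗[R] MvPolynomial (Fin n) R) with hφ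
  set I := RingHom.ker f.toRingHom with hI
  have hkerFG' : (Ideal.span (φ '' (I : Set (MvPolynomial (Fin n) R)))).FG := by
    have : Ideal.span (φ '' (I : Set (MvPolynomial (Fin n) R))) = RingHom.ker fS.toRingHom := hkereq
    rw [this]
    exact hkerFG
  have hkerFG'' : Submodule.FG (Submodule.span (S ⊗[R] MvPolynomial (Fin n) R)
      (φ '' (I : Set (MvPolynomial (Fin n) R)))) := hkerFG'
  rw [Submodule.fg_span_iff_fg_span_finset_subset] at hkerFG''
  replace hkerFG' := hkerFG''
  obtain ⟨X', hX'sub, hX'⟩ := hkerFG'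
  choose px hpxI hpx using fun x : X' => hX'sub x.2
  set I' : Ideal (MvPolynomial (Fin n) R) := Ideal.span (Set.range px) with hI'
  have hI'le : I' ≤ I := by
    rw [Ideal.span_le]
    rintro _ ⟨x, rfl⟩
    exact hpxI x
  have hI'fg : I'.FG := Submodule.fg_span (Set.finite_range _)
  haveI : Algebra.FinitePresentation R (MvPolynomial (Fin n) R ⧸ I') :=
    Algebra.FinitePresentation.quotient hI'fg
  let g : (MvPolynomial (Fin n) R ⧸ I') →ₐ[R] A := Ideal.Quotient.liftₐ I' f (fun a ha => hI'le ha)
  have hgsurj : Function.Surjective g := by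
    intro a
    obtain ⟨v, rfl⟩ := hf a
    exact ⟨Ideal.Quotient.mk I' v, by simp [g]⟩
  have hginj : Function.Injective g := by
    apply injective_of_lTensor h g.toLinearMap
    rw [injective_iff_map_eq_zero]
    intro z hz
    have hπ : Function.Surjective (Ideal.Quotient.mkₐ R I').toLinearMap :=
      Ideal.Quotient.mkₐ_surjective R I'
    obtain ⟨w, rfl⟩ := LinearMap.lTensor_surjective S (g := (Ideal.Quotient.mkₐ R I').toLinearMap) hπ z
    rw [← LinearMap.comp_apply, ← LinearMap.lTensor_comp] at hz
    have hgm : g.toLinearMap ∘ₗ (Ideal.Quotient.mkₐ R I').toLinearMap = f.toLinearMap := by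
      ext v
      simp [g]
    rw [hgm] at hz
    have hw : w ∈ RingHom.ker fS := hz
    rw [← hkereq] at hw
    have hw' : w ∈ Submodule.span (S ⊗[R] MvPolynomial (Fin n) R)
        (X' : Set (S ⊗[R] MvPolynomial (Fin n) R)) := by
      rw [← hX']
      exact hw
    have hle : Ideal.span (X' : Set (S ⊗[R] MvPolynomial (Fin n) R)) ≤
        RingHom.ker (Algebra.TensorProduct.map (AlgHom.id S S) (Ideal.Quotient.mkₐ R I')) := by
      rw [Ideal.span_le]
      intro x hx
      have h1 := hpx ⟨x, hx⟩
      simp only at h1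
      rw [SetLike.mem_coe, RingHom.mem_ker, ← h1]
      show (Algebra.TensorProduct.map (AlgHom.id S S) (Ideal.Quotient.mkₐ R I'))
        ((1 : S) ⊗ₜ[R] px ⟨x, hx⟩) = 0
      rw [Algebra.TensorProduct.map_tmul]
      have : (Ideal.Quotient.mkₐ R I') (px ⟨x, hx⟩) = 0 := by
        rw [Ideal.Quotient.mkₐ_eq_mk, Ideal.Quotient.eq_zero_iff_mem]
        exact Ideal.subset_span ⟨⟨x, hx⟩, rfl⟩
      rw [this, tmul_zero]
    exact hle hw'
  exact Algebra.FinitePresentation.equiv (AlgEquiv.ofBijective g ⟨hginj, hgsurj⟩)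

end Groth.Agent.Lib.Helper1.UnivInj
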