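import Mathlib
import Groth.Prelude.Def_FlatCA

/-!
# Universal injectivity: reduction to finitely generated test modules, and the Krull-intersection
criterion for `N → N^` (Stacks, More on Flatness, "universally injective into completion")
-/

set_option autoImplicit false

universe u

open TensorProduct Function

namespace Groth.Agent.H1.UnivInjLib


section reduction

variable {R : Type u} [CommRing R] {M N : Type u} [AddCommGroup M] [AddCommGroup N] [Module R M]
  [Module R N]

theorem rTensor_lTensor_comm {Q Q' : Type*} [AddCommGroup Q] [Module R Q] [AddCommGroup Q']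
    [Module R Q'] (f : M →ₗ[R] N) (g : Q →ₗ[R] Q') (t : Q ⊗[R] M) :
    LinearMap.rTensor N g (f.lTensor Q t) = f.lTensor Q' (LinearMap.rTensor M g t) := by
  induction t using TensorProduct.induction_on with
  | zero => simp
  | add a b ha hb => simp only [map_add, ha, hb]
  | tmul q m => simp

/-- universal injectivity can be tested on finitely generated modules -/
theorem univInj_of_forall_fg (f : M →ₗ[R] N)
    (h : ∀ (Q : Type u) [AddCommGroup Q] [Module R Q], Module.Finite R Q →
      Injective (f.lTensor Q)) : FlatCA.UnivInj R f := by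
  intro Q _ _
  rw [← LinearMap.ker_eq_bot, LinearMap.ker_eq_bot']
  intro z hz
  obtain ⟨P, hP, t, rfl⟩ := TensorProduct.exists_of_fg z
  have h1 : LinearMap.rTensor N P.subtype (f.lTensor P t) = 0 := by
    rw [rTensor_lTensor_comm]
    exact hz
  obtain ⟨P', hPP', hP', h2⟩ := TensorProduct.eq_zero_of_fg_of_subtype_eq_zero hP h1
  rw [rTensor_lTensor_comm] at h2
  haveI : Module.Finite R P' := Module.Finite.iff_fg.mpr hP'
  have h3 := h P' inferInstance (by rw [h2, map_zero] :
    f.lTensor P' (LinearMap.rTensor M (Submodule.inclusion hPP') t) = f.lTensor P' 0)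
  have h4 : LinearMap.rTensor M P.subtype t =
      LinearMap.rTensor M P'.subtype (LinearMap.rTensor M (Submodule.inclusion hPP') t) := by
    rw [← LinearMap.comp_apply, ← LinearMap.rTensor_comp]
    rfl
  rw [h4, h3, map_zero]

end reduction



section krull

variable {R S : Type u} [CommRing R] [CommRing S] [Algebra R S]
  (N : Type u) [AddCommGroup N] [Module S N] [Module R N] [IsScalarTower R S N]
  (Q : Type u) [AddCommGroup Q] [Module R Q]

theorem finite_tensor [Module.Finite S N] [Module.Finite R Q] : Module.Finite S (N ⊗[R] Q) :=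
  Module.Finite.equiv (TensorProduct.AlgebraTensorModule.cancelBaseChange R S S N Q)

/-- elements of `I^n N ⊗ Q` land in `(IS)^n (N ⊗ Q)` -/
theorem rTensor_subtype_mem (I : Ideal R) (n : ℕ)
    (t : (I ^ n • ⊤ : Submodule R N) ⊗[R] Q) :
    LinearMap.rTensor Q (I ^ n • ⊤ : Submodule R N).subtype t ∈
      ((I.map (algebraMap R S)) ^ n • ⊤ : Submodule S (N ⊗[R] Q)) := by
  induction t using TensorProduct.induction_on with
  | zero => rw [map_zero]; exact Submodule.zero_mem _
  | add a b ha hb => rw [map_add]; exact Submodule.add_mem _ ha hb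
  | tmul x q =>
    rw [LinearMap.rTensor_tmul, Submodule.subtype_apply]
    obtain ⟨x, hx⟩ := x
    change x ⊗ₜ[R] q ∈ _
    refine Submodule.smul_induction_on hx ?_ ?_
    · intro a ha y _
      rw [← TensorProduct.smul_tmul', ← algebraMap_smul S a (y ⊗ₜ[R] q)]
      refine Submodule.smul_mem_smul ?_ Submodule.mem_top
      rw [← Ideal.map_pow]
      exact Ideal.mem_map_of_mem _ ha
    · intro y z hy hz
      rw [add_tmul]
      exact Submodule.add_mem _ hy hz

/-- an element killed by the completion map lies in `⋂ (IS)^n (N ⊗ Q)` -/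
theorem mem_iInf_of_rTensor_of_eq_zero (I : Ideal R) (w : N ⊗[R] Q)
    (hw : LinearMap.rTensor Q (AdicCompletion.of I N) w = 0) :
    w ∈ (⨅ n : ℕ, (I.map (algebraMap R S)) ^ n • ⊤ : Submodule S (N ⊗[R] Q)) := by
  rw [Submodule.mem_iInf]
  intro n
  have h1 : LinearMap.rTensor Q (I ^ n • ⊤ : Submodule R N).mkQ w = 0 := by
    rw [← AdicCompletion.eval_comp_of, LinearMap.rTensor_comp, LinearMap.comp_apply, hw, map_zero]
  have hex := rTensor_exact Q (LinearMap.exact_subtype_mkQ (I ^ n • ⊤ : Submodule R N))
    (Submodule.mkQ_surjective _)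
  obtain ⟨t, rfl⟩ := (hex w).mp h1
  exact rTensor_subtype_mem N Q I n t

/-- the key injectivity statement -/
theorem eq_zero_of_rTensor_of_eq_zero [IsNoetherianRing S] [Module.Finite S N] [Module.Finite R Q]
    (I : Ideal R)
    (h : ∀ q ∈ associatedPrimes S (N ⊗[R] Q), I.map (algebraMap R S) ⊔ q ≠ ⊤)
    (w : N ⊗[R] Q) (hw : LinearMap.rTensor Q (AdicCompletion.of I N) w = 0) : w = 0 := by
  haveI := finite_tensor (R := R) (S := S) N Q
  by_contra hw0
  have h1 := mem_iInf_of_rTensor_of_eq_zero N Q (S := S) I w hw
  obtain ⟨r, hr⟩ := (Ideal.mem_iInf_smul_pow_eq_bot_iff (I.map (algebraMap R S)) w).mp h1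
  obtain ⟨P, hP, hle⟩ := exists_le_isAssociatedPrime_of_isNoetherianRing S w hw0
  apply h P hP
  rw [Ideal.eq_top_iff_one]
  have h2 : (1 - (r : S)) ∈ P := by
    apply hle
    rw [Submodule.mem_colon_singleton, Submodule.mem_bot, sub_smul, one_smul, hr, sub_self]
  have : (1 : S) = (r : S) + (1 - (r : S)) := by ring
  rw [this]
  exact Submodule.add_mem_sup r.2 h2

end krull


section final

variable {R S : Type u} [CommRing R] [CommRing S] [Algebra R S] [IsNoetherianRing S]
  (N : Type u) [AddCommGroup N] [Module S N] [Module R N] [IsScalarTower R S N] [Module.Finite S N]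

/-- `N → N^` is universally injective when the associated primes of the `N ⊗ Q` meet `V(IS)` -/
theorem univInj_of_adicCompletion (I : Ideal R)
    (h : ∀ (Q : Type u) [AddCommGroup Q] [Module R Q], Module.Finite R Q →
      ∀ q ∈ associatedPrimes S (N ⊗[R] Q), I.map (algebraMap R S) ⊔ q ≠ ⊤) :
    FlatCA.UnivInj R (AdicCompletion.of I N) := by
  refine univInj_of_forall_fg _ fun Q _ _ hQ => ?_
  rw [← LinearMap.ker_eq_bot, LinearMap.ker_eq_bot']
  intro z hz
  have h1 : LinearMap.rTensor Q (AdicCompletion.of I N) (TensorProduct.comm R Q N z) = 0 := by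
    have := TensorProduct.map_comm (AdicCompletion.of I N) (LinearMap.id : Q →ₗ[R] Q) z
    change TensorProduct.map (AdicCompletion.of I N) LinearMap.id _ = 0
    rw [this]
    change TensorProduct.comm R Q (AdicCompletion I N) ((AdicCompletion.of I N).lTensor Q z) = 0
    rw [hz, map_zero]
  have h2 := eq_zero_of_rTensor_of_eq_zero (S := S) N Q I (h Q hQ) _ h1
  exact (TensorProduct.comm R Q N).injective (by rw [h2, map_zero])

end final

end Groth.Agent.H1.UnivInjLib
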