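import Mathlib
import Groth.Prelude.Def_FlatCA
import Groth.Agent.Lib.Helper1.AssFibre
import Groth.Agent.Lib.Helper1.UnivInjLib
import Groth.Agent.Lib.Helper1.FlatNilpotent

/-!
# Universal injectivity of multiplication by fibrewise non-zero-divisors (Raynaud–Gruson)
-/

set_option autoImplicit false

universe u

open TensorProduct Function

namespace Groth.Agent.H1.UnivInjFib

section closedFibre

attribute [local instance] Algebra.TensorProduct.rightAlgebra

variable {R S : Type u} [CommRing R] [IsLocalRing R] [CommRing S] [Algebra R S]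
  (N : Type u) [AddCommGroup N] [Module S N] [Module R N] [IsScalarTower R S N]

/-- vanishing in the closed fibre module -/
theorem one_tmul_eq_zero_iff (x : N) :
    ((1 : (IsLocalRing.maximalIdeal R).Fiber S) ⊗ₜ[S] x :
      FlatCA.fiberMod (IsLocalRing.maximalIdeal R) S N) = 0 ↔
    x ∈ (IsLocalRing.maximalIdeal R).map (algebraMap R S) • (⊤ : Submodule S N) := by
  rw [FibInj.mem_map_smul_top_iff]
  constructor
  · intro h
    obtain ⟨a, ha, hax⟩ := AssFibre.exists_smul_mem_of_one_tmul_eq_zero _ S N x h
    have hu : IsUnit a := by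
      by_contra hna
      exact ha ((IsLocalRing.mem_maximalIdeal a).mpr hna)
    obtain ⟨u, rfl⟩ := hu
    have : x = (↑u⁻¹ : R) • ((u : R) • x) := by rw [smul_smul, Units.inv_mul, one_smul]
    rw [this]
    exact Submodule.smul_mem _ _ hax
  · intro h
    exact AssFibre.one_tmul_eq_zero_of_mem _ S N x h

/-- elements acting injectively on the closed fibre satisfy the fibre condition -/
theorem fibre_cond_of_mem_nzdFiber (s : S) (hs : s ∈ FlatCA.nzdFiber R S N) (x : N)
    (hx : s • x ∈ (IsLocalRing.maximalIdeal R).map (algebraMap R S) • (⊤ : Submodule S N)) :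
    x ∈ (IsLocalRing.maximalIdeal R).map (algebraMap R S) • (⊤ : Submodule S N) := by
  rw [← one_tmul_eq_zero_iff] at hx ⊢
  rw [mem_nonZeroSMulDivisors_iff] at hs
  apply hs
  exact ((TensorProduct.tmul_smul s (1 : (IsLocalRing.maximalIdeal R).Fiber S) x).symm).trans hx

end closedFibre

section univ

variable {R S : Type u} [CommRing R] [CommRing S] [Algebra R S]
  {N : Type u} [AddCommGroup N] [Module S N] [Module R N] [IsScalarTower R S N]

/-- an injective map with flat cokernel is universally injective -/
theorem univInj_of_injective_of_flat_coker (u : N →ₗ[S] N) (hinj : Injective u)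
    (hflat : Module.Flat R (N ⧸ LinearMap.range u)) :
    FlatCA.UnivInj R (u.restrictScalars R) := by
  intro Q _ _
  let g₁ : N →ₗ[R] N := u.restrictScalars R
  let g₂ : N →ₗ[R] (N ⧸ LinearMap.range u) := (LinearMap.range u).mkQ.restrictScalars R
  have h1 : Injective g₁ := hinj
  have h2 : Exact g₁ g₂ := by
    intro y
    change (LinearMap.range u).mkQ y = 0 ↔ y ∈ Set.range u
    rw [Submodule.mkQ_apply, Submodule.Quotient.mk_eq_zero]
    rfl
  have h3 : Surjective g₂ := by
    intro y
    obtain ⟨x, rfl⟩ := Submodule.Quotient.mk_surjective _ y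
    exact ⟨x, rfl⟩
  exact Groth.Agent.H1.lTensor_injective_of_exact_of_flat g₁ g₂ h1 h2 h3 Q

end univ

section locz

variable {R S : Type u} [CommRing R] [CommRing S] [Algebra R S]
  (N : Type u) [AddCommGroup N] [Module S N] [Module R N] [IsScalarTower R S N]
  (T : Submonoid S)

omit [Module S N] [IsScalarTower R S N] in
theorem comm_lTensor {M' : Type*} [AddCommGroup M'] [Module R M']
    (Q : Type*) [AddCommGroup Q] [Module R Q] (f : N →ₗ[R] M') (z : Q ⊗[R] N) :
    TensorProduct.comm R Q M' (f.lTensor Q z) = f.rTensor Q (TensorProduct.comm R Q N z) := by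
  induction z using TensorProduct.induction_on with
  | zero => simp
  | add a b ha hb => simp only [map_add, ha, hb]
  | tmul q m => simp

/-- an element of `Q ⊗ N` dying in `Q ⊗ T⁻¹N` is killed by an element of `T` -/
theorem exists_smul_eq_zero_of_lTensor_mk_eq_zero (Q : Type u) [AddCommGroup Q] [Module R Q]
    (z : Q ⊗[R] N)
    (hz : ((LocalizedModule.mkLinearMap T N).restrictScalars R).lTensor Q z = 0) :
    ∃ s ∈ T, ((LinearMap.lsmul S N s).restrictScalars R).lTensor Q z = 0 := by
  have h1 : TensorProduct.AlgebraTensorModule.rTensor R Q (LocalizedModule.mkLinearMap T N)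
      (TensorProduct.comm R Q N z) = 0 := by
    have := comm_lTensor N Q ((LocalizedModule.mkLinearMap T N).restrictScalars R) z
    rw [hz, map_zero] at this
    exact this.symm
  obtain ⟨s, hs⟩ := (IsLocalizedModule.eq_zero_iff T
    (TensorProduct.AlgebraTensorModule.rTensor R Q (LocalizedModule.mkLinearMap T N))).mp h1
  refine ⟨s, s.2, ?_⟩
  apply (TensorProduct.comm R Q N).injective
  rw [map_zero, comm_lTensor]
  have h2 : ∀ w : N ⊗[R] Q, ((LinearMap.lsmul S N (s : S)).restrictScalars R).rTensor Q w =
      (s : S) • w := by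
    intro w
    induction w using TensorProduct.induction_on with
    | zero => simp
    | add a b ha hb => rw [map_add, ha, hb, smul_add]
    | tmul n q => rw [LinearMap.rTensor_tmul, TensorProduct.smul_tmul']; rfl
  rw [h2]
  exact hs

end locz

end Groth.Agent.H1.UnivInjFib
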