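import Mathlib
import Groth.Prelude.Def_FlatCA
import Groth.Agent.Lib.Helper1.UnivInjFib
import Groth.Agent.Lib.Helper1.Kaplansky2

/-!
# Universal injectivity for maps of free modules over a local ring that are injective mod `𝔪`
-/

set_option autoImplicit false

universe u

open TensorProduct Function

namespace Groth.Agent.H1.UnivInjProj

section gen

variable {R : Type u} [CommRing R]

theorem map_mem_smul_top {M M' : Type*} [AddCommGroup M] [Module R M] [AddCommGroup M']
    [Module R M'] (I : Ideal R) (f : M →ₗ[R] M') {x : M}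
    (hx : x ∈ I • (⊤ : Submodule R M)) : f x ∈ I • (⊤ : Submodule R M') := by
  have h1 : f x ∈ (I • (⊤ : Submodule R M)).map f := Submodule.mem_map_of_mem hx
  rw [Submodule.map_smul''] at h1
  exact Submodule.smul_mono le_rfl le_top h1

end gen

section finite

variable {R : Type u} [CommRing R] [IsLocalRing R]

/-- finite free: injective mod `𝔪` implies split injective -/
theorem exists_leftInverse_of_fibre_cond {F F' : Type u} [AddCommGroup F] [Module R F]
    [AddCommGroup F'] [Module R F'] [Module.Finite R F] [Module.Finite R F'] [Module.Free R F']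
    (v : F →ₗ[R] F')
    (hv : ∀ c : F, v c ∈ IsLocalRing.maximalIdeal R • (⊤ : Submodule R F') →
      c ∈ IsLocalRing.maximalIdeal R • (⊤ : Submodule R F)) :
    ∃ w : F' →ₗ[R] F, w ∘ₗ v = LinearMap.id := by
  rw [IsLocalRing.split_injective_iff_lTensor_residueField_injective]
  rw [injective_iff_map_eq_zero]
  intro z hz
  obtain ⟨c, rfl⟩ := TensorProduct.mk_surjective R F (IsLocalRing.ResidueField R)
    Ideal.Quotient.mk_surjective z
  have h1 : (TensorProduct.mk R (R ⧸ IsLocalRing.maximalIdeal R) F' 1) (v c) = 0 := by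
    have := hz
    simp only [TensorProduct.mk_apply, LinearMap.lTensor_tmul] at this
    exact this
  have h2 : v c ∈ LinearMap.ker (TensorProduct.mk R (R ⧸ IsLocalRing.maximalIdeal R) F' 1) := h1
  rw [LinearMap.ker_tensorProductMk] at h2
  have h3 := hv c h2
  rw [← LinearMap.ker_tensorProductMk] at h3
  exact h3

end finite

section free

variable {R : Type u} [CommRing R]
variable {N : Type u} [AddCommGroup N] [Module R N]
variable {ι : Type u} (b : Module.Basis ι R N)

/-- inclusion of finitely many coordinates -/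
noncomputable def theta (J : Finset ι) : (J → R) →ₗ[R] N :=
  Fintype.linearCombination R (fun j : J => b j)

/-- projection on finitely many coordinates -/
noncomputable def proj (J : Finset ι) : N →ₗ[R] (J → R) :=
  LinearMap.pi (fun j : J => b.coord j)

theorem proj_theta_apply (J : Finset ι) (c : J → R) : proj b J (theta b J c) = c := by
  classical
  funext j
  simp only [proj, theta, LinearMap.pi_apply, Fintype.linearCombination_apply, map_sum, map_smul,
    Module.Basis.coord_apply, Module.Basis.repr_self, smul_eq_mul]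
  rw [Finset.sum_eq_single j]
  · simp
  · intro i _ hij
    rw [Finsupp.single_apply, if_neg (fun h => hij (Subtype.ext h)), mul_zero]
  · intro h
    exact absurd (Finset.mem_univ j) h

theorem proj_theta (J : Finset ι) : proj b J ∘ₗ theta b J = LinearMap.id :=
  LinearMap.ext fun c => proj_theta_apply b J c

theorem theta_proj_of_support (J : Finset ι) (n : N) (h : (b.repr n).support ⊆ J) :
    theta b J (proj b J n) = n := by
  conv_rhs => rw [← b.linearCombination_repr n]
  rw [Finsupp.linearCombination_apply, Finsupp.sum_of_support_subset _ h _ (by intros; simp)]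
  simp only [theta, proj, Fintype.linearCombination_apply, LinearMap.pi_apply,
    Module.Basis.coord_apply]
  exact Finset.sum_coe_sort J (fun i => b.repr n i • b i)

theorem support_theta (J : Finset ι) (c : J → R) : (b.repr (theta b J c)).support ⊆ J := by
  classical
  intro i hi
  by_contra hiJ
  rw [Finsupp.mem_support_iff] at hi
  apply hi
  simp only [theta, Fintype.linearCombination_apply, map_sum, map_smul, Module.Basis.repr_self]
  rw [Finsupp.finsetSum_apply]
  apply Finset.sum_eq_zero
  intro j _
  rw [Finsupp.smul_apply, Finsupp.single_apply, if_neg, smul_zero]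
  intro hj
  exact hiJ (hj ▸ j.2)

theorem fix_mono (Q : Type u) [AddCommGroup Q] [Module R Q] {J₁ J : Finset ι} (h : J₁ ⊆ J)
    (z : Q ⊗[R] N) (hz : (theta b J₁ ∘ₗ proj b J₁).lTensor Q z = z) :
    (theta b J ∘ₗ proj b J).lTensor Q z = z := by
  have hcomp : (theta b J ∘ₗ proj b J) ∘ₗ (theta b J₁ ∘ₗ proj b J₁) =
      theta b J₁ ∘ₗ proj b J₁ := by
    refine LinearMap.ext fun n => ?_
    simp only [LinearMap.comp_apply]
    exact theta_proj_of_support b J _ ((support_theta b J₁ _).trans h)
  calc (theta b J ∘ₗ proj b J).lTensor Q z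
      = (theta b J ∘ₗ proj b J).lTensor Q ((theta b J₁ ∘ₗ proj b J₁).lTensor Q z) := by rw [hz]
    _ = ((theta b J ∘ₗ proj b J) ∘ₗ (theta b J₁ ∘ₗ proj b J₁)).lTensor Q z := by
        rw [← LinearMap.comp_apply, ← LinearMap.lTensor_comp]
    _ = z := by rw [hcomp, hz]

theorem exists_finset_fix (Q : Type u) [AddCommGroup Q] [Module R Q] (z : Q ⊗[R] N) :
    ∃ J : Finset ι, (theta b J ∘ₗ proj b J).lTensor Q z = z := by
  classical
  induction z using TensorProduct.induction_on with
  | zero => exact ⟨∅, by simp⟩
  | tmul q n =>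
    refine ⟨(b.repr n).support, ?_⟩
    rw [LinearMap.lTensor_tmul, LinearMap.comp_apply,
      theta_proj_of_support b _ n (Finset.Subset.refl _)]
  | add z₁ z₂ h₁ h₂ =>
    obtain ⟨J₁, h₁⟩ := h₁
    obtain ⟨J₂, h₂⟩ := h₂
    refine ⟨J₁ ∪ J₂, ?_⟩
    rw [map_add, fix_mono b Q Finset.subset_union_left z₁ h₁,
      fix_mono b Q Finset.subset_union_right z₂ h₂]

end free

section main

variable {R : Type u} [CommRing R] [IsLocalRing R]
variable {N N' : Type u} [AddCommGroup N] [Module R N] [AddCommGroup N'] [Module R N']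
variable {ι ι' : Type u}

/-- a map of free modules over a local ring which is injective modulo `𝔪` is universally injective -/
theorem univInj_of_free (b : Module.Basis ι R N) (b' : Module.Basis ι' R N') (u : N →ₗ[R] N')
    (hu : ∀ x, u x ∈ IsLocalRing.maximalIdeal R • (⊤ : Submodule R N') →
      x ∈ IsLocalRing.maximalIdeal R • (⊤ : Submodule R N)) : FlatCA.UnivInj R u := by
  classical
  intro Q _ _
  rw [injective_iff_map_eq_zero]
  intro z hz
  obtain ⟨J, hJ⟩ := exists_finset_fix b Q z
  obtain ⟨J', hJ'⟩ : ∃ J' : Finset ι', J' = J.biUnion (fun j => (b'.repr (u (b j))).support) :=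
    ⟨_, rfl⟩
  have hkey : ∀ c : J → R,
      theta b' J' (proj b' J' (u (theta b J c))) = u (theta b J c) := by
    intro c
    apply theta_proj_of_support
    simp only [theta, Fintype.linearCombination_apply, map_sum, map_smul]
    intro i hi
    rw [Finsupp.mem_support_iff] at hi
    by_contra hiJ
    apply hi
    rw [Finsupp.finsetSum_apply]
    apply Finset.sum_eq_zero
    intro j _
    rw [Finsupp.smul_apply]
    have : (b'.repr (u (b j))) i = 0 := by
      by_contra hne
      apply hiJ
      rw [hJ']
      exact Finset.mem_biUnion.mpr ⟨j.1, j.2, Finsupp.mem_support_iff.mpr hne⟩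
    rw [this, smul_zero]
  obtain ⟨v, hvdef⟩ : ∃ v : (J → R) →ₗ[R] (J' → R), v = proj b' J' ∘ₗ u ∘ₗ theta b J := ⟨_, rfl⟩
  have hv : ∀ c, v c ∈ IsLocalRing.maximalIdeal R • (⊤ : Submodule R (J' → R)) →
      c ∈ IsLocalRing.maximalIdeal R • (⊤ : Submodule R (J → R)) := by
    intro c hc
    have h1 : theta b' J' (v c) ∈ IsLocalRing.maximalIdeal R • (⊤ : Submodule R N') :=
      map_mem_smul_top _ (theta b' J') hc
    have h2 : u (theta b J c) ∈ IsLocalRing.maximalIdeal R • (⊤ : Submodule R N') := by
      rw [← hkey c]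
      rw [hvdef] at h1
      exact h1
    have h3 := hu _ h2
    have h4 := map_mem_smul_top _ (proj b J) h3
    rwa [proj_theta_apply] at h4
  obtain ⟨w, hw⟩ := exists_leftInverse_of_fibre_cond v hv
  obtain ⟨zF, hzF⟩ : ∃ zF, zF = (proj b J).lTensor Q z := ⟨_, rfl⟩
  have hz1 : (theta b J).lTensor Q zF = z := by
    rw [hzF, ← LinearMap.comp_apply, ← LinearMap.lTensor_comp]
    exact hJ
  have hcomp : theta b' J' ∘ₗ v = u ∘ₗ theta b J := by
    refine LinearMap.ext fun c => ?_
    rw [hvdef]
    exact hkey c
  have h5 : v.lTensor Q zF = 0 := by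
    have h6 : (theta b' J').lTensor Q (v.lTensor Q zF) = 0 := by
      rw [← LinearMap.comp_apply, ← LinearMap.lTensor_comp, hcomp, LinearMap.lTensor_comp,
        LinearMap.comp_apply, hz1, hz]
    have h7 := congrArg ((proj b' J').lTensor Q) h6
    rw [map_zero, ← LinearMap.comp_apply, ← LinearMap.lTensor_comp, proj_theta,
      LinearMap.lTensor_id, LinearMap.id_apply] at h7
    exact h7
  have h8 : zF = 0 := by
    have := congrArg (w.lTensor Q) h5
    rwa [map_zero, ← LinearMap.comp_apply, ← LinearMap.lTensor_comp, hw, LinearMap.lTensor_id,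
      LinearMap.id_apply] at this
  rw [← hz1, h8, map_zero]

end main

section rg

variable {R S : Type u} [CommRing R] [IsLocalRing R] [CommRing S] [Algebra R S]
  (N : Type u) [AddCommGroup N] [Module S N] [Module R N] [IsScalarTower R S N]
  [Module.Projective R N]

theorem main :
    (∀ s ∈ FlatCA.nzdFiber R S N,
      FlatCA.UnivInj R ((LinearMap.lsmul S N s).restrictScalars R)) ∧
    FlatCA.UnivInj R
      ((LocalizedModule.mkLinearMap (FlatCA.nzdFiber R S N) N).restrictScalars R) := by
  haveI : Module.Free R N := Kap.free_of_projective R N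
  have part1 : ∀ s ∈ FlatCA.nzdFiber R S N,
      FlatCA.UnivInj R ((LinearMap.lsmul S N s).restrictScalars R) := by
    intro s hs
    obtain ⟨⟨ι, b⟩⟩ := Module.Free.exists_basis R N
    apply univInj_of_free b b
    intro x hx
    have hx' : s • x ∈ (IsLocalRing.maximalIdeal R).map (algebraMap R S) •
        (⊤ : Submodule S N) :=
      (FibInj.mem_map_smul_top_iff (A := R) (B := S) (IsLocalRing.maximalIdeal R) (s • x)).mpr hx
    exact (FibInj.mem_map_smul_top_iff (A := R) (B := S) (IsLocalRing.maximalIdeal R) x).mp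
      (UnivInjFib.fibre_cond_of_mem_nzdFiber N s hs x hx')
  refine ⟨part1, ?_⟩
  intro Q _ _
  rw [injective_iff_map_eq_zero]
  intro z hz
  obtain ⟨s, hs, hsz⟩ := UnivInjFib.exists_smul_eq_zero_of_lTensor_mk_eq_zero N
    (FlatCA.nzdFiber R S N) Q z hz
  exact (injective_iff_map_eq_zero _).mp (part1 s hs Q) z hsz

end rg

end Groth.Agent.H1.UnivInjProj
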