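import Mathlib
import Groth.Prelude.Def_HTop
import Groth.Agent.Lib.Helper1.VCov
import Groth.Agent.H4.VCover

set_option autoImplicit false

namespace Groth.Agent.Lib.Helper1.VSheaf

open CategoryTheory CategoryTheory.Limits AlgebraicGeometry HTop TopologicalSpace IsLocalRing

universe v w w' u

/-- reindexing a family along an equivalence -/
@[simps]
def reindex {T : Scheme.{u}} (E : PreZeroHypercover.{w} T) {ι' : Type w'} (e : ι' ≃ E.I₀) :
    PreZeroHypercover.{w'} T where
  I₀ := ι'
  X k := E.X (e k)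
  f k := E.f (e k)

theorem presieve₀_reindex {T : Scheme.{u}} (E : PreZeroHypercover.{w} T) {ι' : Type w'}
    (e : ι' ≃ E.I₀) : (reindex E e).presieve₀ = E.presieve₀ := by
  refine le_antisymm ?_ ?_
  · rintro - - ⟨k⟩
    exact Presieve.ofArrows.mk (e k)
  · rintro - - ⟨j⟩
    obtain ⟨k, rfl⟩ := e.surjective j
    exact Presieve.ofArrows.mk (ι := ι') (Y := fun k => E.X (e k)) (f := fun k => E.f (e k)) k

theorem hasValLift_reindex {T : Scheme.{u}} (E : PreZeroHypercover.{w} T) {ι' : Type w'}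
    (e : ι' ≃ E.I₀) (hE : HasValLift E) : HasValLift (reindex E e) := by
  intro V _ _ g
  obtain ⟨W, hd, hv, φ, hφ, j, g', hg'⟩ := hE V g
  obtain ⟨k, rfl⟩ := e.surjective j
  exact ⟨W, hd, hv, φ, hφ, k, g', hg'⟩

theorem isStandardV_reindex {T : Scheme.{u}} (E : PreZeroHypercover.{w} T) {ι' : Type w'}
    (e : ι' ≃ E.I₀) (hE : IsStandardV E) : IsStandardV (reindex E e) := by
  have := hE.finite_index
  exact ⟨hE.isAffine, Finite.of_equiv _ e.symm, fun k => hE.isAffine_obj (e k),
    hasValLift_reindex E e hE.lift⟩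

/-- a standard V covering is a V covering -/
theorem isVCover_of_isStandardV {T : Scheme.{u}} (E : PreZeroHypercover.{w} T)
    (hE : IsStandardV E) : IsVCover E := by
  rintro ⟨U, (hU : IsAffineOpen U)⟩
  have := hE.finite_index
  obtain ⟨n, ⟨e⟩⟩ := Finite.exists_equiv_fin E.I₀
  have hE' : IsStandardV (reindex E e.symm) := isStandardV_reindex E e.symm hE
  have : IsAffine (U : Scheme.{u}) := hU
  refine ⟨(reindex E e.symm).pullback₁ U.ι,
    Groth.Agent.S7469.result U.ι (reindex E e.symm) hE', fun k => ?_⟩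
  exact ⟨e.symm k, pullback.snd _ _, pullback.condition.symm⟩

theorem hasValLift_pullback₂ {T Y : Scheme.{u}} (E : PreZeroHypercover.{w} T) (hE : HasValLift E)
    (g : Y ⟶ T) : HasValLift (E.pullback₂ g) := by
  intro V _ _ h
  obtain ⟨W, hd, hv, φ, hφ, j, g', hg'⟩ := hE V (h ≫ g)
  refine ⟨W, hd, hv, φ, hφ, j, pullback.lift g' (Spec.map φ ≫ h) (by
    rw [hg', Category.assoc]), ?_⟩
  exact pullback.lift_snd _ _ _

theorem isStandardV_pullback₂_pullback₂ {T Y Y' : Scheme.{u}} [IsAffine Y']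
    (E : PreZeroHypercover.{w} T) (hE : IsStandardV E) (g : Y ⟶ T) (a : Y' ⟶ Y) :
    IsStandardV ((E.pullback₂ g).pullback₂ a) := by
  have := hE.isAffine
  refine ⟨inferInstance, hE.finite_index, fun j => ?_,
    hasValLift_pullback₂ _ (hasValLift_pullback₂ _ hE.lift g) a⟩
  have := hE.isAffine_obj j
  exact .of_isIso (pullbackLeftPullbackSndIso (E.f j) g a).hom

theorem isVCover_pullback₂ {T Y : Scheme.{u}} (E : PreZeroHypercover.{w} T) (hE : IsVCover E)
    (g : Y ⟶ T) : IsVCover (E.pullback₂ g) := by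
  rintro ⟨U', (hU' : IsAffineOpen U')⟩
  have : IsAffine (U' : Scheme.{u}) := hU'
  obtain ⟨C, hC, hCR⟩ := Groth.Agent.H4.VCover.exists_standardV_refinesOver E hE
    (U' : Scheme.{u}) (U'.ι ≫ g)
  refine ⟨C, hC, fun j => ?_⟩
  obtain ⟨i, r, hr⟩ := hCR j
  refine ⟨i, pullback.lift r (C.f j ≫ U'.ι) (by rw [hr, Category.assoc]), ?_⟩
  exact pullback.lift_snd _ _ _

/-- sheaf condition passes from a refinement (generalizing Mathlib's
`Precoverage.ZeroHypercover.Hom.isSheafFor_iff`) -/
theorem isSheafFor_of_hom {S : Scheme.{u}} {F : Scheme.{u}ᵒᵖ ⥤ Type v}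
    {𝒰 : PreZeroHypercover.{w} S} {𝒱 : PreZeroHypercover.{w'} S}
    (f : 𝒰.Hom 𝒱) (H₁ : Presieve.IsSheafFor F (.ofArrows _ 𝒰.f))
    (H₂ : ∀ {X : Scheme.{u}} (f : X ⟶ S),
      Presieve.IsSeparatedFor F (.ofArrows (𝒰.pullback₂ f).X (𝒰.pullback₂ f).f)) :
    Presieve.IsSheafFor F (.ofArrows 𝒱.X 𝒱.f) := by
  rw [Presieve.isSheafFor_iff_generate]
  apply Presieve.isSheafFor_subsieve_aux (S := .generate (.ofArrows 𝒰.X 𝒰.f))
  · rw [← Sieve.generate_le_iff, Sieve.generate_sieve, Sieve.generate_le_iff,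
      Presieve.ofArrows_le_iff]
    intro i
    rw [← f.w₀]
    exact ⟨_, f.h₀ i, 𝒱.f _, ⟨_⟩, rfl⟩
  · rwa [← Presieve.isSheafFor_iff_generate]
  · intro Y f hf
    rw [← Sieve.pullbackArrows_comm, ← Presieve.isSeparatedFor_iff_generate,
      ← Presieve.ofArrows_pullback]
    apply H₂

section

variable {F : Scheme.{u}ᵒᵖ ⥤ Type v}
  (hzar : Presieve.IsSheaf Scheme.zariskiTopology F)
  (hst : ∀ (T : Scheme.{u}) (E : PreZeroHypercover.{u} T), IsStandardV E →
    Presieve.IsSheafFor F E.presieve₀)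

include hst in
theorem isSheafFor_of_isStandardV {T : Scheme.{u}} (E : PreZeroHypercover.{w} T)
    (hE : IsStandardV E) : Presieve.IsSheafFor F E.presieve₀ := by
  have := hE.finite_index
  obtain ⟨n, ⟨e⟩⟩ := Finite.exists_equiv_fin E.I₀
  let e' : ULift.{u} (Fin n) ≃ E.I₀ := Equiv.ulift.trans e.symm
  rw [← presieve₀_reindex E e']
  exact hst T _ (isStandardV_reindex E e' hE)

include hzar hst in
theorem isSheafFor_pullback₂_of_isStandardV {T Y : Scheme.{u}} (E : PreZeroHypercover.{w} T)
    (hE : IsStandardV E) (g : Y ⟶ T) :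
    Presieve.IsSheafFor F (.ofArrows (E.pullback₂ g).X (E.pullback₂ g).f) := by
  refine Y.affineOneHypercover.isSheafFor_of_pullback hzar (fun i => ?_) (fun i j k => ?_)
  · rw [← Sieve.pullbackArrows_comm, ← Presieve.ofArrows_pullback,
      ← Presieve.isSheafFor_iff_generate]
    have : IsAffine (Y.affineOneHypercover.X i) := by
      change IsAffine (Spec _)
      infer_instance
    exact isSheafFor_of_isStandardV hst _ (isStandardV_pullback₂_pullback₂ E hE g _)
  · rw [← Sieve.pullbackArrows_comm, ← Presieve.isSeparatedFor_iff_generate]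
    apply Presieve.IsSheafFor.isSeparatedFor
    rw [← Presieve.ofArrows_pullback]
    have : IsAffine (Y.affineOneHypercover.Y k) := by
      change IsAffine (Spec _)
      infer_instance
    exact isSheafFor_of_isStandardV hst _ (isStandardV_pullback₂_pullback₂ E hE g _)

include hzar hst in
theorem isSheafFor_of_isVCover_of_isAffine {X : Scheme.{u}} [IsAffine X]
    (E : PreZeroHypercover.{w} X) (hE : IsVCover E) : Presieve.IsSheafFor F E.presieve₀ := by
  obtain ⟨C, hC, hCR⟩ := Groth.Agent.H4.VCover.exists_standardV_refinesOver E hE X (𝟙 X)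
  choose i h hh using hCR
  let φ : C.Hom E := { s₀ := i, h₀ := h, w₀ := fun j => by simpa using hh j }
  exact isSheafFor_of_hom φ (isSheafFor_of_isStandardV hst C hC)
    (fun g => (isSheafFor_pullback₂_of_isStandardV hzar hst C hC g).isSeparatedFor)

include hzar hst in
theorem isSheafFor_of_isVCover {X : Scheme.{u}}
    (E : PreZeroHypercover.{w} X) (hE : IsVCover E) : Presieve.IsSheafFor F E.presieve₀ := by
  refine X.affineOneHypercover.isSheafFor_of_pullback hzar (fun i => ?_) (fun i j k => ?_)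
  · rw [← Sieve.pullbackArrows_comm, ← Presieve.isSheafFor_iff_generate,
      ← PreZeroHypercover.presieve₀_pullback₁]
    have : IsAffine (X.affineOneHypercover.X i) := by
      change IsAffine (Spec _)
      infer_instance
    exact isSheafFor_of_isVCover_of_isAffine hzar hst _ (isVCover_pullback₂ E hE _)
  · rw [← Sieve.pullbackArrows_comm, ← Presieve.isSeparatedFor_iff_generate]
    apply Presieve.IsSheafFor.isSeparatedFor
    rw [← PreZeroHypercover.presieve₀_pullback₁]
    have : IsAffine (X.affineOneHypercover.Y k) := by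
      change IsAffine (Spec _)
      infer_instance
    exact isSheafFor_of_isVCover_of_isAffine hzar hst _ (isVCover_pullback₂ E hE _)

end

end Groth.Agent.Lib.Helper1.VSheaf
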