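import Mathlib
import Groth.Prelude.Def_HTop
import Groth.Agent.Lib.Helper1.VSheaf

set_option autoImplicit false

namespace Groth.Agent.Lib.Helper1.VSubm

open CategoryTheory CategoryTheory.Limits AlgebraicGeometry HTop TopologicalSpace IsLocalRing
open Groth.Agent.Lib.Helper1.ValLift

universe v w w' u

theorem isClosed_image_of_stableUnderSpecialization_of_isAffine {X Y : Scheme.{u}} [IsAffine X]
    [IsAffine Y] (f : X ⟶ Y) (Z : Set X) (hZ : IsClosed Z)
    (H : StableUnderSpecialization (f '' Z)) : IsClosed (f '' Z) := by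
  have hnat : X.isoSpec.hom ≫ Spec.map f.appTop = f ≫ Y.isoSpec.hom :=
    Scheme.isoSpec_hom_naturality f
  have hZ' : IsClosed (X.isoSpec.hom '' Z) := X.isoSpec.hom.homeomorph.isClosedMap _ hZ
  have himg : (Spec.map f.appTop) '' (X.isoSpec.hom '' Z) = Y.isoSpec.hom '' (f '' Z) := by
    rw [Set.image_image, Set.image_image]
    apply Set.image_congr
    intro a _
    rw [← Scheme.Hom.comp_apply, ← Scheme.Hom.comp_apply, hnat]
  have hS' : StableUnderSpecialization (Y.isoSpec.hom '' (f '' Z)) :=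
    H.image Y.isoSpec.hom.homeomorph.isClosedMap.specializingMap
  have hcl : IsClosed (Y.isoSpec.hom '' (f '' Z)) := by
    rw [← himg] at hS' ⊢
    exact PrimeSpectrum.isClosed_image_of_stableUnderSpecialization f.appTop.hom _ hZ' hS'
  have : f '' Z = Y.isoSpec.hom ⁻¹' (Y.isoSpec.hom '' (f '' Z)) :=
    (Set.preimage_image_eq _ Y.isoSpec.hom.homeomorph.injective).symm
  rw [this]
  exact hcl.preimage Y.isoSpec.hom.continuous

theorem surjective_of_hasValLift {T : Scheme.{u}} (E : PreZeroHypercover.{w} T)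
    (hE : HasValLift E) (t : T) : ∃ (j : E.I₀) (x : E.X j), E.f j x = t := by
  obtain ⟨W, hd, hv, φ, hφ, j, g', hg'⟩ := hE (T.residueField t) (T.fromSpecResidueField t)
  have : IsLocalRing W := inferInstance
  refine ⟨j, g' (closedPoint W), ?_⟩
  rw [← Scheme.Hom.comp_apply, hg']
  simp only [Scheme.Hom.comp_base, TopCat.coe_comp, Function.comp_apply]
  exact Scheme.fromSpecResidueField_apply t _

theorem isQuotientMap_of_isVCover_singleton {X' Y' : Scheme.{u}} (q : Y' ⟶ X')
    (hq : IsVCover (PreZeroHypercover.singleton.{w} q)) : Topology.IsQuotientMap q := by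
  rw [Topology.isQuotientMap_iff_isClosed]
  refine ⟨fun t => ?_, fun A => ⟨fun hA => hA.preimage q.continuous, fun hA => ?_⟩⟩
  · obtain ⟨j, x, hx⟩ := surjective_of_hasValLift _ (hasValLift_of_isVCover _ hq) t
    exact ⟨x, hx⟩
  · have hcov : IsOpenCover (fun U : X'.affineOpens => (U : X'.Opens)) :=
      IsOpenCover.mk (iSup_affineOpens_eq_top X')
    rw [hcov.isClosed_iff_coe_preimage]
    rintro ⟨U, (hU : IsAffineOpen U)⟩
    obtain ⟨C, hC, hCR⟩ := hq ⟨U, hU⟩
    choose _i r₀ hr using hCR
    let r : ∀ k, C.X k ⟶ Y' := fun k => r₀ k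
    have hr' : ∀ k, r k ≫ q = C.f k ≫ U.ι := hr
    have := hC.finite_index
    have := hC.isAffine_obj
    have hUaff : IsAffine (U : Scheme.{u}) := hU
    -- the coproduct
    let c : (∐ C.X) ⟶ (U : Scheme.{u}) := Sigma.desc C.f
    let ρ : (∐ C.X) ⟶ Y' := Sigma.desc r
    have hcρ : ρ ≫ q = c ≫ U.ι := by
      apply Sigma.hom_ext
      intro k
      simp only [ρ, c, Sigma.ι_desc_assoc, hr']
    set AU : Set (U : Scheme.{u}) := U.ι ⁻¹' A with hAU
    have hclosed : IsClosed (c ⁻¹' AU) := by
      have : c ⁻¹' AU = ρ ⁻¹' (q ⁻¹' A) := by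
        ext x
        simp only [Set.mem_preimage, hAU]
        rw [← Scheme.Hom.comp_apply, ← Scheme.Hom.comp_apply, hcρ]
      rw [this]
      exact hA.preimage ρ.continuous
    have hsurj : Function.Surjective c := by
      intro z
      obtain ⟨k, x, hx⟩ := surjective_of_hasValLift C hC.lift z
      refine ⟨Sigma.ι C.X k x, ?_⟩
      rw [← Scheme.Hom.comp_apply, Sigma.ι_desc]
      exact hx
    have himg : c '' (c ⁻¹' AU) = AU := Set.image_preimage_eq _ hsurj
    have hstable : StableUnderSpecialization AU := by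
      intro z' z hz hz'
      obtain ⟨k, w', w, hw, hw1, hw2⟩ := exists_specializes_of_hasValLift C hC.lift (𝟙 _) hz
      let p1 : pullback (𝟙 (U : Scheme.{u})) (C.f k) ⟶ (U : Scheme.{u}) := pullback.fst _ _
      let p2 : pullback (𝟙 (U : Scheme.{u})) (C.f k) ⟶ C.X k := pullback.snd _ _
      have hp : p2 ≫ C.f k = p1 := by
        have := pullback.condition (f := 𝟙 (U : Scheme.{u})) (g := C.f k)
        rw [Category.comp_id] at this
        exact this.symm
      have hc1 : ∀ w : ↑(pullback (𝟙 (U : Scheme.{u})) (C.f k)),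
          c (Sigma.ι C.X k (p2 w)) = p1 w := by
        intro w
        rw [← Scheme.Hom.comp_apply, Sigma.ι_desc, ← Scheme.Hom.comp_apply, hp]
      have hv : Sigma.ι C.X k (p2 w') ⤳ Sigma.ι C.X k (p2 w) :=
        (hw.map p2.continuous).map (Sigma.ι C.X k).continuous
      have hmem' : Sigma.ι C.X k (p2 w') ∈ c ⁻¹' AU := by
        change c _ ∈ AU
        rw [hc1]
        change pullback.fst (𝟙 (U : Scheme.{u})) (C.f k) w' ∈ AU
        rw [hw1]; exact hz'
      have hmem : Sigma.ι C.X k (p2 w) ∈ c ⁻¹' AU :=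
        hv.mem_closed hclosed hmem'
      change c _ ∈ AU at hmem
      rw [hc1] at hmem
      change pullback.fst (𝟙 (U : Scheme.{u})) (C.f k) w ∈ AU at hmem
      rwa [hw2] at hmem
    have : IsAffine (∐ C.X) := inferInstance
    have := isClosed_image_of_stableUnderSpecialization_of_isAffine c (c ⁻¹' AU) hclosed
      (by rw [himg]; exact hstable)
    rw [himg] at this
    exact this

end Groth.Agent.Lib.Helper1.VSubm
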