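import Mathlib
import Groth.Prelude.Def_EGA43
import Groth.Agent.Lib.Helper1.ValDimB
import Groth.Agent.Lib.Helper1.FibCompA

set_option autoImplicit false
set_option linter.style.haveILetI false

universe u

namespace Groth.Agent.H1.ValEquidim

open AlgebraicGeometry CategoryTheory CategoryTheory.Limits TopologicalSpace Topology
open Groth.Agent.H1.ValDim

variable {A : Type u} [CommRing A] [IsDomain A] [ValuationRing A] {X : Scheme.{u}}

/-- dimension of the generic fibre of a dominant morphism from an irreducible scheme. -/
theorem dim_generic_fibre [IrreducibleSpace X] (f : X ⟶ Spec (CommRingCat.of A))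
    [LocallyOfFiniteType f] [IsDominant f] :
    topologicalKrullDim ↥(f.fiber (genericPoint (Spec (CommRingCat.of A)))) =
      FlatMor.fibreDimAt f (genericPoint X) := by
  have hξmax : ∀ z : X, z ⤳ genericPoint X → z = genericPoint X := fun z hz =>
    (hz.antisymm (genericPoint_specializes z)).eq
  have hcl : closure ({f.base (genericPoint X)} : Set (Spec (CommRingCat.of A))) = Set.univ := by
    have h1 := Groth.Agent.H1.EquidimComp.closure_image_closure_singleton f (genericPoint X)
    have hd : closure (Set.range f.base) = Set.univ := f.denseRange.closure_range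
    rw [← h1, genericPoint_closure, Set.image_univ, hd]
  have hη : f.base (genericPoint X) = genericPoint (Spec (CommRingCat.of A)) :=
    IsGenericPoint.eq (isGenericPoint_def.mpr hcl) (genericPoint_spec _)
  rw [dim_fiber_eq_dim_preimage]
  have h1 := Groth.Agent.H1.GenComp.dim_closure_inter_fibre f (genericPoint X) hξmax _ hη
  rw [← h1]
  refine congrArg (fun B : Set X => topologicalKrullDim ↥B) ?_
  rw [genericPoint_closure, Set.univ_inter]

/-- **Equidimensionality of the fibres over a valuation ring**: every irreducible component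
of any fibre has the dimension of the generic fibre. -/
theorem dim_component_eq [IrreducibleSpace X] (f : X ⟶ Spec (CommRingCat.of A))
    [LocallyOfFiniteType f] [IsDominant f] (s : Spec (CommRingCat.of A))
    (Z : Set ↥(f.fiber s)) (hZ : Z ∈ irreducibleComponents ↥(f.fiber s)) :
    topologicalKrullDim ↥Z =
      topologicalKrullDim ↥(f.fiber (genericPoint (Spec (CommRingCat.of A)))) := by
  rw [dim_generic_fibre f]
  have hemb : IsEmbedding (f.fiberι s).base := (f.fiberι s).isEmbedding
  have hZirr : IsIrreducible Z := hZ.1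
  have hZcl : IsClosed Z := isClosed_of_mem_irreducibleComponents Z hZ
  obtain ⟨ζ, hζ⟩ := QuasiSober.sober hZirr hZcl
  have hζZ : closure ({ζ} : Set ↥(f.fiber s)) = Z := hζ
  set x : X := (f.fiberι s).base ζ with hx
  have hfx : f.base x = s := base_fiberι f s ζ
  have hxmax : ∀ z' : X, f z' = f x → z' ⤳ x → z' = x := by
    intro z' h1 h2
    have hz's : f.base z' = s := h1.trans hfx
    have hz'r : z' ∈ Set.range (f.fiberι s) := by
      rw [Scheme.Hom.range_fiberι]; exact hz's
    obtain ⟨ζ', rfl⟩ := hz'r
    have h3 : ζ' ⤳ ζ := hemb.isInducing.specializes_iff.mp h2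
    have h4 : Z ⊆ closure ({ζ'} : Set ↥(f.fiber s)) := by
      rw [← hζZ]
      exact closure_minimal (Set.singleton_subset_iff.mpr (specializes_iff_mem_closure.mp h3))
        isClosed_closure
    have h5 : closure ({ζ'} : Set ↥(f.fiber s)) ⊆ Z :=
      hZ.le_of_ge isIrreducible_singleton.closure h4
    have h6 : ζ ⤳ ζ' := by
      rw [specializes_iff_mem_closure, hζZ]
      exact h5 (subset_closure (Set.mem_singleton ζ'))
    rw [(h3.antisymm h6).eq]
  have himg : (f.fiberι s).base '' Z = closure ({x} : Set X) ∩ f.base ⁻¹' {f.base x} := by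
    rw [← hζZ, hemb.isInducing.closure_eq_preimage_closure_image, Set.image_singleton,
      Set.image_preimage_eq_inter_range, hfx]
    congr 1
    exact Scheme.Hom.range_fiberι f s
  have h7 : topologicalKrullDim ↥Z = topologicalKrullDim ↥((f.fiberι s).base '' Z) :=
    IsHomeomorph.topologicalKrullDim_eq _ (hemb.homeomorphImage Z).isHomeomorph
  rw [h7, himg, Groth.Agent.H1.FibComp.dim_closure_inter_fibre' f x hxmax]
  apply le_antisymm
  · exact fibreDimAt_le_of_specializes_of_fibreMax f (genericPoint_specializes x) hxmax
  · exact Groth.Agent.H1.EquidimLoc.fibreDimAt_le_of_specializes f (genericPoint_specializes x)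

theorem s7624 (R : Type u) [CommRing R] [IsDomain R] [ValuationRing R]
    (X : Scheme.{u}) [IrreducibleSpace ↥X] (f : X ⟶ Spec (CommRingCat.of R))
    [LocallyOfFiniteType f] [Surjective f]
    (Z : Set ↥(f.fiber (IsLocalRing.closedPoint R)))
    (hZ : Z ∈ irreducibleComponents ↥(f.fiber (IsLocalRing.closedPoint R))) :
    topologicalKrullDim ↥Z =
      topologicalKrullDim ↥(f.fiber (⟨⊥, Ideal.bot_prime⟩ : PrimeSpectrum R)) := by
  have hbot : genericPoint ↥(Spec (CommRingCat.of R)) =
      (⟨⊥, Ideal.bot_prime⟩ : PrimeSpectrum R) :=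
    (genericPoint_eq_bot_of_affine (CommRingCat.of R)).trans (PrimeSpectrum.ext rfl)
  rw [dim_component_eq f (IsLocalRing.closedPoint R) Z hZ]
  exact congrArg (fun p : ↥(Spec (CommRingCat.of R)) => topologicalKrullDim ↥(f.fiber p)) hbot

end Groth.Agent.H1.ValEquidim
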