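import Mathlib
import Groth.Agent.Lib.Helper1.FibInj4
import Groth.Agent.Lib.Helper8.Val.SatFG

/-!
# Fibrewise injectivity over a valuation ring (helper1)

Let `A` be a valuation ring, `A → B` a local homomorphism of local rings essentially of finite
type, `u : N → M` a `B`-linear map of finite `B`-modules with `M` flat over `A`.  If `u` is
injective modulo the maximal ideal of `A` then `u` is injective with `A`-flat cokernel.

Proof: `B` is a quotient of the local ring `Λ` of a polynomial ring over `A`; `M` is finitely
presented over `Λ` by Raynaud–Gruson over a valuation ring (helper8 `Val.fp_of_flat`), and then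
`FibInj.fibInj_loc` applies.
-/

set_option autoImplicit false

universe u

open TensorProduct Function

namespace Groth.Agent.H1.ValFibInj

open Groth.Agent.H1.PolyModel Groth.Agent.H1.FibInj

/-- a local algebra essentially of finite type over a local ring (with local structure map) is a
quotient of the local ring of a polynomial ring at a prime above the maximal ideal -/
theorem exists_surjective_localization_of_essFiniteType
    (R S : Type u) [CommRing R] [CommRing S] [IsLocalRing R] [IsLocalRing S] [Algebra R S]
    [IsLocalHom (algebraMap R S)] [Algebra.EssFiniteType R S] :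
    ∃ (n : ℕ) (q : Ideal (P n R)) (_ : q.IsPrime) (θ : Localization.AtPrime q →+* S),
      (IsLocalRing.maximalIdeal R).map (algebraMap R (P n R)) ≤ q ∧ Surjective θ ∧
      ∀ a : R, θ (algebraMap R (Localization.AtPrime q) a) = algebraMap R S a := by
  classical
  obtain ⟨σ, hσ⟩ := (Algebra.essFiniteType_iff R S).mp inferInstance
  obtain ⟨n, f, hrange⟩ : ∃ (n : ℕ) (f : Fin n → S), Set.range f = (σ : Set S) := by
    refine ⟨σ.card, fun i => ((σ.equivFin.symm i : σ) : S), ?_⟩
    ext x
    constructor
    · rintro ⟨i, rfl⟩
      exact (σ.equivFin.symm i).2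
    · intro hx
      exact ⟨σ.equivFin ⟨x, hx⟩, by simp⟩
  obtain ⟨φ, hφ⟩ : ∃ φ : P n R →ₐ[R] S, φ = MvPolynomial.aeval f := ⟨_, rfl⟩
  have hφrange : ∀ b ∈ Algebra.adjoin R (σ : Set S), ∃ p, φ p = b := by
    intro b hb
    rw [← hrange, Algebra.adjoin_range_eq_range_aeval, ← hφ] at hb
    exact (AlgHom.mem_range φ).mp hb
  let θ₀ : P n R →+* S := φ.toRingHom
  have hθ₀C : ∀ a : R, θ₀ (algebraMap R (P n R) a) = algebraMap R S a := fun a => φ.commutes a
  let q : Ideal (P n R) := (IsLocalRing.maximalIdeal S).comap θ₀
  haveI : q.IsPrime := Ideal.comap_isPrime _ _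
  have hunits : ∀ y : q.primeCompl, IsUnit (θ₀ y) := by
    intro y
    by_contra hy
    exact y.2 ((IsLocalRing.mem_maximalIdeal _).mpr hy)
  let θ : Localization.AtPrime q →+* S := IsLocalization.lift (M := q.primeCompl) hunits
  have hθ : ∀ (x : P n R) (y : q.primeCompl) (v : S),
      θ (IsLocalization.mk' (Localization.AtPrime q) x y) = v ↔ θ₀ x = θ₀ y * v :=
    fun x y v => IsLocalization.lift_mk'_spec hunits x v y
  have hθalg : ∀ x : P n R, θ (algebraMap (P n R) (Localization.AtPrime q) x) = θ₀ x :=
    fun x => IsLocalization.lift_eq hunits x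
  refine ⟨n, q, inferInstance, θ, ?_, ?_, ?_⟩
  · rw [Ideal.map_le_iff_le_comap]
    intro a ha
    change θ₀ (algebraMap R (P n R) a) ∈ IsLocalRing.maximalIdeal S
    rw [hθ₀C]
    refine (IsLocalRing.mem_maximalIdeal _).mpr fun hu => ?_
    exact ((IsLocalRing.mem_maximalIdeal _).mp ha) (isUnit_of_map_unit (algebraMap R S) a hu)
  · intro v
    obtain ⟨t, ht, htu, hvt⟩ := hσ v
    obtain ⟨y, hy⟩ := hφrange t ht
    obtain ⟨x, hx⟩ := hφrange (v * t) hvt
    have hyq : y ∈ q.primeCompl := by
      intro hyq
      have h1 : φ y ∈ IsLocalRing.maximalIdeal S := hyq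
      rw [hy] at h1
      exact ((IsLocalRing.mem_maximalIdeal _).mp h1) htu
    refine ⟨IsLocalization.mk' (Localization.AtPrime q) x ⟨y, hyq⟩, ?_⟩
    rw [hθ]
    show φ x = φ y * v
    rw [hx, hy, mul_comm]
  · intro a
    rw [IsScalarTower.algebraMap_apply R (P n R) (Localization.AtPrime q), hθalg, hθ₀C]

set_option maxHeartbeats 1600000 in
/-- **Fibrewise injective maps into flat modules over a valuation ring** (no finite presentation
hypotheses needed). -/
theorem s1351 {A B : Type u} [CommRing A] [IsDomain A] [ValuationRing A] [CommRing B]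
    [IsLocalRing B] [Algebra A B] [IsLocalHom (algebraMap A B)] [Algebra.EssFiniteType A B]
    {N M : Type u} [AddCommGroup N] [Module B N] [Module A N] [IsScalarTower A B N]
    [Module.Finite B N]
    [AddCommGroup M] [Module B M] [Module A M] [IsScalarTower A B M] [Module.Finite B M]
    [Module.Flat A M]
    (u : N →ₗ[B] M)
    (hu : ∀ x : N, u x ∈ (IsLocalRing.maximalIdeal A • ⊤ : Submodule A M) →
      x ∈ (IsLocalRing.maximalIdeal A • ⊤ : Submodule A N)) :
    Function.Injective u ∧ Module.Flat A (M ⧸ LinearMap.range u) := by
  classical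
  obtain ⟨n, q, hqp, θ, hq, hθsurj, hθR⟩ := exists_surjective_localization_of_essFiniteType A B
  letI algΛB : Algebra (Localization.AtPrime q) B := θ.toAlgebra
  haveI towAΛB : IsScalarTower A (Localization.AtPrime q) B :=
    IsScalarTower.of_algebraMap_eq fun a => (hθR a).symm
  haveI finB : Module.Finite (Localization.AtPrime q) B :=
    Module.Finite.of_surjective (Algebra.linearMap (Localization.AtPrime q) B) hθsurj
  letI modM : Module (Localization.AtPrime q) M := Module.compHom M θ
  haveI towM : IsScalarTower (Localization.AtPrime q) B M :=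
    IsScalarTower.of_algebraMap_smul fun _ _ => rfl
  haveI towAM : IsScalarTower A (Localization.AtPrime q) M :=
    IsScalarTower.of_algebraMap_smul fun a x => by
      change θ (algebraMap A (Localization.AtPrime q) a) • x = a • x
      rw [hθR, algebraMap_smul]
  letI modN : Module (Localization.AtPrime q) N := Module.compHom N θ
  haveI towN : IsScalarTower (Localization.AtPrime q) B N :=
    IsScalarTower.of_algebraMap_smul fun _ _ => rfl
  haveI towAN : IsScalarTower A (Localization.AtPrime q) N :=
    IsScalarTower.of_algebraMap_smul fun a x => by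
      change θ (algebraMap A (Localization.AtPrime q) a) • x = a • x
      rw [hθR, algebraMap_smul]
  haveI finM : Module.Finite (Localization.AtPrime q) M := Module.Finite.trans B M
  haveI finN : Module.Finite (Localization.AtPrime q) N := Module.Finite.trans B N
  haveI fpM : Module.FinitePresentation (Localization.AtPrime q) M :=
    Groth.Agent.H8.Val.fp_of_flat A (Localization.AtPrime q) M
  have hmain := fibInj_loc q hq (u.restrictScalars (Localization.AtPrime q)) (by
    intro x hx
    exact hu x hx)
  refine ⟨hmain.1, ?_⟩
  haveI := hmain.2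
  let e1 := Submodule.Quotient.restrictScalarsEquiv A
    (LinearMap.range (u.restrictScalars (Localization.AtPrime q)))
  let e2 := Submodule.Quotient.restrictScalarsEquiv A (LinearMap.range u)
  have heq : (LinearMap.range (u.restrictScalars (Localization.AtPrime q))).restrictScalars A =
      (LinearMap.range u).restrictScalars A := by
    ext z
    rfl
  exact Module.Flat.of_linearEquiv (e2.symm ≪≫ₗ (Submodule.quotEquivOfEq _ _ heq).symm ≪≫ₗ e1)

end Groth.Agent.H1.ValFibInj
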