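import Mathlib
import Groth.Agent.Lib.Helper1.ValDimB
import Groth.Agent.Lib.Helper1.AlgFibFin
import Groth.Agent.Lib.Helper1.QFSub
import Groth.Agent.Lib.Helper1.JacobsonTrdeg

open AlgebraicGeometry CategoryTheory CategoryTheory.Limits TopologicalSpace Topology IsLocalRing

universe u
namespace Groth.Agent.H1.ValFin

variable {R : Type u} [CommRing R] [IsDomain R] [ValuationRing R] {Y : Scheme.{u}}

omit [ValuationRing R] in
/-- points of the generic fibre have algebraic residue fields when the generic fibre is finite. -/
theorem resTrdeg_eq_zero_of_generic (f : Y ⟶ Spec (CommRingCat.of R)) [LocallyOfFiniteType f]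
    (hgen : IsFinite (pullback.snd f
      (Spec.map (CommRingCat.ofHom (algebraMap R (FractionRing R))))))
    (x' : Y) (hx' : f x' = (⊥ : PrimeSpectrum R)) : Dual3.resTrdeg f x' = 0 := by
  set j : Spec (CommRingCat.of (FractionRing R)) ⟶ Spec (CommRingCat.of R) :=
    Spec.map (CommRingCat.ofHom (algebraMap R (FractionRing R))) with hj
  haveI : IsPreimmersion j := IsPreimmersion.of_isLocalization (nonZeroDivisors R)
  have hjbot : ∀ p : ↥(Spec (CommRingCat.of (FractionRing R))), j p = (⊥ : PrimeSpectrum R) := by
    intro p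
    apply PrimeSpectrum.ext
    change Ideal.comap (algebraMap R (FractionRing R)) p.asIdeal = ⊥
    have : p.asIdeal = ⊥ := by
      have := p.isPrime
      exact ((Ideal.eq_bot_or_top p.asIdeal).resolve_right this.ne_top)
    rw [this]
    exact Ideal.comap_bot_of_injective _ (IsFractionRing.injective R (FractionRing R))
  have hrange : ∀ w : Y, f w = (⊥ : PrimeSpectrum R) → w ∈ Set.range (pullback.fst f j) := by
    intro w hw
    rw [Scheme.Pullback.range_fst]
    exact ⟨(⊥ : PrimeSpectrum (FractionRing R)), (hjbot _).trans hw.symm⟩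
  obtain ⟨z, hz⟩ := hrange x' hx'
  haveI : IsFinite (pullback.snd f j) := hgen
  have hzcl : IsClosed ({z} : Set ↑(pullback f j)) := by
    apply JacobsonTrdeg.isClosed_singleton_of_locallyQuasiFinite (pullback.snd f j) z
    have : ({(pullback.snd f j) z} : Set ↥(Spec (CommRingCat.of (FractionRing R)))) = Set.univ := by
      apply Set.eq_univ_of_forall
      intro p
      rw [Set.mem_singleton_iff]
      apply PrimeSpectrum.ext
      have hb : ∀ q : ↥(Spec (CommRingCat.of (FractionRing R))), q.asIdeal = ⊥ := by
        intro q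
        have := q.isPrime
        exact ((Ideal.eq_bot_or_top q.asIdeal).resolve_right this.ne_top)
      rw [hb, hb]
    rw [this]
    exact isClosed_univ
  obtain ⟨t, ht, hteq⟩ := (pullback.fst f j).isEmbedding.isInducing.isClosed_iff.mp hzcl
  apply QFSub.resTrdeg_eq_zero_of_closed f x'
  have : (Subtype.val ⁻¹' {x'} : Set ↑(f ⁻¹' {f x'})) = Subtype.val ⁻¹' t := by
    ext w
    simp only [Set.mem_preimage, Set.mem_singleton_iff]
    constructor
    · intro hw
      rw [hw, ← hz]
      have : z ∈ (pullback.fst f j) ⁻¹' t := by rw [hteq]; rfl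
      exact this
    · intro hw
      have hw2 : f w.1 = (⊥ : PrimeSpectrum R) := (w.2 : f w.1 = f x').trans hx'
      obtain ⟨z', hz'⟩ := hrange w.1 hw2
      have : z' ∈ (pullback.fst f j) ⁻¹' t := by
        show (pullback.fst f j) z' ∈ t
        rw [hz']; exact hw
      rw [hteq, Set.mem_singleton_iff] at this
      rw [← hz', this, hz]
  rw [this]
  exact ht.preimage continuous_subtype_val

theorem main (f : Y ⟶ Spec (CommRingCat.of R)) [Flat f] [IsProper f]
    (hgen : IsFinite (pullback.snd f
      (Spec.map (CommRingCat.ofHom (algebraMap R (FractionRing R)))))) :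
    IsFinite f := by
  have H : ∀ x : Y, Dual3.resTrdeg f x = 0 := by
    intro x
    have hs : (⊥ : PrimeSpectrum R) ⤳ f x := by
      rw [← PrimeSpectrum.le_iff_specializes]
      exact bot_le
    obtain ⟨x', hx'x, hx'⟩ := Flat.generalizingMap f hs
    have h1 := ValDim.resTrdeg_le_of_specializes f hx'x
    rw [resTrdeg_eq_zero_of_generic f hgen x' hx'] at h1
    exact le_antisymm h1 zero_le
  haveI : LocallyQuasiFinite f :=
    LocallyQuasiFinite.of_finite_preimage_singleton f fun s =>
      AlgFibFin.finite_preimage_singleton_of_resTrdeg_eq_zero f s (fun x _ => H x)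
  exact IsFinite.of_isProper_of_locallyQuasiFinite f

end Groth.Agent.H1.ValFin
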