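import Mathlib
import Groth.Agent.Lib.Helper1.ValDimB
import Groth.Agent.Lib.Helper1.StalkGen
import Groth.Agent.Lib.Helper1.DimFormula2
import Groth.Agent.Lib.Helper1.EquidimLocC

set_option autoImplicit false
set_option linter.style.haveILetI false

universe u

namespace Groth.Agent.H1.ValGen

open AlgebraicGeometry CategoryTheory

/-- If the local ring at `t` has Krull dimension `≤ 0`, then `t` has no proper generization. -/
theorem eq_of_specializes_of_ringKrullDim_le_zero {T : Scheme.{u}} {t z : T} (h : z ⤳ t)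
    (hd : ringKrullDim (T.presheaf.stalk t) ≤ 0) : z = t := by
  haveI : Ring.KrullDimLE 0 (T.presheaf.stalk t) := Ring.krullDimLE_iff.mpr (by simpa using hd)
  have hmax : (Groth.Agent.H1.StalkGen.primeOf h).asIdeal.IsMaximal :=
    Ideal.IsPrime.isMaximal' (Groth.Agent.H1.StalkGen.primeOf h).2
  have heq : (Groth.Agent.H1.StalkGen.primeOf h).asIdeal =
      IsLocalRing.maximalIdeal (T.presheaf.stalk t) := IsLocalRing.eq_maximalIdeal hmax
  have h2 : Groth.Agent.H1.StalkGen.primeOf h = IsLocalRing.closedPoint (T.presheaf.stalk t) :=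
    PrimeSpectrum.ext heq
  have h3 := Groth.Agent.H1.StalkGen.fromSpecStalk_primeOf h
  rw [h2, Scheme.fromSpecStalk_closedPoint] at h3
  exact h3.symm

/-- Over a valuation ring, generizations of fibre-generic points are fibre-generic. -/
theorem s14887 (R : Type u) [CommRing R] [IsDomain R] [ValuationRing R] {X : Scheme.{u}}
    (φ : X ⟶ Spec (CommRingCat.of R)) [LocallyOfFiniteType φ]
    (x x' : X) (hgen : x' ⤳ x) (hx : ∀ y : X, y ⤳ x → φ y = φ x → y = x) :
    ∀ y : X, y ⤳ x' → φ y = φ x' → y = x' := by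
  obtain ⟨tx, htx, hdx⟩ := Groth.Agent.H1.DimFormula.fibreDimAt_eq_trdeg_of_generic φ x
    (fun z h1 h2 => hx z h2 h1)
  obtain ⟨tx', htx', hdx'⟩ :=
    Groth.Agent.H1.DimFormula.exists_fibreDimAt_eq_stalk_add_trdeg φ x'
  have h1 : FlatMor.fibreDimAt φ x' ≤ FlatMor.fibreDimAt φ x :=
    Groth.Agent.H1.EquidimLoc.fibreDimAt_le_of_specializes φ hgen
  have h2 := Groth.Agent.H1.ValDim.resTrdeg_le_of_specializes φ hgen
  have e1 : Dual3.resTrdeg φ x = tx := htx
  have e2 : Dual3.resTrdeg φ x' = tx' := htx'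
  rw [e1, e2] at h2
  have hle : tx ≤ tx' := by exact_mod_cast h2
  have hstalk : ringKrullDim ((φ.fiber (φ x')).presheaf.stalk (φ.asFiber x')) ≤ 0 := by
    by_contra hcon
    have hpos : (1 : WithBot ℕ∞) ≤
        ringKrullDim ((φ.fiber (φ x')).presheaf.stalk (φ.asFiber x')) :=
      (WithBot.one_le_iff_pos _).mpr (not_le.mp hcon)
    have h3 : (tx' : WithBot ℕ∞) + 1 ≤ (tx' : WithBot ℕ∞) := by
      calc (tx' : WithBot ℕ∞) + 1
          ≤ (tx' : WithBot ℕ∞) +
            ringKrullDim ((φ.fiber (φ x')).presheaf.stalk (φ.asFiber x')) := by gcongr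
        _ = FlatMor.fibreDimAt φ x' := by rw [hdx', add_comm]
        _ ≤ FlatMor.fibreDimAt φ x := h1
        _ = (tx : WithBot ℕ∞) := hdx
        _ ≤ (tx' : WithBot ℕ∞) := by exact_mod_cast hle
    have h4 : tx' + 1 ≤ tx' := by exact_mod_cast h3
    omega
  intro y hy hφy
  obtain ⟨p, hp⟩ : y ∈ Set.range (φ.fiberι (φ x')) := by
    rw [Scheme.Hom.range_fiberι]; exact hφy
  have hsp : p ⤳ φ.asFiber x' := by
    apply (φ.fiberι (φ x')).isEmbedding.isInducing.specializes_iff.mp
    rw [hp, φ.fiberι_asFiber]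
    exact hy
  have h5 : p = φ.asFiber x' := eq_of_specializes_of_ringKrullDim_le_zero hsp hstalk
  rw [← hp, h5, φ.fiberι_asFiber]

end Groth.Agent.H1.ValGen
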