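import Mathlib

open AlgebraicGeometry CategoryTheory TopologicalSpace

universe u

namespace Groth.Agent.H1.ValIso

theorem surj_of_valuationRing {A B : Type*} [CommRing A] [IsDomain A] [ValuationRing A]
    [CommRing B] [IsDomain B] (ψ : A →+* B)
    (H1 : ∀ b : B, ∃ a₁ a₂ : A, ψ a₂ ≠ 0 ∧ ψ a₂ * b = ψ a₁)
    (H2 : ∀ c : A, ¬ IsUnit c → ¬ IsUnit (ψ c)) : Function.Surjective ψ := by
  intro b
  obtain ⟨a₁, a₂, h2, h⟩ := H1 b
  obtain ⟨c, hc | hc⟩ := ValuationRing.cond a₁ a₂
  · have h1 : ψ a₁ ≠ 0 := by
      intro h0; apply h2; rw [← hc, map_mul, h0, zero_mul]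
    have h3 : ψ c * b = 1 := by
      apply mul_left_cancel₀ h1
      rw [mul_one, ← mul_assoc, ← map_mul, hc, h]
    by_cases hu : IsUnit c
    · obtain ⟨v, rfl⟩ := hu
      refine ⟨↑v⁻¹, ?_⟩
      have h4 : ψ ↑v⁻¹ * (ψ ↑v * b) = ψ ↑v⁻¹ := by rw [h3, mul_one]
      rw [← mul_assoc, ← map_mul, Units.inv_mul, map_one, one_mul] at h4
      exact h4.symm
    · exact absurd (IsUnit.of_mul_eq_one _ h3) (H2 c hu)
  · refine ⟨c, ?_⟩
    apply mul_left_cancel₀ h2
    rw [h, ← map_mul, hc]

set_option backward.isDefEq.respectTransparency.types false in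
theorem isIso_of_affine {A : Type u} [CommRing A] [IsDomain A] [ValuationRing A]
    (Z : Scheme.{u}) [IsAffine Z] [IsIntegral Z] (g : Z ⟶ Spec (CommRingCat.of A))
    (hgu : (g.base (genericPoint Z)).asIdeal = ⊥)
    (hres : Function.Surjective (g.residueFieldMap (genericPoint Z)).hom)
    (z : Z) (hz : g.base z = IsLocalRing.closedPoint A) : IsIso g := by
  classical
  set u := genericPoint Z with hu
  haveI : Nonempty (⊤ : Z.Opens) := ⟨⟨z, trivial⟩⟩
  haveI : IsDomain Γ(Z, ⊤) := inferInstance
  let ψ : A →+* Γ(Z, ⊤) := g.appTop.hom.comp (Scheme.ΓSpecIso (CommRingCat.of A)).inv.hom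
  have key : ∀ (w : Z) (a : A), (Z.Γevaluation w).hom (ψ a) = (g.residueFieldMap w).hom
      ((Scheme.Spec.residueFieldIso (CommRingCat.of A) (g.base w)).inv.hom
        (algebraMap A (g.base w).asIdeal.ResidueField a)) := by
    intro w a
    have h1 := Scheme.Γevaluation_naturality_apply g w
      ((Scheme.ΓSpecIso (CommRingCat.of A)).inv.hom a)
    have h2 := ConcreteCategory.congr_hom
      (Scheme.Spec.algebraMap_residueFieldIso_inv (CommRingCat.of A) (g.base w)) a
    have h3 : ((Spec (CommRingCat.of A)).Γevaluation (g.base w)).hom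
        ((Scheme.ΓSpecIso (CommRingCat.of A)).inv.hom a) =
        (Scheme.Spec.residueFieldIso (CommRingCat.of A) (g.base w)).inv.hom
          (algebraMap A (g.base w).asIdeal.ResidueField a) := h2.symm
    rw [← h3]; exact h1.symm
  have hinj_ev : ∀ s : Γ(Z, ⊤), (Z.Γevaluation u).hom s = 0 → s = 0 := by
    intro s hs
    by_contra hne
    have hb : Z.basicOpen s ≠ ⊥ := fun h => hne ((basicOpen_eq_bot_iff s).mp h)
    obtain ⟨w, hw⟩ := (Opens.ne_bot_iff_nonempty _).mp hb
    have hu_mem : u ∈ Z.basicOpen s :=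
      (genericPoint_specializes w).mem_open (Z.basicOpen s).isOpen hw
    exact (Z.evaluation_eq_zero_iff_notMem_basicOpen (U := ⊤) u trivial s).mp hs hu_mem
  have H2 : ∀ c : A, ¬ IsUnit c → ¬ IsUnit (ψ c) := by
    intro c hc hψc
    have hcm : c ∈ (g.base z).asIdeal := by
      rw [hz]
      exact (IsLocalRing.mem_maximalIdeal c).mpr hc
    have h0 : algebraMap A (g.base z).asIdeal.ResidueField c = 0 :=
      Ideal.algebraMap_residueField_eq_zero.mpr hcm
    have h1 : (Z.Γevaluation z).hom (ψ c) = 0 := by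
      rw [key z c, h0, map_zero, map_zero]
    have h2 := hψc.map (Z.Γevaluation z).hom
    rw [h1] at h2
    exact not_isUnit_zero h2
  have H1 : ∀ b : Γ(Z, ⊤), ∃ a₁ a₂ : A, ψ a₂ ≠ 0 ∧ ψ a₂ * b = ψ a₁ := by
    intro b
    obtain ⟨c, hc⟩ := hres ((Z.Γevaluation u).hom b)
    set e := Scheme.Spec.residueFieldIso (CommRingCat.of A) (g.base u) with he
    obtain ⟨n, d, hd, hnd⟩ :=
      IsFractionRing.div_surjective (A ⧸ (g.base u).asIdeal) (e.hom.hom c)
    obtain ⟨a₁, rfl⟩ := Ideal.Quotient.mk_surjective n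
    obtain ⟨a₂, rfl⟩ := Ideal.Quotient.mk_surjective d
    have hd0 : algebraMap A (g.base u).asIdeal.ResidueField a₂ ≠ 0 := by
      intro h0
      have : a₂ ∈ (g.base u).asIdeal := Ideal.algebraMap_residueField_eq_zero.mp h0
      exact nonZeroDivisors.ne_zero hd (Ideal.Quotient.eq_zero_iff_mem.mpr this)
    have hrel : e.hom.hom c * algebraMap A (g.base u).asIdeal.ResidueField a₂ =
        algebraMap A (g.base u).asIdeal.ResidueField a₁ := by
      rw [← hnd]
      exact div_mul_cancel₀ _ hd0
    have hec : e.inv.hom (e.hom.hom c) = c := ConcreteCategory.congr_hom e.hom_inv_id c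
    have h5 : (Z.Γevaluation u).hom (ψ a₁) =
        (Z.Γevaluation u).hom b * (Z.Γevaluation u).hom (ψ a₂) := by
      calc (Z.Γevaluation u).hom (ψ a₁)
          = (g.residueFieldMap u).hom
              (e.inv.hom (algebraMap A (g.base u).asIdeal.ResidueField a₁)) := key u a₁
        _ = (g.residueFieldMap u).hom (e.inv.hom
              (e.hom.hom c * algebraMap A (g.base u).asIdeal.ResidueField a₂)) := by rw [hrel]
        _ = (g.residueFieldMap u).hom (e.inv.hom (e.hom.hom c)) *
              (g.residueFieldMap u).hom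
                (e.inv.hom (algebraMap A (g.base u).asIdeal.ResidueField a₂)) := by
              rw [map_mul, map_mul]
        _ = (g.residueFieldMap u).hom c * (g.residueFieldMap u).hom
                (e.inv.hom (algebraMap A (g.base u).asIdeal.ResidueField a₂)) := by rw [hec]
        _ = (Z.Γevaluation u).hom b * (Z.Γevaluation u).hom (ψ a₂) := by
              rw [hc, ← key u a₂]
    have h6 : ψ a₂ * b = ψ a₁ := by
      have : (Z.Γevaluation u).hom (ψ a₂ * b - ψ a₁) = 0 := by
        rw [map_sub, map_mul, h5]; ring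
      exact sub_eq_zero.mp (hinj_ev _ this)
    have h7 : ψ a₂ ≠ 0 := by
      intro h0
      have h8 : (Z.Γevaluation u).hom (ψ a₂) = 0 := by rw [h0, map_zero]
      rw [key u a₂] at h8
      have h9 : e.inv.hom (algebraMap A (g.base u).asIdeal.ResidueField a₂) = 0 :=
        (map_eq_zero_iff _ (RingHom.injective (g.residueFieldMap u).hom)).mp h8
      have h10 : algebraMap A (g.base u).asIdeal.ResidueField a₂ = 0 :=
        (map_eq_zero_iff _ (RingHom.injective e.inv.hom)).mp h9
      exact hd0 h10
    exact ⟨a₁, a₂, h7, h6⟩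
  have hψinj : Function.Injective ψ := by
    rw [injective_iff_map_eq_zero]
    intro a ha
    have h8 : (Z.Γevaluation u).hom (ψ a) = 0 := by rw [ha, map_zero]
    rw [key u a] at h8
    have h9 := (map_eq_zero_iff _ (RingHom.injective (g.residueFieldMap u).hom)).mp h8
    have h10 := (map_eq_zero_iff _ (RingHom.injective
      (Scheme.Spec.residueFieldIso (CommRingCat.of A) (g.base u)).inv.hom)).mp h9
    have h11 : a ∈ (g.base u).asIdeal := Ideal.algebraMap_residueField_eq_zero.mp h10
    rw [hgu] at h11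
    exact (Submodule.mem_bot A).mp h11
  have hbij : Function.Bijective ψ := ⟨hψinj, surj_of_valuationRing ψ H1 H2⟩
  have hψ : CommRingCat.ofHom ψ = (Scheme.ΓSpecIso (CommRingCat.of A)).inv ≫ g.appTop := rfl
  haveI : IsIso (CommRingCat.ofHom ψ) := (ConcreteCategory.isIso_iff_bijective _).mpr hbij
  haveI : IsIso g.appTop := by
    have : g.appTop = (Scheme.ΓSpecIso (CommRingCat.of A)).hom ≫ CommRingCat.ofHom ψ := by
      rw [hψ, Iso.hom_inv_id_assoc]
    rw [this]; infer_instance
  rw [← MorphismProperty.isomorphisms.iff,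
    (MorphismProperty.isomorphisms _).arrow_mk_iso_iff (arrowIsoSpecΓOfIsAffine g),
    MorphismProperty.isomorphisms.iff]
  infer_instance

theorem s2342 (A : Type u) [CommRing A] [IsDomain A] [ValuationRing A]
    (X : Scheme.{u}) [IsIntegral X] [X.IsSeparated] (f : X ⟶ Spec (CommRingCat.of A))
    (hf : IsClosedMap f.base)
    (x : X) (hx : f.base ⁻¹' {genericPoint (Spec (CommRingCat.of A))} = {x})
    (hres : Function.Bijective (f.residueFieldMap x).hom) : IsIso f := by
  set η := genericPoint (Spec (CommRingCat.of A)) with hη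
  have hfx : f.base x = η := by
    have : x ∈ f.base ⁻¹' {η} := by rw [hx]; exact Set.mem_singleton x
    exact this
  have hξ : genericPoint X = x := by
    have h1 : f.base (genericPoint X) ⤳ η := by
      rw [← hfx]; exact (genericPoint_specializes x).map f.base.hom.continuous
    have h2 : η ⤳ f.base (genericPoint X) := genericPoint_specializes _
    have h3 : f.base (genericPoint X) = η := (h1.antisymm h2).eq
    have : genericPoint X ∈ f.base ⁻¹' {η} := h3
    rw [hx] at this
    exact this
  have hsurj : ∀ y : Spec (CommRingCat.of A), ∃ x', f.base x' = y := by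
    intro y
    have h1 : closure {η} ⊆ Set.range f.base :=
      hf.isClosed_range.closure_subset_iff.mpr (Set.singleton_subset_iff.mpr ⟨x, hfx⟩)
    have h2 : y ∈ closure {η} := specializes_iff_mem_closure.mp (genericPoint_specializes y)
    exact h1 h2
  obtain ⟨x', hx'⟩ := hsurj (IsLocalRing.closedPoint A)
  obtain ⟨_, ⟨(U : X.Opens), hU, rfl⟩, hxU, -⟩ :=
    X.isBasis_affineOpens.exists_subset_of_mem_open (Set.mem_univ x') isOpen_univ
  haveI : Nonempty U := ⟨⟨x', hxU⟩⟩
  haveI : IsAffine (U : Scheme) := hU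
  haveI : IsIntegral (U : Scheme) := isIntegral_of_isOpenImmersion U.ι
  have hgen : U.ι.base (genericPoint U) = genericPoint X := genericPoint_eq_of_isOpenImmersion U.ι
  have h2 : U.ι.base (genericPoint U) = x := hgen.trans hξ
  have hηbot : η.asIdeal = ⊥ := by
    let B0 : Spec (CommRingCat.of A) := ⟨⊥, Ideal.isPrime_bot⟩
    have h1 : η ⤳ B0 := genericPoint_specializes B0
    have h2 : η.asIdeal ≤ B0.asIdeal := (PrimeSpectrum.le_iff_specializes (R := A) η B0).mpr h1
    exact le_bot_iff.mp h2
  have hgu : ((U.ι ≫ f).base (genericPoint U)).asIdeal = ⊥ := by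
    have h1 : (U.ι ≫ f).base (genericPoint U) = f.base (U.ι.base (genericPoint U)) := rfl
    rw [h1, h2, hfx]; exact hηbot
  have hres_g : Function.Surjective ((U.ι ≫ f).residueFieldMap (genericPoint U)).hom := by
    have h3 : (U.ι ≫ f).residueFieldMap (genericPoint U) =
        f.residueFieldMap (U.ι.base (genericPoint U)) ≫ U.ι.residueFieldMap (genericPoint U) :=
      Scheme.residueFieldMap_comp U.ι f (genericPoint U)
    have hsurjι : Function.Surjective (U.ι.residueFieldMap (genericPoint U)).hom :=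
      ((ConcreteCategory.isIso_iff_bijective
        (U.ι.residueFieldMap (genericPoint U))).mp inferInstance).2
    have hsurjf : Function.Surjective (f.residueFieldMap (U.ι.base (genericPoint U))).hom := by
      have : ∀ p : X, p = x → Function.Surjective (f.residueFieldMap p).hom := by
        rintro p rfl; exact hres.2
      exact this _ h2
    intro b
    obtain ⟨b1, hb1⟩ := hsurjι b
    obtain ⟨b2, hb2⟩ := hsurjf b1
    refine ⟨b2, ?_⟩
    have h4 := ConcreteCategory.congr_hom h3 b2
    rw [← hb1, ← hb2]; exact h4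
  have hz : (U.ι ≫ f).base (⟨x', hxU⟩ : U) = IsLocalRing.closedPoint A := hx'
  haveI hiso : IsIso (U.ι ≫ f) := isIso_of_affine (U : Scheme) (U.ι ≫ f) hgu hres_g ⟨x', hxU⟩ hz
  -- the section
  let s : Spec (CommRingCat.of A) ⟶ X := inv (U.ι ≫ f) ≫ U.ι
  have hsf : s ≫ f = 𝟙 _ := by
    simp only [s, Category.assoc, IsIso.inv_hom_id]
  haveI : IsOpenImmersion s := inferInstance
  haveI : IsClosedImmersion (s ≫ f) := by rw [hsf]; infer_instance
  haveI : IsClosedImmersion s := IsClosedImmersion.of_comp s f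
  have hclopen : IsClopen (Set.range s.base) :=
    ⟨s.isClosedEmbedding.isClosed_range, s.isOpenEmbedding.isOpen_range⟩
  have hrange : Set.range s.base = Set.univ := by
    apply hclopen.eq_univ
    exact ⟨s.base η, η, rfl⟩
  haveI : IsIso s := by
    rw [isIso_iff_isOpenImmersion_and_epi_base]
    refine ⟨inferInstance, ?_⟩
    rw [TopCat.epi_iff_surjective, ← Set.range_eq_univ]
    exact hrange
  haveI : IsIso (s ≫ f) := by rw [hsf]; infer_instance
  exact IsIso.of_isIso_comp_left s f

end Groth.Agent.H1.ValIso
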