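import Mathlib
import Groth.Agent.Lib.Helper1.ValDimA

/-! helper1: the valuation-ring key lemma of `ValDimA` generalised to bases whose localisation at
the larger prime is a valuation ring (e.g. Prüfer domains): residue transcendence degrees do not
grow under specialisation. -/

set_option autoImplicit false
set_option linter.style.haveILetI false

universe u

namespace Groth.Agent.H1.ValPru

open Groth.Agent.H1.ValDim

variable {R S : Type u} [CommRing R] [CommRing S] [Algebra R S]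

theorem one_notMem_of_isPrime (p : Ideal R) [hp : p.IsPrime] : (1 : R) ∉ p :=
  fun h => hp.ne_top ((Ideal.eq_top_iff_one p).mpr h)

/-- **Key lemma** (generalised): linear independence of monomials modulo `(p, q)` lifts to linear
independence modulo `(p', q')` when `R/p'` localised at `p` is a valuation ring. -/
theorem coeff_mem_of_aeval_mem' {ι : Type*} (p' p : Ideal R) (q' q : Ideal S) [p'.IsPrime]
    [p.IsPrime] [q'.IsPrime]
    (hp'q' : q'.comap (algebraMap R S) = p') (hq'q : q' ≤ q)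
    (hval : ∀ a b : R, ∃ s c : R, s ∉ p ∧ (s * a - c * b ∈ p' ∨ s * b - c * a ∈ p'))
    (t : ι → S)
    (H : ∀ b : MvPolynomial ι R, MvPolynomial.aeval t b ∈ q → ∀ μ, b.coeff μ ∈ p)
    (a : MvPolynomial ι R) (ha : MvPolynomial.aeval t a ∈ q') (μ : ι →₀ ℕ) :
    a.coeff μ ∈ p' := by
  classical
  by_contra hμ
  obtain ⟨F, hF⟩ : ∃ F : Finset (ι →₀ ℕ), F = a.support.filter (fun ν => a.coeff ν ∉ p') :=
    ⟨_, rfl⟩
  have hmemF : ∀ ν, a.coeff ν ∉ p' → ν ∈ F := by
    intro ν hν
    rw [hF, Finset.mem_filter, MvPolynomial.mem_support_iff]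
    exact ⟨fun h0 => hν (by rw [h0]; exact p'.zero_mem), hν⟩
  have hFne : F.Nonempty := ⟨μ, hmemF μ hμ⟩
  let r : (ι →₀ ℕ) → (ι →₀ ℕ) → Prop := fun ν₁ ν₂ =>
    ∃ s d : R, s ∉ p ∧ s * a.coeff ν₂ - a.coeff ν₁ * d ∈ p'
  have hrefl : ∀ x, r x x := fun x =>
    ⟨1, 1, one_notMem_of_isPrime p, by rw [one_mul, mul_one, sub_self]; exact p'.zero_mem⟩
  have htot : ∀ x y, r x y ∨ r y x := by
    intro x y
    obtain ⟨s, c, hs, hc | hc⟩ := hval (a.coeff x) (a.coeff y)
    · right; exact ⟨s, c, hs, by rwa [mul_comm (a.coeff y) c]⟩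
    · left; exact ⟨s, c, hs, by rwa [mul_comm (a.coeff x) c]⟩
  have htrans : ∀ x y z, r x y → r y z → r x z := by
    rintro x y z ⟨s, d, hs, hd⟩ ⟨s', d', hs', hd'⟩
    refine ⟨s * s', d * d', fun h => (Ideal.IsPrime.mem_or_mem ‹p.IsPrime› h).elim hs hs', ?_⟩
    have : s * s' * a.coeff z - a.coeff x * (d * d') =
        s * (s' * a.coeff z - a.coeff y * d') + d' * (s * a.coeff y - a.coeff x * d) := by ring
    rw [this]
    exact p'.add_mem (p'.mul_mem_left _ hd') (p'.mul_mem_left _ hd)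
  obtain ⟨μ₀, hμ₀F, hmin⟩ := exists_least r hrefl htot htrans F hFne
  have hμ₀ : a.coeff μ₀ ∉ p' := by
    rw [hF] at hμ₀F
    exact (Finset.mem_filter.mp hμ₀F).2
  have hμ₀s : μ₀ ∈ a.support := by
    rw [hF] at hμ₀F
    exact (Finset.mem_filter.mp hμ₀F).1
  have hd : ∀ ν, ∃ s d : R, s ∉ p ∧ s * a.coeff ν - a.coeff μ₀ * d ∈ p' ∧
      (ν = μ₀ → d = 1) := by
    intro ν
    by_cases hνμ : ν = μ₀
    · subst hνμ
      exact ⟨1, 1, one_notMem_of_isPrime p,
        by rw [one_mul, mul_one, sub_self]; exact p'.zero_mem, fun _ => rfl⟩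
    by_cases hν : ν ∈ F
    · obtain ⟨s, d, hs, h⟩ := hmin ν hν
      exact ⟨s, d, hs, h, fun h => absurd h hνμ⟩
    · refine ⟨1, 0, one_notMem_of_isPrime p, ?_, fun h => absurd h hνμ⟩
      rw [mul_zero, sub_zero, one_mul]
      by_contra hne
      exact hν (hmemF ν hne)
  choose s d hs hd hμ₀d using hd
  obtain ⟨g, hg⟩ : ∃ g : MvPolynomial ι R, g = ∑ ν ∈ a.support,
      MvPolynomial.monomial ν ((∏ ν' ∈ a.support.erase ν, s ν') * d ν) := ⟨_, rfl⟩
  have hgcoeff : ∀ ν, g.coeff ν =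
      if ν ∈ a.support then (∏ ν' ∈ a.support.erase ν, s ν') * d ν else 0 := by
    intro ν
    rw [hg, MvPolynomial.coeff_sum]
    simp only [MvPolynomial.coeff_monomial]
    rw [Finset.sum_ite_eq' a.support ν]
  have hdiff : ∀ ν, (MvPolynomial.C (∏ ν' ∈ a.support, s ν') * a -
      MvPolynomial.C (a.coeff μ₀) * g).coeff ν ∈ p' := by
    intro ν
    rw [MvPolynomial.coeff_sub, MvPolynomial.coeff_C_mul, MvPolynomial.coeff_C_mul, hgcoeff]
    split_ifs with hν
    · have hσν : ∏ ν' ∈ a.support, s ν' = s ν * ∏ ν' ∈ a.support.erase ν, s ν' :=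
        (Finset.mul_prod_erase _ _ hν).symm
      have : (∏ ν' ∈ a.support, s ν') * a.coeff ν -
          a.coeff μ₀ * ((∏ ν' ∈ a.support.erase ν, s ν') * d ν) =
          (∏ ν' ∈ a.support.erase ν, s ν') * (s ν * a.coeff ν - a.coeff μ₀ * d ν) := by
        rw [hσν]; ring
      rw [this]
      exact p'.mul_mem_left _ (hd ν)
    · rw [MvPolynomial.notMem_support_iff.mp hν, mul_zero, mul_zero, sub_zero]
      exact p'.zero_mem
  have hmem : MvPolynomial.aeval t (MvPolynomial.C (∏ ν' ∈ a.support, s ν') * a -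
      MvPolynomial.C (a.coeff μ₀) * g) ∈ q' :=
    aeval_mem_of_coeff_mem p' q' hp'q'.ge t _ hdiff
  rw [map_sub, map_mul, map_mul, MvPolynomial.aeval_C, MvPolynomial.aeval_C] at hmem
  have h2 : algebraMap R S (a.coeff μ₀) * MvPolynomial.aeval t g ∈ q' := by
    have h1 : algebraMap R S (∏ ν' ∈ a.support, s ν') * MvPolynomial.aeval t a ∈ q' :=
      q'.mul_mem_left _ ha
    have := q'.sub_mem h1 hmem
    rwa [sub_sub_cancel] at this
  rcases Ideal.IsPrime.mem_or_mem inferInstance h2 with h3 | h3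
  · apply hμ₀
    rw [← hp'q']; exact h3
  · have h4 := H g (hq'q h3) μ₀
    rw [hgcoeff, if_pos hμ₀s, hμ₀d μ₀ rfl, mul_one] at h4
    obtain ⟨ν, _, hν⟩ := (Ideal.IsPrime.prod_mem_iff).mp h4
    exact hs ν hν

section Quot

variable (p' p : Ideal R) (q' q : Ideal S) [p'.IsPrime] [p.IsPrime] [q'.IsPrime] [q.IsPrime]
  [q'.LiesOver p'] [q.LiesOver p]

theorem algebraicIndependent_quotient' {ι : Type*} (hq'q : q' ≤ q)
    (hval : ∀ a b : R, ∃ s c : R, s ∉ p ∧ (s * a - c * b ∈ p' ∨ s * b - c * a ∈ p'))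
    (t : ι → S)
    (h : AlgebraicIndependent (R ⧸ p) (fun i => Ideal.Quotient.mk q (t i))) :
    AlgebraicIndependent (R ⧸ p') (fun i => Ideal.Quotient.mk q' (t i)) := by
  rw [algebraicIndependent_iff] at h ⊢
  intro P hP
  obtain ⟨a, rfl⟩ := MvPolynomial.map_surjective (Ideal.Quotient.mk p')
    Ideal.Quotient.mk_surjective P
  rw [aeval_mk_map p' q' t a, Ideal.Quotient.eq_zero_iff_mem] at hP
  have hp'q' : q'.comap (algebraMap R S) = p' := (Ideal.LiesOver.over (p := p') (P := q')).symm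
  have key := coeff_mem_of_aeval_mem' p' p q' q hp'q' hq'q hval t ?_ a hP
  · ext μ
    rw [MvPolynomial.coeff_map, MvPolynomial.coeff_zero, Ideal.Quotient.eq_zero_iff_mem]
    exact key μ
  · intro b hb μ
    have h1 := h (MvPolynomial.map (Ideal.Quotient.mk p) b) (by
      rw [aeval_mk_map p q t b, Ideal.Quotient.eq_zero_iff_mem]; exact hb)
    have h2 := congrArg (MvPolynomial.coeff μ) h1
    rw [MvPolynomial.coeff_map, MvPolynomial.coeff_zero, Ideal.Quotient.eq_zero_iff_mem] at h2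
    exact h2

theorem trdeg_quotient_le' (hq'q : q' ≤ q)
    (hval : ∀ a b : R, ∃ s c : R, s ∉ p ∧ (s * a - c * b ∈ p' ∨ s * b - c * a ∈ p')) :
    Algebra.trdeg (R ⧸ p) (S ⧸ q) ≤ Algebra.trdeg (R ⧸ p') (S ⧸ q') := by
  rw [Algebra.trdeg]
  refine ciSup_le' fun s => ?_
  let t : s.1 → S := fun x => Function.surjInv Ideal.Quotient.mk_surjective x.1
  have ht : ∀ x : s.1, Ideal.Quotient.mk q (t x) = x.1 := fun x =>
    Function.surjInv_eq Ideal.Quotient.mk_surjective x.1
  have h : AlgebraicIndependent (R ⧸ p) (fun x : s.1 => Ideal.Quotient.mk q (t x)) := by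
    have h0 : AlgebraicIndependent (R ⧸ p) (fun x : s.1 => (x : S ⧸ q)) := s.2
    convert h0 using 1
    funext x
    exact ht x
  exact (algebraicIndependent_quotient' p' p q' q hq'q hval t h).cardinalMk_le_trdeg

end Quot

/-- the valuation-type condition at a prime `P` with `A_P` a valuation ring. -/
theorem hval_of_valuationRing_atPrime (A : Type u) [CommRing A] [IsDomain A] (P : Ideal A)
    [P.IsPrime] [ValuationRing (Localization.AtPrime P)] (a b : A) :
    ∃ s c : A, s ∉ P ∧ (s * a = c * b ∨ s * b = c * a) := by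
  have hinj : Function.Injective (algebraMap A (Localization.AtPrime P)) :=
    IsLocalization.injective _ P.primeCompl_le_nonZeroDivisors
  obtain ⟨c, hc | hc⟩ := ValuationRing.cond (algebraMap A (Localization.AtPrime P) a)
    (algebraMap A (Localization.AtPrime P) b)
  · obtain ⟨r, s, rfl⟩ := IsLocalization.exists_mk'_eq P.primeCompl c
    refine ⟨s.1, r, s.2, Or.inr ?_⟩
    apply hinj
    rw [IsLocalization.mul_mk'_eq_mk'_of_mul, IsLocalization.mk'_eq_iff_eq_mul] at hc
    rw [map_mul, map_mul, mul_comm, ← hc, map_mul, mul_comm]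
  · obtain ⟨r, s, rfl⟩ := IsLocalization.exists_mk'_eq P.primeCompl c
    refine ⟨s.1, r, s.2, Or.inl ?_⟩
    apply hinj
    rw [IsLocalization.mul_mk'_eq_mk'_of_mul, IsLocalization.mk'_eq_iff_eq_mul] at hc
    rw [map_mul, map_mul, mul_comm, ← hc, map_mul, mul_comm]

end Groth.Agent.H1.ValPru
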