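import Mathlib
import Groth.Agent.Lib.Helper1.ValDim

open AlgebraicGeometry CategoryTheory CategoryTheory.Limits TopologicalSpace Topology IsLocalRing

universe u
namespace Groth.Agent.H1.ValSec

/-- A point specializing to the generic point of an irreducible component is that generic point. -/
theorem eq_of_specializes_of_isGenericPoint {T : Type*} [TopologicalSpace T] [T0Space T]
    {a b : T} {C : Set T} (hC : C ∈ irreducibleComponents T) (ha : IsGenericPoint a C)
    (hba : b ⤳ a) : b = a := by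
  have h1 : C ⊆ closure {b} := by
    rw [← ha.def]
    exact closure_minimal (Set.singleton_subset_iff.mpr hba.mem_closure) isClosed_closure
  have h2 : IsIrreducible (closure ({b} : Set T)) := isIrreducible_singleton.closure
  have h3 : closure {b} ⊆ C := hC.2 h2 h1
  have h4 : a ⤳ b := by
    rw [specializes_iff_mem_closure, ha.def]; exact h3 (subset_closure rfl)
  exact (hba.antisymm h4).eq

theorem exists_generic_component {T : Type*} [TopologicalSpace T] [QuasiSober T] (p : T) :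
    ∃ (z : T) (C : Set T), C ∈ irreducibleComponents T ∧ IsGenericPoint z C ∧ z ⤳ p := by
  have hC := irreducibleComponent_mem_irreducibleComponents p
  obtain ⟨z, hz⟩ := QuasiSober.sober hC.1 (isClosed_of_mem_irreducibleComponents _ hC)
  refine ⟨z, _, hC, hz, ?_⟩
  rw [specializes_iff_mem_closure, hz.def]
  exact mem_irreducibleComponent

theorem quasiSober_inter_fiber {X Y : Scheme.{u}} (h : X ⟶ Y) (y : Y) (Z : Set X)
    (hZ : IsClosed Z) : QuasiSober ↑(Z ∩ h ⁻¹' {y}) := by
  haveI : QuasiSober ↑(h ⁻¹' {y}) := (h.fiberHomeo y).symm.isClosedEmbedding.quasiSober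
  exact QuasiSober.inter_of_isClosed_of_quasiSober_right Z hZ

theorem main {X S : Scheme.{u}} (f : X ⟶ S) (y : X) (s : S) (x : X)
    (hx : x ∈ closure ({y} : Set ↑X)) (hxs : f x = s)
    (hgen : ∃ C ∈ irreducibleComponents ↑(closure ({y} : Set ↑X) ∩ f ⁻¹' {s}), IsGenericPoint (⟨x, hx, hxs⟩ : ↑(closure ({y} : Set ↑X) ∩ f ⁻¹' {s})) C) :
    ∃ (R : Type u) (_ : CommRing R) (_ : IsDomain R) (_ : ValuationRing R) (g : Spec (CommRingCat.of R) ⟶ S),
      g (⊥ : PrimeSpectrum R) = f y ∧ g (IsLocalRing.closedPoint R) = s ∧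
      ∃ (y' : ↑(pullback f g)) (hy't : pullback.snd f g y' = (⊥ : PrimeSpectrum R)) (hy'Y : pullback.fst f g y' ∈ closure ({y} : Set ↑X)),
        pullback.fst f g y' = y ∧
        (∃ C ∈ irreducibleComponents ↑((pullback.fst f g) ⁻¹' closure ({y} : Set ↑X) ∩ (pullback.snd f g) ⁻¹' {(⊥ : PrimeSpectrum R)}),
          IsGenericPoint (⟨y', hy'Y, hy't⟩ : ↑((pullback.fst f g) ⁻¹' closure ({y} : Set ↑X) ∩ (pullback.snd f g) ⁻¹' {(⊥ : PrimeSpectrum R)})) C) ∧
        ∃ (x' : ↑(pullback f g)) (hx' : x' ∈ closure ({y'} : Set ↑(pullback f g))) (hx's : pullback.snd f g x' = IsLocalRing.closedPoint R),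
          pullback.fst f g x' = x ∧
          ∃ C ∈ irreducibleComponents ↑(closure ({y'} : Set ↑(pullback f g)) ∩ (pullback.snd f g) ⁻¹' {IsLocalRing.closedPoint R}),
            IsGenericPoint (⟨x', hx', hx's⟩ : ↑(closure ({y'} : Set ↑(pullback f g)) ∩ (pullback.snd f g) ⁻¹' {IsLocalRing.closedPoint R})) C := by
  have hyx : y ⤳ x := specializes_iff_mem_closure.mpr hx
  obtain ⟨R, _, _, _, h, η, hcl, hη, hηbot⟩ := ValDim.exists_valuationRing_of_specializes hyx
  have hηeq : η = (⊥ : PrimeSpectrum R) := PrimeSpectrum.ext hηbot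
  subst hηeq
  let g : Spec (CommRingCat.of R) ⟶ S := h ≫ f
  let σ : Spec (CommRingCat.of R) ⟶ pullback f g := pullback.lift h (𝟙 _) (by simp [g])
  have hσ1 : σ ≫ pullback.fst f g = h := pullback.lift_fst _ _ _
  have hσ2 : σ ≫ pullback.snd f g = 𝟙 _ := pullback.lift_snd _ _ _
  have hg1 : g (⊥ : PrimeSpectrum R) = f y := by
    show (h ≫ f) _ = _
    rw [Scheme.Hom.comp_apply, hη]
  have hg2 : g (IsLocalRing.closedPoint R) = s := by
    show (h ≫ f) _ = _
    rw [Scheme.Hom.comp_apply, hcl, hxs]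
  refine ⟨R, inferInstance, inferInstance, inferInstance, g, hg1, hg2, ?_⟩
  -- the two section points
  set y0 : ↑(pullback f g) := σ (⊥ : PrimeSpectrum R) with hy0
  set x0 : ↑(pullback f g) := σ (IsLocalRing.closedPoint R) with hx0
  have hy0f : pullback.fst f g y0 = y := by
    rw [hy0, ← Scheme.Hom.comp_apply, hσ1, hη]
  have hy0s : pullback.snd f g y0 = (⊥ : PrimeSpectrum R) := by
    rw [hy0, ← Scheme.Hom.comp_apply, hσ2]; rfl
  have hx0f : pullback.fst f g x0 = x := by
    rw [hx0, ← Scheme.Hom.comp_apply, hσ1, hcl]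
  have hx0s : pullback.snd f g x0 = IsLocalRing.closedPoint R := by
    rw [hx0, ← Scheme.Hom.comp_apply, hσ2]; rfl
  have hyx0 : y0 ⤳ x0 :=
    (IsLocalRing.specializes_closedPoint (⊥ : PrimeSpectrum R)).map σ.continuous
  -- the generic point y'
  haveI : QuasiSober ↑((pullback.fst f g) ⁻¹' closure ({y} : Set ↑X) ∩ (pullback.snd f g) ⁻¹' {(⊥ : PrimeSpectrum R)}) :=
    quasiSober_inter_fiber (pullback.snd f g) _ _
      (isClosed_closure.preimage (pullback.fst f g).continuous)
  obtain ⟨z, C, hC, hz, hzp⟩ := exists_generic_component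
    (⟨y0, by rw [Set.mem_preimage, hy0f]; exact subset_closure rfl, hy0s⟩ :
      ↑((pullback.fst f g) ⁻¹' closure ({y} : Set ↑X) ∩ (pullback.snd f g) ⁻¹' {(⊥ : PrimeSpectrum R)}))
  have hzy0 : z.1 ⤳ y0 := (subtype_specializes_iff _ _).mp hzp
  have hzf : pullback.fst f g z.1 = y := by
    have h1 : pullback.fst f g z.1 ⤳ y := hy0f ▸ hzy0.map (pullback.fst f g).continuous
    have h2 : y ⤳ pullback.fst f g z.1 := specializes_iff_mem_closure.mpr z.2.1
    exact (h1.antisymm h2).eq
  refine ⟨z.1, z.2.2, z.2.1, hzf, ⟨C, hC, hz⟩, ?_⟩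
  -- the generic point x'
  haveI : QuasiSober ↑(closure ({z.1} : Set ↑(pullback f g)) ∩ (pullback.snd f g) ⁻¹' {IsLocalRing.closedPoint R}) :=
    quasiSober_inter_fiber (pullback.snd f g) _ _ isClosed_closure
  obtain ⟨w, C', hC', hw, hwq⟩ := exists_generic_component
    (⟨x0, (hzy0.trans hyx0).mem_closure, hx0s⟩ :
      ↑(closure ({z.1} : Set ↑(pullback f g)) ∩ (pullback.snd f g) ⁻¹' {IsLocalRing.closedPoint R}))
  have hwx0 : w.1 ⤳ x0 := (subtype_specializes_iff _ _).mp hwq
  have hzw : z.1 ⤳ w.1 := specializes_iff_mem_closure.mpr w.2.1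
  have hb1 : pullback.fst f g w.1 ∈ closure ({y} : Set ↑X) := by
    have := hzw.map (pullback.fst f g).continuous
    rw [hzf] at this
    exact this.mem_closure
  have hb2 : f (pullback.fst f g w.1) = s := by
    have hc : (pullback.fst f g ≫ f) w.1 = (pullback.snd f g ≫ g) w.1 := by
      rw [pullback.condition]
    rw [Scheme.Hom.comp_apply, Scheme.Hom.comp_apply] at hc
    rw [hc, show pullback.snd f g w.1 = IsLocalRing.closedPoint R from w.2.2, hg2]
  have hwf : pullback.fst f g w.1 = x := by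
    obtain ⟨Cx, hCx, hgx⟩ := hgen
    have hba : (⟨pullback.fst f g w.1, hb1, hb2⟩ : ↑(closure ({y} : Set ↑X) ∩ f ⁻¹' {s})) ⤳
        ⟨x, hx, hxs⟩ := by
      rw [subtype_specializes_iff]
      exact hx0f ▸ hwx0.map (pullback.fst f g).continuous
    exact congrArg Subtype.val (eq_of_specializes_of_isGenericPoint hCx hgx hba)
  exact ⟨w.1, w.2.1, w.2.2, hwf, C', hC', hw⟩

end Groth.Agent.H1.ValSec
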