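import Mathlib

/-! Helper1: valuation-ring arguments: intersection of powers of a principal ideal in a valuation
ring is prime; consequences for local rings (Raynaud–Gruson style lemmas). -/
universe u

namespace Groth.Agent.H1

/-- In a valuation ring, `⨅ n, (f^n)` is a prime ideal not containing `f` when `f` is a nonzero
non-unit. -/
theorem iInf_span_pow_isPrime {V : Type*} [CommRing V] [IsDomain V] [ValuationRing V] (f : V)
    (hf0 : f ≠ 0) (hfu : ¬ IsUnit f) :
    (⨅ n : ℕ, Ideal.span {f ^ n}).IsPrime ∧ f ∉ ⨅ n : ℕ, Ideal.span {f ^ n} := by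
  have hfnot : f ∉ ⨅ n : ℕ, Ideal.span {f ^ n} := by
    intro h
    have h2 : f ∈ Ideal.span {f ^ 2} := (Ideal.mem_iInf.1 h) 2
    rw [Ideal.mem_span_singleton'] at h2
    obtain ⟨c, hc⟩ := h2
    have : f * (c * f - 1) = 0 := by
      have : f * (c * f - 1) = c * f ^ 2 - f := by ring
      rw [this, hc, sub_self]
    rcases mul_eq_zero.1 this with h0 | h1
    · exact hf0 h0
    · exact hfu (IsUnit.of_mul_eq_one (b := c) (by rw [mul_comm]; exact sub_eq_zero.1 h1))
  refine ⟨⟨?_, ?_⟩, hfnot⟩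
  · intro h
    exact hfnot (h ▸ Submodule.mem_top)
  · intro a b hab
    by_contra hcon
    push Not at hcon
    obtain ⟨ha, hb⟩ := hcon
    rw [Ideal.mem_iInf] at ha
    push Not at ha
    obtain ⟨N, hN⟩ := ha
    have hdiv : a ∣ f ^ N := by
      rcases ValuationRing.dvd_total a (f ^ N) with h | h
      · exact h
      · exact absurd (Ideal.mem_span_singleton.2 h) hN
    obtain ⟨c, hc⟩ := hdiv
    have ha0 : a ≠ 0 := by
      rintro rfl
      exact hN (Ideal.zero_mem _)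
    apply hb
    rw [Ideal.mem_iInf]
    intro n
    have h1 : a * b ∈ Ideal.span {f ^ (n + N)} := (Ideal.mem_iInf.1 hab) (n + N)
    rw [Ideal.mem_span_singleton'] at h1 ⊢
    obtain ⟨d, hd⟩ := h1
    refine ⟨d * c, ?_⟩
    apply mul_left_cancel₀ ha0
    rw [← hd, pow_add, hc]
    ring

end Groth.Agent.H1

namespace Groth.Agent.H1
open IsLocalRing

theorem exists_valuationRing_localHom (A : Type u) [CommRing A] [IsDomain A] [IsLocalRing A] :
    ∃ (V : Type u) (_ : CommRing V) (_ : IsDomain V) (_ : ValuationRing V) (φ : A →+* V),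
      Function.Injective φ ∧ IsLocalHom φ := by
  obtain ⟨B, h, hloc⟩ := IsLocalRing.exists_factor_valuationRing (algebraMap A (FractionRing A))
  refine ⟨B, inferInstance, inferInstance, inferInstance,
    (algebraMap A (FractionRing A)).codRestrict B.toSubring h, ?_, hloc⟩
  intro a b hab
  apply IsFractionRing.injective A (FractionRing A)
  exact congrArg Subtype.val hab

theorem iInf_map_pow_isPrime {A V : Type*} [CommRing A] [IsLocalRing A] [CommRing V] [IsDomain V]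
    [ValuationRing V] (φ : A →+* V) (hφ : Function.Injective φ) [IsLocalHom φ]
    (J : Ideal A) (hfg : J.FG) (h0 : J ≠ ⊥) (h1 : J ≠ ⊤) :
    (⨅ n : ℕ, (J ^ n).map φ).IsPrime ∧ ¬ J.map φ ≤ ⨅ n : ℕ, (J ^ n).map φ := by
  have hprinc : (J.map φ).IsPrincipal := IsBezout.isPrincipal_of_FG _ (hfg.map φ)
  obtain ⟨f, hf⟩ := hprinc.principal
  have hf' : J.map φ = Ideal.span {f} := hf
  have hf0 : f ≠ 0 := by
    rintro rfl
    apply h0
    rw [eq_bot_iff]
    intro a ha
    have : φ a ∈ J.map φ := Ideal.mem_map_of_mem φ ha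
    rw [hf', Ideal.span_singleton_zero, Ideal.mem_bot] at this
    rw [Ideal.mem_bot]
    exact hφ (by rw [this, map_zero])
  have hfu : ¬ IsUnit f := by
    intro hu
    have htop : J.map φ = ⊤ := by rw [hf']; exact Ideal.span_singleton_eq_top.2 hu
    have hle : J.map φ ≤ maximalIdeal V := by
      rw [Ideal.map_le_iff_le_comap]
      intro a ha
      have ham : a ∈ maximalIdeal A := le_maximalIdeal h1 ha
      rw [Ideal.mem_comap, mem_maximalIdeal, mem_nonunits_iff]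
      rw [mem_maximalIdeal, mem_nonunits_iff] at ham
      exact fun h => ham (IsUnit.of_map φ a h)
    exact (Ideal.IsMaximal.ne_top inferInstance) (top_le_iff.1 (htop ▸ hle))
  have hpow : ∀ n : ℕ, (J ^ n).map φ = Ideal.span {f ^ n} := by
    intro n
    rw [Ideal.map_pow, hf', Ideal.span_singleton_pow]
  simp only [hpow]
  obtain ⟨hp, hnot⟩ := iInf_span_pow_isPrime f hf0 hfu
  refine ⟨hp, fun hle => hnot (hle ?_)⟩
  rw [hf']
  exact Ideal.mem_span_singleton_self f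

end Groth.Agent.H1

namespace Groth.Agent.H1
open IsLocalRing

theorem le_of_le_pow_forall_of_maximal_off_zeroLocus (A : Type u) [CommRing A] [IsLocalRing A]
    (I J : Ideal A) (hJ : J.FG) (hJ1 : J ≠ ⊤)
    (hI : ∀ n : ℕ, 1 ≤ n → I ≤ J ^ n) (p : Ideal A) [p.IsPrime] (hp : ¬ J ≤ p)
    (hmax : ∀ (p' : Ideal A), p'.IsPrime → p ≤ p' → ¬ J ≤ p' → p' = p) : I ≤ p := by
  intro x hx
  by_contra hxp
  let π := Ideal.Quotient.mk p
  have hπ : Function.Surjective π := Ideal.Quotient.mk_surjective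
  have : IsLocalRing (A ⧸ p) := IsLocalRing.of_surjective' π hπ
  obtain ⟨V, _, _, _, φ, hφ, hloc⟩ := exists_valuationRing_localHom (A ⧸ p)
  have hJ'fg : (J.map π).FG := hJ.map π
  have hJ'0 : J.map π ≠ ⊥ := by
    intro h
    apply hp
    intro a ha
    have : π a ∈ J.map π := Ideal.mem_map_of_mem π ha
    rw [h, Ideal.mem_bot] at this
    exact Ideal.Quotient.eq_zero_iff_mem.1 this
  have hJ'1 : J.map π ≠ ⊤ := by
    intro h
    have h1 : (1 : A ⧸ p) ∈ J.map π := h ▸ Submodule.mem_top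
    rw [Ideal.mem_map_iff_of_surjective π hπ] at h1
    obtain ⟨j, hj, hj1⟩ := h1
    have hjm : j ∈ maximalIdeal A := le_maximalIdeal hJ1 hj
    have h2 : j - 1 ∈ p := by
      rw [← Ideal.Quotient.eq_zero_iff_mem, map_sub, map_one]
      exact sub_eq_zero.2 hj1
    have h3 : j - 1 ∈ maximalIdeal A := le_maximalIdeal (Ideal.IsPrime.ne_top inferInstance) h2
    have h4 : (1 : A) ∈ maximalIdeal A := by
      have := (maximalIdeal A).sub_mem hjm h3
      simp at this
    exact (Ideal.IsMaximal.ne_top inferInstance) ((Ideal.eq_top_iff_one _).2 h4)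
  obtain ⟨hprime, hnot⟩ := iInf_map_pow_isPrime φ hφ (J.map π) hJ'fg hJ'0 hJ'1
  let p' := (⨅ n : ℕ, ((J.map π) ^ n).map φ).comap (φ.comp π)
  have hp'prime : p'.IsPrime := Ideal.comap_isPrime _ _
  have hpp' : p ≤ p' := by
    intro a ha
    rw [Ideal.mem_comap, RingHom.comp_apply, Ideal.Quotient.eq_zero_iff_mem.2 ha, map_zero]
    exact Ideal.zero_mem _
  have hJp' : ¬ J ≤ p' := by
    intro h
    apply hnot
    rw [Ideal.map_le_iff_le_comap, Ideal.map_le_iff_le_comap]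
    exact h
  have hxp' : x ∈ p' := by
    rw [Ideal.mem_comap, RingHom.comp_apply, Ideal.mem_iInf]
    intro n
    rcases Nat.eq_zero_or_pos n with rfl | hn
    · rw [pow_zero, Ideal.one_eq_top, Ideal.map_top]; exact Submodule.mem_top
    · apply Ideal.mem_map_of_mem
      rw [← Ideal.map_pow]
      exact Ideal.mem_map_of_mem π (hI n hn hx)
  exact hxp (hmax p' hp'prime hpp' hJp' ▸ hxp')

end Groth.Agent.H1

namespace Groth.Agent.H1
open IsLocalRing

theorem sInf_eq_bot_of_fg_ideals_covering_nongeneric (A : Type u) [CommRing A] [IsDomain A]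
    [IsLocalRing A] (hA : ¬ IsField A)
    (𝒮 : Set (Ideal A)) (hfg : ∀ I ∈ 𝒮, I.FG) (hmul : ∀ I ∈ 𝒮, ∀ J ∈ 𝒮, I * J ∈ 𝒮)
    (hne : ∀ I ∈ 𝒮, I ≠ ⊥) (hcov : ∀ (p : Ideal A), p.IsPrime → p ≠ ⊥ → ∃ I ∈ 𝒮, I ≤ p) :
    sInf 𝒮 = ⊥ := by
  rw [eq_bot_iff]
  intro x hx
  rw [Ideal.mem_bot]
  by_contra hx0
  obtain ⟨V, _, _, _, φ, hφ, hloc⟩ := exists_valuationRing_localHom A
  -- powers stay in 𝒮
  have hpow : ∀ I ∈ 𝒮, ∀ n : ℕ, I ^ (n + 1) ∈ 𝒮 := by
    intro I hI n
    induction n with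
    | zero => simpa using hI
    | succ n ih => rw [pow_succ]; exact hmul _ ih _ hI
  have hxpow : ∀ I ∈ 𝒮, ∀ n : ℕ, x ∈ I ^ n := by
    intro I hI n
    rcases Nat.eq_zero_or_pos n with rfl | hn
    · simp
    · obtain ⟨m, rfl⟩ := Nat.exists_eq_succ_of_ne_zero hn.ne'
      exact (Ideal.mem_sInf.1 hx) (hpow I hI m)
  let Qf : Ideal A → Ideal V := fun I => ⨅ n : ℕ, (I ^ n).map φ
  let T : Set (Ideal V) := Qf '' {I | I ∈ 𝒮 ∧ I ≠ ⊤}
  have hmne : maximalIdeal A ≠ ⊥ := by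
    intro h
    exact hA (IsLocalRing.isField_iff_maximalIdeal_eq.2 h)
  obtain ⟨I₁, hI₁, hI₁m⟩ := hcov (maximalIdeal A) inferInstance hmne
  have hI₁top : I₁ ≠ ⊤ := fun h => (Ideal.IsMaximal.ne_top (inferInstance : (maximalIdeal A).IsMaximal))
    (top_le_iff.1 (h ▸ hI₁m))
  have hTne : T.Nonempty := ⟨Qf I₁, I₁, ⟨hI₁, hI₁top⟩, rfl⟩
  have hTchain : IsChain (· ≤ ·) T := by
    intro a _ b _ _
    exact (ValuationRing.le_total_ideal (A := V)).total a b
  have hTprime : ∀ P ∈ T, P.IsPrime := by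
    rintro _ ⟨I, ⟨hI, hItop⟩, rfl⟩
    exact (iInf_map_pow_isPrime φ hφ I (hfg I hI) (hne I hI) hItop).1
  have hQprime : (sInf T).IsPrime := Ideal.sInf_isPrime_of_isChain hTne hTchain hTprime
  have hxQ : φ x ∈ sInf T := by
    rw [Ideal.mem_sInf]
    rintro _ ⟨I, ⟨hI, hItop⟩, rfl⟩
    rw [Ideal.mem_iInf]
    intro n
    exact Ideal.mem_map_of_mem φ (hxpow I hI n)
  have hqprime : ((sInf T).comap φ).IsPrime := Ideal.comap_isPrime _ _
  have hq0 : (sInf T).comap φ ≠ ⊥ := by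
    intro h
    have : x ∈ (sInf T).comap φ := hxQ
    rw [h, Ideal.mem_bot] at this
    exact hx0 this
  obtain ⟨I₀, hI₀, hI₀le⟩ := hcov _ hqprime hq0
  have hI₀top : I₀ ≠ ⊤ := fun h => (Ideal.IsPrime.ne_top hqprime) (top_le_iff.1 (h ▸ hI₀le))
  have hnot := (iInf_map_pow_isPrime φ hφ I₀ (hfg I₀ hI₀) (hne I₀ hI₀) hI₀top).2
  apply hnot
  rw [Ideal.map_le_iff_le_comap]
  refine hI₀le.trans (Ideal.comap_mono ?_)
  exact sInf_le ⟨I₀, ⟨hI₀, hI₀top⟩, rfl⟩

end Groth.Agent.H1
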