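import Mathlib
import Groth.Agent.Lib.Helper1.BirCodim1
import Groth.Agent.Lib.Helper1.SmoothDepth
import Groth.Agent.Lib.Helper3.CA.ABufd2
import Groth.Agent.Lib.Helper1.EquiDim
import Groth.Agent.Lib.Helper1.ClosureDim
import Groth.Agent.Lib.Helper1.GeoKrull
import Groth.Agent.S2852

/-! van der Waerden purity for birational separated morphisms to a smooth variety: the exceptional
locus has pure codimension one (helper1). -/

set_option autoImplicit false
set_option linter.style.haveILetI false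
universe u

open CategoryTheory AlgebraicGeometry TopologicalSpace

namespace Groth.Agent.H1.VdWPurity

/-- the locus where a separated morphism from an integral scheme is not an isomorphism over a
neighbourhood of the image is the locus where it is not a local open immersion. -/
theorem mem_exc_iff {X Y : Scheme.{u}} [IsIntegral X] (f : X ⟶ Y) [IsSeparated f] (x : X) :
    (∀ V : Y.Opens, f x ∈ V → ¬ IsIso (f ∣_ V)) ↔
      ¬ ∃ W : X.Opens, x ∈ W ∧ IsOpenImmersion (W.ι ≫ f) := by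
  constructor
  · rintro hx ⟨W, hxW, hOI⟩
    haveI := hOI
    have hiso := BirCodim1.isIso_restrict_of_isOpenImmersion f W ⟨x, hxW⟩
      (W.ι ≫ f).opensRange rfl
    refine hx (W.ι ≫ f).opensRange ?_ hiso
    exact ⟨⟨x, hxW⟩, rfl⟩
  · intro hx V hxV hiso
    apply hx
    refine ⟨f ⁻¹ᵁ V, hxV, ?_⟩
    rw [← morphismRestrict_ι]
    infer_instance

theorem core (k : Type u) [Field k] (X Y : Scheme.{u})
    (pX : X ⟶ Spec (CommRingCat.of k)) (pY : Y ⟶ Spec (CommRingCat.of k))
    [IsIntegral X] [LocallyOfFiniteType pX] [IsIntegral Y] [Smooth pY]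
    (f : X ⟶ Y) (hf : f ≫ pY = pX) [IsSeparated f]
    (hbir : ∃ V : Y.Opens, (V : Set Y).Nonempty ∧ IsIso (f ∣_ V))
    (T : Set X) (hT : ∀ x : X, x ∈ T ↔ ¬ ∃ W : X.Opens, x ∈ W ∧ IsOpenImmersion (W.ι ≫ f))
    (Z : Set ↥T) (hZ : Z ∈ irreducibleComponents ↥T) :
    topologicalKrullDim ↥Z + 1 = topologicalKrullDim X := by
  haveI : LocallyOfFiniteType pY := inferInstance
  haveI : IsLocallyNoetherian X := LocallyOfFiniteType.isLocallyNoetherian pX
  haveI : IsLocallyNoetherian Y := LocallyOfFiniteType.isLocallyNoetherian pY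
  haveI : LocallyOfFiniteType f := by
    haveI : LocallyOfFiniteType (f ≫ pY) := by rw [hf]; infer_instance
    exact locallyOfFiniteType_of_comp f pY
  have hTc : IsClosed T := by
    rw [← isOpen_compl_iff, isOpen_iff_forall_mem_open]
    intro x hx
    have hx' : ∃ W : X.Opens, x ∈ W ∧ IsOpenImmersion (W.ι ≫ f) := by
      by_contra hcon
      exact hx ((hT x).mpr hcon)
    obtain ⟨W, hxW, hOI⟩ := hx'
    refine ⟨(W : Set X), ?_, W.isOpen, hxW⟩
    intro x' hx'W hx'T
    exact (hT x').mp hx'T ⟨W, hx'W, hOI⟩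
  obtain ⟨hZi, hZT, hZmax⟩ := GeoKrull.isMaxIrr_image hZ
  have hZc : IsClosed (Subtype.val '' Z : Set X) := by
    have h1 : closure (Subtype.val '' Z : Set X) ⊆ Subtype.val '' Z :=
      hZmax _ hZi.closure (closure_minimal hZT hTc) subset_closure
    exact closure_subset_iff_isClosed.mp h1
  obtain ⟨ξ, hξ⟩ : ∃ ξ : X, closure ({ξ} : Set X) = Subtype.val '' Z :=
    ⟨hZi.genericPoint, (hZi.isGenericPoint_genericPoint hZc).def⟩
  have hξZ : ξ ∈ (Subtype.val '' Z : Set X) := by rw [← hξ]; exact subset_closure rfl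
  have hξT : ξ ∈ T := hZT hξZ
  have hmax : ∀ η : X, (¬ ∃ W : X.Opens, η ∈ W ∧ IsOpenImmersion (W.ι ≫ f)) → η ⤳ ξ →
      η = ξ := by
    intro η hη hsp
    have hηT : η ∈ T := (hT η).mpr hη
    have h1 : closure ({η} : Set X) ⊆ T :=
      closure_minimal (Set.singleton_subset_iff.mpr hηT) hTc
    have h2 : (Subtype.val '' Z : Set X) ⊆ closure ({η} : Set X) := by
      rw [← hξ]
      exact closure_minimal (Set.singleton_subset_iff.mpr (specializes_iff_mem_closure.mp hsp))
        isClosed_closure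
    have h3 := hZmax _ (isIrreducible_singleton.closure) h1 h2
    have h4 : η ∈ closure ({ξ} : Set X) := by rw [hξ]; exact h3 (subset_closure rfl)
    exact (hsp.antisymm (specializes_iff_mem_closure.mpr h4)).eq
  have hV : ∃ W : X.Opens, (W : Set X).Nonempty ∧ IsOpenImmersion (W.ι ≫ f) := by
    obtain ⟨V, ⟨y, hy⟩, hiso⟩ := hbir
    haveI := hiso
    refine ⟨f ⁻¹ᵁ V, ?_, ?_⟩
    · let x := (inv (f ∣_ V)) ⟨y, hy⟩
      exact ⟨x.1, x.2⟩
    · rw [← morphismRestrict_ι]; infer_instance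
  have hY : ∀ y : Y, UniqueFactorizationMonoid (Y.presheaf.stalk y) := by
    intro y
    haveI := SmoothDepth.isRegularLocalRing_stalk_of_smooth k pY y
    exact (Groth.Agent.H3.ABufd.main (Y.presheaf.stalk y)).2
  have hdim1 : ringKrullDim (X.presheaf.stalk ξ) = 1 :=
    Groth.Agent.S2852.result f hY hV ξ ((hT ξ).mp hξT) hmax
  obtain ⟨t, ht1, ht2⟩ := DimFormula.exists_localDim_eq_stalk_add_trdeg pX ξ
  obtain ⟨t', ht1', ht2'⟩ := ClosureDim.exists_trdeg_eq_dim_closure pX ξ
  have htt : t = t' := by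
    have : (t : Cardinal) = (t' : Cardinal) := ht1.symm.trans ht1'
    exact_mod_cast this
  have hloc := EquiDim.localDim_eq_dim pX ξ
  have e1 := GeoKrull.dim_image_val Z
  rw [← hξ, ht2', ← htt] at e1
  rw [← e1, ← hloc, ht2, hdim1, add_comm]

theorem s14515 (k : Type u) [Field k]
    (X Y : Scheme.{u}) [X.Over (Spec (CommRingCat.of k))] [Y.Over (Spec (CommRingCat.of k))]
    [IsIntegral X] [LocallyOfFiniteType (X ↘ (Spec (CommRingCat.of k)))]
    [IsIntegral Y] [Smooth (Y ↘ (Spec (CommRingCat.of k)))]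
    (f : X ⟶ Y) (hf : f ≫ (Y ↘ (Spec (CommRingCat.of k))) = (X ↘ (Spec (CommRingCat.of k))))
    [IsSeparated f]
    (hbir : ∃ V : Y.Opens, (V : Set Y).Nonempty ∧ IsIso (f ∣_ V)) :
    ∀ Z ∈ irreducibleComponents ↥{x : X | ∀ V : Y.Opens, f x ∈ V → ¬ IsIso (f ∣_ V)},
      topologicalKrullDim ↥Z + 1 = topologicalKrullDim X := by
  intro Z hZ
  exact core k X Y _ _ f hf hbir _ (fun x => mem_exc_iff f x) Z hZ

end Groth.Agent.H1.VdWPurity
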