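import Mathlib
import Groth.Agent.Lib.Helper1.DimFormula3

set_option autoImplicit false
universe u

namespace Groth.Agent.H1.WRNN

section equivT
open Polynomial MvPolynomial Ideal Nat RingHom List

variable {k : Type*} [CommRing k] {n : ℕ} (D : ℕ)

/-- `X_i ↦ X_i + c • X_0 ^ (D ^ i)` for `i ≠ 0`, `X_0 ↦ X_0`. -/
noncomputable abbrev T1 (c : k) :
    MvPolynomial (Fin (n + 1)) k →ₐ[k] MvPolynomial (Fin (n + 1)) k :=
  aeval fun i ↦ if i = 0 then X 0 else X i + c • X 0 ^ (D ^ i.1)

lemma t1_comp_t1_neg (c : k) : (T1 (n := n) D c).comp (T1 D (-c)) = AlgHom.id _ _ := by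
  rw [comp_aeval, ← MvPolynomial.aeval_X_left]
  ext i v
  cases i using Fin.cases <;> simp

/-- the automorphism. -/
noncomputable abbrev T : MvPolynomial (Fin (n + 1)) k ≃ₐ[k] MvPolynomial (Fin (n + 1)) k :=
  AlgEquiv.ofAlgHom (T1 D 1) (T1 D (-1))
  (t1_comp_t1_neg D 1) (by simpa using t1_comp_t1_neg (k := k) (n := n) D (-1))

variable [IsDomain k] (f : MvPolynomial (Fin (n + 1)) k) (v w : Fin (n + 1) →₀ ℕ)

lemma lt_D {D : ℕ} {v : Fin (n + 1) →₀ ℕ} (vlt : ∀ i, v i < D) : ∀ l ∈ ofFn v, l < D := by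
  grind

lemma sum_r_mul_ne (hD : 1 < D) (vlt : ∀ i, v i < D) (wlt : ∀ i, w i < D) (ne : v ≠ w) :
    ∑ x : Fin (n + 1), D ^ x.1 * v x ≠ ∑ x : Fin (n + 1), D ^ x.1 * w x := by
  intro h
  refine ne <| Finsupp.ext <| congrFun <| ofFn_inj.mp ?_
  apply ofDigits_inj_of_len_eq hD (by simp) (lt_D vlt) (lt_D wlt)
  simpa only [ofDigits_eq_sum_mapIdx, mapIdx_eq_ofFn, get_ofFn, length_ofFn,
    Fin.val_cast, mul_comm, sum_ofFn] using! h

lemma degreeOf_zero_t (hD0 : 0 < D) {a : k} (ha : a ≠ 0) : ((T D) (monomial v a)).degreeOf 0 =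
    ∑ i : Fin (n + 1), (D ^ i.1) * v i := by
  rw [← natDegree_finSuccEquiv, monomial_eq, Finsupp.prod_pow v fun a ↦ X a]
  simp only [Fin.prod_univ_succ, Fin.sum_univ_succ, map_mul, map_prod, map_pow,
    AlgEquiv.ofAlgHom_apply, MvPolynomial.aeval_C, MvPolynomial.aeval_X, if_pos, Fin.succ_ne_zero,
    ite_false, one_smul, map_add, finSuccEquiv_X_zero, finSuccEquiv_X_succ, algebraMap_eq]
  have h (i : Fin n) :
      (Polynomial.C (X (R := k) i) + Polynomial.X ^ (D ^ i.succ.1)) ^ v i.succ ≠ 0 :=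
    pow_ne_zero (v i.succ) (leadingCoeff_ne_zero.mp <| by
      simp [add_comm, leadingCoeff_X_pow_add_C (pow_pos hD0 _)])
  rw [natDegree_mul (by simp [ha]) (mul_ne_zero (by simp) (Finset.prod_ne_zero_iff.mpr
    (fun i _ ↦ h i))), natDegree_mul (by simp) (Finset.prod_ne_zero_iff.mpr (fun i _ ↦ h i)),
    natDegree_prod _ _ (fun i _ ↦ h i), natDegree_finSuccEquiv, degreeOf_C]
  simpa only [natDegree_pow, zero_add, natDegree_X, mul_one, Fin.val_zero, pow_zero, one_mul,
    add_right_inj] using Finset.sum_congr rfl (fun i _ ↦ by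
    rw [add_comm (Polynomial.C _), natDegree_X_pow_add_C, mul_comm])

lemma degreeOf_t_ne_of_ne (hD : f.totalDegree + 2 ≤ D) (hv : v ∈ f.support) (hw : w ∈ f.support)
    (ne : v ≠ w) :
    (T D <| monomial v <| coeff v f).degreeOf 0 ≠
    (T D <| monomial w <| coeff w f).degreeOf 0 := by
  rw [degreeOf_zero_t _ _ (by omega) <| mem_support_iff.mp hv,
    degreeOf_zero_t _ _ (by omega) <| mem_support_iff.mp hw]
  refine sum_r_mul_ne D v w (by omega) (fun i ↦ ?_) (fun i ↦ ?_) ne <;>
  exact lt_of_le_of_lt ((monomial_le_degreeOf i ‹_›).trans (degreeOf_le_totalDegree f i))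
    (by omega)

lemma leadingCoeff_finSuccEquiv_t (hD0 : 0 < D) :
    (finSuccEquiv k n ((T D) ((monomial v) (coeff v f)))).leadingCoeff =
    algebraMap k _ (coeff v f) := by
  rw [monomial_eq, Finsupp.prod_fintype]
  · simp only [map_mul, map_prod, leadingCoeff_mul, leadingCoeff_prod]
    rw [AlgEquiv.ofAlgHom_apply, algHom_C, algebraMap_eq, finSuccEquiv_apply,
      eval₂Hom_C, coe_comp]
    simp only [AlgEquiv.ofAlgHom_apply, Function.comp_apply, leadingCoeff_C, map_pow,
      leadingCoeff_pow, algebraMap_eq]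
    have : ∀ j, ((finSuccEquiv k n) ((T1 D) 1 (X j))).leadingCoeff = 1 := fun j ↦ by
      by_cases h : j = 0
      · simp [h, finSuccEquiv_apply]
      · simp only [aeval_eq_bind₁, bind₁_X_right, if_neg h, one_smul, map_add, map_pow]
        obtain ⟨i, rfl⟩ := Fin.exists_succ_eq.mpr h
        simp [finSuccEquiv_X_succ, finSuccEquiv_X_zero, add_comm,
          leadingCoeff_X_pow_add_C (pow_pos hD0 _)]
    simp only [this, one_pow, Finset.prod_const_one, mul_one]
  exact fun i ↦ pow_zero _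

lemma T_leadingCoeff (hD : f.totalDegree + 2 ≤ D) (fne : f ≠ 0) :
    ∃ v ∈ f.support,
      (finSuccEquiv k n (T D f)).leadingCoeff = algebraMap k _ (coeff v f) := by
  obtain ⟨v, vin, vs⟩ := Finset.exists_max_image f.support
    (fun v ↦ (T D ((monomial v) (coeff v f))).degreeOf 0) (support_nonempty.mpr fne)
  set h := fun w ↦ (MvPolynomial.monomial w) (coeff w f)
  simp only [← natDegree_finSuccEquiv] at vs
  replace vs : ∀ x ∈ f.support \ {v}, (finSuccEquiv k n ((T D) (h x))).degree <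
      (finSuccEquiv k n ((T D) (h v))).degree := by
    intro x hx
    obtain ⟨h1, h2⟩ := Finset.mem_sdiff.mp hx
    apply degree_lt_degree <| lt_of_le_of_ne (vs x h1) ?_
    simpa only [natDegree_finSuccEquiv]
      using degreeOf_t_ne_of_ne D f _ _ hD h1 vin <| ne_of_not_mem_cons h2
  have coeff : (finSuccEquiv k n ((T D) (h v + ∑ x ∈ f.support \ {v}, h x))).leadingCoeff =
      (finSuccEquiv k n ((T D) (h v))).leadingCoeff := by
    simp only [map_add, map_sum]
    rw [add_comm]
    apply leadingCoeff_add_of_degree_lt <| (lt_of_le_of_lt <| degree_sum_le _ _) ?_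
    have h2 : h v ≠ 0 := by simpa [h] using mem_support_iff.mp vin
    replace h2 : (finSuccEquiv k n ((T D) (h v))) ≠ 0 := fun eq ↦ h2 <|
      by simpa only [map_eq_zero_iff _ (AlgEquiv.injective _)] using eq
    exact (Finset.sup_lt_iff <| Ne.bot_lt (fun x ↦ h2 <| degree_eq_bot.mp x)).mpr vs
  refine ⟨v, vin, ?_⟩
  rw [leadingCoeff_finSuccEquiv_t D f v (by omega)] at coeff
  rw [← coeff]
  conv_lhs => rw [← f.support_sum_monomial_coeff]
  rw [Finset.sum_eq_add_sum_sdiff_singleton_of_mem vin h]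

end equivT

section naturality
open MvPolynomial
variable {R R' : Type*} [CommRing R] [CommRing R'] (φ : R →+* R') {n : ℕ} (D : ℕ)

lemma map_T1 (c : R) (f : MvPolynomial (Fin (n+1)) R) :
    map φ (T1 D c f) = T1 D (φ c) (map φ f) := by
  have : (map φ).comp ((T1 (n := n) D c : _ →ₐ[R] _) :
        MvPolynomial (Fin (n+1)) R →+* MvPolynomial (Fin (n+1)) R) =
      RingHom.comp ((T1 (n := n) D (φ c) : _ →ₐ[R'] _) :
        MvPolynomial (Fin (n+1)) R' →+* MvPolynomial (Fin (n+1)) R') (map φ) := by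
    apply MvPolynomial.ringHom_ext
    · intro r; simp
    · intro i
      simp only [RingHom.coe_comp, RingHom.coe_coe, Function.comp_apply, aeval_X, map_X]
      split_ifs <;> simp [MvPolynomial.smul_eq_C_mul]
  exact RingHom.congr_fun this f

lemma map_T (f : MvPolynomial (Fin (n+1)) R) : map φ (T D f) = T D (map φ f) := by
  show map φ (T1 D 1 f) = T1 D 1 (map φ f)
  rw [map_T1, map_one]

lemma finSuccEquiv_map (h : MvPolynomial (Fin (n+1)) R) :
    (finSuccEquiv R n h).map (map φ) = finSuccEquiv R' n (map φ h) := by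
  ext i m
  rw [Polynomial.coeff_map, coeff_map, finSuccEquiv_coeff_coeff, finSuccEquiv_coeff_coeff,
    coeff_map]

theorem exists_coeff_sub_C_mem (p : Ideal R) [p.IsPrime] (f : MvPolynomial (Fin (n+1)) R)
    (hD : f.totalDegree + 2 ≤ D) (hf : ∃ m, coeff m f ∉ p) :
    ∃ (N : ℕ) (c : R), c ∉ p ∧
      (finSuccEquiv R n (T D f)).coeff N - MvPolynomial.C c ∈
        Ideal.map (MvPolynomial.C : R →+* MvPolynomial (Fin n) R) p := by
  obtain ⟨m, hm⟩ := hf
  set π := Ideal.Quotient.mk p with hπ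
  set g := map π f with hg
  have hgne : g ≠ 0 := by
    intro h0
    apply hm
    have : coeff m g = 0 := by rw [h0, coeff_zero]
    rw [hg, coeff_map] at this
    exact Ideal.Quotient.eq_zero_iff_mem.1 this
  have hdeg : g.totalDegree + 2 ≤ D :=
    le_trans (by
      have : g.totalDegree ≤ f.totalDegree :=
        Finset.sup_mono (MvPolynomial.support_map_subset π f)
      omega) hD
  obtain ⟨v, hv, hlc⟩ := T_leadingCoeff D g hdeg hgne
  refine ⟨(finSuccEquiv (R ⧸ p) n (T D g)).natDegree, coeff v f, ?_, ?_⟩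
  · intro hc
    have : coeff v g = 0 := by rw [hg, coeff_map]; exact Ideal.Quotient.eq_zero_iff_mem.2 hc
    exact (mem_support_iff.1 hv) this
  · have hker : Ideal.map (MvPolynomial.C : R →+* MvPolynomial (Fin n) R) p =
        RingHom.ker (map π : MvPolynomial (Fin n) R →+* MvPolynomial (Fin n) (R ⧸ p)) := by
      rw [MvPolynomial.ker_map, Ideal.mk_ker]
    rw [hker, RingHom.mem_ker, map_sub, map_C, ← Polynomial.coeff_map, finSuccEquiv_map, map_T,
      ← hg, sub_eq_zero, Polynomial.coeff_natDegree, hlc, MvPolynomial.algebraMap_eq, hg, coeff_map]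

end naturality

section fibre
open TensorProduct MvPolynomial
variable {R S : Type u} [CommRing R] [CommRing S] [Algebra R S]

theorem exists_mul_mem_of_tmul_eq_zero (p : Ideal R) [p.IsPrime] (x : S)
    (h : (1 : p.ResidueField) ⊗ₜ[R] x = 0) :
    ∃ s ∉ p, algebraMap R S s * x ∈ p.map (algebraMap R S) := by
  letI : Algebra S (p.Fiber S) := Algebra.TensorProduct.rightAlgebra
  let e := Ideal.Fiber.algEquivAux₁ (R := R) (S := S) p
  have h1 := e.commutes x
  have h2 : algebraMap S (p.Fiber S) x = (1 : p.ResidueField) ⊗ₜ[R] x := rfl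
  rw [h2, h, map_zero] at h1
  rw [eq_comm, IsScalarTower.algebraMap_apply S
    (Localization (Algebra.algebraMapSubmonoid S p.primeCompl)), Ideal.Quotient.algebraMap_eq,
    Ideal.Quotient.eq_zero_iff_mem] at h1
  rw [IsLocalization.algebraMap_mem_map_algebraMap_iff
    (Algebra.algebraMapSubmonoid S p.primeCompl)] at h1
  obtain ⟨m, ⟨s, hs, rfl⟩, hm⟩ := h1
  exact ⟨s, hs, hm⟩

theorem natCast_le_ringKrullDim {K T : Type u} [Field K] [CommRing T] [Algebra K T]
    [Algebra.FiniteType K T] {m : ℕ} (φ : MvPolynomial (Fin m) K →ₐ[K] T)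
    (hφ : Function.Injective φ) : (m : WithBot ℕ∞) ≤ ringKrullDim T := by
  have hbot : (⊥ : Ideal (MvPolynomial (Fin m) K)) ∈ minimalPrimes (MvPolynomial (Fin m) K) := by
    rw [IsDomain.minimalPrimes_eq_singleton_bot]; exact Set.mem_singleton _
  obtain ⟨Q, hQ, hQc⟩ := Ideal.exists_comap_eq_of_mem_minimalPrimes_of_injective
    (f := (φ : MvPolynomial (Fin m) K →+* T)) hφ ⊥ hbot
  haveI := hQ
  obtain ⟨r, hr1, hr2, -⟩ := Groth.Agent.H1.DimFormula.localDim_primeSpectrum (k := K) (S := T) Q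
  have hai : AlgebraicIndependent K (fun i : Fin m => algebraMap T Q.ResidueField (φ (X i))) := by
    have hcomp : (aeval (fun i : Fin m => algebraMap T Q.ResidueField (φ (X i))) :
        MvPolynomial (Fin m) K →ₐ[K] Q.ResidueField) =
        (IsScalarTower.toAlgHom K T Q.ResidueField).comp φ := by
      apply MvPolynomial.algHom_ext; intro i; simp
    show Function.Injective (aeval (fun i : Fin m => algebraMap T Q.ResidueField (φ (X i))))
    rw [hcomp, injective_iff_map_eq_zero]
    intro a ha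
    have h1 : algebraMap T Q.ResidueField (φ a) = 0 := ha
    rw [Ideal.algebraMap_residueField_eq_zero] at h1
    have h2 : a ∈ Q.comap (φ : MvPolynomial (Fin m) K →+* T) := h1
    rw [hQc] at h2
    exact h2
  have h1 := hai.lift_cardinalMk_le_trdeg
  rw [hr1] at h1
  have h2 : m ≤ r := by simpa using h1
  calc (m : WithBot ℕ∞) ≤ (r : WithBot ℕ∞) := by exact_mod_cast h2
    _ = ringKrullDim (T ⧸ Q) := hr2.symm
    _ ≤ ringKrullDim T := ringKrullDim_quotient_le Q

theorem exists_good [Algebra.FiniteType R S] (d n : ℕ) (hdn : d < n + 1) (p : Ideal R) [p.IsPrime]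
    (hdim : ringKrullDim (p.Fiber S) ≤ d) (ψ : MvPolynomial (Fin (n+1)) R →ₐ[R] S) :
    ∃ f : MvPolynomial (Fin (n+1)) R, (∃ m, coeff m f ∉ p) ∧
      ∃ s ∉ p, algebraMap R S s * ψ f ∈ p.map (algebraMap R S) := by
  let Θ : p.ResidueField ⊗[R] MvPolynomial (Fin (n+1)) R →ₐ[p.ResidueField] p.ResidueField ⊗[R] S :=
    Algebra.TensorProduct.map (AlgHom.id p.ResidueField p.ResidueField) ψ
  let e := MvPolynomial.algebraTensorAlgEquiv (σ := Fin (n+1)) R p.ResidueField
  let φ : MvPolynomial (Fin (n+1)) p.ResidueField →ₐ[p.ResidueField] p.ResidueField ⊗[R] S :=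
    Θ.comp e.symm.toAlgHom
  have hninj : ¬ Function.Injective φ := by
    intro hinj
    have h1 := natCast_le_ringKrullDim φ hinj
    have h2 : ((n+1 : ℕ) : WithBot ℕ∞) ≤ (d : WithBot ℕ∞) := h1.trans hdim
    have : n + 1 ≤ d := by exact_mod_cast h2
    omega
  rw [injective_iff_map_eq_zero] at hninj
  push Not at hninj
  obtain ⟨g, hg0, hgne⟩ := hninj
  obtain ⟨r, hr, f, hrf⟩ := Ideal.Fiber.exists_smul_eq_one_tmul p (e.symm g)
  have hrK : algebraMap R p.ResidueField r ≠ 0 := by
    rwa [Ne, Ideal.algebraMap_residueField_eq_zero]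
  have hf1 : (1 : p.ResidueField) ⊗ₜ[R] f = (algebraMap R p.ResidueField r) • e.symm g := by
    rw [← hrf, algebraMap_smul]
  refine ⟨f, ?_, ?_⟩
  · have h2 : e ((1 : p.ResidueField) ⊗ₜ[R] f) ≠ 0 := by
      rw [hf1, map_smul, e.apply_symm_apply]
      exact smul_ne_zero hrK hgne
    rw [MvPolynomial.algebraTensorAlgEquiv_tmul, one_smul] at h2
    obtain ⟨m, hm⟩ := MvPolynomial.ne_zero_iff.1 h2
    refine ⟨m, fun hmem => hm ?_⟩
    rw [coeff_map, Ideal.algebraMap_residueField_eq_zero]; exact hmem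
  · apply exists_mul_mem_of_tmul_eq_zero
    have h3 : Θ ((1 : p.ResidueField) ⊗ₜ[R] f) = (1 : p.ResidueField) ⊗ₜ[R] ψ f := by simp [Θ]
    rw [← h3, hf1, map_smul]
    have h4 : Θ (e.symm g) = φ g := rfl
    rw [h4, hg0, smul_zero]

end fibre

section compact
open PrimeSpectrum Topology

theorem exists_finset_cover {R : Type*} [CommRing R] (W : PrimeSpectrum R → Set (PrimeSpectrum R))
    (hW : ∀ p, IsOpen[constructibleTopology (PrimeSpectrum R)] (W p)) (hmem : ∀ p, p ∈ W p) :
    ∃ t : Finset (PrimeSpectrum R), ∀ p', ∃ p ∈ t, p' ∈ W p := by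
  have hc := isCompact_univ (X := WithConstructibleTopology (PrimeSpectrum R))
  obtain ⟨t, ht⟩ := hc.elim_finite_subcover
    (fun p : PrimeSpectrum R => (WithTopology.ofTopology ⁻¹' W p :
      Set (WithConstructibleTopology (PrimeSpectrum R))))
    (fun p => (WithTopology.isOpen_iff _).2 (hW p))
    (fun x _ => Set.mem_iUnion.2 ⟨WithTopology.ofTopology x, hmem _⟩)
  refine ⟨t, fun p' => ?_⟩
  have := ht (Set.mem_univ (WithTopology.toTopology _ p'))
  simp only [Set.mem_iUnion, Set.mem_preimage, exists_prop] at this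
  exact this

end compact

section nhd
open PrimeSpectrum MvPolynomial Topology
variable {R S : Type u} [CommRing R] [CommRing S] [Algebra R S]

/-- the "good" predicate. -/
def Good {n : ℕ} (ψ : MvPolynomial (Fin (n+1)) R →ₐ[R] S) (p : Ideal R)
    (f : MvPolynomial (Fin (n+1)) R) : Prop :=
  (∃ m, coeff m f ∉ p) ∧ ∃ s ∉ p, algebraMap R S s * ψ f ∈ p.map (algebraMap R S)

theorem exists_nhd {n : ℕ} (ψ : MvPolynomial (Fin (n+1)) R →ₐ[R] S) (p : PrimeSpectrum R)
    (f : MvPolynomial (Fin (n+1)) R) (hf : Good ψ p.asIdeal f) :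
    ∃ W : Set (PrimeSpectrum R), IsOpen[constructibleTopology (PrimeSpectrum R)] W ∧ p ∈ W ∧
      ∀ p' ∈ W, Good ψ p'.asIdeal f := by
  classical
  obtain ⟨⟨m, hm⟩, s, hs, hmem⟩ := hf
  have hmem' : algebraMap R S s * ψ f ∈
      Submodule.span S (algebraMap R S '' (p.asIdeal : Set R)) := hmem
  obtain ⟨T', hT', hx⟩ := Submodule.mem_span_finite_of_mem_span hmem'
  obtain ⟨T, hTp, rfl⟩ := Finset.subset_set_image_iff.1 hT'
  have hx' : algebraMap R S s * ψ f ∈ (Ideal.span (T : Set R)).map (algebraMap R S) := by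
    rw [Ideal.map_span]
    simpa using hx
  refine ⟨(basicOpen (s * coeff m f) : Set (PrimeSpectrum R)) ∩ zeroLocus (T : Set R), ?_, ?_, ?_⟩
  · refine @IsOpen.inter _ (constructibleTopology (PrimeSpectrum R)) _ _ ?_ ?_
    · exact (isCompact_basicOpen _).isOpen_constructibleTopology_of_isOpen (basicOpen _).isOpen
    · exact IsCompact.isOpen_constructibleTopology_of_isClosed
        (isCompact_isOpen_iff.2 ⟨T, rfl⟩).1 (isClosed_zeroLocus _)
  · refine ⟨?_, ?_⟩
    · show s * coeff m f ∉ p.asIdeal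
      exact fun h => (p.2.mem_or_mem h).elim hs hm
    · exact hTp
  · rintro p' ⟨h1, h2⟩
    have h1' : s * coeff m f ∉ p'.asIdeal := h1
    refine ⟨⟨m, fun h => h1' (Ideal.mul_mem_left _ _ h)⟩, s,
      fun h => h1' (Ideal.mul_mem_right _ _ h), ?_⟩
    exact Ideal.map_mono (Ideal.span_le.2 h2) hx'

end nhd

section count
open TensorProduct

theorem finite_primes_polynomial (A : Type*) [CommRing A] (P' : Ideal A) [P'.IsPrime]
    (F : Polynomial A) (N : ℕ) (hF : F.coeff N ∉ P') :
    {P : PrimeSpectrum (Polynomial A) |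
      P.asIdeal.comap (Polynomial.C : A →+* Polynomial A) = P' ∧ F ∈ P.asIdeal}.Finite := by
  classical
  have hFb0 : F.map (algebraMap A P'.ResidueField) ≠ 0 := by
    intro h0
    apply hF
    have : (F.map (algebraMap A P'.ResidueField)).coeff N = 0 := by
      rw [h0, Polynomial.coeff_zero]
    rwa [Polynomial.coeff_map, Ideal.algebraMap_residueField_eq_zero] at this
  have hG : {Q : PrimeSpectrum (Polynomial P'.ResidueField) |
      F.map (algebraMap A P'.ResidueField) ∈ Q.asIdeal}.Finite := by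
    have hmin := Ideal.finite_minimalPrimes_of_isNoetherianRing (Polynomial P'.ResidueField)
      (Ideal.span {F.map (algebraMap A P'.ResidueField)})
    refine (hmin.preimage (f := PrimeSpectrum.asIdeal)
      (fun _ _ _ _ h => PrimeSpectrum.ext h)).subset ?_
    intro Q hQ
    refine ⟨⟨Q.2, (Ideal.span_singleton_le_iff_mem _).2 hQ⟩, ?_⟩
    rintro J ⟨hJp, hJle⟩ hJQ
    have hJne : J ≠ ⊥ := by
      intro hbot
      have : F.map (algebraMap A P'.ResidueField) ∈ J := hJle (Ideal.mem_span_singleton_self _)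
      rw [hbot, Ideal.mem_bot] at this
      exact hFb0 this
    have hJmax : J.IsMaximal := hJp.isMaximal hJne
    exact (hJmax.eq_of_le Q.2.ne_top hJQ).ge
  refine (hG.image (PrimeSpectrum.comap
    (Polynomial.mapRingHom (algebraMap A P'.ResidueField)))).subset ?_
  rintro P ⟨hP1, hP2⟩
  let x : PrimeSpectrum.comap (algebraMap A (Polynomial A)) ⁻¹' {⟨P', inferInstance⟩} :=
    ⟨P, PrimeSpectrum.ext hP1⟩
  let Q₀ := PrimeSpectrum.preimageEquivFiber A (Polynomial A) ⟨P', inferInstance⟩ x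
  have hQ₀ : Q₀.asIdeal.comap (Algebra.TensorProduct.includeRight :
      Polynomial A →ₐ[A] P'.ResidueField ⊗[A] Polynomial A).toRingHom = P.asIdeal := by
    have h1 := congrArg Subtype.val
      ((PrimeSpectrum.preimageEquivFiber A (Polynomial A) ⟨P', inferInstance⟩).symm_apply_apply x)
    have h2 := congrArg PrimeSpectrum.asIdeal h1
    exact h2
  let e := polyEquivTensor' A P'.ResidueField
  have he : ∀ g : Polynomial A, e (g.map (algebraMap A P'.ResidueField)) =
      (1 : P'.ResidueField) ⊗ₜ[A] g := by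
    intro g
    have : g.map (algebraMap A P'.ResidueField) = e.symm ((1 : P'.ResidueField) ⊗ₜ[A] g) := by
      simp [e]
    rw [this, e.apply_symm_apply]
  refine ⟨PrimeSpectrum.comap (e : Polynomial P'.ResidueField →+* P'.ResidueField ⊗[A] Polynomial A)
    Q₀, ?_, ?_⟩
  · show e (F.map (algebraMap A P'.ResidueField)) ∈ Q₀.asIdeal
    rw [he]
    have : F ∈ Q₀.asIdeal.comap (Algebra.TensorProduct.includeRight :
      Polynomial A →ₐ[A] P'.ResidueField ⊗[A] Polynomial A).toRingHom := by rw [hQ₀]; exact hP2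
    exact this
  · apply PrimeSpectrum.ext
    show Ideal.comap (Polynomial.mapRingHom (algebraMap A P'.ResidueField))
      (Ideal.comap (e : Polynomial P'.ResidueField →+* P'.ResidueField ⊗[A] Polynomial A)
        Q₀.asIdeal) = P.asIdeal
    rw [← hQ₀]
    ext g
    simp only [Ideal.mem_comap, Polynomial.coe_mapRingHom]
    rw [show (e : Polynomial P'.ResidueField →+* P'.ResidueField ⊗[A] Polynomial A)
      (g.map (algebraMap A P'.ResidueField)) = (1 : P'.ResidueField) ⊗ₜ[A] g from he g]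
    rfl

theorem quasiFinite_comp_C {A S : Type*} [CommRing A] [CommRing S] (Ψ : Polynomial A →+* S)
    (hΨ : Ψ.QuasiFinite) (hft : (Ψ.comp Polynomial.C).FiniteType)
    (H : ∀ P' : PrimeSpectrum A, ∃ F : Polynomial A, (∃ N, F.coeff N ∉ P'.asIdeal) ∧
      ∀ q : PrimeSpectrum S, q.comap (Ψ.comp Polynomial.C) = P' → Ψ F ∈ q.asIdeal) :
    (Ψ.comp Polynomial.C).QuasiFinite := by
  letI algAS : Algebra A S := (Ψ.comp Polynomial.C).toAlgebra
  haveI : Algebra.FiniteType A S := hft
  show Algebra.QuasiFinite A S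
  rw [Algebra.QuasiFinite.iff_finite_comap_preimage_singleton]
  intro P'
  obtain ⟨F, ⟨N, hN⟩, hq⟩ := H P'
  have hfin := finite_primes_polynomial A P'.asIdeal F N hN
  letI algXS : Algebra (Polynomial A) S := Ψ.toAlgebra
  haveI : Algebra.QuasiFinite (Polynomial A) S := hΨ
  have hfin2 := Algebra.QuasiFinite.finite_comap_preimage (R := Polynomial A) (S := S) hfin
  refine hfin2.subset ?_
  intro q hq'
  simp only [Set.mem_preimage, Set.mem_singleton_iff] at hq'
  refine ⟨?_, hq q hq'⟩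
  exact congrArg PrimeSpectrum.asIdeal hq'

end count

section main
open MvPolynomial Topology
variable {R S : Type u} [CommRing R] [CommRing S] [Algebra R S] [Algebra.FiniteType R S]

theorem step (d n : ℕ) (hdn : d < n + 1)
    (hdim : ∀ p : PrimeSpectrum R, ringKrullDim (p.asIdeal.Fiber S) ≤ d)
    (ψ : MvPolynomial (Fin (n+1)) R →ₐ[R] S) (hψ : ψ.toRingHom.QuasiFinite) :
    ∃ ψ' : MvPolynomial (Fin n) R →ₐ[R] S, ψ'.toRingHom.QuasiFinite := by
  classical
  have h1 : ∀ p : PrimeSpectrum R, ∃ f, Good ψ p.asIdeal f :=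
    fun p => exists_good d n hdn p.asIdeal (hdim p) ψ
  choose f hf using h1
  have h2 : ∀ p : PrimeSpectrum R, ∃ W : Set (PrimeSpectrum R),
      IsOpen[constructibleTopology (PrimeSpectrum R)] W ∧ p ∈ W ∧
      ∀ p' ∈ W, Good ψ p'.asIdeal (f p) := fun p => exists_nhd ψ p (f p) (hf p)
  choose W hWo hWp hWg using h2
  obtain ⟨t, ht⟩ := exists_finset_cover W hWo hWp
  obtain ⟨D, hD⟩ : ∃ D : ℕ, ∀ p ∈ t, (f p).totalDegree + 2 ≤ D := by
    refine ⟨(t.sup fun p => (f p).totalDegree) + 2, fun p hp => ?_⟩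
    have : (f p).totalDegree ≤ t.sup fun p => (f p).totalDegree :=
      Finset.le_sup (f := fun p => (f p).totalDegree) hp
    omega
  let e : Polynomial (MvPolynomial (Fin n) R) ≃ₐ[R] MvPolynomial (Fin (n+1)) R :=
    (MvPolynomial.finSuccEquiv R n).symm.trans (T D).symm
  let Ψa : Polynomial (MvPolynomial (Fin n) R) →ₐ[R] S := ψ.comp e.toAlgHom
  let ψ' : MvPolynomial (Fin n) R →ₐ[R] S :=
    Ψa.comp (IsScalarTower.toAlgHom R (MvPolynomial (Fin n) R) (Polynomial (MvPolynomial (Fin n) R)))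
  have heq : ψ'.toRingHom = Ψa.toRingHom.comp Polynomial.C := RingHom.ext fun a => rfl
  have hcomp : (Ψa.toRingHom.comp Polynomial.C).comp (MvPolynomial.C : R →+* MvPolynomial (Fin n) R) =
      algebraMap R S := by
    rw [← heq]
    ext r
    simp
  have hΨq : Ψa.toRingHom.QuasiFinite :=
    RingHom.QuasiFinite.respectsIso.2 ψ.toRingHom e.toRingEquiv hψ
  refine ⟨ψ', ?_⟩
  rw [heq]
  refine quasiFinite_comp_C Ψa.toRingHom hΨq ?_ ?_
  · apply RingHom.FiniteType.of_comp_finiteType (f := (MvPolynomial.C : R →+* MvPolynomial (Fin n) R))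
    rw [hcomp]
    exact RingHom.finiteType_algebraMap.2 inferInstance
  · intro P'
    obtain ⟨p, hpt, hp'W⟩ := ht (PrimeSpectrum.comap (MvPolynomial.C : R →+* MvPolynomial (Fin n) R) P')
    obtain ⟨hg1, s, hs, hmem⟩ := hWg p _ hp'W
    obtain ⟨N, c, hc, hcmem⟩ := exists_coeff_sub_C_mem D
      (PrimeSpectrum.comap (MvPolynomial.C : R →+* MvPolynomial (Fin n) R) P').asIdeal (f p)
      (hD p hpt) hg1
    refine ⟨MvPolynomial.finSuccEquiv R n (T D (f p)), ⟨N, ?_⟩, ?_⟩
    · intro hN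
      apply hc
      have h3 : (MvPolynomial.finSuccEquiv R n (T D (f p))).coeff N - MvPolynomial.C c ∈ P'.asIdeal :=
        Ideal.map_comap_le hcmem
      have h4 : MvPolynomial.C c ∈ P'.asIdeal := by
        have := P'.asIdeal.sub_mem hN h3
        simpa using this
      exact h4
    · intro q hq
      have hΨF : Ψa.toRingHom (MvPolynomial.finSuccEquiv R n (T D (f p))) = ψ (f p) := by
        show ψ ((T D).symm ((MvPolynomial.finSuccEquiv R n).symm
          (MvPolynomial.finSuccEquiv R n (T D (f p))))) = ψ (f p)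
        rw [AlgEquiv.symm_apply_apply, AlgEquiv.symm_apply_apply]
      rw [hΨF]
      have hqR : (PrimeSpectrum.comap (MvPolynomial.C : R →+* MvPolynomial (Fin n) R) P').asIdeal =
          q.asIdeal.comap (algebraMap R S) := by
        rw [← hq, ← hcomp]
        rfl
      rw [hqR] at hs hmem
      have h5 : algebraMap R S s * ψ (f p) ∈ q.asIdeal := Ideal.map_comap_le hmem
      exact (q.2.mem_or_mem h5).resolve_left hs

theorem main (d : ℕ)
    (hd : ⨆ p : PrimeSpectrum R, ringKrullDim (p.asIdeal.Fiber S) = (d : WithBot ℕ∞)) :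
    ∃ φ : MvPolynomial (Fin d) R →ₐ[R] S, φ.toRingHom.QuasiFinite := by
  have hdim : ∀ p : PrimeSpectrum R, ringKrullDim (p.asIdeal.Fiber S) ≤ d := fun p =>
    hd ▸ le_iSup (fun p : PrimeSpectrum R => ringKrullDim (p.asIdeal.Fiber S)) p
  obtain ⟨N, ψ₀, hψ₀⟩ := Algebra.FiniteType.iff_quotient_mvPolynomial''.1
    (inferInstance : Algebra.FiniteType R S)
  have key : ∀ k : ℕ, ∀ ψ : MvPolynomial (Fin (d + k)) R →ₐ[R] S, ψ.toRingHom.QuasiFinite →
      ∃ φ : MvPolynomial (Fin d) R →ₐ[R] S, φ.toRingHom.QuasiFinite := by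
    intro k
    induction k with
    | zero => intro ψ hψ; exact ⟨ψ, hψ⟩
    | succ k ih =>
      intro ψ hψ
      obtain ⟨ψ', hψ'⟩ := step d (d + k) (by omega) hdim ψ hψ
      exact ih ψ' hψ'
  let g : MvPolynomial (Fin (d + N)) R →ₐ[R] MvPolynomial (Fin N) R :=
    MvPolynomial.aeval (Fin.addCases (fun _ => 0) MvPolynomial.X)
  have hg : Function.Surjective g := by
    intro q
    refine ⟨MvPolynomial.rename (Fin.natAdd d) q, ?_⟩
    simp only [g, MvPolynomial.aeval_rename]
    have : (Fin.addCases (fun _ => 0) MvPolynomial.X : Fin (d + N) → MvPolynomial (Fin N) R) ∘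
        Fin.natAdd d = MvPolynomial.X := by
      funext j; simp
    rw [this, MvPolynomial.aeval_X_left, AlgHom.id_apply]
  apply key N (ψ₀.comp g)
  apply RingHom.QuasiFinite.of_finite
  apply RingHom.Finite.of_surjective
  exact hψ₀.comp hg

end main

end Groth.Agent.H1.WRNN
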