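import Mathlib
import Groth.Agent.Lib.Helper1.WRNN

set_option autoImplicit false
universe u

namespace Groth.Agent.H1.WRNN

section explicit
open MvPolynomial Topology
variable {R S : Type u} [CommRing R] [CommRing S] [Algebra R S] [Algebra.FiniteType R S]

theorem step_explicit (d n : ℕ) (hdn : d < n + 1)
    (hdim : ∀ p : PrimeSpectrum R, ringKrullDim (p.asIdeal.Fiber S) ≤ d)
    (ψ : MvPolynomial (Fin (n+1)) R →ₐ[R] S) (hψ : ψ.toRingHom.QuasiFinite) :
    ∃ D₀ : ℕ, ∀ D ≥ D₀,
      (MvPolynomial.aeval (fun i : Fin n => ψ (X i.succ) - ψ (X 0) ^ (D ^ (i.1 + 1))) :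
        MvPolynomial (Fin n) R →ₐ[R] S).toRingHom.QuasiFinite := by
  classical
  have h1 : ∀ p : PrimeSpectrum R, ∃ f, Good ψ p.asIdeal f :=
    fun p => exists_good d n hdn p.asIdeal (hdim p) ψ
  choose f hf using h1
  have h2 : ∀ p : PrimeSpectrum R, ∃ W : Set (PrimeSpectrum R),
      IsOpen[constructibleTopology (PrimeSpectrum R)] W ∧ p ∈ W ∧
      ∀ p' ∈ W, Good ψ p'.asIdeal (f p) := fun p => exists_nhd ψ p (f p) (hf p)
  choose W hWo hWp hWg using h2
  obtain ⟨t, ht⟩ := exists_finset_cover W hWo hWp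
  refine ⟨(t.sup fun p => (f p).totalDegree) + 2, fun D hD0 => ?_⟩
  have hD : ∀ p ∈ t, (f p).totalDegree + 2 ≤ D := fun p hp => by
    have : (f p).totalDegree ≤ t.sup fun p => (f p).totalDegree :=
      Finset.le_sup (f := fun p => (f p).totalDegree) hp
    omega
  let e : Polynomial (MvPolynomial (Fin n) R) ≃ₐ[R] MvPolynomial (Fin (n+1)) R :=
    (MvPolynomial.finSuccEquiv R n).symm.trans (T D).symm
  let Ψa : Polynomial (MvPolynomial (Fin n) R) →ₐ[R] S := ψ.comp e.toAlgHom
  let ψ' : MvPolynomial (Fin n) R →ₐ[R] S :=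
    Ψa.comp (IsScalarTower.toAlgHom R (MvPolynomial (Fin n) R) (Polynomial (MvPolynomial (Fin n) R)))
  have hψ' : ψ' = aeval (fun i : Fin n => ψ (X i.succ) - ψ (X 0) ^ (D ^ (i.1 + 1))) := by
    apply MvPolynomial.algHom_ext
    intro i
    rw [aeval_X]
    show ψ ((T D).symm ((MvPolynomial.finSuccEquiv R n).symm (Polynomial.C (X i)))) = _
    have h1 : (MvPolynomial.finSuccEquiv R n).symm (Polynomial.C (X i)) = X i.succ := by
      rw [AlgEquiv.symm_apply_eq, MvPolynomial.finSuccEquiv_X_succ]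
    rw [h1]
    show ψ (T1 D (-1) (X i.succ)) = _
    simp [T1, Fin.succ_ne_zero, sub_eq_add_neg]
  rw [← hψ']
  have heq : ψ'.toRingHom = Ψa.toRingHom.comp Polynomial.C := RingHom.ext fun a => rfl
  have hcomp : (Ψa.toRingHom.comp Polynomial.C).comp (MvPolynomial.C : R →+* MvPolynomial (Fin n) R) =
      algebraMap R S := by
    rw [← heq]
    ext r
    simp
  have hΨq : Ψa.toRingHom.QuasiFinite :=
    RingHom.QuasiFinite.respectsIso.2 ψ.toRingHom e.toRingEquiv hψ
  rw [heq]
  refine quasiFinite_comp_C Ψa.toRingHom hΨq ?_ ?_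
  · apply RingHom.FiniteType.of_comp_finiteType (f := (MvPolynomial.C : R →+* MvPolynomial (Fin n) R))
    rw [hcomp]
    exact RingHom.finiteType_algebraMap.2 inferInstance
  · intro P'
    obtain ⟨p, hpt, hp'W⟩ := ht (PrimeSpectrum.comap (MvPolynomial.C : R →+* MvPolynomial (Fin n) R) P')
    obtain ⟨hg1, s, hs, hmem⟩ := hWg p _ hp'W
    obtain ⟨N, c, hc, hcmem⟩ := exists_coeff_sub_C_mem D
      (PrimeSpectrum.comap (MvPolynomial.C : R →+* MvPolynomial (Fin n) R) P').asIdeal (f p)
      (hD p hpt) hg1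
    refine ⟨MvPolynomial.finSuccEquiv R n (T D (f p)), ⟨N, ?_⟩, ?_⟩
    · intro hN
      apply hc
      have h3 : (MvPolynomial.finSuccEquiv R n (T D (f p))).coeff N - MvPolynomial.C c ∈ P'.asIdeal :=
        Ideal.map_comap_le hcmem
      have h4 : MvPolynomial.C c ∈ P'.asIdeal := by
        have := P'.asIdeal.sub_mem hN h3
        simpa using this
      exact h4
    · intro q hq
      have hΨF : Ψa.toRingHom (MvPolynomial.finSuccEquiv R n (T D (f p))) = ψ (f p) := by
        show ψ ((T D).symm ((MvPolynomial.finSuccEquiv R n).symm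
          (MvPolynomial.finSuccEquiv R n (T D (f p))))) = ψ (f p)
        rw [AlgEquiv.symm_apply_apply, AlgEquiv.symm_apply_apply]
      rw [hΨF]
      have hqR : (PrimeSpectrum.comap (MvPolynomial.C : R →+* MvPolynomial (Fin n) R) P').asIdeal =
          q.asIdeal.comap (algebraMap R S) := by
        rw [← hq, ← hcomp]
        rfl
      rw [hqR] at hs hmem
      have h5 : algebraMap R S s * ψ (f p) ∈ q.asIdeal := Ideal.map_comap_le hmem
      exact (q.2.mem_or_mem h5).resolve_left hs

theorem main_le (d : ℕ)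
    (hdim : ∀ p : PrimeSpectrum R, ringKrullDim (p.asIdeal.Fiber S) ≤ d) :
    ∃ φ : MvPolynomial (Fin d) R →ₐ[R] S, φ.toRingHom.QuasiFinite := by
  obtain ⟨N, ψ₀, hψ₀⟩ := Algebra.FiniteType.iff_quotient_mvPolynomial''.1
    (inferInstance : Algebra.FiniteType R S)
  have key : ∀ k : ℕ, ∀ ψ : MvPolynomial (Fin (d + k)) R →ₐ[R] S, ψ.toRingHom.QuasiFinite →
      ∃ φ : MvPolynomial (Fin d) R →ₐ[R] S, φ.toRingHom.QuasiFinite := by
    intro k
    induction k with
    | zero => intro ψ hψ; exact ⟨ψ, hψ⟩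
    | succ k ih =>
      intro ψ hψ
      obtain ⟨ψ', hψ'⟩ := step d (d + k) (by omega) hdim ψ hψ
      exact ih ψ' hψ'
  let g : MvPolynomial (Fin (d + N)) R →ₐ[R] MvPolynomial (Fin N) R :=
    MvPolynomial.aeval (Fin.addCases (fun _ => 0) MvPolynomial.X)
  have hg : Function.Surjective g := by
    intro q
    refine ⟨MvPolynomial.rename (Fin.natAdd d) q, ?_⟩
    simp only [g, MvPolynomial.aeval_rename]
    have : (Fin.addCases (fun _ => 0) MvPolynomial.X : Fin (d + N) → MvPolynomial (Fin N) R) ∘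
        Fin.natAdd d = MvPolynomial.X := by
      funext j; simp
    rw [this, MvPolynomial.aeval_X_left, AlgHom.id_apply]
  apply key N (ψ₀.comp g)
  apply RingHom.QuasiFinite.of_finite
  apply RingHom.Finite.of_surjective
  exact hψ₀.comp hg

end explicit

section dims
open MvPolynomial

theorem fiber_dim_le_of_quasiFinite {R₁ S : Type u} [CommRing R₁] [CommRing S] [Algebra R₁ S] {d : ℕ}
    (χ : MvPolynomial (Fin d) R₁ →ₐ[R₁] S) (hχ : χ.toRingHom.QuasiFinite) (P : Ideal R₁)
    [P.IsPrime] : ringKrullDim (P.Fiber S) ≤ d := by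
  letI algBS : Algebra (MvPolynomial (Fin d) R₁) S := χ.toRingHom.toAlgebra
  haveI : IsScalarTower R₁ (MvPolynomial (Fin d) R₁) S :=
    IsScalarTower.of_algebraMap_eq' χ.comp_algebraMap.symm
  haveI : Algebra.QuasiFinite (MvPolynomial (Fin d) R₁) S := hχ
  have h1 : ringKrullDim (P.Fiber S) = Order.krullDim (P.primesOver S) :=
    (Order.krullDim_eq_of_orderIso (PrimeSpectrum.primesOverOrderIsoFiber R₁ S P)).symm
  have h2 : Order.krullDim (P.primesOver (MvPolynomial (Fin d) R₁)) =
      ringKrullDim (P.Fiber (MvPolynomial (Fin d) R₁)) :=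
    Order.krullDim_eq_of_orderIso (PrimeSpectrum.primesOverOrderIsoFiber R₁ _ P)
  have h3 : ringKrullDim (P.Fiber (MvPolynomial (Fin d) R₁)) = d := by
    rw [ringKrullDim_eq_of_ringEquiv
      (MvPolynomial.algebraTensorAlgEquiv (σ := Fin d) R₁ P.ResidueField).toRingEquiv,
      MvPolynomial.ringKrullDim_of_isNoetherianRing, ringKrullDim_eq_zero_of_field, zero_add]
    simp
  let f : P.primesOver S → P.primesOver (MvPolynomial (Fin d) R₁) := fun 𝔮 =>
    ⟨𝔮.1.under (MvPolynomial (Fin d) R₁),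
      ⟨haveI := 𝔮.2.1; inferInstance, ⟨by
        haveI := 𝔮.2.2
        rw [Ideal.under_under]; exact 𝔮.2.2.over⟩⟩⟩
  have hf : StrictMono f := by
    intro 𝔮 𝔮' h
    refine lt_of_le_of_ne (Ideal.comap_mono h.le) (fun heq => h.ne ?_)
    haveI := 𝔮.2.1
    haveI := 𝔮'.2.1
    exact Subtype.ext (Algebra.QuasiFinite.eq_of_le_of_under_eq (R := MvPolynomial (Fin d) R₁)
      𝔮.1 𝔮'.1 h.le (congrArg Subtype.val heq))
  rw [h1]
  calc Order.krullDim (P.primesOver S)
      ≤ Order.krullDim (P.primesOver (MvPolynomial (Fin d) R₁)) :=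
        Order.krullDim_le_of_strictMono f hf
    _ = d := h2.trans h3

end dims

section vars
open MvPolynomial
variable {R S : Type u} [CommRing R] [CommRing S] [Algebra R S]

theorem quasiFinite_cons [Algebra (Polynomial R) S] [IsScalarTower R (Polynomial R) S] {d : ℕ}
    (ψ₁ : MvPolynomial (Fin d) (Polynomial R) →ₐ[Polynomial R] S)
    (hψ₁ : ψ₁.toRingHom.QuasiFinite) :
    (aeval (Fin.cons (algebraMap (Polynomial R) S Polynomial.X) (fun i => ψ₁ (X i)) :
      Fin (d+1) → S) : MvPolynomial (Fin (d+1)) R →ₐ[R] S).toRingHom.QuasiFinite := by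
  let θ₀ : MvPolynomial (Fin d) (Polynomial R) →+* MvPolynomial (Fin (d+1)) R :=
    eval₂Hom (Polynomial.eval₂RingHom C (X 0)) (fun i => X i.succ)
  have hcomp : ((aeval (Fin.cons (algebraMap (Polynomial R) S Polynomial.X) (fun i => ψ₁ (X i)) :
      Fin (d+1) → S) : MvPolynomial (Fin (d+1)) R →ₐ[R] S).toRingHom).comp θ₀ = ψ₁.toRingHom := by
    have key : ∀ r₁ : Polynomial R,
        (aeval (Fin.cons (algebraMap (Polynomial R) S Polynomial.X) (fun i => ψ₁ (X i)) :
          Fin (d+1) → S) : MvPolynomial (Fin (d+1)) R →ₐ[R] S) (θ₀ (C r₁)) =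
        algebraMap (Polynomial R) S r₁ := by
      intro r₁
      induction r₁ using Polynomial.induction_on' with
      | add p q hp hq => simp only [map_add, hp, hq]
      | monomial k r =>
        simp [θ₀, ← Polynomial.C_mul_X_pow_eq_monomial,
          IsScalarTower.algebraMap_apply R (Polynomial R) S]
    apply MvPolynomial.ringHom_ext
    · intro r₁
      have h1 : ψ₁.toRingHom (C r₁) = algebraMap (Polynomial R) S r₁ := by
        have := ψ₁.commutes r₁
        rwa [MvPolynomial.algebraMap_eq] at this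
      rw [h1]
      exact key r₁
    · intro i
      simp [θ₀]
  exact RingHom.QuasiFinite.of_comp (hcomp ▸ hψ₁)

theorem quasiFinite_tail [Algebra (Polynomial R) S] [IsScalarTower R (Polynomial R) S] {d : ℕ}
    (χ : MvPolynomial (Fin (d+1)) R →ₐ[R] S) (hχ : χ.toRingHom.QuasiFinite)
    (h0 : χ (X 0) = - algebraMap (Polynomial R) S Polynomial.X) :
    (aeval (fun i : Fin d => χ (X i.succ)) :
      MvPolynomial (Fin d) (Polynomial R) →ₐ[Polynomial R] S).toRingHom.QuasiFinite := by
  let θ' : MvPolynomial (Fin (d+1)) R →+* MvPolynomial (Fin d) (Polynomial R) :=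
    eval₂Hom ((C : Polynomial R →+* MvPolynomial (Fin d) (Polynomial R)).comp Polynomial.C)
      (Fin.cons (- C Polynomial.X) X)
  have hcomp : ((aeval (fun i : Fin d => χ (X i.succ)) :
      MvPolynomial (Fin d) (Polynomial R) →ₐ[Polynomial R] S).toRingHom).comp θ' = χ.toRingHom := by
    apply MvPolynomial.ringHom_ext
    · intro r
      simp only [θ', RingHom.coe_comp, Function.comp_apply, eval₂Hom_C, AlgHom.toRingHom_eq_coe,
        RingHom.coe_coe, aeval_C]
      have h2 : χ (C r) = algebraMap R S r := by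
        have := χ.commutes r
        rwa [MvPolynomial.algebraMap_eq] at this
      rw [h2]
      exact (IsScalarTower.algebraMap_apply R (Polynomial R) S r).symm
    · intro j
      cases j using Fin.cases with
      | zero => simp [θ', h0]
      | succ i => simp [θ']
  exact RingHom.QuasiFinite.of_comp (hcomp ▸ hχ)

theorem quasiFinite_insert {m : ℕ} (v : Fin (m+1) → S) (c : S)
    (h : (aeval v : MvPolynomial (Fin (m+1)) R →ₐ[R] S).toRingHom.QuasiFinite) :
    (aeval (Fin.cons (v 0) (Fin.cons c (fun i => v i.succ)) : Fin (m+2) → S) :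
      MvPolynomial (Fin (m+2)) R →ₐ[R] S).toRingHom.QuasiFinite := by
  let g : Fin (m+1) → Fin (m+2) := Fin.cases 0 (fun i => i.succ.succ)
  have hcomp : ((aeval (Fin.cons (v 0) (Fin.cons c (fun i => v i.succ)) : Fin (m+2) → S) :
      MvPolynomial (Fin (m+2)) R →ₐ[R] S).toRingHom).comp
      (rename g : MvPolynomial (Fin (m+1)) R →ₐ[R] MvPolynomial (Fin (m+2)) R).toRingHom =
      (aeval v : MvPolynomial (Fin (m+1)) R →ₐ[R] S).toRingHom := by
    apply MvPolynomial.ringHom_ext
    · intro r; simp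
    · intro j
      cases j using Fin.cases with
      | zero => simp [g]
      | succ i => simp [g]
  exact RingHom.QuasiFinite.of_comp (hcomp ▸ h)

end vars

section S1430
open MvPolynomial
variable {R S : Type u} [CommRing R] [CommRing S] [Algebra R S] [Algebra.FiniteType R S]

theorem main_S1430 (d : ℕ) (a b : S)
    (ha : ∀ P : PrimeSpectrum (Polynomial R),
      letI := (Polynomial.aeval (R := R) a).toRingHom.toAlgebra
      ringKrullDim (P.asIdeal.Fiber S) ≤ d) :
    ∃ n₀ : ℕ, ∀ n ≥ n₀, ∀ P : PrimeSpectrum (Polynomial R),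
      letI := (Polynomial.aeval (R := R) (a ^ n + b)).toRingHom.toAlgebra
      ringKrullDim (P.asIdeal.Fiber S) ≤ d := by
  obtain ⟨τ, hτ⟩ : ∃ τ : Fin d → S, (aeval (Fin.cons a τ : Fin (d+1) → S) :
      MvPolynomial (Fin (d+1)) R →ₐ[R] S).toRingHom.QuasiFinite := by
    letI alg1 : Algebra (Polynomial R) S := (Polynomial.aeval (R := R) a).toRingHom.toAlgebra
    haveI : IsScalarTower R (Polynomial R) S :=
      IsScalarTower.of_algebraMap_eq (fun r => (Polynomial.aeval_C a r).symm)
    haveI : Algebra.FiniteType (Polynomial R) S :=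
      Algebra.FiniteType.of_restrictScalars_finiteType R (Polynomial R) S
    obtain ⟨ψ₁, hψ₁⟩ := main_le (R := Polynomial R) (S := S) d ha
    have h := quasiFinite_cons ψ₁ hψ₁
    have hX : algebraMap (Polynomial R) S Polynomial.X = a := Polynomial.aeval_X a
    rw [hX] at h
    exact ⟨_, h⟩
  have hdim : ∀ p : PrimeSpectrum R,
      ringKrullDim (p.asIdeal.Fiber S) ≤ ((d+1 : ℕ) : WithBot ℕ∞) :=
    fun p => fiber_dim_le_of_quasiFinite _ hτ p.asIdeal
  have hψ := quasiFinite_insert (R := R) (Fin.cons a τ : Fin (d+1) → S) (-b) hτ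
  obtain ⟨D₀, hD₀⟩ := step_explicit (d+1) (d+1) (by omega) hdim _ hψ
  refine ⟨D₀, fun n hn P => ?_⟩
  have hχ := hD₀ n hn
  letI alg2 : Algebra (Polynomial R) S := (Polynomial.aeval (R := R) (a^n + b)).toRingHom.toAlgebra
  haveI : IsScalarTower R (Polynomial R) S :=
    IsScalarTower.of_algebraMap_eq (fun r => (Polynomial.aeval_C _ r).symm)
  have hX : algebraMap (Polynomial R) S Polynomial.X = a ^ n + b := Polynomial.aeval_X _
  have h := quasiFinite_tail _ hχ (by
    rw [hX, aeval_X]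
    simp
    ring)
  exact fiber_dim_le_of_quasiFinite _ h P.asIdeal

end S1430

end Groth.Agent.H1.WRNN
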