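import Mathlib
import Groth.Prelude.Def_FlatCA

universe u v
namespace Groth.Agent.H1.WA

variable {R : Type u} [CommRing R] {M : Type v} [AddCommGroup M] [Module R M]

/-- annihilator of an element -/
abbrev ann (R : Type u) [CommRing R] {M : Type v} [AddCommGroup M] [Module R M] (m : M) : Ideal R :=
  (Submodule.span R {m}).annihilator

theorem mem_ann {r : R} {m : M} : r ∈ ann R m ↔ r • m = 0 :=
  Submodule.mem_annihilator_span_singleton m r

theorem ann_ne_top {m : M} (hm : m ≠ 0) : ann R m ≠ ⊤ := by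
  intro h
  have : (1 : R) ∈ ann R m := h ▸ Submodule.mem_top
  rw [mem_ann, one_smul] at this
  exact hm this

theorem ann_zero_eq_top : ann R (0 : M) = ⊤ := by
  rw [eq_top_iff]; intro r _; rw [mem_ann, smul_zero]

/-- annihilator in the localization of `m/s` is the extension of the annihilator of `m`. -/
theorem ann_mk (S : Submonoid R) (m : M) (s : S) :
    ann (Localization S) (LocalizedModule.mk m s) = (ann R m).map (algebraMap R (Localization S)) := by
  ext x
  obtain ⟨r, t, rfl⟩ := IsLocalization.exists_mk'_eq S x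
  rw [IsLocalization.mk'_mem_map_algebraMap_iff S, mem_ann, ← Localization.mk_eq_mk',
    LocalizedModule.mk_smul_mk, ← LocalizedModule.zero_mk (1 : S), LocalizedModule.mk_eq]
  constructor
  · rintro ⟨u, hu⟩
    refine ⟨u, u.2, ?_⟩
    rw [mem_ann, mul_smul]
    have h2 : u • r • m = 0 := by simpa using hu
    exact h2
  · rintro ⟨u, hu, h⟩
    rw [mem_ann] at h
    refine ⟨⟨u, hu⟩, ?_⟩
    simp only [one_smul, smul_zero]
    rw [Submonoid.mk_smul, ← mul_smul, h]

/-- annihilator over `R` of an element of the localized module is the contraction. -/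
theorem ann_eq_comap (S : Submonoid R) (x : LocalizedModule S M) :
    ann R x = (ann (Localization S) x).comap (algebraMap R (Localization S)) := by
  ext r
  rw [Ideal.mem_comap, mem_ann, mem_ann, algebraMap_smul]

theorem mem_weakAss_iff {p : Ideal R} :
    p ∈ FlatCA.weakAss R M ↔ ∃ m : M, p ∈ (ann R m).minimalPrimes := Iff.rfl

theorem mem_ass_iff {p : Ideal R} :
    p ∈ FlatCA.ass R M ↔ p.IsPrime ∧ ∃ m : M, p = ann R m := Iff.rfl


/-- S9584 -/
theorem weakAss_eq_empty_iff : FlatCA.weakAss R M = ∅ ↔ Subsingleton M := by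
  constructor
  · intro h
    refine ⟨fun a b ↦ ?_⟩
    by_contra hab
    have hm : a - b ≠ 0 := sub_ne_zero.mpr hab
    obtain ⟨p, hp⟩ := Ideal.nonempty_minimalPrimes (ann_ne_top (R := R) hm)
    have : p ∈ FlatCA.weakAss R M := ⟨a - b, hp⟩
    rw [h] at this
    exact this
  · intro h
    rw [Set.eq_empty_iff_forall_notMem]
    rintro p ⟨m, hp⟩
    have : m = 0 := Subsingleton.elim _ _
    subst this
    change p ∈ (ann R (0 : M)).minimalPrimes at hp
    rw [ann_zero_eq_top, Ideal.minimalPrimes_top] at hp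
    exact hp

/-- S9585 -/
theorem biUnion_weakAss :
    ⋃ q ∈ FlatCA.weakAss R M, (q : Set R) = {f : R | ¬ IsSMulRegular M f} := by
  ext f
  simp only [Set.mem_iUnion, SetLike.mem_coe, exists_prop, Set.mem_ofPred_eq]
  constructor
  · rintro ⟨p, ⟨m, hp⟩, hfp⟩
    obtain ⟨y, hy, hfy⟩ := Ideal.exists_mul_mem_of_mem_minimalPrimes hp hfp
    rw [mem_ann] at hy hfy
    intro hreg
    apply hy
    apply hreg
    simp only [smul_zero]
    rw [← mul_smul]
    exact hfy
  · intro hf
    rw [isSMulRegular_iff_right_eq_zero_of_smul] at hf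
    push Not at hf
    obtain ⟨m, hfm, hm⟩ := hf
    obtain ⟨p, hp⟩ := Ideal.nonempty_minimalPrimes (ann_ne_top (R := R) hm)
    exact ⟨p, ⟨m, hp⟩, hp.1.2 (mem_ann.mpr hfm)⟩


theorem ann_map_of_injective {M' : Type*} [AddCommGroup M'] [Module R M'] (f : M →ₗ[R] M')
    (hf : Function.Injective f) (m : M) : ann R (f m) = ann R m := by
  ext r
  rw [mem_ann, mem_ann, ← map_smul, map_eq_zero_iff f hf]

theorem weakAss_subset_of_injective {M' : Type*} [AddCommGroup M'] [Module R M'] (f : M →ₗ[R] M')
    (hf : Function.Injective f) : FlatCA.weakAss R M ⊆ FlatCA.weakAss R M' := by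
  rintro p ⟨m, hp⟩
  refine ⟨f m, ?_⟩
  change p ∈ (ann R (f m)).minimalPrimes
  rw [ann_map_of_injective f hf]
  exact hp

/-- S9583 -/
theorem weakAss_of_exact {M' M'' : Type*} [AddCommGroup M'] [Module R M'] [AddCommGroup M'']
    [Module R M''] (f : M' →ₗ[R] M) (g : M →ₗ[R] M'') (hf : Function.Injective f)
    (hfg : Function.Exact f g) :
    FlatCA.weakAss R M ⊆ FlatCA.weakAss R M' ∪ FlatCA.weakAss R M'' := by
  rintro p ⟨m, hp⟩
  by_cases h'' : ann R (g m) ≤ p
  · right
    refine ⟨g m, ⟨hp.1.1, h''⟩, ?_⟩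
    rintro q ⟨hq, hq'⟩ hqp
    refine hp.2 ⟨hq, le_trans ?_ hq'⟩ hqp
    intro r hr
    rw [mem_ann] at hr ⊢
    rw [← map_smul, hr, map_zero]
  · left
    obtain ⟨a, ha, hap⟩ := Set.not_subset.mp h''
    rw [SetLike.mem_coe, mem_ann, ← map_smul] at ha
    obtain ⟨m', hm'⟩ := (hfg (a • m)).mp ha
    refine ⟨m', ?_⟩
    change p ∈ (ann R m').minimalPrimes
    rw [← ann_map_of_injective f hf, hm']
    have hle : ann R m ≤ ann R (a • m) := by
      intro r hr
      rw [mem_ann] at hr ⊢
      rw [smul_comm, hr, smul_zero]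
    have hlep : ann R (a • m) ≤ p := by
      intro r hr
      rw [mem_ann, ← mul_smul] at hr
      have : r * a ∈ p := hp.1.2 (mem_ann.mpr hr)
      exact (hp.1.1.mem_or_mem this).resolve_right hap
    refine ⟨⟨hp.1.1, hlep⟩, ?_⟩
    rintro q ⟨hq, hq'⟩ hqp
    exact hp.2 ⟨hq, hle.trans hq'⟩ hqp


/-- S9588 -/
theorem weakAss_localizedModule (S : Submonoid R) :
    FlatCA.weakAss R (LocalizedModule S M) =
      Ideal.comap (algebraMap R (Localization S)) ''
        FlatCA.weakAss (Localization S) (LocalizedModule S M) := by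
  ext p
  constructor
  · rintro ⟨x, hp⟩
    change p ∈ (ann R x).minimalPrimes at hp
    rw [ann_eq_comap, IsLocalization.minimalPrimes_comap S] at hp
    obtain ⟨q, hq, rfl⟩ := hp
    exact ⟨q, ⟨x, hq⟩, rfl⟩
  · rintro ⟨q, ⟨x, hq⟩, rfl⟩
    refine ⟨x, ?_⟩
    change _ ∈ (ann R x).minimalPrimes
    rw [ann_eq_comap, IsLocalization.minimalPrimes_comap S]
    exact ⟨q, hq, rfl⟩

/-- S9589 -/
theorem mem_weakAss_iff_map_mem (S : Submonoid R) (p : Ideal R) [p.IsPrime]
    (hS : Disjoint (S : Set R) (p : Set R)) :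
    p ∈ FlatCA.weakAss R M ↔
      Ideal.map (algebraMap R (Localization S)) p ∈
        FlatCA.weakAss (Localization S) (LocalizedModule S M) := by
  have hcomap : (Ideal.map (algebraMap R (Localization S)) p).comap (algebraMap R (Localization S)) = p :=
    IsLocalization.under_map_of_isPrime_disjoint S (Localization S) ‹_› hS
  constructor
  · rintro ⟨m, hp⟩
    refine ⟨LocalizedModule.mk m 1, ?_⟩
    change _ ∈ (ann (Localization S) (LocalizedModule.mk m 1)).minimalPrimes
    rw [ann_mk, IsLocalization.minimalPrimes_map S, Set.mem_preimage]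
    change (Ideal.map _ p).comap _ ∈ _
    rw [hcomap]
    exact hp
  · rintro ⟨x, hp⟩
    induction x using LocalizedModule.induction_on with
    | h m s =>
      change _ ∈ (ann (Localization S) (LocalizedModule.mk m s)).minimalPrimes at hp
      rw [ann_mk, IsLocalization.minimalPrimes_map S, Set.mem_preimage] at hp
      change (Ideal.map _ p).comap _ ∈ _ at hp
      rw [hcomap] at hp
      exact ⟨m, hp⟩

/-- annihilators when `S` acts regularly -/
theorem ann_mk_of_regular (S : Submonoid R) (hS : ∀ s ∈ S, IsSMulRegular M s) (m : M) (s : S) :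
    ann R (LocalizedModule.mk m s) = ann R m := by
  ext r
  rw [mem_ann, mem_ann, LocalizedModule.smul'_mk, ← LocalizedModule.zero_mk (1 : S),
    LocalizedModule.mk_eq]
  constructor
  · rintro ⟨u, hu⟩
    have h2 : u • r • m = 0 := by simpa using hu
    exact (hS u u.2).right_eq_zero_of_smul h2
  · intro h
    exact ⟨1, by simp [h]⟩

/-- S9590 -/
theorem weakAss_eq_of_regular (S : Submonoid R) (hS : ∀ s ∈ S, IsSMulRegular M s) :
    FlatCA.weakAss R M = FlatCA.weakAss R (LocalizedModule S M) := by
  ext p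
  constructor
  · rintro ⟨m, hp⟩
    refine ⟨LocalizedModule.mk m 1, ?_⟩
    change p ∈ (ann R (LocalizedModule.mk m (1 : S))).minimalPrimes
    rw [ann_mk_of_regular S hS]
    exact hp
  · rintro ⟨x, hp⟩
    induction x using LocalizedModule.induction_on with
    | h m s =>
      change p ∈ (ann R (LocalizedModule.mk m s)).minimalPrimes at hp
      rw [ann_mk_of_regular S hS] at hp
      exact ⟨m, hp⟩

/-- S9595 -/
theorem ass_eq_of_regular (S : Submonoid R) (hS : ∀ s ∈ S, IsSMulRegular M s) :
    FlatCA.ass R M = FlatCA.ass R (LocalizedModule S M) := by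
  ext p
  constructor
  · rintro ⟨hp, m, rfl⟩
    exact ⟨hp, LocalizedModule.mk m 1, (ann_mk_of_regular S hS m 1).symm⟩
  · rintro ⟨hp, x, rfl⟩
    induction x using LocalizedModule.induction_on with
    | h m s => exact ⟨hp, m, ann_mk_of_regular S hS m s⟩

/-- S9593 -/
theorem image_comap_ass_subset {S : Type*} [CommRing S] [Algebra R S] (M : Type*) [AddCommGroup M]
    [Module S M] [Module R M] [IsScalarTower R S M] :
    Ideal.comap (algebraMap R S) '' FlatCA.ass S M ⊆ FlatCA.ass R M := by
  rintro _ ⟨q, ⟨hq, m, rfl⟩, rfl⟩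
  refine ⟨Ideal.IsPrime.comap _, m, ?_⟩
  ext r
  rw [Ideal.mem_comap, mem_ann, mem_ann, algebraMap_smul]


/-- S9594 part 2 -/
theorem mem_ass_localizedModule_of_disjoint (S : Submonoid R) (p : Ideal R)
    (hp : p ∈ FlatCA.ass R M) (hS : Disjoint (S : Set R) (p : Set R)) :
    p ∈ FlatCA.ass R (LocalizedModule S M) := by
  obtain ⟨hpp, m, rfl⟩ := hp
  refine ⟨hpp, LocalizedModule.mk m 1, ?_⟩
  ext r
  rw [mem_ann, mem_ann, LocalizedModule.smul'_mk, ← LocalizedModule.zero_mk (1 : S),
    LocalizedModule.mk_eq]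
  constructor
  · intro h
    exact ⟨1, by simp [h]⟩
  · rintro ⟨u, hu⟩
    have h2 : u • r • m = 0 := by simpa using hu
    have h3 : (u : R) * r ∈ ann R m := by rw [mem_ann, mul_smul]; exact h2
    rcases hpp.mem_or_mem h3 with h4 | h4
    · exact (Set.disjoint_left.mp hS u.2 h4).elim
    · exact mem_ann.mp h4

/-- S9594 part 1 -/
theorem ass_localizedModule (S : Submonoid R) :
    FlatCA.ass R (LocalizedModule S M) =
      Ideal.comap (algebraMap R (Localization S)) ''
        FlatCA.ass (Localization S) (LocalizedModule S M) := by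
  apply Set.Subset.antisymm
  · rintro p ⟨hp, x, rfl⟩
    have hdisj : Disjoint (S : Set R) (ann R x : Set R) := by
      rw [Set.disjoint_left]
      intro s hs hsx
      rw [SetLike.mem_coe, mem_ann] at hsx
      have hu : IsUnit ((algebraMap R (Module.End R (LocalizedModule S M))) s) :=
        IsLocalizedModule.map_units (LocalizedModule.mkLinearMap S M) ⟨s, hs⟩
      have hx0 : x = 0 := by
        have := (Module.End.isUnit_iff _).mp hu
        apply this.1
        simpa using hsx
      apply hp.ne_top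
      rw [hx0]
      exact ann_zero_eq_top
    refine ⟨ann (Localization S) x, ⟨?_, x, rfl⟩, (ann_eq_comap S x).symm⟩
    induction x using LocalizedModule.induction_on with
    | h m s =>
      have e1 : ann (Localization S) (LocalizedModule.mk m s) =
          (ann R (LocalizedModule.mk m s)).map (algebraMap R (Localization S)) := by
        rw [ann_eq_comap, IsLocalization.map_under S]
      rw [e1]
      exact IsLocalization.isPrime_of_isPrime_disjoint S _ _ hp hdisj
  · exact image_comap_ass_subset (R := R) (S := Localization S) (LocalizedModule S M)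

/-- S9587 -/
theorem weakAss_quotient (I : Ideal R) (M : Type*) [AddCommGroup M] [Module (R ⧸ I) M] [Module R M]
    [IsScalarTower R (R ⧸ I) M] :
    FlatCA.weakAss R M = Ideal.comap (Ideal.Quotient.mk I) '' FlatCA.weakAss (R ⧸ I) M := by
  have key : ∀ m : M, ann R m = (ann (R ⧸ I) m).comap (Ideal.Quotient.mk I) := by
    intro m
    ext r
    rw [Ideal.mem_comap, mem_ann, mem_ann, ← Ideal.Quotient.algebraMap_eq, algebraMap_smul]
  ext p
  constructor
  · rintro ⟨m, hp⟩
    change p ∈ (ann R m).minimalPrimes at hp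
    rw [key, Ideal.comap_minimalPrimes_eq_of_surjective Ideal.Quotient.mk_surjective] at hp
    obtain ⟨q, hq, rfl⟩ := hp
    exact ⟨q, ⟨m, hq⟩, rfl⟩
  · rintro ⟨q, ⟨m, hq⟩, rfl⟩
    refine ⟨m, ?_⟩
    change _ ∈ (ann R m).minimalPrimes
    rw [key, Ideal.comap_minimalPrimes_eq_of_surjective Ideal.Quotient.mk_surjective]
    exact ⟨q, hq, rfl⟩

/-- S9591 -/
theorem eq_zero_of_forall_weakAss (x : M)
    (hx : ∀ (p : Ideal R) [p.IsPrime], p ∈ FlatCA.weakAss R M →
      LocalizedModule.mkLinearMap p.primeCompl M x = 0) : x = 0 := by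
  by_contra hne
  obtain ⟨p, hp⟩ := Ideal.nonempty_minimalPrimes (ann_ne_top (R := R) hne)
  have hpp : p.IsPrime := hp.1.1
  have h0 := hx p ⟨x, hp⟩
  rw [IsLocalizedModule.eq_zero_iff p.primeCompl] at h0
  obtain ⟨t, ht⟩ := h0
  have : (t : R) ∈ ann R x := mem_ann.mpr ht
  exact t.2 (hp.1.2 this)


theorem maximalIdeal_mem_minimalPrimes_iff {A : Type*} [CommRing A] [IsLocalRing A] (J : Ideal A) :
    IsLocalRing.maximalIdeal A ∈ J.minimalPrimes ↔ IsLocalRing.maximalIdeal A = J.radical := by
  constructor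
  · intro h
    rw [← Ideal.sInf_minimalPrimes]
    apply le_antisymm
    · refine le_sInf fun q hq ↦ ?_
      exact h.2 hq.1 (IsLocalRing.le_maximalIdeal hq.1.1.ne_top)
    · exact sInf_le h
  · intro h
    refine ⟨⟨inferInstance, h ▸ Ideal.le_radical⟩, ?_⟩
    rintro q ⟨hq, hJq⟩ _
    rw [h]
    exact hq.radical_le_iff.mpr hJq

theorem colon_bot_singleton (x : M) : (⊥ : Submodule R M).colon {x} = ann R x := by
  ext r
  rw [Submodule.mem_colon_singleton, Submodule.mem_bot, mem_ann]

/-- S9581 -/
theorem mem_weakAss_iff_isAssociatedPrime (p : Ideal R) [p.IsPrime] :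
    p ∈ FlatCA.weakAss R M ↔
      IsAssociatedPrime (IsLocalRing.maximalIdeal (Localization.AtPrime p))
        (LocalizedModule p.primeCompl M) := by
  have hS : Disjoint (p.primeCompl : Set R) (p : Set R) := by
    rw [Set.disjoint_left]; exact fun x hx hxp ↦ hx hxp
  rw [mem_weakAss_iff_map_mem p.primeCompl p hS, Localization.AtPrime.map_eq_maximalIdeal]
  constructor
  · rintro ⟨x, hx⟩
    refine ⟨inferInstance, x, ?_⟩
    rw [colon_bot_singleton]
    exact (maximalIdeal_mem_minimalPrimes_iff _).mp hx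
  · rintro ⟨_, x, hx⟩
    rw [colon_bot_singleton] at hx
    exact ⟨x, (maximalIdeal_mem_minimalPrimes_iff _).mpr hx⟩

/-- S9582 -/
theorem weakAss_self_of_isReduced [IsReduced R] : FlatCA.weakAss R R = minimalPrimes R := by
  ext p
  constructor
  · rintro ⟨x, hp⟩
    have hpp : p.IsPrime := hp.1.1
    -- every prime strictly below p contains x
    have hlt : ∀ q : Ideal R, q.IsPrime → q ≤ p → q ≠ p → x ∈ q := by
      intro q hq hqp hne
      have : ¬ ann R x ≤ q := fun h ↦ hne (le_antisymm hqp (hp.2 ⟨hq, h⟩ hqp))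
      obtain ⟨a, ha, haq⟩ := Set.not_subset.mp this
      rw [SetLike.mem_coe, mem_ann, smul_eq_mul] at ha
      have : a * x ∈ q := ha ▸ zero_mem _
      exact (hq.mem_or_mem this).resolve_left haq
    have hxp : x ∉ p := by
      intro hxp
      -- x lies in every prime contained in p, so t x^n = 0 for some t ∉ p
      have : ∃ t ∉ p, ∃ n : ℕ, t * x ^ n = 0 := by
        by_contra hcon
        push Not at hcon
        let T : Submonoid R := p.primeCompl ⊔ Submonoid.powers x
        have h0 : (0 : R) ∉ T := by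
          intro h0
          obtain ⟨t, ht, y, ⟨n, rfl⟩, hty⟩ := Submonoid.mem_sup.mp h0
          exact hcon t ht n hty
        obtain ⟨P, hP, -, hPT⟩ := Ideal.exists_le_prime_disjoint (⊥ : Ideal R) T (by
          rw [Set.disjoint_left]
          intro y hy hyT
          rw [SetLike.mem_coe, Ideal.mem_bot] at hy
          exact h0 (hy ▸ hyT))
        have hPp : P ≤ p := by
          intro y hy
          by_contra hyp
          exact Set.disjoint_left.mp hPT hy (Submonoid.mem_sup_left (show y ∈ p.primeCompl from hyp))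
        have hxP : x ∉ P := fun hx ↦
          Set.disjoint_left.mp hPT hx (Submonoid.mem_sup_right (Submonoid.mem_powers x))
        by_cases hPe : P = p
        · exact hxP (hPe ▸ hxp)
        · exact hxP (hlt P hP hPp hPe)
      obtain ⟨t, htp, n, hn⟩ := this
      have h1 : (t * x) ^ (n + 1) = 0 := by
        rw [mul_pow, pow_succ t, pow_succ x]
        calc t ^ n * t * (x ^ n * x) = (t * x ^ n) * (t ^ n * x) := by ring
          _ = 0 := by rw [hn, zero_mul]
      have h2 : t * x = 0 := IsReduced.eq_zero _ ⟨_, h1⟩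
      exact htp (hp.1.2 (mem_ann.mpr (by rw [smul_eq_mul]; exact h2)))
    refine ⟨⟨hpp, bot_le⟩, ?_⟩
    rintro q ⟨hq, -⟩ hqp
    by_contra hne
    exact hxp (hqp (hlt q hq hqp (fun h ↦ hne (h ▸ le_rfl))))
  · intro hp
    refine ⟨1, ?_⟩
    have : ann R (1 : R) = ⊥ := by
      ext r; rw [mem_ann, smul_eq_mul, mul_one, Ideal.mem_bot]
    change p ∈ (ann R (1 : R)).minimalPrimes
    rw [this]
    exact hp


/-- local ring with f.g. maximal ideal: radical-associated implies associated. -/
theorem exists_ann_eq_maximalIdeal {A : Type*} [CommRing A] [IsLocalRing A] {N : Type*}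
    [AddCommGroup N] [Module A N] (hfg : (IsLocalRing.maximalIdeal A).FG) (y : N)
    (hy : IsLocalRing.maximalIdeal A = (ann A y).radical) :
    ∃ y' : N, ann A y' = IsLocalRing.maximalIdeal A := by
  classical
  have hex : ∃ k, IsLocalRing.maximalIdeal A ^ k ≤ ann A y :=
    Ideal.exists_pow_le_of_le_radical_of_fg hy.le hfg
  have hne : ann A y ≠ ⊤ := by
    intro h
    have : (ann A y).radical = ⊤ := by rw [h, Ideal.radical_top]
    rw [← hy] at this
    exact Ideal.IsPrime.ne_top inferInstance this
  have h0 : Nat.find hex ≠ 0 := by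
    intro h
    have := Nat.find_spec hex
    rw [h, pow_zero, Ideal.one_eq_top, top_le_iff] at this
    exact hne this
  obtain ⟨k, hk⟩ := Nat.exists_eq_succ_of_ne_zero h0
  have hmin : ¬ IsLocalRing.maximalIdeal A ^ k ≤ ann A y :=
    Nat.find_min hex (by rw [hk]; exact Nat.lt_succ_self k)
  obtain ⟨x, hx, hxy⟩ := Set.not_subset.mp hmin
  refine ⟨x • y, le_antisymm ?_ ?_⟩
  · apply IsLocalRing.le_maximalIdeal
    apply ann_ne_top
    intro h
    exact hxy (mem_ann.mpr h)
  · intro a ha
    rw [mem_ann, ← mul_smul]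
    have : a * x ∈ IsLocalRing.maximalIdeal A ^ (k + 1) := by
      rw [pow_succ']
      exact Ideal.mul_mem_mul ha hx
    have h2 := Nat.find_spec hex
    rw [hk] at h2
    exact mem_ann.mp (h2 this)

/-- descend an associated prime from the localization at a f.g. prime. -/
theorem exists_ann_eq_of_localized (p : Ideal R) [p.IsPrime] (hp : p.FG)
    (y : LocalizedModule p.primeCompl M)
    (hy : ann (Localization.AtPrime p) y = IsLocalRing.maximalIdeal (Localization.AtPrime p)) :
    ∃ m : M, ann R m = p := by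
  classical
  have hS : Disjoint (p.primeCompl : Set R) (p : Set R) := by
    rw [Set.disjoint_left]; exact fun x hx hxp ↦ hx hxp
  induction y using LocalizedModule.induction_on with
  | h m' s =>
    rw [show ann (Localization.AtPrime p) (LocalizedModule.mk m' s) = _ from ann_mk p.primeCompl m' s,
      ← Localization.AtPrime.map_eq_maximalIdeal] at hy
    obtain ⟨T, hT⟩ := hp
    have hTp : ∀ f ∈ T, f ∈ p := fun f hf ↦ hT ▸ Ideal.subset_span hf
    have hg : ∀ f ∈ T, ∃ g ∈ p.primeCompl, g * f ∈ ann R m' := by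
      intro f hf
      have : algebraMap R (Localization.AtPrime p) f ∈
          (ann R m').map (algebraMap R (Localization.AtPrime p)) := by
        rw [hy]; exact Ideal.mem_map_of_mem _ (hTp f hf)
      exact (IsLocalization.algebraMap_mem_map_algebraMap_iff p.primeCompl _ _ _).mp this
    choose! g hg1 hg2 using hg
    have hgp : (∏ f ∈ T, g f) ∉ p := by
      rw [Ideal.IsPrime.prod_mem_iff]
      push Not
      exact fun f hf ↦ hg1 f hf
    refine ⟨(∏ f ∈ T, g f) • m', le_antisymm ?_ ?_⟩
    · intro h hh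
      rw [mem_ann, ← mul_smul] at hh
      have h1 : algebraMap R (Localization.AtPrime p) (h * ∏ f ∈ T, g f) ∈
          p.map (algebraMap R (Localization.AtPrime p)) := by
        rw [← hy]; exact Ideal.mem_map_of_mem _ (mem_ann.mpr hh)
      have h2 : h * ∏ f ∈ T, g f ∈ p := by
        have := IsLocalization.under_map_of_isPrime_disjoint p.primeCompl
          (Localization.AtPrime p) ‹p.IsPrime› hS
        rw [← this]
        exact h1
      exact (Ideal.IsPrime.mem_or_mem ‹_› h2).resolve_right hgp
    · rw [← hT, Ideal.span_le]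
      intro f hf
      rw [SetLike.mem_coe, mem_ann, ← mul_smul]
      obtain ⟨c, hc⟩ := Finset.dvd_prod_of_mem g hf
      rw [hc]
      have : f * (g f * c) = c * (g f * f) := by ring
      rw [this, mul_smul, mem_ann.mp (hg2 f hf), smul_zero]


/-- S9586 -/
theorem mem_ass_iff_mem_weakAss_of_fg (p : Ideal R) [p.IsPrime] (hp : p.FG) :
    p ∈ FlatCA.ass R M ↔ p ∈ FlatCA.weakAss R M := by
  constructor
  · rintro ⟨_, m, h⟩
    refine ⟨m, ?_⟩
    have h' : ann R m = p := h.symm
    change p ∈ (ann R m).minimalPrimes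
    rw [h', Ideal.minimalPrimes_eq_subsingleton_self]
    rfl
  · intro h
    have hS : Disjoint (p.primeCompl : Set R) (p : Set R) := by
      rw [Set.disjoint_left]; exact fun x hx hxp ↦ hx hxp
    rw [mem_weakAss_iff_map_mem p.primeCompl p hS, Localization.AtPrime.map_eq_maximalIdeal] at h
    obtain ⟨x, hx⟩ := h
    have h1 := (maximalIdeal_mem_minimalPrimes_iff _).mp hx
    have hfg : (IsLocalRing.maximalIdeal (Localization.AtPrime p)).FG := by
      rw [← Localization.AtPrime.map_eq_maximalIdeal]
      exact hp.map _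
    obtain ⟨y', hy'⟩ := exists_ann_eq_maximalIdeal hfg x h1
    obtain ⟨m, hm⟩ := exists_ann_eq_of_localized p hp y' hy'
    exact ⟨inferInstance, m, hm.symm⟩

end Groth.Agent.H1.WA
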