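import Mathlib
import Groth.Prelude.Def_FlatCA
import Groth.Agent.Lib.Helper1.AssFibre
import Groth.Agent.Lib.Helper1.FibInj5
import Groth.Agent.Lib.Helper1.FibreFree
import Groth.Agent.Lib.Helper1.UnivInjFib

/-!
# Weakly associated primes of `N ⊗ M` give associated primes of the fibre of `N`
-/

set_option autoImplicit false

universe u

open TensorProduct Function

namespace Groth.Agent.H1.WeakAssFibre

open Groth.Agent.H1.AssFibre

attribute [local instance] Algebra.TensorProduct.rightAlgebra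

section fiberIdeal

variable {R : Type u} [CommRing R] (p : Ideal R) [p.IsPrime] (S : Type u) [CommRing S]
  [Algebra R S] (q : Ideal S) [q.IsPrime] [q.LiesOver p]

/-- `κ(p) ⊗ S → κ(q)` -/
noncomputable def phi : p.Fiber S →ₐ[R] q.ResidueField :=
  Algebra.TensorProduct.lift
    (Ideal.ResidueField.mapₐ p q (Algebra.ofId _ _) (Ideal.LiesOver.over))
    (IsScalarTower.toAlgHom _ _ _) fun _ _ ↦ .all _ _

theorem phi_inc (s : S) : phi p S q (inc p S s) = algebraMap S q.ResidueField s := by
  rw [inc_apply, phi, Algebra.TensorProduct.lift_tmul, map_one, one_mul]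
  rfl

theorem fiberIdeal_eq_ker : FlatCA.fiberIdeal p q = RingHom.ker (phi p S q).toRingHom := by
  apply le_antisymm
  · change q.map (inc p S) ≤ _
    rw [Ideal.map_le_iff_le_comap]
    intro s hs
    rw [Ideal.mem_comap, RingHom.mem_ker]
    change phi p S q (inc p S s) = 0
    rw [phi_inc, Ideal.algebraMap_residueField_eq_zero]
    exact hs
  · intro x hx
    rw [RingHom.mem_ker] at hx
    obtain ⟨r, hr, s, e⟩ := Ideal.Fiber.exists_smul_eq_one_tmul p x
    have h1 : phi p S q (inc p S s) = 0 := by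
      rw [inc_apply, ← e, map_smul]
      change r • (phi p S q).toRingHom x = 0
      rw [hx, smul_zero]
    rw [phi_inc, Ideal.algebraMap_residueField_eq_zero] at h1
    have h2 : inc p S s ∈ FlatCA.fiberIdeal p q := Ideal.mem_map_of_mem _ h1
    rw [inc_apply, ← e] at h2
    exact mem_of_smul_mem p S _ r hr x h2

theorem fiberIdeal_isPrime : (FlatCA.fiberIdeal p q).IsPrime := by
  rw [fiberIdeal_eq_ker]
  exact RingHom.ker_isPrime _

theorem inc_mem_fiberIdeal_iff (s : S) : inc p S s ∈ FlatCA.fiberIdeal p q ↔ s ∈ q := by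
  rw [fiberIdeal_eq_ker, RingHom.mem_ker]
  change phi p S q (inc p S s) = 0 ↔ _
  rw [phi_inc, Ideal.algebraMap_residueField_eq_zero]

end fiberIdeal

section noeth

variable {F : Type u} [CommRing F] [IsNoetherianRing F] {M : Type u} [AddCommGroup M] [Module F M]

theorem exists_pow_smul_eq_zero (f G : F)
    (h : ∀ P ∈ associatedPrimes F M, f ∈ P → G ∈ P) (m : M) (hm : f • m = 0) :
    ∃ k : ℕ, G ^ k • m = 0 := by
  set a : Ideal F := Submodule.colon (⊥ : Submodule F M) {m} with ha
  have hG : G ∈ a.radical := by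
    rw [← Ideal.sInf_minimalPrimes, Submodule.mem_sInf]
    intro P hP
    obtain ⟨m', hm'⟩ := Submodule.exists_eq_colon_of_mem_minimalPrimes hP
    have hPass : P ∈ associatedPrimes F M :=
      (isAssociatedPrime_iff (I := P) (M := M)).mpr ⟨hP.1.1, m', hm'⟩
    refine h P hPass (hP.1.2 ?_)
    rw [ha, Submodule.mem_colon_singleton, Submodule.mem_bot]
    exact hm
  obtain ⟨k, hk⟩ := hG
  refine ⟨k, ?_⟩
  rw [ha, Submodule.mem_colon_singleton, Submodule.mem_bot] at hk
  exact hk

end noeth


section avoid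

variable {R : Type u} [CommRing R] (p : Ideal R) [p.IsPrime] (S : Type u) [CommRing S]
  [Algebra R S] (N : Type u) [AddCommGroup N] [Module S N] [Module R N] [IsScalarTower R S N]
  (q : Ideal S) [q.IsPrime] [q.LiesOver p]

omit [Module R N] [IsScalarTower R S N] in
theorem inc_pow_smul_one_tmul (s : S) (k : ℕ) (n : N) :
    ((inc p S s) ^ k • ((1 : p.Fiber S) ⊗ₜ[S] n : (p.Fiber S) ⊗[S] N)) =
      (1 : p.Fiber S) ⊗ₜ[S] (s ^ k • n) := by
  rw [← map_pow, inc_smul_one_tmul]

theorem notMem_of_notMem (a : R) (ha : a ∉ p) : algebraMap R S a ∉ q := by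
  intro h
  apply ha
  rw [Ideal.LiesOver.over (p := p) (P := q)]
  exact h

variable [IsNoetherianRing (p.Fiber S)] [Module.Finite (p.Fiber S) (FlatCA.fiberMod p S N)]

/-- an element outside `q` lying in all associated primes of the fibre not contained in `qF` -/
theorem exists_g : ∃ g : S, g ∉ q ∧ ∀ r ∈ associatedPrimes (p.Fiber S) (FlatCA.fiberMod p S N),
      ¬ r ≤ FlatCA.fiberIdeal p q → inc p S g ∈ r := by
  classical
  have hfin : (associatedPrimes (p.Fiber S) (FlatCA.fiberMod p S N)).Finite :=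
    associatedPrimes.finite (p.Fiber S) (FlatCA.fiberMod p S N)
  have hch : ∀ r : Ideal (p.Fiber S), ¬ r ≤ FlatCA.fiberIdeal p q →
      ∃ s : S, s ∉ q ∧ inc p S s ∈ r := by
    intro r hr
    obtain ⟨x, hxr, hxq⟩ := SetLike.not_le_iff_exists.mp hr
    obtain ⟨a, ha, s, e⟩ := Ideal.Fiber.exists_smul_eq_one_tmul p x
    refine ⟨s, ?_, ?_⟩
    · intro hs
      apply hxq
      have h1 : inc p S s ∈ FlatCA.fiberIdeal p q := Ideal.mem_map_of_mem _ hs
      rw [inc_apply, ← e] at h1
      exact mem_of_smul_mem p S _ a ha x h1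
    · rw [inc_apply, ← e, Algebra.smul_def]
      exact r.mul_mem_left _ hxr
  choose! σ hσq hσr using hch
  let A : Finset (Ideal (p.Fiber S)) := hfin.toFinset.filter fun r => ¬ r ≤ FlatCA.fiberIdeal p q
  refine ⟨∏ r ∈ A, σ r, ?_, ?_⟩
  · intro hmem
    obtain ⟨r, hrA, hr⟩ := (Ideal.IsPrime.prod_mem_iff (hp := ‹q.IsPrime›)).mp hmem
    exact hσq r (Finset.mem_filter.mp hrA).2 hr
  · intro r hr hrq
    have hrA : r ∈ A := Finset.mem_filter.mpr ⟨hfin.mem_toFinset.mpr hr, hrq⟩
    rw [map_prod, ← Finset.mul_prod_erase A _ hrA]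
    exact r.mul_mem_right _ (hσr r hrq)

/-- an element of `q` avoiding all associated primes of the fibre strictly contained in `qF` -/
theorem exists_t
    (hq : FlatCA.fiberIdeal p q ∉ associatedPrimes (p.Fiber S) (FlatCA.fiberMod p S N)) :
    ∃ t : S, t ∈ q ∧ ∀ r ∈ associatedPrimes (p.Fiber S) (FlatCA.fiberMod p S N),
      r ≤ FlatCA.fiberIdeal p q → inc p S t ∉ r := by
  classical
  have hfin : (associatedPrimes (p.Fiber S) (FlatCA.fiberMod p S N)).Finite :=
    associatedPrimes.finite (p.Fiber S) (FlatCA.fiberMod p S N)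
  let A : Finset (Ideal (p.Fiber S)) := hfin.toFinset.filter fun r => r ≤ FlatCA.fiberIdeal p q
  have hA : ∀ r, r ∈ A ↔ r ∈ associatedPrimes (p.Fiber S) (FlatCA.fiberMod p S N) ∧
      r ≤ FlatCA.fiberIdeal p q := by
    intro r
    rw [Finset.mem_filter, hfin.mem_toFinset]
  have h1 : ¬ ((FlatCA.fiberIdeal p q : Set (p.Fiber S)) ⊆ ⋃ i ∈ (↑A : Set (Ideal (p.Fiber S))), i) := by
    rw [Ideal.subset_union_prime (f := fun i : Ideal (p.Fiber S) => i) ⊥ ⊥
      (fun i hi _ _ => ((hA i).mp hi).1.isPrime)]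
    rintro ⟨i, hi, hle⟩
    obtain ⟨hi1, hi2⟩ := (hA i).mp hi
    exact hq (le_antisymm hle hi2 ▸ hi1)
  rw [Set.not_subset] at h1
  obtain ⟨f, hfq, hf⟩ := h1
  obtain ⟨a, ha, t, e⟩ := Ideal.Fiber.exists_smul_eq_one_tmul p f
  have hinc : inc p S t = a • f := by rw [inc_apply, e]
  refine ⟨t, ?_, ?_⟩
  · rw [← inc_mem_fiberIdeal_iff p S q, hinc, Algebra.smul_def]
    exact Ideal.mul_mem_left _ _ hfq
  · intro r hr hrq hmem
    apply hf
    rw [hinc] at hmem
    exact Set.mem_biUnion (Finset.mem_coe.mpr ((hA r).mpr ⟨hr, hrq⟩))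
      (mem_of_smul_mem p S r a ha f hmem)

/-- if `qF` is not an associated prime of the fibre then some `t ∈ q` is a nonzerodivisor on the
fibre near `q` -/
theorem exists_fibre_cond
    (hq : FlatCA.fiberIdeal p q ∉ associatedPrimes (p.Fiber S) (FlatCA.fiberMod p S N)) :
    ∃ t ∈ q, ∀ x : N, (∃ σ ∈ q.primeCompl, σ • t • x ∈ p • (⊤ : Submodule R N)) →
      ∃ τ ∈ q.primeCompl, τ • x ∈ p • (⊤ : Submodule R N) := by
  obtain ⟨g, hgq, hg⟩ := exists_g p S N q
  obtain ⟨t, htq, ht⟩ := exists_t p S N q hq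
  refine ⟨t, htq, ?_⟩
  rintro x ⟨σ, hσ, hx⟩
  have h0 := one_tmul_eq_zero_of_mem p S N _ hx
  have h1 : inc p S t • ((1 : p.Fiber S) ⊗ₜ[S] (σ • x) : (p.Fiber S) ⊗[S] N) = 0 := by
    rw [inc_smul_one_tmul, smul_comm]
    exact h0
  have hcond : ∀ P ∈ associatedPrimes (p.Fiber S) (FlatCA.fiberMod p S N),
      inc p S t ∈ P → inc p S g ∈ P := by
    intro P hP htP
    by_cases hle : P ≤ FlatCA.fiberIdeal p q
    · exact absurd htP (ht P hP hle)
    · exact hg P hP hle
  obtain ⟨k, hk⟩ := exists_pow_smul_eq_zero (F := p.Fiber S) (M := FlatCA.fiberMod p S N)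
    (inc p S t) (inc p S g) hcond ((1 : p.Fiber S) ⊗ₜ[S] (σ • x)) h1
  have hk' : ((inc p S g) ^ k • ((1 : p.Fiber S) ⊗ₜ[S] (σ • x) : (p.Fiber S) ⊗[S] N)) = 0 := hk
  rw [inc_pow_smul_one_tmul] at hk'
  obtain ⟨a, ha, ham⟩ := exists_smul_mem_of_one_tmul_eq_zero p S N _ hk'
  refine ⟨algebraMap R S a * (g ^ k * σ), ?_, ?_⟩
  · exact q.primeCompl.mul_mem (notMem_of_notMem p S q a ha)
      (q.primeCompl.mul_mem (q.primeCompl.pow_mem hgq k) hσ)
  · rw [mul_smul, mul_smul, algebraMap_smul]
    exact ham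

end avoid


section loc

variable {R S : Type u} [CommRing R] [CommRing S] [Algebra R S] [Algebra.FinitePresentation R S]
  (N : Type u) [AddCommGroup N] [Module S N] [Module R N] [IsScalarTower R S N]
  [Module.FinitePresentation S N] [Module.Flat R N] (q : Ideal S) [q.IsPrime]

/-- if `t` is a nonzerodivisor on the fibre of `N` near `q`, then on `Q ⊗ N` anything killed by `t`
is killed by some element outside `q` -/
theorem exists_lsmul_eq_zero_of_lsmul_eq_zero (t : S)
    (hfib : ∀ x : N, (∃ σ ∈ q.primeCompl, σ • t • x ∈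
        (q.comap (algebraMap R S)) • (⊤ : Submodule R N)) →
      ∃ τ ∈ q.primeCompl, τ • x ∈ (q.comap (algebraMap R S)) • (⊤ : Submodule R N))
    (Q : Type u) [AddCommGroup Q] [Module R Q] (z : Q ⊗[R] N)
    (hz : ((LinearMap.lsmul S N t).restrictScalars R).lTensor Q z = 0) :
    ∃ τ ∈ q.primeCompl, ((LinearMap.lsmul S N τ).restrictScalars R).lTensor Q z = 0 := by
  set u : N →ₗ[S] N := LinearMap.lsmul S N t with hu
  have hflat : Module.Flat R (LocalizedModule q.primeCompl N) :=
    Groth.Agent.H1.FibreFree.flat_localizedModule_of_flat _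
  obtain ⟨hinj, hfl⟩ := Groth.Agent.H1.FibInj.fibInj_at_prime q u hflat hfib
  set mk₁ := LocalizedModule.mkLinearMap q.primeCompl N with hmk₁
  set mk₂ := LocalizedModule.mkLinearMap q.primeCompl (N ⧸ LinearMap.range u) with hmk₂
  let G₁ : LocalizedModule q.primeCompl N →ₗ[S] LocalizedModule q.primeCompl N :=
    IsLocalizedModule.map q.primeCompl mk₁ mk₁ u
  let G₂ : LocalizedModule q.primeCompl N →ₗ[S]
      LocalizedModule q.primeCompl (N ⧸ LinearMap.range u) :=
    IsLocalizedModule.map q.primeCompl mk₁ mk₂ (LinearMap.range u).mkQ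
  have hG₁ : Injective G₁ := by
    refine IsLocalizedModule.injective_of_map_zero q.primeCompl mk₁ ?_
    intro n hn
    rw [IsLocalizedModule.map_apply, IsLocalizedModule.eq_zero_iff q.primeCompl] at hn
    obtain ⟨σ, hσ⟩ := hn
    have h1 : u ((σ : S) • n) = 0 := by
      rw [map_smul]
      exact hσ
    obtain ⟨τ, hτ, h2⟩ := hinj _ h1
    rw [IsLocalizedModule.eq_zero_iff q.primeCompl]
    exact ⟨⟨τ, hτ⟩ * σ, by rw [Submonoid.smul_def, Submonoid.coe_mul, mul_smul]; exact h2⟩
  have hex : Exact G₁ G₂ := by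
    refine IsLocalizedModule.map_exact q.primeCompl mk₁ mk₁ mk₂ u (LinearMap.range u).mkQ ?_
    intro y
    rw [Submodule.mkQ_apply, Submodule.Quotient.mk_eq_zero]
    rfl
  have hG₂ : Surjective G₂ :=
    IsLocalizedModule.map_surjective q.primeCompl mk₁ mk₂ _ (Submodule.mkQ_surjective _)
  have key := Groth.Agent.H1.lTensor_injective_of_exact_of_flat
    (G₁.restrictScalars R) (G₂.restrictScalars R) hG₁ hex hG₂ Q
  have hnat : ∀ w : Q ⊗[R] N, ((G₁.restrictScalars R).lTensor Q)
      (((mk₁).restrictScalars R).lTensor Q w) =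
      ((mk₁).restrictScalars R).lTensor Q (((u.restrictScalars R).lTensor Q) w) := by
    intro w
    induction w using TensorProduct.induction_on with
    | zero => simp
    | add a b ha hb => simp only [map_add, ha, hb]
    | tmul a n =>
      simp only [LinearMap.lTensor_tmul, LinearMap.coe_restrictScalars]
      rw [IsLocalizedModule.map_apply]
  have h3 : ((mk₁).restrictScalars R).lTensor Q z = 0 := by
    apply key
    rw [hnat, map_zero]
    exact (congrArg _ hz).trans (map_zero _)
  obtain ⟨τ, hτ, h4⟩ := Groth.Agent.H1.UnivInjFib.exists_smul_eq_zero_of_lTensor_mk_eq_zero N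
    q.primeCompl Q z h3
  exact ⟨τ, hτ, h4⟩

end loc


section minimal

theorem exists_mul_pow_mem_of_mem_minimalPrimes {S : Type u} [CommRing S] {I q : Ideal S}
    (hq : q ∈ I.minimalPrimes) {t : S} (ht : t ∈ q) : ∃ σ ∉ q, ∃ n : ℕ, σ * t ^ n ∈ I := by
  haveI : q.IsPrime := hq.1.1
  have h1 := IsLocalization.AtPrime.radical_map_of_mem_minimalPrimes
    (A := Localization.AtPrime q) q I hq
  have h2 : algebraMap S (Localization.AtPrime q) t ∈
      (I.map (algebraMap S (Localization.AtPrime q))).radical := by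
    rw [h1]
    exact Ideal.mem_map_of_mem _ ht
  obtain ⟨n, hn⟩ := h2
  rw [← map_pow, IsLocalization.mem_map_algebraMap_iff (M := q.primeCompl)] at hn
  obtain ⟨⟨a, b⟩, hab⟩ := hn
  rw [← map_mul, IsLocalization.eq_iff_exists q.primeCompl] at hab
  obtain ⟨c, hc⟩ := hab
  refine ⟨(c : S) * (b : S), (c * b).2, n, ?_⟩
  have : (c : S) * (b : S) * t ^ n = (c : S) * (t ^ n * (b : S)) := by ring
  rw [this, hc]
  exact I.mul_mem_left _ a.2

end minimal

section flat

variable {S : Type u} [CommRing S] (S' : Type u) [CommRing S'] [Algebra S S'] [Module.Flat S S']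
  {P : Type u} [AddCommGroup P] [Module S P]

theorem one_mem_of_one_tmul_eq_zero (x : P) (hx : (1 : S') ⊗ₜ[S] x = 0) :
    (1 : S') ∈ (LinearMap.ker (LinearMap.toSpanSingleton S P x)) • (⊤ : Submodule S S') := by
  set I : Ideal S := LinearMap.ker (LinearMap.toSpanSingleton S P x) with hI
  let φ : S ⧸ I →ₗ[S] P := I.liftQ (LinearMap.toSpanSingleton S P x) le_rfl
  have hφ : Function.Injective φ := by
    rw [← LinearMap.ker_eq_bot]
    exact Submodule.ker_liftQ_eq_bot' _ _ rfl
  have h2 := Module.Flat.lTensor_preserves_injective_linearMap (M := S') φ hφ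
  have h3 : (1 : S') ⊗ₜ[S] (Ideal.Quotient.mk I 1) = 0 := by
    apply h2
    rw [LinearMap.lTensor_tmul, map_zero]
    have : φ (Ideal.Quotient.mk I 1) = x := by
      change I.liftQ _ _ (Submodule.Quotient.mk 1) = x
      rw [Submodule.liftQ_apply]
      simp
    rw [this, hx]
  have h4 := congrArg (TensorProduct.tensorQuotEquivQuotSMul S' I) h3
  rw [TensorProduct.tensorQuotEquivQuotSMul_tmul_mk, map_zero, one_smul,
    Submodule.Quotient.mk_eq_zero] at h4
  exact h4

/-- `P → S' ⊗ P` is injective as soon as the weakly associated primes of `P` lift to `S'` -/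
theorem injective_mk_of_flat
    (hkey : ∀ x : P, x ≠ 0 → ∀ q ∈ Ideal.minimalPrimes (LinearMap.ker (LinearMap.toSpanSingleton S P x)),
      ∃ q' : Ideal S', q'.IsPrime ∧ q'.comap (algebraMap S S') = q) :
    Function.Injective (TensorProduct.mk S S' P 1) := by
  rw [injective_iff_map_eq_zero]
  intro x hx
  by_contra hx0
  have h1 := one_mem_of_one_tmul_eq_zero S' x hx
  set I : Ideal S := LinearMap.ker (LinearMap.toSpanSingleton S P x) with hI
  have hItop : I ≠ ⊤ := by
    intro h
    have h1 : (1 : S) ∈ I := by rw [h]; exact Submodule.mem_top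
    have h2 : LinearMap.toSpanSingleton S P x 1 = 0 := h1
    apply hx0
    simpa using h2
  obtain ⟨⟨q, hq⟩⟩ := Ideal.nonempty_minimalPrimes hItop
  obtain ⟨q'', hq''p, hq''⟩ := hkey x hx0 q hq
  have h2 : I • (⊤ : Submodule S S') ≤ q''.restrictScalars S := by
    rw [Submodule.smul_le]
    intro a ha s' _
    have : a ∈ q''.comap (algebraMap S S') := by
      rw [hq'']
      exact hq.1.2 ha
    rw [Submodule.restrictScalars_mem, Algebra.smul_def]
    exact q''.mul_mem_right _ this
  exact hq''p.ne_top ((Ideal.eq_top_iff_one _).mpr (h2 h1))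

end flat

section main

variable {R S : Type u} [CommRing R] [CommRing S] [Algebra R S] [Algebra.FinitePresentation R S]
  (N : Type u) [AddCommGroup N] [Module S N] [Module R N] [IsScalarTower R S N]
  [Module.FinitePresentation S N] [Module.Flat R N]

omit [Algebra.FinitePresentation R S] [Module.FinitePresentation S N] [Module.Flat R N] in
theorem comm_lTensor_lsmul (Q : Type u) [AddCommGroup Q] [Module R Q] (s : S) (z : Q ⊗[R] N) :
    TensorProduct.comm R Q N (((LinearMap.lsmul S N s).restrictScalars R).lTensor Q z) =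
      s • (TensorProduct.comm R Q N z) := by
  induction z using TensorProduct.induction_on with
  | zero => simp
  | add a b ha hb => simp only [map_add, ha, hb, smul_add]
  | tmul a n =>
    rw [LinearMap.lTensor_tmul, TensorProduct.comm_tmul, TensorProduct.comm_tmul,
      TensorProduct.smul_tmul']
    rfl

/-- **Weakly associated primes of `N ⊗ Q` give associated primes of the fibres of `N`.** -/
theorem fiberIdeal_mem_associatedPrimes_of_mem_minimalPrimes
    (Q : Type u) [AddCommGroup Q] [Module R Q] (y : N ⊗[R] Q)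
    (p : Ideal R) [p.IsPrime] (q : Ideal S) [q.IsPrime] [q.LiesOver p]
    (hq : q ∈ Ideal.minimalPrimes (LinearMap.ker (LinearMap.toSpanSingleton S (N ⊗[R] Q) y))) :
    FlatCA.fiberIdeal p q ∈ associatedPrimes (p.Fiber S) (FlatCA.fiberMod p S N) := by
  by_contra hq'
  haveI : IsNoetherianRing (p.Fiber S) :=
    Algebra.FiniteType.isNoetherianRing p.ResidueField (p.Fiber S)
  haveI : Module.Finite (p.Fiber S) (FlatCA.fiberMod p S N) :=
    Module.Finite.base_change S (p.Fiber S) N
  obtain ⟨t, htq, ht⟩ := exists_fibre_cond p S N q hq'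
  have hp : p = q.comap (algebraMap R S) := Ideal.LiesOver.over (p := p) (P := q)
  rw [hp] at ht
  -- the key property on `N ⊗ Q`
  have hstar : ∀ w : N ⊗[R] Q, t • w = 0 → ∃ τ ∈ q.primeCompl, τ • w = 0 := by
    intro w hw
    have h1 : ((LinearMap.lsmul S N t).restrictScalars R).lTensor Q
        (TensorProduct.comm R N Q w) = 0 := by
      apply (TensorProduct.comm R Q N).injective
      rw [comm_lTensor_lsmul, map_zero]
      have : (TensorProduct.comm R Q N) ((TensorProduct.comm R N Q) w) = w :=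
        (TensorProduct.comm R N Q).symm_apply_apply w
      rw [this, hw]
    obtain ⟨τ, hτ, h2⟩ := exists_lsmul_eq_zero_of_lsmul_eq_zero N q t ht Q _ h1
    refine ⟨τ, hτ, ?_⟩
    have h3 := congrArg (TensorProduct.comm R Q N) h2
    rw [comm_lTensor_lsmul, map_zero] at h3
    have : (TensorProduct.comm R Q N) ((TensorProduct.comm R N Q) w) = w :=
      (TensorProduct.comm R N Q).symm_apply_apply w
    rwa [this] at h3
  have hpow : ∀ n : ℕ, ∀ w : N ⊗[R] Q, t ^ n • w = 0 → ∃ τ ∈ q.primeCompl, τ • w = 0 := by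
    intro n
    induction n with
    | zero =>
      intro w hw
      exact ⟨1, q.primeCompl.one_mem, by simpa using hw⟩
    | succ n ih =>
      intro w hw
      have h1 : t • (t ^ n • w) = 0 := by rw [smul_smul, ← pow_succ']; exact hw
      obtain ⟨τ₁, hτ₁, h2⟩ := hstar _ h1
      have h3 : t ^ n • (τ₁ • w) = 0 := by rw [smul_comm]; exact h2
      obtain ⟨τ₂, hτ₂, h4⟩ := ih _ h3
      exact ⟨τ₂ * τ₁, q.primeCompl.mul_mem hτ₂ hτ₁, by rw [mul_smul]; exact h4⟩
  obtain ⟨σ, hσ, n, hn⟩ := exists_mul_pow_mem_of_mem_minimalPrimes hq htq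
  have h5 : (σ * t ^ n) • y = 0 := by
    have : LinearMap.toSpanSingleton S (N ⊗[R] Q) y (σ * t ^ n) = 0 := hn
    simpa using this
  have h6 : t ^ n • (σ • y) = 0 := by rw [smul_smul, mul_comm]; exact h5
  obtain ⟨τ, hτ, h7⟩ := hpow n _ h6
  have h8 : τ * σ ∈ LinearMap.ker (LinearMap.toSpanSingleton S (N ⊗[R] Q) y) := by
    rw [LinearMap.mem_ker, LinearMap.toSpanSingleton_apply, mul_smul]
    exact h7
  exact q.primeCompl.mul_mem hτ hσ (hq.1.2 h8)

end main


section univ

variable {R S S' : Type u} [CommRing R] [CommRing S] [CommRing S'] [Algebra R S] [Algebra S S']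
  [Algebra R S'] [IsScalarTower R S S']
  (N : Type u) [AddCommGroup N] [Module S N] [Module R N] [IsScalarTower R S N]

theorem univInj_of_injective_mk
    (hinj : ∀ (Q : Type u) [AddCommGroup Q] [Module R Q],
      Function.Injective (TensorProduct.mk S S' (N ⊗[R] Q) 1)) :
    FlatCA.UnivInj R ((TensorProduct.mk S S' N 1).restrictScalars R) := by
  intro Q _ _
  have hcomp : ∀ z : Q ⊗[R] N,
      (AlgebraTensorModule.assoc R S S S' N Q) (TensorProduct.comm R Q (S' ⊗[S] N)
        (((TensorProduct.mk S S' N 1).restrictScalars R).lTensor Q z)) =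
      TensorProduct.mk S S' (N ⊗[R] Q) 1 (TensorProduct.comm R Q N z) := by
    intro z
    induction z using TensorProduct.induction_on with
    | zero => simp
    | add a b ha hb => simp only [map_add, ha, hb]
    | tmul q n => simp
  intro z1 z2 h
  apply (TensorProduct.comm R Q N).injective
  apply hinj Q
  rw [← hcomp, ← hcomp, h]

end univ

end Groth.Agent.H1.WeakAssFibre
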