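import Mathlib

/-! Weakly étale morphisms are formally unramified (helper1) -/

universe u
open AlgebraicGeometry CategoryTheory Limits MorphismProperty TensorProduct

namespace Groth.Agent.H1

/-- If `A ⧸ I` is flat over `A` then `I` is idempotent (`I / I² = Tor₁(A/I, A/I) = 0`). -/
lemma subsingleton_cotangent_of_flat_quotient {A : Type*} [CommRing A] (I : Ideal A)
    [Module.Flat A (A ⧸ I)] : Subsingleton I.Cotangent := by
  have hinj : Function.Injective (I.subtype.rTensor (A ⧸ I)) :=
    Module.Flat.rTensor_preserves_injective_linearMap _ Subtype.val_injective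
  refine subsingleton_of_forall_eq 0 fun x => ?_
  obtain ⟨x, rfl⟩ := Ideal.toCotangent_surjective _ x
  -- `x ⊗ 1 = 0`
  have h0 : (x ⊗ₜ[A] (1 : A ⧸ I) : I ⊗[A] (A ⧸ I)) = 0 := by
    apply hinj
    rw [map_zero, LinearMap.rTensor_tmul]
    change (x : A) ⊗ₜ[A] (1 : A ⧸ I) = 0
    have : (x : A) ⊗ₜ[A] (1 : A ⧸ I) = (1 : A) ⊗ₜ[A] ((x : A) • (1 : A ⧸ I)) := by
      rw [← smul_tmul, smul_eq_mul, mul_one]
    rw [this, Algebra.smul_def, mul_one, Ideal.Quotient.algebraMap_eq,
      Ideal.Quotient.eq_zero_iff_mem.mpr x.2, tmul_zero]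
  have h1 := congrArg (TensorProduct.tensorQuotEquivQuotSMul (↥I) I) h0
  rw [map_zero, ← map_one (Ideal.Quotient.mk I),
    TensorProduct.tensorQuotEquivQuotSMul_tmul_mk, one_smul] at h1
  exact h1

/-- A surjective flat ring hom has idempotent kernel. -/
lemma subsingleton_cotangent_ker_of_flat {A B : Type*} [CommRing A] [CommRing B] (F : A →+* B)
    (hF : Function.Surjective F) (hflat : F.Flat) : Subsingleton (RingHom.ker F).Cotangent := by
  algebraize [F]
  have : Module.Flat A B := hflat
  have e : (A ⧸ RingHom.ker F) ≃ₐ[A] B :=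
    Ideal.quotientKerAlgEquivOfSurjective (f := Algebra.ofId A B) hF
  have : Module.Flat A (A ⧸ RingHom.ker F) := Module.Flat.of_linearEquiv e.toLinearEquiv
  exact subsingleton_cotangent_of_flat_quotient _

end Groth.Agent.H1

namespace Groth.Agent.H1

set_option backward.isDefEq.respectTransparency.types false in
theorem formallyUnramified_of_flat_diagonal {X Y : Scheme.{u}} (f : X ⟶ Y)
    [Flat (pullback.diagonal f)] : FormallyUnramified f := by
  wlog hY : ∃ R, Y = Spec R
  · rw [IsZariskiLocalAtTarget.iff_of_openCover (P := @FormallyUnramified) Y.affineCover]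
    intro i
    have inst : Flat (pullback.diagonal (pullback.snd f (Y.affineCover.f i))) :=
      MorphismProperty.pullback_snd (P := .diagonal @Flat) _ _ ‹_›
    exact this (pullback.snd _ _) ⟨_, rfl⟩
  obtain ⟨R, rfl⟩ := hY
  wlog hX : ∃ S, X = Spec S generalizing X
  · rw [IsZariskiLocalAtSource.iff_of_openCover (P := @FormallyUnramified) X.affineCover]
    intro i
    have inst : Flat (pullback.diagonal (X.affineCover.f i ≫ f)) :=
      MorphismProperty.comp_mem (.diagonal @Flat) _ _
        (inferInstanceAs (Flat (pullback.diagonal (X.affineCover.f i)))) ‹_›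
    exact this (_ ≫ _) ⟨_, rfl⟩
  obtain ⟨S, rfl⟩ := hX
  obtain ⟨φ, rfl : Spec.map φ = f⟩ := Spec.homEquiv.symm.surjective f
  rw [HasRingHomProperty.Spec_iff (P := @FormallyUnramified)]
  algebraize [φ.hom]
  let F := (Algebra.TensorProduct.lmul' R (S := S)).toRingHom
  have hF : Function.Surjective F := fun x ↦ ⟨.mk _ _ _ x 1, by simp [F]⟩
  have : Flat (Spec.map (CommRingCat.ofHom F)) := by
    rwa [← MorphismProperty.cancel_right_of_respectsIso (P := @Flat) _
      (pullbackSpecIso R S S).inv, ← AlgebraicGeometry.diagonal_SpecMap R S]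
  have hflat : F.Flat := (HasRingHomProperty.Spec_iff (P := @Flat)).mp this
  have := subsingleton_cotangent_ker_of_flat F hF hflat
  exact ⟨this⟩

end Groth.Agent.H1
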