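import Mathlib
import Groth.Agent.Lib.Helper1.ImgDim
import Groth.Agent.Lib.Helper1.CycDim
import Groth.Agent.Lib.Helper9.Misc.CLO5
import Groth.Agent.Lib.Helper9.Misc.ORB6
import Groth.Agent.Lib.Helper9.Misc.ORB3

/-! Well-intersecting closed subsets with respect to a morphism of schemes of finite type over a
field (helper1): S14483, S14484. -/

set_option autoImplicit false
set_option linter.style.haveILetI false
universe u

open CategoryTheory CategoryTheory.Limits AlgebraicGeometry TopologicalSpace Topology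

namespace Groth.Agent.H1.WellInt

section Arith

theorem exists_coe_of_zero_le (d : WithBot ℕ∞) (h : 0 ≤ d) :
    ∃ e : ℕ∞, d = (e : WithBot ℕ∞) := by
  induction d using WithBot.recBotCoe with
  | bot => exact absurd h (not_le.mpr (WithBot.bot_lt_coe (0 : ℕ∞)))
  | coe e => exact ⟨e, rfl⟩

theorem arith (dW dS dY dZ : WithBot ℕ∞) (n : ℕ) (hY0 : 0 ≤ dY) (hYn : dY ≤ n) (hZ0 : 0 ≤ dZ)
    (h1 : dY ≤ dW) (h2 : dW + dS ≤ dY + dZ) (h3 : dZ < dS) : False := by
  obtain ⟨eY, rfl⟩ := exists_coe_of_zero_le dY hY0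
  obtain ⟨eZ, rfl⟩ := exists_coe_of_zero_le dZ hZ0
  obtain ⟨eW, rfl⟩ := exists_coe_of_zero_le dW (hY0.trans h1)
  obtain ⟨eS, rfl⟩ := exists_coe_of_zero_le dS (hZ0.trans h3.le)
  have hYn' : eY ≤ (n : ℕ∞) := by exact_mod_cast hYn
  have h1' : eY ≤ eW := by exact_mod_cast h1
  have h2' : eW + eS ≤ eY + eZ := by exact_mod_cast h2
  have h3' : eZ < eS := by exact_mod_cast h3
  obtain ⟨a, rfl, -⟩ := ENat.le_natCast_iff.mp hYn'
  obtain ⟨m, rfl⟩ := ENat.ne_top_iff_exists.mp (ne_top_of_lt h3')
  have hfin : eW + eS ≤ ((a + m : ℕ) : ℕ∞) := by exact_mod_cast h2'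
  obtain ⟨w, rfl, -⟩ := ENat.le_natCast_iff.mp (le_self_add.trans hfin)
  obtain ⟨s, rfl, -⟩ := ENat.le_natCast_iff.mp (le_add_self.trans hfin)
  norm_cast at h1' h2' h3'
  omega

end Arith

section Top

theorem isConstructible_of_isClosed {B : Type*} [TopologicalSpace B] [NoetherianSpace B]
    {s : Set B} (hs : IsClosed s) : IsConstructible s :=
  isConstructible_compl.mp ((NoetherianSpace.isCompact sᶜ).isConstructible hs.isOpen_compl)

/-- a constructible subset of the closure of a point, dense in it, contains the point. -/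
theorem mem_of_isConstructible_of_dense {B : Type*} [TopologicalSpace B] [NoetherianSpace B]
    (C : Set B) (hC : IsConstructible C) (b : B) (hb : b ∈ closure C)
    (hCb : C ⊆ closure {b}) : b ∈ C := by
  have hTc : IsClosed (closure ({b} : Set B)) := isClosed_closure
  have hTi : IsIrreducible (closure ({b} : Set B)) := isIrreducible_singleton.closure
  haveI : IrreducibleSpace ↥(closure ({b} : Set B)) := Subtype.irreducibleSpace hTi
  have hcons' : IsConstructible ((Subtype.val : ↥(closure ({b} : Set B)) → B) ⁻¹' C) :=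
    hC.preimage_of_isClosedEmbedding hTc.isClosedEmbedding_subtypeVal
      (NoetherianSpace.isCompact _)
  have hgen : ∀ U : Set ↥(closure ({b} : Set B)), IsOpen U → U.Nonempty →
      (⟨b, subset_closure rfl⟩ : ↥(closure ({b} : Set B))) ∈ U := by
    rintro U hU ⟨u, hu⟩
    obtain ⟨U', hU', rfl⟩ := isOpen_induced_iff.mp hU
    have hu2 : u.1 ∈ closure ({b} : Set B) := u.2
    obtain ⟨y, hyU, hy⟩ := mem_closure_iff.mp hu2 U' hU' hu
    rw [Set.mem_singleton_iff] at hy
    rw [hy] at hyU
    exact hyU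
  rcases ImgDim.exists_isOpen_subset_or_subset_compl hcons' with
    ⟨U, hU, hne, hsub⟩ | ⟨U, hU, hne, hsub⟩
  · exact hsub (hgen U hU hne)
  · exfalso
    obtain ⟨U', hU', rfl⟩ := isOpen_induced_iff.mp hU
    have hbU : b ∈ U' := hgen _ hU hne
    obtain ⟨c, hcU, hcC⟩ := mem_closure_iff.mp hb U' hU' hbU
    exact hsub (show (⟨c, hCb hcC⟩ : ↥(closure ({b} : Set B))) ∈ Subtype.val ⁻¹' U' from hcU) hcC

end Top

section PI

set_option backward.isDefEq.respectTransparency.types false in
set_option backward.defeqAttrib.useBackward true in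
/-- pointwise version of "surjective diagonal ⇒ purely inseparable residue field extensions". -/
theorem isPurelyInseparable_of_forall_mem_range_diagonal {X Y : Scheme.{u}} (f : X ⟶ Y) (x : X)
    (hf : ∀ z : ↥(pullback f f), pullback.fst f f z = x → pullback.snd f f z = x →
      z ∈ Set.range (pullback.diagonal f)) :
    (f.residueFieldMap x).hom.IsPurelyInseparable := by
  algebraize [(f.residueFieldMap x).hom]
  rw [RingHom.IsPurelyInseparable, isPurelyInseparable_iff_subsingleton_emb, subsingleton_iff]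
  intro σ₁ σ₂
  apply AlgHom.coe_ringHom_injective
  let g₁ := (X.SpecToEquivOfField _).symm ⟨_, CommRingCat.ofHom σ₁.toRingHom⟩
  let g₂ := (X.SpecToEquivOfField _).symm ⟨_, CommRingCat.ofHom σ₂.toRingHom⟩
  suffices X.SpecToEquivOfField _ g₁ = X.SpecToEquivOfField _ g₂ by
    rw [Equiv.apply_symm_apply, Equiv.apply_symm_apply] at this
    exact congr($(this).2.hom)
  let q := pullback.lift (f := f) (g := f) g₁ g₂ <| by
    simp only [g₁, g₂, Scheme.SpecToEquivOfField_symm_apply, AlgHom.toRingHom_eq_coe,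
      Category.assoc, ← f.SpecMap_residueFieldMap_fromSpecResidueField x, ← Spec.map_comp_assoc]
    congr 2
    ext a
    simp only [CommRingCat.hom_comp, RingHom.comp_apply]
    exact (AlgHom.commutes σ₁ a).trans (AlgHom.commutes σ₂ a).symm
  have q_fst : q ≫ pullback.fst f f = g₁ := pullback.lift_fst _ _ _
  have q_snd : q ≫ pullback.snd f f = g₂ := pullback.lift_snd _ _ _
  rw [Scheme.SpecToEquivOfField_eq_iff, ← q_fst, ← q_snd]
  have hq1 : pullback.fst f f (q (IsLocalRing.closedPoint _)) = x := by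
    rw [← Scheme.Hom.comp_apply, q_fst]
    simp [Scheme.SpecToEquivOfField_symm_apply, g₁]
  have hq2 : pullback.snd f f (q (IsLocalRing.closedPoint _)) = x := by
    rw [← Scheme.Hom.comp_apply, q_snd]
    simp [Scheme.SpecToEquivOfField_symm_apply, g₂]
  obtain ⟨u, hu⟩ := hf (q (IsLocalRing.closedPoint _)) hq1 hq2
  have hux : u = x := by
    have := congr(pullback.fst f f $(hu))
    rw [← Scheme.Hom.comp_apply, ← Scheme.Hom.comp_apply] at this
    simpa [Scheme.SpecToEquivOfField_symm_apply, q_fst, g₁] using this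
  refine ⟨by simp [g₁, g₂, q_fst, q_snd], ?_⟩
  dsimp
  simp only [Scheme.descResidueField_stalkClosedPointTo_comp, ← Category.assoc]
  congr 1
  rw [← cancel_mono (Scheme.residueFieldCongr (hux ▸ hu).symm).hom]
  have : Mono (Scheme.Hom.residueFieldMap (pullback.diagonal f) x) :=
    ConcreteCategory.mono_of_injective _ (RingHom.injective _)
  simp [← cancel_mono ((pullback.diagonal f).residueFieldMap x), ← Scheme.residueFieldMap_comp,
    (pullback.fst f f).residueFieldMap_congr', (pullback.snd f f).residueFieldMap_congr'_assoc,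
    Scheme.Hom.residueFieldMap_congr (pullback.diagonal_snd f),
    Scheme.Hom.residueFieldMap_congr (pullback.diagonal_fst f)]

end PI

section Sch

variable {k : Type u} [Field k] {X S : Scheme.{u}} (q : S ⟶ Spec (CommRingCat.of k)) (f : X ⟶ S)

/-- the off-diagonal part of `Y ×_S Z`. -/
def W (Y Z : Set X) : Set ↥(pullback f f) :=
  {p | pullback.fst f f p ∈ Y ∧ pullback.snd f f p ∈ Z ∧ p ∉ Set.range (pullback.diagonal f)}

theorem isLocallyClosed_W [IsSeparated f] {Y Z : Set X} (hY : IsClosed Y) (hZ : IsClosed Z) :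
    IsLocallyClosed (W f Y Z) := by
  refine ⟨(Set.range (pullback.diagonal f))ᶜ,
    (pullback.fst f f) ⁻¹' Y ∩ (pullback.snd f f) ⁻¹' Z, ?_, ?_, ?_⟩
  · exact (pullback.diagonal f).isClosedEmbedding.isClosed_range.isOpen_compl
  · exact (hY.preimage (pullback.fst f f).continuous).inter
      (hZ.preimage (pullback.snd f f).continuous)
  · ext p
    simp only [W, Set.mem_ofPred_eq, Set.mem_inter_iff, Set.mem_compl_iff, Set.mem_preimage]
    tauto

theorem dim_closure_fst_le [LocallyOfFiniteType q] [LocallyOfFiniteType f] [IsSeparated f]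
    {Y Z : Set X} (hY : IsClosed Y) (hZ : IsClosed Z)
    (w : ↥(pullback f f)) (hw : w ∈ W f Y Z) :
    topologicalKrullDim ↥(closure ({pullback.fst f f w} : Set X)) ≤
      topologicalKrullDim ↥(W f Y Z) := by
  have h1 := Groth.Agent.H9.CLO.dim_closure_map_le (f ≫ q) (pullback.fst f f ≫ f ≫ q)
    (pullback.fst f f) rfl w
  have h2 := Groth.Agent.H9.ORB6.dim_closure_le_of_mem (pullback.fst f f ≫ f ≫ q) (W f Y Z)
    (isLocallyClosed_W f hY hZ) w hw
  exact h1.trans h2

theorem exists_mem_W {Y Z : Set X} (x z : X) (hx : x ∈ Y) (hz : z ∈ Z) (hxz : f x = f z)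
    (hne : x ≠ z) : ∃ w ∈ W f Y Z, pullback.fst f f w = x := by
  obtain ⟨w, hw1, hw2⟩ := Scheme.Pullback.exists_preimage_pullback (f := f) (g := f) x z hxz
  refine ⟨w, ⟨by rw [hw1]; exact hx, by rw [hw2]; exact hz, ?_⟩, hw1⟩
  rintro ⟨u, rfl⟩
  apply hne
  have e1 : pullback.fst f f (pullback.diagonal f u) = u := by
    rw [← Scheme.Hom.comp_apply, pullback.diagonal_fst]; rfl
  have e2 : pullback.snd f f (pullback.diagonal f u) = u := by
    rw [← Scheme.Hom.comp_apply, pullback.diagonal_snd]; rfl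
  rw [← hw1, ← hw2, e1, e2]

theorem exists_specializes_W [IsSeparated f] [NoetherianSpace ↥(pullback f f)] {Y Z : Set X}
    (hY : IsClosed Y) (hZ : IsClosed Z) (x : X)
    (hx : x ∈ closure (pullback.fst f f '' W f Y Z)) :
    ∃ w ∈ W f Y Z, pullback.fst f f w ⤳ x := by
  have hO : IsOpen (Set.range (pullback.diagonal f))ᶜ :=
    (pullback.diagonal f).isClosedEmbedding.isClosed_range.isOpen_compl
  haveI : QuasiSober ↥((Set.range (pullback.diagonal f))ᶜ) :=
    hO.isOpenEmbedding_subtypeVal.quasiSober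
  let e : ↥((Set.range (pullback.diagonal f))ᶜ) → X := fun a => pullback.fst f f a.1
  have he : Continuous e := (pullback.fst f f).continuous.comp continuous_subtype_val
  let F : Set ↥((Set.range (pullback.diagonal f))ᶜ) :=
    {a | pullback.fst f f a.1 ∈ Y ∧ pullback.snd f f a.1 ∈ Z}
  have hF : IsClosed F := by
    have h1 : IsClosed {a : ↥((Set.range (pullback.diagonal f))ᶜ) | pullback.fst f f a.1 ∈ Y} :=
      hY.preimage he
    have h2 : IsClosed {a : ↥((Set.range (pullback.diagonal f))ᶜ) | pullback.snd f f a.1 ∈ Z} :=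
      hZ.preimage ((pullback.snd f f).continuous.comp continuous_subtype_val)
    exact h1.inter h2
  have heq : e '' F = pullback.fst f f '' W f Y Z := by
    ext y
    constructor
    · rintro ⟨a, ⟨ha1, ha2⟩, rfl⟩
      exact ⟨a.1, ⟨ha1, ha2, a.2⟩, rfl⟩
    · rintro ⟨w, ⟨hw1, hw2, hw3⟩, rfl⟩
      exact ⟨⟨w, hw3⟩, ⟨hw1, hw2⟩, rfl⟩
  rw [← heq] at hx
  obtain ⟨a, ⟨ha1, ha2⟩, hsp⟩ := CycDim.exists_specializes_of_mem_closure_image he hF hx
  exact ⟨a.1, ⟨ha1, ha2, a.2⟩, hsp⟩

variable [LocallyOfFiniteType q] [LocallyOfFiniteType f] [IsSeparated f] [CompactSpace S]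
  [CompactSpace X]

include q f in
theorem exists_dim_bounds (Y : Set X) (hYi : IsIrreducible Y) :
    ∃ n : ℕ, 0 ≤ topologicalKrullDim ↥Y ∧ topologicalKrullDim ↥Y ≤ n := by
  haveI : IsLocallyNoetherian X := LocallyOfFiniteType.isLocallyNoetherian (f ≫ q)
  haveI : IsNoetherian X := {}
  haveI : QuasiCompact (f ≫ q) := inferInstance
  obtain ⟨n, hn⟩ := Groth.Agent.H9.ORB3.exists_nat_dim_le (f ≫ q)
  haveI : Nonempty ↥Y := hYi.nonempty.to_subtype
  exact ⟨n, Groth.Agent.H3.TopDim.dim_nonneg, (topologicalKrullDim_subspace_le X Y).trans hn⟩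

include q in
theorem s14484 (Y Z : Set X) (hYc : IsClosed Y) (hYi : IsIrreducible Y) (hZc : IsClosed Z)
    (hZi : IsIrreducible Z)
    (hWI : topologicalKrullDim {p : ↥(pullback f f) | pullback.fst f f p ∈ Y ∧
      pullback.snd f f p ∈ Z ∧ p ∉ Set.range (pullback.diagonal f)} + topologicalKrullDim S ≤
        topologicalKrullDim Y + topologicalKrullDim Z)
    (hZS : topologicalKrullDim Z < topologicalKrullDim S)
    (hYZ : ¬ Y ⊆ Z) :
    ¬ (f.base '' Y ⊆ closure (f.base '' Y ∩ f.base '' Z)) ∧ ¬ (f.base '' Y ⊆ f.base '' Z) := by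
  have key : ¬ (f.base '' Y ⊆ closure (f.base '' Y ∩ f.base '' Z)) := by
    intro hsub
    haveI : IsLocallyNoetherian S := LocallyOfFiniteType.isLocallyNoetherian q
    haveI : IsNoetherian S := {}
    haveI : IsLocallyNoetherian X := LocallyOfFiniteType.isLocallyNoetherian (f ≫ q)
    haveI : IsNoetherian X := {}
    obtain ⟨η, hη⟩ : ∃ η : X, closure ({η} : Set X) = Y :=
      ⟨hYi.genericPoint, (hYi.isGenericPoint_genericPoint hYc).def⟩
    have hηY : η ∈ Y := by rw [← hη]; exact subset_closure rfl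
    have hηZ : η ∉ Z := by
      intro h
      apply hYZ
      rw [← hη]
      exact closure_minimal (Set.singleton_subset_iff.mpr h) hZc
    have hconsY : IsConstructible (f.base '' Y) :=
      f.isConstructible_image (isConstructible_of_isClosed hYc)
    have hconsZ : IsConstructible (f.base '' Z) :=
      f.isConstructible_image (isConstructible_of_isClosed hZc)
    have hfη : f.base η ∈ f.base '' Y ∩ f.base '' Z := by
      apply mem_of_isConstructible_of_dense _ (hconsY.inter hconsZ) (f.base η)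
        (hsub ⟨η, hηY, rfl⟩)
      rintro _ ⟨⟨y, hy, rfl⟩, -⟩
      have hsp : η ⤳ y := specializes_iff_mem_closure.mpr (by rw [hη]; exact hy)
      exact specializes_iff_mem_closure.mp (hsp.map f.continuous)
    obtain ⟨z, hzZ, hz⟩ := hfη.2
    have hne : η ≠ z := fun h => hηZ (h ▸ hzZ)
    obtain ⟨w, hwW, hw⟩ := exists_mem_W f η z hηY hzZ hz.symm hne
    have h1 := dim_closure_fst_le q f hYc hZc w hwW
    rw [hw, hη] at h1
    obtain ⟨n, hY0, hYn⟩ := exists_dim_bounds q f Y hYi
    obtain ⟨-, hZ0, -⟩ := exists_dim_bounds q f Z hZi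
    exact arith _ _ _ _ n hY0 hYn hZ0 h1 hWI hZS
  refine ⟨key, fun h => key ?_⟩
  rw [Set.inter_eq_left.mpr h]
  exact subset_closure

include q in
theorem s14483 (Y : Set X) (hYc : IsClosed Y) (hYi : IsIrreducible Y)
    (hWI : topologicalKrullDim {p : ↥(pullback f f) | pullback.fst f f p ∈ Y ∧
      pullback.snd f f p ∈ Y ∧ p ∉ Set.range (pullback.diagonal f)} + topologicalKrullDim S ≤
        topologicalKrullDim Y + topologicalKrullDim Y)
    (hYS : topologicalKrullDim Y < topologicalKrullDim S) :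
    ∃ V : Set X, IsOpen V ∧ (V ∩ Y).Nonempty ∧ Set.InjOn f.base (V ∩ Y) ∧
      ∀ x ∈ V ∩ Y, (f.residueFieldMap x).hom.IsPurelyInseparable := by
  haveI : IsLocallyNoetherian S := LocallyOfFiniteType.isLocallyNoetherian q
  haveI : IsNoetherian S := {}
  haveI : IsLocallyNoetherian X := LocallyOfFiniteType.isLocallyNoetherian (f ≫ q)
  haveI : IsNoetherian X := {}
  haveI : IsLocallyNoetherian (pullback f f) :=
    LocallyOfFiniteType.isLocallyNoetherian (pullback.fst f f ≫ f ≫ q)
  haveI : IsNoetherian (pullback f f) := {}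
  obtain ⟨η, hη⟩ : ∃ η : X, closure ({η} : Set X) = Y :=
    ⟨hYi.genericPoint, (hYi.isGenericPoint_genericPoint hYc).def⟩
  have hηY : η ∈ Y := by rw [← hη]; exact subset_closure rfl
  obtain ⟨n, hY0, hYn⟩ := exists_dim_bounds q f Y hYi
  have hηW : η ∉ closure (pullback.fst f f '' W f Y Y) := by
    intro hmem
    obtain ⟨w, hwW, hsp⟩ := exists_specializes_W f hYc hYc η hmem
    have h2 : η ⤳ pullback.fst f f w :=
      specializes_iff_mem_closure.mpr (by rw [hη]; exact hwW.1)
    have heq : pullback.fst f f w = η := (hsp.antisymm h2).eq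
    have h1 := dim_closure_fst_le q f hYc hYc w hwW
    rw [heq, hη] at h1
    exact arith _ _ _ _ n hY0 hYn hY0 h1 hWI hYS
  refine ⟨(closure (pullback.fst f f '' W f Y Y))ᶜ, isClosed_closure.isOpen_compl,
    ⟨η, hηW, hηY⟩, ?_, ?_⟩
  · intro x hx x' hx' hxx'
    by_contra hne
    obtain ⟨w, hwW, hw⟩ := exists_mem_W f x x' hx.2 hx'.2 hxx' hne
    exact hx.1 (subset_closure ⟨w, hwW, hw⟩)
  · intro x hx
    apply isPurelyInseparable_of_forall_mem_range_diagonal f x
    intro z hz1 hz2
    by_contra hz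
    exact hx.1 (subset_closure ⟨z, ⟨by rw [hz1]; exact hx.2, by rw [hz2]; exact hx.2, hz⟩, hz1⟩)

end Sch

end Groth.Agent.H1.WellInt
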