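import Mathlib
import Groth.Agent.Lib.Helper1.WellInt
import Groth.Agent.Lib.Helper1.FibDimTot
import Groth.Agent.Lib.Helper1.UOVal
import Groth.Agent.Lib.Helper1.RelDim

/-! Well-intersection is invariant under faithfully flat base change with fibres of constant
dimension (helper1): S14485. -/

set_option autoImplicit false
set_option linter.style.haveILetI false
universe u

open CategoryTheory CategoryTheory.Limits AlgebraicGeometry TopologicalSpace Topology

namespace Groth.Agent.H1.WellInt

section SupLC

theorem quasiSober_of_isLocallyClosed {T : Type*} [TopologicalSpace T] [QuasiSober T]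
    {O : Set T} (hO : IsLocallyClosed O) : QuasiSober ↥O := by
  obtain ⟨U, C, hU, hC, rfl⟩ := hO
  haveI : QuasiSober ↥C := hC.isClosedEmbedding_subtypeVal.quasiSober
  have hsub : U ∩ C ⊆ C := Set.inter_subset_right
  have hemb : IsOpenEmbedding (Set.inclusion hsub) := by
    refine ⟨Topology.IsEmbedding.inclusion hsub, ?_⟩
    have : Set.range (Set.inclusion hsub) = (Subtype.val : ↥C → T) ⁻¹' U := by
      ext c
      constructor
      · rintro ⟨a, rfl⟩
        exact a.2.1
      · intro hc
        exact ⟨⟨c.1, hc, c.2⟩, rfl⟩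
    rw [this]
    exact hU.preimage continuous_subtype_val
  exact hemb.quasiSober

/-- the dimension of a locally closed subset is bounded by the dimensions of the closures of its
points. -/
theorem dim_le_of_forall_closure_le {T : Type*} [TopologicalSpace T] [QuasiSober T] [T0Space T]
    (O : Set T) (hO : IsLocallyClosed O) (c : WithBot ℕ∞)
    (h : ∀ x ∈ O, topologicalKrullDim ↥(closure ({x} : Set T)) ≤ c) :
    topologicalKrullDim ↥O ≤ c := by
  haveI : QuasiSober ↥O := quasiSober_of_isLocallyClosed hO
  rw [FibDimTot.dim_eq_iSup_closure (T := ↥O)]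
  apply iSup_le
  intro x
  have h1 : closure ({x} : Set ↥O) = Subtype.val ⁻¹' closure ({x.1} : Set T) := by
    rw [Topology.IsInducing.subtypeVal.closure_eq_preimage_closure_image, Set.image_singleton]
  rw [h1, RelDim.dim_preimage_eq_of_isEmbedding IsEmbedding.subtypeVal]
  exact (UOVal.dim_mono' Set.inter_subset_left).trans (h x.1 x.2)

end SupLC

section BC

/-- **dimension of preimages under a base change of a morphism with fibres of constant
dimension.** -/
theorem dim_preimage_eq_add {k : Type u} [Field k] {T T' S S' : Scheme.{u}}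
    (qT : T ⟶ Spec (CommRingCat.of k)) [LocallyOfFiniteType qT]
    (g : S' ⟶ S) [LocallyOfFiniteType g] (t : T ⟶ S) (t' : T' ⟶ S') (h' : T' ⟶ T)
    (sq : IsPullback t' h' g t) (d : ℕ) (hd : ∀ s : S, topologicalKrullDim ↥(g.fiber s) = d)
    (A : Set T) (hA : IsLocallyClosed A) :
    topologicalKrullDim ↥(h' ⁻¹' A) = topologicalKrullDim ↥A + (d : WithBot ℕ∞) := by
  haveI : LocallyOfFiniteType h' :=
    MorphismProperty.of_isPullback (P := @LocallyOfFiniteType) sq inferInstance
  have hfib : ∀ x : T, topologicalKrullDim ↥(h' ⁻¹' {x}) = d := by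
    intro x
    have e := UOVal.dim_closure_inter_fibre_bc g t t' h' sq Set.univ x
    rw [Set.preimage_univ, Set.univ_inter, Set.univ_inter,
      Set.inter_eq_left.mpr subset_closure, Set.inter_eq_left.mpr subset_closure] at e
    rw [e, FibDimTot.dim_preimage_eq_dim_fiber, hd]
  have hA' : IsLocallyClosed (h' ⁻¹' A) := hA.preimage h'.continuous
  apply le_antisymm
  · apply dim_le_of_forall_closure_le _ hA'
    intro x' hx'
    rw [FibDimTot.dim_closure_eq_add qT h' x']
    apply add_le_add
    · exact Groth.Agent.H9.ORB6.dim_closure_le_of_mem qT A hA (h' x') hx'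
    · exact (FibDimTot.dim_closure_asFiber_le h' x').trans (hfib _).le
  · have hAsup : topologicalKrullDim ↥A ≤
        ⨆ x : ↥A, topologicalKrullDim ↥(closure ({x.1} : Set T)) :=
      dim_le_of_forall_closure_le A hA _ (fun x hx =>
        le_iSup (fun x : ↥A => topologicalKrullDim ↥(closure ({x.1} : Set T))) ⟨x, hx⟩)
    rw [add_comm]
    refine (add_le_add le_rfl hAsup).trans ?_
    apply FibDimTot.nat_add_iSup_le
    rintro ⟨x, hx⟩
    obtain ⟨x', hx'x, hx'd⟩ := FibDimTot.exists_asFiber_dim_ge h' x d (hfib x).ge
    subst hx'x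
    calc (d : WithBot ℕ∞) + topologicalKrullDim ↥(closure ({h' x'} : Set T))
        ≤ topologicalKrullDim ↥(closure ({h'.asFiber x'} : Set ↥(h'.fiber (h' x')))) +
            topologicalKrullDim ↥(closure ({h' x'} : Set T)) := add_le_add hx'd le_rfl
      _ = topologicalKrullDim ↥(closure ({x'} : Set T')) := by
          rw [FibDimTot.dim_closure_eq_add qT h' x', add_comm]
      _ ≤ _ := Groth.Agent.H9.ORB6.dim_closure_le_of_mem (h' ≫ qT) (h' ⁻¹' A) hA' x' hx

end BC

section Squares

variable {X S S' : Scheme.{u}} (f : X ⟶ S) (g : S' ⟶ S)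

/-- the natural map `X' ×_{S'} X' ⟶ X ×_S X`, for `X' = X ×_S S'`. -/
noncomputable def phi : pullback (pullback.snd f g) (pullback.snd f g) ⟶ pullback f f :=
  pullback.lift (pullback.fst _ _ ≫ pullback.fst f g) (pullback.snd _ _ ≫ pullback.fst f g) (by
    have h1 : pullback.fst f g ≫ f = pullback.snd f g ≫ g := pullback.condition
    have h2 : pullback.fst (pullback.snd f g) (pullback.snd f g) ≫ pullback.snd f g =
        pullback.snd (pullback.snd f g) (pullback.snd f g) ≫ pullback.snd f g :=
      pullback.condition
    rw [Category.assoc, Category.assoc, h1, ← Category.assoc, h2, Category.assoc])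

theorem phi_fst : phi f g ≫ pullback.fst f f =
    pullback.fst (pullback.snd f g) (pullback.snd f g) ≫ pullback.fst f g :=
  pullback.lift_fst _ _ _

theorem phi_snd : phi f g ≫ pullback.snd f f =
    pullback.snd (pullback.snd f g) (pullback.snd f g) ≫ pullback.fst f g :=
  pullback.lift_snd _ _ _

theorem isPullback_phi : IsPullback (phi f g)
    (pullback.fst (pullback.snd f g) (pullback.snd f g) ≫ pullback.snd f g)
    (pullback.fst f f ≫ f) g := by
  have sq2 : IsPullback (pullback.fst f g) (pullback.snd f g) f g := IsPullback.of_hasPullback f g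
  have sq1 : IsPullback (pullback.snd (pullback.snd f g) (pullback.snd f g))
      (pullback.fst (pullback.snd f g) (pullback.snd f g)) (pullback.snd f g) (pullback.snd f g) :=
    (IsPullback.of_hasPullback (pullback.snd f g) (pullback.snd f g)).flip
  have sqA := sq1.paste_horiz sq2
  have hcond : pullback.snd f g ≫ g = pullback.fst f g ≫ f := pullback.condition.symm
  rw [hcond, ← phi_snd f g] at sqA
  have sq3 : IsPullback (pullback.snd f f) (pullback.fst f f) f f :=
    (IsPullback.of_hasPullback f f).flip
  have sqB : IsPullback (phi f g) (pullback.fst (pullback.snd f g) (pullback.snd f g))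
      (pullback.fst f f) (pullback.fst f g) := IsPullback.of_right sqA (phi_fst f g) sq3
  exact sqB.paste_vert sq2

theorem diagonal_phi : pullback.diagonal (pullback.snd f g) ≫ phi f g =
    pullback.fst f g ≫ pullback.diagonal f := by
  apply pullback.hom_ext
  · rw [Category.assoc, phi_fst, ← Category.assoc, pullback.diagonal_fst, Category.id_comp,
      Category.assoc, pullback.diagonal_fst, Category.comp_id]
  · rw [Category.assoc, phi_snd, ← Category.assoc, pullback.diagonal_snd, Category.id_comp,
      Category.assoc, pullback.diagonal_snd, Category.comp_id]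

theorem isPullback_diagonal : IsPullback (pullback.diagonal (pullback.snd f g)) (pullback.fst f g)
    (phi f g) (pullback.diagonal f) := by
  have sq2 : IsPullback (pullback.snd f g) (pullback.fst f g) g f :=
    (IsPullback.of_hasPullback f g).flip
  have e1 : pullback.diagonal (pullback.snd f g) ≫
      pullback.fst (pullback.snd f g) (pullback.snd f g) ≫ pullback.snd f g = pullback.snd f g := by
    rw [← Category.assoc, pullback.diagonal_fst, Category.id_comp]
  have e2 : pullback.diagonal f ≫ pullback.fst f f ≫ f = f := by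
    rw [← Category.assoc, pullback.diagonal_fst, Category.id_comp]
  have sq2' : IsPullback (pullback.diagonal (pullback.snd f g) ≫
      pullback.fst (pullback.snd f g) (pullback.snd f g) ≫ pullback.snd f g) (pullback.fst f g) g
      (pullback.diagonal f ≫ pullback.fst f f ≫ f) := by
    rw [e1, e2]
    exact sq2
  exact IsPullback.of_right sq2' (diagonal_phi f g) (isPullback_phi f g).flip

theorem preimage_W (Y Z : Set X) :
    W (pullback.snd f g) ((pullback.fst f g) ⁻¹' Y) ((pullback.fst f g) ⁻¹' Z) =
      (phi f g) ⁻¹' (W f Y Z) := by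
  ext p
  have h1 : pullback.fst f f (phi f g p) =
      pullback.fst f g (pullback.fst (pullback.snd f g) (pullback.snd f g) p) := by
    rw [← Scheme.Hom.comp_apply, phi_fst]; rfl
  have h2 : pullback.snd f f (phi f g p) =
      pullback.fst f g (pullback.snd (pullback.snd f g) (pullback.snd f g) p) := by
    rw [← Scheme.Hom.comp_apply, phi_snd]; rfl
  have h3 : p ∈ Set.range (pullback.diagonal (pullback.snd f g)) ↔
      phi f g p ∈ Set.range (pullback.diagonal f) := by
    constructor
    · rintro ⟨x', rfl⟩
      refine ⟨pullback.fst f g x', ?_⟩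
      rw [← Scheme.Hom.comp_apply, ← diagonal_phi]; rfl
    · rintro ⟨x, hx⟩
      obtain ⟨x', hx'1, -⟩ := Scheme.exists_preimage_of_isPullback (isPullback_diagonal f g) p x
        hx.symm
      exact ⟨x', hx'1⟩
  simp only [W, Set.mem_ofPred_eq, Set.mem_preimage, h1, h2, h3]

end Squares

section Main

theorem s14485 (k : Type u) [Field k] (X S S' : Scheme.{u})
    (q : S ⟶ Spec (CommRingCat.of k)) (f : X ⟶ S) (g : S' ⟶ S)
    [LocallyOfFiniteType q] [LocallyOfFiniteType f] [IsSeparated f]
    [LocallyOfFiniteType g]
    (d : ℕ) (hd : ∀ s : S, topologicalKrullDim (g.fiber s) = d)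
    (Y Z : Set X) (hYc : IsClosed Y) (hZc : IsClosed Z) :
    (topologicalKrullDim {p : ↥(pullback f f) | pullback.fst f f p ∈ Y ∧ pullback.snd f f p ∈ Z ∧ p ∉ Set.range (pullback.diagonal f)} + topologicalKrullDim S ≤ topologicalKrullDim Y + topologicalKrullDim Z) ↔
      (topologicalKrullDim {p : ↥(pullback (pullback.snd f g) (pullback.snd f g)) | pullback.fst (pullback.snd f g) (pullback.snd f g) p ∈ ((pullback.fst f g) ⁻¹' Y) ∧ pullback.snd (pullback.snd f g) (pullback.snd f g) p ∈ ((pullback.fst f g) ⁻¹' Z) ∧ p ∉ Set.range (pullback.diagonal (pullback.snd f g))} + topologicalKrullDim S' ≤ topologicalKrullDim ((pullback.fst f g) ⁻¹' Y) + topologicalKrullDim ((pullback.fst f g) ⁻¹' Z)) := by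
  have hfib : ∀ s : S, topologicalKrullDim ↥(g ⁻¹' {s}) = d := fun s => by
    rw [FibDimTot.dim_preimage_eq_dim_fiber, hd]
  have dS : topologicalKrullDim S' = topologicalKrullDim S + (d : WithBot ℕ∞) := by
    apply le_antisymm
    · rw [add_comm]
      exact FibDimTot.dim_le_add q g d (fun x => (hfib (g x)).le)
    · rw [add_comm]
      exact FibDimTot.add_dim_le q g d (fun η _ => (hfib η).ge)
  have sqa : IsPullback (pullback.snd f g) (pullback.fst f g) g f :=
    (IsPullback.of_hasPullback f g).flip
  have dY := dim_preimage_eq_add (f ≫ q) g f (pullback.snd f g) (pullback.fst f g) sqa d hd Y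
    hYc.isLocallyClosed
  have dZ := dim_preimage_eq_add (f ≫ q) g f (pullback.snd f g) (pullback.fst f g) sqa d hd Z
    hZc.isLocallyClosed
  have dW := dim_preimage_eq_add (pullback.fst f f ≫ f ≫ q) g (pullback.fst f f ≫ f)
    (pullback.fst (pullback.snd f g) (pullback.snd f g) ≫ pullback.snd f g) (phi f g)
    (isPullback_phi f g).flip d hd (W f Y Z) (isLocallyClosed_W f hYc hZc)
  rw [← preimage_W] at dW
  change (topologicalKrullDim ↥(W f Y Z) + topologicalKrullDim S ≤ _) ↔
    (topologicalKrullDim ↥(W (pullback.snd f g) ((pullback.fst f g) ⁻¹' Y)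
      ((pullback.fst f g) ⁻¹' Z)) + topologicalKrullDim S' ≤ _)
  rw [dW, dS, dY, dZ, add_add_add_comm, add_add_add_comm (topologicalKrullDim ↥Y)]
  have hdd : ((d : WithBot ℕ∞) + d) = ((d + d : ℕ) : WithBot ℕ∞) := by push_cast; rfl
  rw [hdd, ENat.WithBot.add_le_add_natCast_right_iff]

end Main

end Groth.Agent.H1.WellInt
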