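import Mathlib
import Groth.Prelude.Def_MoreMor
import Groth.Agent.Lib.Helper1.WtPos

set_option autoImplicit false
universe u

namespace Groth.Agent.H1.WtBC

open AlgebraicGeometry CategoryTheory Limits WtLift WtJ WtKey WtBasic WtPos

/-- C1: the comparison map between two pullbacks of the same cospan is an isomorphism. -/
theorem isIso_lift_of_isPullback {C : Type*} [Category C] {P₁ P₂ X Y Z : C} {f : X ⟶ Z} {g : Y ⟶ Z}
    {a₁ : P₁ ⟶ X} {b₁ : P₁ ⟶ Y} {a₂ : P₂ ⟶ X} {b₂ : P₂ ⟶ Y} (h₁ : IsPullback a₁ b₁ f g)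
    (h₂ : IsPullback a₂ b₂ f g) : IsIso (h₂.lift a₁ b₁ h₁.w) := by
  refine ⟨h₁.lift a₂ b₂ h₂.w, ?_, ?_⟩
  · apply h₁.hom_ext <;> simp
  · apply h₂.hom_ext <;> simp

/-- C2: integrals in a common model. -/
theorem fibreIntegral_eq_JS_model {P V X A : Scheme.{u}} (prX : P ⟶ X) (prV : P ⟶ V)
    (j : A ⟶ P) [IsOpenImmersion j] (πA : A ⟶ V) (ρA : A ⟶ X) (h1 : j ≫ prV = πA)
    (h2 : j ≫ prX = ρA) (w : X → ℤ) (z : V) :
    MoreMor.fibreIntegral πA (w ∘ ρA) z = JS prV (w ∘ prX) (Set.range j) z := by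
  subst h1 h2
  rw [← fibreIntegral_eq_JS]
  rfl

/-- C3: two finite opens with the same fibre over `v` agree over a neighbourhood of `v`. -/
theorem exists_nbhd_fibres_eq {P V A B : Scheme.{u}} (prV : P ⟶ V) (jA : A ⟶ P) (jB : B ⟶ P)
    [IsOpenImmersion jA] [IsOpenImmersion jB] (hA : IsFinite (jA ≫ prV))
    (hB : IsFinite (jB ≫ prV)) (v : V)
    (h : Set.range jA ∩ prV ⁻¹' {v} = Set.range jB ∩ prV ⁻¹' {v}) :
    ∃ N : V.Opens, v ∈ N ∧ ∀ z ∈ N, Set.range jA ∩ prV ⁻¹' {z} = Set.range jB ∩ prV ⁻¹' {z} := by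
  have key : ∀ {A B : Scheme.{u}} (jA : A ⟶ P) (jB : B ⟶ P) [IsOpenImmersion jA]
      [IsOpenImmersion jB] (_ : IsFinite (jA ≫ prV))
      (_ : Set.range jA ∩ prV ⁻¹' {v} ⊆ Set.range jB),
      ∃ C : Set V, IsClosed C ∧ v ∉ C ∧ ∀ z ∉ C, Set.range jA ∩ prV ⁻¹' {z} ⊆ Set.range jB := by
    intro A B jA jB _ _ hA hsub
    refine ⟨(jA ≫ prV) '' (jA ⁻¹' (Set.range jB)ᶜ), ?_, ?_, ?_⟩
    · exact (jA ≫ prV).isClosedMap _
        ((jB.isOpenEmbedding.isOpen_range.isClosed_compl).preimage jA.continuous)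
    · rintro ⟨a, ha, hav⟩
      exact ha (hsub ⟨⟨a, rfl⟩, hav⟩)
    · rintro z hz _ ⟨⟨a, rfl⟩, haz⟩
      by_contra hcon
      exact hz ⟨a, hcon, haz⟩
  obtain ⟨CA, hCA, hvA, hA'⟩ := key jA jB hA (by rw [h]; exact Set.inter_subset_left)
  obtain ⟨CB, hCB, hvB, hB'⟩ := key jB jA hB (by rw [← h]; exact Set.inter_subset_left)
  refine ⟨⟨(CA ∪ CB)ᶜ, (hCA.union hCB).isOpen_compl⟩, fun hv => hv.elim hvA hvB, ?_⟩
  intro z hz
  have hzA : z ∉ CA := fun h' => hz (Or.inl h')
  have hzB : z ∉ CB := fun h' => hz (Or.inr h')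
  ext q
  constructor
  · intro hq; exact ⟨hA' z hzA hq, hq.2⟩
  · intro hq; exact ⟨hB' z hzB hq, hq.2⟩


/-- if `∫ 1 = 1` at `v` then the fibre of `range j` over `v` in a model is a singleton. -/
theorem fibre_singleton_of_unique {P V A : Scheme.{u}} (prV : P ⟶ V) (j : A ⟶ P) (v : V) (a : A)
    (ha : (j ≫ prV) a = v) (huniq : ∀ a', (j ≫ prV) a' = v → a' = a) :
    Set.range j ∩ prV ⁻¹' {v} = {j a} := by
  ext q
  constructor
  · rintro ⟨⟨a', rfl⟩, hq⟩
    rw [huniq a' hq]; rfl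
  · rintro rfl
    exact ⟨⟨a, rfl⟩, ha⟩

/-- S1419, local form: base change of a weighting satisfies the local condition. -/
theorem localCond_baseChange {X Y X' Y' : Scheme.{u}} (f : X ⟶ Y) [LocallyQuasiFinite f]
    [LocallyOfFiniteType f] (w : X → ℤ) (hw : GenWeighting f w) (f' : X' ⟶ Y') (h : X' ⟶ X)
    (g₀ : Y' ⟶ Y) (hc : IsPullback h f' f g₀) : LocalCond f' (w ∘ h) := by
  intro D' v' h1
  obtain ⟨u', hu'v', hu'uniq, -⟩ := unique_of_integral_one D'.π v' (D'.finite_fiber v') h1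
  set x : X := h (D'.ρ u') with hx
  have hfx : f x = (D'.g ≫ g₀) v' := by
    have e1 : (h ≫ f) (D'.ρ u') = (f' ≫ g₀) (D'.ρ u') := by rw [hc.w]
    have e2 : (D'.fst ≫ f') (D'.j u') = (D'.snd ≫ D'.g) (D'.j u') := by rw [D'.pb.w]
    change f (h (D'.ρ u')) = g₀ (D'.g v')
    change f (h (D'.ρ u')) = g₀ (f' (D'.ρ u')) at e1
    change f' (D'.ρ u') = D'.g (D'.π u') at e2
    rw [e1, e2, hu'v']
  obtain ⟨V, e, v, he, hev, n, T, t, H, Hall⟩ := exists_charts f x (f.quasiFiniteAt x)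
  haveI := he
  -- the common étale neighbourhood
  let V'' := pullback (D'.g ≫ g₀) e
  let p' : V'' ⟶ D'.V := pullback.fst _ _
  let p : V'' ⟶ V := pullback.snd _ _
  have hpp : p' ≫ D'.g ≫ g₀ = p ≫ e := pullback.condition
  obtain ⟨v'', hv''1, hv''2⟩ :=
    Scheme.Pullback.exists_preimage_pullback (f := D'.g ≫ g₀) (g := e) v' v (by rw [← hfx, hev])
  -- the common model of `X ×_Y V''`
  let P'' := pullback (pullback.snd f e) p
  let prX : P'' ⟶ X := pullback.fst _ _ ≫ pullback.fst f e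
  let prV : P'' ⟶ V'' := pullback.snd _ _
  have hP'' : IsPullback prX prV f (p ≫ e) :=
    (IsPullback.of_hasPullback (pullback.snd f e) p).paste_horiz (IsPullback.of_hasPullback f e)
  -- the A side
  let UA := pullback D'.π p'
  let fstA : UA ⟶ D'.U := pullback.fst _ _
  let sndA : UA ⟶ V'' := pullback.snd _ _
  have hpbA : IsPullback fstA sndA D'.π p' := IsPullback.of_hasPullback _ _
  have hPA : IsPullback (pullback.fst D'.snd p' ≫ D'.fst ≫ h) (pullback.snd D'.snd p') f (p ≫ e) := by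
    have := ((IsPullback.of_hasPullback D'.snd p').paste_horiz D'.pb).paste_horiz hc
    rw [Category.assoc] at this
    rw [← hpp]
    simpa only [Category.assoc] using this
  let κ : pullback D'.snd p' ⟶ P'' := hP''.lift _ _ hPA.w
  haveI : IsIso κ := isIso_lift_of_isPullback hPA hP''
  haveI := isOpenImmersion_subMap D' p' fstA sndA hpbA
  let jA : UA ⟶ P'' := subMap D' p' fstA sndA hpbA ≫ κ
  have hjA1 : jA ≫ prV = sndA := by
    change (subMap D' p' fstA sndA hpbA ≫ κ) ≫ prV = sndA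
    rw [Category.assoc, hP''.lift_snd]
    exact pullback.lift_snd _ _ _
  have hjA2 : jA ≫ prX = fstA ≫ D'.ρ ≫ h := by
    change (subMap D' p' fstA sndA hpbA ≫ κ) ≫ prX = fstA ≫ (D'.j ≫ D'.fst) ≫ h
    rw [Category.assoc, hP''.lift_fst, ← Category.assoc]
    have : subMap D' p' fstA sndA hpbA ≫ pullback.fst D'.snd p' = fstA ≫ D'.j :=
      pullback.lift_fst _ _ _
    rw [this]
    simp only [Category.assoc]
  haveI : IsFinite sndA := MorphismProperty.of_isPullback hpbA D'.fin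
  have hfinA : IsFinite (jA ≫ prV) := by rw [hjA1]; infer_instance
  -- integrals on the A side
  have hIA : ∀ z, D'.I (w ∘ h) (p' z) = JS prV (w ∘ prX) (Set.range jA) z := by
    intro z
    obtain ⟨hb, -⟩ := fibreIntegral_baseChange D'.π sndA fstA p' hpbA ((w ∘ h) ∘ D'.ρ) z
      (D'.finite_fiber _)
    have hb' : MoreMor.fibreIntegral sndA (w ∘ (fstA ≫ D'.ρ ≫ h)) z = D'.I (w ∘ h) (p' z) := hb
    rw [← hb']
    exact fibreIntegral_eq_JS_model prX prV jA sndA (fstA ≫ D'.ρ ≫ h) hjA1 hjA2 w z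
  -- the unique point on the A side
  have h1A : MoreMor.fibreIntegral sndA (fun _ => 1) v'' = 1 := by
    obtain ⟨hb, -⟩ := fibreIntegral_baseChange D'.π sndA fstA p' hpbA (fun _ => 1) v''
      (D'.finite_fiber _)
    have hb' : MoreMor.fibreIntegral sndA (fun _ => 1) v'' =
        MoreMor.fibreIntegral D'.π (fun _ => 1) (p' v'') := hb
    rw [hb', hv''1, h1]
  obtain ⟨uA, huA1, huA2, -⟩ := unique_of_integral_one sndA v''
    (Scheme.Hom.finite_preimage_singleton _ _) h1A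
  have hfstA : fstA uA = u' := by
    apply hu'uniq
    have : (fstA ≫ D'.π) uA = (sndA ≫ p') uA := by rw [hpbA.w]
    change D'.π (fstA uA) = p' (sndA uA) at this
    rw [this, huA1, hv''1]
  set q : P'' := jA uA with hq
  have hqV : prV q = v'' := by
    change (jA ≫ prV) uA = v''
    rw [hjA1]; exact huA1
  have hqX : prX q = x := by
    change (jA ≫ prX) uA = x
    rw [hjA2]
    change h (D'.ρ (fstA uA)) = x
    rw [hfstA]
  -- the point of `X ×_Y V` below `q`
  set c := pullback.fst (pullback.snd f e) p q with hc'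
  have hc1 : pullback.snd f e c = v := by
    have : (pullback.fst (pullback.snd f e) p ≫ pullback.snd f e) q =
        (pullback.snd (pullback.snd f e) p ≫ p) q := by rw [pullback.condition]
    change pullback.snd f e c = p (prV q) at this
    rw [this, hqV, hv''2]
  have hc2 : pullback.fst f e c = x := hqX
  obtain ⟨k, hk⟩ := Hall c hc1 hc2
  obtain ⟨hTfin, hTmem, hTsnd, hTfst, hTuniq, hTdeg⟩ := H k
  -- the B side
  let Dk : Test f := Test.ofOpen f e (T k) hTfin
  let UB := pullback Dk.π p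
  let fstB : UB ⟶ Dk.U := pullback.fst _ _
  let sndB : UB ⟶ V'' := pullback.snd _ _
  have hpbB : IsPullback fstB sndB Dk.π p := IsPullback.of_hasPullback _ _
  haveI := isOpenImmersion_subMap Dk p fstB sndB hpbB
  let jB : UB ⟶ P'' := subMap Dk p fstB sndB hpbB
  haveI : IsOpenImmersion jB := isOpenImmersion_subMap Dk p fstB sndB hpbB
  have hjB1 : jB ≫ prV = sndB := pullback.lift_snd _ _ _
  have hjB2 : jB ≫ prX = fstB ≫ Dk.ρ := by
    change subMap Dk p fstB sndB hpbB ≫ pullback.fst Dk.snd p ≫ Dk.fst = fstB ≫ Dk.j ≫ Dk.fst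
    rw [← Category.assoc]
    have : subMap Dk p fstB sndB hpbB ≫ pullback.fst Dk.snd p = fstB ≫ Dk.j :=
      pullback.lift_fst _ _ _
    rw [this, Category.assoc]
  haveI : IsFinite sndB := MorphismProperty.of_isPullback hpbB Dk.fin
  have hfinB : IsFinite (jB ≫ prV) := by rw [hjB1]; infer_instance
  have hIB : ∀ z, Dk.I w (p z) = JS prV (w ∘ prX) (Set.range jB) z := by
    intro z
    obtain ⟨hb, -⟩ := fibreIntegral_baseChange Dk.π sndB fstB p hpbB (w ∘ Dk.ρ) z
      (Dk.finite_fiber _)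
    have hb' : MoreMor.fibreIntegral sndB (w ∘ (fstB ≫ Dk.ρ)) z = Dk.I w (p z) := hb
    rw [← hb']
    exact fibreIntegral_eq_JS_model prX prV jB sndB (fstB ≫ Dk.ρ) hjB1 hjB2 w z
  -- the unique point on the B side
  let tk : Dk.U := ⟨t k, hTmem⟩
  have htk1 : Dk.π tk = v := hTsnd
  have htkuniq : ∀ u, Dk.π u = v → u = tk := by
    intro u hu
    apply Subtype.ext
    exact hTuniq u.1 u.2 hu
  have htkdeg : sepDeg Dk.π tk = 1 := by
    change sepDeg ((T k).ι ≫ pullback.snd f e) tk = 1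
    rw [sepDeg_comp_openImmersion]
    exact hTdeg
  have h1B : MoreMor.fibreIntegral sndB (fun _ => 1) v'' = 1 := by
    obtain ⟨hb, -⟩ := fibreIntegral_baseChange Dk.π sndB fstB p hpbB (fun _ => 1) v''
      (Dk.finite_fiber _)
    have hb' : MoreMor.fibreIntegral sndB (fun _ => 1) v'' =
        MoreMor.fibreIntegral Dk.π (fun _ => 1) (p v'') := hb
    rw [hb', hv''2, fibreIntegral_of_unique Dk.π _ v tk htk1 htkuniq, htkdeg]
    simp
  obtain ⟨uB, huB1, huB2, -⟩ := unique_of_integral_one sndB v''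
    (Scheme.Hom.finite_preimage_singleton _ _) h1B
  -- `q` lies in the range of `jB`
  have hsq : IsPullback jB fstB (pullback.fst Dk.snd p) Dk.j := by
    have h1' : jB ≫ pullback.snd Dk.snd p = sndB := pullback.lift_snd _ _ _
    have h2' : jB ≫ pullback.fst Dk.snd p = fstB ≫ Dk.j := pullback.lift_fst _ _ _
    have s : IsPullback (jB ≫ pullback.snd Dk.snd p) fstB p (Dk.j ≫ Dk.snd) := by
      rw [h1']; exact hpbB.flip
    exact IsPullback.of_right s h2' (IsPullback.of_hasPullback Dk.snd p).flip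
  have hqB : q ∈ Set.range jB := by
    obtain ⟨b, hb1, -⟩ := Scheme.exists_preimage_of_isPullback hsq q tk (by
      change c = (T k).ι tk
      rw [hk]; rfl)
    exact ⟨b, hb1⟩
  obtain ⟨b, hb⟩ := hqB
  have hbuB : b = uB := by
    apply huB2
    have e3 : sndB b = (jB ≫ prV) b := by rw [hjB1]
    rw [e3]
    change prV (jB b) = v''
    rw [hb]; exact hqV
  -- the fibres over `v''` agree
  have hfibA : Set.range jA ∩ prV ⁻¹' {v''} = {q} :=
    fibre_singleton_of_unique prV jA v'' uA (by rw [hjA1]; exact huA1)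
      (fun a' ha' => huA2 a' (by rw [← hjA1]; exact ha'))
  have hfibB : Set.range jB ∩ prV ⁻¹' {v''} = {q} := by
    have := fibre_singleton_of_unique prV jB v'' uB (by rw [hjB1]; exact huB1)
      (fun a' ha' => huB2 a' (by rw [← hjB1]; exact ha'))
    rw [this, ← hbuB, hb]
  obtain ⟨N, hvN, hN⟩ := exists_nbhd_fibres_eq prV jA jB hfinA hfinB v'' (hfibA.trans hfibB.symm)
  -- local constancy on the B side
  have hlc := hw Dk
  rw [IsLocallyConstant.iff_exists_open] at hlc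
  obtain ⟨M, hMo, hvM, hM⟩ := hlc v
  let N' : V''.Opens := N ⊓ (p ⁻¹ᵁ ⟨M, hMo⟩)
  have hv''N' : v'' ∈ N' := ⟨hvN, by change p v'' ∈ M; rw [hv''2]; exact hvM⟩
  have hconst : ∀ z ∈ N', D'.I (w ∘ h) (p' z) = D'.I (w ∘ h) v' := by
    intro z hz
    have e1 : D'.I (w ∘ h) (p' z) = Dk.I w (p z) := by
      rw [hIA, hIB]
      exact JS_congr prV _ (hN z hz.1)
    have e2 : D'.I (w ∘ h) (p' v'') = Dk.I w (p v'') := by
      rw [hIA, hIB]
      exact JS_congr prV _ (hN v'' hvN)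
    rw [e1, hM (p z) hz.2, ← hv''1, e2, hv''2]
  refine ⟨⟨p' '' (N' : Set V''), p'.isOpenMap _ N'.2⟩, ⟨v'', hv''N', hv''1⟩, ?_⟩
  rintro _ ⟨z, hz, rfl⟩
  exact hconst z hz


/-- S1419: base change of a weighting. -/
theorem genWeighting_baseChange {X Y X' Y' : Scheme.{u}} (f : X ⟶ Y) [LocallyQuasiFinite f]
    [LocallyOfFiniteType f] (w : X → ℤ) (hw : GenWeighting f w) (f' : X' ⟶ Y') (h : X' ⟶ X)
    (g₀ : Y' ⟶ Y) (hc : IsPullback h f' f g₀) : GenWeighting f' (w ∘ h) :=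
  genWeighting_of_localCond (localCond_baseChange f w hw f' h g₀ hc)

end Groth.Agent.H1.WtBC
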