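import Mathlib
import Groth.Prelude.Def_MoreMor
import Groth.Agent.Lib.Helper1.WtBC

set_option autoImplicit false
universe u

namespace Groth.Agent.H1.WtComp

open AlgebraicGeometry CategoryTheory Limits WtLift WtJ WtKey WtBasic WtPos WtBC

section BC

variable {X Y : Scheme.{u}} {f : X ⟶ Y} (D : Test f) {V₁ : Scheme.{u}} (e : V₁ ⟶ D.V) [Etale e]

/-- base change of a test along an étale map to its base. -/
noncomputable def Test.bc : Test f :=
  D.sub e (pullback.fst D.π e) (pullback.snd D.π e) (IsPullback.of_hasPullback _ _) (𝟙 _)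
    (by rw [Category.id_comp]; infer_instance)

theorem Test.bc_π : (Test.bc D e).π = pullback.snd D.π e := by
  unfold Test.bc
  rw [Test.sub_π, Category.id_comp]

theorem Test.bc_ρ : (Test.bc D e).ρ = pullback.fst D.π e ≫ D.ρ := by
  unfold Test.bc
  rw [Test.sub_ρ, Category.id_comp]

theorem Test.bc_j_fst : (Test.bc D e).j ≫ pullback.fst D.snd e = pullback.fst D.π e ≫ D.j := by
  change (𝟙 _ ≫ subMap D e _ _ _) ≫ pullback.fst D.snd e = _
  rw [Category.id_comp]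
  exact pullback.lift_fst _ _ _

theorem Test.bc_I (w : X → ℤ) (z : V₁) : (Test.bc D e).I w z = D.I w (e z) := by
  unfold Test.I
  rw [Test.bc_π, Test.bc_ρ]
  obtain ⟨hb, -⟩ := fibreIntegral_baseChange D.π (pullback.snd D.π e) (pullback.fst D.π e) e
    (IsPullback.of_hasPullback _ _) (w ∘ D.ρ) z (D.finite_fiber _)
  exact hb

theorem Test.bc_one (z : V₁) :
    MoreMor.fibreIntegral (Test.bc D e).π (fun _ => 1) z =
      MoreMor.fibreIntegral D.π (fun _ => 1) (e z) := by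
  rw [Test.bc_π]
  obtain ⟨hb, -⟩ := fibreIntegral_baseChange D.π (pullback.snd D.π e) (pullback.fst D.π e) e
    (IsPullback.of_hasPullback _ _) (fun _ => 1) z (D.finite_fiber _)
  exact hb

/-- the conclusion of the local condition descends along an étale neighbourhood. -/
theorem exists_nbhd_of_bc (w : X → ℤ) (v₁ : V₁)
    (h : ∃ N : V₁.Opens, v₁ ∈ N ∧ ∀ z ∈ N, (Test.bc D e).I w z = (Test.bc D e).I w v₁) :
    ∃ N : D.V.Opens, e v₁ ∈ N ∧ ∀ z ∈ N, D.I w z = D.I w (e v₁) := by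
  obtain ⟨N, hvN, hN⟩ := h
  refine ⟨⟨e '' (N : Set V₁), e.isOpenMap _ N.2⟩, ⟨v₁, hvN, rfl⟩, ?_⟩
  rintro _ ⟨z, hz, rfl⟩
  rw [← Test.bc_I, ← Test.bc_I]
  exact hN z hz

end BC


section Core

theorem fibreIntegral_congr {U V : Scheme.{u}} (π : U ⟶ V) (ω ω' : U → ℤ) (v : V)
    (h : ∀ u, π u = v → ω u = ω' u) :
    MoreMor.fibreIntegral π ω v = MoreMor.fibreIntegral π ω' v := by
  rw [fibreIntegral_def, fibreIntegral_def]
  exact finsum_congr (fun u => by rw [h u.1 u.2])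

theorem fibreIntegral_mul_const {U V : Scheme.{u}} (π : U ⟶ V) (ω : U → ℤ) (c : ℤ) (v : V) :
    MoreMor.fibreIntegral π (fun u => ω u * c) v = c * MoreMor.fibreIntegral π ω v := by
  rw [fibreIntegral_def, fibreIntegral_def, mul_finsum]
  exact finsum_congr (fun u => by ring)

variable {X Y Z : Scheme.{u}} {f : X ⟶ Y} {g : Y ⟶ Z}

/-- a model of `Y ×_Z V` for a test `D` of `f ≫ g` -/
structure YModel (D : Test (f ≫ g)) where
  Q : Scheme.{u}
  prY : Q ⟶ Y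
  prV : Q ⟶ D.V
  pb : IsPullback prY prV g D.g
  fQ : D.P ⟶ Q
  h1 : fQ ≫ prY = D.fst ≫ f
  h2 : fQ ≫ prV = D.snd

theorem core {wf : X → ℤ} {wg : Y → ℤ} (hf : GenWeighting f wf) (hg : GenWeighting g wg)
    (D : Test (f ≫ g)) (M : YModel D) (T : M.Q.Opens) (hT : IsFinite (T.ι ≫ M.prV))
    (hUT : ∀ a : D.U, M.fQ (D.j a) ∈ T) (v : D.V) (t₀ : M.Q) (ht₀ : t₀ ∈ T)
    (huniq : ∀ t ∈ T, M.prV t = v → t = t₀) :
    ∃ N : D.V.Opens, v ∈ N ∧ ∀ v' ∈ N,
      D.I (fun x => wf x * wg (f x)) v' = D.I (fun x => wf x * wg (f x)) v := by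
  haveI := hT
  haveI : Etale M.prY := MorphismProperty.of_isPullback (P := @Etale) M.pb.flip inferInstance
  -- the test for `g`
  let Dg : Test g :=
    { V := D.V, g := D.g, P := M.Q, fst := M.prY, snd := M.prV, U := T, j := T.ι
      etale := inferInstance, pb := M.pb, open_j := inferInstance, fin := hT }
  -- the top square
  have hbig : IsPullback D.fst (M.fQ ≫ M.prV) (f ≫ g) D.g := by rw [M.h2]; exact D.pb
  have htop : IsPullback D.fst M.fQ f M.prY := IsPullback.of_bot hbig M.h1.symm M.pb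
  let W : D.P.Opens := M.fQ ⁻¹ᵁ T
  have hleft : IsPullback W.ι (M.fQ ∣_ T) M.fQ T.ι := (isPullback_morphismRestrict M.fQ T).flip
  have hpbf : IsPullback (W.ι ≫ D.fst) (M.fQ ∣_ T) f (T.ι ≫ M.prY) := hleft.paste_horiz htop
  have hrange : Set.range D.j ⊆ Set.range W.ι := by
    rintro _ ⟨a, rfl⟩
    rw [Scheme.Opens.range_ι]
    exact hUT a
  let jW : D.U ⟶ W := IsOpenImmersion.lift W.ι D.j hrange
  have hjW : jW ≫ W.ι = D.j := IsOpenImmersion.lift_fac _ _ _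
  haveI : IsOpenImmersion (jW ≫ W.ι) := by rw [hjW]; infer_instance
  haveI : IsOpenImmersion jW := IsOpenImmersion.of_comp jW W.ι
  let ψ : D.U ⟶ T := jW ≫ M.fQ ∣_ T
  have hψ : ψ ≫ T.ι = D.j ≫ M.fQ := by
    change (jW ≫ M.fQ ∣_ T) ≫ T.ι = _
    rw [Category.assoc, ← hleft.w, ← Category.assoc, hjW]
  have hψπ : ψ ≫ T.ι ≫ M.prV = D.π := by
    rw [← Category.assoc, hψ, Category.assoc, M.h2]
  haveI : IsFinite (ψ ≫ T.ι ≫ M.prV) := by rw [hψπ]; infer_instance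
  haveI : IsFinite ψ := IsFinite.of_comp ψ (T.ι ≫ M.prV)
  -- the test for `f`
  let Df : Test f :=
    { V := T, g := T.ι ≫ M.prY, P := W, fst := W.ι ≫ D.fst, snd := M.fQ ∣_ T, U := D.U, j := jW
      etale := inferInstance, pb := hpbf, open_j := inferInstance, fin := ‹IsFinite ψ› }
  have hDfρ : Df.ρ = D.ρ := by
    change jW ≫ W.ι ≫ D.fst = D.j ≫ D.fst
    rw [← Category.assoc, hjW]
  have hlcf : IsLocallyConstant (Df.I wf) := hf Df
  have hlcg : IsLocallyConstant (Dg.I wg) := hg Dg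
  let t₀' : T := ⟨t₀, ht₀⟩
  set cf := Df.I wf t₀' with hcf
  let Mo : Set T := (Df.I wf) ⁻¹' {cf}
  have hMo : IsOpen Mo := hlcf.isOpen_fiber cf
  have hclosed : IsClosed ((T.ι ≫ M.prV) '' Moᶜ) :=
    (T.ι ≫ M.prV).isClosedMap _ hMo.isClosed_compl
  have hvnot : v ∉ (T.ι ≫ M.prV) '' Moᶜ := by
    rintro ⟨t, ht, htv⟩
    have : t = t₀' := Subtype.ext (huniq t.1 t.2 htv)
    subst this
    exact ht rfl
  obtain ⟨Ng, hNgo, hvNg, hNg⟩ := (IsLocallyConstant.iff_exists_open _).1 hlcg v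
  let N : D.V.Opens := ⟨((T.ι ≫ M.prV) '' Moᶜ)ᶜ ∩ Ng, hclosed.isOpen_compl.inter hNgo⟩
  have formula : ∀ v' ∈ N, D.I (fun x => wf x * wg (f x)) v' = cf * Dg.I wg v' := by
    intro v' hv'
    have hfub := fibreIntegral_comp ψ (T.ι ≫ M.prV) (wf ∘ D.ρ) (wg ∘ (T.ι ≫ M.prY)) v'
      (Scheme.Hom.finite_preimage_singleton _ _)
      (fun t _ => Scheme.Hom.finite_preimage_singleton ψ t)
    have hL : D.I (fun x => wf x * wg (f x)) v' =
        MoreMor.fibreIntegral (ψ ≫ T.ι ≫ M.prV)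
          (fun u => (wf ∘ D.ρ) u * (wg ∘ (T.ι ≫ M.prY)) (ψ u)) v' := by
      unfold Test.I
      rw [hψπ]
      congr 1
      funext a
      change wf (D.ρ a) * wg (f (D.ρ a)) = wf (D.ρ a) * wg ((ψ ≫ T.ι ≫ M.prY) a)
      rw [← Category.assoc ψ, hψ, Category.assoc, M.h1]
      rfl
    rw [hL, hfub]
    have hR : MoreMor.fibreIntegral (T.ι ≫ M.prV)
        (fun t => (wg ∘ (T.ι ≫ M.prY)) t * MoreMor.fibreIntegral ψ (wf ∘ D.ρ) t) v' =
        MoreMor.fibreIntegral (T.ι ≫ M.prV) (fun t => (wg ∘ (T.ι ≫ M.prY)) t * cf) v' := by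
      apply fibreIntegral_congr
      intro t ht
      have htM : t ∈ Mo := by
        by_contra hcon
        exact hv'.1 ⟨t, hcon, ht⟩
      have : Df.I wf t = cf := htM
      unfold Test.I at this
      rw [hDfρ] at this
      change _ * MoreMor.fibreIntegral ψ (wf ∘ D.ρ) t = _
      rw [this]
    rw [hR, fibreIntegral_mul_const]
    rfl
  refine ⟨N, ⟨hvnot, hvNg⟩, fun v' hv' => ?_⟩
  rw [formula v' hv', formula v ⟨hvnot, hvNg⟩, hNg v' hv'.2]

end Core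


section Reduce

variable {X Y Z : Scheme.{u}} {f : X ⟶ Y} {g : Y ⟶ Z}

/-- the canonical model -/
noncomputable def YModel.canonical (D : Test (f ≫ g)) : YModel D where
  Q := pullback g D.g
  prY := pullback.fst g D.g
  prV := pullback.snd g D.g
  pb := IsPullback.of_hasPullback g D.g
  fQ := pullback.lift (D.fst ≫ f) D.snd (by rw [Category.assoc]; exact D.pb.w)
  h1 := pullback.lift_fst _ _ _
  h2 := pullback.lift_snd _ _ _

/-- base change of a model -/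
noncomputable def YModel.bc {D : Test (f ≫ g)} (M : YModel D) {V₁ : Scheme.{u}} (e : V₁ ⟶ D.V)
    [Etale e] : YModel (Test.bc D e) where
  Q := pullback M.prV e
  prY := pullback.fst M.prV e ≫ M.prY
  prV := pullback.snd M.prV e
  pb := (IsPullback.of_hasPullback M.prV e).paste_horiz M.pb
  fQ := pullback.lift (pullback.fst D.snd e ≫ M.fQ) (pullback.snd D.snd e)
    (by rw [Category.assoc, M.h2]; exact pullback.condition)
  h1 := by
    rw [← Category.assoc, pullback.lift_fst, Category.assoc, M.h1, ← Category.assoc]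
    rfl
  h2 := pullback.lift_snd _ _ _

theorem YModel.bc_fQ_fst {D : Test (f ≫ g)} (M : YModel D) {V₁ : Scheme.{u}} (e : V₁ ⟶ D.V)
    [Etale e] : (M.bc e).fQ ≫ pullback.fst M.prV e = pullback.fst D.snd e ≫ M.fQ :=
  pullback.lift_fst _ _ _

theorem YModel.bc_apply {D : Test (f ≫ g)} (M : YModel D) {V₁ : Scheme.{u}} (e : V₁ ⟶ D.V)
    [Etale e] (a : (Test.bc D e).U) :
    pullback.fst M.prV e ((M.bc e).fQ ((Test.bc D e).j a)) = M.fQ (D.j (pullback.fst D.π e a)) := by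
  have h : (Test.bc D e).j ≫ (M.bc e).fQ ≫ pullback.fst M.prV e =
      pullback.fst D.π e ≫ D.j ≫ M.fQ := by
    rw [YModel.bc_fQ_fst]
    have h2 := congrArg (· ≫ M.fQ) (Test.bc_j_fst D e)
    exact ((Category.assoc _ _ _).symm.trans h2).trans (Category.assoc _ _ _)
  exact congrArg (fun φ : (Test.bc D e).U ⟶ M.Q => φ a) h

theorem localCond_comp [LocallyQuasiFinite g] [LocallyOfFiniteType g] {wf : X → ℤ} {wg : Y → ℤ}
    (hf : GenWeighting f wf) (hg : GenWeighting g wg) :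
    LocalCond (f ≫ g) (fun x => wf x * wg (f x)) := by
  intro D v h1
  obtain ⟨u, hu, huniq, -⟩ := unique_of_integral_one D.π v (D.finite_fiber v) h1
  let M₀ := YModel.canonical D
  let y' : M₀.Q := M₀.fQ (D.j u)
  have hy'v : M₀.prV y' = v := by
    have : (D.j ≫ M₀.fQ ≫ M₀.prV) u = D.π u := by rw [M₀.h2]
    exact this.trans hu
  haveI : LocallyQuasiFinite M₀.prV := by
    change LocallyQuasiFinite (pullback.snd g D.g); infer_instance
  haveI : LocallyOfFiniteType M₀.prV := by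
    change LocallyOfFiniteType (pullback.snd g D.g); infer_instance
  obtain ⟨V₁, e₁, v₁, he₁, hev₁, n, T, t, H, Hall⟩ :=
    exists_charts M₀.prV y' (M₀.prV.quasiFiniteAt y')
  haveI := he₁
  rw [hy'v] at hev₁
  let D₁ := Test.bc D e₁
  let M₁ := M₀.bc e₁
  have h1' : MoreMor.fibreIntegral D₁.π (fun _ => 1) v₁ = 1 := by
    rw [Test.bc_one, hev₁]; exact h1
  obtain ⟨u₁, hu₁, huniq₁, -⟩ := unique_of_integral_one D₁.π v₁ (D₁.finite_fiber v₁) h1'
  let q₁ : M₁.Q := M₁.fQ (D₁.j u₁)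
  have hq₁snd : pullback.snd M₀.prV e₁ q₁ = v₁ := by
    have : (D₁.j ≫ M₁.fQ ≫ M₁.prV) u₁ = D₁.π u₁ := by rw [M₁.h2]
    exact this.trans hu₁
  have hq₁fst : pullback.fst M₀.prV e₁ q₁ = y' := by
    have h3 : pullback.fst D.π e₁ u₁ = u := by
      apply huniq
      have h4 : (pullback.fst D.π e₁ ≫ D.π) u₁ = (pullback.snd D.π e₁ ≫ e₁) u₁ := by
        rw [pullback.condition]
      refine h4.trans ?_
      have h5 : pullback.snd D.π e₁ u₁ = v₁ := by
        rw [← Test.bc_π]; exact hu₁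
      change e₁ (pullback.snd D.π e₁ u₁) = v
      rw [h5, hev₁]
    change pullback.fst M₀.prV e₁ ((M₀.bc e₁).fQ ((Test.bc D e₁).j u₁)) = _
    rw [YModel.bc_apply, h3]
  obtain ⟨k, hk⟩ := Hall q₁ hq₁snd hq₁fst
  obtain ⟨hTfin, htmem, htsnd, htfst, htuniq, -⟩ := H k
  let φ : D₁.U ⟶ M₁.Q := D₁.j ≫ M₁.fQ
  let Tk : M₁.Q.Opens := T k
  let C : Set D₁.U := (φ ⁻¹' (Tk : Set M₁.Q))ᶜ
  have hCclosed : IsClosed C := (Tk.2.preimage φ.continuous).isClosed_compl
  have hπC : IsClosed (D₁.π '' C) := D₁.π.isClosedMap _ hCclosed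
  have hv₁C : v₁ ∉ D₁.π '' C := by
    rintro ⟨a, haC, hav⟩
    have := huniq₁ a hav
    subst this
    apply haC
    change q₁ ∈ T k
    rw [hk]; exact htmem
  let N₁ : D₁.V.Opens := ⟨(D₁.π '' C)ᶜ, hπC.isOpen_compl⟩
  let v₂ : N₁ := ⟨v₁, hv₁C⟩
  let D₂ := Test.bc D₁ N₁.ι
  let M₂ := M₁.bc N₁.ι
  let pr : M₂.Q ⟶ M₁.Q := pullback.fst M₁.prV N₁.ι
  let T₂ : M₂.Q.Opens := pr ⁻¹ᵁ Tk
  have hT₂ : IsFinite (T₂.ι ≫ M₂.prV) := by
    have hleft : IsPullback (pr ∣_ Tk) T₂.ι Tk.ι pr := isPullback_morphismRestrict pr Tk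
    have hsq : IsPullback pr (pullback.snd M₁.prV N₁.ι) M₁.prV N₁.ι :=
      IsPullback.of_hasPullback _ _
    have := hleft.paste_vert hsq
    exact MorphismProperty.of_isPullback (P := @IsFinite) this hTfin
  haveI : IsOpenImmersion pr := inferInstanceAs (IsOpenImmersion (pullback.fst M₁.prV N₁.ι))
  obtain ⟨t₂, ht₂fst, ht₂snd⟩ : ∃ t₂ : M₂.Q, pr t₂ = t k ∧ M₂.prV t₂ = v₂ :=
    Scheme.Pullback.exists_preimage_pullback (f := M₁.prV) (g := N₁.ι) (t k) v₂ htsnd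
  have hUT : ∀ a : D₂.U, M₂.fQ (D₂.j a) ∈ T₂ := by
    intro a
    have hb : pr ((M₁.bc N₁.ι).fQ ((Test.bc D₁ N₁.ι).j a)) =
        M₁.fQ (D₁.j (pullback.fst D₁.π N₁.ι a)) := YModel.bc_apply M₁ N₁.ι a
    change pr ((M₁.bc N₁.ι).fQ ((Test.bc D₁ N₁.ι).j a)) ∈ Tk
    rw [hb]
    by_contra hcon
    have hmem : D₁.π (pullback.fst D₁.π N₁.ι a) ∈ D₁.π '' C := ⟨_, hcon, rfl⟩
    have h6 : (pullback.fst D₁.π N₁.ι ≫ D₁.π) a = (pullback.snd D₁.π N₁.ι ≫ N₁.ι) a := by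
      rw [pullback.condition]
    have h7 : D₁.π (pullback.fst D₁.π N₁.ι a) = N₁.ι (pullback.snd D₁.π N₁.ι a) := h6
    rw [h7] at hmem
    exact (pullback.snd D₁.π N₁.ι a).2 hmem
  have huniq₂ : ∀ t' ∈ T₂, M₂.prV t' = v₂ → t' = t₂ := by
    intro t' ht' ht'v
    have hinj : Function.Injective pr := (Scheme.Hom.isOpenEmbedding pr).injective
    apply hinj
    rw [ht₂fst]
    apply htuniq _ ht'
    have h8 : (pr ≫ M₁.prV) t' = (pullback.snd M₁.prV N₁.ι ≫ N₁.ι) t' :=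
      congrArg (fun ψ : M₂.Q ⟶ D₁.V => ψ t') (pullback.condition (f := M₁.prV) (g := N₁.ι))
    have h9 : M₁.prV (pr t') = N₁.ι (M₂.prV t') := h8
    refine h9.trans ?_
    rw [ht'v]
    rfl
  have ht₂mem : t₂ ∈ T₂ := by
    change pr t₂ ∈ Tk
    rw [ht₂fst]; exact htmem
  obtain ⟨N₂, hvN₂, hN₂⟩ := core hf hg D₂ M₂ T₂ hT₂ hUT v₂ t₂ ht₂mem huniq₂
  have step1 := exists_nbhd_of_bc D₁ N₁.ι (fun x => wf x * wg (f x)) v₂ ⟨N₂, hvN₂, hN₂⟩
  have step2 := exists_nbhd_of_bc D e₁ (fun x => wf x * wg (f x)) v₁ step1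
  rwa [hev₁] at step2

theorem isWeighting_comp [LocallyQuasiFinite g] [LocallyOfFiniteType g] {wf : X → ℤ} {wg : Y → ℤ}
    (hf : MoreMor.IsWeighting f wf) (hg : MoreMor.IsWeighting g wg) :
    MoreMor.IsWeighting (f ≫ g) (fun x => wf x * wg (f x)) :=
  isWeighting_of_genWeighting (genWeighting_of_localCond
    (localCond_comp (genWeighting_of_isWeighting hf) (genWeighting_of_isWeighting hg)))

end Reduce

end Groth.Agent.H1.WtComp
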