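import Mathlib
import Groth.Prelude.Def_MoreMor
import Groth.Agent.Lib.Helper1.WtComp

set_option autoImplicit false
universe u

namespace Groth.Agent.H1.WtCons

open AlgebraicGeometry CategoryTheory Limits Topology WtLift WtJ WtKey WtBasic WtPos WtBC WtComp

section Top

variable {W : Type*} [TopologicalSpace W]

/-- in a compact space, constructible sets are clopen in the constructible topology -/
theorem isClopen_constructibleTopology_of_isConstructible [CompactSpace W] {s : Set W}
    (hs : IsConstructible s) :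
    IsOpen (X := WithConstructibleTopology W) (WithTopology.ofTopology ⁻¹' s) ∧
      IsOpen (X := WithConstructibleTopology W) (WithTopology.ofTopology ⁻¹' sᶜ) := by
  induction hs using IsConstructible.empty_union_induction with
  | open_retrocompact U hUo hUc =>
    have hc : IsCompact U := hUc.isCompact
    refine ⟨?_, ?_⟩
    · rw [WithConstructibleTopology.isOpen_iff]
      exact hc.isOpen_constructibleTopology_of_isOpen hUo
    · rw [WithConstructibleTopology.isOpen_iff]
      exact IsCompact.isOpen_constructibleTopology_of_isClosed (s := Uᶜ) (by rwa [compl_compl])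
        hUo.isClosed_compl
  | union s hs t ht ihs iht =>
    refine ⟨?_, ?_⟩
    · rw [Set.preimage_union]; exact ihs.1.union iht.1
    · rw [Set.compl_union, Set.preimage_inter]; exact ihs.2.inter iht.2
  | compl s hs ih =>
    refine ⟨ih.2, ?_⟩
    rw [compl_compl]
    exact ih.1

/-- a function on a spectral space which is constant on a constructible neighbourhood of each point
has constructible level sets. -/
theorem isConstructible_levelSet {ι : Type*} [CompactSpace W] [QuasiSober W] [PrespectralSpace W]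
    [QuasiSeparatedSpace W] (w : W → ι)
    (hloc : ∀ x, ∃ S : Set W, IsConstructible S ∧ x ∈ S ∧ ∀ y ∈ S, w y = w x) (n : ι) :
    IsConstructible {x | w x = n} := by
  choose S hSc hxS hS using hloc
  obtain ⟨σ, hσ⟩ := (isCompact_univ (X := WithConstructibleTopology W)).elim_finite_subcover
    (fun x : W => WithTopology.ofTopology ⁻¹' (S x))
    (fun x => (isClopen_constructibleTopology_of_isConstructible (hSc x)).1)
    (fun y _ => Set.mem_iUnion.mpr ⟨WithTopology.ofTopology y, hxS _⟩)
  have hcov : ∀ y : W, ∃ x ∈ σ, y ∈ S x := by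
    intro y
    have := hσ (Set.mem_univ (WithTopology.toTopology _ y))
    simp only [Set.mem_iUnion, exists_prop] at this
    obtain ⟨x, hx, hy⟩ := this
    exact ⟨x, hx, hy⟩
  have heq : {x | w x = n} = ⋃ x ∈ {x | x ∈ σ ∧ w x = n}, S x := by
    ext y
    simp only [Set.mem_ofPred_eq, Set.mem_iUnion, exists_prop]
    constructor
    · intro hy
      obtain ⟨x, hx, hyx⟩ := hcov y
      exact ⟨x, ⟨hx, by rw [← hS x y hyx, hy]⟩, hyx⟩
    · rintro ⟨x, ⟨-, hx⟩, hyx⟩
      rw [hS x y hyx, hx]
  rw [heq]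
  exact IsConstructible.biUnion (σ.finite_toSet.subset (fun x hx => hx.1)) (fun x _ => hSc x)

end Top

section Ring

/-- a point outside the image of `Spec C → Spec B` has a constructible neighbourhood disjoint from
the image. -/
theorem exists_constructible_of_notMem_range {B C : Type*} [CommRing B] [CommRing C] (φ : B →+* C)
    (q : PrimeSpectrum B) (hq : q ∉ Set.range (PrimeSpectrum.comap φ)) :
    ∃ S : Set (PrimeSpectrum B), IsConstructible S ∧ q ∈ S ∧
      Disjoint S (Set.range (PrimeSpectrum.comap φ)) := by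
  classical
  rw [PrimeSpectrum.mem_range_comap_iff] at hq
  have hle : q.asIdeal ≤ (q.asIdeal.map φ).comap φ := Ideal.le_comap_map
  obtain ⟨s, hs1, hs2⟩ : ∃ s, s ∈ (q.asIdeal.map φ).comap φ ∧ s ∉ q.asIdeal := by
    by_contra hcon
    push Not at hcon
    exact hq (le_antisymm hcon hle)
  have hs1' : φ s ∈ Ideal.span (φ '' (q.asIdeal : Set B)) := hs1
  obtain ⟨F', hF'sub, hF'⟩ := Submodule.mem_span_finite_of_mem_span hs1'
  obtain ⟨F, hFq, hFF'⟩ := Finset.subset_set_image_iff.mp hF'sub
  refine ⟨(PrimeSpectrum.basicOpen s : Set (PrimeSpectrum B)) ∩ PrimeSpectrum.zeroLocus (F : Set B),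
    ?_, ⟨hs2, ?_⟩, ?_⟩
  · refine PrimeSpectrum.isConstructible_basicOpen.inter ?_
    have h1 : IsConstructible (PrimeSpectrum.zeroLocus (F : Set B))ᶜ :=
      (PrimeSpectrum.isRetrocompact_zeroLocus_compl F.finite_toSet).isConstructible
        (PrimeSpectrum.isClosed_zeroLocus _).isOpen_compl
    exact h1.of_compl
  · exact fun b hb => hFq hb
  · rw [Set.disjoint_left]
    rintro q' ⟨hq's, hq'F⟩ ⟨p', rfl⟩
    apply hq's
    change φ s ∈ p'.asIdeal
    have hspan : Submodule.span C (F' : Set C) ≤ p'.asIdeal := by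
      rw [Submodule.span_le]
      intro c hc
      rw [← hFF', Finset.coe_image] at hc
      obtain ⟨b, hb, rfl⟩ := hc
      exact hq'F hb
    exact hspan hF'

end Ring

section SRL

/-- scheme version: a point of an affine scheme outside the image of a morphism from an affine scheme
has a constructible neighbourhood disjoint from the image. -/
theorem exists_constructible_of_notMem_range_scheme {R U : Scheme.{u}} [IsAffine R] [IsAffine U]
    (h : R ⟶ U) (p : U) (hp : p ∉ Set.range h) :
    ∃ S : Set U, IsConstructible S ∧ p ∈ S ∧ Disjoint S (Set.range h) := by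
  have hnat : R.isoSpec.hom ≫ Spec.map h.appTop = h ≫ U.isoSpec.hom :=
    Scheme.isoSpec_hom_naturality h
  have hnat' : ∀ r : R, Spec.map h.appTop (R.isoSpec.hom r) = U.isoSpec.hom (h r) := fun r =>
    congrArg (fun ψ : R ⟶ Spec Γ(U, ⊤) => ψ r) hnat
  have hinj : Function.Injective U.isoSpec.hom := (U.isoSpec.hom.homeomorph).injective
  have hsurj : Function.Surjective R.isoSpec.hom := (R.isoSpec.hom.homeomorph).surjective
  have hq : U.isoSpec.hom p ∉ Set.range (PrimeSpectrum.comap h.appTop.hom) := by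
    rintro ⟨p', hp'⟩
    obtain ⟨r, rfl⟩ := hsurj p'
    apply hp
    refine ⟨r, hinj ?_⟩
    rw [← hnat', ← hp']
    rfl
  obtain ⟨S', hS'c, hqS', hS'd⟩ := exists_constructible_of_notMem_range h.appTop.hom _ hq
  refine ⟨U.isoSpec.hom ⁻¹' S', ?_, hqS', ?_⟩
  · exact hS'c.preimage_of_isOpenEmbedding (U.isoSpec.hom.homeomorph).isOpenEmbedding
  · rw [Set.disjoint_left]
    rintro _ hS ⟨r, rfl⟩
    refine Set.disjoint_left.mp hS'd hS ⟨R.isoSpec.hom r, ?_⟩
    rw [← hnat']
    rfl

end SRL

section Diag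

theorem sepDeg_of_section {K U : Scheme.{u}} (p : K ⟶ U) (s : U ⟶ K) (h : s ≫ p = 𝟙 U) (u : U) :
    sepDeg p (s u) = 1 := by
  apply sepDeg_eq_one_of_pi
  letI := (p.residueFieldMap (s u)).hom.toAlgebra
  rw [isPurelyInseparable_iff]
  have hsurj : Function.Surjective (p.residueFieldMap (s u)).hom := by
    have h1 : (s ≫ p).residueFieldMap u = p.residueFieldMap (s u) ≫ s.residueFieldMap u :=
      Scheme.residueFieldMap_comp s p u
    let e := U.residueFieldCongr (x := (s ≫ p) u) (y := u) (by rw [h]; rfl)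
    have h2 : p.residueFieldMap (s u) ≫ s.residueFieldMap u = e.hom := by
      rw [← h1, Scheme.Hom.residueFieldMap_congr h u, Scheme.residueFieldMap_id]
      exact Category.comp_id _
    intro y
    have h3 : ∀ x, (s.residueFieldMap u).hom ((p.residueFieldMap (s u)).hom x) = e.hom.hom x := by
      intro x
      exact congrArg (fun φ : U.residueField ((s ≫ p) u) ⟶ U.residueField u => φ.hom x) h2
    refine ⟨e.inv.hom ((s.residueFieldMap u).hom y), ?_⟩
    apply (s.residueFieldMap u).hom.injective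
    rw [h3]
    change (e.inv ≫ e.hom).hom _ = _
    rw [Iso.inv_hom_id]
    rfl
  intro x
  obtain ⟨a, rfl⟩ := hsurj x
  exact ⟨isIntegral_algebraMap, fun _ => ⟨a, rfl⟩⟩


variable {U V : Scheme.{u}} (π : U ⟶ V)

/-- `u'` is the only geometric point of its fibre -/
def Good (u' : U) : Prop :=
  ∀ z : ↑(pullback π π), pullback.snd π π z = u' → z ∈ Set.range (pullback.diagonal π)

theorem diag_snd_apply (u' : U) : pullback.snd π π (pullback.diagonal π u') = u' := by
  have h : pullback.diagonal π ≫ pullback.snd π π = 𝟙 U := pullback.diagonal_snd π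
  exact congrArg (fun φ : U ⟶ U => φ u') h

theorem diag_fst_apply (u' : U) : pullback.fst π π (pullback.diagonal π u') = u' := by
  have h : pullback.diagonal π ≫ pullback.fst π π = 𝟙 U := pullback.diagonal_fst π
  exact congrArg (fun φ : U ⟶ U => φ u') h

theorem integral_of_good [LocallyQuasiFinite π] (u' : U) (hfin : (π ⁻¹' {π u'}).Finite)
    (hg : Good π u') (ω : U → ℤ) :
    MoreMor.fibreIntegral π ω (π u') = ω u' := by
  obtain ⟨hb, -⟩ := fibreIntegral_baseChange π (pullback.snd π π) (pullback.fst π π) π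
    (IsPullback.of_hasPullback π π) ω u' hfin
  rw [← hb]
  rw [fibreIntegral_of_unique (pullback.snd π π) (ω ∘ pullback.fst π π) u'
    (pullback.diagonal π u') (diag_snd_apply π u') ?_]
  · rw [sepDeg_of_section (pullback.snd π π) (pullback.diagonal π) (pullback.diagonal_snd π) u']
    change ω (pullback.fst π π (pullback.diagonal π u')) * ((1 : ℕ) : ℤ) = _
    rw [diag_fst_apply]
    simp
  · intro z hz
    obtain ⟨u'', rfl⟩ := hg z hz
    rw [diag_snd_apply] at hz
    rw [hz]

theorem good_of_unique [LocallyQuasiFinite π] [IsFinite π] (u₀ : U)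
    (huniq : ∀ u'', π u'' = π u₀ → u'' = u₀) (hdeg : sepDeg π u₀ = 1) : Good π u₀ := by
  have hfin : (π ⁻¹' {π u₀}).Finite := Scheme.Hom.finite_preimage_singleton π _
  obtain ⟨hb, hfin'⟩ := fibreIntegral_baseChange π (pullback.snd π π) (pullback.fst π π) π
    (IsPullback.of_hasPullback π π) (fun _ => 1) u₀ hfin
  have h1 : MoreMor.fibreIntegral π (fun _ => 1) (π u₀) = 1 := by
    rw [fibreIntegral_of_unique π _ (π u₀) u₀ rfl huniq, hdeg]
    simp
  have h2 : MoreMor.fibreIntegral (pullback.snd π π) (fun _ => 1) u₀ = 1 := hb.trans h1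
  obtain ⟨z₀, -, hz₀, -⟩ := unique_of_integral_one (pullback.snd π π) u₀ hfin' h2
  intro z hz
  refine ⟨u₀, ?_⟩
  rw [hz₀ z hz, hz₀ _ (diag_snd_apply π u₀)]

end Diag

section AffineDiag

variable {U V : Scheme.{u}} (π : U ⟶ V)

/-- the function `pr₁^* b - pr₂^* b` on `U ×_V U` -/
noncomputable def cfun (b : Γ(U, ⊤)) : Γ(pullback π π, ⊤) :=
  (pullback.fst π π).appTop.hom b - (pullback.snd π π).appTop.hom b

theorem notMem_basicOpen_cfun_of_mem_range (b : Γ(U, ⊤)) (z : ↑(pullback π π))
    (hz : z ∈ Set.range (pullback.diagonal π)) : z ∉ (pullback π π).basicOpen (cfun π b) := by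
  obtain ⟨u', rfl⟩ := hz
  intro hmem
  have h1 : u' ∈ (pullback.diagonal π) ⁻¹ᵁ (pullback π π).basicOpen (cfun π b) := hmem
  rw [Scheme.preimage_basicOpen_top] at h1
  have h2 : (pullback.diagonal π).appTop.hom (cfun π b) = 0 := by
    unfold cfun
    rw [map_sub, ← CommRingCat.comp_apply, ← CommRingCat.comp_apply, ← Scheme.Hom.comp_appTop,
      ← Scheme.Hom.comp_appTop, pullback.diagonal_fst, pullback.diagonal_snd, sub_self]
  have h3 : U.basicOpen ((pullback.diagonal π).appTop.hom (cfun π b)) = ⊥ := by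
    rw [h2]; exact Scheme.basicOpen_zero _ _
  rw [h3] at h1
  exact h1

theorem mem_range_diag_of_notMem_basicOpen [IsAffine U] (s : Set Γ(U, ⊤))
    (hs : letI := π.appTop.hom.toAlgebra; Submodule.span Γ(V, ⊤) s = ⊤)
    (z : ↑(pullback π π)) (hz : ∀ b ∈ s, z ∉ (pullback π π).basicOpen (cfun π b)) :
    z ∈ Set.range (pullback.diagonal π) := by
  letI := π.appTop.hom.toAlgebra
  let ζ := (pullback π π).fromSpecResidueField z
  -- evaluation kills the `cfun b`
  have hev : ∀ b ∈ s, ζ.appTop.hom (cfun π b) = 0 := by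
    intro b hb
    have h1 : ζ ⁻¹ᵁ (pullback π π).basicOpen (cfun π b) = ⊥ := by
      rw [eq_bot_iff]
      intro p hp
      have hp' : ζ p ∈ (pullback π π).basicOpen (cfun π b) := hp
      rw [Scheme.fromSpecResidueField_apply] at hp'
      exact (hz b hb hp').elim
    rw [Scheme.preimage_basicOpen_top] at h1
    exact (basicOpen_eq_bot_iff _).mp h1
  -- the two projections agree on `ζ`
  have hcond : π.appTop ≫ (pullback.fst π π).appTop = π.appTop ≫ (pullback.snd π π).appTop := by
    rw [← Scheme.Hom.comp_appTop, ← Scheme.Hom.comp_appTop, pullback.condition]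
  have hall : ∀ b : Γ(U, ⊤), ζ.appTop.hom ((pullback.fst π π).appTop.hom b) =
      ζ.appTop.hom ((pullback.snd π π).appTop.hom b) := by
    intro b
    have hb : b ∈ Submodule.span Γ(V, ⊤) s := by rw [hs]; trivial
    induction hb using Submodule.span_induction with
    | mem b hb =>
      have := hev b hb
      unfold cfun at this
      rwa [map_sub, sub_eq_zero] at this
    | zero => simp
    | add b₁ b₂ _ _ h₁ h₂ => rw [map_add, map_add, map_add, map_add, h₁, h₂]
    | smul a b _ hb =>
      have ha : (pullback.fst π π).appTop.hom (π.appTop.hom a) =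
          (pullback.snd π π).appTop.hom (π.appTop.hom a) :=
        congrArg (fun φ : Γ(V, ⊤) ⟶ Γ(pullback π π, ⊤) => φ.hom a) hcond
      rw [Algebra.smul_def]
      change ζ.appTop.hom ((pullback.fst π π).appTop.hom (π.appTop.hom a * b)) =
        ζ.appTop.hom ((pullback.snd π π).appTop.hom (π.appTop.hom a * b))
      rw [map_mul, map_mul, map_mul, map_mul, ha, hb]
  have heq : ζ ≫ pullback.fst π π = ζ ≫ pullback.snd π π := by
    apply ext_of_isAffine
    rw [Scheme.Hom.comp_appTop, Scheme.Hom.comp_appTop]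
    ext b
    exact hall b
  have hζ : ζ = (ζ ≫ pullback.fst π π) ≫ pullback.diagonal π := by
    apply pullback.hom_ext
    · rw [Category.assoc, pullback.diagonal_fst, Category.comp_id]
    · rw [Category.assoc, pullback.diagonal_snd, Category.comp_id, heq]
  obtain ⟨p⟩ : Nonempty ↑(Spec ((pullback π π).residueField z)) := inferInstance
  refine ⟨(ζ ≫ pullback.fst π π) p, ?_⟩
  have h5 : ((ζ ≫ pullback.fst π π) ≫ pullback.diagonal π) p = ζ p := by rw [← hζ]
  refine h5.trans ?_
  exact Scheme.fromSpecResidueField_apply _ _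


theorem exists_constructible_good [IsAffine U] [IsAffine V] [IsFinite π] (u : U) (hg : Good π u) :
    ∃ S : Set U, IsConstructible S ∧ u ∈ S ∧ ∀ u' ∈ S, Good π u' := by
  classical
  letI := π.appTop.hom.toAlgebra
  have hfin : π.appTop.hom.Finite := π.finite_appTop
  have hfin' : Module.Finite Γ(V, ⊤) Γ(U, ⊤) := hfin
  obtain ⟨s, hs⟩ := hfin'.fg_top
  have key : ∀ b ∈ s, ∃ S : Set U, IsConstructible S ∧ u ∈ S ∧
      Disjoint S (Set.range (((pullback π π).basicOpen (cfun π b)).ι ≫ pullback.snd π π)) := by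
    intro b _
    haveI : IsAffine ((pullback π π).basicOpen (cfun π b)) := (isAffineOpen_top _).basicOpen _
    apply exists_constructible_of_notMem_range_scheme
    rintro ⟨⟨z, hz⟩, hzu⟩
    exact notMem_basicOpen_cfun_of_mem_range π b z (hg z hzu) hz
  choose! S hSc huS hSd using key
  refine ⟨⋂ b ∈ s, S b, IsConstructible.biInter s.finite_toSet (fun b hb => hSc b hb),
    Set.mem_iInter₂.mpr (fun b hb => huS b hb), ?_⟩
  intro u' hu' z hz
  by_contra hcon
  have h1 : ¬ ∀ b ∈ (s : Set Γ(U, ⊤)), z ∉ (pullback π π).basicOpen (cfun π b) :=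
    fun h => hcon (mem_range_diag_of_notMem_basicOpen π s hs z h)
  push Not at h1
  obtain ⟨b, hb, hzb⟩ := h1
  have hu'b : u' ∈ S b := Set.mem_iInter₂.mp hu' b hb
  exact Set.disjoint_left.mp (hSd b hb) hu'b ⟨⟨z, hzb⟩, hz⟩

end AffineDiag

section Assembly

variable {X Y : Scheme.{u}} (f : X ⟶ Y)

/-- for affine `X`: each point has a constructible neighbourhood on which the weighting is constant -/
theorem exists_constructible_nbhd [IsAffine X] [LocallyQuasiFinite f] [LocallyOfFiniteType f]
    (w : X → ℤ) (hw : GenWeighting f w) (x : X) :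
    ∃ S : Set X, IsConstructible S ∧ x ∈ S ∧ ∀ y ∈ S, w y = w x := by
  obtain ⟨D, u, hρ, -, huniq, hdeg⟩ := exists_chart f x (f.quasiFiniteAt x)
  obtain ⟨N, hNo, hvN, hN⟩ := (IsLocallyConstant.iff_exists_open _).1 (hw D) (D.π u)
  have hIv : D.I w (D.π u) = w x := by rw [Test.I_of_unique D w u huniq hdeg, hρ]
  -- an affine open inside `N`
  obtain ⟨V₀, hV₀, hvV₀, hV₀N⟩ : ∃ V₀ : D.V.Opens, IsAffineOpen V₀ ∧ D.π u ∈ V₀ ∧
      (V₀ : Set D.V) ⊆ N := by
    obtain ⟨_, ⟨V₀, hV₀, rfl⟩, hvV₀, hV₀N⟩ :=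
      D.V.isBasis_affineOpens.exists_subset_of_mem_open hvN hNo
    exact ⟨V₀, hV₀, hvV₀, hV₀N⟩
  haveI : IsAffine (V₀ : Scheme.{u}) := hV₀
  let D' := Test.bc D V₀.ι
  haveI : IsAffine D'.V := hV₀
  haveI : IsAffine D'.U := isAffine_of_isAffineHom D'.π
  let v₀ : D'.V := ⟨D.π u, hvV₀⟩
  have hone : MoreMor.fibreIntegral D'.π (fun _ => 1) v₀ = 1 := by
    rw [Test.bc_one]
    change MoreMor.fibreIntegral D.π (fun _ => 1) (D.π u) = 1
    rw [fibreIntegral_of_unique D.π _ (D.π u) u rfl huniq, hdeg]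
    simp
  obtain ⟨u₀, hu₀, huniq₀, hdeg₀⟩ := unique_of_integral_one D'.π v₀ (D'.finite_fiber v₀) hone
  have hρ₀ : D'.ρ u₀ = x := by
    have h1 : pullback.fst D.π V₀.ι u₀ = u := by
      apply huniq
      have h2 : (pullback.fst D.π V₀.ι ≫ D.π) u₀ = (pullback.snd D.π V₀.ι ≫ V₀.ι) u₀ := by
        rw [pullback.condition]
      refine h2.trans ?_
      have h3 : pullback.snd D.π V₀.ι u₀ = v₀ := by
        rw [← Test.bc_π]; exact hu₀
      change V₀.ι (pullback.snd D.π V₀.ι u₀) = D.π u
      rw [h3]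
      rfl
    have h4 : D'.ρ = pullback.fst D.π V₀.ι ≫ D.ρ := Test.bc_ρ D V₀.ι
    rw [h4]
    change D.ρ (pullback.fst D.π V₀.ι u₀) = x
    rw [h1, hρ]
  have hgood : Good D'.π u₀ := good_of_unique D'.π u₀
    (fun u'' h => huniq₀ u'' (h.trans hu₀)) hdeg₀
  obtain ⟨S, hSc, hu₀S, hS⟩ := exists_constructible_good D'.π u₀ hgood
  have hI' : ∀ z : D'.V, D'.I w z = w x := by
    intro z
    rw [Test.bc_I, ← hIv]
    exact hN _ (hV₀N z.2)
  have hwS : ∀ u' ∈ S, w (D'.ρ u') = w x := by
    intro u' hu'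
    have h1 := integral_of_good D'.π u' (D'.finite_fiber _) (hS u' hu') (w ∘ D'.ρ)
    rw [← hI' (D'.π u')]
    exact h1.symm
  haveI := Test.etale_fst D'
  haveI : Etale D'.ρ := inferInstance
  refine ⟨D'.ρ '' S, D'.ρ.isConstructible_image hSc, ⟨u₀, hu₀S, hρ₀⟩, ?_⟩
  rintro _ ⟨u', hu', rfl⟩
  exact hwS u' hu'

/-- level sets of a weighting are locally constructible. -/
theorem isLocallyConstructible_levelSet [LocallyQuasiFinite f] [LocallyOfFiniteType f]
    (w : X → ℤ) (hw : MoreMor.IsWeighting f w) (n : ℤ) :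
    IsLocallyConstructible {x : X | w x = n} := by
  have hgw := genWeighting_of_isWeighting hw
  refine IsLocallyConstructible.of_isOpenCover (U := fun i : X.affineOpens => (i : X.Opens))
    (iSup_affineOpens_eq_top X) (fun W => ?_)
  haveI : IsAffine (W.1 : Scheme.{u}) := W.2
  have hgw' : GenWeighting (W.1.ι ≫ f) (w ∘ W.1.ι) := genWeighting_restrict f W.1.ι hgw
  have h1 := isConstructible_levelSet (W := ↥(W.1 : Scheme.{u})) (w ∘ W.1.ι)
    (fun x => exists_constructible_nbhd (W.1.ι ≫ f) (w ∘ W.1.ι) hgw' x) n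
  exact h1.isLocallyConstructible

end Assembly

end Groth.Agent.H1.WtCons
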