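import Mathlib
import Groth.Prelude.Def_MoreMor
import Groth.Agent.Lib.Helper1.WtCons
import Groth.Agent.H4.BddFibLib8

set_option autoImplicit false
universe u

namespace Groth.Agent.H1.WtBdd

open AlgebraicGeometry CategoryTheory Limits Topology WtLift WtJ WtKey WtBasic WtPos WtBC WtComp WtCons

section Top

variable {W : Type*} [TopologicalSpace W]

/-- a function on a spectral space which is constant on a constructible neighbourhood of each point
has finite range. -/
theorem finite_range_of_constructible_nbhd {ι : Type*} [CompactSpace W] [QuasiSober W]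
    [PrespectralSpace W] [QuasiSeparatedSpace W] (w : W → ι)
    (hloc : ∀ x, ∃ S : Set W, IsConstructible S ∧ x ∈ S ∧ ∀ y ∈ S, w y = w x) :
    (Set.range w).Finite := by
  choose S hSc hxS hS using hloc
  obtain ⟨σ, hσ⟩ := (isCompact_univ (X := WithConstructibleTopology W)).elim_finite_subcover
    (fun x : W => WithTopology.ofTopology ⁻¹' (S x))
    (fun x => (isClopen_constructibleTopology_of_isConstructible (hSc x)).1)
    (fun y _ => Set.mem_iUnion.mpr ⟨WithTopology.ofTopology y, hxS _⟩)
  refine (σ.finite_toSet.image w).subset ?_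
  rintro _ ⟨y, rfl⟩
  have := hσ (Set.mem_univ (WithTopology.toTopology _ y))
  simp only [Set.mem_iUnion, exists_prop] at this
  obtain ⟨x, hx, hy⟩ := this
  exact ⟨x, hx, (hS x y hy).symm⟩

end Top

section Bdd

variable {X Y : Scheme.{u}} (f : X ⟶ Y)

/-- a weighting on a quasi-compact scheme is bounded above. -/
theorem bddAbove_weighting [LocallyQuasiFinite f] [LocallyOfFiniteType f] [CompactSpace X]
    (w : X → ℤ) (hw : GenWeighting f w) : ∃ M : ℤ, 0 ≤ M ∧ ∀ x, w x ≤ M := by
  have hfin : ∀ W : X.affineOpens, (Set.range (w ∘ W.1.ι)).Finite := by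
    intro W
    haveI : IsAffine (W.1 : Scheme.{u}) := W.2
    have hgw' : GenWeighting (W.1.ι ≫ f) (w ∘ W.1.ι) := genWeighting_restrict f W.1.ι hw
    exact finite_range_of_constructible_nbhd (W := ↥(W.1 : Scheme.{u})) (w ∘ W.1.ι)
      (fun x => exists_constructible_nbhd (W.1.ι ≫ f) (w ∘ W.1.ι) hgw' x)
  obtain ⟨t, ht⟩ := isCompact_univ.elim_finite_subcover (fun W : X.affineOpens => (W.1 : Set X))
    (fun W => W.1.2) (by
      intro x _
      have := iSup_affineOpens_eq_top X
      have hx : x ∈ (⨆ i : X.affineOpens, (i : X.Opens)) := by rw [this]; trivial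
      rw [TopologicalSpace.Opens.mem_iSup] at hx
      obtain ⟨W, hW⟩ := hx
      exact Set.mem_iUnion.mpr ⟨W, hW⟩)
  have hfinall : (Set.range w).Finite := by
    refine (t.finite_toSet.biUnion (fun W _ => hfin W)).subset ?_
    rintro _ ⟨x, rfl⟩
    have := ht (Set.mem_univ x)
    simp only [Set.mem_iUnion, exists_prop] at this
    obtain ⟨W, hWt, hxW⟩ := this
    exact Set.mem_biUnion hWt ⟨⟨x, hxW⟩, rfl⟩
  obtain ⟨M, hM⟩ := hfinall.bddAbove
  refine ⟨max M 0, le_max_right _ _, fun x => le_trans (hM ⟨x, rfl⟩) (le_max_left _ _)⟩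

end Bdd

section Int

variable {X Y : Scheme.{u}} (f : X ⟶ Y)

theorem sepDeg_le_residueDegree {P S : Scheme.{u}} (p : P ⟶ S) [LocallyQuasiFinite p] (x : P) :
    sepDeg p x ≤ p.residueDegree x := by
  unfold sepDeg Scheme.Hom.residueDegree
  letI := (p.residueFieldMap x).hom.toAlgebra
  haveI : Module.Finite (S.residueField (p x)) (P.residueField x) := finite_res_of_lqf p x
  exact Field.finSepDegree_le_finrank _ _

/-- bound of the fibre integral in terms of a bound of the fibre degrees. -/
theorem fibreIntegral_le_of_fibreDegLE [LocallyQuasiFinite f] (n : ℕ) (hn : BddFib.FibreDegLE f n)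
    (w : X → ℤ) (M : ℤ) (hM0 : 0 ≤ M) (hM : ∀ x, w x ≤ M) (y : Y) :
    MoreMor.fibreIntegral f w y ≤ M * n := by
  classical
  let g := Y.fromSpecResidueField y
  obtain ⟨pt⟩ : Nonempty ↑(Spec (Y.residueField y)) := inferInstance
  have hgpt : g pt = y := Scheme.fromSpecResidueField_apply _ _
  have hdeg := (H4.BddFibLib.fibreDegLE_iff_forall_field_points f n).mp hn (Y.residueField y) g
  obtain ⟨hPfin, -, hsum⟩ := H4.BddFibLib.finsum_residueDegree_le_of_finiteOfDegLE
    (pullback.snd f g) n hdeg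
  have hfibfin : (f ⁻¹' {g pt}).Finite := by
    haveI := hPfin
    refine (Set.finite_range (pullback.fst f g)).subset ?_
    intro x hx
    obtain ⟨z, hz, -⟩ := Scheme.Pullback.exists_preimage_pullback (f := f) (g := g) x pt hx
    exact ⟨z, hz⟩
  obtain ⟨hb, -⟩ := fibreIntegral_baseChange f (pullback.snd f g) (pullback.fst f g) g
    (IsPullback.of_hasPullback f g) w pt hfibfin
  rw [← hgpt, ← hb, fibreIntegral_def]
  haveI := hPfin
  letI : Fintype ↑(pullback f g) := Fintype.ofFinite _
  have hall : ∀ x : ↑(pullback f g), pullback.snd f g x = pt := fun x => Subsingleton.elim _ _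
  let e : {x : ↑(pullback f g) // pullback.snd f g x = pt} ≃ ↑(pullback f g) :=
    ⟨fun x => x.1, fun x => ⟨x, hall x⟩, fun _ => rfl, fun _ => rfl⟩
  rw [← finsum_comp_equiv e.symm
    (f := fun x : {x : ↑(pullback f g) // pullback.snd f g x = pt} =>
      (w ∘ pullback.fst f g) x.1 * (sepDeg (pullback.snd f g) x.1 : ℤ))]
  rw [finsum_eq_sum_of_fintype]
  rw [finsum_eq_sum_of_fintype] at hsum
  calc ∑ x : ↑(pullback f g), (w ∘ pullback.fst f g) (e.symm x).1 *
          (sepDeg (pullback.snd f g) (e.symm x).1 : ℤ)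
      ≤ ∑ x : ↑(pullback f g), M * ((pullback.snd f g).residueDegree x : ℤ) := by
        refine Finset.sum_le_sum (fun x _ => ?_)
        have h1 : (sepDeg (pullback.snd f g) x : ℤ) ≤ ((pullback.snd f g).residueDegree x : ℤ) := by
          exact_mod_cast sepDeg_le_residueDegree (pullback.snd f g) x
        have h2 : (0 : ℤ) ≤ (sepDeg (pullback.snd f g) x : ℤ) := Int.natCast_nonneg _
        change w (pullback.fst f g x) * (sepDeg (pullback.snd f g) x : ℤ) ≤ _
        calc w (pullback.fst f g x) * (sepDeg (pullback.snd f g) x : ℤ)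
            ≤ M * (sepDeg (pullback.snd f g) x : ℤ) := mul_le_mul_of_nonneg_right (hM _) h2
          _ ≤ M * ((pullback.snd f g).residueDegree x : ℤ) := mul_le_mul_of_nonneg_left h1 hM0
    _ = M * ((∑ x : ↑(pullback f g), (pullback.snd f g).residueDegree x : ℕ) : ℤ) := by
        rw [← Finset.mul_sum]; push_cast; rfl
    _ ≤ M * n := by
        refine mul_le_mul_of_nonneg_left ?_ hM0
        exact_mod_cast hsum

/-- on a quasi-compact source, the fibre integral of a weighting attains its maximum. -/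
theorem exists_max [LocallyQuasiFinite f] [LocallyOfFiniteType f] [CompactSpace X] (w : X → ℤ)
    (hw : MoreMor.IsWeighting f w) [Nonempty Y] :
    ∃ y₀ : Y, ∀ y : Y, MoreMor.fibreIntegral f w y ≤ MoreMor.fibreIntegral f w y₀ := by
  obtain ⟨M, hM0, hM⟩ := bddAbove_weighting f w (genWeighting_of_isWeighting hw)
  obtain ⟨n, hn⟩ := H4.BddFibLib.univBounded_of_locallyQuasiFinite_of_compactSpace f
  obtain ⟨ub, ⟨y₀, rfl⟩, hub⟩ := Int.exists_greatest_of_bdd
    (P := fun z => ∃ y : Y, MoreMor.fibreIntegral f w y = z)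
    ⟨M * n, by
      rintro _ ⟨y, rfl⟩
      exact fibreIntegral_le_of_fibreDegLE f n hn w M hM0 hM y⟩
    ⟨_, Classical.arbitrary Y, rfl⟩
  exact ⟨y₀, fun y => hub _ ⟨y, rfl⟩⟩

end Int

end Groth.Agent.H1.WtBdd
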