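import Mathlib
import Groth.Prelude.Def_MoreMor
import Groth.Agent.Lib.Helper1.WtSep
import Groth.Agent.Lib.Helper1.WtCons
import Groth.Agent.Lib.Helper1.WtBC

set_option autoImplicit false
universe u

namespace Groth.Agent.H1.WtLvl

open AlgebraicGeometry CategoryTheory Limits WtLift WtJ WtKey WtBasic WtPos Topology

/-- `sep_structure` with the extra information that the finite clopen part contains the whole
fibre over the base point. -/
theorem sep_structure' {X Y : Scheme.{u}} (f : X ⟶ Y) [LocallyQuasiFinite f] [LocallyOfFiniteType f]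
    [IsSeparated f] (hfin : ∀ y : Y, (f ⁻¹' {y}).Finite) (w : X → ℤ) (hw : GenWeighting f w)
    (y : Y) :
    ∃ (V₁ : Scheme.{u}) (e : V₁ ⟶ Y) (v₁ : V₁) (P : Scheme.{u}) (fst : P ⟶ X) (snd : P ⟶ V₁),
      Etale e ∧ e v₁ = y ∧ IsPullback fst snd f e ∧
      ∃ (O : P.Opens) (N : V₁.Opens), v₁ ∈ N ∧ IsClosed (O : Set P) ∧ IsFinite (O.ι ≫ snd) ∧
        (∀ v' ∈ N, JS snd (w ∘ fst) (O : Set P) v' = MoreMor.fibreIntegral f w y) ∧
        (∀ v', MoreMor.fibreIntegral f w (e v') = JS snd (w ∘ fst) Set.univ v' ∧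
          (snd ⁻¹' {v'}).Finite) ∧ (∀ p : P, snd p = v₁ → p ∈ O) := by
  haveI : Finite ↥(f ⁻¹' {y}) := hfin y
  let m := Nat.card ↥(f ⁻¹' {y})
  let en : ↥(f ⁻¹' {y}) ≃ Fin m := Finite.equivFin _
  let x : Fin m → X := fun i => (en.symm i).1
  have hxinj : Function.Injective x := fun i i' h => en.symm.injective (Subtype.ext h)
  have hxs : ∀ i, f (x i) = y := fun i => (en.symm i).2
  have hxall : ∀ u : X, f u = y → ∃ i, x i = u := by
    intro u hu
    refine ⟨en ⟨u, hu⟩, ?_⟩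
    change (en.symm (en ⟨u, hu⟩)).1 = u
    rw [Equiv.symm_apply_apply]
  obtain ⟨V₁, e, v₁, P, fst, snd, he, hev, hpb, n, idx, T, t, hdisj, hclosed, HT, Hall⟩ :=
    WtSplit.sepSplit f y x hxinj hxs (fun i => f.quasiFiniteAt (x i))
  haveI := he
  haveI : IsSeparated snd := MorphismProperty.of_isPullback hpb inferInstance
  haveI : LocallyOfFiniteType snd := MorphismProperty.of_isPullback hpb inferInstance
  haveI : LocallyQuasiFinite snd := MorphismProperty.of_isPullback hpb inferInstance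
  let O : P.Opens := ⨆ k, T k
  have hOfin : IsFinite (O.ι ≫ snd) := EtLoc.isFinite_iSup snd T (fun k => (HT k).1.finite)
  have hOclosed : IsClosed (O : Set P) := by
    have : (O : Set P) = ⋃ k, (T k : Set P) := by
      ext p
      simp only [O, TopologicalSpace.Opens.coe_iSup]
    rw [this]
    exact isClosed_iUnion_of_finite hclosed
  let D : Test f :=
    { V := V₁, g := e, P := P, fst := fst, snd := snd, U := O, j := O.ι, etale := he, pb := hpb
      open_j := inferInstance, fin := hOfin }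
  have hlc := hw D
  rw [IsLocallyConstant.iff_exists_open] at hlc
  obtain ⟨N, hNo, hvN, hN⟩ := hlc v₁
  have hDI : ∀ v', D.I w v' = JS snd (w ∘ fst) (O : Set P) v' := by
    intro v'
    change J snd (w ∘ fst) O v' = _
    exact J_eq_JS _ _ _ _
  have hbc : ∀ v', MoreMor.fibreIntegral f w (e v') = JS snd (w ∘ fst) Set.univ v' ∧
      (snd ⁻¹' {v'}).Finite := by
    intro v'
    obtain ⟨h1, h2⟩ := fibreIntegral_baseChange f snd fst e hpb w v' (hfin _)
    exact ⟨by rw [← h1, fibreIntegral_eq_JS_univ], h2⟩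
  have hcont : ∀ p : P, snd p = v₁ → p ∈ O := by
    intro p hp
    have hπ : f (fst p) = y := by
      have : (fst ≫ f) p = (snd ≫ e) p := by rw [hpb.w]
      change f (fst p) = e (snd p) at this
      rw [this, hp, hev]
    obtain ⟨i, hi⟩ := hxall _ hπ
    obtain ⟨k, -, hk⟩ := Hall p i hp hi.symm
    have : p ∈ T k := hk ▸ (HT k).1.mem
    exact (le_iSup T k : T k ≤ O) this
  refine ⟨V₁, e, v₁, P, fst, snd, he, hev, hpb, O, ⟨N, hNo⟩, hvN, hOclosed, hOfin, ?_, hbc, hcont⟩
  intro v' hv'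
  rw [← hDI, hN v' hv', hDI, ← hev, (hbc v₁).1]
  apply JS_congr
  ext p
  constructor
  · rintro ⟨-, hp⟩; exact ⟨trivial, hp⟩
  · rintro ⟨-, hp⟩
    exact ⟨hcont p hp, hp⟩


/-- piecewise constancy of an integer valued function on a scheme -/
def PC {Y : Scheme.{u}} (I : Y → ℤ) : Prop :=
  ∀ y, ∃ S : Set Y, IsConstructible S ∧ y ∈ S ∧ ∀ y' ∈ S, I y' = I y

theorem PC.add {Y : Scheme.{u}} {I₁ I₂ : Y → ℤ} (h₁ : PC I₁) (h₂ : PC I₂) :
    PC (fun y => I₁ y + I₂ y) := by
  intro y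
  obtain ⟨S₁, hS₁, hy₁, hc₁⟩ := h₁ y
  obtain ⟨S₂, hS₂, hy₂, hc₂⟩ := h₂ y
  refine ⟨S₁ ∩ S₂, hS₁.inter hS₂, ⟨hy₁, hy₂⟩, fun y' hy' => ?_⟩
  change I₁ y' + I₂ y' = I₁ y + I₂ y
  rw [hc₁ y' hy'.1, hc₂ y' hy'.2]

theorem PC.sub {Y : Scheme.{u}} {I₁ I₂ : Y → ℤ} (h₁ : PC I₁) (h₂ : PC I₂) :
    PC (fun y => I₁ y - I₂ y) := by
  intro y
  obtain ⟨S₁, hS₁, hy₁, hc₁⟩ := h₁ y
  obtain ⟨S₂, hS₂, hy₂, hc₂⟩ := h₂ y
  refine ⟨S₁ ∩ S₂, hS₁.inter hS₂, ⟨hy₁, hy₂⟩, fun y' hy' => ?_⟩
  change I₁ y' - I₂ y' = I₁ y - I₂ y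
  rw [hc₁ y' hy'.1, hc₂ y' hy'.2]

theorem PC.congr {Y : Scheme.{u}} {I₁ I₂ : Y → ℤ} (h₁ : PC I₁) (h : ∀ y, I₂ y = I₁ y) : PC I₂ := by
  have : I₂ = I₁ := funext h
  rw [this]; exact h₁

theorem PC.const {Y : Scheme.{u}} (c : ℤ) : PC (fun _ : Y => c) :=
  fun y => ⟨Set.univ, IsConstructible.univ, trivial, fun _ _ => rfl⟩

/-- separated case: the fibre integral is piecewise constant -/
theorem pc_of_separated {X Y : Scheme.{u}} [CompactSpace Y] [QuasiSeparatedSpace Y] (f : X ⟶ Y)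
    [LocallyQuasiFinite f] [LocallyOfFinitePresentation f] [QuasiCompact f] [IsSeparated f]
    (w : X → ℤ) (hw : GenWeighting f w) : PC (MoreMor.fibreIntegral f w) := by
  intro y
  have hfin : ∀ s, (f ⁻¹' {s}).Finite := fun s => Scheme.Hom.finite_preimage_singleton f s
  obtain ⟨V₁, e, v₁, P, fst, snd, hE, hev, hpb, O, N, hvN, hOc, hOfin, hON, hall, hcont⟩ :=
    sep_structure' f hfin w hw y
  haveI := hE
  haveI : LocallyOfFinitePresentation snd :=
    MorphismProperty.of_isPullback (P := @LocallyOfFinitePresentation) hpb inferInstance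
  haveI : QuasiCompact snd := MorphismProperty.of_isPullback (P := @QuasiCompact) hpb inferInstance
  let R : P.Opens := ⟨(O : Set P)ᶜ, hOc.isOpen_compl⟩
  haveI : IsClosedImmersion R.ι := by
    apply IsClosedImmersion.of_isPreimmersion
    rw [Scheme.Opens.range_ι]
    exact O.isOpen.isClosed_compl
  have hrange : IsLocallyConstructible (Set.range (R.ι ≫ snd)) := by
    have := (R.ι ≫ snd).isLocallyConstructible_image IsLocallyConstructible.univ
    rwa [Set.image_univ] at this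
  -- an affine open neighbourhood of `v₁` inside `N`
  obtain ⟨N', hN'aff, hvN', hN'le⟩ : ∃ N' : V₁.Opens, IsAffineOpen N' ∧ v₁ ∈ N' ∧ N' ≤ N := by
    obtain ⟨N', h1, h2, h3⟩ :=
      TopologicalSpace.Opens.isBasis_iff_nbhd.mp V₁.isBasis_affineOpens (U := N) (x := v₁) hvN
    exact ⟨N', h1, h2, h3⟩
  haveI : IsAffine (N' : Scheme.{u}) := hN'aff
  have hT : IsConstructible (N'.ι ⁻¹' (Set.range (R.ι ≫ snd))) :=
    (hrange.preimage_of_isOpenEmbedding N'.ι.isOpenEmbedding).isConstructible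
  have hTc : IsConstructible (N'.ι ⁻¹' (Set.range (R.ι ≫ snd)))ᶜ := isConstructible_compl.mpr hT
  refine ⟨(N'.ι ≫ e) '' (N'.ι ⁻¹' (Set.range (R.ι ≫ snd)))ᶜ,
    (N'.ι ≫ e).isConstructible_image hTc, ?_, ?_⟩
  · refine ⟨⟨v₁, hvN'⟩, ?_, hev⟩
    rintro ⟨r, hr⟩
    have h1 : snd (R.ι r) = v₁ := hr
    exact r.2 (hcont _ h1)
  · rintro _ ⟨v', hv', rfl⟩
    change MoreMor.fibreIntegral f w (e v'.1) = _
    have hv'N : v'.1 ∈ N := hN'le v'.2
    obtain ⟨h1, h2⟩ := hall v'.1
    have hunion : (Set.univ : Set P) = (O : Set P) ∪ (R : Set P) := by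
      simp [R]
    have hdisj : Disjoint (O : Set P) (R : Set P) := by
      simp only [R, TopologicalSpace.Opens.coe_mk]
      exact disjoint_compl_right
    rw [h1, hunion, JS_union snd _ hdisj (h2.subset Set.inter_subset_right)
      (h2.subset Set.inter_subset_right), hON v'.1 hv'N]
    have h0 : JS snd (w ∘ fst) (R : Set P) v'.1 = 0 := by
      apply JS_of_fiber_empty
      rw [Set.eq_empty_iff_forall_notMem]
      rintro p ⟨hpR, hp⟩
      apply hv'
      exact ⟨⟨p, hpR⟩, hp⟩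
    rw [h0, add_zero]


theorem JS_union_inter {P V : Scheme.{u}} (snd : P ⟶ V) (ω : P → ℤ) (A B : Set P) (v : V)
    (hfin : (snd ⁻¹' {v}).Finite) :
    JS snd ω (A ∪ B) v + JS snd ω (A ∩ B) v = JS snd ω A v + JS snd ω B v := by
  have hf : ∀ C : Set P, (C ∩ snd ⁻¹' {v}).Finite := fun C => hfin.subset Set.inter_subset_right
  have h1 : JS snd ω (A ∪ B) v = JS snd ω A v + JS snd ω (B \ A) v := by
    rw [← JS_union snd ω (Set.disjoint_sdiff_right) (hf _) (hf _), Set.union_diff_self]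
  have h2 : JS snd ω B v = JS snd ω (B \ A) v + JS snd ω (A ∩ B) v := by
    rw [← JS_union snd ω (Set.disjoint_left.mpr (fun x hx hx' => hx.2 hx'.1)) (hf _) (hf _)]
    congr 1
    ext x
    constructor
    · intro hx
      by_cases hxA : x ∈ A
      · exact Or.inr ⟨hxA, hx⟩
      · exact Or.inl ⟨hx, hxA⟩
    · rintro (hx | hx)
      · exact hx.1
      · exact hx.2
  rw [h1, h2]; ring

theorem pc_JS_of_le_affine {X Y : Scheme.{u}} [IsAffine Y] (f : X ⟶ Y) [LocallyQuasiFinite f]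
    [LocallyOfFinitePresentation f] (w : X → ℤ) (hw : GenWeighting f w) (W A : X.Opens)
    (hA : IsAffineOpen A) (hWA : W ≤ A) (hWc : IsCompact (W : Set X)) :
    PC (fun y => JS f w (W : Set X) y) := by
  haveI : IsAffine (A : Scheme.{u}) := hA
  haveI : CompactSpace (W : Scheme.{u}) := isCompact_iff_compactSpace.mp hWc
  haveI : IsSeparated (W.ι ≫ f) := by
    rw [← X.homOfLE_ι hWA, Category.assoc]
    infer_instance
  have h := pc_of_separated (W.ι ≫ f) (w ∘ W.ι) (genWeighting_restrict f W.ι hw)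
  refine h.congr (fun y => ?_)
  exact (J_eq_JS f w W y).symm

theorem pc_biUnion {X Y : Scheme.{u}} [IsAffine Y] (f : X ⟶ Y) [LocallyQuasiFinite f]
    [LocallyOfFinitePresentation f] [QuasiSeparatedSpace X] (w : X → ℤ) (hw : GenWeighting f w)
    (hfin : ∀ y, (f ⁻¹' {y}).Finite) :
    ∀ s : Finset X.Opens, (∀ A ∈ s, IsAffineOpen A) →
      PC (fun y => JS f w (⋃ A ∈ s, (A : Set X)) y) := by
  classical
  intro s
  induction s using Finset.induction_on with
  | empty =>
    intro _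
    refine (PC.const 0).congr (fun y => ?_)
    apply JS_of_fiber_empty
    simp
  | insert A s hAs ih =>
    intro hs
    have hA : IsAffineOpen A := hs A (Finset.mem_insert_self A s)
    have hs' : ∀ B ∈ s, IsAffineOpen B := fun B hB => hs B (Finset.mem_insert_of_mem hB)
    let B : X.Opens := ⟨⋃ C ∈ s, (C : Set X), isOpen_biUnion (fun C _ => C.2)⟩
    have hBc : IsCompact (B : Set X) :=
      s.finite_toSet.isCompact_biUnion (fun C hC => (hs' C hC).isCompact)
    have hAB : IsCompact ((A ⊓ B : X.Opens) : Set X) :=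
      QuasiSeparatedSpace.inter_isCompact _ _ A.2 hA.isCompact B.2 hBc
    have h1 := pc_JS_of_le_affine f w hw A A hA le_rfl hA.isCompact
    have h2 := ih hs'
    have h3 := pc_JS_of_le_affine f w hw (A ⊓ B) A hA inf_le_left hAB
    refine ((h1.add h2).sub h3).congr (fun y => ?_)
    have := JS_union_inter f w (A : Set X) (B : Set X) y (hfin y)
    rw [Finset.set_biUnion_insert]
    change JS f w ((A : Set X) ∪ (B : Set X)) y =
      JS f w A y + JS f w (B : Set X) y - JS f w ((A : Set X) ∩ (B : Set X)) y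
    linarith

theorem isConstructible_levelSet_fibreIntegral {X Y : Scheme.{u}} [IsAffine Y] (f : X ⟶ Y)
    [LocallyQuasiFinite f] [LocallyOfFinitePresentation f] [QuasiCompact f] [QuasiSeparated f]
    (w : X → ℤ) (hw : GenWeighting f w) (n : ℤ) :
    IsConstructible {y : Y | MoreMor.fibreIntegral f w y = n} := by
  haveI : QuasiSeparatedSpace X := quasiSeparatedSpace_of_quasiSeparated f
  haveI : CompactSpace X := QuasiCompact.compactSpace_of_compactSpace f
  have hfin : ∀ y, (f ⁻¹' {y}).Finite := fun y => Scheme.Hom.finite_preimage_singleton f y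
  obtain ⟨t, ht⟩ := isCompact_univ.elim_finite_subcover (fun U : X.affineOpens => (U.1 : Set X))
    (fun U => U.1.2) (by
      intro x _
      obtain ⟨_, ⟨U, hU, rfl⟩, hxU, -⟩ :=
        X.isBasis_affineOpens.exists_subset_of_mem_open (Set.mem_univ x) isOpen_univ
      exact Set.mem_iUnion.mpr ⟨⟨U, hU⟩, hxU⟩)
  classical
  let s : Finset X.Opens := t.image (fun U => U.1)
  have hs : ∀ A ∈ s, IsAffineOpen A := by
    intro A hA
    obtain ⟨U, -, rfl⟩ := Finset.mem_image.mp hA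
    exact U.2
  have hcov : (⋃ A ∈ s, (A : Set X)) = Set.univ := by
    apply Set.eq_univ_of_univ_subset
    intro x hx
    obtain ⟨U, hU, hxU⟩ := Set.mem_iUnion₂.mp (ht hx)
    exact Set.mem_iUnion₂.mpr ⟨U.1, Finset.mem_image_of_mem _ hU, hxU⟩
  have hpc : PC (MoreMor.fibreIntegral f w) := by
    refine (pc_biUnion f w hw hfin s hs).congr (fun y => ?_)
    rw [hcov, fibreIntegral_eq_JS_univ]
  exact WtCons.isConstructible_levelSet (MoreMor.fibreIntegral f w) (fun y => hpc y) n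

theorem isLocallyConstructible_levelSet_fibreIntegral {X Y : Scheme.{u}} (f : X ⟶ Y)
    [LocallyQuasiFinite f] [LocallyOfFinitePresentation f] [QuasiCompact f] [QuasiSeparated f]
    (w : X → ℤ) (hw : MoreMor.IsWeighting f w) (n : ℤ) :
    IsLocallyConstructible {y : Y | MoreMor.fibreIntegral f w y = n} := by
  have hgw := genWeighting_of_isWeighting hw
  have hfin : ∀ y, (f ⁻¹' {y}).Finite := fun y => Scheme.Hom.finite_preimage_singleton f y
  refine IsLocallyConstructible.of_isOpenCover (U := fun U : Y.affineOpens => U.1)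
    (iSup_affineOpens_eq_top Y) (fun U => ?_)
  haveI : IsAffine (U.1 : Scheme.{u}) := U.2
  have hpb : IsPullback (f ⁻¹ᵁ U.1).ι (f ∣_ U.1) f U.1.ι := (isPullback_morphismRestrict f U.1).flip
  haveI : LocallyQuasiFinite (f ∣_ U.1) :=
    MorphismProperty.of_isPullback (P := @LocallyQuasiFinite) hpb inferInstance
  haveI : LocallyOfFinitePresentation (f ∣_ U.1) :=
    MorphismProperty.of_isPullback (P := @LocallyOfFinitePresentation) hpb inferInstance
  haveI : QuasiCompact (f ∣_ U.1) :=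
    MorphismProperty.of_isPullback (P := @QuasiCompact) hpb inferInstance
  haveI : QuasiSeparated (f ∣_ U.1) :=
    MorphismProperty.of_isPullback (P := @QuasiSeparated) hpb inferInstance
  have hgw' := WtBC.genWeighting_baseChange f w hgw (f ∣_ U.1) (f ⁻¹ᵁ U.1).ι U.1.ι hpb
  have hc := isConstructible_levelSet_fibreIntegral (f ∣_ U.1) (w ∘ (f ⁻¹ᵁ U.1).ι) hgw' n
  have key : IsLocallyConstructible
      {u : (U.1 : Scheme.{u}) | MoreMor.fibreIntegral f w (U.1.ι u) = n} := by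
    have heq : {u : (U.1 : Scheme.{u}) | MoreMor.fibreIntegral f w (U.1.ι u) = n} =
        {u : (U.1 : Scheme.{u}) | MoreMor.fibreIntegral (f ∣_ U.1) (w ∘ (f ⁻¹ᵁ U.1).ι) u = n} := by
      ext u
      have := (fibreIntegral_baseChange f (f ∣_ U.1) (f ⁻¹ᵁ U.1).ι U.1.ι hpb w u (hfin _)).1
      simp only [Set.mem_setOf_eq]
      rw [this]
    rw [heq]
    exact hc.isLocallyConstructible
  exact key

end Groth.Agent.H1.WtLvl
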