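import Mathlib
import Groth.Prelude.Def_MoreMor
import Groth.Agent.Lib.Helper1.WtBC

set_option autoImplicit false
universe u

namespace Groth.Agent.H1.WtOpen

open AlgebraicGeometry CategoryTheory Limits WtLift WtJ WtKey WtBasic WtPos WtBC

theorem fibreIntegral_eq_zero_of_empty {U V : Scheme.{u}} (π : U ⟶ V) (ω : U → ℤ) (v : V)
    (h : ∀ u, π u ≠ v) : MoreMor.fibreIntegral π ω v = 0 := by
  rw [fibreIntegral_eq_JS_univ]
  apply JS_of_fiber_empty
  rw [Set.eq_empty_iff_forall_notMem]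
  rintro u ⟨-, hu⟩
  exact h u hu

theorem isOpen_range {X Y : Scheme.{u}} (f : X ⟶ Y) [LocallyQuasiFinite f]
    [LocallyOfFiniteType f] (w : X → ℤ) (hw : GenWeighting f w) (hpos : ∀ x, 0 < w x) :
    IsOpen (Set.range f) := by
  rw [isOpen_iff_forall_mem_open]
  rintro _ ⟨x, rfl⟩
  obtain ⟨D, u, hρ, hg, huniq, hdeg⟩ := exists_chart f x (f.quasiFiniteAt x)
  have hlc := hw D
  rw [IsLocallyConstant.iff_exists_open] at hlc
  obtain ⟨N, hNo, hvN, hN⟩ := hlc (D.π u)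
  have hval : D.I w (D.π u) = w x := by rw [Test.I_of_unique D w u huniq hdeg, hρ]
  refine ⟨D.g '' N, ?_, D.g.isOpenMap _ hNo, ⟨D.π u, hvN, hg⟩⟩
  rintro _ ⟨v₁, hv₁, rfl⟩
  have h1 : D.I w v₁ = w x := by rw [hN v₁ hv₁, hval]
  have h2 : ∃ u₁, D.π u₁ = v₁ := by
    by_contra hcon
    push Not at hcon
    have := fibreIntegral_eq_zero_of_empty D.π (w ∘ D.ρ) v₁ hcon
    have h3 : D.I w v₁ = 0 := this
    have := hpos x
    omega
  obtain ⟨u₁, rfl⟩ := h2
  refine ⟨D.ρ u₁, ?_⟩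
  have : (D.fst ≫ f) (D.j u₁) = (D.snd ≫ D.g) (D.j u₁) := by rw [D.pb.w]
  exact this

theorem isOpenMap {X Y : Scheme.{u}} (f : X ⟶ Y) [LocallyQuasiFinite f]
    [LocallyOfFiniteType f] (w : X → ℤ) (hw : GenWeighting f w) (hpos : ∀ x, 0 < w x) :
    IsOpenMap f := by
  intro s hs
  let O : X.Opens := ⟨s, hs⟩
  have h1 := isOpen_range (O.ι ≫ f) (w ∘ O.ι) (genWeighting_restrict f O.ι hw) (fun x => hpos _)
  have h2 : Set.range (O.ι ≫ f) = f '' s := by
    ext y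
    constructor
    · rintro ⟨x, rfl⟩; exact ⟨O.ι x, x.2, rfl⟩
    · rintro ⟨x, hx, rfl⟩; exact ⟨⟨x, hx⟩, rfl⟩
  rwa [h2] at h1

/-- S1420 -/
theorem universallyOpen {X Y : Scheme.{u}} (f : X ⟶ Y) [LocallyQuasiFinite f]
    [LocallyOfFiniteType f] (w : X → ℤ) (hw : GenWeighting f w) (hpos : ∀ x, 0 < w x) :
    UniversallyOpen f := by
  refine ⟨?_⟩
  intro X' Y' i₁ i₂ f' hpb
  haveI : LocallyQuasiFinite f' := MorphismProperty.of_isPullback hpb.flip inferInstance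
  haveI : LocallyOfFiniteType f' := MorphismProperty.of_isPullback hpb.flip inferInstance
  exact isOpenMap f' (w ∘ i₁) (genWeighting_baseChange f w hw f' i₁ i₂ hpb.flip) (fun x => hpos _)

end Groth.Agent.H1.WtOpen
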