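import Mathlib

set_option autoImplicit false
universe u
open IsLocalRing


namespace Groth.Agent.H1.WtRankA

theorem length_self_eq_of_ringEquiv {R₁ R₂ : Type*} [CommRing R₁] [CommRing R₂] (e : R₁ ≃+* R₂) :
    Module.length R₁ R₁ = Module.length R₂ R₂ := by
  apply WithBot.coe_injective
  rw [Module.coe_length, Module.coe_length]
  exact Order.krullDim_eq_of_orderIso (RingEquiv.idealComapOrderIso e).symm

theorem length_quotient_self {B : Type*} [CommRing B] (I : Ideal B) :
    Module.length B (B ⧸ I) = Module.length (B ⧸ I) (B ⧸ I) :=
  Module.length_eq_of_surjective Ideal.Quotient.mk_surjective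

theorem length_quotient_eq_of_ringEquiv {B B' : Type*} [CommRing B] [CommRing B'] (e : B ≃+* B')
    (I : Ideal B) (I' : Ideal B') (h : I' = I.map (e : B →+* B')) :
    Module.length B (B ⧸ I) = Module.length B' (B' ⧸ I') := by
  rw [length_quotient_self, length_quotient_self]
  exact length_self_eq_of_ringEquiv (Ideal.quotientEquiv I I' e h)

theorem length_quotient_bot {B : Type*} [CommRing B] :
    Module.length B (B ⧸ (⊥ : Ideal B)) = Module.length B B :=
  (Submodule.quotEquivOfEqBot (⊥ : Ideal B) rfl).length_eq

theorem map_maximalIdeal_of_ringEquiv {A A' : Type*} [CommRing A] [CommRing A'] [IsLocalRing A]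
    [IsLocalRing A'] (e : A ≃+* A') :
    (maximalIdeal A).map (e : A →+* A') = maximalIdeal A' := by
  apply le_antisymm
  · rw [Ideal.map_le_iff_le_comap]
    intro x hx
    rw [Ideal.mem_comap, mem_maximalIdeal, mem_nonunits_iff]
    intro h
    have h2 := h.map (e.symm : A' →+* A)
    simp only [RingEquiv.coe_toRingHom, RingEquiv.symm_apply_apply] at h2
    exact hx h2
  · intro x hx
    have h1 : e.symm x ∈ maximalIdeal A := by
      rw [mem_maximalIdeal, mem_nonunits_iff]
      intro h
      have h2 := h.map (e : A →+* A')
      simp only [RingEquiv.coe_toRingHom, RingEquiv.apply_symm_apply] at h2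
      exact hx h2
    have := Ideal.mem_map_of_mem (e : A →+* A') h1
    simpa using this

/-- invariance of the fibre length under isomorphisms of arrows -/
theorem length_quot_map_eq_of_ringEquiv {A B A' B' : Type*} [CommRing A] [CommRing B]
    [CommRing A'] [CommRing B'] [IsLocalRing A] [IsLocalRing A'] (φ : A →+* B) (φ' : A' →+* B')
    (eA : A ≃+* A') (eB : B ≃+* B') (h : ∀ a, eB (φ a) = φ' (eA a)) :
    Module.length B (B ⧸ (maximalIdeal A).map φ) =
      Module.length B' (B' ⧸ (maximalIdeal A').map φ') := by
  apply length_quotient_eq_of_ringEquiv eB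
  rw [← map_maximalIdeal_of_ringEquiv eA, Ideal.map_map, Ideal.map_map]
  congr 1
  ext a
  simp [h]

/-- invariance of the residue degree under isomorphisms of arrows -/
theorem finrank_residueField_eq_of_ringEquiv {A B A' B' : Type u} [CommRing A] [CommRing B]
    [CommRing A'] [CommRing B'] [IsLocalRing A] [IsLocalRing A'] [IsLocalRing B] [IsLocalRing B']
    (φ : A →+* B) (φ' : A' →+* B') [IsLocalHom φ] [IsLocalHom φ']
    (eA : A ≃+* A') (eB : B ≃+* B') (h : ∀ a, eB (φ a) = φ' (eA a)) :
    (letI := (ResidueField.map φ).toAlgebra
     Module.finrank (ResidueField A) (ResidueField B)) =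
    (letI := (ResidueField.map φ').toAlgebra
     Module.finrank (ResidueField A') (ResidueField B')) := by
  letI := (ResidueField.map φ).toAlgebra
  letI := (ResidueField.map φ').toAlgebra
  change Cardinal.toNat (Module.rank (ResidueField A) (ResidueField B)) =
    Cardinal.toNat (Module.rank (ResidueField A') (ResidueField B'))
  congr 1
  apply Algebra.rank_eq_of_equiv_equiv (ResidueField.mapEquiv eA) (ResidueField.mapEquiv eB)
  ext x
  obtain ⟨a, rfl⟩ := residue_surjective x
  simp only [RingHom.algebraMap_toAlgebra, RingEquiv.toRingHom_eq_coe, RingHom.coe_comp,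
    RingHom.coe_coe, Function.comp_apply, ResidueField.mapEquiv_apply, ResidueField.map_residue,
    RingEquiv.coe_toRingHom, h]


theorem isLocalHom_of_field {K R : Type*} [Field K] [CommRing R] [Nontrivial R] (f : K →+* R) :
    IsLocalHom f := by
  constructor
  intro a ha
  rcases eq_or_ne a 0 with rfl | h
  · rw [map_zero] at ha
    exact absurd ha not_isUnit_zero
  · exact IsUnit.mk0 a h

theorem toNat_length_field (K M : Type*) [DivisionRing K] [AddCommGroup M] [Module K M] :
    (Module.length K M).toNat = Module.finrank K M := by
  rw [Module.length_eq_rank, Cardinal.toNat_toENat]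
  rfl

attribute [local instance] isLocalHom_of_field

/-- the rank of a finite algebra over a field as the sum of the local degrees. -/
theorem finrank_eq_sum_localization (K F : Type u) [Field K] [CommRing F] [Algebra K F]
    [Module.Finite K F] [Fintype (PrimeSpectrum F)] :
    Module.finrank K F = ∑ q : PrimeSpectrum F,
      (Module.length (Localization.AtPrime q.asIdeal) (Localization.AtPrime q.asIdeal)).toNat *
      Module.finrank (ResidueField K) (ResidueField (Localization.AtPrime q.asIdeal)) := by
  classical
  haveI : IsArtinianRing F := IsArtinianRing.of_finite K F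
  let e := PrimeSpectrum.toPiLocalizationEquiv F
  let eK : F ≃ₗ[K] (Π p : PrimeSpectrum F, Localization.AtPrime p.asIdeal) :=
    e.toLinearEquiv.restrictScalars K
  haveI : Module.Finite K (Π p : PrimeSpectrum F, Localization.AtPrime p.asIdeal) :=
    Module.Finite.equiv eK
  haveI : ∀ q : PrimeSpectrum F, Module.Finite K (Localization.AtPrime q.asIdeal) := fun q =>
    Module.Finite.of_surjective
      (LinearMap.proj q : (Π p : PrimeSpectrum F, Localization.AtPrime p.asIdeal) →ₗ[K] _)
      (LinearMap.proj_surjective q)
  rw [eK.finrank_eq, Module.finrank_pi_fintype]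
  apply Finset.sum_congr rfl
  intro q _
  have h1 := IsLocalRing.length_restrictScalars K (Localization.AtPrime q.asIdeal)
    (Localization.AtPrime q.asIdeal)
  have h2 := Module.length_eq_finrank K (Localization.AtPrime q.asIdeal)
  rw [h2] at h1
  have h3 := congrArg ENat.toNat h1
  rw [ENat.toNat_coe, ENat.toNat_mul, toNat_length_field] at h3
  exact h3

end Groth.Agent.H1.WtRankA
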