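import Mathlib
import Groth.Agent.Lib.Helper1.EtStalk
import Groth.Agent.Lib.Helper1.FibreStalk
import Groth.Agent.Lib.Helper1.PullComp
import Groth.Agent.Lib.Helper1.WtComp
import Groth.Agent.Lib.Helper1.WtRankA
import Groth.Prelude.Def_MoreMor

set_option autoImplicit false
universe u
open AlgebraicGeometry CategoryTheory Limits IsLocalRing


namespace Groth.Agent.H1.WtRankB

open Groth.Agent.H1.PullComp Groth.Agent.H1.WtLift

variable {X Y Z : Scheme.{u}}

/-- the inseparable degree of the residue field extension at `x`. -/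
noncomputable def insepFac (f : X ⟶ Y) (x : X) : ℕ :=
  letI := (f.residueFieldMap x).hom.toAlgebra
  Field.finInsepDegree (Y.residueField (f x)) (X.residueField x)

/-- the weight function of S1421 -/
noncomputable def wt (f : X ⟶ Y) (x : X) : ℤ := (lenFac f x : ℤ) * (insepFac f x : ℤ)

/-- the residue field extension at `x` is separable (algebraic) -/
def ResSep (f : X ⟶ Y) (x : X) : Prop :=
  letI := (f.residueFieldMap x).hom.toAlgebra
  Algebra.IsSeparable (Y.residueField (f x)) (X.residueField x)

/-- the residue field extension at `x` is algebraic -/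
def ResAlg (f : X ⟶ Y) (x : X) : Prop :=
  letI := (f.residueFieldMap x).hom.toAlgebra
  Algebra.IsAlgebraic (Y.residueField (f x)) (X.residueField x)

theorem ResSep.resAlg {f : X ⟶ Y} {x : X} (h : ResSep f x) : ResAlg f x := by
  letI := (f.residueFieldMap x).hom.toAlgebra
  haveI : Algebra.IsSeparable (Y.residueField (f x)) (X.residueField x) := h
  exact (inferInstance : Algebra.IsAlgebraic (Y.residueField (f x)) (X.residueField x))

theorem resAlg_of_finite {f : X ⟶ Y} {x : X} (h : (f.residueFieldMap x).hom.Finite) :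
    ResAlg f x := by
  letI := (f.residueFieldMap x).hom.toAlgebra
  haveI : Module.Finite (Y.residueField (f x)) (X.residueField x) := h
  exact (inferInstance : Algebra.IsAlgebraic (Y.residueField (f x)) (X.residueField x))

theorem insepFac_eq_one {f : X ⟶ Y} {x : X} (h : ResSep f x) : insepFac f x = 1 := by
  unfold insepFac
  letI := (f.residueFieldMap x).hom.toAlgebra
  exact (isSeparable_iff_finInsepDegree_eq_one _ _).mp h

theorem insepFac_congr_hom {f g : X ⟶ Y} (e : f = g) (x : X) : insepFac f x = insepFac g x := by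
  subst e; rfl

theorem lenFac_congr_hom {f g : X ⟶ Y} (e : f = g) (x : X) : lenFac f x = lenFac g x := by
  subst e; rfl

theorem insepFac_comp (f : X ⟶ Y) (g : Y ⟶ Z) (x : X) (halg : ResAlg g (f x)) :
    insepFac (f ≫ g) x = insepFac g (f x) * insepFac f x := by
  unfold insepFac
  letI a1 : Algebra (Z.residueField (g (f x))) (Y.residueField (f x)) :=
    (g.residueFieldMap (f x)).hom.toAlgebra
  letI a2 : Algebra (Y.residueField (f x)) (X.residueField x) := (f.residueFieldMap x).hom.toAlgebra
  letI a3 : Algebra (Z.residueField (g (f x))) (X.residueField x) :=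
    ((f ≫ g).residueFieldMap x).hom.toAlgebra
  haveI : IsScalarTower (Z.residueField (g (f x))) (Y.residueField (f x)) (X.residueField x) := by
    apply IsScalarTower.of_algebraMap_eq'
    change ((f ≫ g).residueFieldMap x).hom =
      (f.residueFieldMap x).hom.comp (g.residueFieldMap (f x)).hom
    rw [Scheme.residueFieldMap_comp]
    rfl
  haveI : Algebra.IsAlgebraic (Z.residueField (g (f x))) (Y.residueField (f x)) := halg
  exact (Field.finInsepDegree_mul_finInsepDegree_of_isAlgebraic (Z.residueField (g (f x)))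
    (Y.residueField (f x)) (X.residueField x)).symm

theorem isSeparable_of_surjective {F E : Type*} [Field F] [Field E] [Algebra F E]
    (h : Function.Surjective (algebraMap F E)) : Algebra.IsSeparable F E :=
  ⟨fun y => by obtain ⟨x, rfl⟩ := h y; exact isSeparable_algebraMap x⟩

theorem residueFieldMap_surjective_of_isPreimmersion (f : X ⟶ Y) [IsPreimmersion f] (x : X) :
    Function.Surjective (f.residueFieldMap x).hom := by
  intro b
  obtain ⟨b', rfl⟩ := IsLocalRing.residue_surjective b
  obtain ⟨a, rfl⟩ := f.stalkMap_surjective x b'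
  exact ⟨IsLocalRing.residue _ a, rfl⟩

theorem resSep_of_isPreimmersion (f : X ⟶ Y) [IsPreimmersion f] (x : X) : ResSep f x := by
  letI := (f.residueFieldMap x).hom.toAlgebra
  exact isSeparable_of_surjective (residueFieldMap_surjective_of_isPreimmersion f x)

theorem resSep_of_unramified (f : X ⟶ Y) [AlgebraicGeometry.FormallyUnramified f]
    [LocallyOfFiniteType f] (x : X) : ResSep f x := by
  have h1 := AlgebraicGeometry.FormallyUnramified.stalkMap f x
  have h2 := LocallyOfFiniteType.stalkMap f x
  algebraize [(f.stalkMap x).hom]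
  haveI : IsLocalHom (algebraMap (Y.presheaf.stalk (f x)) (X.presheaf.stalk x)) :=
    f.toLRSHom.prop x
  unfold ResSep
  have e : (f.residueFieldMap x).hom.toAlgebra =
      (inferInstance : Algebra (IsLocalRing.ResidueField (Y.presheaf.stalk (f x)))
        (IsLocalRing.ResidueField (X.presheaf.stalk x))) := by
    refine Algebra.algebra_ext _ _ fun x ↦ ?_
    obtain ⟨x, rfl⟩ := IsLocalRing.residue_surjective x
    rfl
  rw [e]
  exact (inferInstance : Algebra.IsSeparable (IsLocalRing.ResidueField (Y.presheaf.stalk (f x)))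
    (IsLocalRing.ResidueField (X.presheaf.stalk x)))

theorem length_quotient_maximalIdeal (B : Type*) [CommRing B] [IsLocalRing B] :
    Module.length B (B ⧸ maximalIdeal B) = 1 := by
  rw [Module.length_eq_one_iff]
  exact isSimpleModule_iff_quot_maximal.mpr ⟨maximalIdeal B, inferInstance, ⟨LinearEquiv.refl B _⟩⟩

theorem lenFac_eq_one_of_unramified (f : X ⟶ Y) [AlgebraicGeometry.FormallyUnramified f]
    [LocallyOfFiniteType f] (x : X) : lenFac f x = 1 := by
  unfold lenFac
  rw [EtStalk.map_maximalIdeal_stalkMap, length_quotient_maximalIdeal]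
  rfl

/-- invariance of the inseparable degree along squares with separable sides -/
theorem insepFac_square {U' V' U V : Scheme.{u}} (π' : U' ⟶ V') (π : U ⟶ V) (h : U' ⟶ U)
    (g : V' ⟶ V) (w : h ≫ π = π' ≫ g) (u' : U') (hh : ResSep h u') (hg : ResSep g (π' u'))
    (hπ : ResAlg π (h u')) : insepFac π (h u') = insepFac π' u' := by
  have e1 := insepFac_comp h π u' hπ
  have e2 := insepFac_comp π' g u' hg.resAlg
  rw [insepFac_eq_one hh, mul_one] at e1
  rw [insepFac_eq_one hg, one_mul] at e2
  rw [← e1, ← e2, insepFac_congr_hom w]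

/-- invariance of the fibre length along flat squares with unramified sides -/
theorem lenFac_square {U' V' U V : Scheme.{u}} (π' : U' ⟶ V') (π : U ⟶ V) (h : U' ⟶ U)
    (g : V' ⟶ V) (w : h ≫ π = π' ≫ g) (u' : U') [Flat h] [Flat π'] (hh : lenFac h u' = 1)
    (hg : lenFac g (π' u') = 1) : lenFac π (h u') = lenFac π' u' := by
  have e1 := lenFac_comp h π u'
  have e2 := lenFac_comp π' g u'
  rw [hh, mul_one] at e1
  rw [hg, one_mul] at e2
  rw [← e1, ← e2, lenFac_congr_hom w]

/-- invariance of the weight along étale squares -/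
theorem wt_square_etale {U' V' U V : Scheme.{u}} (π' : U' ⟶ V') (π : U ⟶ V) (h : U' ⟶ U)
    (g : V' ⟶ V) (w : h ≫ π = π' ≫ g) (u' : U') [Etale h] [Etale g] [Flat π']
    (hπ : ResAlg π (h u')) : wt π (h u') = wt π' u' := by
  unfold wt
  rw [lenFac_square π' π h g w u' (lenFac_eq_one_of_unramified h u')
      (lenFac_eq_one_of_unramified g (π' u')),
    insepFac_square π' π h g w u' (resSep_of_unramified h u') (resSep_of_unramified g (π' u')) hπ]


open Groth.Agent.H1.PullComp Groth.Agent.H1.WtLift

variable {X Y Z : Scheme.{u}}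

theorem lenFac_fiber (f : X ⟶ Y) (x : X) :
    lenFac f x = lenFac (f.fiberToSpecResidueField (f x)) (f.asFiber x) := by
  unfold lenFac
  congr 1
  rw [WtRankA.length_quotient_self,
    WtRankA.length_self_eq_of_ringEquiv (FibreStalk.fiberStalkEquiv f x)]
  have hm : maximalIdeal ((Spec (Y.residueField (f x))).presheaf.stalk
      ((f.fiberToSpecResidueField (f x)) (f.asFiber x))) = ⊥ := by
    rw [eq_bot_iff]
    intro a ha
    exact Ideal.mem_bot.mpr
      (FibreStalk.eq_zero_of_not_isUnit_stalk_field (Y.residueField (f x)) _ a ha)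
  rw [hm, Ideal.map_bot, WtRankA.length_quotient_bot]

theorem insepFac_fiber (f : X ⟶ Y) (x : X) (hx : ResAlg f x) :
    insepFac f x = insepFac (f.fiberToSpecResidueField (f x)) (f.asFiber x) := by
  have h := insepFac_square (f.fiberToSpecResidueField (f x)) f (f.fiberι (f x))
    (Y.fromSpecResidueField (f x)) (f.fiber_fac (f x)) (f.asFiber x)
    (resSep_of_isPreimmersion _ _) (resSep_of_isPreimmersion _ _)
    (by rw [f.fiberι_asFiber x]; exact hx)
  rw [← h, f.fiberι_asFiber x]

theorem wt_fiber (f : X ⟶ Y) (x : X) (hx : ResAlg f x) :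
    wt f x = wt (f.fiberToSpecResidueField (f x)) (f.asFiber x) := by
  unfold wt
  rw [lenFac_fiber f x, insepFac_fiber f x hx]

theorem map_fiberι (f : X ⟶ Y) (y : Y) (z : f.fiber y) : f (f.fiberι y z) = y := by
  have : f.fiberι y z ∈ f ⁻¹' {y} := by
    rw [← f.range_fiberι y]; exact ⟨z, rfl⟩
  exact this

theorem wt_fiber' (f : X ⟶ Y) (y : Y) (z : f.fiber y) (hx : ResAlg f (f.fiberι y z)) :
    wt f (f.fiberι y z) = wt (f.fiberToSpecResidueField y) z := by
  have key : ∀ (x : X) (y : Y) (_ : f x = y) (z : f.fiber y) (_ : f.fiberι y z = x),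
      ResAlg f x → wt f x = wt (f.fiberToSpecResidueField y) z := by
    intro x y h
    subst h
    intro z hz hx
    have hz' : z = f.asFiber x :=
      (f.fiberι (f x)).isEmbedding.injective (by rw [hz, f.fiberι_asFiber])
    subst hz'
    exact wt_fiber f x hx
  exact key _ y (map_fiberι f y z) z rfl hx

theorem sepDeg_mul_insepFac (f : X ⟶ Y) (x : X) :
    sepDeg f x * insepFac f x = f.residueDegree x := by
  unfold sepDeg insepFac Scheme.Hom.residueDegree
  letI := (f.residueFieldMap x).hom.toAlgebra
  exact Field.finSepDegree_mul_finInsepDegree _ _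

theorem wt_mul_sepDeg (f : X ⟶ Y) (x : X) :
    wt f x * (sepDeg f x : ℤ) = (lenFac f x : ℤ) * (f.residueDegree x : ℤ) := by
  unfold wt
  rw [mul_assoc, ← sepDeg_mul_insepFac]
  push_cast
  ring

end Groth.Agent.H1.WtRankB
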