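import Mathlib
import Groth.Agent.Lib.Helper1.WtRankB

set_option autoImplicit false
universe u
open AlgebraicGeometry CategoryTheory Limits IsLocalRing


namespace Groth.Agent.H1.WtRankC

open Groth.Agent.H1.PullComp Groth.Agent.H1.WtLift Groth.Agent.H1.WtRankB

attribute [local instance] WtRankA.isLocalHom_of_field

set_option backward.isDefEq.respectTransparency false in
/-- the stalk map of `Spec F → Spec K` at `q` is isomorphic to `K → F_q`. -/
theorem exists_stalk_equivs (K : Type u) [Field K] (F : CommRingCat.{u})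
    (ψ : CommRingCat.of K ⟶ F) (q : PrimeSpectrum F) :
    letI := ψ.hom.toAlgebra
    ∃ (eA : (Spec (CommRingCat.of K)).presheaf.stalk ((Spec.map ψ) q) ≃+* K)
      (eB : (Spec F).presheaf.stalk q ≃+* Localization.AtPrime q.asIdeal),
      ∀ a, eB (((Spec.map ψ).stalkMap q).hom a) =
        algebraMap K (Localization.AtPrime q.asIdeal) (eA a) := by
  letI := ψ.hom.toAlgebra
  let P : PrimeSpectrum K := q.comap ψ.hom
  let eA₁ : (Spec (CommRingCat.of K)).presheaf.stalk ((Spec.map ψ) q) ≃+*
      Localization.AtPrime P.asIdeal :=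
    (Spec.stalkIso (CommRingCat.of K) P).commRingCatIsoToRingEquiv
  let eB : (Spec F).presheaf.stalk q ≃+* Localization.AtPrime q.asIdeal :=
    (Spec.stalkIso F q).commRingCatIsoToRingEquiv
  have hunits : P.asIdeal.primeCompl ≤ IsUnit.submonoid K := by
    intro x hx
    have hx0 : x ≠ 0 := fun h => hx (by rw [h]; exact zero_mem _)
    exact IsUnit.mk0 x hx0
  let eA₂ : K ≃ₐ[K] Localization.AtPrime P.asIdeal :=
    IsLocalization.atUnits K P.asIdeal.primeCompl hunits
  refine ⟨eA₁.trans eA₂.symm.toRingEquiv, eB, fun a => ?_⟩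
  have hcomp := Scheme.localRingHom_comp_stalkIso ψ q
  have h1 : eB (((Spec.map ψ).stalkMap q).hom a) =
      Localization.localRingHom P.asIdeal q.asIdeal ψ.hom rfl (eA₁ a) := by
    rw [← hcomp]
    change eB ((Spec.stalkIso F q).inv.hom _) = _
    exact (Spec.stalkIso F q).commRingCatIsoToRingEquiv.apply_symm_apply _
  rw [h1]
  have h2 : eA₁ a = algebraMap K (Localization.AtPrime P.asIdeal) (eA₂.symm (eA₁ a)) := by
    have h3 := eA₂.apply_symm_apply (eA₁ a)
    rw [← h3]
    simp only [AlgEquiv.symm_apply_apply]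
    exact (eA₂.commutes (eA₂.symm (eA₁ a)))
  rw [h2, Localization.localRingHom_to_map]
  rfl


open Groth.Agent.H1.PullComp Groth.Agent.H1.WtLift Groth.Agent.H1.WtRankB

attribute [local instance] WtRankA.isLocalHom_of_field

theorem lenFac_SpecMap (K : Type u) [Field K] (F : CommRingCat.{u})
    (ψ : CommRingCat.of K ⟶ F) (q : PrimeSpectrum F) :
    lenFac (Spec.map ψ) q = (Module.length (Localization.AtPrime q.asIdeal)
      (Localization.AtPrime q.asIdeal)).toNat := by
  letI := ψ.hom.toAlgebra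
  obtain ⟨eA, eB, h⟩ := exists_stalk_equivs K F ψ q
  unfold lenFac
  congr 1
  rw [WtRankA.length_quot_map_eq_of_ringEquiv ((Spec.map ψ).stalkMap q).hom
    (algebraMap K (Localization.AtPrime q.asIdeal)) eA eB h]
  have : maximalIdeal K = ⊥ := IsLocalRing.isField_iff_maximalIdeal_eq.mp (Field.toIsField K)
  rw [this, Ideal.map_bot, WtRankA.length_quotient_bot]

theorem residueDegree_SpecMap (K : Type u) [Field K] (F : CommRingCat.{u})
    (ψ : CommRingCat.of K ⟶ F) (q : PrimeSpectrum F) :
    letI := ψ.hom.toAlgebra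
    (Spec.map ψ).residueDegree q =
      Module.finrank (ResidueField K) (ResidueField (Localization.AtPrime q.asIdeal)) := by
  letI := ψ.hom.toAlgebra
  obtain ⟨eA, eB, h⟩ := exists_stalk_equivs K F ψ q
  haveI : IsLocalRing ((Spec F).presheaf.stalk q) :=
    inferInstanceAs (IsLocalRing ((Spec F).presheaf.stalk (show ↥(Spec F) from q)))
  haveI : IsLocalHom ((Spec.map ψ).stalkMap q).hom :=
    inferInstanceAs (IsLocalHom ((Spec.map ψ).stalkMap (show ↥(Spec F) from q)).hom)
  have h1 := WtRankA.finrank_residueField_eq_of_ringEquiv ((Spec.map ψ).stalkMap q).hom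
    (algebraMap K (Localization.AtPrime q.asIdeal)) eA eB h
  have e : (ResidueField.map (algebraMap K (Localization.AtPrime q.asIdeal))).toAlgebra =
      (inferInstance : Algebra (ResidueField K)
        (ResidueField (Localization.AtPrime q.asIdeal))) := by
    refine Algebra.algebra_ext _ _ fun x ↦ ?_
    obtain ⟨x, rfl⟩ := residue_surjective x
    rfl
  rw [e] at h1
  exact h1

theorem finrank_SpecMap_eq_fibreIntegral (K : Type u) [Field K] (F : CommRingCat.{u})
    (ψ : CommRingCat.of K ⟶ F) (hfin : ψ.hom.Finite) (s : Spec (CommRingCat.of K)) :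
    ((Spec.map ψ).finrank s : ℤ) = MoreMor.fibreIntegral (Spec.map ψ) (wt (Spec.map ψ)) s := by
  algebraize [ψ.hom]
  have hflat : ψ.hom.Flat := (inferInstance : Module.Flat K F)
  rw [Scheme.Hom.finrank_SpecMap_eq_finrank hfin hflat]
  have hrank : ψ.hom.finrank s = Module.finrank K F := by
    unfold RingHom.finrank
    rw [Module.rankAtStalk_eq_finrank_of_free]
    rfl
  rw [hrank]
  haveI : IsArtinianRing F := IsArtinianRing.of_finite K F
  haveI : Fintype (PrimeSpectrum F) := Fintype.ofFinite _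
  rw [WtRankA.finrank_eq_sum_localization K F, fibreIntegral_def]
  have hall : ∀ z : PrimeSpectrum F, (Spec.map ψ) z = s := fun z => Subsingleton.elim _ _
  have hre : ∑ᶠ u : {u : Spec F // (Spec.map ψ) u = s},
      wt (Spec.map ψ) u.1 * (sepDeg (Spec.map ψ) u.1 : ℤ) =
      ∑ᶠ z : PrimeSpectrum F, wt (Spec.map ψ) z * (sepDeg (Spec.map ψ) z : ℤ) :=
    finsum_comp_equiv (Equiv.subtypeUnivEquiv hall)
      (f := fun z : PrimeSpectrum F => wt (Spec.map ψ) z * (sepDeg (Spec.map ψ) z : ℤ))
  rw [hre, finsum_eq_sum_of_fintype]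
  push_cast
  apply Finset.sum_congr rfl
  intro q _
  have h1 := wt_mul_sepDeg (Spec.map ψ) q
  have h2 : (lenFac (Spec.map ψ) q : ℤ) = ((Module.length (Localization.AtPrime q.asIdeal)
      (Localization.AtPrime q.asIdeal)).toNat : ℤ) := by
    exact_mod_cast lenFac_SpecMap K F ψ q
  have h3 : (((Spec.map ψ).residueDegree q : ℕ) : ℤ) = (Module.finrank (ResidueField K)
      (ResidueField (Localization.AtPrime q.asIdeal)) : ℤ) := by
    exact_mod_cast residueDegree_SpecMap K F ψ q
  rw [h2, h3] at h1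
  exact h1.symm

theorem finrank_eq_fibreIntegral_of_field (K : Type u) [Field K] {Z : Scheme.{u}}
    (p : Z ⟶ Spec (CommRingCat.of K)) [IsFinite p] (s : Spec (CommRingCat.of K)) :
    (p.finrank s : ℤ) = MoreMor.fibreIntegral p (wt p) s := by
  haveI : IsAffine Z := isAffine_of_isAffineHom p
  let e := Z.isoSpec
  let p' : Spec Γ(Z, ⊤) ⟶ Spec (CommRingCat.of K) := e.inv ≫ p
  let ψ := Spec.preimage p'
  have hψ : Spec.map ψ = p' := Spec.map_preimage p'
  have hfinψ : ψ.hom.Finite := by
    rw [← IsFinite.SpecMap_iff, hψ]; infer_instance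
  have h1 := finrank_SpecMap_eq_fibreIntegral K _ ψ hfinψ s
  rw [hψ] at h1
  have h2 : p'.finrank = p.finrank := Scheme.Hom.finrank_comp_left_of_isIso e.inv p
  rw [h2] at h1
  rw [h1]
  have hpb : IsPullback e.inv p' p (𝟙 _) := IsPullback.of_horiz_isIso ⟨by simp [p']⟩
  obtain ⟨h3, -⟩ := fibreIntegral_baseChange p p' e.inv (𝟙 _) hpb (wt p) s
    (Scheme.Hom.finite_preimage_singleton _ _)
  have h3' : MoreMor.fibreIntegral p' (wt p ∘ e.inv) s = MoreMor.fibreIntegral p (wt p) s := h3
  rw [← h3']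
  apply WtComp.fibreIntegral_congr
  intro z _
  exact (wt_square_etale p' p e.inv (𝟙 _) (by simp [p']) z
    (resAlg_of_finite (finite_res_of_lqf p _))).symm

end Groth.Agent.H1.WtRankC
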