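import Mathlib
import Groth.Agent.Lib.Helper1.WtPos
import Groth.Agent.Lib.Helper1.WtRankC

set_option autoImplicit false
universe u
open AlgebraicGeometry CategoryTheory Limits IsLocalRing


namespace Groth.Agent.H1.WtRankD

open Groth.Agent.H1.PullComp Groth.Agent.H1.WtLift Groth.Agent.H1.WtRankB Groth.Agent.H1.WtRankC
  Groth.Agent.H1.WtKey

variable {X Y : Scheme.{u}}

/-- the integral of the weight function is the rank of the fibre. -/
theorem fibreIntegral_wt_eq_finrank_fiber (f : X ⟶ Y) [LocallyQuasiFinite f] (y : Y)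
    (hfin : (f ⁻¹' {y}).Finite) [IsFinite (f.fiberToSpecResidueField y)]
    (s : Spec (Y.residueField y)) :
    MoreMor.fibreIntegral f (wt f) y = ((f.fiberToSpecResidueField y).finrank s : ℤ) := by
  have hs : (Y.fromSpecResidueField y) s = y := Scheme.fromSpecResidueField_apply y s
  have hpb : IsPullback (f.fiberι y) (f.fiberToSpecResidueField y) f
      (Y.fromSpecResidueField y) := IsPullback.of_hasPullback _ _
  obtain ⟨h1, -⟩ := fibreIntegral_baseChange f (f.fiberToSpecResidueField y) (f.fiberι y)
    (Y.fromSpecResidueField y) hpb (wt f) s (by rw [hs]; exact hfin)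
  rw [hs] at h1
  rw [← h1, finrank_eq_fibreIntegral_of_field (Y.residueField y) (f.fiberToSpecResidueField y) s]
  apply WtComp.fibreIntegral_congr
  intro z _
  exact wt_fiber' f y z (resAlg_of_finite (finite_res_of_lqf f _))

/-- **rank formula**: the rank of a finite flat morphism is the integral of the weight function. -/
theorem finrank_eq_fibreIntegral {U V : Scheme.{u}} (π : U ⟶ V) [IsFinite π] [Flat π] (v : V) :
    (π.finrank v : ℤ) = MoreMor.fibreIntegral π (wt π) v := by
  obtain ⟨s⟩ : Nonempty (Spec (V.residueField v)) := inferInstance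
  have hs : (V.fromSpecResidueField v) s = v := Scheme.fromSpecResidueField_apply v s
  rw [fibreIntegral_wt_eq_finrank_fiber π v (Scheme.Hom.finite_preimage_singleton π v) s]
  have := Scheme.Hom.finrank_pullback_snd π (V.fromSpecResidueField v) s
  rw [hs] at this
  rw [← this]
  rfl

theorem Test.flat_π {f : X ⟶ Y} [Flat f] (D : Test f) : Flat D.π := by
  haveI : Flat D.snd := MorphismProperty.of_isPullback (P := @Flat) D.pb inferInstance
  infer_instance

theorem Test.lfp_π {f : X ⟶ Y} [LocallyOfFinitePresentation f] (D : Test f) :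
    LocallyOfFinitePresentation D.π := by
  haveI : LocallyOfFinitePresentation D.snd :=
    MorphismProperty.of_isPullback (P := @LocallyOfFinitePresentation) D.pb inferInstance
  infer_instance

theorem Test.etale_ρ {f : X ⟶ Y} (D : Test f) : Etale D.ρ := by
  haveI := WtPos.Test.etale_fst D
  infer_instance

/-- the pulled back weight is the weight of the finite piece. -/
theorem Test.wt_ρ {f : X ⟶ Y} [LocallyQuasiFinite f] [Flat f] (D : Test f) (u : D.U) :
    wt f (D.ρ u) = wt D.π u := by
  haveI := Test.etale_ρ D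
  haveI := Test.flat_π D
  have w : D.ρ ≫ f = D.π ≫ D.g := by
    simp only [Category.assoc]
    rw [D.pb.w]
  exact wt_square_etale D.π f D.ρ D.g w u (resAlg_of_finite (finite_res_of_lqf f _))

/-- the integrals over test data are the ranks. -/
theorem Test.I_wt {f : X ⟶ Y} [LocallyQuasiFinite f] [Flat f] (D : Test f) (v : D.V) :
    D.I (wt f) v = (D.π.finrank v : ℤ) := by
  haveI := Test.flat_π D
  rw [finrank_eq_fibreIntegral D.π v]
  unfold Test.I
  apply WtComp.fibreIntegral_congr
  intro u _
  exact Test.wt_ρ D u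

theorem isWeighting_wt (f : X ⟶ Y) [LocallyQuasiFinite f] [Flat f]
    [LocallyOfFinitePresentation f] : MoreMor.IsWeighting f (wt f) := by
  apply isWeighting_of_genWeighting
  intro D
  haveI := Test.flat_π D
  haveI := Test.lfp_π D
  have key : D.I (wt f) = fun v => (D.π.finrank v : ℤ) := funext (Test.I_wt D)
  rw [key]
  exact (Scheme.Hom.isLocallyConstant_finrank D.π).comp _


open Groth.Agent.H1.PullComp Groth.Agent.H1.WtLift Groth.Agent.H1.WtRankB Groth.Agent.H1.WtRankC
  Groth.Agent.H1.WtKey

variable {X Y : Scheme.{u}}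

theorem isArtinianRing_stalk (Z : Scheme.{u}) [IsLocallyArtinian Z] (z : Z) :
    IsArtinianRing (Z.presheaf.stalk z) := by
  obtain ⟨_, ⟨U, hU, rfl⟩, hzU, -⟩ :=
    Z.isBasis_affineOpens.exists_subset_of_mem_open (Set.mem_univ z) isOpen_univ
  haveI : IsArtinianRing Γ(Z, U) := IsLocallyArtinian.isArtinianRing_presheaf_obj ⟨U, hU⟩
  letI := Z.presheaf.algebra_section_stalk ⟨z, hzU⟩
  haveI := hU.isLocalization_stalk ⟨z, hzU⟩
  exact IsArtinianRing.localization_artinian (hU.primeIdealOf ⟨z, hzU⟩).asIdeal.primeCompl _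

theorem lenFac_eq_length_fiberStalk (f : X ⟶ Y) (x : X) :
    lenFac f x = (Module.length ((f.fiber (f x)).presheaf.stalk (f.asFiber x))
      ((f.fiber (f x)).presheaf.stalk (f.asFiber x))).toNat := by
  unfold lenFac
  rw [WtRankA.length_quotient_self,
    WtRankA.length_self_eq_of_ringEquiv (FibreStalk.fiberStalkEquiv f x)]

theorem lenFac_pos (f : X ⟶ Y) [LocallyQuasiFinite f] (x : X) : 0 < lenFac f x := by
  rw [lenFac_eq_length_fiberStalk]
  haveI := isArtinianRing_stalk (f.fiber (f x)) (f.asFiber x)
  set R := (f.fiber (f x)).presheaf.stalk (f.asFiber x)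
  have h1 : Module.length R R ≠ ⊤ := Module.length_ne_top
  have h2 : Module.length R R ≠ 0 := (Module.length_pos (R := R) (M := R)).ne'
  rw [Nat.pos_iff_ne_zero]
  intro h
  rcases (ENat.toNat_eq_zero).mp h with h | h
  · exact h2 h
  · exact h1 h

theorem insepFac_pos (f : X ⟶ Y) [LocallyQuasiFinite f] (x : X) : 0 < insepFac f x := by
  unfold insepFac
  letI := (f.residueFieldMap x).hom.toAlgebra
  haveI : Module.Finite (Y.residueField (f x)) (X.residueField x) := finite_res_of_lqf f x
  exact Nat.pos_of_ne_zero (NeZero.ne _)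

theorem wt_pos (f : X ⟶ Y) [LocallyQuasiFinite f] (x : X) : 0 < wt f x := by
  unfold wt
  have h1 := lenFac_pos f x
  have h2 := insepFac_pos f x
  positivity

end Groth.Agent.H1.WtRankD
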