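import Mathlib
import Groth.Agent.Lib.Helper1.WtRankD
import Groth.Agent.Lib.Helper1.WtMax
import Groth.Agent.Lib.Helper1.WtOpen
import Groth.Agent.Lib.Helper2.ProConsLib

set_option autoImplicit false
universe u
open AlgebraicGeometry CategoryTheory Limits IsLocalRing

namespace Groth.Agent.H1.WtRankE

open Groth.Agent.H1.PullComp Groth.Agent.H1.WtLift Groth.Agent.H1.WtRankB Groth.Agent.H1.WtRankC
  Groth.Agent.H1.WtRankD Groth.Agent.H1.WtKey

variable {X Y : Scheme.{u}}

/-- the degree of the fibre of `f` over `y`. -/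
noncomputable def deg (f : X ⟶ Y) (y : Y) : ℕ :=
  (f.fiberToSpecResidueField y).finrank (IsLocalRing.closedPoint (Y.residueField y))

theorem deg_eq (f : X ⟶ Y) (y : Y) (s : Spec (Y.residueField y)) :
    deg f y = (f.fiberToSpecResidueField y).finrank s := by
  unfold deg
  congr 1
  exact Subsingleton.elim (α := PrimeSpectrum _) _ _

theorem deg_eq_finrank {U V : Scheme.{u}} (π : U ⟶ V) [IsFinite π] [Flat π] (v : V) :
    deg π v = π.finrank v := by
  have hs : (V.fromSpecResidueField v) (IsLocalRing.closedPoint (V.residueField v)) = v :=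
    Scheme.fromSpecResidueField_apply v _
  have := Scheme.Hom.finrank_pullback_snd π (V.fromSpecResidueField v)
    (IsLocalRing.closedPoint (V.residueField v))
  rw [hs] at this
  rw [← this]
  rfl

theorem flat_of_field (K : Type u) [Field K] {Z : Scheme.{u}} (p : Z ⟶ Spec (CommRingCat.of K)) :
    Flat p := inferInstance

instance flat_fiberToSpecResidueField (f : X ⟶ Y) (y : Y) :
    Flat (f.fiberToSpecResidueField y) :=
  flat_of_field (Y.residueField y) (f.fiberToSpecResidueField y)

theorem deg_of_isPullback {P X Y' Y : Scheme.{u}} {fst : P ⟶ X} {snd : P ⟶ Y'} {f : X ⟶ Y}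
    {g : Y' ⟶ Y} (h : IsPullback fst snd f g) (y' : Y')
    [IsFinite (f.fiberToSpecResidueField (g y'))] : deg snd y' = deg f (g y') := by
  have hpb := isPullback_fiberToSpecResidueField_of_isPullback h y'
  have := @Scheme.Hom.finrank_of_isPullback _ _ _ _ _ _ _ _ hpb
    (flat_fiberToSpecResidueField f (g y')) ‹_›
    (IsLocalRing.closedPoint (Y'.residueField y'))
  rw [deg_eq f (g y') _]
  exact this

theorem fibreIntegral_wt_eq_deg (f : X ⟶ Y) [LocallyQuasiFinite f] (y : Y)
    (hfin : (f ⁻¹' {y}).Finite) [IsFinite (f.fiberToSpecResidueField y)] :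
    MoreMor.fibreIntegral f (wt f) y = (deg f y : ℤ) :=
  fibreIntegral_wt_eq_finrank_fiber f y hfin _

/-- S3207 -/
theorem isOpenImmersion_of_maximal_points {T S : Scheme.{u}} (g : T ⟶ S) [LocallyQuasiFinite g]
    [LocallyOfFinitePresentation g] [QuasiCompact g] [IsSeparated g] [Flat g]
    (h : ∀ s : S, (∀ t : S, t ⤳ s → t = s) →
      IsEmpty ↑(pullback g (S.fromSpecResidueField s)) ∨
        IsIso (pullback.snd g (S.fromSpecResidueField s))) :
    IsOpenImmersion g := by
  have hw : GenWeighting g (wt g) := genWeighting_of_isWeighting (isWeighting_wt g)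
  have hpos := wt_pos g
  have hfin : ∀ s : S, (g ⁻¹' {s}).Finite := fun s => Scheme.Hom.finite_preimage_singleton g s
  have hdeg : ∀ s, MoreMor.fibreIntegral g (wt g) s = (deg g s : ℤ) :=
    fun s => fibreIntegral_wt_eq_deg g s (hfin s)
  have hlsc : LowerSemicontinuous (MoreMor.fibreIntegral g (wt g)) :=
    WtSep.lowerSemicontinuous g hfin (wt g) hw hpos
  have hmaxpt : ∀ s : S, (∀ t : S, t ⤳ s → t = s) → MoreMor.fibreIntegral g (wt g) s ≤ 1 := by
    intro s hs
    rcases h s hs with he | hiso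
    · have h0 : MoreMor.fibreIntegral g (wt g) s = 0 := by
        apply WtOpen.fibreIntegral_eq_zero_of_empty
        intro t ht
        have : t ∈ g ⁻¹' {s} := ht
        rw [← g.range_fiberι s] at this
        obtain ⟨z, -⟩ := this
        exact he.false z
      omega
    · rw [hdeg]
      have h1 : deg g s = 1 := by
        unfold deg
        haveI : IsIso (g.fiberToSpecResidueField s) := hiso
        exact congrFun (Scheme.Hom.finrank_eq_one_of_isIso (g.fiberToSpecResidueField s)) _
      rw [h1]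
      norm_num
  have hle : ∀ s, MoreMor.fibreIntegral g (wt g) s ≤ 1 := by
    intro s
    by_contra hgt
    rw [not_le] at hgt
    obtain ⟨ξ, hξs, hξmax⟩ := Groth.Agent.H2.ProConsLib.exists_maximal_generization s
    have hopen : IsOpen (MoreMor.fibreIntegral g (wt g) ⁻¹' Set.Ioi 1) := hlsc.isOpen_preimage 1
    have hξ : ξ ∈ MoreMor.fibreIntegral g (wt g) ⁻¹' Set.Ioi 1 := hξs.mem_open hopen hgt
    have h1 := hmaxpt ξ hξmax
    have h2 : 1 < MoreMor.fibreIntegral g (wt g) ξ := hξ
    omega
  obtain ⟨hW, hfinW⟩ := WtMax.max_locus g hfin (wt g) hw hpos 1 hle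
  set W : S.Opens := ⟨{s | MoreMor.fibreIntegral g (wt g) s = 1}, hW⟩ with hWdef
  haveI := hfinW
  have hiso : IsIso (g ∣_ W) := by
    rw [Scheme.Hom.isIso_iff_finrank_eq]
    funext v
    rw [← deg_eq_finrank, deg_of_isPullback (isPullback_morphismRestrict g W).flip v]
    have h1 := hdeg (W.ι v)
    have hv : MoreMor.fibreIntegral g (wt g) (W.ι v) = 1 := v.2
    rw [hv] at h1
    simp only [Pi.one_apply]
    exact_mod_cast h1.symm
  have htop : g ⁻¹ᵁ W = ⊤ := by
    ext t
    simp only [TopologicalSpace.Opens.coe_top, Set.mem_univ, iff_true]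
    change MoreMor.fibreIntegral g (wt g) (g t) = 1
    have h1 := WtPos.term_le_fibreIntegral g (wt g) (g t) (hfin _) (fun u _ => (hpos u).le) t rfl
    have h2 : 0 < sepDeg g t := sepDeg_pos g t (finite_res_of_lqf g t)
    have h3 := hpos t
    have h4 : 1 ≤ wt g t * (sepDeg g t : ℤ) := by
      have : (1 : ℤ) ≤ (sepDeg g t : ℤ) := by exact_mod_cast h2
      nlinarith
    have := hle (g t)
    omega
  have hιiso : IsIso (g ⁻¹ᵁ W).ι := by
    apply isIso_of_isOpenImmersion_of_opensRange_eq_top
    rw [Scheme.Opens.opensRange_ι, htop]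
  have hg : g = inv (g ⁻¹ᵁ W).ι ≫ (g ∣_ W ≫ W.ι) := by
    rw [morphismRestrict_ι, IsIso.inv_hom_id_assoc]
  rw [hg]
  infer_instance

end Groth.Agent.H1.WtRankE
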