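import Mathlib
import Groth.Prelude.Def_Mor2
import Groth.Agent.Lib.Helper1.WtRankE

set_option autoImplicit false
universe u
open AlgebraicGeometry CategoryTheory Limits IsLocalRing

namespace Groth.Agent.H1.WtRankF

open Groth.Agent.H1.PullComp Groth.Agent.H1.WtLift Groth.Agent.H1.WtRankB Groth.Agent.H1.WtRankC
  Groth.Agent.H1.WtRankD Groth.Agent.H1.WtRankE Groth.Agent.H1.WtKey

variable {X S : Scheme.{u}}

set_option backward.isDefEq.respectTransparency.types false in
theorem isFinite_of_lqf_of_finite {Z W : Scheme.{u}} (p : Z ⟶ W) [LocallyQuasiFinite p]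
    [IsAffine W] [IsLocallyArtinian W] [Finite Z] : IsFinite p := by
  haveI : CompactSpace Z := Finite.compactSpace
  haveI : QuasiCompact p := (HasAffineProperty.iff_of_isAffine (P := @QuasiCompact)).mpr
    (inferInstance : CompactSpace Z)
  exact IsFinite.of_locallyQuasiFinite p

theorem isFinite_fiberToSpecResidueField_of_finite (f : X ⟶ S) [LocallyQuasiFinite f] (s : S)
    (h : (f ⁻¹' {s}).Finite) : IsFinite (f.fiberToSpecResidueField s) := by
  haveI : Finite (f ⁻¹' {s}) := h.to_subtype
  haveI : Finite (f.fiber s) := Finite.of_equiv _ (f.fiberHomeo s).toEquiv.symm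
  haveI : LocallyQuasiFinite (f.fiberToSpecResidueField s) :=
    inferInstanceAs (LocallyQuasiFinite (pullback.snd f (S.fromSpecResidueField s)))
  exact isFinite_of_lqf_of_finite _

theorem fibreIntegral_wt_eq_deg' (f : X ⟶ S) [LocallyQuasiFinite f]
    (hfin : ∀ s, (f ⁻¹' {s}).Finite) (s : S) :
    MoreMor.fibreIntegral f (wt f) s = (deg f s : ℤ) := by
  haveI := isFinite_fiberToSpecResidueField_of_finite f s (hfin s)
  exact fibreIntegral_wt_eq_deg f s (hfin s)

theorem isClosed_deg_le (f : X ⟶ S) [Flat f] [LocallyOfFinitePresentation f] [IsSeparated f]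
    [LocallyQuasiFinite f] (hfin : ∀ s, (f ⁻¹' {s}).Finite) (r : ℕ) :
    IsClosed {s : S | deg f s ≤ r} := by
  have hlsc := WtSep.lowerSemicontinuous f hfin (wt f)
    (genWeighting_of_isWeighting (isWeighting_wt f)) (wt_pos f)
  have h1 : {s : S | deg f s ≤ r}ᶜ = MoreMor.fibreIntegral f (wt f) ⁻¹' Set.Ioi (r : ℤ) := by
    ext s
    simp only [Set.mem_compl_iff, Set.mem_setOf_eq, not_le, Set.mem_preimage, Set.mem_Ioi,
      fibreIntegral_wt_eq_deg' f hfin s]
    exact_mod_cast Iff.rfl
  rw [← isOpen_compl_iff, h1]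
  exact hlsc.isOpen_preimage _

set_option backward.isDefEq.respectTransparency.types false in
theorem isFinLocFreeOfDeg_iff (f : X ⟶ S) [Flat f] [LocallyOfFinitePresentation f]
    [IsSeparated f] [LocallyQuasiFinite f] (hfin : ∀ s, (f ⁻¹' {s}).Finite) {T : Scheme.{u}}
    (g : T ⟶ S) (r : ℕ) :
    Mor2.IsFinLocFreeOfDeg r (pullback.snd f g) ↔ ∀ t : T, deg f (g t) = r := by
  have hpb : IsPullback (pullback.fst f g) (pullback.snd f g) f g := IsPullback.of_hasPullback f g
  have hdegbc : ∀ t, deg (pullback.snd f g) t = deg f (g t) := fun t => by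
    haveI := isFinite_fiberToSpecResidueField_of_finite f (g t) (hfin _)
    exact deg_of_isPullback hpb t
  constructor
  · rintro ⟨⟨h1, h2, h3⟩, h4⟩ t
    rw [← hdegbc t, deg_eq_finrank, h4 t]
  · intro h
    have hfin' : ∀ t, ((pullback.snd f g) ⁻¹' {t}).Finite := fun t =>
      (fibreIntegral_baseChange f (pullback.snd f g) (pullback.fst f g) g hpb (wt f) t (hfin _)).2
    have hI : ∀ t, MoreMor.fibreIntegral (pullback.snd f g) (wt (pullback.snd f g)) t = r :=
      fun t => by rw [fibreIntegral_wt_eq_deg' _ hfin' t, hdegbc t, h t]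
    obtain ⟨hW, hfinW⟩ := WtMax.max_locus (pullback.snd f g) hfin' (wt (pullback.snd f g))
      (genWeighting_of_isWeighting (isWeighting_wt _)) (wt_pos _) r (fun t => (hI t).le)
    have hWtop : (⟨{t | MoreMor.fibreIntegral (pullback.snd f g) (wt (pullback.snd f g)) t = r},
        hW⟩ : T.Opens) = ⊤ := by
      ext t
      simp [hI t]
    have hfinite : IsFinite (pullback.snd f g) := by
      apply IsZariskiLocalAtTarget.of_iSup_eq_top (P := @IsFinite) (ι := Unit)
        (fun _ => (⟨{t | MoreMor.fibreIntegral (pullback.snd f g)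
          (wt (pullback.snd f g)) t = r}, hW⟩ : T.Opens))
      · rw [hWtop]; simp
      · intro _
        exact hfinW
    refine ⟨⟨hfinite, inferInstance, inferInstance⟩, fun t => ?_⟩
    rw [← deg_eq_finrank, hdegbc, h t]

end Groth.Agent.H1.WtRankF
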