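import Mathlib
import Groth.Agent.Lib.Helper1.WtRankF

set_option autoImplicit false
universe u
open AlgebraicGeometry CategoryTheory Limits IsLocalRing


namespace Groth.Agent.H1.WtRankG

open Groth.Agent.H1.PullComp Groth.Agent.H1.WtLift Groth.Agent.H1.WtRankB Groth.Agent.H1.WtRankC
  Groth.Agent.H1.WtRankD Groth.Agent.H1.WtRankE Groth.Agent.H1.WtRankF Groth.Agent.H1.WtKey

/-- restriction of sections to a clopen subset is surjective -/
theorem presheaf_map_surjective_of_isCompl (Z : Scheme.{u}) (U V : Z.Opens) (hd : U ⊓ V = ⊥)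
    (hc : U ⊔ V = ⊤) :
    Function.Surjective (Z.presheaf.map (homOfLE (le_top : U ≤ ⊤)).op) := by
  intro a
  let e := (Z.sheaf.isProductOfDisjoint U V hd).conePointUniqueUpToIso
    (CommRingCat.prodFanIsLimit Γ(Z, U) Γ(Z, V))
  let b : Γ(Z, U ⊔ V) := e.inv.hom (a, 0)
  have hb : Z.presheaf.map (homOfLE (le_sup_left : U ≤ U ⊔ V)).op b = a := by
    have h1 := IsLimit.conePointUniqueUpToIso_inv_comp (Z.sheaf.isProductOfDisjoint U V hd)
      (CommRingCat.prodFanIsLimit Γ(Z, U) Γ(Z, V)) ⟨WalkingPair.left⟩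
    have h2 := congrArg (fun φ => φ.hom (a, 0)) h1
    exact h2
  refine ⟨Z.presheaf.map (homOfLE hc.ge).op b, ?_⟩
  rw [← hb]
  change (Z.presheaf.map (homOfLE hc.ge).op ≫ Z.presheaf.map (homOfLE le_top).op).hom b = _
  rw [← Z.presheaf.map_comp]
  rfl

theorem finrank_eq_rank_Γ (K : Type u) [Field K] {Z : Scheme.{u}}
    (p : Z ⟶ Spec (CommRingCat.of K)) [IsFinite p] (s : Spec (CommRingCat.of K)) :
    letI := ((Scheme.ΓSpecIso (CommRingCat.of K)).inv ≫ p.appTop).hom.toAlgebra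
    ((p.finrank s : ℕ) : Cardinal.{u}) = Module.rank K Γ(Z, ⊤) := by
  haveI : IsAffine Z := isAffine_of_isAffineHom p
  set ψ := (Scheme.ΓSpecIso (CommRingCat.of K)).inv ≫ p.appTop with hψdef
  have hp : p = Z.isoSpec.hom ≫ Spec.map ψ := by
    have h1 := Scheme.isoSpec_hom_naturality p
    rw [Scheme.isoSpec_Spec_hom] at h1
    rw [hψdef, Spec.map_comp, ← Category.assoc, h1, Category.assoc, ← Spec.map_comp,
      Iso.inv_hom_id, Spec.map_id, Category.comp_id]
  have hfinψ : ψ.hom.Finite := by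
    rw [← IsFinite.SpecMap_iff]
    have : Spec.map ψ = Z.isoSpec.inv ≫ p := by rw [hp, Iso.inv_hom_id_assoc]
    rw [this]; infer_instance
  letI := ψ.hom.toAlgebra
  haveI : Module.Finite K Γ(Z, ⊤) := hfinψ
  have hflat : ψ.hom.Flat := (inferInstance : Module.Flat K Γ(Z, ⊤))
  haveI : IsFinite (Spec.map ψ) := by rw [IsFinite.SpecMap_iff]; exact hfinψ
  have h2 : p.finrank = (Spec.map ψ).finrank := by
    have := Scheme.Hom.finrank_comp_left_of_isIso Z.isoSpec.hom (Spec.map ψ)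
    rw [← hp] at this
    exact this
  rw [h2, Scheme.Hom.finrank_SpecMap_eq_finrank hfinψ hflat]
  have hrank : ψ.hom.finrank s = Module.finrank K Γ(Z, ⊤) := by
    unfold RingHom.finrank
    rw [Module.rankAtStalk_eq_finrank_of_free]
    rfl
  rw [hrank, Module.finrank_eq_rank]

theorem card_le_finrank (K : Type u) [Field K] {Z : Scheme.{u}}
    (p : Z ⟶ Spec (CommRingCat.of K)) [IsFinite p] (s : Spec (CommRingCat.of K)) :
    Nat.card Z ≤ p.finrank s := by
  have h1 := finrank_eq_fibreIntegral_of_field K p s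
  have hall : ∀ z : Z, p z = s := fun z => Subsingleton.elim (α := PrimeSpectrum K) _ _
  haveI : Finite Z := by
    have := Scheme.Hom.finite_preimage_singleton p s
    have hu : p ⁻¹' {s} = Set.univ := by ext z; simp [hall z]
    rw [hu] at this
    exact Set.finite_univ_iff.mp this
  haveI : Fintype Z := Fintype.ofFinite Z
  rw [fibreIntegral_def] at h1
  have hre : ∑ᶠ u : {u : Z // p u = s}, wt p u.1 * (sepDeg p u.1 : ℤ) =
      ∑ᶠ z : Z, wt p z * (sepDeg p z : ℤ) :=
    finsum_comp_equiv (Equiv.subtypeUnivEquiv hall)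
      (f := fun z : Z => wt p z * (sepDeg p z : ℤ))
  rw [hre, finsum_eq_sum_of_fintype] at h1
  have h2 : ∀ z : Z, (1 : ℤ) ≤ wt p z * (sepDeg p z : ℤ) := by
    intro z
    have ha := wt_pos p z
    have hb : 0 < sepDeg p z := sepDeg_pos p z (finite_res_of_lqf p z)
    have hb' : (1 : ℤ) ≤ (sepDeg p z : ℤ) := by exact_mod_cast hb
    nlinarith
  have h3 : (Fintype.card Z : ℤ) ≤ ∑ z : Z, wt p z * (sepDeg p z : ℤ) := by
    have := Finset.sum_le_sum (fun z (_ : z ∈ Finset.univ) => h2 z)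
    simpa using this
  rw [← h1] at h3
  rw [Nat.card_eq_fintype_card]
  exact_mod_cast h3


open Groth.Agent.H1.PullComp Groth.Agent.H1.WtLift Groth.Agent.H1.WtRankB Groth.Agent.H1.WtRankC
  Groth.Agent.H1.WtRankD Groth.Agent.H1.WtRankE Groth.Agent.H1.WtRankF Groth.Agent.H1.WtKey

theorem appTop_ι_surjective {Z : Scheme.{u}} [DiscreteTopology Z] (U : Z.Opens) :
    Function.Surjective U.ι.appTop.hom := by
  let V : Z.Opens := ⟨((U.ι ''ᵁ ⊤ : Z.Opens) : Set Z)ᶜ, isOpen_discrete _⟩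
  have hd : (U.ι ''ᵁ ⊤ : Z.Opens) ⊓ V = ⊥ := by
    ext z
    simp [V]
  have hc : (U.ι ''ᵁ ⊤ : Z.Opens) ⊔ V = ⊤ := by
    ext z
    simp only [V, TopologicalSpace.Opens.coe_sup, TopologicalSpace.Opens.coe_mk,
      Set.union_compl_self, TopologicalSpace.Opens.coe_top]
  exact presheaf_map_surjective_of_isCompl Z (U.ι ''ᵁ ⊤) V hd hc

theorem finrank_le_rank_Γ (K : Type u) [Field K] {Z : Scheme.{u}}
    (p : Z ⟶ Spec (CommRingCat.of K)) [LocallyQuasiFinite p] [DiscreteTopology Z] (U : Z.Opens)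
    (hU : (U : Set Z).Finite) (s : Spec (CommRingCat.of K)) :
    IsFinite (U.ι ≫ p) ∧
    (letI := ((Scheme.ΓSpecIso (CommRingCat.of K)).inv ≫ p.appTop).hom.toAlgebra
     (((U.ι ≫ p).finrank s : ℕ) : Cardinal.{u}) ≤ Module.rank K Γ(Z, ⊤)) := by
  haveI : Finite U := hU.to_subtype
  haveI : Finite (U : Scheme.{u}) := inferInstanceAs (Finite U)
  haveI hfinU : IsFinite (U.ι ≫ p) := isFinite_of_lqf_of_finite _
  refine ⟨hfinU, ?_⟩
  rw [finrank_eq_rank_Γ K (U.ι ≫ p) s]
  set ψZ := (Scheme.ΓSpecIso (CommRingCat.of K)).inv ≫ p.appTop with hψZ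
  set ψU := (Scheme.ΓSpecIso (CommRingCat.of K)).inv ≫ (U.ι ≫ p).appTop with hψU
  have hcomp : ψU = ψZ ≫ U.ι.appTop := by
    rw [hψU, hψZ, Scheme.Hom.comp_appTop, Category.assoc]
  letI aZ : Algebra K Γ(Z, ⊤) := ψZ.hom.toAlgebra
  letI aU : Algebra K Γ(U, ⊤) := ψU.hom.toAlgebra
  let ρA : Γ(Z, ⊤) →ₐ[K] Γ(U, ⊤) :=
    { U.ι.appTop.hom with
      commutes' := fun k => by
        change U.ι.appTop.hom (ψZ.hom k) = ψU.hom k
        rw [hcomp]
        rfl }
  have hsurj : Function.Surjective ρA.toLinearMap := appTop_ι_surjective U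
  exact LinearMap.rank_le_of_surjective ρA.toLinearMap hsurj

theorem finite_of_rank_Γ_le (K : Type u) [Field K] {Z : Scheme.{u}}
    (p : Z ⟶ Spec (CommRingCat.of K)) [LocallyQuasiFinite p] (n : ℕ)
    (h : letI := ((Scheme.ΓSpecIso (CommRingCat.of K)).inv ≫ p.appTop).hom.toAlgebra
      Module.rank K Γ(Z, ⊤) ≤ (n : Cardinal.{u})) : Finite Z := by
  haveI : IsLocallyArtinian Z := IsLocallyArtinian.of_locallyQuasiFinite p
  by_contra hinf
  rw [not_finite_iff_infinite] at hinf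
  obtain ⟨F, hF⟩ := Infinite.exists_subset_card_eq Z (n + 1)
  let U : Z.Opens := ⟨(F : Set Z), isOpen_discrete _⟩
  have hUfin : (U : Set Z).Finite := F.finite_toSet
  obtain ⟨hfinU, hle⟩ := finrank_le_rank_Γ K p U hUfin (IsLocalRing.closedPoint K)
  haveI := hfinU
  have h1 := card_le_finrank K (U.ι ≫ p) (IsLocalRing.closedPoint K)
  have h2 : Nat.card (U : Scheme.{u}) = n + 1 := by
    change Nat.card (F : Set Z) = n + 1
    rw [Nat.card_coe_set_eq, Set.ncard_coe_finset, hF]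
  have h3 := hle.trans h
  have h4 : (U.ι ≫ p).finrank (IsLocalRing.closedPoint K) ≤ n := by exact_mod_cast h3
  omega


open Groth.Agent.H1.PullComp Groth.Agent.H1.WtLift Groth.Agent.H1.WtRankB Groth.Agent.H1.WtRankC
  Groth.Agent.H1.WtRankD Groth.Agent.H1.WtRankE Groth.Agent.H1.WtRankF Groth.Agent.H1.WtKey

theorem s1447 {X S : Scheme.{u}} (f : X ⟶ S) [Flat f] [LocallyOfFinitePresentation f]
    [IsSeparated f] [LocallyQuasiFinite f] (n : ℕ)
    (hn : ∀ (K : Type u) [Field K] (g : Spec (CommRingCat.of K) ⟶ S),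
      (letI := ((Scheme.ΓSpecIso (CommRingCat.of K)).inv ≫ (pullback.snd f g).appTop).hom.toAlgebra
       Module.rank K (Γ(pullback f g, ⊤) : Type u)) ≤ (n : Cardinal.{u})) :
    ∃ deg : ↑S → ℕ, (∀ s, deg s ≤ n) ∧ (∀ r : ℕ, IsClosed {s : ↑S | deg s ≤ r}) ∧
      ∀ (T : Scheme.{u}) (g : T ⟶ S) (r : ℕ),
        Mor2.IsFinLocFreeOfDeg r (pullback.snd f g) ↔ ∀ t : T, deg (g t) = r := by
  have hfin : ∀ s, (f ⁻¹' {s}).Finite := by
    intro s
    have h := hn (S.residueField s) (S.fromSpecResidueField s)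
    haveI : Finite ↥(pullback f (S.fromSpecResidueField s)) :=
      finite_of_rank_Γ_le (S.residueField s) (pullback.snd f (S.fromSpecResidueField s)) n h
    haveI : Finite (f.fiber s) := inferInstanceAs (Finite ↥(pullback f (S.fromSpecResidueField s)))
    rw [← f.range_fiberι s]
    exact Set.finite_range _
  refine ⟨deg f, ?_, isClosed_deg_le f hfin, fun T g r => isFinLocFreeOfDeg_iff f hfin g r⟩
  intro s
  haveI := isFinite_fiberToSpecResidueField_of_finite f s (hfin s)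
  have h := hn (S.residueField s) (S.fromSpecResidueField s)
  have h1 := finrank_eq_rank_Γ (S.residueField s) (f.fiberToSpecResidueField s)
    (closedPoint (S.residueField s))
  have h2 : ((deg f s : ℕ) : Cardinal.{u}) ≤ n := by
    unfold deg
    rw [h1]
    exact h
  exact_mod_cast h2

end Groth.Agent.H1.WtRankG
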