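import Mathlib
import Groth.Agent.Lib.Helper1.WtRankG

set_option autoImplicit false
universe u
open AlgebraicGeometry CategoryTheory Limits IsLocalRing


namespace Groth.Agent.H1.WtRankH

open Groth.Agent.H1.PullComp Groth.Agent.H1.WtLift Groth.Agent.H1.WtRankB Groth.Agent.H1.WtRankC
  Groth.Agent.H1.WtRankD Groth.Agent.H1.WtRankE Groth.Agent.H1.WtRankF Groth.Agent.H1.WtRankG
  Groth.Agent.H1.WtKey

variable {X S : Scheme.{u}}

/-- an open of `X` with finite fibres over `S`. -/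
def FF (f : X ⟶ S) (X' : X.Opens) : Prop := ∀ s : S, ((X' : Set X) ∩ f ⁻¹' {s}).Finite

theorem FF.hfin {f : X ⟶ S} {X' : X.Opens} (h : FF f X') :
    ∀ s, ((X'.ι ≫ f) ⁻¹' {s}).Finite := fun s => WtJ.finite_fiber_opens f X' s (h s)

theorem FF.bot (f : X ⟶ S) : FF f ⊥ := by
  intro s
  simp

theorem FF.sup {f : X ⟶ S} {X₁ X₂ : X.Opens} (h₁ : FF f X₁) (h₂ : FF f X₂) : FF f (X₁ ⊔ X₂) := by
  intro s
  have : ((X₁ ⊔ X₂ : X.Opens) : Set X) ∩ f ⁻¹' {s} =
      ((X₁ : Set X) ∩ f ⁻¹' {s}) ∪ ((X₂ : Set X) ∩ f ⁻¹' {s}) := by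
    rw [TopologicalSpace.Opens.coe_sup, Set.union_inter_distrib_right]
  rw [this]
  exact (h₁ s).union (h₂ s)

set_option backward.isDefEq.respectTransparency.types false in
theorem exists_FF_nbhd (f : X ⟶ S) [LocallyQuasiFinite f] (x : X) :
    ∃ X' : X.Opens, x ∈ X' ∧ FF f X' := by
  obtain ⟨V, hV, hfxV⟩ : ∃ V : S.Opens, IsAffineOpen V ∧ f x ∈ V := by
    obtain ⟨_, ⟨V, hV, rfl⟩, h, -⟩ :=
      S.isBasis_affineOpens.exists_subset_of_mem_open (Set.mem_univ (f x)) isOpen_univ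
    exact ⟨V, hV, h⟩
  obtain ⟨W, hW, hxW, hWV⟩ : ∃ W : X.Opens, IsAffineOpen W ∧ x ∈ W ∧
      (W : Set X) ⊆ (f ⁻¹ᵁ V : X.Opens) := by
    obtain ⟨_, ⟨W, hW, rfl⟩, h1, h2⟩ :=
      X.isBasis_affineOpens.exists_subset_of_mem_open (show x ∈ f ⁻¹ᵁ V from hfxV) (f ⁻¹ᵁ V).2
    exact ⟨W, hW, h1, h2⟩
  refine ⟨W, hxW, fun s => ?_⟩
  have hrange : Set.range (W.ι ≫ f) ⊆ Set.range V.ι := by
    rintro _ ⟨w, rfl⟩
    rw [Scheme.Opens.range_ι]
    exact hWV w.2
  let h' : W.toScheme ⟶ V.toScheme := IsOpenImmersion.lift V.ι (W.ι ≫ f) hrange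
  have hh' : h' ≫ V.ι = W.ι ≫ f := IsOpenImmersion.lift_fac _ _ _
  haveI : LocallyQuasiFinite h' := by
    haveI : LocallyQuasiFinite (h' ≫ V.ι) := by rw [hh']; infer_instance
    exact LocallyQuasiFinite.of_comp h' V.ι
  haveI : IsAffine W.toScheme := hW
  haveI : IsAffine V.toScheme := hV
  haveI : QuasiCompact h' := (HasAffineProperty.iff_of_isAffine (P := @QuasiCompact)).mpr
    (inferInstance : CompactSpace W.toScheme)
  apply WtJ.finite_fiber_opens' f W s
  have hsub : (W.ι ≫ f) ⁻¹' {s} ⊆ h' ⁻¹' (V.ι ⁻¹' {s}) := by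
    intro w hw
    change V.ι (h' w) = s
    rw [← Scheme.Hom.comp_apply, hh']
    exact hw
  refine Set.Finite.subset (Scheme.Hom.finite_preimage h' ?_) hsub
  exact (Set.subsingleton_singleton.preimage V.ι.isOpenEmbedding.injective).finite

theorem exists_FF_of_finite (f : X ⟶ S) [LocallyQuasiFinite f] (F : Set X) (hF : F.Finite) :
    ∃ X' : X.Opens, F ⊆ X' ∧ FF f X' := by
  induction F, hF using Set.Finite.induction_on with
  | empty => exact ⟨⊥, Set.empty_subset _, FF.bot f⟩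
  | @insert a F _ _ ih =>
    obtain ⟨X₁, h1, h2⟩ := ih
    obtain ⟨X₂, h3, h4⟩ := exists_FF_nbhd f a
    refine ⟨X₁ ⊔ X₂, ?_, h2.sup h4⟩
    intro x hx
    rcases hx with rfl | hx
    · exact Or.inr h3
    · exact Or.inl (h1 hx)

/-- base change of an open piece with finite fibres to a field. -/
theorem deg_restrict_baseChange (f : X ⟶ S) [LocallyQuasiFinite f] (K : Type u) [Field K]
    (g : Spec (CommRingCat.of K) ⟶ S) (X' : X.Opens) (hX' : FF f X') :
    (((pullback.fst f g) ⁻¹ᵁ X' : (pullback f g).Opens) : Set ↥(pullback f g)).Finite ∧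
    IsFinite (((pullback.fst f g) ⁻¹ᵁ X').ι ≫ pullback.snd f g) ∧
    deg (X'.ι ≫ f) (g (closedPoint K)) =
      (((pullback.fst f g) ⁻¹ᵁ X').ι ≫ pullback.snd f g).finrank (closedPoint K) := by
  set q := pullback.fst f g
  set p := pullback.snd f g
  set U := q ⁻¹ᵁ X'
  have hpb : IsPullback (q ∣_ X') (U.ι ≫ p) (X'.ι ≫ f) g :=
    (isPullback_morphismRestrict q X').paste_vert (IsPullback.of_hasPullback f g)
  have hfinU' : ((U.ι ≫ p) ⁻¹' {closedPoint K}).Finite :=
    (fibreIntegral_baseChange (X'.ι ≫ f) (U.ι ≫ p) (q ∣_ X') g hpb (wt (X'.ι ≫ f)) (closedPoint K)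
      (hX'.hfin _)).2
  have huniv : (U.ι ≫ p) ⁻¹' {closedPoint K} = Set.univ := by
    ext z
    simp only [Set.mem_preimage, Set.mem_singleton_iff, Set.mem_univ, iff_true]
    exact Subsingleton.elim (α := PrimeSpectrum K) _ _
  rw [huniv] at hfinU'
  haveI hfU : Finite (U : Scheme.{u}) := Set.finite_univ_iff.mp hfinU'
  have hUfin : (U : Set ↥(pullback f g)).Finite := by
    haveI : Finite ↥U := hfU
    exact Set.toFinite _
  haveI hfinite : IsFinite (U.ι ≫ p) := isFinite_of_lqf_of_finite _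
  refine ⟨hUfin, hfinite, ?_⟩
  haveI := isFinite_fiberToSpecResidueField_of_finite (X'.ι ≫ f) (g (closedPoint K))
    (hX'.hfin _)
  rw [← deg_of_isPullback hpb (closedPoint K)]
  exact deg_eq_finrank (U.ι ≫ p) _


open Groth.Agent.H1.PullComp Groth.Agent.H1.WtLift Groth.Agent.H1.WtRankB Groth.Agent.H1.WtRankC
  Groth.Agent.H1.WtRankD Groth.Agent.H1.WtRankE Groth.Agent.H1.WtRankF Groth.Agent.H1.WtRankG
  Groth.Agent.H1.WtKey

variable {X S : Scheme.{u}}

theorem mem_T_iff (f : X ⟶ S) [LocallyQuasiFinite f] (K : Type u) [Field K]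
    (g : Spec (CommRingCat.of K) ⟶ S) (d : ℕ) :
    (∃ X' : X.Opens, FF f X' ∧ d ≤ deg (X'.ι ≫ f) (g (closedPoint K))) ↔
    (d : Cardinal.{u}) ≤
      (letI := ((Scheme.ΓSpecIso (CommRingCat.of K)).inv ≫ (pullback.snd f g).appTop).hom.toAlgebra
       Module.rank K (Γ(pullback f g, ⊤) : Type u)) := by
  set q := pullback.fst f g
  set p := pullback.snd f g
  haveI : IsLocallyArtinian (pullback f g) := IsLocallyArtinian.of_locallyQuasiFinite p
  constructor
  · rintro ⟨X', hX', hd⟩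
    obtain ⟨hUfin, hfinite, hdeg⟩ := deg_restrict_baseChange f K g X' hX'
    obtain ⟨-, hle⟩ := finrank_le_rank_Γ K p (q ⁻¹ᵁ X') hUfin (closedPoint K)
    rw [hdeg] at hd
    exact le_trans (by exact_mod_cast hd) hle
  · intro hd
    by_cases hZ : Finite ↥(pullback f g)
    · haveI := hZ
      obtain ⟨X', hsub, hX'⟩ := exists_FF_of_finite f (Set.range q) (Set.finite_range q)
      refine ⟨X', hX', ?_⟩
      obtain ⟨hUfin, hfinite, hdeg⟩ := deg_restrict_baseChange f K g X' hX'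
      rw [hdeg]
      have hUtop : q ⁻¹ᵁ X' = ⊤ := by
        ext z
        simp only [TopologicalSpace.Opens.coe_top, Set.mem_univ, iff_true]
        exact hsub ⟨z, rfl⟩
      haveI : IsIso (q ⁻¹ᵁ X').ι := by
        apply isIso_of_isOpenImmersion_of_opensRange_eq_top
        rw [Scheme.Opens.opensRange_ι, hUtop]
      haveI : IsFinite p := isFinite_of_lqf_of_finite p
      rw [Scheme.Hom.finrank_comp_left_of_isIso (q ⁻¹ᵁ X').ι p]
      have h1 := finrank_eq_rank_Γ K p (closedPoint K)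
      rw [← h1] at hd
      exact_mod_cast hd
    · rw [not_finite_iff_infinite] at hZ
      obtain ⟨F, hF⟩ := Infinite.exists_subset_card_eq ↥(pullback f g) d
      obtain ⟨X', hsub, hX'⟩ := exists_FF_of_finite f (q '' (F : Set ↥(pullback f g)))
        (F.finite_toSet.image _)
      refine ⟨X', hX', ?_⟩
      obtain ⟨hUfin, hfinite, hdeg⟩ := deg_restrict_baseChange f K g X' hX'
      rw [hdeg]
      haveI := hfinite
      have h1 := card_le_finrank K ((q ⁻¹ᵁ X').ι ≫ p) (closedPoint K)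
      have h2 : d ≤ Nat.card ((q ⁻¹ᵁ X' : (pullback f g).Opens) : Scheme.{u}) := by
        have hFU : (F : Set ↥(pullback f g)) ⊆ ((q ⁻¹ᵁ X' : (pullback f g).Opens) : Set _) :=
          fun z hz => hsub ⟨z, hz, rfl⟩
        change d ≤ Nat.card ↥((q ⁻¹ᵁ X' : (pullback f g).Opens) : Set ↥(pullback f g))
        rw [Nat.card_coe_set_eq, ← hF, ← Set.ncard_coe_finset]
        exact Set.ncard_le_ncard hFU hUfin
      exact h2.trans h1

theorem s1449 (f : X ⟶ S) [Flat f] [LocallyOfFinitePresentation f] [IsSeparated f]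
    [LocallyQuasiFinite f] :
    ∃ U : ℕ → S.Opens, Antitone U ∧ U 0 = ⊤ ∧ ∀ (K : Type u) [Field K]
      (g : Spec (CommRingCat.of K) ⟶ S) (d : ℕ),
      Set.range ⇑g ⊆ (U d : Set ↑S) ↔ (d : Cardinal.{u}) ≤
        (letI := ((Scheme.ΓSpecIso (CommRingCat.of K)).inv ≫ (pullback.snd f g).appTop).hom.toAlgebra
         Module.rank K (Γ(pullback f g, ⊤) : Type u)) := by
  let T : ℕ → Set S := fun d => {s | ∃ X' : X.Opens, FF f X' ∧ d ≤ deg (X'.ι ≫ f) s}
  have hTopen : ∀ d, IsOpen (T d) := by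
    intro d
    have h1 : T d = ⋃ (X' : X.Opens) (_ : FF f X'), {s | d ≤ deg (X'.ι ≫ f) s} := by
      ext s
      simp [T]
    rw [h1]
    refine isOpen_iUnion fun X' => isOpen_iUnion fun hX' => ?_
    rcases d with _ | d
    · simp
    · have h2 := isClosed_deg_le (X'.ι ≫ f) hX'.hfin d
      have h3 : {s | d + 1 ≤ deg (X'.ι ≫ f) s} = {s | deg (X'.ι ≫ f) s ≤ d}ᶜ := by
        ext s
        simp only [Set.mem_setOf_eq, Set.mem_compl_iff, not_le]
        omega
      rw [h3]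
      exact h2.isOpen_compl
  refine ⟨fun d => ⟨T d, hTopen d⟩, ?_, ?_, ?_⟩
  · intro d d' hdd' s hs
    obtain ⟨X', h1, h2⟩ := hs
    exact ⟨X', h1, hdd'.trans h2⟩
  · ext s
    simp only [TopologicalSpace.Opens.coe_mk, TopologicalSpace.Opens.coe_top, Set.mem_univ,
      iff_true]
    exact ⟨⊥, FF.bot f, Nat.zero_le _⟩
  · intro K _ g d
    rw [← mem_T_iff f K g d]
    constructor
    · intro h
      exact h ⟨closedPoint K, rfl⟩
    · rintro h _ ⟨z, rfl⟩
      have hz : z = closedPoint K := Subsingleton.elim (α := PrimeSpectrum K) _ _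
      rw [hz]
      exact h

end Groth.Agent.H1.WtRankH
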