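import Mathlib
import Groth.Agent.Lib.Helper1.WtRankH

set_option autoImplicit false
universe u
open AlgebraicGeometry CategoryTheory Limits IsLocalRing

namespace Groth.Agent.H1.WtRankI

open Groth.Agent.H1.PullComp Groth.Agent.H1.WtLift Groth.Agent.H1.WtRankB Groth.Agent.H1.WtRankC
  Groth.Agent.H1.WtRankD Groth.Agent.H1.WtRankE Groth.Agent.H1.WtRankF Groth.Agent.H1.WtRankG
  Groth.Agent.H1.WtKey Groth.Agent.H1.WtJ

variable {X S : Scheme.{u}}

/-- étale-local structure of the degree function: near `y`, after an étale base change, the degree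
is the constant `deg f y` plus the degree of the complementary clopen piece. -/
theorem local_structure (f : X ⟶ S) [Flat f] [LocallyOfFinitePresentation f] [IsSeparated f]
    [LocallyQuasiFinite f] [QuasiCompact f] (y : S) :
    ∃ (V₁ : Scheme.{u}) (e : V₁ ⟶ S) (v₁ : V₁) (R : Scheme.{u}) (ρ₀ : R ⟶ V₁) (N : V₁.Opens),
      Etale e ∧ e v₁ = y ∧ v₁ ∈ N ∧ Flat ρ₀ ∧ LocallyOfFinitePresentation ρ₀ ∧ IsSeparated ρ₀ ∧
      LocallyQuasiFinite ρ₀ ∧ QuasiCompact ρ₀ ∧
      ∀ v' ∈ N, deg f (e v') = deg f y + deg ρ₀ v' := by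
  have hfin : ∀ s, (f ⁻¹' {s}).Finite := fun s => Scheme.Hom.finite_preimage_singleton f s
  have hw : GenWeighting f (wt f) := genWeighting_of_isWeighting (isWeighting_wt f)
  obtain ⟨V₁, e, v₁, P, fst, snd, hE, hev, hpb, O, N, hvN, hOc, hOfin, hON, hall⟩ :=
    WtSep.sep_structure f hfin (wt f) hw y
  haveI := hE
  haveI : Flat snd := MorphismProperty.of_isPullback (P := @Flat) hpb inferInstance
  haveI : LocallyOfFinitePresentation snd :=
    MorphismProperty.of_isPullback (P := @LocallyOfFinitePresentation) hpb inferInstance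
  haveI : IsSeparated snd := MorphismProperty.of_isPullback (P := @IsSeparated) hpb inferInstance
  haveI : LocallyQuasiFinite snd :=
    MorphismProperty.of_isPullback (P := @LocallyQuasiFinite) hpb inferInstance
  haveI : QuasiCompact snd := MorphismProperty.of_isPullback (P := @QuasiCompact) hpb inferInstance
  haveI : Etale fst := MorphismProperty.of_isPullback (P := @Etale) hpb.flip hE
  let R : P.Opens := ⟨(O : Set P)ᶜ, hOc.isOpen_compl⟩
  haveI : IsClosedImmersion R.ι := by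
    apply IsClosedImmersion.of_isPreimmersion
    rw [Scheme.Opens.range_ι]
    exact O.isOpen.isClosed_compl
  have hfinρ : ∀ v', ((R.ι ≫ snd) ⁻¹' {v'}).Finite :=
    fun v' => Scheme.Hom.finite_preimage_singleton (R.ι ≫ snd) v'
  refine ⟨V₁, e, v₁, R, R.ι ≫ snd, N, hE, hev, hvN, inferInstance, inferInstance, inferInstance,
    inferInstance, inferInstance, fun v' hv' => ?_⟩
  obtain ⟨h1, h2⟩ := hall v'
  have hunion : (Set.univ : Set P) = (O : Set P) ∪ (R : Set P) := by
    simp [R]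
  have hdisj : Disjoint (O : Set P) (R : Set P) := by
    simp only [R, TopologicalSpace.Opens.coe_mk]
    exact disjoint_compl_right
  rw [hunion, JS_union snd _ hdisj (h2.subset Set.inter_subset_right)
    (h2.subset Set.inter_subset_right), hON v' hv'] at h1
  have h3 : JS snd (wt f ∘ fst) (R : Set P) v' =
      MoreMor.fibreIntegral (R.ι ≫ snd) ((wt f ∘ fst) ∘ R.ι) v' := by
    rw [fibreIntegral_eq_JS R.ι snd (wt f ∘ fst) v', Scheme.Opens.range_ι]
  have h4 : MoreMor.fibreIntegral (R.ι ≫ snd) ((wt f ∘ fst) ∘ R.ι) v' =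
      MoreMor.fibreIntegral (R.ι ≫ snd) (wt (R.ι ≫ snd)) v' := by
    apply WtComp.fibreIntegral_congr
    intro u _
    have w : (R.ι ≫ fst) ≫ f = (R.ι ≫ snd) ≫ e := by
      simp only [Category.assoc]
      rw [hpb.w]
    exact wt_square_etale (R.ι ≫ snd) f (R.ι ≫ fst) e w u
      (resAlg_of_finite (finite_res_of_lqf f _))
  rw [h3, h4, fibreIntegral_wt_eq_deg' f hfin, fibreIntegral_wt_eq_deg' f hfin,
    fibreIntegral_wt_eq_deg' _ hfinρ] at h1
  exact_mod_cast h1



theorem one_le_deg_of_mem_range (f : X ⟶ S) [LocallyQuasiFinite f]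
    (hfin : ∀ s, (f ⁻¹' {s}).Finite) (x : X) : 1 ≤ deg f (f x) := by
  have h1 := WtPos.term_le_fibreIntegral f (wt f) (f x) (hfin _) (fun u _ => (wt_pos f u).le) x rfl
  rw [fibreIntegral_wt_eq_deg' f hfin] at h1
  have h2 : (1 : ℤ) ≤ wt f x := by have := wt_pos f x; omega
  have h3 : (1 : ℤ) ≤ (sepDeg f x : ℤ) := by
    have := sepDeg_pos f x (finite_res_of_lqf f x)
    exact_mod_cast this
  have h4 : (1 : ℤ) ≤ wt f x * (sepDeg f x : ℤ) := by nlinarith
  have : (1 : ℤ) ≤ (deg f (f x) : ℤ) := h4.trans h1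
  exact_mod_cast this

theorem deg_eq_zero_of_not_mem_range (f : X ⟶ S) [LocallyQuasiFinite f]
    (hfin : ∀ s, (f ⁻¹' {s}).Finite) (s : S) (hs : s ∉ Set.range f) : deg f s = 0 := by
  have h1 := WtOpen.fibreIntegral_eq_zero_of_empty f (wt f) s (fun u hu => hs ⟨u, hu⟩)
  rw [fibreIntegral_wt_eq_deg' f hfin] at h1
  exact_mod_cast h1

theorem isRetrocompact_le_deg : ∀ (r : ℕ) {X S : Scheme.{u}} (f : X ⟶ S) [Flat f]
    [LocallyOfFinitePresentation f] [IsSeparated f] [LocallyQuasiFinite f] [QuasiCompact f],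
    IsRetrocompact {s : S | r ≤ deg f s} := by
  intro r
  induction r using Nat.strong_induction_on with
  | _ r ih =>
  intro X S f _ _ _ _ _ U hUc hUo
  rcases Nat.eq_zero_or_pos r with rfl | hr
  · have : {s : S | 0 ≤ deg f s} = Set.univ := by ext s; simp
    rw [this, Set.univ_inter]; exact hUc
  have hfin : ∀ s, (f ⁻¹' {s}).Finite := fun s => Scheme.Hom.finite_preimage_singleton f s
  have hK : IsCompact (Set.range f ∩ U) := by
    rw [← Set.image_preimage_eq_range_inter]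
    exact (QuasiCompact.isCompact_preimage (f := f) U hUo hUc).image f.continuous
  have key : ∀ y ∈ Set.range f ∩ U, ∃ M : Set S, IsOpen M ∧ y ∈ M ∧ M ⊆ U ∧
      IsCompact ({s : S | r ≤ deg f s} ∩ M) := by
    rintro y ⟨⟨x, rfl⟩, hyU⟩
    obtain ⟨V₁, e, v₁, R, ρ₀, N, hE, hev, hvN, hfl, hlfp, hsep, hlqf, hqc, hdeg⟩ :=
      local_structure f (f x)
    haveI := hE
    haveI := hfl
    haveI := hlfp
    haveI := hsep
    haveI := hlqf
    haveI := hqc
    have hd : 1 ≤ deg f (f x) := one_le_deg_of_mem_range f hfin x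
    obtain ⟨N', hN'aff, hvN', hN'le⟩ :=
      TopologicalSpace.Opens.isBasis_iff_nbhd.mp V₁.isBasis_affineOpens
      (U := N ⊓ ⟨e ⁻¹' U, hUo.preimage e.continuous⟩) (x := v₁)
      ⟨hvN, by show e v₁ ∈ U; rw [hev]; exact hyU⟩
    have hN'c : IsCompact (N' : Set V₁) := IsAffineOpen.isCompact hN'aff
    have hsub : ∀ v', v' ∈ (N' : Set V₁) → v' ∈ (N : Set V₁) ∧ e v' ∈ U :=
      fun v' hv' => SetLike.le_def.mp hN'le hv'
    refine ⟨e '' (N' : Set V₁), e.isOpenMap _ N'.2, ⟨v₁, hvN', hev⟩, ?_, ?_⟩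
    · rintro _ ⟨v', hv', rfl⟩
      exact (hsub v' hv').2
    · have heq : {s : S | r ≤ deg f s} ∩ e '' (N' : Set V₁) =
          e '' ({v' : V₁ | r - deg f (f x) ≤ deg ρ₀ v'} ∩ (N' : Set V₁)) := by
        ext s
        constructor
        · rintro ⟨hs, v', hv', rfl⟩
          refine ⟨v', ⟨?_, hv'⟩, rfl⟩
          have := hdeg v' (hsub v' hv').1
          simp only [Set.mem_setOf_eq] at hs ⊢
          omega
        · rintro ⟨v', ⟨hv'1, hv'2⟩, rfl⟩
          refine ⟨?_, v', hv'2, rfl⟩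
          have := hdeg v' (hsub v' hv'2).1
          simp only [Set.mem_setOf_eq] at hv'1 ⊢
          omega
      rw [heq]
      exact (ih (r - deg f (f x)) (by omega) ρ₀ hN'c N'.2).image e.continuous
  choose! M hMo hyM hMU hMc using key
  obtain ⟨t, htK, htfin, hcover⟩ := hK.elim_finite_subcover_image (b := Set.range f ∩ U) (c := M)
    (fun y hy => hMo y hy) (fun y hy => Set.mem_biUnion hy (hyM y hy))
  have heq : {s : S | r ≤ deg f s} ∩ U = ⋃ y ∈ t, ({s : S | r ≤ deg f s} ∩ M y) := by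
    ext s
    constructor
    · rintro ⟨hs, hsU⟩
      have hsr : s ∈ Set.range f := by
        by_contra hns
        have := deg_eq_zero_of_not_mem_range f hfin s hns
        simp only [Set.mem_setOf_eq] at hs
        omega
      obtain ⟨y, hy, hsy⟩ := Set.mem_iUnion₂.mp (hcover ⟨hsr, hsU⟩)
      exact Set.mem_iUnion₂.mpr ⟨y, hy, hs, hsy⟩
    · intro h
      obtain ⟨y, hy, hs, hsy⟩ := Set.mem_iUnion₂.mp h
      exact ⟨hs, hMU y (htK hy) hsy⟩
  rw [heq]
  exact htfin.isCompact_biUnion (fun y hy => hMc y (htK hy))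

theorem isRetrocompact_deg_eq (f : X ⟶ S) [Flat f]
    [LocallyOfFinitePresentation f] [IsSeparated f] [LocallyQuasiFinite f] [QuasiCompact f]
    (r : ℕ) : IsRetrocompact {s : S | deg f s = r} := by
  intro U hUc hUo
  have hfin : ∀ s, (f ⁻¹' {s}).Finite := fun s => Scheme.Hom.finite_preimage_singleton f s
  have h1 : IsCompact ({s : S | r ≤ deg f s} ∩ U) := isRetrocompact_le_deg r f hUc hUo
  have h2 : IsClosed {s : S | deg f s ≤ r} := isClosed_deg_le f hfin r
  have heq : {s : S | deg f s = r} ∩ U = {s : S | deg f s ≤ r} ∩ ({s : S | r ≤ deg f s} ∩ U) := by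
    ext s
    simp only [Set.mem_inter_iff, Set.mem_setOf_eq]
    constructor
    · rintro ⟨h, hU⟩; exact ⟨h.le, h.ge, hU⟩
    · rintro ⟨h, h', hU⟩; exact ⟨le_antisymm h h', hU⟩
  rw [heq]
  exact h1.inter_left h2

theorem s1448 (f : X ⟶ S) [Flat f] [LocallyOfFinitePresentation f] [IsSeparated f]
    [LocallyQuasiFinite f] [QuasiCompact f] :
    ∃ deg : ↑S → ℕ, (∀ r : ℕ, IsClosed {s : ↑S | deg s ≤ r}) ∧
      (∀ r : ℕ, IsRetrocompact {s : ↑S | deg s = r}) ∧
      ∀ (T : Scheme.{u}) (g : T ⟶ S) (r : ℕ),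
        Mor2.IsFinLocFreeOfDeg r (pullback.snd f g) ↔ ∀ t : T, deg (g t) = r := by
  have hfin : ∀ s, (f ⁻¹' {s}).Finite := fun s => Scheme.Hom.finite_preimage_singleton f s
  exact ⟨deg f, isClosed_deg_le f hfin, isRetrocompact_deg_eq f,
    fun T g r => isFinLocFreeOfDeg_iff f hfin g r⟩

end Groth.Agent.H1.WtRankI
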