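import Mathlib

open CategoryTheory CategoryTheory.Limits Opposite

universe u

namespace Groth.Agent.H1.YSE

variable {A : Type u} [SmallCategory A] [Abelian A]

lemma effectiveEpi_of_epi {X Y : A} (f : X ⟶ Y) [Epi f] : EffectiveEpi f := by
  haveI : IsRegularEpi f := IsRegularEpiCategory.regularEpiOfEpi f
  infer_instance

instance pY_additive : (preadditiveYoneda (C := A)).Additive where
  map_add := by
    intro X Y f g
    ext Z h
    exact Preadditive.comp_add _ _ _ h f g

/-- evaluation of `preadditiveYoneda` at `Z` is `preadditiveCoyoneda.obj Z`. -/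
def pYEvalIso (Z : Aᵒᵖ) :
    preadditiveCoyoneda.obj Z ≅
      preadditiveYoneda ⋙ (evaluation Aᵒᵖ AddCommGrpCat.{u}).obj Z :=
  NatIso.ofComponents (fun X => Iso.refl _) (by
    intro X Y f
    ext h
    rfl)

instance pY_preservesLimits : PreservesLimitsOfSize.{u, u} (preadditiveYoneda (C := A)) :=
  preservesLimits_of_evaluation _ fun Z => preservesLimits_of_natIso (pYEvalIso Z)

instance pY_preservesFiniteLimits : PreservesFiniteLimits (preadditiveYoneda (C := A)) :=
  PreservesLimitsOfSize.preservesFiniteLimits.{u, u} _

variable [Preregular A]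

lemma isSheaf_pY (X : A) :
    Presheaf.IsSheaf (regularTopology A) (preadditiveYoneda.obj X) := by
  rw [Presheaf.isSheaf_iff_isSheaf_forget (regularTopology A) _ (forget AddCommGrpCat.{u}),
    isSheaf_iff_isSheaf_of_type]
  exact regularTopology.isSheaf_yoneda_obj X

/-- The additive Yoneda embedding, with values in sheaves. -/
noncomputable def G : A ⥤ Sheaf (regularTopology A) AddCommGrpCat.{u} :=
  ObjectProperty.lift (Presheaf.IsSheaf (regularTopology A)) preadditiveYoneda isSheaf_pY

noncomputable def eG : G (A := A) ≅
    preadditiveYoneda ⋙ presheafToSheaf (regularTopology A) AddCommGrpCat.{u} :=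
  (Functor.rightUnitor _).symm ≪≫
    Functor.isoWhiskerLeft G (sheafificationNatIso (regularTopology A) AddCommGrpCat.{u}) ≪≫
    (Functor.associator _ _ _).symm

instance G_full : (G (A := A)).Full := by unfold G; infer_instance
instance G_faithful : (G (A := A)).Faithful := by unfold G; infer_instance

instance G_preservesFiniteLimits : PreservesFiniteLimits (G (A := A)) := by
  constructor
  intro K _ _
  haveI : PreservesLimitsOfShape K
      (G (A := A) ⋙ sheafToPresheaf (regularTopology A) AddCommGrpCat.{u}) :=
    (inferInstance : PreservesLimitsOfShape K (preadditiveYoneda (C := A)))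
  exact preservesLimitsOfShape_of_reflects_of_preserves G
    (sheafToPresheaf (regularTopology A) AddCommGrpCat.{u})

instance G_additive : (G (A := A)).Additive where
  map_add := by
    intro X Y f g
    apply Sheaf.hom_ext
    exact (preadditiveYoneda (C := A)).map_add

lemma isLocallySurjective_pY_map {Y X : A} (e : Y ⟶ X) [Epi e] :
    Presheaf.IsLocallySurjective (regularTopology A) (preadditiveYoneda.map e) where
  imageSieve_mem {U} s := by
    let s' : U ⟶ X := s
    haveI : Epi (pullback.fst s' e) := Abelian.epi_pullback_of_epi_g s' e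
    haveI := effectiveEpi_of_epi (pullback.fst s' e)
    refine regularTopology.mem_sieves_of_hasEffectiveEpi _
      ⟨pullback s' e, pullback.fst s' e, inferInstance, ?_⟩
    exact ⟨(pullback.snd s' e : _), pullback.condition.symm⟩

lemma epi_G_map {Y X : A} (e : Y ⟶ X) [Epi e] : Epi ((G (A := A)).map e) := by
  haveI : Sheaf.IsLocallySurjective ((G (A := A)).map e) := isLocallySurjective_pY_map e
  exact Sheaf.epi_of_isLocallySurjective _

instance G_preservesFiniteColimits : PreservesFiniteColimits (G (A := A)) := by
  have h : ∀ (S : ShortComplex A), S.ShortExact → (S.map (G (A := A))).ShortExact := by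
    intro S hS
    have h0 : PreservesFiniteLimits (G (A := A)) → ∀ S : ShortComplex A, S.ShortExact →
        (S.map (G (A := A))).Exact ∧ Mono ((G (A := A)).map S.f) :=
      ((Functor.preservesFiniteLimits_tfae (G (A := A))).out 3 0).mp
    have h1 := h0 inferInstance S hS
    haveI := hS.epi_g
    haveI : Mono (S.map (G (A := A))).f := h1.2
    haveI : Epi (S.map (G (A := A))).g := epi_G_map S.g
    exact { exact := h1.1 }
  have h2 : (∀ (S : ShortComplex A), S.ShortExact → (S.map (G (A := A))).ShortExact) →
      PreservesFiniteLimits (G (A := A)) ∧ PreservesFiniteColimits (G (A := A)) :=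
    ((Functor.exact_tfae (G (A := A))).out 0 3).mp
  exact (h2 h).2

theorem exactness :
    (preadditiveYoneda ⋙ presheafToSheaf (regularTopology A) AddCommGrpCat.{u}).Full ∧
    (preadditiveYoneda ⋙ presheafToSheaf (regularTopology A) AddCommGrpCat.{u}).Faithful ∧
    PreservesFiniteLimits
      (preadditiveYoneda ⋙ presheafToSheaf (regularTopology A) AddCommGrpCat.{u}) ∧
    PreservesFiniteColimits
      (preadditiveYoneda ⋙ presheafToSheaf (regularTopology A) AddCommGrpCat.{u}) :=
  ⟨Functor.Full.of_iso eG, Functor.Faithful.of_iso eG, preservesFiniteLimits_of_natIso eG,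
    preservesFiniteColimits_of_natIso eG⟩

/-! ### Points -/

/-- The exact fully faithful embedding into the opposite of the ind-completion of `Aᵒᵖ`. -/
noncomputable abbrev y : A ⥤ (Ind Aᵒᵖ)ᵒᵖ := (Ind.yoneda (C := Aᵒᵖ)).rightOp

instance y_preservesFiniteLimits : PreservesFiniteLimits (y (A := A)) := by
  apply preservesFiniteLimits_rightOp

instance y_preservesFiniteColimits : PreservesFiniteColimits (y (A := A)) := by
  apply preservesFiniteColimits_rightOp

/-- The fibre functor attached to `X`: maps out of a projective cover of `y X`. -/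
noncomputable def Φ (X : A) : A ⥤ Type u :=
  y ⋙ coyoneda.obj (op (Projective.over ((y (A := A)).obj X)))

instance Φ_preservesFiniteLimits (X : A) : PreservesFiniteLimits (Φ X) := by
  unfold Φ; infer_instance

lemma epi_y_map {W Z : A} (π : W ⟶ Z) [Epi π] : Epi ((y (A := A)).map π) := inferInstance

noncomputable def pt (X : A) : (regularTopology A).Point.{u} where
  fiber := Φ X
  isCofiltered := Functor.isCofiltered_elements _
  initiallySmall := initiallySmall_of_essentiallySmall _
  jointly_surjective {Z} R hR x := by
    obtain ⟨W, π, hπ, hRπ⟩ := (regularTopology.mem_sieves_iff_hasEffectiveEpi R).mp hR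
    haveI : Epi π := inferInstance
    haveI : Epi ((y (A := A)).map π) := epi_y_map π
    let x' : Projective.over ((y (A := A)).obj X) ⟶ (y (A := A)).obj Z := x
    exact ⟨W, π, hRπ, Projective.factorThru x' ((y (A := A)).map π),
      Projective.factorThru_comp x' ((y (A := A)).map π)⟩

/-- The family of points. -/
def P : ObjectProperty ((regularTopology A).Point.{u}) :=
  ObjectProperty.ofObj (fun X : A => pt X)

theorem hasEnoughPoints :
    GrothendieckTopology.HasEnoughPoints.{u} (regularTopology A) := by
  refine ⟨P, ?_, ?_⟩
  · unfold P; infer_instance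
  · apply ObjectProperty.IsConservativeFamilyOfPoints.mk'
    intro X S hS
    let Ψ : (P (A := A)).FullSubcategory := ⟨pt X, ObjectProperty.ofObj_apply _ X⟩
    obtain ⟨Y, g, hg, t, ht⟩ := hS Ψ (Projective.π ((y (A := A)).obj X))
    let t' : Projective.over ((y (A := A)).obj X) ⟶ (y (A := A)).obj Y := t
    have ht' : t' ≫ (y (A := A)).map g = Projective.π ((y (A := A)).obj X) := ht
    haveI : Epi ((y (A := A)).map g) := epi_of_epi_fac ht'
    haveI : Epi g := Functor.epi_of_epi_map (y (A := A)) inferInstance
    haveI := effectiveEpi_of_epi g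
    exact regularTopology.mem_sieves_of_hasEffectiveEpi S ⟨Y, g, inferInstance, hg⟩

end Groth.Agent.H1.YSE
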