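import Mathlib

open AlgebraicGeometry CategoryTheory Limits TopologicalSpace

universe u

namespace Groth.Agent.H1.ZMTIso

variable {X Y : Scheme.{u}}

lemma isIso_fromNormalization (f : X ⟶ Y) [QuasiCompact f] [QuasiSeparated f]
    (hO : ∀ U : Y.Opens, Function.Bijective (f.app U)) : IsIso f.fromNormalization := by
  rw [← MorphismProperty.isomorphisms.iff,
    IsZariskiLocalAtTarget.iff_of_iSup_eq_top (P := MorphismProperty.isomorphisms Scheme.{u}) _
    (iSup_affineOpens_eq_top _)]
  intro U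
  rw [MorphismProperty.isomorphisms.iff, isIso_morphismRestrict_iff_isIso_app _ U.2,
    f.fromNormalization_app U.2]
  letI := (f.app U.1).hom.toAlgebra
  have : IsIso (CommRingCat.ofHom
      (algebraMap Γ(Y, U.1) (integralClosure Γ(Y, U.1) Γ(X, f ⁻¹ᵁ U.1)))) := by
    rw [ConcreteCategory.isIso_iff_bijective]
    constructor
    · intro a b hab
      apply (hO U.1).1
      exact congrArg Subtype.val hab
    · intro s
      obtain ⟨a, ha⟩ := (hO U.1).2 s.1
      exact ⟨a, Subtype.ext ha⟩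
  exact IsIso.comp_isIso' this inferInstance

lemma quasiFiniteAt_of_isOpen_singleton (f : X ⟶ Y) [LocallyOfFiniteType f] (y : Y) (x' : X)
    (h : f x' = y) (x : ↥(f.fiber y)) (hx : f.fiberι y x = x')
    (ho : IsOpen ({x} : Set ↥(f.fiber y))) : f.QuasiFiniteAt x' := by
  subst h
  have : x = f.asFiber x' :=
    (f.fiberι _).isEmbedding.injective (by rw [f.fiberι_asFiber]; exact hx)
  subst this
  exact Scheme.Hom.quasiFiniteAt_iff_isOpen_singleton_asFiber.mpr ho

theorem s11565 (f : X ⟶ Y) [IsLocallyNoetherian Y] [IsSeparated f] [LocallyOfFiniteType f]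
    [QuasiCompact f] (hO : ∀ U : Y.Opens, Function.Bijective (f.app U)) :
    ∃ V : Y.Opens, IsIso (f ∣_ V) ∧
      ∀ y : Y, y ∉ (V : Set Y) → ∀ x : ↥(f.fiber y), ¬ IsOpen ({x} : Set ↥(f.fiber y)) := by
  haveI : IsIso f.fromNormalization := isIso_fromNormalization f hO
  obtain ⟨U, hU, hUW⟩ := Scheme.Hom.exists_isIso_morphismRestrict_toNormalization f
  have hfac : f.quasiFiniteLocus.ι ≫ f =
      (f.quasiFiniteLocus.ι ≫ f.toNormalization) ≫ f.fromNormalization := by
    rw [Category.assoc, f.toNormalization_fromNormalization]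
  have h1 : IsOpenImmersion (f.quasiFiniteLocus.ι ≫ f) := by rw [hfac]; infer_instance
  have hinj : Function.Injective f.fromNormalization :=
    f.fromNormalization.isOpenEmbedding.injective
  have hfx : ∀ x : X, f x = f.fromNormalization (f.toNormalization x) := by
    intro x
    have h : (f.toNormalization ≫ f.fromNormalization) x = f x := by
      rw [f.toNormalization_fromNormalization]
    rw [Scheme.Hom.comp_apply] at h
    exact h.symm
  have hW : f ⁻¹ᵁ (f.quasiFiniteLocus.ι ≫ f).opensRange = f.quasiFiniteLocus := by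
    ext x
    constructor
    · intro hx
      obtain ⟨w, hw⟩ : ∃ w, (f.quasiFiniteLocus.ι ≫ f) w = f x := hx
      have hw' : f w.1 = f x := hw
      rw [hfx, hfx x] at hw'
      have h2 := hinj hw'
      have hwU : w.1 ∈ (f.toNormalization ⁻¹ᵁ U).1 := by rw [hUW]; exact w.2
      have h3 : x ∈ (f.toNormalization ⁻¹ᵁ U).1 := by
        show f.toNormalization x ∈ U
        rw [← h2]; exact hwU
      rw [hUW] at h3
      exact h3
    · intro hx
      exact ⟨⟨x, hx⟩, rfl⟩
  refine ⟨(f.quasiFiniteLocus.ι ≫ f).opensRange, ?_, ?_⟩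
  · have h3 : IsOpenImmersion ((f ⁻¹ᵁ (f.quasiFiniteLocus.ι ≫ f).opensRange).ι ≫ f) := by
      have : (f ⁻¹ᵁ (f.quasiFiniteLocus.ι ≫ f).opensRange).ι =
          (X.isoOfEq hW).hom ≫ f.quasiFiniteLocus.ι := by simp
      rw [this, Category.assoc]; infer_instance
    have h4 : IsOpenImmersion (f ∣_ (f.quasiFiniteLocus.ι ≫ f).opensRange ≫
        (f.quasiFiniteLocus.ι ≫ f).opensRange.ι) := by rw [morphismRestrict_ι]; exact h3
    haveI : IsOpenImmersion (f ∣_ (f.quasiFiniteLocus.ι ≫ f).opensRange) :=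
      IsOpenImmersion.of_comp _ (f.quasiFiniteLocus.ι ≫ f).opensRange.ι
    rw [isIso_iff_isOpenImmersion_and_surjective]
    refine ⟨inferInstance, ⟨fun v => ?_⟩⟩
    obtain ⟨w, hw⟩ : ∃ w, (f.quasiFiniteLocus.ι ≫ f) w = v.1 := v.2
    have hwV : w.1 ∈ f ⁻¹ᵁ (f.quasiFiniteLocus.ι ≫ f).opensRange := by rw [hW]; exact w.2
    refine ⟨⟨w.1, hwV⟩, ?_⟩
    apply Subtype.ext
    exact (morphismRestrict_base_coe f _ ⟨w.1, hwV⟩).trans hw
  · intro y hy x ho
    have hxy : f (f.fiberι y x) = y := by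
      have : f.fiberι y x ∈ f ⁻¹' {y} := by
        rw [← f.range_fiberι y]; exact Set.mem_range_self x
      exact this
    have hq : f.QuasiFiniteAt (f.fiberι y x) :=
      quasiFiniteAt_of_isOpen_singleton f y _ hxy x rfl ho
    apply hy
    have : f.fiberι y x ∈ f ⁻¹ᵁ (f.quasiFiniteLocus.ι ≫ f).opensRange := by rw [hW]; exact hq
    have h5 : f (f.fiberι y x) ∈ (f.quasiFiniteLocus.ι ≫ f).opensRange := this
    rw [hxy] at h5
    exact h5

end Groth.Agent.H1.ZMTIso
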