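import Mathlib

open AlgebraicGeometry CategoryTheory CategoryTheory.Limits TopologicalSpace Topology IsLocalRing

universe u
namespace Groth.Agent.H1.ZRQc

section ZR
variable {K : Type*} [Field K]

/-- Quasi-compactness of the Zariski–Riemann space, in combinatorial form. -/
theorem exists_finite_subcover (C₀ : Set K) {J : Type*} (F : J → Finset K)
    (hcov : ∀ R : ValuationSubring K, C₀ ⊆ (R : Set K) → ∃ j, (↑(F j) : Set K) ⊆ R) :
    ∃ J₀ : Finset J, ∀ R : ValuationSubring K, C₀ ⊆ (R : Set K) →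
      ∃ j ∈ J₀, (↑(F j) : Set K) ⊆ R := by
  classical
  have hev : ∀ a : K, IsClopen {χ : K → Bool | χ a = true} := fun a =>
    (isClopen_discrete ({true} : Set Bool)).preimage (continuous_apply a)
  have himp3 : ∀ a b c : K,
      IsClosed {χ : K → Bool | χ a = true → χ b = true → χ c = true} := by
    intro a b c
    have hc : Continuous (fun χ : K → Bool => (χ a, χ b, χ c)) :=
      (continuous_apply a).prodMk ((continuous_apply b).prodMk (continuous_apply c))
    exact (isClosed_discrete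
      {t : Bool × Bool × Bool | t.1 = true → t.2.1 = true → t.2.2 = true}).preimage hc
  have himp2 : ∀ a c : K, IsClosed {χ : K → Bool | χ a = true → χ c = true} := by
    intro a c
    have hc : Continuous (fun χ : K → Bool => (χ a, χ c)) :=
      (continuous_apply a).prodMk (continuous_apply c)
    exact (isClosed_discrete {t : Bool × Bool | t.1 = true → t.2 = true}).preimage hc
  let S : Set (K → Bool) :=
    {χ | ∀ c ∈ C₀, χ c = true} ∩ ({χ | χ 0 = true} ∩ ({χ | χ 1 = true} ∩
      ({χ | ∀ a b, χ a = true → χ b = true → χ (a + b) = true} ∩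
      ({χ | ∀ a b, χ a = true → χ b = true → χ (a * b) = true} ∩
      ({χ | ∀ a, χ a = true → χ (-a) = true} ∩ {χ | ∀ a, χ a = true ∨ χ a⁻¹ = true})))))
  have hSclosed : IsClosed S := by
    refine IsClosed.inter ?_ (IsClosed.inter (hev 0).isClosed (IsClosed.inter (hev 1).isClosed
      (IsClosed.inter ?_ (IsClosed.inter ?_ (IsClosed.inter ?_ ?_)))))
    · simp only [Set.ofPred_forall]
      exact isClosed_iInter fun c => isClosed_iInter fun _ => (hev c).isClosed
    · simp only [Set.ofPred_forall]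
      exact isClosed_iInter fun a => isClosed_iInter fun b => himp3 a b (a + b)
    · simp only [Set.ofPred_forall]
      exact isClosed_iInter fun a => isClosed_iInter fun b => himp3 a b (a * b)
    · simp only [Set.ofPred_forall]
      exact isClosed_iInter fun a => himp2 a (-a)
    · simp only [Set.ofPred_forall, Set.ofPred_or]
      exact isClosed_iInter fun a => (hev a).isClosed.union (hev a⁻¹).isClosed
  have hScompact : IsCompact S := hSclosed.isCompact
  let U : J → Set (K → Bool) := fun j => {χ | ∀ a ∈ F j, χ a = true}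
  have hUopen : ∀ j, IsOpen (U j) := by
    intro j
    have : U j = ⋂ a ∈ F j, {χ : K → Bool | χ a = true} := by
      ext χ; simp [U]
    rw [this]
    exact isOpen_biInter_finset fun a _ => (hev a).isOpen
  have hSU : S ⊆ ⋃ j, U j := by
    intro χ hχ
    obtain ⟨h1, h2, h3, h4, h5, h6, h7⟩ := hχ
    let R : ValuationSubring K :=
      { carrier := {a | χ a = true}
        mul_mem' := fun {a b} ha hb => h5 a b ha hb
        one_mem' := h3
        add_mem' := fun {a b} ha hb => h4 a b ha hb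
        zero_mem' := h2
        neg_mem' := fun {a} ha => h6 a ha
        mem_or_inv_mem' := fun a => h7 a }
    obtain ⟨j, hj⟩ := hcov R (fun c hc => h1 c hc)
    exact Set.mem_iUnion.mpr ⟨j, fun a ha => hj (Finset.mem_coe.mpr ha)⟩
  obtain ⟨t, ht⟩ := hScompact.elim_finite_subcover U hUopen hSU
  refine ⟨t, fun R hR => ?_⟩
  let χ : K → Bool := fun a => decide (a ∈ R)
  have hχ : χ ∈ S := by
    refine ⟨fun c hc => by simpa [χ] using hR hc, by simp [χ], by simp [χ], ?_, ?_, ?_, ?_⟩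
    · intro a b ha hb
      simp only [χ, decide_eq_true_eq] at ha hb ⊢
      exact R.add_mem _ _ ha hb
    · intro a b ha hb
      simp only [χ, decide_eq_true_eq] at ha hb ⊢
      exact R.mul_mem _ _ ha hb
    · intro a ha
      simp only [χ, decide_eq_true_eq] at ha ⊢
      exact R.neg_mem _ ha
    · intro a
      simp only [χ, decide_eq_true_eq]
      exact R.mem_or_inv_mem a
  obtain ⟨j, hjt, hj⟩ : ∃ j ∈ t, χ ∈ U j := by
    have := ht hχ
    simpa only [Set.mem_iUnion, exists_prop] using this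
  refine ⟨j, hjt, fun a ha => ?_⟩
  have := hj a (Finset.mem_coe.mp ha)
  simpa [χ] using this

end ZR

section Sch
variable {X Y : Scheme.{u}} (f : X ⟶ Y)

/-- the map Γ(Y,V) → κ(ξ). -/
noncomputable def cK (V : Y.Opens) (ξ : X) (hξ : f ξ ∈ V) : Γ(Y, V) ⟶ X.residueField ξ :=
  f.app V ≫ X.presheaf.germ (f ⁻¹ᵁ V) ξ hξ ≫ X.residue ξ

/-- the map Γ(X,W) → κ(ξ). -/
noncomputable def bK (W : X.Opens) (ξ : X) (hξ : ξ ∈ W) : Γ(X, W) ⟶ X.residueField ξ :=
  X.presheaf.germ W ξ hξ ≫ X.residue ξ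

lemma appLE_bK (V : Y.Opens) (W : X.Opens) (e : W ≤ f ⁻¹ᵁ V) (ξ : X) (hξ : ξ ∈ W) :
    f.appLE V W e ≫ bK W ξ hξ = cK f V ξ (e hξ) := by
  simp only [bK, cK, Scheme.Hom.appLE, Category.assoc, TopCat.Presheaf.germ_res_assoc]

lemma bK_fromSpec (W : X.Opens) (hW : IsAffineOpen W) (ξ : X) (hξ : ξ ∈ W) :
    Spec.map (bK W ξ hξ) ≫ hW.fromSpec = X.fromSpecResidueField ξ := by
  rw [bK, Spec.map_comp, Category.assoc, Scheme.fromSpecResidueField,
    ← hW.fromSpecStalk_eq_fromSpecStalk hξ, IsAffineOpen.fromSpecStalk]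

lemma comm_sq (V : Y.Opens) (hV : IsAffineOpen V) (ξ : X) (hξ : f ξ ∈ V) :
    X.fromSpecResidueField ξ ≫ f = Spec.map (cK f V ξ hξ) ≫ hV.fromSpec := by
  rw [Scheme.fromSpecResidueField, Category.assoc, ← Scheme.SpecMap_stalkMap_fromSpecStalk,
    ← hV.fromSpecStalk_eq_fromSpecStalk hξ, IsAffineOpen.fromSpecStalk]
  simp only [← Spec.map_comp_assoc]
  congr 2
  rw [cK, Scheme.Hom.germ_stalkMap, Category.assoc]

/-- the codomain restriction of `cK` to a valuation subring. -/
noncomputable def cR (V : Y.Opens) (ξ : X) (hξ : f ξ ∈ V)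
    (R : ValuationSubring (X.residueField ξ)) (hR : ∀ c, (cK f V ξ hξ).hom c ∈ R) :
    Γ(Y, V) ⟶ CommRingCat.of R :=
  CommRingCat.ofHom ((cK f V ξ hξ).hom.codRestrict R.toSubring hR)

/-- the inclusion of a valuation subring of κ(ξ). -/
noncomputable def algK {ξ : X} (R : ValuationSubring (X.residueField ξ)) :
    CommRingCat.of R ⟶ X.residueField ξ :=
  CommRingCat.ofHom (algebraMap R (X.residueField ξ))

lemma cR_algK (V : Y.Opens) (ξ : X) (hξ : f ξ ∈ V)
    (R : ValuationSubring (X.residueField ξ)) (hR : ∀ c, (cK f V ξ hξ).hom c ∈ R) :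
    cR f V ξ hξ R hR ≫ algK R = cK f V ξ hξ := by
  ext c; rfl

lemma sq_w (V : Y.Opens) (hV : IsAffineOpen V) (ξ : X) (hξ : f ξ ∈ V)
    (R : ValuationSubring (X.residueField ξ)) (hR : ∀ c, (cK f V ξ hξ).hom c ∈ R) :
    X.fromSpecResidueField ξ ≫ f =
      Spec.map (CommRingCat.ofHom (algebraMap R (X.residueField ξ))) ≫
        Spec.map (cR f V ξ hξ R hR) ≫ hV.fromSpec := by
  rw [comm_sq f V hV ξ hξ, ← Spec.map_comp_assoc]
  congr 2

set_option backward.isDefEq.respectTransparency.types false in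
/-- the valuative square attached to a valuation subring of κ(ξ) containing the image of Γ(Y,V). -/
noncomputable def sq (V : Y.Opens) (hV : IsAffineOpen V) (ξ : X) (hξ : f ξ ∈ V)
    (R : ValuationSubring (X.residueField ξ)) (hR : ∀ c, (cK f V ξ hξ).hom c ∈ R) :
    ValuativeCommSq f :=
  { R := R, K := X.residueField ξ, commSq := ⟨sq_w f V hV ξ hξ R hR⟩, .. }

section Lifts
variable {f} {V : Y.Opens} {hV : IsAffineOpen V} {ξ : X} {hξ : f ξ ∈ V}
  {R : ValuationSubring (X.residueField ξ)} {hR : ∀ c, (cK f V ξ hξ).hom c ∈ R}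

set_option backward.isDefEq.respectTransparency.types false in
/-- the underlying morphism of a lift, with a readable type. -/
noncomputable def liftHom (l : (sq f V hV ξ hξ R hR).commSq.LiftStruct) :
    Spec (CommRingCat.of R) ⟶ X := l.l

set_option backward.isDefEq.respectTransparency.types false in
lemma fac_left' (l : (sq f V hV ξ hξ R hR).commSq.LiftStruct) :
    Spec.map (algK R) ≫ liftHom l = X.fromSpecResidueField ξ := l.fac_left

set_option backward.isDefEq.respectTransparency.types false in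
lemma fac_right' (l : (sq f V hV ξ hξ R hR).commSq.LiftStruct) :
    liftHom l ≫ f = Spec.map (cR f V ξ hξ R hR) ≫ hV.fromSpec := l.fac_right

set_option backward.isDefEq.respectTransparency.types false in
/-- build a lift from its data. -/
noncomputable def mkLift (l : Spec (CommRingCat.of R) ⟶ X)
    (h1 : Spec.map (algK R) ≫ l = X.fromSpecResidueField ξ)
    (h2 : l ≫ f = Spec.map (cR f V ξ hξ R hR) ≫ hV.fromSpec) :
    (sq f V hV ξ hξ R hR).commSq.LiftStruct :=
  ⟨l, h1, h2⟩

set_option backward.isDefEq.respectTransparency.types false in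
lemma liftHom_mkLift (l : Spec (CommRingCat.of R) ⟶ X)
    (h1 : Spec.map (algK R) ≫ l = X.fromSpecResidueField ξ)
    (h2 : l ≫ f = Spec.map (cR f V ξ hξ R hR) ≫ hV.fromSpec) :
    liftHom (mkLift (hV := hV) l h1 h2) = l := rfl

end Lifts

section Main
variable (V : Y.Opens) (hV : IsAffineOpen V) (ξ : X) (hξ : f ξ ∈ V)
  (R : ValuationSubring (X.residueField ξ)) (hR : ∀ c, (cK f V ξ hξ).hom c ∈ R)

/-- the closed point of `Spec R`. -/
noncomputable def cp : Spec (CommRingCat.of R) := closedPoint R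

lemma specializes_cp (p : Spec (CommRingCat.of R)) : p ⤳ cp ξ R :=
  specializes_closedPoint (R := R) p

lemma lift_generic (l : (sq f V hV ξ hξ R hR).commSq.LiftStruct)
    (p : Spec (X.residueField ξ)) : liftHom l (Spec.map (algK R) p) = ξ := by
  have h2 : (Spec.map (algK R) ≫ liftHom l) p = X.fromSpecResidueField ξ p := by
    rw [fac_left' l]
  exact h2.trans (X.fromSpecResidueField_apply ξ _)

lemma lift_mem_of_closedPoint_mem (l : (sq f V hV ξ hξ R hR).commSq.LiftStruct)
    (W : X.Opens) (hxW : liftHom l (cp ξ R) ∈ W) (p : Spec (CommRingCat.of R)) :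
    liftHom l p ∈ W :=
  ((specializes_cp ξ R p).map (liftHom l).continuous).mem_open W.isOpen hxW

lemma lift_closedPoint_mem (l : (sq f V hV ξ hξ R hR).commSq.LiftStruct) :
    liftHom l (cp ξ R) ∈ closure ({ξ} : Set X) ∩ (f ⁻¹ᵁ V : Set X) := by
  obtain ⟨p⟩ : Nonempty (Spec (X.residueField ξ)) := inferInstance
  constructor
  · have h1 := lift_generic f V hV ξ hξ R hR l p
    have h2 : liftHom l (Spec.map (algK R) p) ⤳ liftHom l (cp ξ R) :=
      (specializes_cp ξ R _).map (liftHom l).continuous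
    rw [h1] at h2
    exact h2.mem_closure
  · show f (liftHom l (cp ξ R)) ∈ V
    have h3 : (liftHom l ≫ f) (cp ξ R) =
        (Spec.map (cR f V ξ hξ R hR) ≫ hV.fromSpec) (cp ξ R) := by rw [fac_right' l]
    have h4 : f (liftHom l (cp ξ R)) = hV.fromSpec (Spec.map (cR f V ξ hξ R hR) (cp ξ R)) := h3
    rw [h4]
    have : hV.fromSpec (Spec.map (cR f V ξ hξ R hR) (cp ξ R)) ∈ Set.range hV.fromSpec :=
      ⟨_, rfl⟩
    rwa [hV.range_fromSpec] at this

lemma exists_good [LocallyOfFiniteType f] (l : (sq f V hV ξ hξ R hR).commSq.LiftStruct)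
    (W : X.Opens) (hW : IsAffineOpen W) (hxW : liftHom l (cp ξ R) ∈ W) (e : W ≤ f ⁻¹ᵁ V) :
    ∃ F : Finset (X.residueField ξ), (↑F : Set (X.residueField ξ)) ⊆ R ∧
      ∀ (R' : ValuationSubring (X.residueField ξ)) (hR' : ∀ c, (cK f V ξ hξ).hom c ∈ R'),
        (↑F : Set (X.residueField ξ)) ⊆ R' →
        ∃ l' : (sq f V hV ξ hξ R' hR').commSq.LiftStruct, liftHom l' (cp ξ R') ∈ W := by
  classical
  have hgen := lift_mem_of_closedPoint_mem f V hV ξ hξ R hR l W hxW
  obtain ⟨p0⟩ : Nonempty (Spec (X.residueField ξ)) := inferInstance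
  have hξW : ξ ∈ W := by
    have := hgen (Spec.map (algK R) p0)
    rwa [lift_generic f V hV ξ hξ R hR l] at this
  have hrange : Set.range (liftHom l) ⊆ Set.range hW.fromSpec := by
    rw [hW.range_fromSpec]; rintro _ ⟨p, rfl⟩; exact hgen p
  obtain ⟨lam, hlam⟩ := Spec.map_surjective (IsOpenImmersion.lift hW.fromSpec (liftHom l) hrange)
  have hlam' : Spec.map lam ≫ hW.fromSpec = liftHom l := by
    rw [hlam, IsOpenImmersion.lift_fac]
  have hβ : lam ≫ algK R = bK W ξ hξW := by
    apply Spec.map_injective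
    rw [← cancel_mono hW.fromSpec, Spec.map_comp, Category.assoc, hlam', fac_left' l,
      bK_fromSpec W hW ξ hξW]
  have hft := f.finiteType_appLE hV hW e
  letI alg : Algebra Γ(Y, V) Γ(X, W) := (f.appLE V W e).hom.toAlgebra
  obtain ⟨s, hs⟩ := (hft : Algebra.FiniteType Γ(Y, V) Γ(X, W)).out
  refine ⟨s.image (bK W ξ hξW).hom, ?_, ?_⟩
  · intro a ha
    obtain ⟨b, hb, rfl⟩ := Finset.mem_image.mp (Finset.mem_coe.mp ha)
    have : (bK W ξ hξW).hom b = ((lam.hom b : R) : X.residueField ξ) := by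
      rw [← hβ]; rfl
    rw [this]; exact (lam.hom b).2
  · intro R' hR' hF'
    have hb' : ∀ b : Γ(X, W), (bK W ξ hξW).hom b ∈ R' := by
      intro b
      have hbmem : b ∈ Algebra.adjoin Γ(Y, V) (↑s : Set Γ(X, W)) := by rw [hs]; trivial
      induction hbmem using Algebra.adjoin_induction with
      | mem x hx => exact hF' (Finset.mem_coe.mpr (Finset.mem_image_of_mem _ hx))
      | algebraMap r =>
        have : (bK W ξ hξW).hom (algebraMap Γ(Y, V) Γ(X, W) r) = (cK f V ξ hξ).hom r := by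
          rw [← appLE_bK f V W e ξ hξW]; rfl
        rw [this]; exact hR' r
      | add x y _ _ hx hy => rw [map_add]; exact R'.add_mem _ _ hx hy
      | mul x y _ _ hx hy => rw [map_mul]; exact R'.mul_mem _ _ hx hy
    let lam' : Γ(X, W) ⟶ CommRingCat.of R' :=
      CommRingCat.ofHom ((bK W ξ hξW).hom.codRestrict R'.toSubring hb')
    have h1 : lam' ≫ algK R' = bK W ξ hξW := by ext b; rfl
    have h2 : f.appLE V W e ≫ lam' = cR f V ξ hξ R' hR' := by
      ext c
      show (bK W ξ hξW).hom ((f.appLE V W e).hom c) = (cK f V ξ hξ).hom c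
      rw [← appLE_bK f V W e ξ hξW]; rfl
    refine ⟨mkLift (hV := hV) (Spec.map lam' ≫ hW.fromSpec) ?_ ?_, ?_⟩
    · rw [← Spec.map_comp_assoc, h1, bK_fromSpec W hW ξ hξW]
    · rw [Category.assoc, ← IsAffineOpen.SpecMap_appLE_fromSpec f hV hW e,
        ← Spec.map_comp_assoc, h2]
    · rw [liftHom_mkLift]
      have : hW.fromSpec (Spec.map lam' (cp ξ R')) ∈ Set.range hW.fromSpec := ⟨_, rfl⟩
      rw [hW.range_fromSpec] at this
      exact this

lemma exists_dominating (x : X) (hx : x ∈ closure ({ξ} : Set X)) (hxV : f x ∈ V) :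
    ∃ (R : ValuationSubring (X.residueField ξ)) (hR : ∀ c, (cK f V ξ hξ).hom c ∈ R)
      (l₀ : (sq f V hV ξ hξ R hR).commSq.LiftStruct), liftHom l₀ (cp ξ R) = x := by
  have h : ξ ⤳ x := specializes_iff_mem_closure.mpr hx
  let φ₀ : X.presheaf.stalk x ⟶ X.residueField ξ := X.presheaf.stalkSpecializes h ≫ X.residue ξ
  obtain ⟨R, hA, hloc⟩ := exists_factor_valuationRing φ₀.hom
  have hcK : cK f V ξ hξ = f.app V ≫ X.presheaf.germ (f ⁻¹ᵁ V) x hxV ≫ φ₀ := by
    simp only [cK, φ₀]
    rw [TopCat.Presheaf.germ_stalkSpecializes_assoc]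
  have hR : ∀ c, (cK f V ξ hξ).hom c ∈ R := by
    intro c; rw [hcK]; exact hA _
  let ρ : X.presheaf.stalk x ⟶ CommRingCat.of R :=
    CommRingCat.ofHom (φ₀.hom.codRestrict R.toSubring hA)
  have hρ : ρ ≫ algK R = φ₀ := by ext; rfl
  have e1 : Y.presheaf.germ V (f x) hxV ≫ f.stalkMap x ≫ ρ = cR f V ξ hξ R hR := by
    rw [← Category.assoc, Scheme.Hom.germ_stalkMap]
    ext c
    have := congrArg (fun g => g.hom c) hcK
    exact this.symm
  refine ⟨R, hR, mkLift (hV := hV) (Spec.map ρ ≫ X.fromSpecStalk x) ?_ ?_, ?_⟩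
  · rw [← Spec.map_comp_assoc, hρ]
    simp only [φ₀, Spec.map_comp, Category.assoc, Scheme.SpecMap_stalkSpecializes_fromSpecStalk]
    rfl
  · rw [Category.assoc, ← Scheme.SpecMap_stalkMap_fromSpecStalk,
      ← hV.fromSpecStalk_eq_fromSpecStalk hxV, IsAffineOpen.fromSpecStalk]
    simp only [← Spec.map_comp_assoc]
    rw [← e1]
    simp only [Category.assoc]
  · rw [liftHom_mkLift]
    have : Spec.map ρ (cp ξ R) = closedPoint (X.presheaf.stalk x) :=
      comap_closedPoint (S := R) (φ₀.hom.codRestrict R.toSubring hA)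
    show X.fromSpecStalk x (Spec.map ρ (cp ξ R)) = x
    rw [this, X.fromSpecStalk_closedPoint]

include hV hξ in
theorem isCompact_closure_inter [LocallyOfFiniteType f] (hf : ValuativeCriterion f) :
    IsCompact (closure ({ξ} : Set X) ∩ (f ⁻¹ᵁ V : Set X)) := by
  classical
  apply isCompact_of_finite_subcover
  intro ι U hUo hcov
  let Good : ι → Finset (X.residueField ξ) → Prop := fun j F =>
    ∀ (R' : ValuationSubring (X.residueField ξ)) (hR' : ∀ c, (cK f V ξ hξ).hom c ∈ R'),
      (↑F : Set (X.residueField ξ)) ⊆ R' →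
      ∃ l' : (sq f V hV ξ hξ R' hR').commSq.LiftStruct, liftHom l' (cp ξ R') ∈ U j
  obtain ⟨J₀, hJ₀⟩ := exists_finite_subcover (K := X.residueField ξ)
    (Set.range (cK f V ξ hξ).hom) (J := {p : ι × Finset (X.residueField ξ) // Good p.1 p.2})
    (fun p => p.1.2) (by
      intro R hR0
      have hR : ∀ c, (cK f V ξ hξ).hom c ∈ R := fun c => hR0 ⟨c, rfl⟩
      obtain ⟨l⟩ := (hf.existence (sq f V hV ξ hξ R hR)).exists_lift
      have hmem := lift_closedPoint_mem f V hV ξ hξ R hR l
      obtain ⟨j, hj⟩ := Set.mem_iUnion.mp (hcov hmem)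
      obtain ⟨_, ⟨W, hW, rfl⟩, hxW, hWsub⟩ := X.isBasis_affineOpens.exists_subset_of_mem_open
        (show liftHom l (cp ξ R) ∈ U j ∩ (f ⁻¹ᵁ V : Set X) from ⟨hj, hmem.2⟩)
        ((hUo j).inter (f ⁻¹ᵁ V).isOpen)
      obtain ⟨F, hFR, hFgood⟩ := exists_good f V hV ξ hξ R hR l W hW hxW
        (fun z hz => (hWsub hz).2)
      refine ⟨⟨(j, F), ?_⟩, hFR⟩
      intro R' hR' hF'
      obtain ⟨l', hl'⟩ := hFgood R' hR' hF'
      exact ⟨l', (hWsub hl').1⟩)
  refine ⟨J₀.image (fun p => p.1.1), ?_⟩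
  intro x hx
  obtain ⟨R, hR, l₀, hl₀⟩ := exists_dominating f V hV ξ hξ x hx.1 hx.2
  obtain ⟨p, hp, hpR⟩ := hJ₀ R (by rintro _ ⟨c, rfl⟩; exact hR c)
  obtain ⟨l, hl⟩ := p.2 R hR hpR
  haveI := hf.uniqueness (sq f V hV ξ hξ R hR)
  have : l = l₀ := Subsingleton.elim _ _
  rw [this, hl₀] at hl
  exact Set.mem_iUnion₂.mpr ⟨p.1.1, Finset.mem_image_of_mem _ hp, hl⟩

end Main

theorem main (f : X ⟶ Y) [LocallyOfFinitePresentation f] (hf : ValuativeCriterion f)
    (hX : (irreducibleComponents ↥X).Finite) : QuasiCompact f := by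
  rw [quasiCompact_iff_forall_isAffineOpen]
  intro V hV
  have hcov : (f ⁻¹ᵁ V : Set X) =
      ⋃ Z ∈ irreducibleComponents ↥X, (Z ∩ (f ⁻¹ᵁ V : Set X)) := by
    ext x
    simp only [Set.mem_iUnion, Set.mem_inter_iff, exists_prop]
    constructor
    · intro hx
      exact ⟨irreducibleComponent x, irreducibleComponent_mem_irreducibleComponents x,
        mem_irreducibleComponent, hx⟩
    · rintro ⟨Z, -, -, hx⟩; exact hx
  rw [hcov]
  apply hX.isCompact_biUnion
  intro Z hZ
  obtain ⟨ξ, hξ⟩ := QuasiSober.sober hZ.1 (isClosed_of_mem_irreducibleComponents Z hZ)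
  rw [← hξ.def]
  by_cases h : f ξ ∈ V
  · exact isCompact_closure_inter f V hV ξ h hf
  · convert isCompact_empty
    rw [Set.eq_empty_iff_forall_notMem]
    rintro x ⟨hx1, hx2⟩
    exact h ((specializes_iff_mem_closure.mpr hx1).mem_open (f ⁻¹ᵁ V).isOpen hx2)

end Sch

end Groth.Agent.H1.ZRQc
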